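import Mathlib

/-!
Helper lemmas (helper5): conjugation of subgroups in the `map (MulAut.conj g).toMonoidHom` form,
and Sylow's theorems in elementwise form.
-/

set_option autoImplicit false

namespace Cfsg.Agent.Helper5

open scoped Pointwise

variable {G : Type*} [Group G]

theorem mem_map_conj_iff (H : Subgroup G) (g y : G) :
    y ∈ H.map (MulAut.conj g).toMonoidHom ↔ g⁻¹ * y * g ∈ H := by
  constructor
  · rintro ⟨x, hx, rfl⟩
    simpa [mul_assoc] using hx
  · intro h
    refine ⟨g⁻¹ * y * g, h, ?_⟩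
    simp [mul_assoc]

theorem conj_mem_map_conj (H : Subgroup G) (g x : G) (hx : x ∈ H) :
    g * x * g⁻¹ ∈ H.map (MulAut.conj g).toMonoidHom :=
  ⟨x, hx, by simp⟩

theorem map_conj_eq_smul (H : Subgroup G) (g : G) :
    H.map (MulAut.conj g).toMonoidHom = MulAut.conj g • H := rfl

theorem map_conj_map_conj (X : Subgroup G) (a g : G) :
    (X.map (MulAut.conj g).toMonoidHom).map (MulAut.conj a).toMonoidHom =
      X.map (MulAut.conj (a * g)).toMonoidHom := by
  rw [Subgroup.map_map]
  congr 1
  ext x
  simp [mul_assoc]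

theorem map_conj_one (X : Subgroup G) : X.map (MulAut.conj (1 : G)).toMonoidHom = X := by
  ext y; rw [mem_map_conj_iff]; simp

theorem map_conj_le_iff (H K : Subgroup G) (g : G) :
    H.map (MulAut.conj g).toMonoidHom ≤ K ↔ ∀ x ∈ H, g * x * g⁻¹ ∈ K := by
  constructor
  · intro h x hx; exact h (conj_mem_map_conj H g x hx)
  · rintro h _ ⟨x, hx, rfl⟩; simpa using h x hx

theorem map_conj_eq_self_of_mem (H : Subgroup G) (g : G) (hg : g ∈ H) :
    H.map (MulAut.conj g).toMonoidHom = H := by
  ext y
  rw [mem_map_conj_iff]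
  constructor
  · intro h
    have := H.mul_mem (H.mul_mem hg h) (H.inv_mem hg)
    simpa [mul_assoc] using this
  · intro h
    exact H.mul_mem (H.mul_mem (H.inv_mem hg) h) hg

theorem mem_normalizer_iff_map_conj (H : Subgroup G) (g : G) :
    g ∈ Subgroup.normalizer (H : Set G) ↔ H.map (MulAut.conj g).toMonoidHom = H := by
  rw [Subgroup.mem_normalizer_iff]
  constructor
  · intro h
    ext y
    rw [mem_map_conj_iff]
    have := h (g⁻¹ * y * g)
    simp only [mul_assoc, mul_inv_cancel_left, mul_inv_cancel, mul_one] at this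
    rw [mul_assoc]; exact this
  · intro h x
    constructor
    · intro hx
      rw [← h]
      exact conj_mem_map_conj H g x hx
    · intro hx
      rw [← h, mem_map_conj_iff] at hx
      simpa [mul_assoc] using hx

/-- Elementwise Sylow: every `p`-subgroup is conjugate into a given Sylow `p`-subgroup. -/
theorem exists_conj_le_sylow [Finite G] {p : ℕ} [Fact p.Prime] (S : Sylow p G) (Q : Subgroup G)
    (hQ : IsPGroup p Q) : ∃ k : G, ∀ x ∈ Q, k * x * k⁻¹ ∈ (S : Subgroup G) := by
  obtain ⟨R, hR⟩ := hQ.exists_le_sylow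
  obtain ⟨k, hk⟩ := MulAction.exists_smul_eq G R S
  refine ⟨k, fun x hx => ?_⟩
  have hxR : x ∈ (R : Subgroup G) := hR hx
  have : k * x * k⁻¹ ∈ ((k • R : Sylow p G) : Subgroup G) := by
    rw [Sylow.coe_subgroup_smul]
    have := Subgroup.smul_mem_pointwise_smul x (MulAut.conj k) (R : Subgroup G) hxR
    simpa [MulAut.smul_def] using this
  rw [hk] at this
  exact this

/-- Two Sylow subgroups are conjugate, `map conj` form. -/
theorem sylow_exists_map_conj_eq [Finite G] {p : ℕ} [Fact p.Prime] (S T : Sylow p G) :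
    ∃ k : G, (S : Subgroup G).map (MulAut.conj k).toMonoidHom = (T : Subgroup G) := by
  obtain ⟨k, hk⟩ := MulAction.exists_smul_eq G S T
  refine ⟨k, ?_⟩
  rw [← hk, Sylow.coe_subgroup_smul]
  rfl

end Cfsg.Agent.Helper5
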