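import Mathlib
import Cfsg.Prelude.Def_Transfer
import Cfsg.Agent.Helper5.Basic

/-!
Helper lemmas (helper5) on `Cfsg.pResidual p G = O^p(G)`, the subgroup generated by the `p'`-elements.
-/

set_option autoImplicit false

namespace Cfsg.Agent.Helper5

variable {G : Type*} [Group G]

theorem pResidual_characteristic (p : ℕ) : (Cfsg.pResidual p G).Characteristic := by
  rw [Subgroup.characteristic_iff_map_le]
  intro φ
  unfold Cfsg.pResidual
  rw [MonoidHom.map_closure, Subgroup.closure_le]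
  rintro _ ⟨g, hg, rfl⟩
  apply Subgroup.subset_closure
  simp only [Set.mem_setOf_eq, MulEquiv.coe_toMonoidHom] at hg ⊢
  rw [MulEquiv.orderOf_eq]; exact hg

instance pResidual_normal (p : ℕ) : (Cfsg.pResidual p G).Normal :=
  haveI := pResidual_characteristic (G := G) p
  Subgroup.normal_of_characteristic _

theorem mem_pResidual_of_coprime {p : ℕ} {g : G} (hg : (orderOf g).Coprime p) :
    g ∈ Cfsg.pResidual p G :=
  Subgroup.subset_closure hg

/-- `G / O^p(G)` is a `p`-group (finite `G`). -/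
theorem isPGroup_quotient_pResidual [Finite G] (p : ℕ) [Fact p.Prime] :
    IsPGroup p (G ⧸ Cfsg.pResidual p G) := by
  intro x
  obtain ⟨g, rfl⟩ := QuotientGroup.mk_surjective x
  have hpos : orderOf g ≠ 0 := (orderOf_pos g).ne'
  obtain ⟨e, m, hm, hgm⟩ := Nat.exists_eq_pow_mul_and_not_dvd hpos p (Fact.out : p.Prime).one_lt.ne'
  refine ⟨e, ?_⟩
  rw [← QuotientGroup.mk_pow, QuotientGroup.eq_one_iff]
  apply mem_pResidual_of_coprime
  rw [orderOf_pow, hgm]
  have hpe : 0 < p ^ e := pow_pos (Fact.out : p.Prime).pos e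
  have : Nat.gcd (p ^ e * m) (p ^ e) = p ^ e := Nat.gcd_eq_right (dvd_mul_right _ _)
  rw [this, Nat.mul_div_cancel_left m hpe]
  exact ((Fact.out : p.Prime).coprime_iff_not_dvd.mpr hm).symm

/-- `O^p(G)` has `p`-power index. -/
theorem index_pResidual [Finite G] (p : ℕ) [Fact p.Prime] :
    ∃ n : ℕ, (Cfsg.pResidual p G).index = p ^ n := by
  have h := isPGroup_quotient_pResidual (G := G) p
  obtain ⟨n, hn⟩ := IsPGroup.iff_card.mp h
  exact ⟨n, by rw [Subgroup.index_eq_card]; exact hn⟩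

/-- `G = O^p(G) · P` for a Sylow `p`-subgroup `P`. -/
theorem pResidual_sup_sylow [Finite G] {p : ℕ} [Fact p.Prime] (P : Sylow p G) :
    Cfsg.pResidual p G ⊔ (P : Subgroup G) = ⊤ := by
  rw [← Subgroup.index_eq_one]
  obtain ⟨n, hn⟩ := index_pResidual (G := G) p
  have h1 : (Cfsg.pResidual p G ⊔ (P : Subgroup G)).index ∣ p ^ n :=
    hn ▸ Subgroup.index_dvd_of_le le_sup_left
  have h2 : (Cfsg.pResidual p G ⊔ (P : Subgroup G)).index ∣ (P : Subgroup G).index :=
    Subgroup.index_dvd_of_le le_sup_right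
  obtain ⟨k, -, hk⟩ := (Nat.dvd_prime_pow (Fact.out : p.Prime)).mp h1
  rcases Nat.eq_zero_or_pos k with hk0 | hk0
  · rw [hk, hk0, pow_zero]
  · exfalso
    apply P.not_dvd_index
    refine dvd_trans ?_ h2
    rw [hk]
    exact dvd_pow_self p hk0.ne'

/-- The image in `G` of `O^p(N)` for a subgroup `N`. -/
theorem map_subtype_pResidual (p : ℕ) (N : Subgroup G) :
    (Cfsg.pResidual p N).map N.subtype =
      Subgroup.closure {g : G | g ∈ N ∧ (orderOf g).Coprime p} := by
  unfold Cfsg.pResidual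
  rw [MonoidHom.map_closure]
  congr 1
  ext g
  constructor
  · rintro ⟨y, hy, rfl⟩
    simp only [Set.mem_setOf_eq] at hy ⊢
    refine ⟨y.2, ?_⟩
    rw [Subgroup.coe_subtype, Subgroup.orderOf_coe]; exact hy
  · rintro ⟨hgN, hg⟩
    refine ⟨⟨g, hgN⟩, ?_, rfl⟩
    simp only [Set.mem_setOf_eq]
    rw [Subgroup.orderOf_mk]; exact hg

end Cfsg.Agent.Helper5
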