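import Mathlib
import Cfsg.Prelude.Def_Solvable
import Cfsg.Prelude.Def_CaseTheorems

/-!
Helper lemmas (helper5) on the `p'`-core `Cfsg.pPrimeCore p G = O_{p'}(G)`.
-/

set_option autoImplicit false

namespace Cfsg.Agent.Helper5

variable {G : Type*} [Group G]

theorem card_sup_dvd_of_normal [Finite G] (H K : Subgroup G) [K.Normal] :
    Nat.card ↥(H ⊔ K) ∣ Nat.card H * Nat.card K := by
  have h1 : Nat.card ↥(K.subgroupOf (H ⊔ K)) * (K.subgroupOf (H ⊔ K)).index = Nat.card ↥(H ⊔ K) :=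
    Subgroup.card_mul_index _
  have h2 : Nat.card ↥(K.subgroupOf (H ⊔ K)) = Nat.card K :=
    Nat.card_congr (Subgroup.subgroupOfEquivOfLe (le_sup_right : K ≤ H ⊔ K)).toEquiv
  have h3 : (K.subgroupOf (H ⊔ K)).index = K.relIndex H := Subgroup.relIndex_sup_right H K
  have h4 : K.relIndex H ∣ Nat.card H := Subgroup.relIndex_dvd_card K H
  rw [← h1, h2, h3, mul_comm]
  exact Nat.mul_dvd_mul_right h4 _

theorem le_pPrimeCore {p : ℕ} {N : Subgroup G} (hN : N.Normal) (hc : (Nat.card N).Coprime p) :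
    N ≤ Cfsg.pPrimeCore p G :=
  le_sSup ⟨hN, hc⟩

/-- `O_{p'}(G)` has order prime to `p` (finite `G`). -/
theorem coprime_card_pPrimeCore [Finite G] (p : ℕ) [Fact p.Prime] :
    (Nat.card (Cfsg.pPrimeCore p G)).Coprime p := by
  classical
  set S : Set (Subgroup G) := {N : Subgroup G | N.Normal ∧ (Nat.card N).Coprime p} with hS
  have hSfin : S.Finite := Set.toFinite S
  have hSne : S.Nonempty := ⟨⊥, inferInstance, by simp⟩
  obtain ⟨M, hMS, hMmax⟩ := Set.exists_max_image S (fun N => Nat.card N) hSfin hSne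
  have hle : ∀ N ∈ S, N ≤ M := by
    intro N hN
    haveI : N.Normal := hN.1
    haveI : M.Normal := hMS.1
    have hMN : M ⊔ N ∈ S := by
      refine ⟨inferInstance, ?_⟩
      have hd := card_sup_dvd_of_normal M N
      exact Nat.Coprime.coprime_dvd_left hd (Nat.Coprime.mul_left hMS.2 hN.2)
    have h1 := hMmax _ hMN
    have h2 : M ⊔ N = M := (Subgroup.eq_of_le_of_card_ge le_sup_left h1).symm
    rw [← h2]; exact le_sup_right
  have : Cfsg.pPrimeCore p G = M := le_antisymm (sSup_le hle) (le_sSup hMS)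
  rw [this]; exact hMS.2

theorem not_dvd_card_pPrimeCore [Finite G] (p : ℕ) [Fact p.Prime] :
    ¬ p ∣ Nat.card (Cfsg.pPrimeCore p G) := by
  intro h
  have := coprime_card_pPrimeCore (G := G) p
  rw [Nat.coprime_comm, (Fact.out : p.Prime).coprime_iff_not_dvd] at this
  exact this h

end Cfsg.Agent.Helper5
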