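import Mathlib
import Cfsg.Prelude.Def_Solvable
import Cfsg.Prelude.Def_CaseTheorems
import Cfsg.Agent.Helper5.Cores

/-!
Helper lemmas (helper5): groups of characteristic `p`, i.e. `C_G(O_p(G)) ≤ O_p(G)`.
-/

set_option autoImplicit false

namespace Cfsg.Agent.Helper5

variable {G : Type*} [Group G]

/-- `G` has characteristic `p`: `C_G(O_p(G)) ≤ O_p(G)`. -/
def HasCharP (p : ℕ) (G : Type*) [Group G] : Prop :=
  Subgroup.centralizer (Cfsg.pCore p G : Set G) ≤ Cfsg.pCore p G

theorem map_pCore_equiv {H : Type*} [Group H] (p : ℕ) (e : G ≃* H) :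
    (Cfsg.pCore p G).map e.toMonoidHom = Cfsg.pCore p H := by
  apply le_antisymm
  · apply le_pCore
    · exact Subgroup.Normal.map inferInstance _ e.surjective
    · exact (isPGroup_pCore p).map _
  · have h1 : (Cfsg.pCore p H).map e.symm.toMonoidHom ≤ Cfsg.pCore p G := by
      apply le_pCore
      · exact Subgroup.Normal.map inferInstance _ e.symm.surjective
      · exact (isPGroup_pCore p).map _
    intro x hx
    have h2 := h1 ⟨x, hx, rfl⟩
    exact ⟨e.symm x, h2, by simp⟩

theorem HasCharP.of_equiv {H : Type*} [Group H] {p : ℕ} (e : G ≃* H) (h : HasCharP p G) :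
    HasCharP p H := by
  intro x hx
  rw [← map_pCore_equiv p e]
  refine ⟨e.symm x, h ?_, by simp⟩
  rw [Subgroup.mem_centralizer_iff]
  intro y hy
  have hy' : e y ∈ Cfsg.pCore p H := by
    rw [← map_pCore_equiv p e]; exact ⟨y, hy, rfl⟩
  have h3 := (Subgroup.mem_centralizer_iff.mp hx) (e y) hy'
  apply e.injective
  simpa using h3

/-- A subgroup of a finite group all of whose `p'`-elements are trivial is a `p`-group. -/
theorem isPGroup_of_pprime_elements [Finite G] {p : ℕ} [Fact p.Prime] (C : Subgroup G)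
    (h : ∀ c ∈ C, (orderOf c).Coprime p → c = 1) : IsPGroup p C := by
  intro g
  have hp : p.Prime := Fact.out
  have hn0 : orderOf (g : G) ≠ 0 := (orderOf_pos (g : G)).ne'
  obtain ⟨e, m, hm, hn⟩ := Nat.exists_eq_pow_mul_and_not_dvd hn0 p hp.ne_one
  refine ⟨e, ?_⟩
  have hpe : p ^ e ≠ 0 := pow_ne_zero _ hp.ne_zero
  have hdvd : p ^ e ∣ orderOf (g : G) := ⟨m, hn⟩
  have hord : orderOf ((g : G) ^ p ^ e) = m := by
    rw [orderOf_pow_of_dvd hpe hdvd, hn, Nat.mul_div_cancel_left _ (Nat.pos_of_ne_zero hpe)]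
  have hc : (orderOf ((g : G) ^ p ^ e)).Coprime p := by
    rw [hord, Nat.coprime_comm]
    exact (Nat.Prime.coprime_iff_not_dvd hp).mpr hm
  have h1 := h _ (Subgroup.pow_mem _ g.2 _) hc
  exact Subtype.ext (by simpa using h1)

/-- Criterion for characteristic `p`: no nontrivial `p'`-element centralizes `O_p(G)`. -/
theorem hasCharP_of_pprime_elements [Finite G] {p : ℕ} [Fact p.Prime]
    (h : ∀ c ∈ Subgroup.centralizer (Cfsg.pCore p G : Set G), (orderOf c).Coprime p → c = 1) :
    HasCharP p G := by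
  apply le_pCore
  · exact Subgroup.normal_centralizer
  · exact isPGroup_of_pprime_elements _ h

/-- The stability lemma in element form: if the `p'`-element `c` commutes with the `p`-element
`r = q⁻¹ (c q c⁻¹)`, then `r = 1`, i.e. `c` commutes with `q`. -/
theorem stability_elt {p : ℕ} [Fact p.Prime] (c q : G) (hc : (orderOf c).Coprime p)
    (hr : ∃ k : ℕ, (q⁻¹ * (c * q * c⁻¹)) ^ p ^ k = 1)
    (hcr : c * (q⁻¹ * (c * q * c⁻¹)) = (q⁻¹ * (c * q * c⁻¹)) * c) : c * q = q * c := by
  set r := q⁻¹ * (c * q * c⁻¹) with hrdef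
  have hcq : c * q * c⁻¹ = q * r := by rw [hrdef]; group
  have hcomm : Commute c r := hcr
  have key : ∀ n : ℕ, c ^ n * q * (c ^ n)⁻¹ = q * r ^ n := by
    intro n
    induction n with
    | zero => simp
    | succ n ih =>
      have h1 : c ^ (n + 1) * q * (c ^ (n + 1))⁻¹ = c * (c ^ n * q * (c ^ n)⁻¹) * c⁻¹ := by
        rw [pow_succ']; group
      rw [h1, ih]
      have h2 : c * (q * r ^ n) * c⁻¹ = (c * q * c⁻¹) * (c * r ^ n * c⁻¹) := by group
      rw [h2, hcq]
      have h3 : c * r ^ n * c⁻¹ = r ^ n := by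
        have := (hcomm.pow_right n).eq
        rw [this]; group
      rw [h3, pow_succ', mul_assoc]
  have h4 := key (orderOf c)
  rw [pow_orderOf_eq_one] at h4
  have h5 : r ^ orderOf c = 1 := by simpa using h4.symm
  obtain ⟨k, hk⟩ := hr
  have h6 : orderOf r ∣ orderOf c := orderOf_dvd_of_pow_eq_one h5
  have h7 : orderOf r ∣ p ^ k := orderOf_dvd_of_pow_eq_one hk
  have h8 : orderOf r = 1 := by
    have h9 : (orderOf c).Coprime (p ^ k) := Nat.Coprime.pow_right k hc
    have h10 := Nat.dvd_gcd h6 h7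
    rw [h9.gcd_eq_one] at h10
    exact Nat.dvd_one.mp h10
  have h11 : r = 1 := orderOf_eq_one_iff.mp h8
  rw [h11, mul_one] at hcq
  calc c * q = c * q * c⁻¹ * c := by group
    _ = q * c := by rw [hcq]

/-- A `p'`-element of a `p`-group is trivial. -/
theorem eq_one_of_coprime_of_mem_pgroup {p : ℕ} [Fact p.Prime] (Q : Subgroup G) (hQ : IsPGroup p Q)
    (c : G) (hcQ : c ∈ Q) (hc : (orderOf c).Coprime p) : c = 1 := by
  obtain ⟨k, hk⟩ := hQ ⟨c, hcQ⟩
  have hk' : c ^ p ^ k = 1 := by simpa using congrArg Subtype.val hk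
  have h7 : orderOf c ∣ p ^ k := orderOf_dvd_of_pow_eq_one hk'
  have h9 : (orderOf c).Coprime (p ^ k) := Nat.Coprime.pow_right k hc
  have h10 := Nat.dvd_gcd dvd_rfl h7
  rw [h9.gcd_eq_one] at h10
  exact orderOf_eq_one_iff.mp (Nat.dvd_one.mp h10)

/-- If `G` has characteristic `p` and `O_p(G)` conjugates the `p'`-elements of the subgroup `L` into `L`,
then `L` has characteristic `p`. -/
theorem HasCharP.of_pprime_conj [Finite G] {p : ℕ} [Fact p.Prime] (hG : HasCharP p G) (L : Subgroup G)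
    (hL : ∀ c ∈ L, (orderOf c).Coprime p → ∀ q ∈ Cfsg.pCore p G, q⁻¹ * c * q ∈ L) : HasCharP p ↥L := by
  apply hasCharP_of_pprime_elements
  intro c hc hcop
  have hcop' : (orderOf (c : G)).Coprime p := by rwa [Subgroup.orderOf_coe]
  have hQL : (Cfsg.pCore p G).subgroupOf L ≤ Cfsg.pCore p ↥L := by
    apply le_pCore
    · exact Subgroup.normal_subgroupOf
    · exact (isPGroup_pCore p).comap_subtype
  have hcen : (c : G) ∈ Subgroup.centralizer (Cfsg.pCore p G : Set G) := by
    rw [Subgroup.mem_centralizer_iff]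
    intro q hq
    symm
    have hrQ : q⁻¹ * ((c : G) * q * (c : G)⁻¹) ∈ Cfsg.pCore p G :=
      Subgroup.mul_mem _ (Subgroup.inv_mem _ hq)
        ((inferInstance : (Cfsg.pCore p G).Normal).conj_mem q hq (c : G))
    have hrL : q⁻¹ * ((c : G) * q * (c : G)⁻¹) ∈ L := by
      have h1 : q⁻¹ * (c : G) * q ∈ L := hL (c : G) c.2 hcop' q hq
      have h2 : q⁻¹ * ((c : G) * q * (c : G)⁻¹) = (q⁻¹ * (c : G) * q) * (c : G)⁻¹ := by group
      rw [h2]
      exact Subgroup.mul_mem _ h1 (Subgroup.inv_mem _ c.2)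
    apply stability_elt (p := p) (c : G) q hcop'
    · obtain ⟨k, hk⟩ := (isPGroup_pCore p) ⟨_, hrQ⟩
      exact ⟨k, by simpa using congrArg Subtype.val hk⟩
    · have hmem : (⟨_, hrL⟩ : ↥L) ∈ Cfsg.pCore p ↥L := hQL (Subgroup.mem_subgroupOf.mpr hrQ)
      have h3 := (Subgroup.mem_centralizer_iff.mp hc) _ hmem
      have h4 := congrArg Subtype.val h3
      simpa using h4.symm
  have hcQ : (c : G) ∈ Cfsg.pCore p G := hG hcen
  have h5 := eq_one_of_coprime_of_mem_pgroup (Cfsg.pCore p G) (isPGroup_pCore p) (c : G) hcQ hcop'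
  exact Subtype.ext (by simpa using h5)

/-- If `G` has characteristic `p` and `O_p(G)` normalizes the subgroup `L`, then `L` has characteristic `p`. -/
theorem HasCharP.of_normalized [Finite G] {p : ℕ} [Fact p.Prime] (hG : HasCharP p G) (L : Subgroup G)
    (hL : Cfsg.pCore p G ≤ Subgroup.normalizer (L : Set G)) : HasCharP p ↥L := by
  apply hG.of_pprime_conj
  intro c hc _ q hq
  have hqn : q⁻¹ ∈ Subgroup.normalizer (L : Set G) := hL (Subgroup.inv_mem _ hq)
  have h1 : q⁻¹ * c * q⁻¹⁻¹ ∈ L := (Subgroup.mem_normalizer_iff.mp hqn c).mp hc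
  simpa using h1

theorem HasCharP.of_normal [Finite G] {p : ℕ} [Fact p.Prime] (hG : HasCharP p G) (L : Subgroup G)
    [hL : L.Normal] : HasCharP p ↥L := by
  apply hG.of_normalized
  rw [Subgroup.normalizer_eq_top_iff.mpr hL]
  exact le_top

theorem HasCharP.of_subnormal [Finite G] {p : ℕ} [Fact p.Prime] (hG : HasCharP p G) (L : Subgroup G)
    (hL : L.IsSubnormal) : HasCharP p ↥L := by
  induction hL with
  | top => exact hG.of_equiv Subgroup.topEquiv.symm
  | step H K h_le hSubn hN ih =>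
    have := hN
    have h1 : HasCharP p ↥(H.subgroupOf K) := ih.of_normal (H.subgroupOf K)
    exact h1.of_equiv (Subgroup.subgroupOfEquivOfLe h_le)

end Cfsg.Agent.Helper5
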