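import Mathlib
import Cfsg.Agent.Helper5.Basic
import Cfsg.Agent.Helper5.CharP

/-!
Helper lemmas (helper5): commutators of `p`-groups and Thompson's `A × B` lemma.
-/

set_option autoImplicit false

namespace Cfsg.Agent.Helper5

open scoped commutatorElement

variable {G : Type*} [Group G]

theorem commutator_le_of_le_normalizer (R B : Subgroup G) (hB : B ≤ Subgroup.normalizer (R : Set G)) :
    ⁅R, B⁆ ≤ R := by
  rw [Subgroup.commutator_le]
  intro r hr l hl
  have h1 : l * r⁻¹ * l⁻¹ ∈ R := (Subgroup.mem_normalizer_iff.mp (hB hl) r⁻¹).mp (Subgroup.inv_mem _ hr)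
  have h2 : ⁅r, l⁆ = r * (l * r⁻¹ * l⁻¹) := by rw [commutatorElement_def]; group
  rw [h2]
  exact Subgroup.mul_mem _ hr h1

/-- An element normalizing both `R` and `B` normalizes `⁅R, B⁆`. -/
theorem mem_normalizer_commutator (R B : Subgroup G) (x : G) (hR : x ∈ Subgroup.normalizer (R : Set G))
    (hB : x ∈ Subgroup.normalizer (B : Set G)) : x ∈ Subgroup.normalizer ((⁅R, B⁆ : Subgroup G) : Set G) := by
  rw [mem_normalizer_iff_map_conj] at hR hB ⊢
  rw [Subgroup.map_commutator, hR, hB]

/-- A `p`-group `B` acting on a nontrivial `p`-group `R` (inside a finite group) has `[R, B] < R`. -/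
theorem commutator_ne_self_of_pgroups [Finite G] {p : ℕ} [Fact p.Prime] (R B : Subgroup G)
    (hR : IsPGroup p R) (hB : IsPGroup p B) (hBn : B ≤ Subgroup.normalizer (R : Set G)) (hR1 : R ≠ ⊥) :
    ⁅R, B⁆ ≠ R := by
  intro heq
  set P := R ⊔ B with hPdef
  have hP : IsPGroup p P := IsPGroup.to_sup_of_normal_left' hR hB hBn
  have hnil : Group.IsNilpotent ↥P := hP.isNilpotent
  obtain ⟨n, hn⟩ := (Subgroup.isNilpotent_iff_lowerCentralSeries P).mp hnil
  have key : ∀ k : ℕ, R ≤ P.lowerCentralSeries k := by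
    intro k
    induction k with
    | zero => exact (le_sup_left : R ≤ P)
    | succ k ih =>
      rw [Subgroup.lowerCentralSeries_succ]
      calc R = ⁅R, B⁆ := heq.symm
        _ ≤ _ := Subgroup.commutator_mono ih (le_sup_right : B ≤ P)
  apply hR1
  have := key n
  rw [hn] at this
  exact eq_bot_iff.mpr this

/-- Thompson's `A × B` lemma, for a single `p'`-element `c`: if `c` and the `p`-group `B` normalize the
`p`-group `R`, `c` centralizes `B`, and `c` centralizes `C_R(B)`, then `c` centralizes `R`. -/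
theorem thompson_AxB [Finite G] {p : ℕ} [Fact p.Prime] (B : Subgroup G) (hB : IsPGroup p B) (c : G)
    (hc : (orderOf c).Coprime p) (hcB : c ∈ Subgroup.centralizer (B : Set G)) :
    ∀ (R : Subgroup G), IsPGroup p R → c ∈ Subgroup.normalizer (R : Set G) →
      B ≤ Subgroup.normalizer (R : Set G) →
      (∀ r ∈ R, r ∈ Subgroup.centralizer (B : Set G) → c * r = r * c) → ∀ r ∈ R, c * r = r * c := by
  intro R
  induction' hk : Nat.card R using Nat.strong_induction_on with k ih generalizing R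
  intro hR hcR hBR hcen
  by_cases hR1 : R = ⊥
  · intro r hr
    rw [hR1, Subgroup.mem_bot] at hr
    rw [hr]; simp
  have hSle : ⁅R, B⁆ ≤ R := commutator_le_of_le_normalizer R B hBR
  have hSne : ⁅R, B⁆ ≠ R := commutator_ne_self_of_pgroups R B hR hB hBR hR1
  have hcard : Nat.card ↥(⁅R, B⁆ : Subgroup G) < k := by
    by_contra hge
    rw [not_lt] at hge
    rw [← hk] at hge
    exact hSne (Subgroup.eq_of_le_of_card_ge hSle hge)
  have hcBn : c ∈ Subgroup.normalizer (B : Set G) := Subgroup.centralizer_le_normalizer _ hcB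
  have hS := ih _ hcard ⁅R, B⁆ rfl (hR.to_le hSle) (mem_normalizer_commutator R B c hcR hcBn)
    (fun b hb => mem_normalizer_commutator R B b (hBR hb) (Subgroup.le_normalizer hb))
    (fun r hr hrB => hcen r (hSle hr) hrB)
  -- three subgroups lemma
  have h1 : ⁅⁅R, B⁆, Subgroup.zpowers c⁆ = ⊥ := by
    rw [Subgroup.commutator_eq_bot_iff_le_centralizer]
    intro s hs
    rw [Subgroup.mem_centralizer_iff]
    intro y hy
    obtain ⟨m, rfl⟩ := Subgroup.mem_zpowers_iff.mp hy
    have : Commute c s := hS s hs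
    exact (this.zpow_left m).eq
  have h2 : ⁅⁅B, Subgroup.zpowers c⁆, R⁆ = ⊥ := by
    have : ⁅B, Subgroup.zpowers c⁆ = ⊥ := by
      rw [Subgroup.commutator_eq_bot_iff_le_centralizer]
      intro b hb
      rw [Subgroup.mem_centralizer_iff]
      intro y hy
      obtain ⟨m, rfl⟩ := Subgroup.mem_zpowers_iff.mp hy
      have h3 : Commute c b := ((Subgroup.mem_centralizer_iff.mp hcB) b hb).symm
      exact (h3.zpow_left m).eq
    rw [this, Subgroup.commutator_bot_left]
  have h3 : ⁅⁅Subgroup.zpowers c, R⁆, B⁆ = ⊥ :=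
    Subgroup.commutator_commutator_eq_bot_of_rotate h1 h2
  rw [Subgroup.commutator_eq_bot_iff_le_centralizer] at h3
  intro r hr
  have hrel : r⁻¹ * (c * r * c⁻¹) ∈ R := by
    refine Subgroup.mul_mem _ (Subgroup.inv_mem _ hr) ?_
    exact (Subgroup.mem_normalizer_iff.mp hcR r).mp hr
  apply stability_elt (p := p) c r hc
  · obtain ⟨j, hj⟩ := hR ⟨_, hrel⟩
    exact ⟨j, by simpa using congrArg Subtype.val hj⟩
  · apply hcen _ hrel
    -- r⁻¹ (c r c⁻¹) = (⁅c, r⁻¹⁆)⁻¹ conj... show it lies in ⁅zpowers c, R⁆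
    have h4 : r⁻¹ * (c * r * c⁻¹) = ⁅r⁻¹, c⁆ := by rw [commutatorElement_def]; group
    have h5 : ⁅r⁻¹, c⁆ ∈ ⁅Subgroup.zpowers c, R⁆ := by
      rw [Subgroup.commutator_comm]
      exact Subgroup.commutator_mem_commutator (Subgroup.inv_mem _ hr) (Subgroup.mem_zpowers c)
    rw [h4]
    exact h3 h5

end Cfsg.Agent.Helper5
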