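import Mathlib
import Cfsg.Agent.Helper5.Basic

/-!
Helper lemmas (helper5): Sylow theory relative to a subgroup, elementwise; normalizers grow in p-groups.
-/

set_option autoImplicit false

namespace Cfsg.Agent.Helper5

variable {G : Type*} [Group G]

/-- If `P` is a Sylow `p`-subgroup of `G` contained in the subgroup `K`, every `p`-subgroup `D ≤ K` is
conjugate into `P` by an element of `K`. -/
theorem exists_conj_le_sylow_of_le [Finite G] {p : ℕ} [Fact p.Prime] (P : Sylow p G) (K : Subgroup G)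
    (hPK : (P : Subgroup G) ≤ K) (D : Subgroup G) (hDK : D ≤ K) (hD : IsPGroup p D) :
    ∃ k ∈ K, ∀ x ∈ D, k * x * k⁻¹ ∈ (P : Subgroup G) := by
  have hD' : IsPGroup p (D.subgroupOf K) := hD.comap_subtype
  obtain ⟨k, hk⟩ := exists_conj_le_sylow (P.subtype hPK) (D.subgroupOf K) hD'
  refine ⟨k, k.2, fun x hx => ?_⟩
  have := hk ⟨x, hDK hx⟩ (by rw [Subgroup.mem_subgroupOf]; exact hx)
  rw [Sylow.coe_subtype, Subgroup.mem_subgroupOf] at this
  simpa using this

/-- A Sylow `p`-subgroup of a subgroup `K`, viewed in `G`: existence of a maximal `p`-subgroup of `K` containing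
a given `p`-subgroup `D ≤ K`, with the Sylow property in elementwise form. -/
theorem exists_sylow_of_subgroup [Finite G] {p : ℕ} [Fact p.Prime] (K : Subgroup G) (D : Subgroup G)
    (hDK : D ≤ K) (hD : IsPGroup p D) :
    ∃ T : Subgroup G, D ≤ T ∧ T ≤ K ∧ IsPGroup p T ∧
      (∀ E : Subgroup G, E ≤ K → IsPGroup p E → T ≤ E → E = T) ∧
      (∀ E : Subgroup G, E ≤ K → IsPGroup p E → ∃ k ∈ K, ∀ x ∈ E, k * x * k⁻¹ ∈ T) := by
  have hD' : IsPGroup p (D.subgroupOf K) := hD.comap_subtype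
  obtain ⟨S, hS⟩ := hD'.exists_le_sylow
  refine ⟨(S : Subgroup K).map K.subtype, ?_, ?_, S.isPGroup'.map _, ?_, ?_⟩
  · intro x hx
    exact ⟨⟨x, hDK hx⟩, hS (by rw [Subgroup.mem_subgroupOf]; exact hx), rfl⟩
  · rintro _ ⟨y, _, rfl⟩
    exact y.2
  · intro E hEK hE hTE
    have hE' : IsPGroup p (E.subgroupOf K) := hE.comap_subtype
    have hle : (S : Subgroup K) ≤ E.subgroupOf K := by
      intro y hy
      rw [Subgroup.mem_subgroupOf]
      exact hTE ⟨y, hy, rfl⟩
    have heq : E.subgroupOf K = S := S.is_maximal' hE' hle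
    apply le_antisymm
    · intro x hx
      have hx' : (⟨x, hEK hx⟩ : K) ∈ E.subgroupOf K := by
        rw [Subgroup.mem_subgroupOf]; exact hx
      rw [heq] at hx'
      exact ⟨⟨x, hEK hx⟩, hx', rfl⟩
    · exact hTE
  · intro E hEK hE
    have hE' : IsPGroup p (E.subgroupOf K) := hE.comap_subtype
    obtain ⟨k, hk⟩ := exists_conj_le_sylow S (E.subgroupOf K) hE'
    refine ⟨k, k.2, fun x hx => ?_⟩
    have := hk ⟨x, hEK hx⟩ (by rw [Subgroup.mem_subgroupOf]; exact hx)
    exact ⟨_, this, by simp⟩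

/-- In a finite `p`-group `P₁ ≤ G`, a proper subgroup `D < P₁` is properly contained in `N_{P₁}(D)`. -/
theorem exists_mem_normalizer_not_mem [Finite G] {p : ℕ} [Fact p.Prime] (P₁ D : Subgroup G)
    (hP₁ : IsPGroup p P₁) (hDP : D ≤ P₁) (hne : D ≠ P₁) :
    ∃ n ∈ P₁, n ∈ Subgroup.normalizer (D : Set G) ∧ n ∉ D := by
  have : Group.IsNilpotent P₁ := hP₁.isNilpotent
  have hnc : NormalizerCondition P₁ := Group.normalizerCondition_of_isNilpotent
  have hlt : D.subgroupOf P₁ < ⊤ := by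
    rw [lt_top_iff_ne_top]
    intro h
    apply hne
    apply le_antisymm hDP
    intro x hx
    have : (⟨x, hx⟩ : P₁) ∈ D.subgroupOf P₁ := by rw [h]; trivial
    rw [Subgroup.mem_subgroupOf] at this
    exact this
  obtain ⟨n, hnN, hnD⟩ := SetLike.exists_of_lt (hnc _ hlt)
  refine ⟨n, n.2, ?_, ?_⟩
  · rw [Subgroup.mem_normalizer_iff]
    intro h
    constructor
    · intro hh
      have h1 := (Subgroup.mem_normalizer_iff.mp hnN ⟨h, hDP hh⟩).mp
        (by rw [Subgroup.mem_subgroupOf]; exact hh)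
      rw [Subgroup.mem_subgroupOf] at h1
      simpa using h1
    · intro hh
      have hhP : h ∈ P₁ := by
        have := P₁.mul_mem (P₁.mul_mem (P₁.inv_mem n.2) (hDP hh)) n.2
        simpa [mul_assoc] using this
      have h1 := (Subgroup.mem_normalizer_iff.mp hnN ⟨h, hhP⟩).mpr
        (by rw [Subgroup.mem_subgroupOf]; simpa using hh)
      rw [Subgroup.mem_subgroupOf] at h1
      exact h1
  · intro h
    apply hnD
    rw [Subgroup.mem_subgroupOf]
    exact h

end Cfsg.Agent.Helper5
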