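import Mathlib
import Cfsg.Agent.Helper5.Basic
import Cfsg.Agent.Helper5.SylowSub
import Cfsg.Agent.Helper5.CharP

/-!
Helper lemmas (helper5): `O_p` of a subgroup viewed in the ambient group, stability groups.
-/

set_option autoImplicit false

namespace Cfsg.Agent.Helper5

variable {G : Type*} [Group G]

theorem normalizer_le_normalizer_centralizer (Q : Subgroup G) :
    Subgroup.normalizer (Q : Set G) ≤
      Subgroup.normalizer ((Subgroup.centralizer (Q : Set G) : Subgroup G) : Set G) := by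
  intro t ht
  rw [Subgroup.mem_normalizer_iff]
  have aux : ∀ s : G, s ∈ Subgroup.normalizer (Q : Set G) → ∀ x ∈ Subgroup.centralizer (Q : Set G),
      s * x * s⁻¹ ∈ Subgroup.centralizer (Q : Set G) := by
    intro s hs x hx
    rw [Subgroup.mem_centralizer_iff] at hx ⊢
    intro q hq
    have h1 : s⁻¹ * q * s⁻¹⁻¹ ∈ Q :=
      (Subgroup.mem_normalizer_iff.mp (Subgroup.inv_mem _ hs) q).mp hq
    have h2 := hx _ h1
    calc q * (s * x * s⁻¹) = s * ((s⁻¹ * q * s⁻¹⁻¹) * x) * s⁻¹ := by group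
      _ = s * (x * (s⁻¹ * q * s⁻¹⁻¹)) * s⁻¹ := by rw [h2]
      _ = s * x * s⁻¹ * q := by group
  intro x
  constructor
  · exact aux t ht x
  · intro hx
    have := aux t⁻¹ (Subgroup.inv_mem _ ht) _ hx
    have h4 : t⁻¹ * (t * x * t⁻¹) * t⁻¹⁻¹ = x := by group
    rwa [h4] at this

theorem mem_normalizer_inf (X K : Subgroup G) (y : G) (hX : y ∈ Subgroup.normalizer (X : Set G))
    (hK : y ∈ Subgroup.normalizer (K : Set G)) : y ∈ Subgroup.normalizer ((X ⊓ K : Subgroup G) : Set G) := by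
  rw [Subgroup.mem_normalizer_iff] at hX hK ⊢
  intro n
  exact ⟨fun h => ⟨(hX n).mp h.1, (hK n).mp h.2⟩, fun h => ⟨(hX n).mpr h.1, (hK n).mpr h.2⟩⟩

/-! ### `O_p(L)` as a subgroup of the ambient group -/

theorem pCore_map_subtype_le (p : ℕ) (L : Subgroup G) : (Cfsg.pCore p ↥L).map L.subtype ≤ L := by
  rintro _ ⟨y, -, rfl⟩
  exact y.2

theorem isPGroup_pCore_map_subtype (p : ℕ) (L : Subgroup G) :
    IsPGroup p ((Cfsg.pCore p ↥L).map L.subtype) :=
  (isPGroup_pCore p).map _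

theorem le_normalizer_pCore_map_subtype (p : ℕ) (L : Subgroup G) :
    L ≤ Subgroup.normalizer (((Cfsg.pCore p ↥L).map L.subtype : Subgroup G) : Set G) := by
  intro l hl
  have hn : (Cfsg.pCore p ↥L).Normal := inferInstance
  have aux : ∀ m : G, m ∈ L → ∀ x ∈ (Cfsg.pCore p ↥L).map L.subtype,
      m * x * m⁻¹ ∈ (Cfsg.pCore p ↥L).map L.subtype := by
    rintro m hm _ ⟨y, hy, rfl⟩
    exact ⟨⟨m, hm⟩ * y * ⟨m, hm⟩⁻¹, hn.conj_mem y hy ⟨m, hm⟩, rfl⟩
  rw [Subgroup.mem_normalizer_iff]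
  intro x
  constructor
  · exact aux l hl x
  · intro hx
    have := aux l⁻¹ (Subgroup.inv_mem _ hl) _ hx
    have h4 : l⁻¹ * (l * x * l⁻¹) * l⁻¹⁻¹ = x := by group
    rwa [h4] at this

/-- `O_p(L)` contains every `p`-subgroup of `L` normalized by `L`. -/
theorem le_pCore_map_subtype {p : ℕ} (L N : Subgroup G) (hNL : N ≤ L) (hN : IsPGroup p N)
    (hLN : L ≤ Subgroup.normalizer (N : Set G)) : N ≤ (Cfsg.pCore p ↥L).map L.subtype := by
  have h1 : N.subgroupOf L ≤ Cfsg.pCore p ↥L := by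
    apply le_pCore
    · exact (Subgroup.normal_subgroupOf_iff_le_normalizer hNL).mpr hLN
    · exact hN.comap_subtype
  intro n hn
  exact ⟨⟨n, hNL hn⟩, h1 (Subgroup.mem_subgroupOf.mpr hn), rfl⟩

theorem mem_centralizer_pCore_iff (p : ℕ) (L : Subgroup G) (c : ↥L) :
    c ∈ Subgroup.centralizer (Cfsg.pCore p ↥L : Set ↥L) ↔
      (c : G) ∈ Subgroup.centralizer (((Cfsg.pCore p ↥L).map L.subtype : Subgroup G) : Set G) := by
  rw [Subgroup.mem_centralizer_iff, Subgroup.mem_centralizer_iff]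
  constructor
  · rintro h _ ⟨y, hy, rfl⟩
    have := congrArg Subtype.val (h y hy)
    simpa using this
  · intro h y hy
    have := h (y : G) ⟨y, hy, rfl⟩
    exact Subtype.ext (by simpa using this)

/-- If `X ≤ L` is normalized by `L`, every `p`-subgroup `N ≤ X` normalized by `X` lies in `O_p(L)`. -/
theorem le_pCore_of_normal_in_normal [Finite G] {p : ℕ} [Fact p.Prime] (L X N : Subgroup G) (hXL : X ≤ L)
    (hLX : L ≤ Subgroup.normalizer (X : Set G)) (hNX : N ≤ X) (hN : IsPGroup p N)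
    (hXN : X ≤ Subgroup.normalizer (N : Set G)) : N ≤ (Cfsg.pCore p ↥L).map L.subtype := by
  obtain ⟨S, -, hSX, hSp, -, hSconj⟩ := exists_sylow_of_subgroup X ⊥ bot_le (IsPGroup.of_bot (p := p))
  have hconjS : ∀ l ∈ L, N.map (MulAut.conj l).toMonoidHom ≤ S := by
    intro l hl
    set E := N.map (MulAut.conj l).toMonoidHom with hE
    have hlX : ∀ y ∈ X, l⁻¹ * y * l ∈ X := by
      intro y hy
      have := (Subgroup.mem_normalizer_iff.mp (hLX (Subgroup.inv_mem _ hl)) y).mp hy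
      simpa using this
    have hEX : E ≤ X := by
      rintro _ ⟨n, hn, rfl⟩
      have := (Subgroup.mem_normalizer_iff.mp (hLX hl) n).mp (hNX hn)
      simpa using this
    have hEn : ∀ y ∈ X, ∀ x ∈ E, y * x * y⁻¹ ∈ E := by
      rintro y hy _ ⟨n, hn, rfl⟩
      have h1 : (l⁻¹ * y * l) * n * (l⁻¹ * y * l)⁻¹ ∈ N :=
        (Subgroup.mem_normalizer_iff.mp (hXN (hlX y hy)) n).mp hn
      refine ⟨(l⁻¹ * y * l) * n * (l⁻¹ * y * l)⁻¹, h1, ?_⟩
      simp only [MulEquiv.coe_toMonoidHom, MulAut.conj_apply]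
      group
    obtain ⟨k, hkX, hk⟩ := hSconj E hEX (hN.map _)
    intro x hx
    have h2 : k⁻¹ * x * k⁻¹⁻¹ ∈ E := hEn k⁻¹ (Subgroup.inv_mem _ hkX) x hx
    have h3 := hk _ h2
    have h4 : k * (k⁻¹ * x * k⁻¹⁻¹) * k⁻¹ = x := by group
    rwa [h4] at h3
  set NL : Subgroup G := ⨆ l : ↥L, N.map (MulAut.conj (l : G)).toMonoidHom with hNL
  have hNLS : NL ≤ S := iSup_le fun l => hconjS l l.2
  have hNNL : N ≤ NL := by
    have h0 := le_iSup (fun l : ↥L => N.map (MulAut.conj (l : G)).toMonoidHom) 1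
    have h1 : N.map (MulAut.conj ((1 : ↥L) : G)).toMonoidHom = N := by
      rw [Subgroup.coe_one]; exact map_conj_one N
    rw [h1] at h0
    exact h0
  have hmap : ∀ m ∈ L, NL.map (MulAut.conj m).toMonoidHom ≤ NL := by
    intro m hm
    rw [hNL, Subgroup.map_iSup]
    apply iSup_le
    intro l
    rw [map_conj_map_conj]
    exact le_iSup (fun l : ↥L => N.map (MulAut.conj (l : G)).toMonoidHom) (⟨m, hm⟩ * l)
  have hnorm : L ≤ Subgroup.normalizer (NL : Set G) := by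
    intro m hm
    rw [mem_normalizer_iff_map_conj]
    apply le_antisymm (hmap m hm)
    have h1 := Subgroup.map_mono (f := (MulAut.conj m).toMonoidHom) (hmap m⁻¹ (Subgroup.inv_mem _ hm))
    rw [map_conj_map_conj, mul_inv_cancel, map_conj_one] at h1
    exact h1
  exact hNNL.trans (le_pCore_map_subtype L NL (hNLS.trans (hSX.trans hXL)) (hSp.to_le hNLS) hnorm)

/-! ### The stability group of `R ≥ A` modulo `A` -/

/-- Elements normalizing `A` and `R` and acting trivially on `R` modulo `A`. -/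
def stabMod (R A : Subgroup G) : Subgroup G where
  carrier := {g | g ∈ Subgroup.normalizer (A : Set G) ∧ g ∈ Subgroup.normalizer (R : Set G) ∧
    ∀ r ∈ R, r⁻¹ * (g * r * g⁻¹) ∈ A}
  one_mem' := ⟨Subgroup.one_mem _, Subgroup.one_mem _, fun r _ => by simp⟩
  mul_mem' := by
    rintro g h ⟨hgA, hgR, hg⟩ ⟨hhA, hhR, hh⟩
    refine ⟨Subgroup.mul_mem _ hgA hhA, Subgroup.mul_mem _ hgR hhR, ?_⟩
    intro r hr
    have h1 : r⁻¹ * (g * h * r * (g * h)⁻¹) =
        (r⁻¹ * (g * r * g⁻¹)) * (g * (r⁻¹ * (h * r * h⁻¹)) * g⁻¹) := by group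
    rw [h1]
    exact Subgroup.mul_mem _ (hg r hr) ((Subgroup.mem_normalizer_iff.mp hgA _).mp (hh r hr))
  inv_mem' := by
    rintro g ⟨hgA, hgR, hg⟩
    refine ⟨Subgroup.inv_mem _ hgA, Subgroup.inv_mem _ hgR, ?_⟩
    intro r hr
    have hs : g⁻¹ * r * g⁻¹⁻¹ ∈ R := (Subgroup.mem_normalizer_iff.mp (Subgroup.inv_mem _ hgR) r).mp hr
    have h1 := hg _ hs
    have h2 : r⁻¹ * (g⁻¹ * r * g⁻¹⁻¹) =
        ((g⁻¹ * r * g⁻¹⁻¹)⁻¹ * (g * (g⁻¹ * r * g⁻¹⁻¹) * g⁻¹))⁻¹ := by group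
    rw [h2]
    exact Subgroup.inv_mem _ h1

theorem mem_stabMod_iff (R A : Subgroup G) (g : G) :
    g ∈ stabMod R A ↔ g ∈ Subgroup.normalizer (A : Set G) ∧ g ∈ Subgroup.normalizer (R : Set G) ∧
      ∀ r ∈ R, r⁻¹ * (g * r * g⁻¹) ∈ A := Iff.rfl

theorem conj_mem_stabMod (R A : Subgroup G) (x g : G) (hxA : x ∈ Subgroup.normalizer (A : Set G))
    (hxR : x ∈ Subgroup.normalizer (R : Set G)) (hg : g ∈ stabMod R A) : x * g * x⁻¹ ∈ stabMod R A := by
  obtain ⟨hgA, hgR, hgT⟩ := hg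
  refine ⟨Subgroup.mul_mem _ (Subgroup.mul_mem _ hxA hgA) (Subgroup.inv_mem _ hxA),
    Subgroup.mul_mem _ (Subgroup.mul_mem _ hxR hgR) (Subgroup.inv_mem _ hxR), ?_⟩
  intro r hr
  have hr' : x⁻¹ * r * x⁻¹⁻¹ ∈ R := (Subgroup.mem_normalizer_iff.mp (Subgroup.inv_mem _ hxR) r).mp hr
  have h1 := hgT _ hr'
  have h2 := (Subgroup.mem_normalizer_iff.mp hxA _).mp h1
  have h3 : r⁻¹ * (x * g * x⁻¹ * r * (x * g * x⁻¹)⁻¹) =
      x * ((x⁻¹ * r * x⁻¹⁻¹)⁻¹ * (g * (x⁻¹ * r * x⁻¹⁻¹) * g⁻¹)) * x⁻¹ := by group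
  rw [h3]
  exact h2

theorem mem_normalizer_stabMod (R A : Subgroup G) (x : G) (hxA : x ∈ Subgroup.normalizer (A : Set G))
    (hxR : x ∈ Subgroup.normalizer (R : Set G)) :
    x ∈ Subgroup.normalizer ((stabMod R A : Subgroup G) : Set G) := by
  rw [Subgroup.mem_normalizer_iff]
  intro g
  constructor
  · exact conj_mem_stabMod R A x g hxA hxR
  · intro h
    have := conj_mem_stabMod R A x⁻¹ _ (Subgroup.inv_mem _ hxA) (Subgroup.inv_mem _ hxR) h
    have h4 : x⁻¹ * (x * g * x⁻¹) * x⁻¹⁻¹ = g := by group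
    rwa [h4] at this

/-- A `p'`-element of the stability group which centralizes `A` centralizes the `p`-group `R`. -/
theorem commute_of_mem_stabMod {p : ℕ} [Fact p.Prime] (R A : Subgroup G) (hA : IsPGroup p A) (k : G)
    (hk : k ∈ stabMod R A) (hkp : (orderOf k).Coprime p) (hkA : ∀ a ∈ A, k * a = a * k) :
    ∀ r ∈ R, k * r = r * k := by
  intro r hr
  have h1 := hk.2.2 r hr
  apply stability_elt (p := p) k r hkp
  · obtain ⟨j, hj⟩ := hA ⟨_, h1⟩
    exact ⟨j, by simpa using congrArg Subtype.val hj⟩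
  · exact hkA _ h1

end Cfsg.Agent.Helper5
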