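import Mathlib

/-!
Helper lemmas (helper5): an upper bound for the Frattini subgroup of a finite group: any subgroup containing all
`p`-th powers and all commutators contains the Frattini subgroup.
-/

set_option autoImplicit false

namespace Cfsg.Agent.Helper5

variable {P : Type*} [Group P]

/-- If `D` contains all `p`-th powers and all commutators then `Φ(P) ≤ D`. -/
theorem frattini_le_of_forall [Finite P] {p : ℕ} [hp : Fact p.Prime] (D : Subgroup P)
    (hpow : ∀ x : P, x ^ p ∈ D) (hcomm : ∀ x y : P, x * y * x⁻¹ * y⁻¹ ∈ D) : frattini P ≤ D := by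
  classical
  intro x hxΦ
  by_contra hxD
  -- subgroups containing D are normal
  have hnormal : ∀ M : Subgroup P, D ≤ M → M.Normal := by
    intro M hDM
    refine ⟨fun m hm g => ?_⟩
    have h1 : g * m * g⁻¹ * m⁻¹ ∈ M := hDM (hcomm g m)
    have h2 := M.mul_mem h1 hm
    have e : g * m * g⁻¹ * m⁻¹ * m = g * m * g⁻¹ := by group
    rw [e] at h2; exact h2
  set 𝒮 : Set (Subgroup P) := {M | D ≤ M ∧ x ∉ M} with h𝒮
  have hfin : 𝒮.Finite := Set.toFinite _
  have hne : 𝒮.Nonempty := ⟨D, le_rfl, hxD⟩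
  obtain ⟨M, hM⟩ := Set.Finite.exists_maximal hfin hne
  have hMS : M ∈ 𝒮 := hM.1
  have hmax : ∀ L : Subgroup P, L ∈ 𝒮 → M ≤ L → L ≤ M := fun L hL hML => hM.2 hL hML
  have hMn : M.Normal := hnormal M hMS.1
  have hcoatom : IsCoatom M := by
    refine ⟨fun h => hMS.2 (by rw [h]; exact Subgroup.mem_top _), fun L hML => ?_⟩
    have hxL : x ∈ L := by
      by_contra hxL
      exact (not_le_of_gt hML) (hmax L ⟨hMS.1.trans hML.le, hxL⟩ hML.le)
    rw [eq_top_iff]
    intro y _
    by_cases hyM : y ∈ M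
    · exact hML.le hyM
    · -- x ∈ M ⊔ zpowers y
      have hlt : M < M ⊔ Subgroup.zpowers y := by
        refine lt_of_le_of_ne le_sup_left (fun h => hyM ?_)
        rw [h]; exact (le_sup_right : Subgroup.zpowers y ≤ _) (Subgroup.mem_zpowers y)
      have hxsup : x ∈ M ⊔ Subgroup.zpowers y := by
        by_contra hx'
        exact (not_le_of_gt hlt) (hmax _ ⟨hMS.1.trans le_sup_left, hx'⟩ le_sup_left)
      rw [← SetLike.mem_coe, Subgroup.normal_mul] at hxsup
      obtain ⟨m, hm, z, hz, hmz⟩ := hxsup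
      obtain ⟨k, rfl⟩ := Subgroup.mem_zpowers_iff.mp hz
      have hykL : y ^ k ∈ L := by
        have : y ^ k = m⁻¹ * x := by rw [← hmz]; group
        rw [this]
        exact L.mul_mem (L.inv_mem (hML.le hm)) hxL
      have hypL : y ^ (p : ℤ) ∈ L := by
        rw [zpow_natCast]
        exact hML.le (hMS.1 (hpow y))
      have hnd : ¬ (p : ℤ) ∣ k := by
        rintro ⟨j, rfl⟩
        apply hMS.2
        rw [← hmz]
        refine M.mul_mem hm ?_
        show y ^ ((p : ℤ) * j) ∈ M
        rw [zpow_mul, zpow_natCast]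
        exact M.zpow_mem (hMS.1 (hpow y)) j
      have hcop : IsCoprime k (p : ℤ) := by
        have hpp : Prime (p : ℤ) := Nat.prime_iff_prime_int.mp hp.out
        exact (hpp.coprime_iff_not_dvd.mpr hnd).symm
      obtain ⟨a, b, hab⟩ := hcop
      have : y = (y ^ k) ^ a * (y ^ (p : ℤ)) ^ b := by
        rw [← zpow_mul, ← zpow_mul, ← zpow_add]
        have : k * a + (p : ℤ) * b = 1 := by rw [← hab]; ring
        rw [this, zpow_one]
      rw [this]
      exact L.mul_mem (L.zpow_mem hykL a) (L.zpow_mem hypL b)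
  exact hMS.2 (frattini_le_coatom hcoatom hxΦ)

end Cfsg.Agent.Helper5
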