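import Mathlib
import Cfsg.Agent.Helper5.Basic

/-!
Helper lemmas (helper5): miscellaneous facts on normalizers and conjugation in finite groups.
-/

set_option autoImplicit false

namespace Cfsg.Agent.Helper5

variable {G : Type*} [Group G]

theorem card_map_conj' (H : Subgroup G) (g : G) :
    Nat.card ↥(H.map (MulAut.conj g).toMonoidHom) = Nat.card H :=
  Nat.card_congr (H.equivMapOfInjective _ (MulAut.conj g).injective).toEquiv.symm

/-- In a finite group, one-sided invariance under conjugation gives membership in the normalizer. -/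
theorem mem_normalizer_of_conj_mem [Finite G] (H : Subgroup G) (n : G) (h : ∀ x ∈ H, n * x * n⁻¹ ∈ H) :
    n ∈ Subgroup.normalizer (H : Set G) := by
  rw [mem_normalizer_iff_map_conj]
  have hle : H.map (MulAut.conj n).toMonoidHom ≤ H := (map_conj_le_iff H H n).mpr h
  exact Subgroup.eq_of_le_of_card_ge hle (card_map_conj' H n).ge

theorem le_normalizer_of_conj_mem [Finite G] (H K : Subgroup G) (h : ∀ k ∈ K, ∀ x ∈ H, k * x * k⁻¹ ∈ H) :
    K ≤ Subgroup.normalizer (H : Set G) :=
  fun k hk => mem_normalizer_of_conj_mem H k (h k hk)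

/-- If two coprime powers of `n` lie in a subgroup, so does `n`. -/
theorem mem_of_pow_mem_of_coprime (C : Subgroup G) (n : G) (a b : ℕ) (hab : a.Coprime b)
    (ha : n ^ a ∈ C) (hb : n ^ b ∈ C) : n ∈ C := by
  have h1 : (1 : ℤ) = a * Nat.gcdA a b + b * Nat.gcdB a b := by
    have := Nat.gcd_eq_gcd_ab a b
    rw [hab.gcd_eq_one] at this
    exact_mod_cast this
  have h2 : n = (n ^ a) ^ (Nat.gcdA a b) * (n ^ b) ^ (Nat.gcdB a b) := by
    rw [← zpow_natCast, ← zpow_natCast, ← zpow_mul, ← zpow_mul, ← zpow_add, ← h1, zpow_one]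
  rw [h2]
  exact Subgroup.mul_mem _ (Subgroup.zpow_mem _ ha _) (Subgroup.zpow_mem _ hb _)

/-- A `p`-element normalizing a Sylow `p`-subgroup lies in it. -/
theorem mem_sylow_of_mem_normalizer [Finite G] {p : ℕ} [Fact p.Prime] (P : Sylow p G) (n : G)
    (hn : n ∈ Subgroup.normalizer ((P : Subgroup G) : Set G)) (hp : ∃ k : ℕ, n ^ p ^ k = 1) :
    n ∈ (P : Subgroup G) := by
  have hZ : IsPGroup p (Subgroup.zpowers n) := by
    obtain ⟨k, hk⟩ := hp
    obtain ⟨j, -, hj⟩ := (Nat.dvd_prime_pow (Fact.out : p.Prime)).mp (orderOf_dvd_of_pow_eq_one hk)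
    apply IsPGroup.of_card (n := j)
    rw [Nat.card_zpowers, hj]
  have hZn : Subgroup.zpowers n ≤ Subgroup.normalizer ((P : Subgroup G) : Set G) := by
    rw [Subgroup.zpowers_le]; exact hn
  have hsup : IsPGroup p ((P : Subgroup G) ⊔ Subgroup.zpowers n : Subgroup G) :=
    IsPGroup.to_sup_of_normal_left' P.isPGroup' hZ hZn
  have heq := P.is_maximal' hsup le_sup_left
  rw [← heq]
  exact (le_sup_right : Subgroup.zpowers n ≤ _) (Subgroup.mem_zpowers n)

end Cfsg.Agent.Helper5
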