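import Mathlib
import Cfsg.Prelude
import Cfsg.Agent.Helper5.PResidual
import Cfsg.Agent.Helper5.Misc

/-!
Helper lemmas (helper5): isomorphism-invariant `p`-group functors controlling transfer in all sections;
normal subgroups of index `p`.
-/

set_option autoImplicit false

universe u

namespace Cfsg.Agent.Helper5.TF

open Cfsg Cfsg.Agent.Helper5

/-- A normal subgroup of index `p ^ n`, `n ≠ 0`, lies in a normal subgroup of index `p`. -/
theorem exists_normal_index_prime_of_index_pow {X : Type*} [Group X] [Finite X] {p : ℕ} [Fact p.Prime]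
    (K : Subgroup X) [K.Normal] {n : ℕ} (hn : n ≠ 0) (hK : K.index = p ^ n) :
    ∃ N : Subgroup X, N.Normal ∧ N.index = p := by
  have hp : p.Prime := Fact.out
  have hcard : Nat.card (X ⧸ K) = p ^ n := by rw [← Subgroup.index_eq_card]; exact hK
  obtain ⟨m, rfl⟩ : ∃ m, n = m + 1 := Nat.exists_eq_succ_of_ne_zero hn
  obtain ⟨H, hH⟩ := Sylow.exists_subgroup_card_pow_prime (G := X ⧸ K) p (n := m)
    (by rw [hcard]; exact pow_dvd_pow p (Nat.le_succ m))
  have hidx : H.index = p := by
    have := H.card_mul_index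
    rw [hH, hcard, pow_succ] at this
    exact Nat.eq_of_mul_eq_mul_left (pow_pos hp.pos m) this
  have hHn : H.Normal := by
    apply Subgroup.normal_of_index_eq_minFac_card
    rw [hidx, hcard, Nat.pow_minFac (Nat.succ_ne_zero m), hp.minFac_eq]
  refine ⟨H.comap (QuotientGroup.mk' K), inferInstance, ?_⟩
  rw [Subgroup.index_comap_of_surjective _ (QuotientGroup.mk'_surjective K)]; exact hidx

/-- A `p`-element outside the derived subgroup gives a normal subgroup of index `p`. -/
theorem exists_normal_index_prime_of_not_mem_commutator {X : Type*} [Group X] [Finite X] {p : ℕ}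
    [Fact p.Prime] (t : X) (ht : ∃ k : ℕ, t ^ p ^ k = 1) (htc : t ∉ commutator X) :
    ∃ N : Subgroup X, N.Normal ∧ N.index = p := by
  have hp : p.Prime := Fact.out
  obtain ⟨k, hk⟩ := ht
  have hcpos : Nat.card (Abelianization X) ≠ 0 := Nat.card_pos.ne'
  obtain ⟨v, m, hm, hcm⟩ := Nat.exists_eq_pow_mul_and_not_dvd hcpos p hp.one_lt.ne'
  set ψ : X →* Abelianization X := (powMonoidHom m).comp Abelianization.of with hψ
  have hrange : IsPGroup p ψ.range := by
    rintro ⟨y, x, hxy⟩
    refine ⟨v, ?_⟩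
    apply Subtype.ext
    rw [Subgroup.coe_pow, Subgroup.coe_one]
    show y ^ p ^ v = 1
    rw [← hxy, hψ, MonoidHom.comp_apply, powMonoidHom_apply, ← pow_mul, mul_comm, ← hcm]
    exact pow_card_eq_one'
  obtain ⟨n, hn⟩ := IsPGroup.iff_card.mp hrange
  have hidx : ψ.ker.index = p ^ n := by rw [Subgroup.index_ker, hn]
  apply exists_normal_index_prime_of_index_pow ψ.ker (n := n) ?_ hidx
  rintro rfl
  rw [pow_zero] at hn
  apply htc
  have hker : ψ t = 1 := by
    have h1 : (⟨ψ t, t, rfl⟩ : ψ.range) = 1 := by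
      have := Nat.card_eq_one_iff_unique.mp hn
      exact this.1.elim _ _
    exact congrArg Subtype.val h1
  rw [hψ, MonoidHom.comp_apply, powMonoidHom_apply] at hker
  have hk' : (Abelianization.of t) ^ p ^ k = 1 := by rw [← map_pow, hk, map_one]
  have hcop : Nat.Coprime m (p ^ k) := Nat.Coprime.pow_right k ((hp.coprime_iff_not_dvd.mpr hm).symm)
  have hone : Abelianization.of t = 1 := by
    have h1 := orderOf_dvd_of_pow_eq_one hker
    have h2 := orderOf_dvd_of_pow_eq_one hk'
    have h3 := Nat.dvd_gcd h1 h2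
    rw [hcop.gcd_eq_one, Nat.dvd_one] at h3
    exact orderOf_eq_one_iff.mp h3
  exact (QuotientGroup.eq_one_iff t).mp hone

/-- An isomorphism-invariant functor commutes with injective homomorphisms. -/
theorem inducedFunctor_map {X Y : Type u} [Group X] [Group Y] {p : ℕ}
    (W : ∀ (Q : Type u) [Group Q], Subgroup Q) (hW : Cfsg.IsCharPFunctor.{u} p W)
    (f : X →* Y) (hf : Function.Injective f) (T : Subgroup X) [Finite T] (hT : IsPGroup p T) :
    Cfsg.inducedFunctor W (T.map f) = (Cfsg.inducedFunctor W T).map f := by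
  unfold Cfsg.inducedFunctor
  have h := hW.2 ↥T ↥(T.map f) hT (T.equivMapOfInjective f hf)
  rw [← h, Subgroup.map_map, Subgroup.map_map]
  congr 1

/-- `W` controls transfer in the group `X`. -/
def CT (p : ℕ) (W : ∀ (Q : Type u) [Group Q], Subgroup Q) (X : Type u) [Group X] : Prop :=
  Cfsg.ControlsTransferIn p (Cfsg.inducedFunctor (G := X) W) ⊤

theorem CT.of_equiv {X₁ X₂ : Type u} [Group X₁] [Group X₂] [Finite X₁] {p : ℕ}
    {W : ∀ (Q : Type u) [Group Q], Subgroup Q} (hW : Cfsg.IsCharPFunctor.{u} p W)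
    (e : X₁ ≃* X₂) (h : CT p W X₁) : CT p W X₂ := by
  obtain ⟨T, -, hTp, hidx, heq⟩ := h
  refine ⟨T.map e.toMonoidHom, le_top, hTp.map _, ?_, ?_⟩
  · rw [Subgroup.relIndex_top_right] at hidx ⊢
    have : (T.map e.toMonoidHom).index = T.index := Subgroup.index_map_equiv (H := T) e
    rw [this]; exact hidx
  · have hF := inducedFunctor_map W hW e.toMonoidHom e.injective T hTp
    have h1 := congrArg (Subgroup.map e.toMonoidHom) heq
    simp only [top_inf_eq] at h1 ⊢
    rw [Subgroup.map_inf _ _ _ e.injective, Subgroup.map_inf _ _ _ e.injective, Subgroup.map_commutator,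
      Subgroup.map_commutator, Subgroup.map_equiv_normalizer_eq, ← hF] at h1
    have htop : (⊤ : Subgroup X₁).map e.toMonoidHom = ⊤ := by
      rw [← MonoidHom.range_eq_map]; exact MonoidHom.range_eq_top.mpr e.surjective
    rw [htop] at h1
    exact h1

/-- `Y` is a section of `X`: a homomorphic image of a subgroup. -/
def IsSectionOf (Y X : Type u) [Group Y] [Group X] : Prop :=
  ∃ (K : Subgroup X) (f : ↥K →* Y), Function.Surjective f

/-- `W` controls transfer in every section of `X`. -/
def CTSec (p : ℕ) (W : ∀ (Q : Type u) [Group Q], Subgroup Q) (X : Type u) [Group X] : Prop :=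
  ∀ (Y : Type u) [Group Y], IsSectionOf Y X → CT p W Y

theorem ctSec_of_hctl {G : Type u} [Group G] [Finite G] {p : ℕ}
    {W : ∀ (Q : Type u) [Group Q], Subgroup Q} (hW : Cfsg.IsCharPFunctor.{u} p W)
    (hctl : ∀ (K R : Subgroup G) [hR : (R.subgroupOf K).Normal],
      Cfsg.ControlsTransferIn p (Cfsg.inducedFunctor (G := (↥K ⧸ R.subgroupOf K)) W) ⊤) :
    CTSec p W G := by
  intro Y _ ⟨K, f, hf⟩
  set R : Subgroup G := f.ker.map K.subtype with hR
  have hRK : R.subgroupOf K = f.ker :=
    Subgroup.comap_map_eq_self_of_injective K.subtype_injective _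
  haveI : (R.subgroupOf K).Normal := by rw [hRK]; infer_instance
  have h : CT p W (↥K ⧸ R.subgroupOf K) := hctl K R
  exact CT.of_equiv hW ((QuotientGroup.quotientMulEquivOfEq hRK).trans
    (QuotientGroup.quotientKerEquivOfSurjective f hf)) h

theorem CTSec.self {X : Type u} [Group X] {p : ℕ} {W : ∀ (Q : Type u) [Group Q], Subgroup Q}
    (h : CTSec p W X) : CT p W X :=
  h X ⟨⊤, (Subgroup.topEquiv : ↥(⊤ : Subgroup X) ≃* X).toMonoidHom,
    (Subgroup.topEquiv : ↥(⊤ : Subgroup X) ≃* X).surjective⟩

theorem CTSec.subgroup {X : Type u} [Group X] {p : ℕ} {W : ∀ (Q : Type u) [Group Q], Subgroup Q}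
    (h : CTSec p W X) (N : Subgroup X) : CTSec p W ↥N := by
  intro Y _ ⟨K', f', hf'⟩
  apply h Y
  refine ⟨K'.map N.subtype,
    f'.comp (K'.equivMapOfInjective N.subtype N.subtype_injective).symm.toMonoidHom, ?_⟩
  exact hf'.comp (MulEquiv.surjective _)

theorem CTSec.quotient {X : Type u} [Group X] {p : ℕ} {W : ∀ (Q : Type u) [Group Q], Subgroup Q}
    (h : CTSec p W X) (M : Subgroup X) [M.Normal] : CTSec p W (X ⧸ M) := by
  intro Y _ ⟨K', f', hf'⟩
  apply h Y
  refine ⟨K'.comap (QuotientGroup.mk' M), f'.comp ((QuotientGroup.mk' M).subgroupComap K'), ?_⟩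
  exact hf'.comp ((QuotientGroup.mk' M).subgroupComap_surjective_of_surjective K'
    (QuotientGroup.mk'_surjective M))

/-- The Sylow hypothesis: a nontrivial Sylow `p`-subgroup all of whose normalizing `p'`-elements centralize it. -/
def Good (p : ℕ) (X : Type*) [Group X] (S : Subgroup X) : Prop :=
  S ≠ ⊥ ∧ ∀ g ∈ Subgroup.normalizer (S : Set X), (orderOf g).Coprime p →
    g ∈ Subgroup.centralizer (S : Set X)

theorem Good.conj {p : ℕ} {X : Type*} [Group X] {S : Subgroup X} (h : Good p X S) (c : X) :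
    Good p X (S.map (MulAut.conj c).toMonoidHom) := by
  obtain ⟨h1, h2⟩ := h
  refine ⟨?_, ?_⟩
  · intro hb
    apply h1
    rw [eq_bot_iff]
    intro s hs
    have : c * s * c⁻¹ ∈ S.map (MulAut.conj c).toMonoidHom := ⟨s, hs, rfl⟩
    rw [hb, Subgroup.mem_bot] at this
    rw [Subgroup.mem_bot]
    have h3 : s = c⁻¹ * (c * s * c⁻¹) * c := by group
    rw [h3, this]; group
  · intro g hg hcop
    rw [← Subgroup.map_equiv_normalizer_eq] at hg
    obtain ⟨g', hg', rfl⟩ := hg
    have hord : orderOf ((MulAut.conj c).toMonoidHom g') = orderOf g' :=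
      MulEquiv.orderOf_eq (MulAut.conj c) g'
    rw [hord] at hcop
    have hc := h2 g' hg' hcop
    rw [Subgroup.mem_centralizer_iff]
    rintro _ ⟨s, hs, rfl⟩
    have := (Subgroup.mem_centralizer_iff.mp hc) s hs
    simp only [MulEquiv.coe_toMonoidHom]
    rw [← map_mul, ← map_mul, this]


/-- A `p'`-element of a quotient lifts to a `p'`-element. -/
theorem exists_coprime_lift' {X : Type*} [Group X] [Finite X] {H : Type*} [Group H] {p : ℕ}
    [hp : Fact p.Prime] (f : X →* H) (hf : Function.Surjective f) (y : H)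
    (hy : (orderOf y).Coprime p) : ∃ x : X, (orderOf x).Coprime p ∧ f x = y := by
  obtain ⟨x₀, rfl⟩ := hf y
  have hpos : orderOf x₀ ≠ 0 := (orderOf_pos x₀).ne'
  obtain ⟨a, n', hn', hn⟩ := Nat.exists_eq_pow_mul_and_not_dvd hpos p hp.out.one_lt.ne'
  set m := orderOf (f x₀) with hm
  have hcop : Nat.Coprime (p ^ a) m := Nat.Coprime.pow_left a hy.symm
  by_cases hm1 : m = 1
  · refine ⟨1, by simp, ?_⟩
    rw [map_one]
    exact (orderOf_eq_one_iff.mp hm1).symm
  have hmpos : 0 < m := Nat.pos_of_dvd_of_pos (orderOf_map_dvd f x₀) (orderOf_pos x₀)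
  have hm2 : 1 < m := by omega
  obtain ⟨c, -, hc⟩ := Nat.exists_mul_mod_eq_one_of_coprime hcop hm2
  refine ⟨x₀ ^ (p ^ a * c), ?_, ?_⟩
  · have h1 : (x₀ ^ (p ^ a * c)) ^ n' = 1 := by
      rw [← pow_mul, mul_comm (p ^ a) c, mul_assoc, ← hn, pow_mul', pow_orderOf_eq_one, one_pow]
    exact Nat.Coprime.coprime_dvd_left (orderOf_dvd_of_pow_eq_one h1)
      ((Nat.Prime.coprime_iff_not_dvd hp.out).mpr hn').symm
  · rw [map_pow, ← pow_mod_orderOf, ← hm, hc, pow_one]

theorem good_subgroup {p : ℕ} [Fact p.Prime] {X : Type*} [Group X] [Finite X]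
    (hgood : ∀ S : Sylow p X, Good p X (S : Subgroup X)) (N : Subgroup X) (hN : ¬ p ∣ N.index) :
    ∀ Q : Sylow p ↥N, Good p ↥N (Q : Subgroup ↥N) := by
  intro Q
  have hQp : IsPGroup p ↥((Q : Subgroup ↥N).map N.subtype) := Q.2.map _
  have hidx : ¬ p ∣ ((Q : Subgroup ↥N).map N.subtype).index := by
    rw [Subgroup.index_map_of_injective _ N.subtype_injective, Subgroup.range_subtype]
    intro h
    rcases (Nat.Prime.dvd_mul Fact.out).mp h with h | h
    · exact Q.not_dvd_index h
    · exact hN h
  obtain ⟨h1, h2⟩ := hgood (hQp.toSylow hidx)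
  refine ⟨?_, ?_⟩
  · intro hb
    apply h1
    show (Q : Subgroup ↥N).map N.subtype = ⊥
    rw [hb, Subgroup.map_bot]
  · intro g hg hcop
    have hg' : (g : X) ∈ Subgroup.normalizer
        (((Q : Subgroup ↥N).map N.subtype : Subgroup X) : Set X) :=
      Subgroup.le_normalizer_map N.subtype ⟨g, hg, rfl⟩
    have hc := h2 (g : X) hg' (by rw [Subgroup.orderOf_coe]; exact hcop)
    rw [Subgroup.mem_centralizer_iff] at hc ⊢
    intro s hs
    apply Subtype.ext
    have := hc (s : X) ⟨s, hs, rfl⟩
    simpa using this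

theorem good_quotient {p : ℕ} [Fact p.Prime] {X : Type*} [Group X] [Finite X]
    (hgood : ∀ S : Sylow p X, Good p X (S : Subgroup X)) (M : Subgroup X) [M.Normal]
    (hM : ∀ S : Sylow p X, M < (S : Subgroup X)) :
    ∀ Q : Sylow p (X ⧸ M), Good p (X ⧸ M) (Q : Subgroup (X ⧸ M)) := by
  intro Qb
  obtain ⟨Q, rfl⟩ := Sylow.mapSurjective_surjective (QuotientGroup.mk'_surjective M) p Qb
  obtain ⟨h1, h2⟩ := hgood Q
  have hMQ := hM Q
  refine ⟨?_, ?_⟩
  · intro hb
    have hb' : (Q : Subgroup X).map (QuotientGroup.mk' M) = ⊥ := hb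
    have : (Q : Subgroup X) ≤ M := by
      rw [← QuotientGroup.ker_mk' M, ← Subgroup.map_eq_bot_iff]
      exact hb'
    exact absurd (lt_of_lt_of_le hMQ this) (lt_irrefl _)
  · intro gb hgb hcop
    obtain ⟨g, hgcop, rfl⟩ := exists_coprime_lift' (QuotientGroup.mk' M)
      (QuotientGroup.mk'_surjective M) gb hcop
    have hgN : g ∈ Subgroup.normalizer ((Q : Subgroup X) : Set X) := by
      have hc : ((Q : Subgroup X).map (QuotientGroup.mk' M)).comap (QuotientGroup.mk' M) = Q := by
        rw [Subgroup.comap_map_eq, QuotientGroup.ker_mk']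
        exact sup_eq_left.mpr hMQ.le
      have := Subgroup.comap_normalizer_eq_of_surjective
        ((Q : Subgroup X).map (QuotientGroup.mk' M)) (QuotientGroup.mk'_surjective M)
      rw [hc] at this
      rw [← this]
      exact hgb
    have hcg := h2 g hgN hgcop
    rw [Subgroup.mem_centralizer_iff] at hcg ⊢
    rintro _ ⟨s, hs, rfl⟩
    have := hcg s hs
    show QuotientGroup.mk' M s * QuotientGroup.mk' M g = QuotientGroup.mk' M g * QuotientGroup.mk' M s
    rw [← map_mul, ← map_mul, this]


/-- Main induction: if `W` controls transfer in every section of `X` and every Sylow `p`-subgroup of `X`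
is nontrivial with `p`-group automizer, then `X` has a normal subgroup of index `p`. -/
theorem main {p : ℕ} [Fact p.Prime] (W : ∀ (Q : Type u) [Group Q], Subgroup Q)
    (hW : Cfsg.IsCharPFunctor.{u} p W) :
    ∀ (n : ℕ) (X : Type u) [Group X] [Finite X], Nat.card X = n → CTSec p W X →
      (∀ S : Sylow p X, Good p X (S : Subgroup X)) → ∃ N : Subgroup X, N.Normal ∧ N.index = p := by
  have hp : p.Prime := Fact.out
  intro n
  induction n using Nat.strong_induction_on with
  | _ n ih =>
  intro X _ _ hcard hsec hgood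
  obtain ⟨T, -, hTp, hidx, heq⟩ := hsec.self
  rw [Subgroup.relIndex_top_right] at hidx
  simp only [top_inf_eq] at heq
  obtain ⟨hTne, hTN⟩ := hgood (hTp.toSylow hidx)
  change T ≠ ⊥ at hTne
  change ∀ g ∈ Subgroup.normalizer (T : Set X), (orderOf g).Coprime p →
    g ∈ Subgroup.centralizer (T : Set X) at hTN
  set Wt : Subgroup X := Cfsg.inducedFunctor W T with hWt
  have hWtT : Wt ≤ T := by
    rw [hWt]; unfold Cfsg.inducedFunctor
    exact Subgroup.map_subtype_le _
  have hWtne : Wt ≠ ⊥ := by
    have hnt : Nontrivial ↥T := (Subgroup.nontrivial_iff_ne_bot T).mpr hTne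
    have h := hW.1 ↥T hTp hnt
    intro hb
    apply h
    rw [hWt] at hb; unfold Cfsg.inducedFunctor at hb
    exact (Subgroup.map_eq_bot_iff_of_injective _ T.subtype_injective).mp hb
  have hNN : Subgroup.normalizer (T : Set X) ≤ Subgroup.normalizer (Wt : Set X) := by
    intro g hg
    rw [mem_normalizer_iff_map_conj] at hg ⊢
    have hF := inducedFunctor_map W hW (MulAut.conj g).toMonoidHom (MulAut.conj g).injective T hTp
    rw [hg] at hF
    exact hF.symm
  have hTle : T ≤ Subgroup.normalizer (Wt : Set X) := le_trans Subgroup.le_normalizer hNN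
  by_cases hWn : Subgroup.normalizer (Wt : Set X) = ⊤
  · haveI hWnorm : Wt.Normal := Subgroup.normalizer_eq_top_iff.mp hWn
    by_cases hWT : Wt = T
    · -- `T` is normal
      haveI hTnorm : T.Normal := hWT ▸ hWnorm
      have hTtop : Subgroup.normalizer (T : Set X) = ⊤ := Subgroup.normalizer_eq_top_iff.mpr hTnorm
      have hres : Cfsg.pResidual p X ≤ Subgroup.centralizer (T : Set X) := by
        unfold Cfsg.pResidual
        rw [Subgroup.closure_le]
        intro g hg
        exact hTN g (by rw [hTtop]; trivial) hg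
      by_cases hrt : Cfsg.pResidual p X = ⊤
      · have hcen : Subgroup.normalizer (T : Set X) ≤ Subgroup.centralizer (T : Set X) := by
          intro g _; exact hres (hrt ▸ Subgroup.mem_top g)
        have hcomp := MonoidHom.ker_transferSylow_isComplement' (hTp.toSylow hidx) hcen
        have hker : (MonoidHom.transferSylow (hTp.toSylow hidx) hcen).ker.index = Nat.card T :=
          hcomp.symm.index_eq_card
        obtain ⟨k, hk⟩ := IsPGroup.iff_card.mp hTp
        apply exists_normal_index_prime_of_index_pow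
          (MonoidHom.transferSylow (hTp.toSylow hidx) hcen).ker (n := k) ?_ (hker.trans hk)
        rintro rfl
        rw [pow_zero] at hk
        exact hTne ((Subgroup.card_eq_one).mp hk)
      · obtain ⟨k, hk⟩ := index_pResidual (G := X) p
        apply exists_normal_index_prime_of_index_pow (Cfsg.pResidual p X) (n := k) ?_ hk
        rintro rfl
        rw [pow_zero] at hk
        exact hrt (Subgroup.index_eq_one.mp hk)
    · -- pass to the quotient by `W(T)`
      have hlt : ∀ S : Sylow p X, Wt < (S : Subgroup X) := by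
        intro S
        obtain ⟨k, hk⟩ := sylow_exists_map_conj_eq (hTp.toSylow hidx) S
        have hk' : T.map (MulAut.conj k).toMonoidHom = (S : Subgroup X) := hk
        have hWk : Wt.map (MulAut.conj k).toMonoidHom = Wt := by
          rw [← mem_normalizer_iff_map_conj, hWn]; trivial
        rw [← hk', ← hWk]
        exact (Subgroup.map_lt_map_iff_of_injective (MulAut.conj k).injective).mpr
          (lt_of_le_of_ne hWtT hWT)
      have hgq := good_quotient hgood Wt hlt
      have hcq : Nat.card (X ⧸ Wt) < n := by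
        rw [← hcard, ← Subgroup.index_eq_card, ← Wt.card_mul_index]
        have h1 : 1 < Nat.card Wt := (Subgroup.one_lt_card_iff_ne_bot Wt).mpr hWtne
        have h2 : 0 < Wt.index := Nat.pos_of_ne_zero Subgroup.index_ne_zero_of_finite
        nlinarith
      obtain ⟨N₁, hN₁n, hN₁i⟩ := ih _ hcq (X ⧸ Wt) rfl (hsec.quotient Wt) hgq
      haveI := hN₁n
      refine ⟨N₁.comap (QuotientGroup.mk' Wt), inferInstance, ?_⟩
      rw [Subgroup.index_comap_of_surjective _ (QuotientGroup.mk'_surjective Wt)]; exact hN₁i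
  · -- the normalizer of `W(T)` is proper
    set N : Subgroup X := Subgroup.normalizer (Wt : Set X) with hN
    have hNidx : ¬ p ∣ N.index := fun h => hidx (dvd_trans h (Subgroup.index_dvd_of_le hTle))
    have hgN := good_subgroup hgood N hNidx
    have hcN : Nat.card ↥N < n := by
      rw [← hcard]
      apply lt_of_le_of_ne (Subgroup.card_le_card_group N)
      intro h
      exact hWn ((Subgroup.card_eq_iff_eq_top N).mp h)
    obtain ⟨N₁, hN₁n, hN₁i⟩ := ih _ hcN ↥N rfl (hsec.subgroup N) hgN
    haveI := hN₁n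
    have hcomm : commutator ↥N ≤ N₁ := by
      have hcard' : Nat.card (↥N ⧸ N₁) = p := by rw [← Subgroup.index_eq_card]; exact hN₁i
      haveI : IsCyclic (↥N ⧸ N₁) := isCyclic_of_prime_card hcard'
      have hcm : IsMulCommutative (↥N ⧸ N₁) := ⟨⟨fun a b => IsCyclic.commGroup.mul_comm a b⟩⟩
      exact (Subgroup.Normal.quotient_commutative_iff_commutator_le).mp hcm
    have hex : ∃ t ∈ T, t ∉ ⁅N, N⁆ := by
      by_contra hcon
      push Not at hcon
      have hTsub : T.subgroupOf N ≤ N₁ := by
        intro x hx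
        apply hcomm
        have hx' : (x : X) ∈ ⁅N, N⁆ := hcon _ hx
        rw [← Subgroup.map_subtype_commutator] at hx'
        obtain ⟨y, hy, hyx⟩ := hx'
        have : y = x := Subtype.ext hyx
        rw [← this]; exact hy
      have h1 : N₁.index ∣ (T.subgroupOf N).index := Subgroup.index_dvd_of_le hTsub
      have h2 : (T.subgroupOf N).index ∣ T.index := Dvd.intro _ (Subgroup.relIndex_mul_index hTle)
      rw [hN₁i] at h1
      exact hidx (dvd_trans h1 h2)
    obtain ⟨t, htT, htc⟩ := hex
    apply exists_normal_index_prime_of_not_mem_commutator t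
    · obtain ⟨k, hk⟩ := hTp ⟨t, htT⟩
      exact ⟨k, by simpa using congrArg Subtype.val hk⟩
    · intro hmem
      apply htc
      have : t ∈ T ⊓ ⁅(⊤ : Subgroup X), ⊤⁆ := ⟨htT, by rw [← commutator_def]; exact hmem⟩
      rw [heq] at this
      exact this.2

end Cfsg.Agent.Helper5.TF
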