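import Mathlib
import Cfsg.Prelude.Def_Transfer
import Cfsg.Agent.Helper5.Basic
import Cfsg.Agent.Helper5.PResidual

/-!
Helper lemmas (helper5): criteria for a normal `p`-complement via `O^p(G)` and Burnside's transfer theorem.
-/

set_option autoImplicit false

namespace Cfsg.Agent.Helper5

variable {H : Type*} [Group H]

/-- If `O^p(H)` has order prime to `p`, it is a normal `p`-complement. -/
theorem hasNormalPComplement_of_coprime_pResidual [Finite H] {p : ℕ} [Fact p.Prime]
    (h : (Nat.card (Cfsg.pResidual p H)).Coprime p) : Cfsg.HasNormalPComplement p H := by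
  have S : Sylow p H := default
  refine ⟨S, Cfsg.pResidual p H, inferInstance, ?_⟩
  apply Subgroup.isComplement'_of_disjoint_and_mul_eq_univ
  · apply Subgroup.disjoint_of_coprime_natCard
    obtain ⟨n, hn⟩ := IsPGroup.iff_card.mp S.isPGroup'
    rw [hn]
    exact Nat.Coprime.pow_right n h
  · have h1 := pResidual_sup_sylow (G := H) S
    have h2 : ((Cfsg.pResidual p H ⊔ (S : Subgroup H) : Subgroup H) : Set H) = Set.univ := by
      rw [h1]; rfl
    rw [Subgroup.normal_mul] at h2
    exact h2

/-- If every `p`-subgroup of `O^p(H)` is central in `O^p(H)`, then `O^p(H)` has order prime to `p`. -/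
theorem coprime_card_pResidual_of_central [Finite H] {p : ℕ} [Fact p.Prime]
    (hcen : ∀ Q : Subgroup H, IsPGroup p Q → Q ≤ Cfsg.pResidual p H →
      Q ≤ Subgroup.centralizer (Cfsg.pResidual p H : Set H)) :
    (Nat.card (Cfsg.pResidual p H)).Coprime p := by
  set R := Cfsg.pResidual p H with hR
  have P : Sylow p ↥R := default
  have hP : Subgroup.normalizer ((P : Subgroup ↥R) : Set ↥R) ≤ Subgroup.centralizer ((P : Subgroup ↥R) : Set ↥R) := by
    intro x _
    rw [Subgroup.mem_centralizer_iff]
    intro y hy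
    have h1 : (P : Subgroup ↥R).map R.subtype ≤ Subgroup.centralizer (R : Set H) := by
      apply hcen _ (P.isPGroup'.map _)
      rintro _ ⟨z, -, rfl⟩
      exact z.2
    have h2 := (Subgroup.mem_centralizer_iff.mp (h1 ⟨y, hy, rfl⟩)) (x : H) x.2
    apply Subtype.ext
    simpa using h2.symm
  have hK := MonoidHom.ker_transferSylow_isComplement' P hP
  set f := MonoidHom.transferSylow P hP with hf
  have hker : ∀ x : ↥R, (orderOf x).Coprime p → x ∈ f.ker := by
    intro x hx
    rw [MonoidHom.mem_ker]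
    have h1 : orderOf (f x) ∣ orderOf x := orderOf_map_dvd f x
    obtain ⟨k, hk⟩ := (IsPGroup.iff_orderOf.mp P.isPGroup') (f x)
    have h2 : (orderOf x).Coprime (p ^ k) := Nat.Coprime.pow_right k hx
    have h3 := Nat.dvd_gcd h1 (dvd_of_eq hk)
    rw [h2.gcd_eq_one] at h3
    exact orderOf_eq_one_iff.mp (Nat.dvd_one.mp h3)
  have htop : f.ker = ⊤ := by
    have h1 : R ≤ f.ker.map R.subtype := by
      refine (Subgroup.closure_le (K := f.ker.map R.subtype)).mpr ?_
      intro g hg
      have hgR : g ∈ R := mem_pResidual_of_coprime hg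
      exact ⟨⟨g, hgR⟩, hker ⟨g, hgR⟩ (by rw [Subgroup.orderOf_mk]; exact hg), rfl⟩
    rw [eq_top_iff]
    intro x _
    obtain ⟨y, hy, hyx⟩ := h1 x.2
    have : y = x := Subtype.ext hyx
    rwa [← this]
  have hdisj := hK.disjoint
  rw [htop, top_disjoint] at hdisj
  have hnd : ¬ p ∣ Nat.card ↥R := fun hd => P.ne_bot_of_dvd_card hd hdisj
  rw [Nat.coprime_comm]
  exact (Nat.Prime.coprime_iff_not_dvd Fact.out).mpr hnd

/-- If all `p'`-elements of `H` centralize the normal subgroup `T`, and `C_S(T) ≤ T` for a Sylow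
`p`-subgroup `S`, then `H` has a normal `p`-complement. -/
theorem hasNormalPComplement_of_centralizer [Finite H] {p : ℕ} [Fact p.Prime] (T : Subgroup H) [hT : T.Normal]
    (S : Sylow p H) (hC : (S : Subgroup H) ⊓ Subgroup.centralizer (T : Set H) ≤ T)
    (hN : ∀ y : H, (orderOf y).Coprime p → y ∈ Subgroup.centralizer (T : Set H)) :
    Cfsg.HasNormalPComplement p H := by
  apply hasNormalPComplement_of_coprime_pResidual
  apply coprime_card_pResidual_of_central
  have hRC : Cfsg.pResidual p H ≤ Subgroup.centralizer (T : Set H) := by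
    unfold Cfsg.pResidual
    rw [Subgroup.closure_le]
    intro g hg
    exact hN g hg
  have hCn : (Subgroup.centralizer (T : Set H)).Normal := Subgroup.normal_centralizer
  intro Q hQ hQR
  have hQT : Q ≤ T := by
    obtain ⟨k, hk⟩ := exists_conj_le_sylow S Q hQ
    intro x hx
    have h1 : k * x * k⁻¹ ∈ T := hC ⟨hk x hx, hCn.conj_mem x (hRC (hQR hx)) k⟩
    have h2 := hT.conj_mem _ h1 k⁻¹
    have h3 : k⁻¹ * (k * x * k⁻¹) * k⁻¹⁻¹ = x := by group
    rwa [h3] at h2
  intro x hx
  rw [Subgroup.mem_centralizer_iff]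
  intro r hr
  exact ((Subgroup.mem_centralizer_iff.mp (hRC hr)) x (hQT hx)).symm

end Cfsg.Agent.Helper5
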