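import Mathlib

/-!
Helper lemmas (helper5): the order of a product set `QR` of two subgroups.
-/

set_option autoImplicit false

namespace Cfsg.Agent.Helper5

open scoped Pointwise

variable {G : Type*} [Group G]

/-- `|QR| · |Q ∩ R| = |Q| · |R|` for subgroups `Q`, `R`. -/
theorem card_mul_set_mul_card_inf (Q R : Subgroup G) :
    Nat.card ((Q : Set G) * (R : Set G) : Set G) * Nat.card ↥(Q ⊓ R) = Nat.card Q * Nat.card R := by
  classical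
  have hdec : ∀ x : ((Q : Set G) * (R : Set G) : Set G), ∃ q ∈ Q, ∃ r ∈ R, q * r = (x : G) := by
    intro x
    obtain ⟨q, hq, r, hr, h⟩ := Set.mem_mul.mp x.2
    exact ⟨q, hq, r, hr, h⟩
  choose q₀ hq₀ r₀ hr₀ hqr using hdec
  rw [← Nat.card_prod, ← Nat.card_prod]
  symm
  apply Nat.card_congr
  refine
    { toFun := fun qr => (⟨(qr.1 : G) * (qr.2 : G), Set.mul_mem_mul qr.1.2 qr.2.2⟩,
        ⟨(q₀ ⟨(qr.1 : G) * (qr.2 : G), Set.mul_mem_mul qr.1.2 qr.2.2⟩)⁻¹ * (qr.1 : G), ?_⟩)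
      invFun := fun xd => (⟨q₀ xd.1 * (xd.2 : G), Q.mul_mem (hq₀ xd.1) xd.2.2.1⟩,
        ⟨(xd.2 : G)⁻¹ * r₀ xd.1, R.mul_mem (R.inv_mem xd.2.2.2) (hr₀ xd.1)⟩)
      left_inv := ?_
      right_inv := ?_ }
  · set x : ((Q : Set G) * (R : Set G) : Set G) := ⟨(qr.1 : G) * (qr.2 : G), Set.mul_mem_mul qr.1.2 qr.2.2⟩
    refine ⟨Q.mul_mem (Q.inv_mem (hq₀ x)) qr.1.2, ?_⟩
    have h1 : q₀ x * r₀ x = (qr.1 : G) * (qr.2 : G) := hqr x
    have h2 : (q₀ x)⁻¹ * (qr.1 : G) = r₀ x * (qr.2 : G)⁻¹ := by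
      calc (q₀ x)⁻¹ * (qr.1 : G) = (q₀ x)⁻¹ * ((qr.1 : G) * (qr.2 : G)) * (qr.2 : G)⁻¹ := by group
        _ = (q₀ x)⁻¹ * (q₀ x * r₀ x) * (qr.2 : G)⁻¹ := by rw [h1]
        _ = r₀ x * (qr.2 : G)⁻¹ := by group
    rw [h2]
    exact R.mul_mem (hr₀ x) (R.inv_mem qr.2.2)
  · rintro ⟨q, r⟩
    set x : ((Q : Set G) * (R : Set G) : Set G) := ⟨(q : G) * (r : G), Set.mul_mem_mul q.2 r.2⟩
    have h1 : q₀ x * r₀ x = (q : G) * (r : G) := hqr x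
    apply Prod.ext
    · apply Subtype.ext
      show q₀ x * ((q₀ x)⁻¹ * (q : G)) = q
      group
    · apply Subtype.ext
      show ((q₀ x)⁻¹ * (q : G))⁻¹ * r₀ x = r
      calc ((q₀ x)⁻¹ * (q : G))⁻¹ * r₀ x = (q : G)⁻¹ * (q₀ x * r₀ x) := by group
        _ = (q : G)⁻¹ * ((q : G) * (r : G)) := by rw [h1]
        _ = r := by group
  · rintro ⟨x, d⟩
    have h1 : q₀ x * r₀ x = (x : G) := hqr x
    have hx : (⟨q₀ x * (d : G) * ((d : G)⁻¹ * r₀ x), Set.mul_mem_mul (Q.mul_mem (hq₀ x) d.2.1)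
        (R.mul_mem (R.inv_mem d.2.2) (hr₀ x))⟩ : ((Q : Set G) * (R : Set G) : Set G)) = x := by
      apply Subtype.ext
      show q₀ x * (d : G) * ((d : G)⁻¹ * r₀ x) = x
      rw [← h1]; group
    apply Prod.ext
    · exact hx
    · apply Subtype.ext
      show (q₀ ⟨q₀ x * (d : G) * ((d : G)⁻¹ * r₀ x), _⟩)⁻¹ * (q₀ x * (d : G)) = d
      rw [hx]
      group

end Cfsg.Agent.Helper5
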