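import Mathlib
import Cfsg.Prelude.Def_PLocal
import Cfsg.Prelude.Def_TwoFusion
import Cfsg.Agent.Lead.ZJ
import Cfsg.Agent.Lead.ZJ2

/-!
Helper lemmas (helper5): Glauberman's ZJ-theorem for a strongly closed subgroup `D` of a Sylow
`p`-subgroup `P` (adaptation of `Cfsg.Agent.Lead.ZJ`, which treats `D = P`).
-/

set_option autoImplicit false

namespace Cfsg.Agent.Helper5.ZJC

open Cfsg.Agent.Lead.Alp Cfsg.Agent.Lead.GR Cfsg.Agent.Lead.ZJ

variable {G : Type*} [Group G]

/-- A strongly closed subgroup of `P` is normalized by `P`. -/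
theorem le_normalizer_of_stronglyClosed [Finite G] {D P : Subgroup G} (hD : Cfsg.IsStronglyClosed D P) :
    P ≤ Subgroup.normalizer (D : Set G) := by
  intro g hg
  apply mem_normalizer_of_cj_eq_self
  apply le_antisymm
  · intro y hy
    rw [mem_cj] at hy
    have h1 : g⁻¹ * (g * y * g⁻¹) * g⁻¹⁻¹ ∈ D :=
      hD.2 _ hy g⁻¹ (P.mul_mem (P.mul_mem (P.inv_mem hg) (hD.1 hy)) (by rw [inv_inv]; exact hg))
    have e : g⁻¹ * (g * y * g⁻¹) * g⁻¹⁻¹ = y := by group
    rwa [e] at h1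
  · intro y hy
    rw [mem_cj]
    exact hD.2 _ hy g (P.mul_mem (P.mul_mem hg (hD.1 hy)) (P.inv_mem hg))

/-- The normalizer of `P ⊓ X` (`X` normal) normalizes `D ⊓ X` for `D` strongly closed in `P`. -/
theorem normalizer_inf_le_of_stronglyClosed [Finite G] {D P X : Subgroup G} [hX : X.Normal]
    (hD : Cfsg.IsStronglyClosed D P) :
    Subgroup.normalizer ((P ⊓ X : Subgroup G) : Set G) ≤
      Subgroup.normalizer ((D ⊓ X : Subgroup G) : Set G) := by
  have key : ∀ g ∈ Subgroup.normalizer ((P ⊓ X : Subgroup G) : Set G), ∀ y ∈ D ⊓ X,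
      g * y * g⁻¹ ∈ D ⊓ X := by
    intro g hg y hy
    obtain ⟨hyD, hyX⟩ := Subgroup.mem_inf.mp hy
    have h1 : g * y * g⁻¹ ∈ P ⊓ X :=
      (Subgroup.mem_normalizer_iff.mp hg y).mp (Subgroup.mem_inf.mpr ⟨hD.1 hyD, hyX⟩)
    exact Subgroup.mem_inf.mpr ⟨hD.2 y hyD g (Subgroup.mem_inf.mp h1).1, (Subgroup.mem_inf.mp h1).2⟩
  intro g hg
  rw [Subgroup.mem_normalizer_iff]
  intro y
  constructor
  · exact key g hg y
  · intro hy
    have h1 := key g⁻¹ (Subgroup.inv_mem _ hg) _ hy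
    have e : g⁻¹ * (g * y * g⁻¹) * g⁻¹⁻¹ = y := by group
    rwa [e] at h1

theorem replClass' [Finite G] (𝔤 : Good G) {p : ℕ} (hp2 : p ≠ 2) {P B D : Subgroup G} (hBP : B ≤ P)
    (hDP : D ≤ P) (hPD : P ≤ Subgroup.normalizer (D : Set G)) :
    ReplClass p P B (𝔤.fam D) where
  le := fun A hA => hA.1.trans hDP
  comm := fun A hA => 𝔤.comm A hA.2.1
  closed := fun A hA b hb A' hle hcomm hcard hexp => by
    refine ⟨hle.trans (sup_le hA.1 ?_), 𝔤.repl A A' hA.2.1 hcomm hcard (hexp hp2),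
      fun A'' h1 h2 => hcard ▸ hA.2.2 A'' h1 h2⟩
    intro y hy
    rw [mem_cj] at hy
    have hb' : b⁻¹ ∈ Subgroup.normalizer (D : Set G) := Subgroup.inv_mem _ (hPD (hBP hb))
    have h1 := (Subgroup.mem_normalizer_iff.mp hb' _).mp (hA.1 hy)
    have e : b⁻¹ * (b * y * b⁻¹) * b⁻¹⁻¹ = y := by group
    rwa [e] at h1

variable [Finite G] {p : ℕ} [Fact p.Prime]

/-- The core of the ZJ-theorem for a strongly closed `D`: `I(D) ∩ B` is normal in `G` for every
normal `p`-subgroup `B`. -/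
theorem inter_inf_normal' (𝔤 : Good G) (hp2 : p ≠ 2) (P : Sylow p G) (D : Subgroup G)
    (hD : Cfsg.IsStronglyClosed D (P : Subgroup G))
    (hst : ∀ (V : Subgroup G) [V.Normal], IsPGroup p V → Cfsg.IsPStableOn p V) :
    ∀ B : Subgroup G, B.Normal → IsPGroup p B → (𝔤.inter D ⊓ B).Normal := by
  have hPD : (P : Subgroup G) ≤ Subgroup.normalizer (D : Set G) := le_normalizer_of_stronglyClosed hD
  suffices H : ∀ n : ℕ, ∀ B : Subgroup G, B.Normal → IsPGroup p B → Nat.card B = n →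
      (𝔤.inter D ⊓ B).Normal from fun B hBn hBp => H _ B hBn hBp rfl
  intro n
  induction n using Nat.strong_induction_on with
  | _ n ih =>
  intro B hBn hBp hcard
  haveI := hBn
  obtain ⟨Z, hZ⟩ : ∃ Z, Z = 𝔤.inter D := ⟨_, rfl⟩
  rw [← hZ]
  have hBP : B ≤ P := le_sylow_of_normal P hBn hBp
  by_cases hB1 : Subgroup.normalClosure ((Z ⊓ B : Subgroup G) : Set G) = B
  swap
  · have hB₁le : Subgroup.normalClosure ((Z ⊓ B : Subgroup G) : Set G) ≤ B :=
      Subgroup.normalClosure_le_normal inf_le_right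
    have hlt : Subgroup.normalClosure ((Z ⊓ B : Subgroup G) : Set G) < B := lt_of_le_of_ne hB₁le hB1
    have := ih _ (hcard ▸ Cfsg.Agent.Lead.card_lt_of_lt hlt) _ Subgroup.normalClosure_normal
      (hBp.to_le hB₁le) rfl
    have heq : Z ⊓ Subgroup.normalClosure ((Z ⊓ B : Subgroup G) : Set G) = Z ⊓ B :=
      le_antisymm (inf_le_inf_left _ hB₁le) (le_inf inf_le_left Subgroup.le_normalClosure)
    rw [← hZ, heq] at this
    exact this
  · by_cases hBbot : B = ⊥
    · subst hBbot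
      rw [inf_bot_eq]
      infer_instance
    · have hBB_lt : ⁅B, B⁆ < B :=
        Helper1.commutator_lt_of_isPGroup hBp hBp Subgroup.le_normalizer hBbot
      have hYn : (Z ⊓ ⁅B, B⁆).Normal := by
        rw [hZ]
        exact ih _ (hcard ▸ Cfsg.Agent.Lead.card_lt_of_lt hBB_lt) ⁅B, B⁆ inferInstance
          (hBp.to_le hBB_lt.le) rfl
      have hPZ : (P : Subgroup G) ≤ Subgroup.normalizer (Z : Set G) := by
        rw [hZ]
        exact hPD.trans (Good.normalizer_le_normalizer_inter _)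
      have h1 : ∀ z ∈ Z ⊓ B, ∀ y ∈ B, z * y * z⁻¹ * y⁻¹ ∈ Z ⊓ ⁅B, B⁆ := by
        intro z hz y hy
        obtain ⟨hzZ, hzB⟩ := Subgroup.mem_inf.mp hz
        refine Subgroup.mem_inf.mpr ⟨?_, ?_⟩
        · have h2 : y * z⁻¹ * y⁻¹ ∈ Z :=
            (Subgroup.mem_normalizer_iff.mp (hPZ (hBP hy)) z⁻¹).mp (inv_mem hzZ)
          have e : z * y * z⁻¹ * y⁻¹ = z * (y * z⁻¹ * y⁻¹) := by group
          rw [e]; exact mul_mem hzZ h2
        · have := Subgroup.commutator_mem_commutator hzB hy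
          rwa [commutatorElement_def] at this
      have h2 := commutator_normalClosure_mem h1
      rw [hB1] at h2
      have hBBZ : ⁅B, B⁆ ≤ Z := by
        refine le_trans ?_ (inf_le_left : Z ⊓ ⁅B, B⁆ ≤ Z)
        rw [Subgroup.commutator_le]
        intro x hx y hy
        rw [commutatorElement_def]
        exact h2 x hx y hy
      have hC : ReplClass p (P : Subgroup G) B (𝔤.fam D) := replClass' 𝔤 hp2 hBP hD.1 hPD
      have hPB : (P : Subgroup G) ≤ Subgroup.normalizer (B : Set G) := by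
        rw [Subgroup.normalizer_eq_top (H := B)]; exact le_top
      have hB2 : p = 2 → ∀ x ∈ B, ∀ y ∈ B, x * y = y * x := fun h => absurd h hp2
      obtain ⟨A₀, hA₀⟩ := 𝔤.fam_nonempty D
      have hZA₀ : Z ≤ A₀ := hZ ▸ Good.inter_le_of_mem hA₀
      obtain ⟨A, hA, _, hBNA, _, _⟩ :=
        hC.exists_normalized P.2 hBP hPB hB2 A₀ hA₀ (hBBZ.trans hZA₀)
      have hAL : A ≤ stab p B := le_stab_of_normalized B (hst B hBp) (𝔤.comm A hA.2.1) hBNA
      have hAP₁ : A ≤ D ⊓ stab p B := le_inf hA.1 hAL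
      have hZX : Z ≤ 𝔤.inter (D ⊓ stab p B) :=
        hZ ▸ Good.inter_le_inter inf_le_left hA hAP₁
      have hNX : Subgroup.normalizer (((P : Subgroup G) ⊓ stab p B : Subgroup G) : Set G) ≤
          Subgroup.normalizer ((𝔤.inter (D ⊓ stab p B) : Subgroup G) : Set G) :=
        (normalizer_inf_le_of_stronglyClosed hD).trans (Good.normalizer_le_normalizer_inter _)
      have hP₁X : (P : Subgroup G) ⊓ stab p B ≤
          Subgroup.normalizer ((𝔤.inter (D ⊓ stab p B) : Subgroup G) : Set G) :=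
        Subgroup.le_normalizer.trans hNX
      have hXBn : (𝔤.inter (D ⊓ stab p B) ⊓ B).Normal := by
        refine ⟨fun x hx g => ?_⟩
        obtain ⟨n, hn, l, hl, rfl⟩ := Cfsg.Agent.Lead.Fusion.frattini_decomp p P (stab p B) g
        have hl' := stab_le_sup B P hl
        rw [Subgroup.mem_sup_of_normal_left] at hl'
        obtain ⟨c, hc, y, hy, rfl⟩ := hl'
        have h3 := conj_mem_inf_of_mem_normalizer (B := B) (hP₁X hy) hx
        have h4 : c * (y * x * y⁻¹) * c⁻¹ = y * x * y⁻¹ := by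
          have := (Subgroup.mem_centralizer_iff.mp hc) _ (Subgroup.mem_inf.mp h3).2
          rw [← this]; group
        have h5 := conj_mem_inf_of_mem_normalizer (B := B) (hNX hn) h3
        have e : n * (c * y) * x * (n * (c * y))⁻¹ = n * (c * (y * x * y⁻¹) * c⁻¹) * n⁻¹ := by
          group
        rw [e, h4]
        exact h5
      have hBX : B ≤ 𝔤.inter (D ⊓ stab p B) := by
        have : Subgroup.normalClosure ((Z ⊓ B : Subgroup G) : Set G) ≤
            𝔤.inter (D ⊓ stab p B) ⊓ B :=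
          Subgroup.normalClosure_le_normal (le_inf (inf_le_left.trans hZX) inf_le_right)
        rw [hB1] at this
        exact this.trans inf_le_left
      have hall : ∀ A' ∈ 𝔤.fam D, ⁅B, B⁆ ≤ A' →
          B ≤ Subgroup.normalizer (A' : Set G) → B ≤ A' := by
        intro A' hA' _ hN
        have h3 : A' ≤ stab p B := le_stab_of_normalized B (hst B hBp) (𝔤.comm A' hA'.2.1) hN
        have h4 : A' ∈ 𝔤.fam (D ⊓ stab p B) :=
          Good.mem_fam_of_le inf_le_left hA' (le_inf hA'.1 h3)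
        exact hBX.trans (Good.inter_le_of_mem h4)
      have hBall := hC.le_of_forall_normalized P.2 hBP hPB hB2 hall
      have hBZ : B ≤ Z := by
        rw [hZ]
        apply le_sInf
        intro A' hA'
        exact hBall A' hA' (hBBZ.trans (hZ ▸ Good.inter_le_of_mem hA'))
      rw [inf_eq_right.mpr hBZ]
      exact hBn

theorem inter_le_pCore' (𝔤 : Good G) (P : Sylow p G) (D : Subgroup G)
    (hD : Cfsg.IsStronglyClosed D (P : Subgroup G))
    (hc : Subgroup.centralizer (Cfsg.pCore p G : Set G) ≤ Cfsg.pCore p G)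
    (hstQ : Cfsg.IsPStableOn p (Cfsg.pCore p G)) :
    𝔤.inter D ≤ Cfsg.pCore p G := by
  have hQp : IsPGroup p (Cfsg.pCore p G) := Helper1.pCore_isPGroup p
  have hQP : Cfsg.pCore p G ≤ P := Helper1.pCore_le_sylow P
  have hQN : Cfsg.pCore p G ≤
      Subgroup.normalizer ((𝔤.inter D : Subgroup G) : Set G) :=
    hQP.trans ((le_normalizer_of_stronglyClosed hD).trans (Good.normalizer_le_normalizer_inter _))
  have h1 : 𝔤.inter D ≤ stab p (Cfsg.pCore p G) :=
    le_stab_of_normalized _ hstQ (𝔤.inter_comm _) hQN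
  refine h1.trans (Helper1.le_pCore inferInstance ?_)
  obtain ⟨k, hk⟩ := relIndex_centralizer_stab (p := p) (Cfsg.pCore p G)
  obtain ⟨j, hj⟩ := IsPGroup.iff_card.mp (hQp.to_le hc)
  have := Helper1.relIndex_mul_card_of_le (centralizer_le_stab (p := p) (Cfsg.pCore p G))
  rw [hk, hj, ← pow_add] at this
  exact IsPGroup.of_card this.symm

theorem inter_normal' (𝔤 : Good G) (hp2 : p ≠ 2) (P : Sylow p G) (D : Subgroup G)
    (hD : Cfsg.IsStronglyClosed D (P : Subgroup G))
    (hc : Subgroup.centralizer (Cfsg.pCore p G : Set G) ≤ Cfsg.pCore p G)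
    (hst : ∀ (V : Subgroup G) [V.Normal], IsPGroup p V → Cfsg.IsPStableOn p V) :
    (𝔤.inter D).Normal := by
  have hQp : IsPGroup p (Cfsg.pCore p G) := Helper1.pCore_isPGroup p
  have h1 := inter_inf_normal' 𝔤 hp2 P D hD hst (Cfsg.pCore p G) inferInstance hQp
  have h2 : 𝔤.inter D ≤ Cfsg.pCore p G := inter_le_pCore' 𝔤 P D hD hc (hst _ hQp)
  rwa [inf_eq_left.mpr h2] at h1

end Cfsg.Agent.Helper5.ZJC
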