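import Mathlib
import Cfsg.Agent.Helper8.PSL2Cent

set_option autoImplicit false

/-!
The set of element orders of `PSL₂(F)`, `F` a finite field with `q` elements of characteristic `p`:
the divisors of `p`, of `(q - 1) / d` and of `(q + 1) / d`, where `d = gcd (2, q - 1)`.
-/

namespace Cfsg.Agent.Helper5.SpecPSL

open Matrix Cfsg.Agent.Helper7.SL2 Cfsg.Agent.Helper8.SL2C
open scoped Matrix

variable {F : Type*} [Field F]

/-- the order of the centre of `SL₂(F)` -/
noncomputable def dd (F : Type*) [Field F] : ℕ :=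
  haveI := Classical.propDecidable ((2 : F) = 0)
  if (2 : F) = 0 then 1 else 2

theorem dd_pos : 0 < dd F := by
  unfold dd
  split_ifs <;> norm_num

theorem dd_of_two_eq (h : (2 : F) = 0) : dd F = 1 := by
  unfold dd
  rw [if_pos h]

theorem dd_of_two_ne (h : (2 : F) ≠ 0) : dd F = 2 := by
  unfold dd
  rw [if_neg h]

theorem orderOf_pmk_dvd_of_pow {x : SpecialLinearGroup (Fin 2) F} {k : ℕ} (h : x ^ (dd F * k) = 1) :
    orderOf (pmk x) ∣ k := by
  rw [orderOf_pmk_dvd_iff]
  by_cases h2 : (2 : F) = 0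
  · rw [dd_of_two_eq h2, one_mul] at h
    exact Or.inl h
  · rw [dd_of_two_ne h2, mul_comm, pow_mul, pow_two] at h
    exact eq_one_or_neg_one_of_sq h2 h

theorem pow_dd_mul_orderOf (x : SpecialLinearGroup (Fin 2) F) : x ^ (dd F * orderOf (pmk x)) = 1 := by
  have h := (orderOf_pmk_dvd_iff (g := x) (k := orderOf (pmk x))).mp dvd_rfl
  by_cases h2 : (2 : F) = 0
  · rw [dd_of_two_eq h2, one_mul]
    rcases h with h | h
    · exact h
    · rw [h, neg_one_eq_one_of_char_two h2]
  · rw [dd_of_two_ne h2, mul_comm, pow_mul, pow_two]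
    rcases h with h | h
    · rw [h, mul_one]
    · rw [h, neg_one_mul_neg_one]

theorem orderOf_pmk_of_orderOf {x : SpecialLinearGroup (Fin 2) F} {N : ℕ} (h : orderOf x = dd F * N) :
    orderOf (pmk x) = N := by
  apply Nat.dvd_antisymm
  · apply orderOf_pmk_dvd_of_pow
    rw [← h, pow_orderOf_eq_one]
  · have h1 := pow_dd_mul_orderOf x
    rw [← orderOf_dvd_iff_pow_eq_one, h] at h1
    exact Nat.dvd_of_mul_dvd_mul_left dd_pos h1

section finite

variable [Fintype F]

theorem dd_dvd_sub : dd F ∣ Fintype.card F - 1 := by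
  by_cases h2 : (2 : F) = 0
  · rw [dd_of_two_eq h2]
    exact one_dvd _
  · rw [dd_of_two_ne h2]
    have hc : ringChar F ≠ 2 := by
      intro hc
      apply h2
      have := (CharP.cast_eq_zero_iff F (ringChar F) 2).mpr (by rw [hc])
      exact_mod_cast this
    have := FiniteField.odd_card_of_char_ne_two hc
    omega

theorem dd_dvd_add : dd F ∣ Fintype.card F + 1 := by
  by_cases h2 : (2 : F) = 0
  · rw [dd_of_two_eq h2]
    exact one_dvd _
  · rw [dd_of_two_ne h2]
    have hc : ringChar F ≠ 2 := by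
      intro hc
      apply h2
      have := (CharP.cast_eq_zero_iff F (ringChar F) 2).mpr (by rw [hc])
      exact_mod_cast this
    have := FiniteField.odd_card_of_char_ne_two hc
    omega

/-- every element order of `PSL₂(F)` divides `p`, `(q-1)/d` or `(q+1)/d`. -/
theorem orderOf_cases (p : ℕ) [Fact p.Prime] [CharP F p] (x : ProjectiveSpecialLinearGroup (Fin 2) F) :
    orderOf x ∣ p ∨ orderOf x ∣ (Fintype.card F - 1) / dd F ∨ orderOf x ∣ (Fintype.card F + 1) / dd F := by
  obtain ⟨g, rfl⟩ := pmk_surjective x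
  rcases classify g with hg | ⟨a, -, hc⟩ | ⟨β, hc⟩ | ⟨β, hc⟩
  · right; right
    apply orderOf_pmk_dvd_of_pow
    rw [Nat.mul_div_cancel' dd_dvd_add]
    exact pow_card_add_one_of_ell hg
  · right; left
    rw [orderOf_eq_of_isConj (isConj_pmk hc)]
    apply orderOf_pmk_dvd_of_pow
    rw [Nat.mul_div_cancel' dd_dvd_sub]
    exact pow_card_sub_one_tor a
  · left
    rw [orderOf_eq_of_isConj (isConj_pmk hc), orderOf_dvd_iff_pow_eq_one, pmk_pow, up_pow,
      CharP.cast_eq_zero, zero_mul, up_zero]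
    rfl
  · left
    rw [orderOf_eq_of_isConj (isConj_pmk hc), pmk_neg, orderOf_dvd_iff_pow_eq_one, pmk_pow, up_pow,
      CharP.cast_eq_zero, zero_mul, up_zero]
    rfl

omit [Fintype F] in
theorem exists_orderOf_eq_char (p : ℕ) [Fact p.Prime] [CharP F p] :
    ∃ x : ProjectiveSpecialLinearGroup (Fin 2) F, orderOf x = p := by
  refine ⟨pmk (up 1), ?_⟩
  have hd : orderOf (pmk (up (1 : F))) ∣ p := by
    rw [orderOf_dvd_iff_pow_eq_one, pmk_pow, up_pow, CharP.cast_eq_zero, zero_mul, up_zero]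
    rfl
  rcases (Nat.dvd_prime (Fact.out : p.Prime)).mp hd with h | h
  · exfalso
    rw [orderOf_eq_one_iff, pmk_eq_one_iff] at h
    rcases h with h | h
    · exact up_ne_one one_ne_zero h
    · have := congrArg (fun g : SpecialLinearGroup (Fin 2) F => (g : Matrix (Fin 2) (Fin 2) F) 0 1) h
      simp only [up_01] at this
      rw [Cfsg.Agent.Helper8.SL2C.neg_apply, one_01, neg_zero] at this
      exact one_ne_zero this
  · exact h

theorem exists_orderOf_eq_sub :
    ∃ x : ProjectiveSpecialLinearGroup (Fin 2) F, orderOf x = (Fintype.card F - 1) / dd F := by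
  classical
  obtain ⟨a, ha⟩ := IsCyclic.exists_ofOrder_eq_natCard (α := Fˣ)
  refine ⟨pmk (tor a), ?_⟩
  apply orderOf_pmk_of_orderOf
  rw [Nat.mul_div_cancel' dd_dvd_sub]
  have : orderOf (tor a) = orderOf a := orderOf_injective (torusHom F) torusHom_injective a
  rw [this, ha, Nat.card_eq_fintype_card, Fintype.card_units]

theorem exists_orderOf_eq_add :
    ∃ x : ProjectiveSpecialLinearGroup (Fin 2) F, orderOf x = (Fintype.card F + 1) / dd F := by
  obtain ⟨t, ht⟩ := exists_ellt (F := F)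
  have hcyc := isCyclic_Tc (ellt_sq_ne ht)
  obtain ⟨a, ha⟩ := IsCyclic.exists_ofOrder_eq_natCard (α := Tc t)
  refine ⟨pmk (a : SpecialLinearGroup (Fin 2) F), ?_⟩
  apply orderOf_pmk_of_orderOf
  rw [Nat.mul_div_cancel' dd_dvd_add, Subgroup.orderOf_coe, ha, card_Tc ht]

theorem exists_orderOf_of_dvd {G : Type*} [Group G] {x : G} {k : ℕ} (hk : k ∣ orderOf x)
    (h0 : orderOf x ≠ 0) : ∃ y : G, orderOf y = k := by
  obtain ⟨d, hd⟩ := hk
  have hd0 : d ≠ 0 := by
    rintro rfl
    rw [mul_zero] at hd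
    exact h0 hd
  have hk0 : k ≠ 0 := by
    rintro rfl
    rw [zero_mul] at hd
    exact h0 hd
  refine ⟨x ^ d, ?_⟩
  rw [orderOf_pow_of_dvd hd0 ⟨k, by rw [hd, mul_comm]⟩, hd, Nat.mul_div_cancel _ (Nat.pos_of_ne_zero hd0)]

/-- the spectrum of `PSL₂(F)`. -/
theorem range_orderOf (p : ℕ) [Fact p.Prime] [CharP F p] :
    Set.range (orderOf : ProjectiveSpecialLinearGroup (Fin 2) F → ℕ) =
      {k | k ∣ p ∨ k ∣ (Fintype.card F - 1) / dd F ∨ k ∣ (Fintype.card F + 1) / dd F} := by
  ext k
  constructor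
  · rintro ⟨x, rfl⟩
    exact orderOf_cases p x
  · rintro (h | h | h)
    · obtain ⟨x, hx⟩ := exists_orderOf_eq_char (F := F) p
      exact exists_orderOf_of_dvd (x := x) (by rw [hx]; exact h) (orderOf_pos x).ne'
    · obtain ⟨x, hx⟩ := exists_orderOf_eq_sub (F := F)
      exact exists_orderOf_of_dvd (x := x) (by rw [hx]; exact h) (orderOf_pos x).ne'
    · obtain ⟨x, hx⟩ := exists_orderOf_eq_add (F := F)
      exact exists_orderOf_of_dvd (x := x) (by rw [hx]; exact h) (orderOf_pos x).ne'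

end finite

end Cfsg.Agent.Helper5.SpecPSL
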