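import Mathlib
import Cfsg.Agent.Helper5.Basic

/-!
Helper lemmas (helper5): a nontrivial normal subgroup of a finite `p`-group meets the centre nontrivially.
-/

set_option autoImplicit false

namespace Cfsg.Agent.Helper5

variable {G : Type*} [Group G]

/-- Abstract version: a nontrivial normal subgroup `Q` of a finite `p`-group `T` contains a non-identity
central element. -/
theorem exists_ne_one_mem_center_of_normal {T : Type*} [Group T] [Finite T] {p : ℕ} [Fact p.Prime]
    (hT : IsPGroup p T) (Q : Subgroup T) [hQn : Q.Normal] (hQ1 : Q ≠ ⊥) :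
    ∃ x ∈ Q, x ≠ 1 ∧ ∀ t : T, t * x = x * t := by
  have hCA : IsPGroup p (ConjAct T) := hT.of_equiv ConjAct.toConjAct
  have hnt : Nontrivial Q := (Subgroup.nontrivial_iff_ne_bot Q).mpr hQ1
  have hQp : IsPGroup p Q := hT.to_subgroup Q
  obtain ⟨n, hn0, hn⟩ := hQp.nontrivial_iff_card.mp hnt
  have hdvd : p ∣ Nat.card Q := by rw [hn]; exact dvd_pow_self p (Nat.pos_iff_ne_zero.mp hn0)
  have hfix1 : (1 : Q) ∈ MulAction.fixedPoints (ConjAct T) Q := by
    intro g
    exact smul_one g
  obtain ⟨b, hb, hb1⟩ := hCA.exists_fixed_point_of_prime_dvd_card_of_fixed_point Q hdvd hfix1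
  refine ⟨b, b.2, ?_, ?_⟩
  · intro h
    apply hb1
    exact Subtype.ext h.symm
  · intro t
    have := hb (ConjAct.toConjAct t)
    have h2 : ((ConjAct.toConjAct t • b : Q) : T) = t * b * t⁻¹ := by
      rw [ConjAct.Subgroup.val_conj_smul, ConjAct.smul_def]; simp
    rw [this] at h2
    calc t * b = t * b * t⁻¹ * t := by group
      _ = b * t := by rw [← h2]

/-- Subgroup version inside an ambient group, giving an element of order `p`. -/
theorem exists_orderOf_eq_prime_central [Finite G] {p : ℕ} [Fact p.Prime] (T Q : Subgroup G)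
    (hT : IsPGroup p T) (hQT : Q ≤ T) (hQ1 : Q ≠ ⊥) (hTQ : T ≤ Subgroup.normalizer (Q : Set G)) :
    ∃ x ∈ Q, orderOf x = p ∧ ∀ t ∈ T, t * x = x * t := by
  -- Z = Q ⊓ centralizer T is a nontrivial p-group
  set Z := Q ⊓ Subgroup.centralizer (T : Set G) with hZ
  have hZ1 : Z ≠ ⊥ := by
    have : (Q.subgroupOf T).Normal := by
      constructor
      intro n hn g
      rw [Subgroup.mem_subgroupOf] at hn ⊢
      have := (Subgroup.mem_normalizer_iff.mp (hTQ g.2) n).mp hn
      simpa using this
    have hne : Q.subgroupOf T ≠ ⊥ := by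
      intro h
      apply hQ1
      rw [eq_bot_iff]
      intro x hx
      have : (⟨x, hQT hx⟩ : T) ∈ Q.subgroupOf T := by rw [Subgroup.mem_subgroupOf]; exact hx
      rw [h, Subgroup.mem_bot] at this
      rw [Subgroup.mem_bot]
      exact congrArg Subtype.val this
    obtain ⟨x, hxQ, hx1, hxc⟩ := exists_ne_one_mem_center_of_normal hT (Q.subgroupOf T) hne
    intro hbot
    apply hx1
    have hxZ : (x : G) ∈ Z := by
      refine Subgroup.mem_inf.mpr ⟨by rwa [Subgroup.mem_subgroupOf] at hxQ, ?_⟩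
      rw [Subgroup.mem_centralizer_iff]
      intro t ht
      have := hxc ⟨t, ht⟩
      exact congrArg Subtype.val this
    rw [hbot, Subgroup.mem_bot] at hxZ
    exact Subtype.ext hxZ
  have hZp : IsPGroup p Z := hT.to_le (inf_le_left.trans hQT)
  have hnt : Nontrivial Z := (Subgroup.nontrivial_iff_ne_bot Z).mpr hZ1
  obtain ⟨n, hn0, hn⟩ := hZp.nontrivial_iff_card.mp hnt
  have hdvd : p ∣ Nat.card Z := by rw [hn]; exact dvd_pow_self p (Nat.pos_iff_ne_zero.mp hn0)
  obtain ⟨a, ha⟩ := exists_prime_orderOf_dvd_card' p hdvd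
  refine ⟨a, (Subgroup.mem_inf.mp a.2).1, by rw [Subgroup.orderOf_coe]; exact ha, ?_⟩
  intro t ht
  have := (Subgroup.mem_inf.mp a.2).2
  rw [Subgroup.mem_centralizer_iff] at this
  exact this t ht

end Cfsg.Agent.Helper5
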