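import Mathlib
import Cfsg.Prelude.Def_Amalgam

/-!
Helper lemmas (helper5): basic facts on the coset graph of a pair of subgroups.
-/

set_option autoImplicit false

namespace Cfsg.Agent.Helper5

variable {X : Type*} [Group X] (M₁ M₂ : Subgroup X)

theorem cosetGraph_adj_iff (a b : Cfsg.CosetVertex M₁ M₂) :
    (Cfsg.cosetGraph M₁ M₂).Adj a b ↔
      (∃ x : X, a = Sum.inl (x : X ⧸ M₁) ∧ b = Sum.inr (x : X ⧸ M₂)) ∨
      (∃ x : X, b = Sum.inl (x : X ⧸ M₁) ∧ a = Sum.inr (x : X ⧸ M₂)) := by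
  unfold Cfsg.cosetGraph
  rw [SimpleGraph.fromRel_adj]
  constructor
  · rintro ⟨_, h⟩; exact h
  · intro h
    refine ⟨?_, h⟩
    rcases h with ⟨x, rfl, rfl⟩ | ⟨x, rfl, rfl⟩
    · exact Sum.inl_ne_inr
    · exact Sum.inr_ne_inl

theorem cosetGraph_adj_inl_inr (x : X) :
    (Cfsg.cosetGraph M₁ M₂).Adj (Sum.inl (x : X ⧸ M₁)) (Sum.inr (x : X ⧸ M₂)) :=
  (cosetGraph_adj_iff M₁ M₂ _ _).mpr (Or.inl ⟨x, rfl, rfl⟩)

theorem smul_inl (g x : X) :
    g • (Sum.inl (x : X ⧸ M₁) : Cfsg.CosetVertex M₁ M₂) = Sum.inl ((g * x : X) : X ⧸ M₁) := rfl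

theorem smul_inr (g x : X) :
    g • (Sum.inr (x : X ⧸ M₂) : Cfsg.CosetVertex M₁ M₂) = Sum.inr ((g * x : X) : X ⧸ M₂) := rfl

theorem cosetGraph_adj_smul (g : X) {a b : Cfsg.CosetVertex M₁ M₂}
    (h : (Cfsg.cosetGraph M₁ M₂).Adj a b) : (Cfsg.cosetGraph M₁ M₂).Adj (g • a) (g • b) := by
  rw [cosetGraph_adj_iff] at h ⊢
  rcases h with ⟨x, rfl, rfl⟩ | ⟨x, rfl, rfl⟩
  · exact Or.inl ⟨g * x, rfl, rfl⟩
  · exact Or.inr ⟨g * x, rfl, rfl⟩

theorem stabilizer_inl (x : X) :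
    MulAction.stabilizer X (Sum.inl (x : X ⧸ M₁) : Cfsg.CosetVertex M₁ M₂) =
      M₁.map (MulAut.conj x).toMonoidHom := by
  have h1 : MulAction.stabilizer X (Sum.inl (x : X ⧸ M₁) : Cfsg.CosetVertex M₁ M₂) =
      MulAction.stabilizer X (x : X ⧸ M₁) := by
    ext g
    rw [MulAction.mem_stabilizer_iff, MulAction.mem_stabilizer_iff]
    constructor
    · intro h; exact Sum.inl_injective h
    · intro h; exact congrArg Sum.inl h
  have h2 : (x : X ⧸ M₁) = x • ((1 : X) : X ⧸ M₁) := by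
    rw [MulAction.Quotient.smul_coe, smul_eq_mul, mul_one]
  rw [h1, h2, MulAction.stabilizer_smul_eq_stabilizer_map_conj, MulAction.stabilizer_quotient]

theorem stabilizer_inr (x : X) :
    MulAction.stabilizer X (Sum.inr (x : X ⧸ M₂) : Cfsg.CosetVertex M₁ M₂) =
      M₂.map (MulAut.conj x).toMonoidHom := by
  have h1 : MulAction.stabilizer X (Sum.inr (x : X ⧸ M₂) : Cfsg.CosetVertex M₁ M₂) =
      MulAction.stabilizer X (x : X ⧸ M₂) := by
    ext g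
    rw [MulAction.mem_stabilizer_iff, MulAction.mem_stabilizer_iff]
    constructor
    · intro h; exact Sum.inr_injective h
    · intro h; exact congrArg Sum.inr h
  have h2 : (x : X ⧸ M₂) = x • ((1 : X) : X ⧸ M₂) := by
    rw [MulAction.Quotient.smul_coe, smul_eq_mul, mul_one]
  rw [h1, h2, MulAction.stabilizer_smul_eq_stabilizer_map_conj, MulAction.stabilizer_quotient]

/-- Every vertex is `inl x` or `inr x`. -/
theorem vertex_cases (a : Cfsg.CosetVertex M₁ M₂) :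
    (∃ x : X, a = Sum.inl (x : X ⧸ M₁)) ∨ (∃ x : X, a = Sum.inr (x : X ⧸ M₂)) := by
  rcases a with a | a
  · obtain ⟨x, rfl⟩ := QuotientGroup.mk_surjective a
    exact Or.inl ⟨x, rfl⟩
  · obtain ⟨x, rfl⟩ := QuotientGroup.mk_surjective a
    exact Or.inr ⟨x, rfl⟩

/-- Neighbours of `x M₁` are the `x m M₂`, `m ∈ M₁`. -/
theorem adj_inl_iff (x : X) (b : Cfsg.CosetVertex M₁ M₂) :
    (Cfsg.cosetGraph M₁ M₂).Adj (Sum.inl (x : X ⧸ M₁)) b ↔
      ∃ m ∈ M₁, b = Sum.inr ((x * m : X) : X ⧸ M₂) := by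
  rw [cosetGraph_adj_iff]
  constructor
  · rintro (⟨y, h1, rfl⟩ | ⟨y, rfl, h2⟩)
    · have h3 : (x : X ⧸ M₁) = (y : X ⧸ M₁) := Sum.inl_injective h1
      rw [QuotientGroup.eq] at h3
      refine ⟨x⁻¹ * y, h3, ?_⟩
      rw [mul_inv_cancel_left]
    · exact absurd h2 Sum.inl_ne_inr
  · rintro ⟨m, hm, rfl⟩
    left
    refine ⟨x * m, ?_, rfl⟩
    congr 1
    rw [QuotientGroup.eq, inv_mul_cancel_left]
    exact hm

/-- Neighbours of `x M₂` are the `x m M₁`, `m ∈ M₂`. -/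
theorem adj_inr_iff (x : X) (b : Cfsg.CosetVertex M₁ M₂) :
    (Cfsg.cosetGraph M₁ M₂).Adj (Sum.inr (x : X ⧸ M₂)) b ↔
      ∃ m ∈ M₂, b = Sum.inl ((x * m : X) : X ⧸ M₁) := by
  rw [cosetGraph_adj_iff]
  constructor
  · rintro (⟨y, h1, _⟩ | ⟨y, rfl, h2⟩)
    · exact absurd h1 Sum.inr_ne_inl
    · have h3 : (x : X ⧸ M₂) = (y : X ⧸ M₂) := Sum.inr_injective h2
      rw [QuotientGroup.eq] at h3
      refine ⟨x⁻¹ * y, h3, ?_⟩
      rw [mul_inv_cancel_left]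
  · rintro ⟨m, hm, rfl⟩
    right
    refine ⟨x * m, rfl, ?_⟩
    congr 1
    rw [QuotientGroup.eq, inv_mul_cancel_left]
    exact hm

end Cfsg.Agent.Helper5
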