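import Mathlib

/-!
# A kernel-checkable Todd–Coxeter certificate (involutory generators)

Static data (packed into natural numbers) describe a set of "virtual cosets" `0, …, M-1`, each
defined from a smaller one by one generator; a certificate is a list of events, each of which
establishes either an edge `g x • pt v = pt (tgt x v)` or an alias `pt v = pt (ali v)`.
All functions here are written with raw `Nat` operations so that the kernel evaluates them fast.
-/

set_option autoImplicit false

namespace Cfsg.Agent.Helper5.TC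

/-- lookup entry `i` (24 bits wide) of the packed array `T`. -/
def lk (T i : ℕ) : ℕ := Nat.mod (Nat.shiftRight T (Nat.mul 24 i)) 16777216

/-- test bit `e` of `K`. -/
def tb (K e : ℕ) : Bool := Nat.beq (Nat.mod (Nat.shiftRight K e) 2) 1

/-- set bit `e` of `K`. -/
def sb (K e : ℕ) : ℕ := Nat.lor K (Nat.shiftLeft 1 e)

theorem tb_eq (K e : ℕ) : tb K e = K.testBit e := by
  unfold tb
  have h1 : Nat.shiftRight K e = K >>> e := rfl
  have h2 : Nat.mod (K >>> e) 2 = (K >>> e) % 2 := rfl
  rw [h1, h2, Nat.testBit, Nat.shiftRight_eq_div_pow]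
  rcases Nat.mod_two_eq_zero_or_one (K / 2 ^ e) with h | h
  · rw [h]
    simp only [Nat.one_and_eq_mod_two, h]
    rfl
  · rw [h]
    simp only [Nat.one_and_eq_mod_two, h]
    rfl

theorem tb_sb (K e e' : ℕ) : tb (sb K e) e' = (tb K e' || decide (e = e')) := by
  rw [tb_eq, tb_eq]
  unfold sb
  have h1 : Nat.lor K (Nat.shiftLeft 1 e) = K ||| (1 <<< e) := rfl
  rw [h1, Nat.testBit_lor, Nat.one_shiftLeft, Nat.testBit_two_pow]

theorem tb_sb_cases {K e e' : ℕ} (h : tb (sb K e) e' = true) : tb K e' = true ∨ e = e' := by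
  rw [tb_sb] at h
  rcases Bool.or_eq_true_iff.mp h with h | h
  · exact Or.inl h
  · exact Or.inr (of_decide_eq_true h)

theorem tb_zero (e : ℕ) : tb 0 e = false := by
  rw [tb_eq]; simp

/-- lookup entry `i` (16 bits wide) of the packed array `T`. -/
def lk16 (T i : ℕ) : ℕ := Nat.mod (Nat.shiftRight T (Nat.mul 16 i)) 65536

/-- assemble a big number from 16384-bit chunks (little endian). -/
def unchunk : List ℕ → ℕ
  | [] => 0
  | c :: l => Nat.add c (Nat.mul (Nat.pow 2 16384) (unchunk l))

/-- The static data of a certificate. -/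
structure Dat where
  /-- number of generators -/
  k : ℕ
  /-- static target of the edge `(v, x)`: `tgt x v` -/
  tgt : ℕ → ℕ → ℕ
  /-- parents -/
  par : ℕ → ℕ
  /-- defining generators -/
  gen : ℕ → ℕ
  /-- alias targets -/
  ali : ℕ → ℕ
  /-- packed words (4 bits per letter): relators, then subgroup generators -/
  wordP : ℕ → ℕ
  /-- the same words reversed -/
  wordR : ℕ → ℕ
  /-- word lengths -/
  wlen : ℕ → ℕ
  /-- number of relator words -/
  nrel : ℕ
  /-- total number of words -/
  nw : ℕ
  /-- fuel for alias resolution -/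
  fuel : ℕ

/-- resolve aliases. -/
def res (D : Dat) (KA : ℕ) : ℕ → ℕ → ℕ
  | 0, v => v
  | f + 1, v => bif tb KA v then res D KA f (D.ali v) else v

/-- walk along the first `n` letters of a packed word through known edges. -/
def wkN (D : Dat) (KE KA : ℕ) : ℕ → ℕ → ℕ → Option ℕ
  | 0, v, _ => some v
  | n + 1, v, w =>
    bif Nat.blt (Nat.mod w 16) D.k && tb KE (Nat.add (Nat.mul v D.k) (Nat.mod w 16)) then
      wkN D KE KA n (res D KA D.fuel (D.tgt (Nat.mod w 16) v)) (Nat.div w 16)
    else none

/-- is word `wi` a valid loop at `c`? -/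
def loopOK (D : Dat) (KA wi c : ℕ) : Bool :=
  Nat.blt wi D.nrel || (Nat.blt wi D.nw && Nat.beq (res D KA D.fuel c) 0)

/-- establish the edge `(f, x)` (whose target resolves to `b`), and the reverse edge if the static
data are consistent. -/
def setEdge (D : Dat) (KE KA f x b : ℕ) : ℕ :=
  bif Nat.beq (res D KA D.fuel (D.tgt x b)) (res D KA D.fuel f) then
    sb (sb KE (Nat.add (Nat.mul f D.k) x)) (Nat.add (Nat.mul b D.k) x)
  else sb KE (Nat.add (Nat.mul f D.k) x)

/-- event 1: establish an edge from a loop with one gap (at position `i` of word `wi`, based at `c`). -/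
def ev1 (D : Dat) (KE KA wi i c : ℕ) : ℕ × ℕ :=
  bif loopOK D KA wi c && Nat.blt i (D.wlen wi) then
    match wkN D KE KA i c (D.wordP wi) with
    | none => (KE, KA)
    | some f =>
      match wkN D KE KA (Nat.sub (Nat.sub (D.wlen wi) 1) i) c (D.wordR wi) with
      | none => (KE, KA)
      | some b =>
        bif Nat.beq (res D KA D.fuel (D.tgt (Nat.mod (Nat.shiftRight (D.wordP wi) (Nat.mul 4 i)) 16) f))
              (res D KA D.fuel b) &&
            Nat.blt (Nat.mod (Nat.shiftRight (D.wordP wi) (Nat.mul 4 i)) 16) D.k then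
          (setEdge D KE KA f (Nat.mod (Nat.shiftRight (D.wordP wi) (Nat.mul 4 i)) 16)
            (res D KA D.fuel b), KA)
        else (KE, KA)
  else (KE, KA)

/-- event 2: establish an alias from a closed loop (forward `i` letters, backward the rest). -/
def ev2 (D : Dat) (KE KA wi i c : ℕ) : ℕ × ℕ :=
  bif loopOK D KA wi c && Nat.ble i (D.wlen wi) then
    match wkN D KE KA i c (D.wordP wi) with
    | none => (KE, KA)
    | some e =>
      match wkN D KE KA (Nat.sub (D.wlen wi) i) c (D.wordR wi) with
      | none => (KE, KA)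
      | some b =>
        bif Nat.blt (res D KA D.fuel e) (res D KA D.fuel b) &&
            Nat.beq (D.ali (res D KA D.fuel b)) (res D KA D.fuel e) then
          (KE, sb KA (res D KA D.fuel b))
        else bif Nat.blt (res D KA D.fuel b) (res D KA D.fuel e) &&
            Nat.beq (D.ali (res D KA D.fuel e)) (res D KA D.fuel b) then
          (KE, sb KA (res D KA D.fuel e))
        else (KE, KA)
  else (KE, KA)

/-- event 3: copy an edge along an alias. -/
def ev3 (D : Dat) (KE KA x v : ℕ) : ℕ × ℕ :=
  bif tb KA v && tb KE (Nat.add (Nat.mul v D.k) x) && Nat.blt x D.k &&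
      Nat.beq (res D KA D.fuel (D.tgt x (res D KA D.fuel v))) (res D KA D.fuel (D.tgt x v)) then
    (setEdge D KE KA (res D KA D.fuel v) x (res D KA D.fuel (D.tgt x v)), KA)
  else (KE, KA)

/-- decode and run one event: `ev = kind + 4 * (a1 + 256 * (a2 + 256 * c))`. -/
def evStep (D : Dat) (ev KE KA : ℕ) : ℕ × ℕ :=
  bif Nat.beq (Nat.mod ev 4) 1 then
    ev1 D KE KA (Nat.mod (Nat.div ev 4) 256) (Nat.mod (Nat.div ev 1024) 256) (Nat.div ev 262144)
  else bif Nat.beq (Nat.mod ev 4) 2 then
    ev2 D KE KA (Nat.mod (Nat.div ev 4) 256) (Nat.mod (Nat.div ev 1024) 256) (Nat.div ev 262144)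
  else bif Nat.beq (Nat.mod ev 4) 3 then
    ev3 D KE KA (Nat.mod (Nat.div ev 4) 256) (Nat.div ev 262144)
  else (KE, KA)

/-- run a packed chunk of events (48 bits each). -/
def chunkRun (D : Dat) : ℕ → ℕ → ℕ → ℕ → ℕ × ℕ
  | 0, _, KE, KA => (KE, KA)
  | f + 1, ch, KE, KA =>
    bif Nat.beq ch 0 then (KE, KA)
    else
      match evStep D (Nat.mod ch 281474976710656) KE KA with
      | (KE', KA') => chunkRun D f (Nat.div ch 281474976710656) KE' KA'

/-- run a list of chunks. -/
def runAll (D : Dat) : List ℕ → ℕ → ℕ → ℕ × ℕ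
  | [], KE, KA => (KE, KA)
  | ch :: rest, KE, KA =>
    match chunkRun D 100000 ch KE KA with
    | (KE', KA') => runAll D rest KE' KA'

/-- the initial known edges: the defining edges of the virtual cosets `1, …, m - 1`. -/
def initKE (D : Dat) : ℕ → ℕ → ℕ
  | 0, KE => KE
  | m + 1, KE =>
    bif Nat.blt 0 m && Nat.blt (D.par m) m && Nat.blt (D.gen m) D.k &&
        Nat.beq (D.tgt (D.gen m) (D.par m)) m &&
        Nat.beq (D.tgt (D.gen m) m) (D.par m) then
      initKE D m (sb (sb KE (Nat.add (Nat.mul (D.par m) D.k) (D.gen m)))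
        (Nat.add (Nat.mul m D.k) (D.gen m)))
    else initKE D m KE

/-- count the set bits of `RS` below `m`. -/
def cntBits (RS : ℕ) : ℕ → ℕ
  | 0 => 0
  | m + 1 => bif tb RS m then Nat.succ (cntBits RS m) else cntBits RS m

/-- all edges `(v, x')`, `x' < x`, are known and lead (after resolution) into `RS`. -/
def rowOK (D : Dat) (KE KA RS v : ℕ) : ℕ → Bool
  | 0 => true
  | x + 1 =>
    tb KE (Nat.add (Nat.mul v D.k) x) && tb RS (res D KA D.fuel (D.tgt x v)) &&
      rowOK D KE KA RS v x

/-- all members of `RS` below `m` have complete rows. -/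
def allRows (D : Dat) (KE KA RS : ℕ) : ℕ → Bool
  | 0 => true
  | m + 1 => (!tb RS m || rowOK D KE KA RS m D.k) && allRows D KE KA RS m

/-- the complete check: `RS` is a set of `N` virtual cosets below `M`, containing `0`, all of
whose edges are known and lead back into `RS`. -/
def certOK (D : Dat) (M N RS : ℕ) (cert : List ℕ) : Bool :=
  match runAll D cert (initKE D M 0) 0 with
  | (KE, KA) =>
    Nat.beq (cntBits RS M) N && tb RS 0 && Nat.blt RS (Nat.pow 2 M) && allRows D KE KA RS M

end Cfsg.Agent.Helper5.TC
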