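import Mathlib
import Cfsg.Agent.Helper5.TCCertA

/-!
# A stateless kernel-checkable Todd–Coxeter certificate

Second version of the certificate checker: instead of threading the sets of known edges and
aliases through a list of events, every edge `(v, x)` carries a static time stamp `rank x v`
and is justified by an event that only uses edges and aliases with smaller time stamps.
All loops are written with `Nat.rec` and explicit forcing so that the kernel evaluates them fast.
-/

set_option autoImplicit false

namespace Cfsg.Agent.Helper5.TC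

/-- force the evaluation of a natural number before continuing. -/
def force {α : Type} (v : ℕ) (f : ℕ → α) : α := Nat.rec (f 0) (fun n _ => f (Nat.succ n)) v

theorem force_eq {α : Type} (v : ℕ) (f : ℕ → α) : force v f = f v := by
  cases v <;> rfl

/-- the time stamp "never". -/
def INF : ℕ := 16777215

/-- The static data of a stateless certificate. -/
structure Dat2 where
  /-- the basic data -/
  D : Dat
  /-- time stamp of the edge `(v, x)`: `rank x v` -/
  rank : ℕ → ℕ → ℕ
  /-- time stamp of the alias of `v` -/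
  arank : ℕ → ℕ
  /-- the event records -/
  ev : ℕ → ℕ
  /-- number of virtual cosets -/
  M : ℕ

/-- resolve aliases known before time `t`. -/
def res2 (E : Dat2) (t f : ℕ) : ℕ → ℕ :=
  Nat.rec (motive := fun _ => ℕ → ℕ) (fun v => v)
    (fun _ ih v =>
      bif Nat.blt v E.M && Nat.blt (E.arank v) t then force (E.D.ali v) ih else v) f

theorem res2_zero (E : Dat2) (t v : ℕ) : res2 E t 0 v = v := rfl

theorem res2_succ (E : Dat2) (t f v : ℕ) : res2 E t (f + 1) v =
    bif Nat.blt v E.M && Nat.blt (E.arank v) t then res2 E t f (E.D.ali v) else v := by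
  show (bif _ then force _ _ else _) = _
  rw [force_eq]
  rfl

/-- one step of a walk at time `t`; the sentinel `E.M` signals failure. -/
def step2 (E : Dat2) (t v x : ℕ) : ℕ :=
  bif Nat.blt v E.M && Nat.blt x E.D.k && Nat.blt (E.rank x v) t then
    res2 E t E.D.fuel (E.D.tgt x v)
  else E.M

/-- walk along the first `n` letters of a packed word at time `t`. -/
def wk2 (E : Dat2) (t n : ℕ) : ℕ → ℕ → ℕ :=
  Nat.rec (motive := fun _ => ℕ → ℕ → ℕ) (fun v _ => v)
    (fun _ ih v w =>
      force (step2 E t v (Nat.mod w 16)) (fun v' => force (Nat.div w 16) (fun w' => ih v' w'))) n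

theorem wk2_zero (E : Dat2) (t v w : ℕ) : wk2 E t 0 v w = v := rfl

theorem wk2_succ (E : Dat2) (t n v w : ℕ) : wk2 E t (n + 1) v w =
    wk2 E t n (step2 E t v (w % 16)) (w / 16) := by
  have h : wk2 E t (n + 1) v w = force (step2 E t v (Nat.mod w 16))
      (fun v' => force (Nat.div w 16) (fun w' => wk2 E t n v' w')) := rfl
  rw [h, force_eq, force_eq]
  rfl

/-- is word `wi` a valid loop at `c` (at time `t`)? -/
def loopOK2 (E : Dat2) (t wi c : ℕ) : Bool :=
  Nat.blt wi E.D.nrel || (Nat.blt wi E.D.nw && Nat.beq (res2 E t E.D.fuel c) 0)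

/-- the edge `(v, x)` follows at time `r` from the loop `wi` at `c` with a gap at position `i`. -/
def gapOK (E : Dat2) (r x v wi i c : ℕ) : Bool :=
  loopOK2 E r wi c && Nat.blt i (E.D.wlen wi) &&
    Nat.beq (wk2 E r i c (E.D.wordP wi)) v &&
    Nat.beq (Nat.mod (Nat.shiftRight (E.D.wordP wi) (Nat.mul 4 i)) 16) x &&
    force (wk2 E r (Nat.sub (Nat.sub (E.D.wlen wi) 1) i) c (E.D.wordR wi)) (fun b =>
      Nat.blt b E.M &&
        Nat.beq (res2 E r E.D.fuel (E.D.tgt x v)) (res2 E r E.D.fuel b))

/-- the edge `(v, x)` follows at time `r` as the reverse of a known edge. -/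
def revOK2 (E : Dat2) (r x v : ℕ) : Bool :=
  force (res2 E r E.D.fuel (E.D.tgt x v)) (fun w =>
    Nat.blt w E.M && Nat.blt (E.rank x w) r &&
      Nat.beq (res2 E r E.D.fuel (E.D.tgt x w)) (res2 E r E.D.fuel v))

/-- the edge `(v, x)` follows at time `r` from the known edge `(v', x)`, where `v'` resolves
to `v`. -/
def copyOK (E : Dat2) (r x v v' : ℕ) : Bool :=
  Nat.blt v' E.M && Nat.blt (E.rank x v') r && Nat.beq (res2 E r E.D.fuel v') v &&
    Nat.beq (res2 E r E.D.fuel (E.D.tgt x v)) (res2 E r E.D.fuel (E.D.tgt x v'))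

/-- the edge `(v, x)` is a defining edge. -/
def defOK (E : Dat2) (x v : ℕ) : Bool :=
  force (E.D.tgt x v) (fun w =>
    (Nat.blt 0 w && Nat.blt (E.D.par w) w && Nat.beq (E.D.par w) v && Nat.beq (E.D.gen w) x) ||
    (Nat.blt 0 v && Nat.blt (E.D.par v) v && Nat.beq (E.D.par v) w && Nat.beq (E.D.gen v) x))

/-- the edge `(v, x)` is justified (if it has a time stamp at all). -/
def edgeOK (E : Dat2) (x v : ℕ) : Bool :=
  force (E.rank x v) (fun r =>
    bif Nat.beq r INF then true
    else bif Nat.beq r 0 then defOK E x v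
    else bif Nat.beq (Nat.mod r 2) 1 then revOK2 E r x v
    else force (E.ev (Nat.div r 2)) (fun j =>
      bif Nat.beq (Nat.mod j 4) 1 then
        gapOK E r x v (Nat.mod (Nat.div j 4) 256) (Nat.mod (Nat.div j 1024) 256)
          (Nat.div j 262144)
      else bif Nat.beq (Nat.mod j 4) 3 then copyOK E r x v (Nat.div j 262144)
      else false))

/-- the alias of `v` follows at time `r` from the closed loop `wi` at `c`, walked forward `i`
letters and backward the rest. -/
def closedOK (E : Dat2) (r v wi i c : ℕ) : Bool :=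
  loopOK2 E r wi c && Nat.ble i (E.D.wlen wi) &&
    force (wk2 E r i c (E.D.wordP wi)) (fun e =>
      force (wk2 E r (Nat.sub (E.D.wlen wi) i) c (E.D.wordR wi)) (fun b =>
        Nat.blt e E.M && Nat.blt b E.M &&
          force (res2 E r E.D.fuel e) (fun e' => force (res2 E r E.D.fuel b) (fun b' =>
            (Nat.beq e' (E.D.ali v) && Nat.beq b' v) ||
              (Nat.beq e' v && Nat.beq b' (E.D.ali v))))))

/-- the alias of `v` is justified (if it has a time stamp at all). -/
def aliasOK (E : Dat2) (v : ℕ) : Bool :=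
  force (E.arank v) (fun r =>
    bif Nat.beq r INF then true
    else force (E.ev (Nat.div r 2)) (fun j =>
      Nat.beq (Nat.mod j 4) 2 &&
        closedOK E r v (Nat.mod (Nat.div j 4) 256) (Nat.mod (Nat.div j 1024) 256)
          (Nat.div j 262144)))

/-- all edges `(v, x)` with `lo ≤ v < lo + n` are justified. -/
def edgesRange (E : Dat2) (x n : ℕ) : ℕ → Bool :=
  Nat.rec (motive := fun _ => ℕ → Bool) (fun _ => true)
    (fun _ ih v => bif edgeOK E x v then force (Nat.succ v) ih else false) n

theorem edgesRange_zero (E : Dat2) (x v : ℕ) : edgesRange E x 0 v = true := rfl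

theorem edgesRange_succ (E : Dat2) (x n v : ℕ) : edgesRange E x (n + 1) v =
    bif edgeOK E x v then edgesRange E x n (v + 1) else false := by
  show (bif _ then force _ _ else _) = _
  rw [force_eq]
  rfl

/-- all aliases of `v` with `lo ≤ v < lo + n` are justified. -/
def aliasRange (E : Dat2) (n : ℕ) : ℕ → Bool :=
  Nat.rec (motive := fun _ => ℕ → Bool) (fun _ => true)
    (fun _ ih v => bif aliasOK E v then force (Nat.succ v) ih else false) n

theorem aliasRange_zero (E : Dat2) (v : ℕ) : aliasRange E 0 v = true := rfl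

theorem aliasRange_succ (E : Dat2) (n v : ℕ) : aliasRange E (n + 1) v =
    bif aliasOK E v then aliasRange E n (v + 1) else false := by
  show (bif _ then force _ _ else _) = _
  rw [force_eq]
  rfl

/-- all edges `(v, x')`, `x' < x`, have a time stamp and lead (after resolution) into `RS`. -/
def rowOK2 (E : Dat2) (RS v x : ℕ) : Bool :=
  Nat.rec (motive := fun _ => Bool) true
    (fun x' ih => Nat.blt (E.rank x' v) INF &&
      tb RS (res2 E INF E.D.fuel (E.D.tgt x' v)) && ih) x

theorem rowOK2_succ (E : Dat2) (RS v x : ℕ) : rowOK2 E RS v (x + 1) =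
    (Nat.blt (E.rank x v) INF && tb RS (res2 E INF E.D.fuel (E.D.tgt x v)) && rowOK2 E RS v x) :=
  rfl

/-- all members `v` of `RS` with `lo ≤ v < lo + n` have complete rows. -/
def rowsRange (E : Dat2) (RS n : ℕ) : ℕ → Bool :=
  Nat.rec (motive := fun _ => ℕ → Bool) (fun _ => true)
    (fun _ ih v => bif (!tb RS v || rowOK2 E RS v E.D.k) then force (Nat.succ v) ih else false) n

theorem rowsRange_zero (E : Dat2) (RS v : ℕ) : rowsRange E RS 0 v = true := rfl

theorem rowsRange_succ (E : Dat2) (RS n v : ℕ) : rowsRange E RS (n + 1) v =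
    bif (!tb RS v || rowOK2 E RS v E.D.k) then rowsRange E RS n (v + 1) else false := by
  show (bif _ then force _ _ else _) = _
  rw [force_eq]
  rfl

/-- the set `RS` has `N` elements below `M`, contains `0`. -/
def setOK (M N RS : ℕ) : Bool :=
  Nat.beq (cntBits RS M) N && tb RS 0 && Nat.blt RS (Nat.pow 2 M)

end Cfsg.Agent.Helper5.TC
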