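import Mathlib
import Cfsg.Agent.Helper5.TCCertA

/-!
# Soundness of the Todd–Coxeter certificate checker
-/

set_option autoImplicit false

namespace Cfsg.Agent.Helper5.TC

theorem nadd (a b : ℕ) : Nat.add a b = a + b := rfl
theorem nmul (a b : ℕ) : Nat.mul a b = a * b := rfl
theorem nsub (a b : ℕ) : Nat.sub a b = a - b := rfl
theorem ndiv (a b : ℕ) : Nat.div a b = a / b := rfl
theorem nmod (a b : ℕ) : Nat.mod a b = a % b := rfl
theorem nshr (a b : ℕ) : Nat.shiftRight a b = a >>> b := rfl

/-- the first `n` letters of a packed word. -/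
def unpack : ℕ → ℕ → List ℕ
  | 0, _ => []
  | n + 1, w => (w % 16) :: unpack n (w / 16)

theorem unpack_length : ∀ (n w : ℕ), (unpack n w).length = n
  | 0, _ => rfl
  | n + 1, w => by simp [unpack, unpack_length n]

theorem unpack_add : ∀ (a b w : ℕ), unpack (a + b) w = unpack a w ++ unpack b (w / 16 ^ a)
  | 0, b, w => by simp [unpack]
  | a + 1, b, w => by
    rw [show a + 1 + b = (a + b) + 1 by ring, unpack, unpack, unpack_add a b (w / 16)]
    rw [Nat.div_div_eq_div_mul, pow_succ, mul_comm]
    rfl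

/-- the list version of the walk. -/
def wkL (D : Dat) (KE KA : ℕ) : ℕ → List ℕ → Option ℕ
  | v, [] => some v
  | v, x :: l =>
    bif Nat.blt x D.k && tb KE (v * D.k + x) then
      wkL D KE KA (res D KA D.fuel (D.tgt x v)) l
    else none

theorem wkN_eq (D : Dat) (KE KA : ℕ) : ∀ (n v w : ℕ),
    wkN D KE KA n v w = wkL D KE KA v (unpack n w)
  | 0, v, w => rfl
  | n + 1, v, w => by
    rw [wkN, unpack, wkL, wkN_eq D KE KA n]
    rfl

section
variable {G : Type*} [Group G] {Q : Type*} [MulAction G Q]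

/-- product of a word, letters acting from the left in order. -/
def rprod (g : ℕ → G) : List ℕ → G
  | [] => 1
  | x :: l => rprod g l * g x

theorem rprod_append (g : ℕ → G) : ∀ (l₁ l₂ : List ℕ),
    rprod g (l₁ ++ l₂) = rprod g l₂ * rprod g l₁
  | [], l₂ => by simp [rprod]
  | x :: l₁, l₂ => by
    rw [List.cons_append, rprod, rprod, rprod_append g l₁ l₂, mul_assoc]

theorem rprod_reverse_mul (g : ℕ → G) : ∀ (s : List ℕ), (∀ x ∈ s, g x * g x = 1) →
    rprod g s * rprod g s.reverse = 1
  | [], _ => by simp [rprod]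
  | x :: s, h => by
    rw [List.reverse_cons, rprod_append, rprod, rprod, rprod, one_mul]
    have h1 : g x * g x = 1 := h x (List.mem_cons_self)
    have h2 := rprod_reverse_mul g s (fun y hy => h y (List.mem_cons_of_mem _ hy))
    calc rprod g s * g x * (g x * rprod g s.reverse)
        = rprod g s * (g x * g x) * rprod g s.reverse := by simp only [mul_assoc]
      _ = 1 := by rw [h1, mul_one, h2]

variable (g : ℕ → G) (q₀ : Q) (D : Dat)

/-- the point of `Q` attached to a virtual coset. -/
def pt (g : ℕ → G) (q₀ : Q) (D : Dat) (v : ℕ) : Q :=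
  if h : 0 < v ∧ D.par v < v then g (D.gen v) • pt g q₀ D (D.par v) else q₀
termination_by v
decreasing_by exact h.2

theorem pt_zero : pt g q₀ D 0 = q₀ := by
  rw [pt]; simp

theorem pt_succ {v : ℕ} (h0 : 0 < v) (h : D.par v < v) :
    pt g q₀ D v = g (D.gen v) • pt g q₀ D (D.par v) := by
  rw [pt, dif_pos ⟨h0, h⟩]

/-- the hypotheses on the words. -/
structure Hyp : Prop where
  inv : ∀ x, x < D.k → g x * g x = 1
  rev : ∀ wi, wi < D.nw →
    unpack (D.wlen wi) (D.wordR wi) = (unpack (D.wlen wi) (D.wordP wi)).reverse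
  rel : ∀ wi, wi < D.nrel → ∀ q : Q, rprod g (unpack (D.wlen wi) (D.wordP wi)) • q = q
  sub : ∀ wi, wi < D.nw → rprod g (unpack (D.wlen wi) (D.wordP wi)) • q₀ = q₀
  le : D.nrel ≤ D.nw

/-- the invariant. -/
def Inv (KE KA : ℕ) : Prop :=
  (∀ v x, x < D.k → tb KE (v * D.k + x) = true → g x • pt g q₀ D v = pt g q₀ D (D.tgt x v)) ∧
  (∀ v, tb KA v = true → pt g q₀ D v = pt g q₀ D (D.ali v))

variable {g q₀ D}

theorem res_pt {KE KA : ℕ} (hI : Inv g q₀ D KE KA) :
    ∀ (f v : ℕ), pt g q₀ D (res D KA f v) = pt g q₀ D v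
  | 0, v => rfl
  | f + 1, v => by
    rw [res]
    cases h : tb KA v with
    | false => rfl
    | true =>
      rw [cond_true, res_pt hI f, ← hI.2 v h]

theorem wkL_pt {KE KA : ℕ} (hI : Inv g q₀ D KE KA) :
    ∀ (u : List ℕ) (v e : ℕ), wkL D KE KA v u = some e →
      pt g q₀ D e = rprod g u • pt g q₀ D v ∧ ∀ x ∈ u, x < D.k
  | [], v, e, h => by
    rw [wkL] at h
    obtain rfl : v = e := Option.some.inj h
    exact ⟨by rw [rprod, one_smul], by simp⟩
  | x :: l, v, e, h => by
    rw [wkL] at h
    cases hc : (Nat.blt x D.k && tb KE (v * D.k + x)) with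
    | false => rw [hc, cond_false] at h; exact absurd h (by simp)
    | true =>
      rw [hc, cond_true] at h
      obtain ⟨h1, h2⟩ := Bool.and_eq_true_iff.mp hc
      have hx : x < D.k := by rwa [Nat.blt_eq] at h1
      obtain ⟨e1, e2⟩ := wkL_pt hI l _ e h
      refine ⟨?_, ?_⟩
      · rw [e1, res_pt hI, ← hI.1 v x hx h2, rprod, mul_smul]
      · intro y hy
        rcases List.mem_cons.mp hy with rfl | hy
        · exact hx
        · exact e2 y hy

theorem Inv.sb_edge {KE KA : ℕ} (hI : Inv g q₀ D KE KA) {f x : ℕ} (hx : x < D.k)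
    (hk : 0 < D.k) (h : g x • pt g q₀ D f = pt g q₀ D (D.tgt x f)) :
    Inv g q₀ D (sb KE (f * D.k + x)) KA := by
  refine ⟨?_, hI.2⟩
  intro v y hy hb
  rcases tb_sb_cases hb with hb | he
  · exact hI.1 v y hy hb
  · -- f * k + x = v * k + y with x, y < k
    have h1 : (f * D.k + x) / D.k = (v * D.k + y) / D.k := by rw [he]
    have h2 : (f * D.k + x) % D.k = (v * D.k + y) % D.k := by rw [he]
    rw [Nat.mul_comm f, Nat.mul_comm v, Nat.mul_add_div hk, Nat.mul_add_div hk,
      Nat.div_eq_of_lt hx, Nat.div_eq_of_lt hy, add_zero, add_zero] at h1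
    rw [Nat.mul_comm f, Nat.mul_comm v, Nat.mul_add_mod, Nat.mul_add_mod,
      Nat.mod_eq_of_lt hx, Nat.mod_eq_of_lt hy] at h2
    subst h1; subst h2
    exact h

theorem setEdge_inv (hH : Hyp g q₀ D) {KE KA : ℕ} (hI : Inv g q₀ D KE KA) {f x b : ℕ}
    (hx : x < D.k) (h : g x • pt g q₀ D f = pt g q₀ D (D.tgt x f))
    (hb : pt g q₀ D b = g x • pt g q₀ D f) :
    Inv g q₀ D (setEdge D KE KA f x b) KA := by
  have hk : 0 < D.k := lt_of_le_of_lt (Nat.zero_le _) hx
  have h1 := hI.sb_edge hx hk h
  unfold setEdge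
  cases hc : Nat.beq (res D KA D.fuel (D.tgt x b)) (res D KA D.fuel f) with
  | false => rw [cond_false]; exact h1
  | true =>
    rw [cond_true]
    have e := Nat.eq_of_beq_eq_true hc
    apply h1.sb_edge hx hk
    have e1 : pt g q₀ D (D.tgt x b) = pt g q₀ D f := by
      rw [← res_pt hI D.fuel (D.tgt x b), e, res_pt hI]
    rw [e1, hb, ← mul_smul, hH.inv x hx, one_smul]

/-- the word `wi` fixes `pt c` when `loopOK`. -/
theorem loop_of_ok (hH : Hyp g q₀ D) {KE KA : ℕ} (hI : Inv g q₀ D KE KA) {wi c : ℕ}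
    (h : loopOK D KA wi c = true) :
    wi < D.nw ∧ rprod g (unpack (D.wlen wi) (D.wordP wi)) • pt g q₀ D c = pt g q₀ D c := by
  unfold loopOK at h
  rcases Bool.or_eq_true_iff.mp h with h | h
  · rw [Nat.blt_eq] at h
    exact ⟨lt_of_lt_of_le h hH.le, hH.rel wi h _⟩
  · obtain ⟨h1, h2⟩ := Bool.and_eq_true_iff.mp h
    rw [Nat.blt_eq] at h1
    have e := Nat.eq_of_beq_eq_true h2
    have e1 : pt g q₀ D c = q₀ := by
      rw [← res_pt hI D.fuel c, e, pt_zero]
    rw [e1]
    exact ⟨h1, hH.sub wi h1⟩

/-- the algebraic core of event 1. -/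
theorem gap_core (hH : Hyp g q₀ D) {l₁ s : List ℕ} {x : ℕ} {pc pf pb : Q}
    (hloop : rprod g (l₁ ++ x :: s) • pc = pc) (hf : pf = rprod g l₁ • pc)
    (hb : pb = rprod g s.reverse • pc) (hs : ∀ y ∈ s, y < D.k) :
    g x • pf = pb := by
  have h1 : rprod g s * rprod g s.reverse = 1 :=
    rprod_reverse_mul g s (fun y hy => hH.inv y (hs y hy))
  have h2 : rprod g s • (g x • pf) = pc := by
    rw [hf, ← mul_smul, ← mul_smul]
    rw [rprod_append, rprod] at hloop
    exact hloop
  have h3 : rprod g s • pb = pc := by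
    rw [hb, ← mul_smul, h1, one_smul]
  exact MulAction.injective (rprod g s) (h2.trans h3.symm)

/-- the algebraic core of event 2. -/
theorem closed_core (hH : Hyp g q₀ D) {l₁ s : List ℕ} {pc pe pb : Q}
    (hloop : rprod g (l₁ ++ s) • pc = pc) (he : pe = rprod g l₁ • pc)
    (hb : pb = rprod g s.reverse • pc) (hs : ∀ y ∈ s, y < D.k) :
    pe = pb := by
  have h1 : rprod g s * rprod g s.reverse = 1 :=
    rprod_reverse_mul g s (fun y hy => hH.inv y (hs y hy))
  have h2 : rprod g s • pe = pc := by
    rw [he, ← mul_smul]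
    rw [rprod_append] at hloop
    exact hloop
  have h3 : rprod g s • pb = pc := by
    rw [hb, ← mul_smul, h1, one_smul]
  exact MulAction.injective (rprod g s) (h2.trans h3.symm)

theorem letter_eq (w i : ℕ) :
    Nat.mod (Nat.shiftRight w (Nat.mul 4 i)) 16 = w / 16 ^ i % 16 := by
  rw [nmod, nshr, nmul, Nat.shiftRight_eq_div_pow, pow_mul]
  norm_num

/-- splitting a word at position `i`. -/
theorem unpack_split {L i : ℕ} (hi : i < L) (w : ℕ) :
    unpack L w = unpack i w ++ (w / 16 ^ i % 16) :: unpack (L - 1 - i) (w / 16 ^ (i + 1)) := by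
  have e : L = i + ((L - 1 - i) + 1) := by omega
  conv_lhs => rw [e, unpack_add]
  congr 1
  rw [unpack]
  congr 2
  rw [Nat.div_div_eq_div_mul, pow_succ]

theorem take_reverse_of_split {u l₁ s : List ℕ} {x : ℕ} (h : u = l₁ ++ x :: s) :
    u.reverse.take s.length = s.reverse := by
  subst h
  rw [List.reverse_append, List.reverse_cons, List.append_assoc]
  rw [List.take_left' (by simp)]

theorem ev1_inv (hH : Hyp g q₀ D) {KE KA : ℕ} (hI : Inv g q₀ D KE KA) (wi i c : ℕ) :
    Inv g q₀ D (ev1 D KE KA wi i c).1 (ev1 D KE KA wi i c).2 := by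
  unfold ev1
  cases hc : (loopOK D KA wi c && Nat.blt i (D.wlen wi)) with
  | false => rw [cond_false]; exact hI
  | true =>
    rw [cond_true]
    obtain ⟨hl, hi⟩ := Bool.and_eq_true_iff.mp hc
    rw [Nat.blt_eq] at hi
    obtain ⟨hwi, hloop⟩ := loop_of_ok hH hI hl
    cases h1 : wkN D KE KA i c (D.wordP wi) with
    | none => exact hI
    | some f =>
      cases h2 : wkN D KE KA (Nat.sub (Nat.sub (D.wlen wi) 1) i) c (D.wordR wi) with
      | none => exact hI
      | some b =>
        simp only
        rw [letter_eq]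
        set x := D.wordP wi / 16 ^ i % 16 with hx
        cases h3 : (Nat.beq (res D KA D.fuel (D.tgt x f)) (res D KA D.fuel b) &&
            Nat.blt x D.k) with
        | false => rw [cond_false]; exact hI
        | true =>
          rw [cond_true]
          obtain ⟨h4, h5⟩ := Bool.and_eq_true_iff.mp h3
          rw [Nat.blt_eq] at h5
          have e4 := Nat.eq_of_beq_eq_true h4
          -- the word
          have hsplit := unpack_split hi (D.wordP wi)
          rw [← hx] at hsplit
          set l₁ := unpack i (D.wordP wi) with hl₁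
          set s := unpack (D.wlen wi - 1 - i) (D.wordP wi / 16 ^ (i + 1)) with hs
          have hslen : s.length = D.wlen wi - 1 - i := unpack_length _ _
          -- forward walk
          rw [wkN_eq] at h1 h2
          obtain ⟨pf, _⟩ := wkL_pt hI _ _ _ h1
          -- backward walk
          have hrev := hH.rev wi hwi
          have hb0 : unpack (D.wlen wi - 1 - i) (D.wordR wi) = s.reverse := by
            have e1 : D.wlen wi = (D.wlen wi - 1 - i) + (i + 1) := by omega
            have e2 : unpack (D.wlen wi) (D.wordR wi) =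
                unpack (D.wlen wi - 1 - i) (D.wordR wi) ++
                  unpack (i + 1) (D.wordR wi / 16 ^ (D.wlen wi - 1 - i)) := by
              conv_lhs => rw [e1, unpack_add]
            have e3 := take_reverse_of_split hsplit
            rw [← hrev, e2, hslen, List.take_left' (unpack_length _ _)] at e3
            exact e3
          rw [nsub, nsub, hb0] at h2
          obtain ⟨pb, hlet⟩ := wkL_pt hI _ _ _ h2
          have hs' : ∀ y ∈ s, y < D.k := fun y hy => hlet y (List.mem_reverse.mpr hy)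
          rw [hsplit] at hloop
          have key := gap_core hH hloop pf pb hs'
          apply setEdge_inv hH hI h5
          · rw [key, ← res_pt hI D.fuel (D.tgt x f), e4, res_pt hI]
          · rw [res_pt hI, key]

theorem ev2_inv (hH : Hyp g q₀ D) {KE KA : ℕ} (hI : Inv g q₀ D KE KA) (wi i c : ℕ) :
    Inv g q₀ D (ev2 D KE KA wi i c).1 (ev2 D KE KA wi i c).2 := by
  unfold ev2
  cases hc : (loopOK D KA wi c && Nat.ble i (D.wlen wi)) with
  | false => rw [cond_false]; exact hI
  | true =>
    rw [cond_true]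
    obtain ⟨hl, hi⟩ := Bool.and_eq_true_iff.mp hc
    rw [Nat.ble_eq] at hi
    obtain ⟨hwi, hloop⟩ := loop_of_ok hH hI hl
    cases h1 : wkN D KE KA i c (D.wordP wi) with
    | none => exact hI
    | some e =>
      cases h2 : wkN D KE KA (Nat.sub (D.wlen wi) i) c (D.wordR wi) with
      | none => exact hI
      | some b =>
        simp only
        -- the points coincide
        have hsplit : unpack (D.wlen wi) (D.wordP wi) =
            unpack i (D.wordP wi) ++ unpack (D.wlen wi - i) (D.wordP wi / 16 ^ i) := by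
          have e1 : D.wlen wi = i + (D.wlen wi - i) := by omega
          conv_lhs => rw [e1, unpack_add]
        set l₁ := unpack i (D.wordP wi) with hl₁
        set s := unpack (D.wlen wi - i) (D.wordP wi / 16 ^ i) with hs
        have hslen : s.length = D.wlen wi - i := unpack_length _ _
        rw [wkN_eq] at h1 h2
        obtain ⟨pe, _⟩ := wkL_pt hI _ _ _ h1
        have hrev := hH.rev wi hwi
        have hb0 : unpack (D.wlen wi - i) (D.wordR wi) = s.reverse := by
          have e1 : D.wlen wi = (D.wlen wi - i) + i := by omega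
          have e2 : unpack (D.wlen wi) (D.wordR wi) =
              unpack (D.wlen wi - i) (D.wordR wi) ++
                unpack i (D.wordR wi / 16 ^ (D.wlen wi - i)) := by
            conv_lhs => rw [e1, unpack_add]
          have e3 : (unpack (D.wlen wi) (D.wordP wi)).reverse.take s.length = s.reverse := by
            rw [hsplit, List.reverse_append, List.take_left' (by simp)]
          rw [← hrev, e2, hslen, List.take_left' (unpack_length _ _)] at e3
          exact e3
        rw [nsub, hb0] at h2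
        obtain ⟨pb, hlet⟩ := wkL_pt hI _ _ _ h2
        have hs' : ∀ y ∈ s, y < D.k := fun y hy => hlet y (List.mem_reverse.mpr hy)
        rw [hsplit] at hloop
        have key : pt g q₀ D e = pt g q₀ D b := closed_core hH hloop pe pb hs'
        have key' : pt g q₀ D (res D KA D.fuel e) = pt g q₀ D (res D KA D.fuel b) := by
          rw [res_pt hI, res_pt hI, key]
        cases h3 : (Nat.blt (res D KA D.fuel e) (res D KA D.fuel b) &&
            Nat.beq (D.ali (res D KA D.fuel b)) (res D KA D.fuel e)) with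
        | true =>
          rw [cond_true]
          obtain ⟨_, h5⟩ := Bool.and_eq_true_iff.mp h3
          have e5 := Nat.eq_of_beq_eq_true h5
          refine ⟨hI.1, ?_⟩
          intro v hv
          rcases tb_sb_cases hv with hv | rfl
          · exact hI.2 v hv
          · rw [e5, key']
        | false =>
          rw [cond_false]
          cases h4 : (Nat.blt (res D KA D.fuel b) (res D KA D.fuel e) &&
              Nat.beq (D.ali (res D KA D.fuel e)) (res D KA D.fuel b)) with
          | true =>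
            rw [cond_true]
            obtain ⟨_, h5⟩ := Bool.and_eq_true_iff.mp h4
            have e5 := Nat.eq_of_beq_eq_true h5
            refine ⟨hI.1, ?_⟩
            intro v hv
            rcases tb_sb_cases hv with hv | rfl
            · exact hI.2 v hv
            · rw [e5, key']
          | false => rw [cond_false]; exact hI

theorem ev3_inv (hH : Hyp g q₀ D) {KE KA : ℕ} (hI : Inv g q₀ D KE KA) (x v : ℕ) :
    Inv g q₀ D (ev3 D KE KA x v).1 (ev3 D KE KA x v).2 := by
  unfold ev3
  cases hc : (tb KA v && tb KE (Nat.add (Nat.mul v D.k) x) && Nat.blt x D.k &&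
      Nat.beq (res D KA D.fuel (D.tgt x (res D KA D.fuel v))) (res D KA D.fuel (D.tgt x v))) with
  | false => rw [cond_false]; exact hI
  | true =>
    rw [cond_true]
    obtain ⟨h123, h4⟩ := Bool.and_eq_true_iff.mp hc
    obtain ⟨h12, h3⟩ := Bool.and_eq_true_iff.mp h123
    obtain ⟨_, h2⟩ := Bool.and_eq_true_iff.mp h12
    rw [Nat.blt_eq] at h3
    have e4 := Nat.eq_of_beq_eq_true h4
    rw [nadd, nmul] at h2
    have hE := hI.1 v x h3 h2
    simp only
    apply setEdge_inv hH hI h3
    · rw [res_pt hI, hE, ← res_pt hI D.fuel (D.tgt x (res D KA D.fuel v)), e4, res_pt hI]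
    · rw [res_pt hI, res_pt hI, hE]

theorem evStep_inv (hH : Hyp g q₀ D) {KE KA : ℕ} (hI : Inv g q₀ D KE KA) (ev : ℕ) :
    Inv g q₀ D (evStep D ev KE KA).1 (evStep D ev KE KA).2 := by
  unfold evStep
  cases h1 : Nat.beq (Nat.mod ev 4) 1 with
  | true => rw [cond_true]; exact ev1_inv hH hI _ _ _
  | false =>
    rw [cond_false]
    cases h2 : Nat.beq (Nat.mod ev 4) 2 with
    | true => rw [cond_true]; exact ev2_inv hH hI _ _ _
    | false =>
      rw [cond_false]
      cases h3 : Nat.beq (Nat.mod ev 4) 3 with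
      | true => rw [cond_true]; exact ev3_inv hH hI _ _
      | false => rw [cond_false]; exact hI

theorem chunkRun_inv (hH : Hyp g q₀ D) : ∀ (f ch KE KA : ℕ), Inv g q₀ D KE KA →
    Inv g q₀ D (chunkRun D f ch KE KA).1 (chunkRun D f ch KE KA).2
  | 0, _, _, _, hI => hI
  | f + 1, ch, KE, KA, hI => by
    rw [chunkRun]
    cases h : Nat.beq ch 0 with
    | true => rw [cond_true]; exact hI
    | false =>
      rw [cond_false]
      have h1 := evStep_inv hH hI (Nat.mod ch 281474976710656)
      generalize evStep D (Nat.mod ch 281474976710656) KE KA = st at h1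
      obtain ⟨KE', KA'⟩ := st
      exact chunkRun_inv hH f _ KE' KA' h1

theorem runAll_inv (hH : Hyp g q₀ D) : ∀ (cert : List ℕ) (KE KA : ℕ), Inv g q₀ D KE KA →
    Inv g q₀ D (runAll D cert KE KA).1 (runAll D cert KE KA).2
  | [], _, _, hI => hI
  | ch :: rest, KE, KA, hI => by
    rw [runAll]
    have h1 := chunkRun_inv hH 100000 ch KE KA hI
    generalize chunkRun D 100000 ch KE KA = st at h1
    obtain ⟨KE', KA'⟩ := st
    exact runAll_inv hH rest KE' KA' h1

theorem initKE_inv (hH : Hyp g q₀ D) : ∀ (m KE : ℕ), Inv g q₀ D KE 0 →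
    Inv g q₀ D (initKE D m KE) 0
  | 0, _, hI => hI
  | m + 1, KE, hI => by
    rw [initKE]
    cases hc : (Nat.blt 0 m && Nat.blt (D.par m) m && Nat.blt (D.gen m) D.k &&
        Nat.beq (D.tgt (D.gen m) (D.par m)) m && Nat.beq (D.tgt (D.gen m) m) (D.par m)) with
    | false => rw [cond_false]; exact initKE_inv hH m KE hI
    | true =>
      rw [cond_true]
      apply initKE_inv hH m
      obtain ⟨h1234, h5⟩ := Bool.and_eq_true_iff.mp hc
      obtain ⟨h123, h4⟩ := Bool.and_eq_true_iff.mp h1234
      obtain ⟨h12, h3⟩ := Bool.and_eq_true_iff.mp h123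
      obtain ⟨h1, h2⟩ := Bool.and_eq_true_iff.mp h12
      rw [Nat.blt_eq] at h1 h2 h3
      have e4 := Nat.eq_of_beq_eq_true h4
      have e5 := Nat.eq_of_beq_eq_true h5
      have hk : 0 < D.k := lt_of_le_of_lt (Nat.zero_le _) h3
      have hp := pt_succ g q₀ D h1 h2
      rw [nadd, nadd, nmul, nmul]
      apply Inv.sb_edge _ h3 hk
      · rw [e5, hp, ← mul_smul, hH.inv _ h3, one_smul]
      · apply hI.sb_edge h3 hk
        rw [e4, hp]

theorem inv_zero : Inv g q₀ D 0 0 :=
  ⟨fun v x _ h => by rw [tb_zero] at h; exact absurd h (by simp),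
   fun v h => by rw [tb_zero] at h; exact absurd h (by simp)⟩

theorem rowOK_spec {KE KA RS v : ℕ} : ∀ (x : ℕ), rowOK D KE KA RS v x = true →
    ∀ y, y < x → tb KE (v * D.k + y) = true ∧ tb RS (res D KA D.fuel (D.tgt y v)) = true
  | 0, _, y, hy => absurd hy (Nat.not_lt_zero y)
  | x + 1, h, y, hy => by
    rw [rowOK] at h
    obtain ⟨h12, h3⟩ := Bool.and_eq_true_iff.mp h
    obtain ⟨h1, h2⟩ := Bool.and_eq_true_iff.mp h12
    rcases Nat.lt_succ_iff_lt_or_eq.mp hy with hy | rfl
    · exact rowOK_spec x h3 y hy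
    · exact ⟨h1, h2⟩

theorem allRows_spec {KE KA RS : ℕ} : ∀ (m : ℕ), allRows D KE KA RS m = true →
    ∀ v, v < m → tb RS v = true → rowOK D KE KA RS v D.k = true
  | 0, _, v, hv, _ => absurd hv (Nat.not_lt_zero v)
  | m + 1, h, v, hv, hr => by
    rw [allRows] at h
    obtain ⟨h1, h2⟩ := Bool.and_eq_true_iff.mp h
    rcases Nat.lt_succ_iff_lt_or_eq.mp hv with hv | rfl
    · exact allRows_spec m h2 v hv hr
    · rcases Bool.or_eq_true_iff.mp h1 with h1 | h1
      · rw [hr] at h1; exact absurd h1 (by simp)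
      · exact h1

theorem cntBits_eq (RS : ℕ) : ∀ m : ℕ,
    cntBits RS m = ((Finset.range m).filter (fun v => tb RS v = true)).card
  | 0 => rfl
  | m + 1 => by
    rw [cntBits, Finset.range_add_one, Finset.filter_insert, cntBits_eq RS m]
    cases h : tb RS m with
    | true =>
      rw [cond_true, if_pos rfl, Finset.card_insert_of_notMem]
      simp
    | false =>
      rw [cond_false, if_neg (by simp)]

/-- **Main theorem**: a valid certificate bounds the size of a transitive `G`-set. -/
theorem card_le_of_cert (hH : Hyp g q₀ D)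
    (hgen : Subgroup.closure (g '' {x | x < D.k}) = ⊤)
    (htr : ∀ q : Q, ∃ a : G, a • q₀ = q) {M N RS : ℕ} {cert : List ℕ}
    (hc : certOK D M N RS cert = true) : Finite Q ∧ Nat.card Q ≤ N := by
  unfold certOK at hc
  have hI := runAll_inv hH cert _ 0 (initKE_inv hH M 0 inv_zero)
  generalize runAll D cert (initKE D M 0) 0 = st at hc hI
  obtain ⟨KE, KA⟩ := st
  simp only at hc hI
  obtain ⟨h123, h4⟩ := Bool.and_eq_true_iff.mp hc
  obtain ⟨h12, h3⟩ := Bool.and_eq_true_iff.mp h123
  obtain ⟨h1, h2⟩ := Bool.and_eq_true_iff.mp h12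
  rw [Nat.blt_eq] at h3
  have e1 := Nat.eq_of_beq_eq_true h1
  -- members of RS are below M
  have hlt : ∀ v, tb RS v = true → v < M := by
    intro v hv
    by_contra hge
    rw [not_lt] at hge
    have : RS < 2 ^ v := lt_of_lt_of_le h3 (Nat.pow_le_pow_right (by norm_num) hge)
    rw [tb_eq, Nat.testBit_lt_two_pow this] at hv
    exact absurd hv (by simp)
  set F := (Finset.range M).filter (fun v => tb RS v = true) with hF
  have hFcard : F.card = N := by rw [← e1, cntBits_eq]
  -- the set of points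
  have hclosed : ∀ v ∈ F, ∀ x, x < D.k → ∃ w ∈ F, g x • pt g q₀ D v = pt g q₀ D w := by
    intro v hv x hx
    rw [hF, Finset.mem_filter, Finset.mem_range] at hv
    have hrow := rowOK_spec D.k (allRows_spec M h4 v hv.1 hv.2) x hx
    refine ⟨res D KA D.fuel (D.tgt x v), ?_, ?_⟩
    · rw [hF, Finset.mem_filter, Finset.mem_range]
      exact ⟨hlt _ hrow.2, hrow.2⟩
    · rw [res_pt hI, hI.1 v x hx hrow.1]
  have hall : ∀ a : G, ∀ v ∈ F, ∃ w ∈ F, a • pt g q₀ D v = pt g q₀ D w := by
    intro a
    have ha : a ∈ Subgroup.closure (g '' {x | x < D.k}) := by rw [hgen]; trivial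
    induction ha using Subgroup.closure_induction with
    | mem y hy =>
      obtain ⟨x, hx, rfl⟩ := hy
      exact fun v hv => hclosed v hv x hx
    | one => exact fun v hv => ⟨v, hv, one_smul _ _⟩
    | mul a b _ _ iha ihb =>
      intro v hv
      obtain ⟨w, hw, e⟩ := ihb v hv
      obtain ⟨w', hw', e'⟩ := iha w hw
      exact ⟨w', hw', by rw [mul_smul, e, e']⟩
    | inv a _ iha =>
      -- `a` permutes the finite set of points `pt '' F`
      intro v hv
      classical
      let P : Finset Q := F.image (pt g q₀ D)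
      have hmaps : ∀ p ∈ P, a • p ∈ P := by
        intro p hp
        obtain ⟨u, hu, rfl⟩ := Finset.mem_image.mp hp
        obtain ⟨w, hw, e⟩ := iha u hu
        exact Finset.mem_image.mpr ⟨w, hw, e.symm⟩
      have hsurj : Set.SurjOn (fun p : Q => a • p) (P : Set Q) (P : Set Q) := by
        have hinj : Set.InjOn (fun p : Q => a • p) (P : Set Q) :=
          fun p _ p' _ h => MulAction.injective a h
        exact (Finset.surjOn_of_injOn_of_card_le (fun p => a • p) hmaps hinj le_rfl)
      have hvP : pt g q₀ D v ∈ (P : Set Q) := Finset.mem_coe.mpr (Finset.mem_image_of_mem _ hv)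
      obtain ⟨p, hp, e⟩ := hsurj hvP
      obtain ⟨w, hw, rfl⟩ := Finset.mem_image.mp (Finset.mem_coe.mp hp)
      refine ⟨w, hw, ?_⟩
      simp only at e
      rw [← e, inv_smul_smul]
  have h0 : 0 ∈ F := by
    rw [hF, Finset.mem_filter, Finset.mem_range]
    exact ⟨hlt 0 h2, h2⟩
  have hcov : ∀ q : Q, ∃ w ∈ F, q = pt g q₀ D w := by
    intro q
    obtain ⟨a, rfl⟩ := htr q
    obtain ⟨w, hw, e⟩ := hall a 0 h0
    rw [pt_zero] at e
    exact ⟨w, hw, e⟩
  have hsurj : Function.Surjective (fun w : F => pt g q₀ D w.1) := by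
    intro q
    obtain ⟨w, hw, e⟩ := hcov q
    exact ⟨⟨w, hw⟩, e.symm⟩
  refine ⟨Finite.of_surjective _ hsurj, ?_⟩
  have := Nat.card_le_card_of_surjective _ hsurj
  have e2 : Nat.card F = N := by
    rw [Nat.card_eq_fintype_card, Fintype.card_coe, hFcard]
  rwa [e2] at this

end

end Cfsg.Agent.Helper5.TC
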