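import Mathlib
import Cfsg.Agent.Helper5.TCCertB
import Cfsg.Agent.Helper5.TC2A

/-!
# Soundness of the stateless Todd–Coxeter certificate checker
-/

set_option autoImplicit false

namespace Cfsg.Agent.Helper5.TC

/-- the list version of the walk. -/
def wkL2 (E : Dat2) (t : ℕ) : ℕ → List ℕ → ℕ
  | v, [] => v
  | v, x :: l => wkL2 E t (step2 E t v x) l

theorem wk2_eq (E : Dat2) (t : ℕ) : ∀ (n v w : ℕ), wk2 E t n v w = wkL2 E t v (unpack n w)
  | 0, _, _ => rfl
  | n + 1, v, w => by rw [wk2_succ, unpack, wkL2, wk2_eq E t n]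

theorem step2_of_ge (E : Dat2) (t : ℕ) {v : ℕ} (x : ℕ) (h : E.M ≤ v) : step2 E t v x = E.M := by
  unfold step2
  have : Nat.blt v E.M = false := by
    rw [← Bool.not_eq_true, Nat.blt_eq]
    omega
  rw [this]
  rfl

theorem wkL2_ge (E : Dat2) (t : ℕ) : ∀ (l : List ℕ) (v : ℕ), E.M ≤ v → E.M ≤ wkL2 E t v l
  | [], _, h => h
  | x :: l, v, h => by
    rw [wkL2, step2_of_ge E t x h]
    exact wkL2_ge E t l _ le_rfl

section
variable {G : Type*} [Group G] {Q : Type*} [MulAction G Q]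
variable (g : ℕ → G) (q₀ : Q) (E : Dat2)

/-- the invariant at time `t`. -/
def Inv2 (t : ℕ) : Prop :=
  (∀ v x, v < E.M → x < E.D.k → E.rank x v < t →
    g x • pt g q₀ E.D v = pt g q₀ E.D (E.D.tgt x v)) ∧
  (∀ v, v < E.M → E.arank v < t → pt g q₀ E.D v = pt g q₀ E.D (E.D.ali v))

variable {g q₀ E}

theorem res2_pt {t : ℕ} (hI : Inv2 g q₀ E t) :
    ∀ (f v : ℕ), pt g q₀ E.D (res2 E t f v) = pt g q₀ E.D v
  | 0, _ => rfl
  | f + 1, v => by
    rw [res2_succ]
    cases h : (Nat.blt v E.M && Nat.blt (E.arank v) t) with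
    | false => rfl
    | true =>
      rw [cond_true, res2_pt hI f]
      obtain ⟨h1, h2⟩ := Bool.and_eq_true_iff.mp h
      rw [Nat.blt_eq] at h1 h2
      exact (hI.2 v h1 h2).symm

theorem step2_pt {t : ℕ} (hI : Inv2 g q₀ E t) {v x : ℕ} (he : step2 E t v x < E.M) :
    x < E.D.k ∧ pt g q₀ E.D (step2 E t v x) = g x • pt g q₀ E.D v := by
  unfold step2 at he ⊢
  cases hc : (Nat.blt v E.M && Nat.blt x E.D.k && Nat.blt (E.rank x v) t) with
  | false =>
    rw [hc, cond_false] at he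
    exact absurd he (lt_irrefl _)
  | true =>
    rw [cond_true]
    obtain ⟨h12, h3⟩ := Bool.and_eq_true_iff.mp hc
    obtain ⟨h1, h2⟩ := Bool.and_eq_true_iff.mp h12
    rw [Nat.blt_eq] at h1 h2 h3
    exact ⟨h2, by rw [res2_pt hI, hI.1 v x h1 h2 h3]⟩

theorem wkL2_pt {t : ℕ} (hI : Inv2 g q₀ E t) :
    ∀ (u : List ℕ) (v : ℕ), wkL2 E t v u < E.M →
      pt g q₀ E.D (wkL2 E t v u) = rprod g u • pt g q₀ E.D v ∧ ∀ x ∈ u, x < E.D.k
  | [], v, _ => ⟨by rw [wkL2, rprod, one_smul], by simp⟩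
  | x :: l, v, he => by
    rw [wkL2] at he ⊢
    by_cases hmid : step2 E t v x < E.M
    · obtain ⟨hx, e1⟩ := step2_pt hI hmid
      obtain ⟨e2, e3⟩ := wkL2_pt hI l _ he
      refine ⟨by rw [e2, e1, rprod, mul_smul], ?_⟩
      intro y hy
      rcases List.mem_cons.mp hy with rfl | hy
      · exact hx
      · exact e3 y hy
    · exfalso
      have := wkL2_ge E t l _ (not_lt.mp hmid)
      omega

/-- the word `wi` fixes `pt c` when `loopOK2`. -/
theorem loop_of_ok2 (hH : Hyp g q₀ E.D) {t : ℕ} (hI : Inv2 g q₀ E t) {wi c : ℕ}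
    (h : loopOK2 E t wi c = true) :
    wi < E.D.nw ∧
      rprod g (unpack (E.D.wlen wi) (E.D.wordP wi)) • pt g q₀ E.D c = pt g q₀ E.D c := by
  unfold loopOK2 at h
  rcases Bool.or_eq_true_iff.mp h with h | h
  · rw [Nat.blt_eq] at h
    exact ⟨lt_of_lt_of_le h hH.le, hH.rel wi h _⟩
  · obtain ⟨h1, h2⟩ := Bool.and_eq_true_iff.mp h
    rw [Nat.blt_eq] at h1
    have e := Nat.eq_of_beq_eq_true h2
    have e1 : pt g q₀ E.D c = q₀ := by
      rw [← res2_pt hI E.D.fuel c, e, pt_zero]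
    rw [e1]
    exact ⟨h1, hH.sub wi h1⟩

theorem gapOK_spec (hH : Hyp g q₀ E.D) {r : ℕ} (hI : Inv2 g q₀ E r) {x v wi i c : ℕ}
    (hv : v < E.M) (h : gapOK E r x v wi i c = true) :
    g x • pt g q₀ E.D v = pt g q₀ E.D (E.D.tgt x v) := by
  unfold gapOK at h
  rw [force_eq] at h
  simp only [Bool.and_eq_true] at h
  obtain ⟨⟨⟨⟨hl, hi⟩, hf⟩, hlet⟩, hb, hres⟩ := h
  rw [Nat.blt_eq] at hi hb
  have ef := Nat.eq_of_beq_eq_true hf
  have elet := Nat.eq_of_beq_eq_true hlet
  have eres := Nat.eq_of_beq_eq_true hres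
  obtain ⟨hwi, hloop⟩ := loop_of_ok2 hH hI hl
  rw [letter_eq] at elet
  -- the word
  have hsplit := unpack_split hi (E.D.wordP wi)
  rw [elet] at hsplit
  set l₁ := unpack i (E.D.wordP wi) with hl₁
  set s := unpack (E.D.wlen wi - 1 - i) (E.D.wordP wi / 16 ^ (i + 1)) with hs
  have hslen : s.length = E.D.wlen wi - 1 - i := unpack_length _ _
  -- forward walk
  rw [wk2_eq] at ef hb eres
  have hfM : wkL2 E r c l₁ < E.M := by rw [ef]; exact hv
  obtain ⟨pf, _⟩ := wkL2_pt hI _ _ hfM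
  rw [ef] at pf
  -- backward walk
  have hrev := hH.rev wi hwi
  have hb0 : unpack (E.D.wlen wi - 1 - i) (E.D.wordR wi) = s.reverse := by
    have e1 : E.D.wlen wi = (E.D.wlen wi - 1 - i) + (i + 1) := by omega
    have e2 : unpack (E.D.wlen wi) (E.D.wordR wi) =
        unpack (E.D.wlen wi - 1 - i) (E.D.wordR wi) ++
          unpack (i + 1) (E.D.wordR wi / 16 ^ (E.D.wlen wi - 1 - i)) := by
      conv_lhs => rw [e1, unpack_add]
    have e3 := take_reverse_of_split hsplit
    rw [← hrev, e2, hslen, List.take_left' (unpack_length _ _)] at e3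
    exact e3
  rw [nsub, nsub, hb0] at hb eres
  obtain ⟨pb, hlet'⟩ := wkL2_pt hI _ _ hb
  have hs' : ∀ y ∈ s, y < E.D.k := fun y hy => hlet' y (List.mem_reverse.mpr hy)
  rw [hsplit] at hloop
  have key := gap_core hH hloop pf pb hs'
  rw [key, ← res2_pt hI E.D.fuel (E.D.tgt x v), eres, res2_pt hI]

theorem closedOK_spec (hH : Hyp g q₀ E.D) {r : ℕ} (hI : Inv2 g q₀ E r) {v wi i c : ℕ}
    (h : closedOK E r v wi i c = true) :
    pt g q₀ E.D v = pt g q₀ E.D (E.D.ali v) := by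
  unfold closedOK at h
  rw [force_eq, force_eq, force_eq, force_eq] at h
  simp only [Bool.and_eq_true] at h
  obtain ⟨⟨hl, hi⟩, ⟨heM, hbM⟩, hfin⟩ := h
  rw [Nat.ble_eq] at hi
  rw [Nat.blt_eq] at heM hbM
  obtain ⟨hwi, hloop⟩ := loop_of_ok2 hH hI hl
  have hsplit : unpack (E.D.wlen wi) (E.D.wordP wi) =
      unpack i (E.D.wordP wi) ++ unpack (E.D.wlen wi - i) (E.D.wordP wi / 16 ^ i) := by
    have e1 : E.D.wlen wi = i + (E.D.wlen wi - i) := by omega
    conv_lhs => rw [e1, unpack_add]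
  set l₁ := unpack i (E.D.wordP wi) with hl₁
  set s := unpack (E.D.wlen wi - i) (E.D.wordP wi / 16 ^ i) with hs
  have hslen : s.length = E.D.wlen wi - i := unpack_length _ _
  rw [wk2_eq] at heM hfin
  rw [wk2_eq] at hbM hfin
  obtain ⟨pe, _⟩ := wkL2_pt hI _ _ heM
  have hrev := hH.rev wi hwi
  have hb0 : unpack (E.D.wlen wi - i) (E.D.wordR wi) = s.reverse := by
    have e1 : E.D.wlen wi = (E.D.wlen wi - i) + i := by omega
    have e2 : unpack (E.D.wlen wi) (E.D.wordR wi) =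
        unpack (E.D.wlen wi - i) (E.D.wordR wi) ++
          unpack i (E.D.wordR wi / 16 ^ (E.D.wlen wi - i)) := by
      conv_lhs => rw [e1, unpack_add]
    have e3 : (unpack (E.D.wlen wi) (E.D.wordP wi)).reverse.take s.length = s.reverse := by
      rw [hsplit, List.reverse_append, List.take_left' (by simp)]
    rw [← hrev, e2, hslen, List.take_left' (unpack_length _ _)] at e3
    exact e3
  rw [nsub, hb0] at hbM hfin
  obtain ⟨pb, hlet⟩ := wkL2_pt hI _ _ hbM
  have hs' : ∀ y ∈ s, y < E.D.k := fun y hy => hlet y (List.mem_reverse.mpr hy)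
  rw [hsplit] at hloop
  have key : pt g q₀ E.D (wkL2 E r c l₁) = pt g q₀ E.D (wkL2 E r c s.reverse) :=
    closed_core hH hloop pe pb hs'
  have key' : pt g q₀ E.D (res2 E r E.D.fuel (wkL2 E r c l₁))
      = pt g q₀ E.D (res2 E r E.D.fuel (wkL2 E r c s.reverse)) := by
    rw [res2_pt hI, res2_pt hI, key]
  rcases Bool.or_eq_true_iff.mp hfin with h1 | h1
  · obtain ⟨h2, h3⟩ := Bool.and_eq_true_iff.mp h1
    rw [Nat.eq_of_beq_eq_true h2, Nat.eq_of_beq_eq_true h3] at key'
    exact key'.symm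
  · obtain ⟨h2, h3⟩ := Bool.and_eq_true_iff.mp h1
    rw [Nat.eq_of_beq_eq_true h2, Nat.eq_of_beq_eq_true h3] at key'
    exact key'

theorem revOK2_spec (hH : Hyp g q₀ E.D) {r : ℕ} (hI : Inv2 g q₀ E r) {x v : ℕ}
    (hxk : x < E.D.k) (h : revOK2 E r x v = true) :
    g x • pt g q₀ E.D v = pt g q₀ E.D (E.D.tgt x v) := by
  unfold revOK2 at h
  rw [force_eq] at h
  simp only [Bool.and_eq_true] at h
  obtain ⟨⟨hw, hr⟩, hres⟩ := h
  rw [Nat.blt_eq] at hw hr
  have eres := Nat.eq_of_beq_eq_true hres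
  set w := res2 E r E.D.fuel (E.D.tgt x v) with hwdef
  have h1 := hI.1 w x hw hxk hr
  have h2 : pt g q₀ E.D (E.D.tgt x w) = pt g q₀ E.D v := by
    rw [← res2_pt hI E.D.fuel (E.D.tgt x w), eres, res2_pt hI]
  rw [h2] at h1
  rw [← h1, ← mul_smul, hH.inv x hxk, one_smul, hwdef, res2_pt hI]

theorem copyOK_spec {r : ℕ} (hI : Inv2 g q₀ E r) {x v v' : ℕ}
    (hxk : x < E.D.k) (h : copyOK E r x v v' = true) :
    g x • pt g q₀ E.D v = pt g q₀ E.D (E.D.tgt x v) := by
  unfold copyOK at h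
  simp only [Bool.and_eq_true] at h
  obtain ⟨⟨⟨hv', hr⟩, hres1⟩, hres2⟩ := h
  rw [Nat.blt_eq] at hv' hr
  have e1 := Nat.eq_of_beq_eq_true hres1
  have e2 := Nat.eq_of_beq_eq_true hres2
  have h1 := hI.1 v' x hv' hxk hr
  have h2 : pt g q₀ E.D v = pt g q₀ E.D v' := by
    rw [← e1, res2_pt hI]
  rw [h2, h1, ← res2_pt hI E.D.fuel (E.D.tgt x v'), ← e2, res2_pt hI]

theorem defOK_spec (hH : Hyp g q₀ E.D) {x v : ℕ} (hxk : x < E.D.k)
    (h : defOK E x v = true) :
    g x • pt g q₀ E.D v = pt g q₀ E.D (E.D.tgt x v) := by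
  unfold defOK at h
  rw [force_eq] at h
  rcases Bool.or_eq_true_iff.mp h with h | h
  · simp only [Bool.and_eq_true] at h
    obtain ⟨⟨⟨h1, h2⟩, h3⟩, h4⟩ := h
    rw [Nat.blt_eq] at h1 h2
    have e3 := Nat.eq_of_beq_eq_true h3
    have e4 := Nat.eq_of_beq_eq_true h4
    rw [pt_succ g q₀ E.D h1 h2, e3, e4]
  · simp only [Bool.and_eq_true] at h
    obtain ⟨⟨⟨h1, h2⟩, h3⟩, h4⟩ := h
    rw [Nat.blt_eq] at h1 h2
    have e3 := Nat.eq_of_beq_eq_true h3
    have e4 := Nat.eq_of_beq_eq_true h4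
    rw [pt_succ g q₀ E.D h1 h2, e3, e4, ← mul_smul, hH.inv x hxk, one_smul]

theorem edgeOK_spec (hH : Hyp g q₀ E.D) {x v : ℕ} (hxk : x < E.D.k) (hv : v < E.M)
    (h : edgeOK E x v = true) (hr : E.rank x v < INF) (hI : Inv2 g q₀ E (E.rank x v)) :
    g x • pt g q₀ E.D v = pt g q₀ E.D (E.D.tgt x v) := by
  unfold edgeOK at h
  rw [force_eq] at h
  have hne : Nat.beq (E.rank x v) INF = false := by
    rw [← Bool.not_eq_true]
    intro he
    have := Nat.eq_of_beq_eq_true he
    omega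
  rw [hne, cond_false] at h
  cases h0 : Nat.beq (E.rank x v) 0 with
  | true =>
    rw [h0, cond_true] at h
    exact defOK_spec hH hxk h
  | false =>
    rw [h0, cond_false] at h
    cases h1 : Nat.beq (Nat.mod (E.rank x v) 2) 1 with
    | true =>
      rw [h1, cond_true] at h
      exact revOK2_spec hH hI hxk h
    | false =>
      rw [h1, cond_false, force_eq] at h
      cases h2 : Nat.beq (Nat.mod (E.ev (Nat.div (E.rank x v) 2)) 4) 1 with
      | true =>
        rw [h2, cond_true] at h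
        exact gapOK_spec hH hI hv h
      | false =>
        rw [h2, cond_false] at h
        cases h3 : Nat.beq (Nat.mod (E.ev (Nat.div (E.rank x v) 2)) 4) 3 with
        | true =>
          rw [h3, cond_true] at h
          exact copyOK_spec hI hxk h
        | false =>
          rw [h3, cond_false] at h
          exact absurd h (by simp)

theorem aliasOK_spec (hH : Hyp g q₀ E.D) {v : ℕ}
    (h : aliasOK E v = true) (hr : E.arank v < INF) (hI : Inv2 g q₀ E (E.arank v)) :
    pt g q₀ E.D v = pt g q₀ E.D (E.D.ali v) := by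
  unfold aliasOK at h
  rw [force_eq] at h
  have hne : Nat.beq (E.arank v) INF = false := by
    rw [← Bool.not_eq_true]
    intro he
    have := Nat.eq_of_beq_eq_true he
    omega
  rw [hne, cond_false, force_eq] at h
  obtain ⟨_, h2⟩ := Bool.and_eq_true_iff.mp h
  exact closedOK_spec hH hI h2

/-- all justified edges and aliases hold. -/
theorem inv2_all (hH : Hyp g q₀ E.D)
    (hE : ∀ v, v < E.M → ∀ x, x < E.D.k → edgeOK E x v = true)
    (hA : ∀ v, v < E.M → aliasOK E v = true) :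
    ∀ t, t ≤ INF → Inv2 g q₀ E t := by
  intro t
  induction t using Nat.strong_induction_on with
  | _ t ih =>
    intro ht
    refine ⟨?_, ?_⟩
    · intro v x hv hx hr
      exact edgeOK_spec hH hx hv (hE v hv x hx) (lt_of_lt_of_le hr ht)
        (ih _ hr (le_trans (le_of_lt hr) ht))
    · intro v hv hr
      exact aliasOK_spec hH (hA v hv) (lt_of_lt_of_le hr ht)
        (ih _ hr (le_trans (le_of_lt hr) ht))

end

/-! ## the range checks -/

theorem edgesRange_spec (E : Dat2) (x : ℕ) : ∀ (n lo : ℕ), edgesRange E x n lo = true →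
    ∀ v, lo ≤ v → v < lo + n → edgeOK E x v = true
  | 0, lo, _, v, h1, h2 => by omega
  | n + 1, lo, h, v, h1, h2 => by
    rw [edgesRange_succ] at h
    cases hc : edgeOK E x lo with
    | false => rw [hc, cond_false] at h; exact absurd h (by simp)
    | true =>
      rw [hc, cond_true] at h
      rcases Nat.eq_or_lt_of_le h1 with rfl | h1
      · exact hc
      · exact edgesRange_spec E x n (lo + 1) h v h1 (by omega)

theorem aliasRange_spec (E : Dat2) : ∀ (n lo : ℕ), aliasRange E n lo = true →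
    ∀ v, lo ≤ v → v < lo + n → aliasOK E v = true
  | 0, lo, _, v, h1, h2 => by omega
  | n + 1, lo, h, v, h1, h2 => by
    rw [aliasRange_succ] at h
    cases hc : aliasOK E lo with
    | false => rw [hc, cond_false] at h; exact absurd h (by simp)
    | true =>
      rw [hc, cond_true] at h
      rcases Nat.eq_or_lt_of_le h1 with rfl | h1
      · exact hc
      · exact aliasRange_spec E n (lo + 1) h v h1 (by omega)

theorem rowsRange_spec (E : Dat2) (RS : ℕ) : ∀ (n lo : ℕ), rowsRange E RS n lo = true →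
    ∀ v, lo ≤ v → v < lo + n → tb RS v = true → rowOK2 E RS v E.D.k = true
  | 0, lo, _, v, h1, h2 => by omega
  | n + 1, lo, h, v, h1, h2 => by
    rw [rowsRange_succ] at h
    cases hc : (!tb RS lo || rowOK2 E RS lo E.D.k) with
    | false => rw [hc, cond_false] at h; exact absurd h (by simp)
    | true =>
      rw [hc, cond_true] at h
      rcases Nat.eq_or_lt_of_le h1 with rfl | h1
      · intro hv
        rw [hv] at hc
        simpa using hc
      · exact rowsRange_spec E RS n (lo + 1) h v h1 (by omega)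

theorem rowOK2_spec (E : Dat2) (RS v : ℕ) : ∀ (x : ℕ), rowOK2 E RS v x = true →
    ∀ x', x' < x → E.rank x' v < INF ∧ tb RS (res2 E INF E.D.fuel (E.D.tgt x' v)) = true
  | 0, _, x', hx' => absurd hx' (Nat.not_lt_zero _)
  | x + 1, h, x', hx' => by
    rw [rowOK2_succ, Bool.and_eq_true, Bool.and_eq_true] at h
    rcases Nat.lt_succ_iff_lt_or_eq.mp hx' with hx' | rfl
    · exact rowOK2_spec E RS v x h.2 x' hx'
    · exact ⟨by have := h.1.1; rwa [Nat.blt_eq] at this, h.1.2⟩

end Cfsg.Agent.Helper5.TC
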