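import Mathlib
import Cfsg.Agent.Helper5.TCCertB

/-!
# Certified coset enumeration: the permutation representation and the orbits of the subgroup
-/

set_option autoImplicit false

namespace Cfsg.Agent.Helper5.TC

/-! ## checks on a clean coset table -/

/-- walk the first `n` letters of a packed word on the table `T`. -/
def walkT (T : ℕ → ℕ → ℕ) : ℕ → ℕ → ℕ → ℕ
  | 0, _, v => v
  | n + 1, w, v => walkT T n (Nat.div w 16) (T (Nat.mod w 16) v)

/-- all of the first `n` letters are below `k`. -/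
def lettersOK (k : ℕ) : ℕ → ℕ → Bool
  | 0, _ => true
  | n + 1, w => Nat.blt (Nat.mod w 16) k && lettersOK k n (Nat.div w 16)

/-- all words have letters below `k`. -/
def wordsOK (D : Dat) : ℕ → Bool
  | 0 => true
  | j + 1 => lettersOK D.k (D.wlen j) (D.wordP j) && wordsOK D j

/-- generator `x` acts as an involution on the points below `m` (mapping them below `N`). -/
def invRow (T : ℕ → ℕ → ℕ) (N x : ℕ) : ℕ → Bool
  | 0 => true
  | m + 1 => Nat.blt (T x m) N && Nat.beq (T x (T x m)) m && invRow T N x m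

/-- all generators below `k` act as involutions on the points below `N`. -/
def invAll (T : ℕ → ℕ → ℕ) (N : ℕ) : ℕ → Bool
  | 0 => true
  | x + 1 => invRow T N x N && invAll T N x

/-- the word fixes all points below `m`. -/
def relPts (T : ℕ → ℕ → ℕ) (n w : ℕ) : ℕ → Bool
  | 0 => true
  | m + 1 => Nat.beq (walkT T n w m) m && relPts T n w m

/-- all words below `j` fix all points below `N`. -/
def relAll (T : ℕ → ℕ → ℕ) (D : Dat) (N : ℕ) : ℕ → Bool
  | 0 => true
  | j + 1 => relPts T (D.wlen j) (D.wordP j) N && relAll T D N j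

/-- all subgroup words below `j` fix the point `0`. -/
def subAll (T : ℕ → ℕ → ℕ) (D : Dat) : ℕ → Bool
  | 0 => true
  | j + 1 =>
    (Nat.blt j D.nrel || Nat.beq (walkT T (D.wlen j) (D.wordP j) 0) 0) && subAll T D j

/-- some generator below `x` maps `v` to a smaller point. -/
def connRow (T : ℕ → ℕ → ℕ) (v : ℕ) : ℕ → Bool
  | 0 => false
  | x + 1 => Nat.blt (T x v) v || connRow T v x

/-- every point below `m` other than `0` is mapped to a smaller point by some generator. -/
def connAll (T : ℕ → ℕ → ℕ) (k : ℕ) : ℕ → Bool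
  | 0 => true
  | m + 1 => (Nat.beq m 0 || connRow T m k) && connAll T k m

/-- the complete check of the permutation representation. -/
def permOK (T : ℕ → ℕ → ℕ) (D : Dat) (N : ℕ) : Bool :=
  Nat.blt 0 N && invAll T N D.k && relAll T D N D.nrel && subAll T D D.nw &&
    connAll T D.k N && wordsOK D D.nw

/-- reverse a packed word. -/
def packRev : ℕ → ℕ → ℕ → ℕ
  | 0, _, acc => acc
  | n + 1, w, acc => packRev n (Nat.div w 16) (Nat.add (Nat.mul acc 16) (Nat.mod w 16))

/-- the words `wordR` are the reverses of the words `wordP`. -/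
def revOK (D : Dat) : ℕ → Bool
  | 0 => true
  | j + 1 => Nat.beq (D.wordR j) (packRev (D.wlen j) (D.wordP j) 0) && revOK D j

/-- the packed word `(x y)^m`. -/
def cw (x y : ℕ) : ℕ → ℕ
  | 0 => 0
  | m + 1 => Nat.add (Nat.add x (Nat.mul 16 y)) (Nat.mul 256 (cw x y m))

/-- the words `x * k + y`, `y < j`, are the Coxeter words. -/
def coxRow (D : Dat) (mat : ℕ → ℕ → ℕ) (x : ℕ) : ℕ → Bool
  | 0 => true
  | y + 1 =>
    Nat.beq (D.wlen (Nat.add (Nat.mul x D.k) y)) (Nat.mul 2 (mat x y)) &&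
      Nat.beq (D.wordP (Nat.add (Nat.mul x D.k) y)) (cw x y (mat x y)) && coxRow D mat x y

/-- the first `k * k` words are the Coxeter words. -/
def coxAll (D : Dat) (mat : ℕ → ℕ → ℕ) : ℕ → Bool
  | 0 => true
  | x + 1 => coxRow D mat x D.k && coxAll D mat x

/-- the Coxeter words check. -/
def coxOK (D : Dat) (mat : ℕ → ℕ → ℕ) : Bool :=
  Nat.ble D.k 16 && Nat.ble (Nat.mul D.k D.k) D.nrel && coxAll D mat D.k

/-! ## orbit certificates -/

/-- one step: entry `e = s + 65536 * j` adds the image of the reached point `s` under word `j`. -/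
def orbStep (T : ℕ → ℕ → ℕ) (D : Dat) (N e R : ℕ) : ℕ :=
  bif tb R (Nat.mod e 65536) && Nat.blt (Nat.mod e 65536) N && Nat.ble D.nrel (Nat.div e 65536) &&
      Nat.blt (Nat.div e 65536) D.nw then
    sb R (walkT T (D.wlen (Nat.div e 65536)) (D.wordP (Nat.div e 65536)) (Nat.mod e 65536))
  else R

/-- run a packed chunk of entries (32 bits each). -/
def orbChunk (T : ℕ → ℕ → ℕ) (D : Dat) (N : ℕ) : ℕ → ℕ → ℕ → ℕ
  | 0, _, R => R
  | f + 1, ch, R =>
    bif Nat.beq ch 0 then R
    else orbChunk T D N f (Nat.div ch 4294967296) (orbStep T D N (Nat.mod ch 4294967296) R)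

/-- run a list of chunks. -/
def orbRun (T : ℕ → ℕ → ℕ) (D : Dat) (N : ℕ) : List ℕ → ℕ → ℕ
  | [], R => R
  | ch :: rest, R => orbRun T D N rest (orbChunk T D N 100000 ch R)

/-- the set `S` is mapped into itself by the word, on points below `m`. -/
def closedW (T : ℕ → ℕ → ℕ) (S n w : ℕ) : ℕ → Bool
  | 0 => true
  | m + 1 => (!tb S m || tb S (walkT T n w m)) && closedW T S n w m

/-- the set `S` is mapped into itself by all subgroup words below `j`. -/
def closedAll (T : ℕ → ℕ → ℕ) (D : Dat) (N S : ℕ) : ℕ → Bool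
  | 0 => true
  | j + 1 =>
    (Nat.blt j D.nrel || closedW T S (D.wlen j) (D.wordP j) N) && closedAll T D N S j

/-- the complete check of an orbit: `S` is the orbit of `p`, of size `sz`. -/
def orbOK (T : ℕ → ℕ → ℕ) (D : Dat) (N S p sz : ℕ) (oc : List ℕ) : Bool :=
  tb S p && Nat.blt p N && Nat.beq (cntBits S N) sz && closedAll T D N S D.nw &&
    Nat.beq (orbRun T D N oc (sb 0 p)) S

/-! ## specifications of the checks -/

theorem wordsOK_spec (D : Dat) : ∀ m, wordsOK D m = true → ∀ j, j < m →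
    lettersOK D.k (D.wlen j) (D.wordP j) = true
  | 0, _, j, hj => absurd hj (Nat.not_lt_zero _)
  | m + 1, h, j, hj => by
    rw [wordsOK, Bool.and_eq_true] at h
    rcases Nat.lt_succ_iff_lt_or_eq.mp hj with hj | rfl
    · exact wordsOK_spec D m h.2 j hj
    · exact h.1

theorem invRow_spec (T : ℕ → ℕ → ℕ) (N x : ℕ) : ∀ m, invRow T N x m = true → ∀ v, v < m →
    T x v < N ∧ T x (T x v) = v
  | 0, _, v, hv => absurd hv (Nat.not_lt_zero _)
  | m + 1, h, v, hv => by
    rw [invRow, Bool.and_eq_true, Bool.and_eq_true] at h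
    rcases Nat.lt_succ_iff_lt_or_eq.mp hv with hv | rfl
    · exact invRow_spec T N x m h.2 v hv
    · exact ⟨by simpa [Nat.blt_eq] using h.1.1, Nat.eq_of_beq_eq_true h.1.2⟩

theorem invAll_spec (T : ℕ → ℕ → ℕ) (N : ℕ) : ∀ k, invAll T N k = true → ∀ x, x < k →
    ∀ v, v < N → T x v < N ∧ T x (T x v) = v
  | 0, _, x, hx => absurd hx (Nat.not_lt_zero _)
  | k + 1, h, x, hx => by
    rw [invAll, Bool.and_eq_true] at h
    rcases Nat.lt_succ_iff_lt_or_eq.mp hx with hx | rfl
    · exact invAll_spec T N k h.2 x hx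
    · exact invRow_spec T N x N h.1

theorem relPts_spec (T : ℕ → ℕ → ℕ) (n w : ℕ) : ∀ m, relPts T n w m = true → ∀ v, v < m →
    walkT T n w v = v
  | 0, _, v, hv => absurd hv (Nat.not_lt_zero _)
  | m + 1, h, v, hv => by
    rw [relPts, Bool.and_eq_true] at h
    rcases Nat.lt_succ_iff_lt_or_eq.mp hv with hv | rfl
    · exact relPts_spec T n w m h.2 v hv
    · exact Nat.eq_of_beq_eq_true h.1

theorem relAll_spec (T : ℕ → ℕ → ℕ) (D : Dat) (N : ℕ) : ∀ m, relAll T D N m = true →
    ∀ j, j < m → ∀ v, v < N → walkT T (D.wlen j) (D.wordP j) v = v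
  | 0, _, j, hj => absurd hj (Nat.not_lt_zero _)
  | m + 1, h, j, hj => by
    rw [relAll, Bool.and_eq_true] at h
    rcases Nat.lt_succ_iff_lt_or_eq.mp hj with hj | rfl
    · exact relAll_spec T D N m h.2 j hj
    · exact relPts_spec T _ _ N h.1

theorem subAll_spec (T : ℕ → ℕ → ℕ) (D : Dat) : ∀ m, subAll T D m = true →
    ∀ j, j < m → D.nrel ≤ j → walkT T (D.wlen j) (D.wordP j) 0 = 0
  | 0, _, j, hj, _ => absurd hj (Nat.not_lt_zero _)
  | m + 1, h, j, hj, hn => by
    rw [subAll, Bool.and_eq_true, Bool.or_eq_true] at h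
    rcases Nat.lt_succ_iff_lt_or_eq.mp hj with hj | rfl
    · exact subAll_spec T D m h.2 j hj hn
    · rcases h.1 with h1 | h1
      · rw [Nat.blt_eq] at h1; omega
      · exact Nat.eq_of_beq_eq_true h1

theorem connRow_spec (T : ℕ → ℕ → ℕ) (v : ℕ) : ∀ k, connRow T v k = true →
    ∃ x, x < k ∧ T x v < v
  | 0, h => by simp [connRow] at h
  | k + 1, h => by
    rw [connRow, Bool.or_eq_true] at h
    rcases h with h | h
    · exact ⟨k, Nat.lt_succ_self k, by simpa [Nat.blt_eq] using h⟩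
    · obtain ⟨x, hx, hx'⟩ := connRow_spec T v k h
      exact ⟨x, Nat.lt_succ_of_lt hx, hx'⟩

theorem connAll_spec (T : ℕ → ℕ → ℕ) (k : ℕ) : ∀ m, connAll T k m = true →
    ∀ v, v < m → v ≠ 0 → ∃ x, x < k ∧ T x v < v
  | 0, _, v, hv, _ => absurd hv (Nat.not_lt_zero _)
  | m + 1, h, v, hv, h0 => by
    rw [connAll, Bool.and_eq_true, Bool.or_eq_true] at h
    rcases Nat.lt_succ_iff_lt_or_eq.mp hv with hv | rfl
    · exact connAll_spec T k m h.2 v hv h0
    · rcases h.1 with h1 | h1
      · exact absurd (Nat.eq_of_beq_eq_true h1) h0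
      · exact connRow_spec T v k h1

theorem closedW_spec (T : ℕ → ℕ → ℕ) (S n w : ℕ) : ∀ m, closedW T S n w m = true →
    ∀ v, v < m → tb S v = true → tb S (walkT T n w v) = true
  | 0, _, v, hv, _ => absurd hv (Nat.not_lt_zero _)
  | m + 1, h, v, hv, hS => by
    rw [closedW, Bool.and_eq_true, Bool.or_eq_true] at h
    rcases Nat.lt_succ_iff_lt_or_eq.mp hv with hv | rfl
    · exact closedW_spec T S n w m h.2 v hv hS
    · rcases h.1 with h1 | h1
      · rw [hS] at h1; exact absurd h1 (by simp)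
      · exact h1

theorem closedAll_spec (T : ℕ → ℕ → ℕ) (D : Dat) (N S : ℕ) : ∀ m, closedAll T D N S m = true →
    ∀ j, j < m → D.nrel ≤ j → ∀ v, v < N → tb S v = true →
      tb S (walkT T (D.wlen j) (D.wordP j) v) = true
  | 0, _, j, hj, _ => absurd hj (Nat.not_lt_zero _)
  | m + 1, h, j, hj, hn => by
    rw [closedAll, Bool.and_eq_true, Bool.or_eq_true] at h
    rcases Nat.lt_succ_iff_lt_or_eq.mp hj with hj | rfl
    · exact closedAll_spec T D N S m h.2 j hj hn
    · rcases h.1 with h1 | h1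
      · rw [Nat.blt_eq] at h1; omega
      · exact closedW_spec T S _ _ N h1

/-! ## reversal -/

theorem unpack_packRev : ∀ (n m w acc : ℕ),
    unpack (n + m) (packRev n w acc) = (unpack n w).reverse ++ unpack m acc
  | 0, m, w, acc => by simp [packRev, unpack]
  | n + 1, m, w, acc => by
    rw [packRev, show n + 1 + m = n + (m + 1) by ring, unpack_packRev n (m + 1)]
    rw [unpack, unpack, List.reverse_cons, List.append_assoc]
    have h1 : Nat.add (Nat.mul acc 16) (Nat.mod w 16) = acc * 16 + w % 16 := rfl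
    have h2 : Nat.div w 16 = w / 16 := rfl
    rw [h1, h2]
    have h3 : (acc * 16 + w % 16) % 16 = w % 16 := by omega
    have h4 : (acc * 16 + w % 16) / 16 = acc := by omega
    rw [h3, h4]
    rfl

theorem revOK_spec (D : Dat) : ∀ m, revOK D m = true → ∀ j, j < m →
    unpack (D.wlen j) (D.wordR j) = (unpack (D.wlen j) (D.wordP j)).reverse
  | 0, _, j, hj => absurd hj (Nat.not_lt_zero _)
  | m + 1, h, j, hj => by
    rw [revOK, Bool.and_eq_true] at h
    rcases Nat.lt_succ_iff_lt_or_eq.mp hj with hj | rfl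
    · exact revOK_spec D m h.2 j hj
    · rw [Nat.eq_of_beq_eq_true h.1]
      have := unpack_packRev (D.wlen j) 0 (D.wordP j) 0
      simpa [unpack] using this

/-! ## Coxeter words -/

section
variable {K : Type*} [Group K]

theorem unpack_cw {x y : ℕ} (hx : x < 16) (hy : y < 16) : ∀ m : ℕ,
    unpack (2 * (m + 1)) (cw x y (m + 1)) = x :: y :: unpack (2 * m) (cw x y m) := by
  intro m
  rw [show 2 * (m + 1) = (2 * m + 1) + 1 by ring, unpack, unpack, cw]
  have h1 : Nat.add (Nat.add x (Nat.mul 16 y)) (Nat.mul 256 (cw x y m))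
      = x + 16 * y + 256 * cw x y m := rfl
  rw [h1]
  have h2 : (x + 16 * y + 256 * cw x y m) % 16 = x := by omega
  have h3 : (x + 16 * y + 256 * cw x y m) / 16 % 16 = y := by omega
  have h4 : (x + 16 * y + 256 * cw x y m) / 16 / 16 = cw x y m := by omega
  rw [h2, h3, h4]

theorem rprod_cw (γ : ℕ → K) {x y : ℕ} (hx : x < 16) (hy : y < 16) : ∀ m : ℕ,
    rprod γ (unpack (2 * m) (cw x y m)) = (γ y * γ x) ^ m
  | 0 => by simp [unpack, rprod]
  | m + 1 => by
    rw [unpack_cw hx hy, rprod, rprod, rprod_cw γ hx hy m, pow_succ, mul_assoc]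

theorem coxRow_spec (D : Dat) (mat : ℕ → ℕ → ℕ) (x : ℕ) : ∀ m, coxRow D mat x m = true →
    ∀ y, y < m → D.wlen (x * D.k + y) = 2 * mat x y ∧ D.wordP (x * D.k + y) = cw x y (mat x y)
  | 0, _, y, hy => absurd hy (Nat.not_lt_zero _)
  | m + 1, h, y, hy => by
    rw [coxRow, Bool.and_eq_true, Bool.and_eq_true] at h
    rcases Nat.lt_succ_iff_lt_or_eq.mp hy with hy | rfl
    · exact coxRow_spec D mat x m h.2 y hy
    · exact ⟨Nat.eq_of_beq_eq_true h.1.1, Nat.eq_of_beq_eq_true h.1.2⟩

theorem coxAll_spec (D : Dat) (mat : ℕ → ℕ → ℕ) : ∀ m, coxAll D mat m = true →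
    ∀ x, x < m → ∀ y, y < D.k →
      D.wlen (x * D.k + y) = 2 * mat x y ∧ D.wordP (x * D.k + y) = cw x y (mat x y)
  | 0, _, x, hx => absurd hx (Nat.not_lt_zero _)
  | m + 1, h, x, hx => by
    rw [coxAll, Bool.and_eq_true] at h
    rcases Nat.lt_succ_iff_lt_or_eq.mp hx with hx | rfl
    · exact coxAll_spec D mat m h.2 x hx
    · exact coxRow_spec D mat x D.k h.1

/-- the Coxeter words evaluate to the Coxeter relators. -/
theorem coxOK_spec {D : Dat} {mat : ℕ → ℕ → ℕ} (h : coxOK D mat = true) (γ : ℕ → K)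
    {x y : ℕ} (hx : x < D.k) (hy : y < D.k) :
    x * D.k + y < D.nrel ∧
    rprod γ (unpack (D.wlen (x * D.k + y)) (D.wordP (x * D.k + y))) = (γ y * γ x) ^ mat x y := by
  rw [coxOK, Bool.and_eq_true, Bool.and_eq_true] at h
  obtain ⟨⟨h1, h2⟩, h3⟩ := h
  have hk : D.k ≤ 16 := Nat.le_of_ble_eq_true h1
  have hn : D.k * D.k ≤ D.nrel := Nat.le_of_ble_eq_true h2
  obtain ⟨e1, e2⟩ := coxAll_spec D mat D.k h3 x hx y hy
  refine ⟨?_, ?_⟩
  · calc x * D.k + y < x * D.k + D.k := by omega
      _ = (x + 1) * D.k := by ring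
      _ ≤ D.k * D.k := Nat.mul_le_mul_right _ hx
      _ ≤ D.nrel := hn
  · rw [e1, e2, rprod_cw γ (by omega) (by omega)]

end

end Cfsg.Agent.Helper5.TC
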