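import Mathlib
import Cfsg.Agent.Helper5.TCCertC
import Cfsg.Agent.Helper5.TC2B

/-!
# The cardinality bound from a stateless certificate, and fast checks of a coset table
-/

set_option autoImplicit false

namespace Cfsg.Agent.Helper5.TC

section
variable {G : Type*} [Group G] {Q : Type*} [MulAction G Q]
variable {g : ℕ → G} {q₀ : Q} {E : Dat2}

/-- **Main theorem** (stateless version): a valid certificate bounds the size of a transitive
`G`-set. -/
theorem card_le_of_cert2 (hH : Hyp g q₀ E.D)
    (hgen : Subgroup.closure (g '' {x | x < E.D.k}) = ⊤)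
    (htr : ∀ q : Q, ∃ a : G, a • q₀ = q) {N RS : ℕ}
    (hE : ∀ v, v < E.M → ∀ x, x < E.D.k → edgeOK E x v = true)
    (hA : ∀ v, v < E.M → aliasOK E v = true)
    (hset : setOK E.M N RS = true)
    (hrows : ∀ v, v < E.M → tb RS v = true → rowOK2 E RS v E.D.k = true) :
    Finite Q ∧ Nat.card Q ≤ N := by
  have hI := inv2_all hH hE hA INF le_rfl
  unfold setOK at hset
  obtain ⟨h12, h3⟩ := Bool.and_eq_true_iff.mp hset
  obtain ⟨h1, h2⟩ := Bool.and_eq_true_iff.mp h12
  rw [Nat.blt_eq] at h3
  have e1 := Nat.eq_of_beq_eq_true h1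
  set M := E.M with hM
  -- members of RS are below M
  have hlt : ∀ v, tb RS v = true → v < M := by
    intro v hv
    by_contra hge
    rw [not_lt] at hge
    have : RS < 2 ^ v := lt_of_lt_of_le h3 (Nat.pow_le_pow_right (by norm_num) hge)
    rw [tb_eq, Nat.testBit_lt_two_pow this] at hv
    exact absurd hv (by simp)
  set F := (Finset.range M).filter (fun v => tb RS v = true) with hF
  have hFcard : F.card = N := by rw [← e1, cntBits_eq]
  -- the set of points
  have hclosed : ∀ v ∈ F, ∀ x, x < E.D.k →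
      ∃ w ∈ F, g x • pt g q₀ E.D v = pt g q₀ E.D w := by
    intro v hv x hx
    rw [hF, Finset.mem_filter, Finset.mem_range] at hv
    have hrow := rowOK2_spec E RS v E.D.k (hrows v hv.1 hv.2) x hx
    refine ⟨res2 E INF E.D.fuel (E.D.tgt x v), ?_, ?_⟩
    · rw [hF, Finset.mem_filter, Finset.mem_range]
      exact ⟨hlt _ hrow.2, hrow.2⟩
    · rw [res2_pt hI, hI.1 v x hv.1 hx hrow.1]
  have hall : ∀ a : G, ∀ v ∈ F, ∃ w ∈ F, a • pt g q₀ E.D v = pt g q₀ E.D w := by
    intro a
    have ha : a ∈ Subgroup.closure (g '' {x | x < E.D.k}) := by rw [hgen]; trivial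
    induction ha using Subgroup.closure_induction with
    | mem y hy =>
      obtain ⟨x, hx, rfl⟩ := hy
      exact fun v hv => hclosed v hv x hx
    | one => exact fun v hv => ⟨v, hv, one_smul _ _⟩
    | mul a b _ _ iha ihb =>
      intro v hv
      obtain ⟨w, hw, e⟩ := ihb v hv
      obtain ⟨w', hw', e'⟩ := iha w hw
      exact ⟨w', hw', by rw [mul_smul, e, e']⟩
    | inv a _ iha =>
      intro v hv
      classical
      let P : Finset Q := F.image (pt g q₀ E.D)
      have hmaps : ∀ p ∈ P, a • p ∈ P := by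
        intro p hp
        obtain ⟨u, hu, rfl⟩ := Finset.mem_image.mp hp
        obtain ⟨w, hw, e⟩ := iha u hu
        exact Finset.mem_image.mpr ⟨w, hw, e.symm⟩
      have hsurj : Set.SurjOn (fun p : Q => a • p) (P : Set Q) (P : Set Q) := by
        have hinj : Set.InjOn (fun p : Q => a • p) (P : Set Q) :=
          fun p _ p' _ h => MulAction.injective a h
        exact (Finset.surjOn_of_injOn_of_card_le (fun p => a • p) hmaps hinj le_rfl)
      have hvP : pt g q₀ E.D v ∈ (P : Set Q) :=
        Finset.mem_coe.mpr (Finset.mem_image_of_mem _ hv)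
      obtain ⟨p, hp, e⟩ := hsurj hvP
      obtain ⟨w, hw, rfl⟩ := Finset.mem_image.mp (Finset.mem_coe.mp hp)
      refine ⟨w, hw, ?_⟩
      simp only at e
      rw [← e, inv_smul_smul]
  have h0 : 0 ∈ F := by
    rw [hF, Finset.mem_filter, Finset.mem_range]
    exact ⟨hlt 0 h2, h2⟩
  have hcov : ∀ q : Q, ∃ w ∈ F, q = pt g q₀ E.D w := by
    intro q
    obtain ⟨a, rfl⟩ := htr q
    obtain ⟨w, hw, e⟩ := hall a 0 h0
    rw [pt_zero] at e
    exact ⟨w, hw, e⟩
  have hsurj : Function.Surjective (fun w : F => pt g q₀ E.D w.1) := by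
    intro q
    obtain ⟨w, hw, e⟩ := hcov q
    exact ⟨⟨w, hw⟩, e.symm⟩
  refine ⟨Finite.of_surjective _ hsurj, ?_⟩
  have := Nat.card_le_card_of_surjective _ hsurj
  have e2 : Nat.card F = N := by
    rw [Nat.card_eq_fintype_card, Fintype.card_coe, hFcard]
  rwa [e2] at this

end

/-! ## fast checks of a coset table -/

/-- `Nat.rec` version of `walkT`, forcing every intermediate value. -/
def walkF (T : ℕ → ℕ → ℕ) (n : ℕ) : ℕ → ℕ → ℕ :=
  Nat.rec (motive := fun _ => ℕ → ℕ → ℕ) (fun _ v => v)
    (fun _ ih w v =>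
      force (T (Nat.mod w 16) v) (fun v' => force (Nat.div w 16) (fun w' => ih w' v'))) n

theorem walkF_eq (T : ℕ → ℕ → ℕ) : ∀ (n w v : ℕ), walkF T n w v = walkT T n w v
  | 0, _, _ => rfl
  | n + 1, w, v => by
    have h : walkF T (n + 1) w v = force (T (Nat.mod w 16) v)
        (fun v' => force (Nat.div w 16) (fun w' => walkF T n w' v')) := rfl
    rw [h, force_eq, force_eq, walkF_eq T n, walkT]

/-- the word fixes the points `lo, …, lo + cnt - 1`. -/
def relPtsF (T : ℕ → ℕ → ℕ) (n w cnt : ℕ) : ℕ → Bool :=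
  Nat.rec (motive := fun _ => ℕ → Bool) (fun _ => true)
    (fun _ ih v => bif Nat.beq (walkF T n w v) v then force (Nat.succ v) ih else false) cnt

theorem relPtsF_succ (T : ℕ → ℕ → ℕ) (n w cnt v : ℕ) : relPtsF T n w (cnt + 1) v =
    bif Nat.beq (walkF T n w v) v then relPtsF T n w cnt (v + 1) else false := by
  show (bif _ then force _ _ else _) = _
  rw [force_eq]
  rfl

theorem relPtsF_spec (T : ℕ → ℕ → ℕ) (n w : ℕ) : ∀ (cnt lo : ℕ), relPtsF T n w cnt lo = true →
    ∀ v, lo ≤ v → v < lo + cnt → walkT T n w v = v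
  | 0, lo, _, v, h1, h2 => by omega
  | cnt + 1, lo, h, v, h1, h2 => by
    rw [relPtsF_succ] at h
    cases hc : Nat.beq (walkF T n w lo) lo with
    | false => rw [hc, cond_false] at h; exact absurd h (by simp)
    | true =>
      rw [hc, cond_true] at h
      rcases Nat.eq_or_lt_of_le h1 with rfl | h1
      · rw [← walkF_eq]; exact Nat.eq_of_beq_eq_true hc
      · exact relPtsF_spec T n w cnt (lo + 1) h v h1 (by omega)

/-- the words `wlo, …, wlo + wcnt - 1` fix all points below `N`. -/
def relWordsF (T : ℕ → ℕ → ℕ) (D : Dat) (N wcnt : ℕ) : ℕ → Bool :=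
  Nat.rec (motive := fun _ => ℕ → Bool) (fun _ => true)
    (fun _ ih wi =>
      bif force (D.wlen wi) (fun n => force (D.wordP wi) (fun w => relPtsF T n w N 0)) then
        force (Nat.succ wi) ih
      else false) wcnt

theorem relWordsF_succ (T : ℕ → ℕ → ℕ) (D : Dat) (N wcnt wi : ℕ) :
    relWordsF T D N (wcnt + 1) wi =
      bif relPtsF T (D.wlen wi) (D.wordP wi) N 0 then relWordsF T D N wcnt (wi + 1)
      else false := by
  show (bif force _ _ then force _ _ else _) = _
  rw [force_eq, force_eq, force_eq]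
  rfl

theorem relWordsF_spec (T : ℕ → ℕ → ℕ) (D : Dat) (N : ℕ) : ∀ (wcnt wlo : ℕ),
    relWordsF T D N wcnt wlo = true → ∀ wi, wlo ≤ wi → wi < wlo + wcnt →
      ∀ v, v < N → walkT T (D.wlen wi) (D.wordP wi) v = v
  | 0, wlo, _, wi, h1, h2 => by omega
  | wcnt + 1, wlo, h, wi, h1, h2 => by
    rw [relWordsF_succ] at h
    cases hc : relPtsF T (D.wlen wlo) (D.wordP wlo) N 0 with
    | false => rw [hc, cond_false] at h; exact absurd h (by simp)
    | true =>
      rw [hc, cond_true] at h
      rcases Nat.eq_or_lt_of_le h1 with rfl | h1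
      · intro v hv
        exact relPtsF_spec T _ _ N 0 hc v (Nat.zero_le _) (by omega)
      · exact relWordsF_spec T D N wcnt (wlo + 1) h wi h1 (by omega)

/-- generator `x` acts as an involution on the points `lo, …, lo + cnt - 1`. -/
def invRowF (T : ℕ → ℕ → ℕ) (N x cnt : ℕ) : ℕ → Bool :=
  Nat.rec (motive := fun _ => ℕ → Bool) (fun _ => true)
    (fun _ ih v =>
      bif force (T x v) (fun w => Nat.blt w N && Nat.beq (T x w) v) then force (Nat.succ v) ih
      else false) cnt

theorem invRowF_succ (T : ℕ → ℕ → ℕ) (N x cnt v : ℕ) : invRowF T N x (cnt + 1) v =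
    bif (Nat.blt (T x v) N && Nat.beq (T x (T x v)) v) then invRowF T N x cnt (v + 1)
    else false := by
  show (bif force _ _ then force _ _ else _) = _
  rw [force_eq, force_eq]
  rfl

theorem invRowF_spec (T : ℕ → ℕ → ℕ) (N x : ℕ) : ∀ (cnt lo : ℕ), invRowF T N x cnt lo = true →
    ∀ v, lo ≤ v → v < lo + cnt → T x v < N ∧ T x (T x v) = v
  | 0, lo, _, v, h1, h2 => by omega
  | cnt + 1, lo, h, v, h1, h2 => by
    rw [invRowF_succ] at h
    cases hc : (Nat.blt (T x lo) N && Nat.beq (T x (T x lo)) lo) with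
    | false => rw [hc, cond_false] at h; exact absurd h (by simp)
    | true =>
      rw [hc, cond_true] at h
      rcases Nat.eq_or_lt_of_le h1 with rfl | h1
      · obtain ⟨h3, h4⟩ := Bool.and_eq_true_iff.mp hc
        rw [Nat.blt_eq] at h3
        exact ⟨h3, Nat.eq_of_beq_eq_true h4⟩
      · exact invRowF_spec T N x cnt (lo + 1) h v h1 (by omega)

/-- all generators below `k` act as involutions on the points below `N`. -/
def invAllF (T : ℕ → ℕ → ℕ) (N : ℕ) : ℕ → Bool
  | 0 => true
  | x + 1 => invRowF T N x N 0 && invAllF T N x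

theorem invAllF_spec (T : ℕ → ℕ → ℕ) (N : ℕ) : ∀ k, invAllF T N k = true → ∀ x, x < k →
    ∀ v, v < N → T x v < N ∧ T x (T x v) = v
  | 0, _, x, hx => absurd hx (Nat.not_lt_zero _)
  | k + 1, h, x, hx => by
    rw [invAllF, Bool.and_eq_true] at h
    rcases Nat.lt_succ_iff_lt_or_eq.mp hx with hx | rfl
    · exact invAllF_spec T N k h.2 x hx
    · intro v hv
      exact invRowF_spec T N x N 0 h.1 v (Nat.zero_le _) (by omega)

/-- every point `lo ≤ v < lo + cnt` other than `0` is mapped to a smaller point by some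
generator. -/
def connF (T : ℕ → ℕ → ℕ) (k cnt : ℕ) : ℕ → Bool :=
  Nat.rec (motive := fun _ => ℕ → Bool) (fun _ => true)
    (fun _ ih v => bif (Nat.beq v 0 || connRow T v k) then force (Nat.succ v) ih else false) cnt

theorem connF_succ (T : ℕ → ℕ → ℕ) (k cnt v : ℕ) : connF T k (cnt + 1) v =
    bif (Nat.beq v 0 || connRow T v k) then connF T k cnt (v + 1) else false := by
  show (bif _ then force _ _ else _) = _
  rw [force_eq]
  rfl

theorem connF_spec (T : ℕ → ℕ → ℕ) (k : ℕ) : ∀ (cnt lo : ℕ), connF T k cnt lo = true →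
    ∀ v, lo ≤ v → v < lo + cnt → v ≠ 0 → ∃ x, x < k ∧ T x v < v
  | 0, lo, _, v, h1, h2 => by omega
  | cnt + 1, lo, h, v, h1, h2 => by
    rw [connF_succ] at h
    cases hc : (Nat.beq lo 0 || connRow T lo k) with
    | false => rw [hc, cond_false] at h; exact absurd h (by simp)
    | true =>
      rw [hc, cond_true] at h
      rcases Nat.eq_or_lt_of_le h1 with rfl | h1
      · intro h0
        rcases Bool.or_eq_true_iff.mp hc with h3 | h3
        · exact absurd (Nat.eq_of_beq_eq_true h3) h0
        · exact connRow_spec T lo k h3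
      · exact connF_spec T k cnt (lo + 1) h v h1 (by omega)

end Cfsg.Agent.Helper5.TC
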