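import Mathlib
import Cfsg.Agent.Helper5.TCCertC

/-!
# Certified coset enumeration: the index theorem
-/

set_option autoImplicit false

namespace Cfsg.Agent.Helper5.TC

/-- the permutation of `Fin N` read off from row `x` of the table. -/
noncomputable def tblPerm (T : ℕ → ℕ → ℕ) (N x : ℕ) : Equiv.Perm (Fin N) := by
  classical
  exact
    if h : ∀ v, v < N → T x v < N ∧ T x (T x v) = v then
      { toFun := fun v => ⟨T x v.1, (h v.1 v.2).1⟩
        invFun := fun v => ⟨T x v.1, (h v.1 v.2).1⟩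
        left_inv := fun v => Fin.ext (h v.1 v.2).2
        right_inv := fun v => Fin.ext (h v.1 v.2).2 }
    else 1

theorem tblPerm_apply {T : ℕ → ℕ → ℕ} {N x : ℕ}
    (h : ∀ v, v < N → T x v < N ∧ T x (T x v) = v) (v : Fin N) :
    ((tblPerm T N x) v).val = T x v.val := by
  unfold tblPerm
  rw [dif_pos h]
  rfl

theorem tblPerm_sq (T : ℕ → ℕ → ℕ) (N x : ℕ) : tblPerm T N x * tblPerm T N x = 1 := by
  by_cases h : ∀ v, v < N → T x v < N ∧ T x (T x v) = v
  · ext v
    rw [Equiv.Perm.mul_apply, tblPerm_apply h, tblPerm_apply h, (h v.1 v.2).2]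
    rfl
  · unfold tblPerm
    rw [dif_neg h, one_mul]

theorem walkT_spec {T : ℕ → ℕ → ℕ} {N k : ℕ}
    (hT : ∀ x, x < k → ∀ v, v < N → T x v < N ∧ T x (T x v) = v) :
    ∀ (n w : ℕ), lettersOK k n w = true → ∀ v : Fin N,
      ((rprod (tblPerm T N) (unpack n w)) v).val = walkT T n w v.val
  | 0, w, _, v => by
    rw [unpack, rprod]
    rfl
  | n + 1, w, h, v => by
    rw [lettersOK, Bool.and_eq_true] at h
    have hx : w % 16 < k := by
      have := h.1
      rw [Nat.blt_eq] at this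
      exact this
    rw [unpack, rprod, Equiv.Perm.mul_apply, walkT_spec hT n (w / 16) h.2,
      tblPerm_apply (hT _ hx)]
    rfl

section
variable {G : Type*} [Group G]

theorem map_rprod {K : Type*} [Group K] (ρ : G →* K) (g : ℕ → G) :
    ∀ l : List ℕ, ρ (rprod g l) = rprod (fun x => ρ (g x)) l
  | [] => by simp [rprod]
  | x :: l => by rw [rprod, rprod, map_mul, map_rprod ρ g l]

theorem rprod_congr {K : Type*} [Group K] {γ γ' : ℕ → K} {k : ℕ} (h : ∀ x, x < k → γ x = γ' x) :
    ∀ l : List ℕ, (∀ x ∈ l, x < k) → rprod γ l = rprod γ' l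
  | [], _ => rfl
  | x :: l, hl => by
    rw [rprod, rprod, rprod_congr h l (fun y hy => hl y (List.mem_cons_of_mem _ hy)),
      h x (hl x List.mem_cons_self)]

theorem lettersOK_spec (k : ℕ) : ∀ (n w : ℕ), lettersOK k n w = true → ∀ x ∈ unpack n w, x < k
  | 0, w, _, x, hx => by simp [unpack] at hx
  | n + 1, w, h, x, hx => by
    rw [lettersOK, Bool.and_eq_true] at h
    rw [unpack, List.mem_cons] at hx
    rcases hx with rfl | hx
    · have := h.1
      rw [Nat.blt_eq] at this
      exact this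
    · exact lettersOK_spec k n (w / 16) h.2 x hx

/-- a permutation of a finite type mapping a set into itself: so does its inverse. -/
theorem perm_inv_mem {N : ℕ} (π : Equiv.Perm (Fin N)) (A : Set (Fin N))
    (h : ∀ v ∈ A, π v ∈ A) : ∀ v ∈ A, π⁻¹ v ∈ A := by
  have hp : ∀ n : ℕ, ∀ v ∈ A, (π ^ n) v ∈ A := by
    intro n
    induction n with
    | zero => intro v hv; simpa using hv
    | succ n ih =>
      intro v hv
      rw [pow_succ, Equiv.Perm.mul_apply]
      exact ih _ (h v hv)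
  have hinv : π⁻¹ = π ^ (orderOf π - 1) := by
    have hpos : 0 < orderOf π := orderOf_pos π
    apply inv_eq_of_mul_eq_one_left
    rw [← pow_succ, Nat.sub_add_cancel hpos, pow_orderOf_eq_one]
  rw [hinv]
  exact hp _

end

section main
variable {G : Type*} [Group G] {g : ℕ → G} {D : Dat} {T : ℕ → ℕ → ℕ} {N : ℕ} {H : Subgroup G}

/-- hypotheses relating the table to a permutation representation. -/
structure Rep (g : ℕ → G) (D : Dat) (T : ℕ → ℕ → ℕ) (N : ℕ) (H : Subgroup G)
    (ρ : G →* Equiv.Perm (Fin N)) : Prop where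
  tbl : ∀ x, x < D.k → ∀ v, v < N → T x v < N ∧ T x (T x v) = v
  gen : ∀ x, x < D.k → ρ (g x) = tblPerm T N x
  ltr : ∀ j, j < D.nw → lettersOK D.k (D.wlen j) (D.wordP j) = true
  sub1 : ∀ wi, D.nrel ≤ wi → wi < D.nw → rprod g (unpack (D.wlen wi) (D.wordP wi)) ∈ H

variable (ρ : G →* Equiv.Perm (Fin N))

theorem rep_word (hR : Rep g D T N H ρ) (j : ℕ) (hj : j < D.nw) (v : Fin N) :
    ((ρ (rprod g (unpack (D.wlen j) (D.wordP j)))) v).val
      = walkT T (D.wlen j) (D.wordP j) v.val := by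
  rw [map_rprod, rprod_congr (γ' := tblPerm T N) hR.gen _ (lettersOK_spec D.k _ _ (hR.ltr j hj)),
    walkT_spec hR.tbl _ _ (hR.ltr j hj)]

/-- the invariant of the orbit run. -/
def OInv (H : Subgroup G) (ρ : G →* Equiv.Perm (Fin N)) (p : Fin N) (R : ℕ) : Prop :=
  ∀ v, tb R v = true → ∃ h ∈ H, (ρ h p).val = v

theorem orbStep_inv (hR : Rep g D T N H ρ) (p : Fin N) (e R : ℕ) (hI : OInv H ρ p R) :
    OInv H ρ p (orbStep T D N e R) := by
  unfold orbStep
  cases hc : (tb R (Nat.mod e 65536) && Nat.blt (Nat.mod e 65536) N &&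
      Nat.ble D.nrel (Nat.div e 65536) && Nat.blt (Nat.div e 65536) D.nw) with
  | false => rw [cond_false]; exact hI
  | true =>
    rw [cond_true]
    simp only [Bool.and_eq_true] at hc
    obtain ⟨⟨⟨h1, h2⟩, h3⟩, h4⟩ := hc
    rw [Nat.blt_eq] at h2 h4
    have h3' := Nat.le_of_ble_eq_true h3
    intro v hv
    rcases tb_sb_cases hv with hv | hv
    · exact hI v hv
    · obtain ⟨h, hh, e1⟩ := hI _ h1
      refine ⟨rprod g (unpack (D.wlen (Nat.div e 65536)) (D.wordP (Nat.div e 65536))) * h,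
        H.mul_mem (hR.sub1 _ h3' h4) hh, ?_⟩
      rw [map_mul, Equiv.Perm.mul_apply, rep_word ρ hR _ h4, e1, hv]

theorem orbChunk_inv (hR : Rep g D T N H ρ) (p : Fin N) : ∀ (f ch R : ℕ), OInv H ρ p R →
    OInv H ρ p (orbChunk T D N f ch R)
  | 0, _, _, hI => hI
  | f + 1, ch, R, hI => by
    rw [orbChunk]
    cases hc : Nat.beq ch 0 with
    | true => rw [cond_true]; exact hI
    | false =>
      rw [cond_false]
      exact orbChunk_inv hR p f _ _ (orbStep_inv ρ hR p _ _ hI)

theorem orbRun_inv (hR : Rep g D T N H ρ) (p : Fin N) : ∀ (oc : List ℕ) (R : ℕ), OInv H ρ p R →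
    OInv H ρ p (orbRun T D N oc R)
  | [], _, hI => hI
  | ch :: rest, R, hI => by
    rw [orbRun]
    exact orbRun_inv hR p rest _ (orbChunk_inv ρ hR p _ _ _ hI)

end main

end Cfsg.Agent.Helper5.TC
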