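import Mathlib
import Cfsg.Agent.Helper5.TCCertD
import Cfsg.Agent.Helper5.TC2C

/-!
# Certified coset enumeration: the main theorem, with the checks as propositions
-/

set_option autoImplicit false

namespace Cfsg.Agent.Helper5.TC

section main2
variable {G : Type*} [Group G] {g : ℕ → G} {D : Dat} {T : ℕ → ℕ → ℕ}

/-- **Main theorem**, second form: the checks of the coset table are given as propositions,
and the bound on the number of cosets is an arbitrary hypothesis. -/
theorem index_of_bound {N : ℕ} (H : Subgroup G)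
    (hinv : ∀ x, x < D.k → g x * g x = 1)
    (hgen : Subgroup.closure (g '' {x | x < D.k}) = ⊤)
    (hrel : ∀ wi, wi < D.nrel → rprod g (unpack (D.wlen wi) (D.wordP wi)) = 1)
    (hsub1 : ∀ wi, D.nrel ≤ wi → wi < D.nw → rprod g (unpack (D.wlen wi) (D.wordP wi)) ∈ H)
    (hsub2 : H ≤ Subgroup.closure {a | ∃ wi, D.nrel ≤ wi ∧ wi < D.nw ∧
      a = rprod g (unpack (D.wlen wi) (D.wordP wi))})
    (huniv : ∀ σ : ℕ → Equiv.Perm (Fin N), (∀ x, σ x * σ x = 1) →
      (∀ wi, wi < D.nrel → rprod σ (unpack (D.wlen wi) (D.wordP wi)) = 1) →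
      ∃ ρ : G →* Equiv.Perm (Fin N), ∀ x, x < D.k → ρ (g x) = σ x)
    (hle : D.nrel ≤ D.nw)
    (hrev : revOK D D.nw = true)
    (hub : Hyp g ((1 : G) : G ⧸ H) D → (∀ q : G ⧸ H, ∃ a : G, a • ((1 : G) : G ⧸ H) = q) →
      Finite (G ⧸ H) ∧ Nat.card (G ⧸ H) ≤ N)
    (hN : 0 < N)
    (hT : ∀ x, x < D.k → ∀ v, v < N → T x v < N ∧ T x (T x v) = v)
    (hltr : ∀ j, j < D.nw → lettersOK D.k (D.wlen j) (D.wordP j) = true)
    (hrelT : ∀ wi, wi < D.nrel → ∀ v, v < N → walkT T (D.wlen wi) (D.wordP wi) v = v)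
    (hsubT : ∀ wi, wi < D.nw → D.nrel ≤ wi → walkT T (D.wlen wi) (D.wordP wi) 0 = 0)
    (hconn : ∀ v, v < N → v ≠ 0 → ∃ x, x < D.k ∧ T x v < v) :
    H.index = N ∧ ∃ φ : G ⧸ H ≃ Fin N, (φ ((1 : G) : G ⧸ H)).val = 0 ∧
      ∀ (S p sz : ℕ) (oc : List ℕ), orbOK T D N S p sz oc = true → ∀ q : G ⧸ H, (φ q).val = p →
        MulAction.orbit H q = {q' | tb S (φ q').val = true} ∧
          (MulAction.orbit H q).ncard = sz := by
  classical
  -- the upper bound
  have hH : Hyp g ((1 : G) : G ⧸ H) D := by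
    refine ⟨hinv, revOK_spec D D.nw hrev, ?_, ?_, hle⟩
    · intro wi hwi q
      rw [hrel wi hwi, one_smul]
    · intro wi hwi
      by_cases h : wi < D.nrel
      · rw [hrel wi h, one_smul]
      · rw [not_lt] at h
        rw [MulAction.Quotient.smul_coe, smul_eq_mul, mul_one]
        rw [QuotientGroup.eq, mul_one]
        exact H.inv_mem (hsub1 wi h hwi)
  have htr : ∀ q : G ⧸ H, ∃ a : G, a • ((1 : G) : G ⧸ H) = q := by
    intro q
    induction q using QuotientGroup.induction_on with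
    | H a => exact ⟨a, by rw [MulAction.Quotient.smul_coe, smul_eq_mul, mul_one]⟩
  obtain ⟨hfin, hcard⟩ := hub hH htr
  -- the representation
  have hσrel : ∀ wi, wi < D.nrel → rprod (tblPerm T N) (unpack (D.wlen wi) (D.wordP wi)) = 1 := by
    intro wi hwi
    ext v
    rw [walkT_spec hT _ _ (hltr wi (lt_of_lt_of_le hwi hle)),
      hrelT wi hwi v.1 v.2]
    rfl
  obtain ⟨ρ, hρ⟩ := huniv (tblPerm T N) (tblPerm_sq T N) hσrel
  have hR : Rep g D T N H ρ := ⟨hT, hρ, hltr, hsub1⟩
  let z : Fin N := ⟨0, hN⟩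
  -- the subgroup fixes `0`
  have hfix' : ∀ a ∈ Subgroup.closure {a | ∃ wi, D.nrel ≤ wi ∧ wi < D.nw ∧
      a = rprod g (unpack (D.wlen wi) (D.wordP wi))}, ρ a z = z := by
    intro a ha'
    induction ha' using Subgroup.closure_induction with
    | mem y hy =>
      obtain ⟨wi, h1, h2, rfl⟩ := hy
      apply Fin.ext
      rw [rep_word ρ hR wi h2]
      exact hsubT wi h2 h1
    | one => simp
    | mul a b _ _ iha ihb => rw [map_mul, Equiv.Perm.mul_apply, ihb, iha]
    | inv a _ iha =>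
      rw [map_inv, Equiv.Perm.inv_eq_iff_eq, iha]
  have hfix : ∀ a ∈ H, ρ a z = z := fun a ha => hfix' a (hsub2 ha)
  -- transitivity
  have htrans : ∀ (n : ℕ) (v : Fin N), v.val = n → ∃ a : G, ρ a z = v := by
    intro n
    induction n using Nat.strong_induction_on with
    | _ n ih =>
      intro v hv
      by_cases h0 : v.val = 0
      · exact ⟨1, by rw [map_one]; exact Fin.ext h0.symm⟩
      · obtain ⟨x, hx, hlt⟩ := hconn v.1 v.2 h0
        obtain ⟨a, ha⟩ := ih (T x v.1) (hv ▸ hlt) ⟨T x v.1, (hT x hx v.1 v.2).1⟩ rfl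
        refine ⟨g x * a, ?_⟩
        rw [map_mul, Equiv.Perm.mul_apply, ha, hρ x hx]
        apply Fin.ext
        rw [tblPerm_apply (hT x hx)]
        exact (hT x hx v.1 v.2).2
  -- the map
  let φ₀ : G ⧸ H → Fin N := fun q => Quotient.liftOn' q (fun a => ρ a z) (by
    intro a b hab
    rw [QuotientGroup.leftRel_apply] at hab
    have := hfix _ hab
    rw [map_mul, map_inv, Equiv.Perm.mul_apply, Equiv.Perm.inv_eq_iff_eq] at this
    exact this.symm)
  have hφ₀ : ∀ a : G, φ₀ (a : G ⧸ H) = ρ a z := fun a => rfl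
  have hsurj : Function.Surjective φ₀ := by
    intro v
    obtain ⟨a, ha⟩ := htrans v.1 v rfl
    exact ⟨(a : G ⧸ H), ha⟩
  have hcardN : Nat.card (Fin N) = N := by simp
  have hbij : Function.Bijective φ₀ :=
    hsurj.bijective_of_nat_card_le (by rw [hcardN]; exact hcard)
  have hge : N ≤ Nat.card (G ⧸ H) := by
    have := Nat.card_le_card_of_surjective φ₀ hsurj
    rwa [hcardN] at this
  have hequiv : ∀ (a : G) (q : G ⧸ H), φ₀ (a • q) = ρ a (φ₀ q) := by
    intro a q
    induction q using QuotientGroup.induction_on with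
    | H b =>
      rw [MulAction.Quotient.smul_coe, hφ₀, hφ₀, smul_eq_mul, map_mul, Equiv.Perm.mul_apply]
  refine ⟨le_antisymm hcard hge, Equiv.ofBijective φ₀ hbij, ?_, ?_⟩
  · change (φ₀ ((1 : G) : G ⧸ H)).val = 0
    rw [hφ₀, map_one]
    rfl
  · intro S p sz oc ho q hq
    change (φ₀ q).val = p at hq
    unfold orbOK at ho
    simp only [Bool.and_eq_true] at ho
    obtain ⟨⟨⟨⟨ho1, ho2⟩, ho3⟩, ho4⟩, ho5⟩ := ho
    have hpN : p < N := by rwa [Nat.blt_eq] at ho2
    have hsz := Nat.eq_of_beq_eq_true ho3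
    have hRS := Nat.eq_of_beq_eq_true ho5
    -- `S` is closed under `H`
    have hcl' : ∀ a ∈ Subgroup.closure {a | ∃ wi, D.nrel ≤ wi ∧ wi < D.nw ∧
        a = rprod g (unpack (D.wlen wi) (D.wordP wi))},
        ∀ v : Fin N, tb S v.val = true → tb S (ρ a v).val = true := by
      intro a ha'
      induction ha' using Subgroup.closure_induction with
      | mem y hy =>
        obtain ⟨wi, h1, h2, rfl⟩ := hy
        intro v hv
        rw [rep_word ρ hR wi h2]
        exact closedAll_spec T D N S D.nw ho4 wi h2 h1 v.1 v.2 hv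
      | one => intro v hv; simpa using hv
      | mul a b _ _ iha ihb =>
        intro v hv
        rw [map_mul, Equiv.Perm.mul_apply]
        exact iha _ (ihb v hv)
      | inv a _ iha =>
        intro v hv
        rw [map_inv]
        exact perm_inv_mem (ρ a) {v | tb S v.val = true} iha v hv
    have hcl : ∀ a ∈ H, ∀ v : Fin N, tb S v.val = true → tb S (ρ a v).val = true :=
      fun a ha => hcl' a (hsub2 ha)
    -- everything in `S` is reached
    have hreach : ∀ v : Fin N, tb S v.val = true → ∃ h ∈ H, ρ h (φ₀ q) = v := by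
      intro v hv
      have hI0 : OInv H ρ (φ₀ q) (sb 0 p) := by
        intro w hw
        rcases tb_sb_cases hw with hw | hw
        · rw [tb_zero] at hw; exact absurd hw (by simp)
        · exact ⟨1, H.one_mem, by rw [map_one, ← hw, ← hq]; rfl⟩
      have hI := orbRun_inv ρ hR (φ₀ q) oc _ hI0
      rw [hRS] at hI
      obtain ⟨h, hh, e⟩ := hI v.1 hv
      exact ⟨h, hh, Fin.ext e⟩
    have horb : MulAction.orbit H q = {q' | tb S (φ₀ q').val = true} := by
      ext q'
      rw [Set.mem_ofPred_eq]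
      constructor
      · rintro ⟨h, rfl⟩
        change tb S (φ₀ ((h : G) • q)).val = true
        rw [hequiv]
        exact hcl h.1 h.2 _ (by rw [hq]; exact ho1)
      · intro hq'
        obtain ⟨h, hh, e⟩ := hreach _ hq'
        refine ⟨⟨h, hh⟩, ?_⟩
        apply hbij.1
        change φ₀ (h • q) = φ₀ q'
        rw [hequiv, e]
    refine ⟨horb, ?_⟩
    rw [horb, ← hsz, cntBits_eq]
    have e1 : {q' : G ⧸ H | tb S (φ₀ q').val = true}
        = (fun v : Fin N => (Equiv.ofBijective φ₀ hbij).symm v) '' {v : Fin N | tb S v.val = true} := by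
      ext q'
      constructor
      · intro h
        exact ⟨φ₀ q', h, (Equiv.ofBijective φ₀ hbij).symm_apply_apply q'⟩
      · rintro ⟨v, hv, rfl⟩
        rw [Set.mem_ofPred_eq]
        have : φ₀ ((Equiv.ofBijective φ₀ hbij).symm v) = v :=
          (Equiv.ofBijective φ₀ hbij).apply_symm_apply v
        rw [this]
        exact hv
    rw [e1, Set.ncard_image_of_injective _ (Equiv.ofBijective φ₀ hbij).symm.injective]
    rw [← Set.ncard_image_of_injective _ Fin.val_injective, ← Set.ncard_coe_finset]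
    congr 1
    ext n
    simp only [Set.mem_image, Set.mem_ofPred_eq, Finset.coe_filter, Finset.mem_range]
    constructor
    · rintro ⟨v, hv, rfl⟩
      exact ⟨v.2, hv⟩
    · rintro ⟨h1, h2⟩
      exact ⟨⟨n, h1⟩, h2, rfl⟩

end main2

end Cfsg.Agent.Helper5.TC
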