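import Mathlib
import Cfsg.Prelude.Def_SporCoxeter
import Cfsg.Agent.Helper5.TCCertE

/-!
# Certified coset enumeration for Coxeter-style presentations
-/

set_option autoImplicit false

namespace Cfsg.Agent.Helper5.TC

open Cfsg.Spor

section
variable {α : Type} [DecidableEq α]

/-- a free-group word and a packed word evaluate to the same thing whenever the generators
are sent to involutions. -/
def WordMatch (enc : α → ℕ) (r : FreeGroup α) (n w : ℕ) : Prop :=
  ∀ (K : Type) [Group K] (γ : ℕ → K), (∀ x, γ x * γ x = 1) →
    FreeGroup.lift (fun z => γ (enc z)) r = rprod γ (unpack n w)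

omit [DecidableEq α] in
theorem lift_mk_of (rels : Set (FreeGroup α)) (r : FreeGroup α) :
    FreeGroup.lift (fun z => (PresentedGroup.of z : PresentedGroup rels)) r
      = PresentedGroup.mk rels r := by
  have : FreeGroup.lift (fun z => (PresentedGroup.of z : PresentedGroup rels))
      = PresentedGroup.mk rels := by
    ext z
    simp [PresentedGroup.of]
  rw [this]

/-- **Certified coset enumeration in a Coxeter-style presented group.** -/
theorem presented_index (edges : List (α × ℕ × α)) (extra subs : List (FreeGroup α))
    (dec : ℕ → α) (enc : α → ℕ) (D : Dat) {M N RS : ℕ} {cert : List ℕ} {T : ℕ → ℕ → ℕ}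
    (hde : ∀ z, dec (enc z) = z) (hed : ∀ x, x < D.k → enc (dec x) = x)
    (henc : ∀ z, enc z < D.k) (hnodes : ∀ z, z ∈ coxNodes edges)
    (hnrel : D.nrel = D.k * D.k + extra.length) (hnw : D.nw = D.nrel + subs.length)
    (hextra : ∀ i (hi : i < extra.length),
      WordMatch enc (extra[i]) (D.wlen (D.k * D.k + i)) (D.wordP (D.k * D.k + i)))
    (hsubs : ∀ i (hi : i < subs.length),
      WordMatch enc (subs[i]) (D.wlen (D.nrel + i)) (D.wordP (D.nrel + i)))
    (hcox : coxOK D (fun x y => coxLabel edges (dec y) (dec x)) = true)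
    (hrev : revOK D D.nw = true) (hc : certOK D M N RS cert = true)
    (hp : permOK T D N = true) :
    ((Subgroup.closure {s | s ∈ subs}).map
        (PresentedGroup.mk (coxRelators edges ∪ {r | r ∈ extra}))).index = N ∧
      ∃ φ : PresentedGroup (coxRelators edges ∪ {r | r ∈ extra}) ⧸
          ((Subgroup.closure {s | s ∈ subs}).map
            (PresentedGroup.mk (coxRelators edges ∪ {r | r ∈ extra}))) ≃ Fin N,
        (φ ((1 : PresentedGroup (coxRelators edges ∪ {r | r ∈ extra})) : _ ⧸ _)).val = 0 ∧
        ∀ (S p sz : ℕ) (oc : List ℕ), orbOK T D N S p sz oc = true → ∀ q, (φ q).val = p →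
          MulAction.orbit ((Subgroup.closure {s | s ∈ subs}).map
            (PresentedGroup.mk (coxRelators edges ∪ {r | r ∈ extra}))) q
              = {q' | tb S (φ q').val = true} ∧
          (MulAction.orbit ((Subgroup.closure {s | s ∈ subs}).map
            (PresentedGroup.mk (coxRelators edges ∪ {r | r ∈ extra}))) q).ncard = sz := by
  set rels := coxRelators edges ∪ {r | r ∈ extra} with hrels
  set g : ℕ → PresentedGroup rels := fun x => PresentedGroup.of (dec x) with hg
  have hgenc : (fun z => g (enc z)) = fun z => (PresentedGroup.of z : PresentedGroup rels) := by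
    funext z
    simp only [hg, hde]
  -- Coxeter relators hold
  have hcoxG : ∀ x y : α, ((PresentedGroup.of x : PresentedGroup rels) * PresentedGroup.of y)
      ^ coxLabel edges x y = 1 := by
    intro x y
    have : (FreeGroup.of x * FreeGroup.of y) ^ coxLabel edges x y ∈ rels :=
      Or.inl ⟨x, hnodes x, y, hnodes y, rfl⟩
    have h := PresentedGroup.one_of_mem this
    rwa [map_pow, map_mul] at h
  have hinvG : ∀ x, g x * g x = 1 := by
    intro x
    have := hcoxG (dec x) (dec x)
    rwa [coxLabel, if_pos rfl, pow_one] at this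
  have hle : D.nrel ≤ D.nw := by omega
  refine index_of_cert (g := g) (D := D) (T := T) _ (fun x _ => hinvG x) ?_ ?_ ?_ ?_ ?_ hle hrev hc hp
  · -- generation
    rw [eq_top_iff, ← PresentedGroup.closure_range_of]
    apply Subgroup.closure_mono
    rintro _ ⟨z, rfl⟩
    exact ⟨enc z, henc z, by simp only [hg, hde]⟩
  · -- relators
    intro wi hwi
    by_cases h : wi < D.k * D.k
    · have hk : 0 < D.k := by
        rcases Nat.eq_zero_or_pos D.k with h0 | h0
        · rw [h0] at h; omega
        · exact h0
      have hx : wi / D.k < D.k := Nat.div_lt_of_lt_mul h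
      have hy : wi % D.k < D.k := Nat.mod_lt _ hk
      have e : wi / D.k * D.k + wi % D.k = wi := Nat.div_add_mod' wi D.k
      have := (coxOK_spec hcox g hx hy).2
      rw [e] at this
      rw [this]
      exact hcoxG _ _
    · rw [not_lt] at h
      obtain ⟨i, rfl⟩ := Nat.exists_eq_add_of_le h
      have hi : i < extra.length := by omega
      rw [← hextra i hi _ g hinvG, hgenc, lift_mk_of]
      exact PresentedGroup.one_of_mem (Or.inr (List.getElem_mem hi))
  · -- subgroup words lie in `H`
    intro wi h1 h2
    obtain ⟨i, rfl⟩ := Nat.exists_eq_add_of_le h1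
    have hi : i < subs.length := by omega
    rw [← hsubs i hi _ g hinvG, hgenc, lift_mk_of]
    exact Subgroup.mem_map_of_mem _ (Subgroup.subset_closure (List.getElem_mem hi))
  · -- `H` is generated by the subgroup words
    rw [MonoidHom.map_closure]
    apply Subgroup.closure_mono
    rintro _ ⟨s, hs, rfl⟩
    obtain ⟨i, hi, rfl⟩ := List.getElem_of_mem hs
    refine ⟨D.nrel + i, Nat.le_add_right _ _, by omega, ?_⟩
    rw [← hsubs i hi _ g hinvG, hgenc, lift_mk_of]
  · -- the universal property
    intro σ hσ hσrel
    have hcoxσ : ∀ x y : α, (σ (enc x) * σ (enc y)) ^ coxLabel edges x y = 1 := by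
      intro x y
      have h1 := coxOK_spec hcox σ (henc y) (henc x)
      have h2 := hσrel _ h1.1
      rw [h1.2] at h2
      simpa only [hde] using h2
    have hall : ∀ r ∈ rels, FreeGroup.lift (fun z => σ (enc z)) r = 1 := by
      intro r hr
      rcases hr with ⟨x, _, y, _, rfl⟩ | hr
      · rw [map_pow, map_mul, FreeGroup.lift_apply_of, FreeGroup.lift_apply_of]
        exact hcoxσ x y
      · obtain ⟨i, hi, rfl⟩ := List.getElem_of_mem hr
        rw [hextra i hi _ σ hσ]
        exact hσrel _ (by omega)
    refine ⟨PresentedGroup.toGroup hall, ?_⟩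
    intro x hx
    simp only [hg]
    rw [PresentedGroup.toGroup.of, hed x hx]

end

end Cfsg.Agent.Helper5.TC
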