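import Mathlib
import Cfsg.Prelude.Def_SporCoxeter
import Cfsg.Agent.Helper5.TCCertF
import Cfsg.Agent.Helper5.TC2E

/-!
# Certified coset enumeration for Coxeter-style presentations (stateless certificates)
-/

set_option autoImplicit false

namespace Cfsg.Agent.Helper5.TC

open Cfsg.Spor

section
variable {α : Type} [DecidableEq α]

/-- **Certified coset enumeration in a Coxeter-style presented group.** -/
theorem presented_index2 (edges : List (α × ℕ × α)) (extra subs : List (FreeGroup α))
    (dec : ℕ → α) (enc : α → ℕ) (E : Dat2) {N RS : ℕ} {T : ℕ → ℕ → ℕ}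
    (hde : ∀ z, dec (enc z) = z) (hed : ∀ x, x < E.D.k → enc (dec x) = x)
    (henc : ∀ z, enc z < E.D.k) (hnodes : ∀ z, z ∈ coxNodes edges)
    (hnrel : E.D.nrel = E.D.k * E.D.k + extra.length) (hnw : E.D.nw = E.D.nrel + subs.length)
    (hextra : ∀ i (hi : i < extra.length),
      WordMatch enc (extra[i]) (E.D.wlen (E.D.k * E.D.k + i)) (E.D.wordP (E.D.k * E.D.k + i)))
    (hsubs : ∀ i (hi : i < subs.length),
      WordMatch enc (subs[i]) (E.D.wlen (E.D.nrel + i)) (E.D.wordP (E.D.nrel + i)))
    (hcox : coxOK E.D (fun x y => coxLabel edges (dec y) (dec x)) = true)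
    (hrev : revOK E.D E.D.nw = true)
    (hE : ∀ v, v < E.M → ∀ x, x < E.D.k → edgeOK E x v = true)
    (hA : ∀ v, v < E.M → aliasOK E v = true)
    (hset : setOK E.M N RS = true)
    (hrows : ∀ v, v < E.M → tb RS v = true → rowOK2 E RS v E.D.k = true)
    (hN : 0 < N)
    (hT : ∀ x, x < E.D.k → ∀ v, v < N → T x v < N ∧ T x (T x v) = v)
    (hltr : ∀ j, j < E.D.nw → lettersOK E.D.k (E.D.wlen j) (E.D.wordP j) = true)
    (hrelT : ∀ wi, wi < E.D.nrel → ∀ v, v < N →
      walkT T (E.D.wlen wi) (E.D.wordP wi) v = v)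
    (hsubT : ∀ wi, wi < E.D.nw → E.D.nrel ≤ wi →
      walkT T (E.D.wlen wi) (E.D.wordP wi) 0 = 0)
    (hconn : ∀ v, v < N → v ≠ 0 → ∃ x, x < E.D.k ∧ T x v < v) :
    ((Subgroup.closure {s | s ∈ subs}).map
        (PresentedGroup.mk (coxRelators edges ∪ {r | r ∈ extra}))).index = N ∧
      ∃ φ : PresentedGroup (coxRelators edges ∪ {r | r ∈ extra}) ⧸
          ((Subgroup.closure {s | s ∈ subs}).map
            (PresentedGroup.mk (coxRelators edges ∪ {r | r ∈ extra}))) ≃ Fin N,
        (φ ((1 : PresentedGroup (coxRelators edges ∪ {r | r ∈ extra})) : _ ⧸ _)).val = 0 ∧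
        ∀ (S p sz : ℕ) (oc : List ℕ), orbOK T E.D N S p sz oc = true → ∀ q, (φ q).val = p →
          MulAction.orbit ((Subgroup.closure {s | s ∈ subs}).map
            (PresentedGroup.mk (coxRelators edges ∪ {r | r ∈ extra}))) q
              = {q' | tb S (φ q').val = true} ∧
          (MulAction.orbit ((Subgroup.closure {s | s ∈ subs}).map
            (PresentedGroup.mk (coxRelators edges ∪ {r | r ∈ extra}))) q).ncard = sz := by
  set rels := coxRelators edges ∪ {r | r ∈ extra} with hrels
  set g : ℕ → PresentedGroup rels := fun x => PresentedGroup.of (dec x) with hg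
  have hgenc : (fun z => g (enc z)) = fun z => (PresentedGroup.of z : PresentedGroup rels) := by
    funext z
    simp only [hg, hde]
  -- Coxeter relators hold
  have hcoxG : ∀ x y : α, ((PresentedGroup.of x : PresentedGroup rels) * PresentedGroup.of y)
      ^ coxLabel edges x y = 1 := by
    intro x y
    have : (FreeGroup.of x * FreeGroup.of y) ^ coxLabel edges x y ∈ rels :=
      Or.inl ⟨x, hnodes x, y, hnodes y, rfl⟩
    have h := PresentedGroup.one_of_mem this
    rwa [map_pow, map_mul] at h
  have hinvG : ∀ x, g x * g x = 1 := by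
    intro x
    have := hcoxG (dec x) (dec x)
    rwa [coxLabel, if_pos rfl, pow_one] at this
  have hle : E.D.nrel ≤ E.D.nw := by omega
  have hgen : Subgroup.closure (g '' {x | x < E.D.k}) = ⊤ := by
    rw [eq_top_iff, ← PresentedGroup.closure_range_of]
    apply Subgroup.closure_mono
    rintro _ ⟨z, rfl⟩
    exact ⟨enc z, henc z, by simp only [hg, hde]⟩
  refine index_of_bound (g := g) (D := E.D) (T := T) _ (fun x _ => hinvG x) hgen ?_ ?_ ?_ ?_ hle hrev
    (fun hH htr => card_le_of_cert2 hH hgen htr hE hA hset hrows) hN hT hltr hrelT hsubT hconn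
  · -- relators
    intro wi hwi
    by_cases h : wi < E.D.k * E.D.k
    · have hk : 0 < E.D.k := by
        rcases Nat.eq_zero_or_pos E.D.k with h0 | h0
        · rw [h0] at h; omega
        · exact h0
      have hx : wi / E.D.k < E.D.k := Nat.div_lt_of_lt_mul h
      have hy : wi % E.D.k < E.D.k := Nat.mod_lt _ hk
      have e : wi / E.D.k * E.D.k + wi % E.D.k = wi := Nat.div_add_mod' wi E.D.k
      have := (coxOK_spec hcox g hx hy).2
      rw [e] at this
      rw [this]
      exact hcoxG _ _
    · rw [not_lt] at h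
      obtain ⟨i, rfl⟩ := Nat.exists_eq_add_of_le h
      have hi : i < extra.length := by omega
      rw [← hextra i hi _ g hinvG, hgenc, lift_mk_of]
      exact PresentedGroup.one_of_mem (Or.inr (List.getElem_mem hi))
  · -- subgroup words lie in `H`
    intro wi h1 h2
    obtain ⟨i, rfl⟩ := Nat.exists_eq_add_of_le h1
    have hi : i < subs.length := by omega
    rw [← hsubs i hi _ g hinvG, hgenc, lift_mk_of]
    exact Subgroup.mem_map_of_mem _ (Subgroup.subset_closure (List.getElem_mem hi))
  · -- `H` is generated by the subgroup words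
    rw [MonoidHom.map_closure]
    apply Subgroup.closure_mono
    rintro _ ⟨s, hs, rfl⟩
    obtain ⟨i, hi, rfl⟩ := List.getElem_of_mem hs
    refine ⟨E.D.nrel + i, Nat.le_add_right _ _, by omega, ?_⟩
    rw [← hsubs i hi _ g hinvG, hgenc, lift_mk_of]
  · -- the universal property
    intro σ hσ hσrel
    have hcoxσ : ∀ x y : α, (σ (enc x) * σ (enc y)) ^ coxLabel edges x y = 1 := by
      intro x y
      have h1 := coxOK_spec hcox σ (henc y) (henc x)
      have h2 := hσrel _ h1.1
      rw [h1.2] at h2
      simpa only [hde] using h2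
    have hall : ∀ r ∈ rels, FreeGroup.lift (fun z => σ (enc z)) r = 1 := by
      intro r hr
      rcases hr with ⟨x, _, y, _, rfl⟩ | hr
      · rw [map_pow, map_mul, FreeGroup.lift_apply_of, FreeGroup.lift_apply_of]
        exact hcoxσ x y
      · obtain ⟨i, hi, rfl⟩ := List.getElem_of_mem hr
        rw [hextra i hi _ σ hσ]
        exact hσrel _ (by omega)
    refine ⟨PresentedGroup.toGroup hall, ?_⟩
    intro x hx
    simp only [hg]
    rw [PresentedGroup.toGroup.of, hed x hx]

end

end Cfsg.Agent.Helper5.TC
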