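import Mathlib
import Cfsg.Agent.Helper5.TC2F

/-!
# Certified coset enumeration: variants for large enumerations

* counting the representatives in chunks;
* Coxeter relators checked for one orientation of each pair only.
-/

set_option autoImplicit false

namespace Cfsg.Agent.Helper5.TC

/-- count of the set bits of `RS` in `[v, v + c)`, added to `acc`. -/
def cntFrom (RS c : ℕ) : ℕ → ℕ → ℕ :=
  Nat.rec (motive := fun _ => ℕ → ℕ → ℕ) (fun _ acc => acc)
    (fun _ ih v acc =>
      force (bif tb RS v then Nat.succ acc else acc) (fun acc' =>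
        force (Nat.succ v) (fun v' => ih v' acc'))) c

theorem cntFrom_zero (RS v acc : ℕ) : cntFrom RS 0 v acc = acc := rfl

theorem cntFrom_succ (RS c v acc : ℕ) : cntFrom RS (c + 1) v acc =
    cntFrom RS c (v + 1) (bif tb RS v then acc + 1 else acc) := by
  have h : cntFrom RS (c + 1) v acc = force (bif tb RS v then Nat.succ acc else acc) (fun acc' =>
      force (Nat.succ v) (fun v' => cntFrom RS c v' acc')) := rfl
  rw [h, force_eq, force_eq]

theorem cntFrom_acc (RS : ℕ) : ∀ (c v acc : ℕ), cntFrom RS c v acc = acc + cntFrom RS c v 0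
  | 0, v, acc => by rw [cntFrom_zero, cntFrom_zero, add_zero]
  | c + 1, v, acc => by
    rw [cntFrom_succ, cntFrom_succ, cntFrom_acc RS c (v + 1) (bif tb RS v then acc + 1 else acc),
      cntFrom_acc RS c (v + 1) (bif tb RS v then 0 + 1 else 0)]
    cases tb RS v with
    | true => simp only [cond_true]; ring
    | false => simp only [cond_false]; ring

theorem cntFrom_cntBits (RS : ℕ) : ∀ (c v : ℕ), cntFrom RS c v (cntBits RS v) = cntBits RS (v + c)
  | 0, v => by rw [cntFrom_zero, add_zero]
  | c + 1, v => by
    rw [cntFrom_succ]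
    have h : (bif tb RS v then cntBits RS v + 1 else cntBits RS v) = cntBits RS (v + 1) := by
      rw [cntBits]
    rw [h, cntFrom_cntBits RS c (v + 1)]
    congr 1
    ring

/-- counting in chunks. -/
theorem cntBits_step (RS v c : ℕ) : cntBits RS (v + c) = cntBits RS v + cntFrom RS c v 0 := by
  rw [← cntFrom_cntBits, cntFrom_acc]

theorem setOK_of_parts {M N RS : ℕ} (h1 : cntBits RS M = N) (h2 : tb RS 0 = true)
    (h3 : Nat.blt RS (Nat.pow 2 M) = true) : setOK M N RS = true := by
  unfold setOK
  rw [h1, h2, h3]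
  simp

/-- the function `W` fixes the points `lo, …, lo + cnt - 1`. -/
def fixPtsF (W : ℕ → ℕ) (cnt : ℕ) : ℕ → Bool :=
  Nat.rec (motive := fun _ => ℕ → Bool) (fun _ => true)
    (fun _ ih v => bif Nat.beq (W v) v then force (Nat.succ v) ih else false) cnt

theorem fixPtsF_succ (W : ℕ → ℕ) (cnt v : ℕ) : fixPtsF W (cnt + 1) v =
    bif Nat.beq (W v) v then fixPtsF W cnt (v + 1) else false := by
  show (bif _ then force _ _ else _) = _
  rw [force_eq]
  rfl

theorem fixPtsF_spec (W : ℕ → ℕ) : ∀ (cnt lo : ℕ), fixPtsF W cnt lo = true →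
    ∀ v, lo ≤ v → v < lo + cnt → W v = v
  | 0, lo, _, v, h1, h2 => by omega
  | cnt + 1, lo, h, v, h1, h2 => by
    rw [fixPtsF_succ] at h
    cases hb : Nat.beq (W lo) lo with
    | false => rw [hb, cond_false] at h; exact absurd h (by simp)
    | true =>
      rw [hb, cond_true] at h
      rcases Nat.eq_or_lt_of_le h1 with rfl | hlt
      · exact Nat.eq_of_beq_eq_true hb
      · exact fixPtsF_spec W cnt (lo + 1) h v hlt (by omega)

/-- force the evaluation of a natural number before continuing; the continuation receives a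
literal. -/
def forceL {α : Type} (v : ℕ) (f : ℕ → α) : α := Nat.rec (f 0) (fun n _ => f n) (Nat.add v 1)

theorem forceL_eq {α : Type} (v : ℕ) (f : ℕ → α) : forceL v f = f v := rfl

end Cfsg.Agent.Helper5.TC
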