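import Mathlib
import Cfsg.Agent.Helper5.TC2C

/-!
# Stateless Todd–Coxeter certificates with paired inverse letters

Generalisation of `TC2A`/`TC2B`/`TC2C`: the letters `x < k` come with an involution `ι` on
letters such that `g x * g (ι x) = 1`; the generators need not be involutions.  Only the
"reverse edge" and "defining edge" justifications and the meaning of the reversed words change.
-/

set_option autoImplicit false

namespace Cfsg.Agent.Helper5.TCI

open Cfsg.Agent.Helper5.TC

/-- the edge `(v, x)` follows at time `r` as the reverse of the known edge `(w, ι x)`. -/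
def revOK2I (ι : ℕ → ℕ) (E : Dat2) (r x v : ℕ) : Bool :=
  force (res2 E r E.D.fuel (E.D.tgt x v)) (fun w =>
    force (ι x) (fun X =>
      Nat.blt w E.M && Nat.blt X E.D.k && Nat.blt (E.rank X w) r &&
        Nat.beq (res2 E r E.D.fuel (E.D.tgt X w)) (res2 E r E.D.fuel v)))

/-- the edge `(v, x)` is a defining edge (in one of the two directions). -/
def defOKI (ι : ℕ → ℕ) (E : Dat2) (x v : ℕ) : Bool :=
  force (E.D.tgt x v) (fun w =>
    (Nat.blt 0 w && Nat.blt (E.D.par w) w && Nat.beq (E.D.par w) v && Nat.beq (E.D.gen w) x) ||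
    (Nat.blt 0 v && Nat.blt (E.D.par v) v && Nat.beq (E.D.par v) w &&
      Nat.blt (E.D.gen v) E.D.k && Nat.beq (ι (E.D.gen v)) x))

/-- the edge `(v, x)` is justified (if it has a time stamp at all). -/
def edgeOKI (ι : ℕ → ℕ) (E : Dat2) (x v : ℕ) : Bool :=
  force (E.rank x v) (fun r =>
    bif Nat.beq r INF then true
    else bif Nat.beq r 0 then defOKI ι E x v
    else bif Nat.beq (Nat.mod r 2) 1 then revOK2I ι E r x v
    else force (E.ev (Nat.div r 2)) (fun j =>
      bif Nat.beq (Nat.mod j 4) 1 then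
        gapOK E r x v (Nat.mod (Nat.div j 4) 256) (Nat.mod (Nat.div j 1024) 256)
          (Nat.div j 262144)
      else bif Nat.beq (Nat.mod j 4) 3 then copyOK E r x v (Nat.div j 262144)
      else false))

/-- all edges `(v, x)` with `lo ≤ v < lo + n` are justified. -/
def edgesRangeI (ι : ℕ → ℕ) (E : Dat2) (x n : ℕ) : ℕ → Bool :=
  Nat.rec (motive := fun _ => ℕ → Bool) (fun _ => true)
    (fun _ ih v => bif edgeOKI ι E x v then force (Nat.succ v) ih else false) n

theorem edgesRangeI_succ (ι : ℕ → ℕ) (E : Dat2) (x n v : ℕ) : edgesRangeI ι E x (n + 1) v =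
    bif edgeOKI ι E x v then edgesRangeI ι E x n (v + 1) else false := by
  show (bif _ then force _ _ else _) = _
  rw [force_eq]
  rfl

theorem edgesRangeI_spec (ι : ℕ → ℕ) (E : Dat2) (x : ℕ) : ∀ (n lo : ℕ),
    edgesRangeI ι E x n lo = true → ∀ v, lo ≤ v → v < lo + n → edgeOKI ι E x v = true
  | 0, lo, _, v, h1, h2 => by omega
  | n + 1, lo, h, v, h1, h2 => by
    rw [edgesRangeI_succ] at h
    cases hc : edgeOKI ι E x lo with
    | false => rw [hc, cond_false] at h; exact absurd h (by simp)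
    | true =>
      rw [hc, cond_true] at h
      rcases Nat.eq_or_lt_of_le h1 with rfl | h1
      · exact hc
      · exact edgesRangeI_spec ι E x n (lo + 1) h v h1 (by omega)

/-- reverse a packed word, applying `ι` to every letter. -/
def packRevI (ι : ℕ → ℕ) : ℕ → ℕ → ℕ → ℕ
  | 0, _, acc => acc
  | n + 1, w, acc =>
    packRevI ι n (Nat.div w 16) (Nat.add (Nat.mul acc 16) (ι (Nat.mod w 16)))

/-- the words `wordR` are the formal inverses of the words `wordP`. -/
def revOKI (ι : ℕ → ℕ) (D : Dat) : ℕ → Bool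
  | 0 => true
  | j + 1 => Nat.beq (D.wordR j) (packRevI ι (D.wlen j) (D.wordP j) 0) && revOKI ι D j

theorem unpack_packRevI (ι : ℕ → ℕ) (hι : ∀ x, x < 16 → ι x < 16) : ∀ (n m w acc : ℕ),
    unpack (n + m) (packRevI ι n w acc) = ((unpack n w).reverse).map ι ++ unpack m acc
  | 0, m, w, acc => by simp [packRevI, unpack]
  | n + 1, m, w, acc => by
    rw [packRevI, show n + 1 + m = n + (m + 1) by ring, unpack_packRevI ι hι n (m + 1)]
    rw [unpack, unpack, List.reverse_cons, List.map_append, List.append_assoc]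
    have h1 : Nat.add (Nat.mul acc 16) (ι (Nat.mod w 16)) = acc * 16 + ι (w % 16) := rfl
    have h2 : Nat.div w 16 = w / 16 := rfl
    rw [h1, h2]
    have hlt : ι (w % 16) < 16 := hι _ (Nat.mod_lt _ (by norm_num))
    have h3 : (acc * 16 + ι (w % 16)) % 16 = ι (w % 16) := by omega
    have h4 : (acc * 16 + ι (w % 16)) / 16 = acc := by omega
    rw [h3, h4]
    rfl

theorem revOKI_spec (ι : ℕ → ℕ) (hι : ∀ x, x < 16 → ι x < 16) (D : Dat) :
    ∀ m, revOKI ι D m = true → ∀ j, j < m →
      unpack (D.wlen j) (D.wordR j) = ((unpack (D.wlen j) (D.wordP j)).reverse).map ι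
  | 0, _, j, hj => absurd hj (Nat.not_lt_zero _)
  | m + 1, h, j, hj => by
    rw [revOKI, Bool.and_eq_true] at h
    rcases Nat.lt_succ_iff_lt_or_eq.mp hj with hj | rfl
    · exact revOKI_spec ι hι D m h.2 j hj
    · rw [Nat.eq_of_beq_eq_true h.1]
      have := unpack_packRevI ι hι (D.wlen j) 0 (D.wordP j) 0
      simpa [unpack] using this

section
variable {G : Type*} [Group G] {Q : Type*} [MulAction G Q]

theorem mul_eq_one_swap {a b : G} (h : a * b = 1) : b * a = 1 := by
  have e : b * a = a⁻¹ * (a * b) * a := by group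
  rw [e, h]
  group

theorem rprod_reverse_mulI (g : ℕ → G) (ι : ℕ → ℕ) : ∀ (s : List ℕ),
    (∀ x ∈ s, g x * g (ι x) = 1) → rprod g s * rprod g (s.reverse.map ι) = 1
  | [], _ => by simp [rprod]
  | x :: s, h => by
    rw [List.reverse_cons, List.map_append, rprod_append, List.map_cons, List.map_nil,
      rprod, rprod, rprod, one_mul]
    have h1 : g x * g (ι x) = 1 := h x (List.mem_cons_self)
    have h2 := rprod_reverse_mulI g ι s (fun y hy => h y (List.mem_cons_of_mem _ hy))
    calc rprod g s * g x * (g (ι x) * rprod g (s.reverse.map ι))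
        = rprod g s * (g x * g (ι x)) * rprod g (s.reverse.map ι) := by simp only [mul_assoc]
      _ = 1 := by rw [h1, mul_one, h2]

variable (ι : ℕ → ℕ) (g : ℕ → G) (q₀ : Q) (D : Dat)

/-- the hypotheses on the words (letters paired by `ι`). -/
structure HypI : Prop where
  inv : ∀ x, x < D.k → g x * g (ι x) = 1
  ltr : ∀ wi, wi < D.nw → ∀ y ∈ unpack (D.wlen wi) (D.wordP wi), y < D.k
  rev : ∀ wi, wi < D.nw →
    unpack (D.wlen wi) (D.wordR wi) = ((unpack (D.wlen wi) (D.wordP wi)).reverse).map ι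
  rel : ∀ wi, wi < D.nrel → ∀ q : Q, rprod g (unpack (D.wlen wi) (D.wordP wi)) • q = q
  sub : ∀ wi, wi < D.nw → rprod g (unpack (D.wlen wi) (D.wordP wi)) • q₀ = q₀
  le : D.nrel ≤ D.nw

variable {ι g q₀ D}

/-- the algebraic core of a gap event. -/
theorem gap_coreI (hH : HypI ι g q₀ D) {l₁ s : List ℕ} {x : ℕ} {pc pf pb : Q}
    (hloop : rprod g (l₁ ++ x :: s) • pc = pc) (hf : pf = rprod g l₁ • pc)
    (hb : pb = rprod g (s.reverse.map ι) • pc) (hs : ∀ y ∈ s, y < D.k) :
    g x • pf = pb := by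
  have h1 : rprod g s * rprod g (s.reverse.map ι) = 1 :=
    rprod_reverse_mulI g ι s (fun y hy => hH.inv y (hs y hy))
  have h2 : rprod g s • (g x • pf) = pc := by
    rw [hf, ← mul_smul, ← mul_smul]
    rw [rprod_append, rprod] at hloop
    exact hloop
  have h3 : rprod g s • pb = pc := by
    rw [hb, ← mul_smul, h1, one_smul]
  exact MulAction.injective (rprod g s) (h2.trans h3.symm)

/-- the algebraic core of a closed-loop event. -/
theorem closed_coreI (hH : HypI ι g q₀ D) {l₁ s : List ℕ} {pc pe pb : Q}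
    (hloop : rprod g (l₁ ++ s) • pc = pc) (he : pe = rprod g l₁ • pc)
    (hb : pb = rprod g (s.reverse.map ι) • pc) (hs : ∀ y ∈ s, y < D.k) :
    pe = pb := by
  have h1 : rprod g s * rprod g (s.reverse.map ι) = 1 :=
    rprod_reverse_mulI g ι s (fun y hy => hH.inv y (hs y hy))
  have h2 : rprod g s • pe = pc := by
    rw [he, ← mul_smul]
    rw [rprod_append] at hloop
    exact hloop
  have h3 : rprod g s • pb = pc := by
    rw [hb, ← mul_smul, h1, one_smul]
  exact MulAction.injective (rprod g s) (h2.trans h3.symm)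

end

section
variable {G : Type*} [Group G] {Q : Type*} [MulAction G Q]
variable {ι : ℕ → ℕ} {g : ℕ → G} {q₀ : Q} {E : Dat2}

/-- the word `wi` fixes `pt c` when `loopOK2`. -/
theorem loop_of_ok2I (hH : HypI ι g q₀ E.D) {t : ℕ} (hI : Inv2 g q₀ E t) {wi c : ℕ}
    (h : loopOK2 E t wi c = true) :
    wi < E.D.nw ∧
      rprod g (unpack (E.D.wlen wi) (E.D.wordP wi)) • pt g q₀ E.D c = pt g q₀ E.D c := by
  unfold loopOK2 at h
  rcases Bool.or_eq_true_iff.mp h with h | h
  · rw [Nat.blt_eq] at h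
    exact ⟨lt_of_lt_of_le h hH.le, hH.rel wi h _⟩
  · obtain ⟨h1, h2⟩ := Bool.and_eq_true_iff.mp h
    rw [Nat.blt_eq] at h1
    have e := Nat.eq_of_beq_eq_true h2
    have e1 : pt g q₀ E.D c = q₀ := by
      rw [← res2_pt hI E.D.fuel c, e, pt_zero]
    rw [e1]
    exact ⟨h1, hH.sub wi h1⟩

theorem gapOK_specI (hH : HypI ι g q₀ E.D) {r : ℕ} (hI : Inv2 g q₀ E r) {x v wi i c : ℕ}
    (hv : v < E.M) (h : gapOK E r x v wi i c = true) :
    g x • pt g q₀ E.D v = pt g q₀ E.D (E.D.tgt x v) := by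
  unfold gapOK at h
  rw [force_eq] at h
  simp only [Bool.and_eq_true] at h
  obtain ⟨⟨⟨⟨hl, hi⟩, hf⟩, hlet⟩, hb, hres⟩ := h
  rw [Nat.blt_eq] at hi hb
  have ef := Nat.eq_of_beq_eq_true hf
  have elet := Nat.eq_of_beq_eq_true hlet
  have eres := Nat.eq_of_beq_eq_true hres
  obtain ⟨hwi, hloop⟩ := loop_of_ok2I hH hI hl
  rw [letter_eq] at elet
  -- the word
  have hsplit := unpack_split hi (E.D.wordP wi)
  rw [elet] at hsplit
  have hltr := hH.ltr wi hwi
  set l₁ := unpack i (E.D.wordP wi) with hl₁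
  set s := unpack (E.D.wlen wi - 1 - i) (E.D.wordP wi / 16 ^ (i + 1)) with hs
  have hslen : s.length = E.D.wlen wi - 1 - i := unpack_length _ _
  -- forward walk
  rw [wk2_eq] at ef hb eres
  have hfM : wkL2 E r c l₁ < E.M := by rw [ef]; exact hv
  obtain ⟨pf, _⟩ := wkL2_pt hI _ _ hfM
  rw [ef] at pf
  -- backward walk
  have hrev := hH.rev wi hwi
  have hb0 : unpack (E.D.wlen wi - 1 - i) (E.D.wordR wi) = s.reverse.map ι := by
    have e1 : E.D.wlen wi = (E.D.wlen wi - 1 - i) + (i + 1) := by omega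
    have e2 : unpack (E.D.wlen wi) (E.D.wordR wi) =
        unpack (E.D.wlen wi - 1 - i) (E.D.wordR wi) ++
          unpack (i + 1) (E.D.wordR wi / 16 ^ (E.D.wlen wi - 1 - i)) := by
      conv_lhs => rw [e1, unpack_add]
    have e3 := take_reverse_of_split hsplit
    have e4 : ((unpack (E.D.wlen wi) (E.D.wordP wi)).reverse.map ι).take s.length
        = s.reverse.map ι := by
      rw [← List.map_take, e3]
    rw [← hrev, e2, hslen, List.take_left' (unpack_length _ _)] at e4
    exact e4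
  rw [nsub, nsub, hb0] at hb eres
  obtain ⟨pb, _⟩ := wkL2_pt hI _ _ hb
  have hs' : ∀ y ∈ s, y < E.D.k := by
    intro y hy
    apply hltr
    rw [hsplit]
    exact List.mem_append_right _ (List.mem_cons_of_mem _ hy)
  rw [hsplit] at hloop
  have key := gap_coreI hH hloop pf pb hs'
  rw [key, ← res2_pt hI E.D.fuel (E.D.tgt x v), eres, res2_pt hI]

theorem closedOK_specI (hH : HypI ι g q₀ E.D) {r : ℕ} (hI : Inv2 g q₀ E r) {v wi i c : ℕ}
    (h : closedOK E r v wi i c = true) :
    pt g q₀ E.D v = pt g q₀ E.D (E.D.ali v) := by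
  unfold closedOK at h
  rw [force_eq, force_eq, force_eq, force_eq] at h
  simp only [Bool.and_eq_true] at h
  obtain ⟨⟨hl, hi⟩, ⟨heM, hbM⟩, hfin⟩ := h
  rw [Nat.ble_eq] at hi
  rw [Nat.blt_eq] at heM hbM
  obtain ⟨hwi, hloop⟩ := loop_of_ok2I hH hI hl
  have hsplit : unpack (E.D.wlen wi) (E.D.wordP wi) =
      unpack i (E.D.wordP wi) ++ unpack (E.D.wlen wi - i) (E.D.wordP wi / 16 ^ i) := by
    have e1 : E.D.wlen wi = i + (E.D.wlen wi - i) := by omega
    conv_lhs => rw [e1, unpack_add]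
  have hltr := hH.ltr wi hwi
  set l₁ := unpack i (E.D.wordP wi) with hl₁
  set s := unpack (E.D.wlen wi - i) (E.D.wordP wi / 16 ^ i) with hs
  have hslen : s.length = E.D.wlen wi - i := unpack_length _ _
  rw [wk2_eq] at heM hfin
  rw [wk2_eq] at hbM hfin
  obtain ⟨pe, _⟩ := wkL2_pt hI _ _ heM
  have hrev := hH.rev wi hwi
  have hb0 : unpack (E.D.wlen wi - i) (E.D.wordR wi) = s.reverse.map ι := by
    have e1 : E.D.wlen wi = (E.D.wlen wi - i) + i := by omega
    have e2 : unpack (E.D.wlen wi) (E.D.wordR wi) =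
        unpack (E.D.wlen wi - i) (E.D.wordR wi) ++
          unpack i (E.D.wordR wi / 16 ^ (E.D.wlen wi - i)) := by
      conv_lhs => rw [e1, unpack_add]
    have e3 : ((unpack (E.D.wlen wi) (E.D.wordP wi)).reverse.map ι).take s.length
        = s.reverse.map ι := by
      rw [← List.map_take, hsplit, List.reverse_append, List.take_left' (by simp)]
    rw [← hrev, e2, hslen, List.take_left' (unpack_length _ _)] at e3
    exact e3
  rw [nsub, hb0] at hbM hfin
  obtain ⟨pb, _⟩ := wkL2_pt hI _ _ hbM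
  have hs' : ∀ y ∈ s, y < E.D.k := by
    intro y hy
    apply hltr
    rw [hsplit]
    exact List.mem_append_right _ hy
  rw [hsplit] at hloop
  have key : pt g q₀ E.D (wkL2 E r c l₁) = pt g q₀ E.D (wkL2 E r c (s.reverse.map ι)) :=
    closed_coreI hH hloop pe pb hs'
  have key' : pt g q₀ E.D (res2 E r E.D.fuel (wkL2 E r c l₁))
      = pt g q₀ E.D (res2 E r E.D.fuel (wkL2 E r c (s.reverse.map ι))) := by
    rw [res2_pt hI, res2_pt hI, key]
  rcases Bool.or_eq_true_iff.mp hfin with h1 | h1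
  · obtain ⟨h2, h3⟩ := Bool.and_eq_true_iff.mp h1
    rw [Nat.eq_of_beq_eq_true h2, Nat.eq_of_beq_eq_true h3] at key'
    exact key'.symm
  · obtain ⟨h2, h3⟩ := Bool.and_eq_true_iff.mp h1
    rw [Nat.eq_of_beq_eq_true h2, Nat.eq_of_beq_eq_true h3] at key'
    exact key'

theorem revOK2I_spec (hH : HypI ι g q₀ E.D) {r : ℕ} (hI : Inv2 g q₀ E r) {x v : ℕ}
    (hxk : x < E.D.k) (h : revOK2I ι E r x v = true) :
    g x • pt g q₀ E.D v = pt g q₀ E.D (E.D.tgt x v) := by
  unfold revOK2I at h
  rw [force_eq, force_eq] at h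
  simp only [Bool.and_eq_true] at h
  obtain ⟨⟨⟨hw, hX⟩, hr⟩, hres⟩ := h
  rw [Nat.blt_eq] at hw hX hr
  have eres := Nat.eq_of_beq_eq_true hres
  set w := res2 E r E.D.fuel (E.D.tgt x v) with hwdef
  have h1 := hI.1 w (ι x) hw hX hr
  have h2 : pt g q₀ E.D (E.D.tgt (ι x) w) = pt g q₀ E.D v := by
    rw [← res2_pt hI E.D.fuel (E.D.tgt (ι x) w), eres, res2_pt hI]
  rw [h2] at h1
  rw [← h1, ← mul_smul, hH.inv x hxk, one_smul, hwdef, res2_pt hI]

theorem defOKI_spec (hH : HypI ι g q₀ E.D) {x v : ℕ}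
    (h : defOKI ι E x v = true) :
    g x • pt g q₀ E.D v = pt g q₀ E.D (E.D.tgt x v) := by
  unfold defOKI at h
  rw [force_eq] at h
  rcases Bool.or_eq_true_iff.mp h with h | h
  · simp only [Bool.and_eq_true] at h
    obtain ⟨⟨⟨h1, h2⟩, h3⟩, h4⟩ := h
    rw [Nat.blt_eq] at h1 h2
    have e3 := Nat.eq_of_beq_eq_true h3
    have e4 := Nat.eq_of_beq_eq_true h4
    rw [pt_succ g q₀ E.D h1 h2, e3, e4]
  · simp only [Bool.and_eq_true] at h
    obtain ⟨⟨⟨⟨h1, h2⟩, h3⟩, h5⟩, h4⟩ := h
    rw [Nat.blt_eq] at h1 h2 h5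
    have e3 := Nat.eq_of_beq_eq_true h3
    have e4 := Nat.eq_of_beq_eq_true h4
    rw [pt_succ g q₀ E.D h1 h2, e3, ← e4, ← mul_smul,
      mul_eq_one_swap (hH.inv _ h5), one_smul]

theorem edgeOKI_spec (hH : HypI ι g q₀ E.D) {x v : ℕ} (hxk : x < E.D.k) (hv : v < E.M)
    (h : edgeOKI ι E x v = true) (hr : E.rank x v < INF) (hI : Inv2 g q₀ E (E.rank x v)) :
    g x • pt g q₀ E.D v = pt g q₀ E.D (E.D.tgt x v) := by
  unfold edgeOKI at h
  rw [force_eq] at h
  have hne : Nat.beq (E.rank x v) INF = false := by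
    rw [← Bool.not_eq_true]
    intro he
    have := Nat.eq_of_beq_eq_true he
    omega
  rw [hne, cond_false] at h
  cases h0 : Nat.beq (E.rank x v) 0 with
  | true =>
    rw [h0, cond_true] at h
    exact defOKI_spec hH h
  | false =>
    rw [h0, cond_false] at h
    cases h1 : Nat.beq (Nat.mod (E.rank x v) 2) 1 with
    | true =>
      rw [h1, cond_true] at h
      exact revOK2I_spec hH hI hxk h
    | false =>
      rw [h1, cond_false, force_eq] at h
      cases h2 : Nat.beq (Nat.mod (E.ev (Nat.div (E.rank x v) 2)) 4) 1 with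
      | true =>
        rw [h2, cond_true] at h
        exact gapOK_specI hH hI hv h
      | false =>
        rw [h2, cond_false] at h
        cases h3 : Nat.beq (Nat.mod (E.ev (Nat.div (E.rank x v) 2)) 4) 3 with
        | true =>
          rw [h3, cond_true] at h
          exact copyOK_spec hI hxk h
        | false =>
          rw [h3, cond_false] at h
          exact absurd h (by simp)

theorem aliasOK_specI (hH : HypI ι g q₀ E.D) {v : ℕ}
    (h : aliasOK E v = true) (hr : E.arank v < INF) (hI : Inv2 g q₀ E (E.arank v)) :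
    pt g q₀ E.D v = pt g q₀ E.D (E.D.ali v) := by
  unfold aliasOK at h
  rw [force_eq] at h
  have hne : Nat.beq (E.arank v) INF = false := by
    rw [← Bool.not_eq_true]
    intro he
    have := Nat.eq_of_beq_eq_true he
    omega
  rw [hne, cond_false, force_eq] at h
  obtain ⟨_, h2⟩ := Bool.and_eq_true_iff.mp h
  exact closedOK_specI hH hI h2

/-- all justified edges and aliases hold. -/
theorem inv2_allI (hH : HypI ι g q₀ E.D)
    (hE : ∀ v, v < E.M → ∀ x, x < E.D.k → edgeOKI ι E x v = true)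
    (hA : ∀ v, v < E.M → aliasOK E v = true) :
    ∀ t, t ≤ INF → Inv2 g q₀ E t := by
  intro t
  induction t using Nat.strong_induction_on with
  | _ t ih =>
    intro ht
    refine ⟨?_, ?_⟩
    · intro v x hv hx hr
      exact edgeOKI_spec hH hx hv (hE v hv x hx) (lt_of_lt_of_le hr ht)
        (ih _ hr (le_trans (le_of_lt hr) ht))
    · intro v hv hr
      exact aliasOK_specI hH (hA v hv) (lt_of_lt_of_le hr ht)
        (ih _ hr (le_trans (le_of_lt hr) ht))

/-- **Main theorem** (paired letters): a valid certificate bounds the size of a transitive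
`G`-set. -/
theorem card_le_of_cert2I (hH : HypI ι g q₀ E.D)
    (hgen : Subgroup.closure (g '' {x | x < E.D.k}) = ⊤)
    (htr : ∀ q : Q, ∃ a : G, a • q₀ = q) {N RS : ℕ}
    (hE : ∀ v, v < E.M → ∀ x, x < E.D.k → edgeOKI ι E x v = true)
    (hA : ∀ v, v < E.M → aliasOK E v = true)
    (hset : setOK E.M N RS = true)
    (hrows : ∀ v, v < E.M → tb RS v = true → rowOK2 E RS v E.D.k = true) :
    Finite Q ∧ Nat.card Q ≤ N := by
  have hI := inv2_allI hH hE hA INF le_rfl
  unfold setOK at hset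
  obtain ⟨h12, h3⟩ := Bool.and_eq_true_iff.mp hset
  obtain ⟨h1, h2⟩ := Bool.and_eq_true_iff.mp h12
  rw [Nat.blt_eq] at h3
  have e1 := Nat.eq_of_beq_eq_true h1
  set M := E.M with hM
  have hlt : ∀ v, tb RS v = true → v < M := by
    intro v hv
    by_contra hge
    rw [not_lt] at hge
    have : RS < 2 ^ v := lt_of_lt_of_le h3 (Nat.pow_le_pow_right (by norm_num) hge)
    rw [tb_eq, Nat.testBit_lt_two_pow this] at hv
    exact absurd hv (by simp)
  set F := (Finset.range M).filter (fun v => tb RS v = true) with hF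
  have hFcard : F.card = N := by rw [← e1, cntBits_eq]
  have hclosed : ∀ v ∈ F, ∀ x, x < E.D.k →
      ∃ w ∈ F, g x • pt g q₀ E.D v = pt g q₀ E.D w := by
    intro v hv x hx
    rw [hF, Finset.mem_filter, Finset.mem_range] at hv
    have hrow := rowOK2_spec E RS v E.D.k (hrows v hv.1 hv.2) x hx
    refine ⟨res2 E INF E.D.fuel (E.D.tgt x v), ?_, ?_⟩
    · rw [hF, Finset.mem_filter, Finset.mem_range]
      exact ⟨hlt _ hrow.2, hrow.2⟩
    · rw [res2_pt hI, hI.1 v x hv.1 hx hrow.1]
  have hall : ∀ a : G, ∀ v ∈ F, ∃ w ∈ F, a • pt g q₀ E.D v = pt g q₀ E.D w := by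
    intro a
    have ha : a ∈ Subgroup.closure (g '' {x | x < E.D.k}) := by rw [hgen]; trivial
    induction ha using Subgroup.closure_induction with
    | mem y hy =>
      obtain ⟨x, hx, rfl⟩ := hy
      exact fun v hv => hclosed v hv x hx
    | one => exact fun v hv => ⟨v, hv, one_smul _ _⟩
    | mul a b _ _ iha ihb =>
      intro v hv
      obtain ⟨w, hw, e⟩ := ihb v hv
      obtain ⟨w', hw', e'⟩ := iha w hw
      exact ⟨w', hw', by rw [mul_smul, e, e']⟩
    | inv a _ iha =>
      intro v hv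
      classical
      let P : Finset Q := F.image (pt g q₀ E.D)
      have hmaps : ∀ p ∈ P, a • p ∈ P := by
        intro p hp
        obtain ⟨u, hu, rfl⟩ := Finset.mem_image.mp hp
        obtain ⟨w, hw, e⟩ := iha u hu
        exact Finset.mem_image.mpr ⟨w, hw, e.symm⟩
      have hsurj : Set.SurjOn (fun p : Q => a • p) (P : Set Q) (P : Set Q) := by
        have hinj : Set.InjOn (fun p : Q => a • p) (P : Set Q) :=
          fun p _ p' _ h => MulAction.injective a h
        exact (Finset.surjOn_of_injOn_of_card_le (fun p => a • p) hmaps hinj le_rfl)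
      have hvP : pt g q₀ E.D v ∈ (P : Set Q) :=
        Finset.mem_coe.mpr (Finset.mem_image_of_mem _ hv)
      obtain ⟨p, hp, e⟩ := hsurj hvP
      obtain ⟨w, hw, rfl⟩ := Finset.mem_image.mp (Finset.mem_coe.mp hp)
      refine ⟨w, hw, ?_⟩
      simp only at e
      rw [← e, inv_smul_smul]
  have h0 : 0 ∈ F := by
    rw [hF, Finset.mem_filter, Finset.mem_range]
    exact ⟨hlt 0 h2, h2⟩
  have hcov : ∀ q : Q, ∃ w ∈ F, q = pt g q₀ E.D w := by
    intro q
    obtain ⟨a, rfl⟩ := htr q
    obtain ⟨w, hw, e⟩ := hall a 0 h0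
    rw [pt_zero] at e
    exact ⟨w, hw, e⟩
  have hsurj : Function.Surjective (fun w : F => pt g q₀ E.D w.1) := by
    intro q
    obtain ⟨w, hw, e⟩ := hcov q
    exact ⟨⟨w, hw⟩, e.symm⟩
  refine ⟨Finite.of_surjective _ hsurj, ?_⟩
  have := Nat.card_le_card_of_surjective _ hsurj
  have e2 : Nat.card F = N := by
    rw [Nat.card_eq_fintype_card, Fintype.card_coe, hFcard]
  rwa [e2] at this

end

end Cfsg.Agent.Helper5.TCI
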