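import Mathlib
import Cfsg.Agent.Helper5.TC3A
import Cfsg.Agent.Helper5.TCIA

/-!
# Certified coset enumeration with paired inverse letters: the index theorem
-/

set_option autoImplicit false

namespace Cfsg.Agent.Helper5.TCI

open Cfsg.Agent.Helper5.TC

/-- the permutation of `Fin N` read off from row `x` of the table (inverse: row `ι x`). -/
noncomputable def tblPermI (T : ℕ → ℕ → ℕ) (ι : ℕ → ℕ) (N x : ℕ) : Equiv.Perm (Fin N) := by
  classical
  exact
    if h : (∀ v, v < N → T x v < N ∧ T (ι x) (T x v) = v) ∧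
        (∀ v, v < N → T (ι x) v < N ∧ T x (T (ι x) v) = v) then
      { toFun := fun v => ⟨T x v.1, (h.1 v.1 v.2).1⟩
        invFun := fun v => ⟨T (ι x) v.1, (h.2 v.1 v.2).1⟩
        left_inv := fun v => Fin.ext (h.1 v.1 v.2).2
        right_inv := fun v => Fin.ext (h.2 v.1 v.2).2 }
    else 1

theorem tblPermI_apply {T : ℕ → ℕ → ℕ} {ι : ℕ → ℕ} {N x : ℕ}
    (h : (∀ v, v < N → T x v < N ∧ T (ι x) (T x v) = v) ∧
        (∀ v, v < N → T (ι x) v < N ∧ T x (T (ι x) v) = v)) (v : Fin N) :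
    ((tblPermI T ι N x) v).val = T x v.val := by
  unfold tblPermI
  rw [dif_pos h]
  rfl

theorem tblPermI_mul (T : ℕ → ℕ → ℕ) (ι : ℕ → ℕ) (hιι : ∀ x, ι (ι x) = x) (N x : ℕ) :
    tblPermI T ι N x * tblPermI T ι N (ι x) = 1 := by
  by_cases h : (∀ v, v < N → T x v < N ∧ T (ι x) (T x v) = v) ∧
        (∀ v, v < N → T (ι x) v < N ∧ T x (T (ι x) v) = v)
  · have h' : (∀ v, v < N → T (ι x) v < N ∧ T (ι (ι x)) (T (ι x) v) = v) ∧
        (∀ v, v < N → T (ι (ι x)) v < N ∧ T (ι x) (T (ι (ι x)) v) = v) := by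
      rw [hιι]
      exact ⟨h.2, h.1⟩
    ext v
    rw [Equiv.Perm.mul_apply, tblPermI_apply h, tblPermI_apply h', (h.2 v.1 v.2).2]
    rfl
  · have h' : ¬ ((∀ v, v < N → T (ι x) v < N ∧ T (ι (ι x)) (T (ι x) v) = v) ∧
        (∀ v, v < N → T (ι (ι x)) v < N ∧ T (ι x) (T (ι (ι x)) v) = v)) := by
      rw [hιι]
      exact fun hh => h ⟨hh.2, hh.1⟩
    unfold tblPermI
    rw [dif_neg h, dif_neg h', one_mul]

/-- the table conditions for all letters. -/
theorem tbl_both {T : ℕ → ℕ → ℕ} {ι : ℕ → ℕ} {N k : ℕ} (hιι : ∀ x, ι (ι x) = x)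
    (hιk : ∀ x, x < k → ι x < k)
    (hT : ∀ x, x < k → ∀ v, v < N → T x v < N ∧ T (ι x) (T x v) = v) {x : ℕ} (hx : x < k) :
    (∀ v, v < N → T x v < N ∧ T (ι x) (T x v) = v) ∧
        (∀ v, v < N → T (ι x) v < N ∧ T x (T (ι x) v) = v) := by
  refine ⟨hT x hx, ?_⟩
  have := hT (ι x) (hιk x hx)
  rwa [hιι] at this

theorem walkT_specI {T : ℕ → ℕ → ℕ} {ι : ℕ → ℕ} {N k : ℕ} (hιι : ∀ x, ι (ι x) = x)
    (hιk : ∀ x, x < k → ι x < k)
    (hT : ∀ x, x < k → ∀ v, v < N → T x v < N ∧ T (ι x) (T x v) = v) :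
    ∀ (n w : ℕ), lettersOK k n w = true → ∀ v : Fin N,
      ((rprod (tblPermI T ι N) (unpack n w)) v).val = walkT T n w v.val
  | 0, w, _, v => by
    rw [unpack, rprod]
    rfl
  | n + 1, w, h, v => by
    rw [lettersOK, Bool.and_eq_true] at h
    have hx : w % 16 < k := by
      have := h.1
      rw [Nat.blt_eq] at this
      exact this
    rw [unpack, rprod, Equiv.Perm.mul_apply, walkT_specI hιι hιk hT n (w / 16) h.2,
      tblPermI_apply (tbl_both hιι hιk hT hx)]
    rfl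

/-- generator `x` acts on the points `lo, …, lo + cnt - 1` with inverse generator `X`. -/
def invRowFI (T : ℕ → ℕ → ℕ) (N x X cnt : ℕ) : ℕ → Bool :=
  Nat.rec (motive := fun _ => ℕ → Bool) (fun _ => true)
    (fun _ ih v =>
      bif force (T x v) (fun w => Nat.blt w N && Nat.beq (T X w) v) then force (Nat.succ v) ih
      else false) cnt

theorem invRowFI_succ (T : ℕ → ℕ → ℕ) (N x X cnt v : ℕ) : invRowFI T N x X (cnt + 1) v =
    bif (Nat.blt (T x v) N && Nat.beq (T X (T x v)) v) then invRowFI T N x X cnt (v + 1)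
    else false := by
  show (bif force _ _ then force _ _ else _) = _
  rw [force_eq, force_eq]
  rfl

theorem invRowFI_spec (T : ℕ → ℕ → ℕ) (N x X : ℕ) : ∀ (cnt lo : ℕ),
    invRowFI T N x X cnt lo = true →
    ∀ v, lo ≤ v → v < lo + cnt → T x v < N ∧ T X (T x v) = v
  | 0, lo, _, v, h1, h2 => by omega
  | cnt + 1, lo, h, v, h1, h2 => by
    rw [invRowFI_succ] at h
    cases hc : (Nat.blt (T x lo) N && Nat.beq (T X (T x lo)) lo) with
    | false => rw [hc, cond_false] at h; exact absurd h (by simp)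
    | true =>
      rw [hc, cond_true] at h
      rcases Nat.eq_or_lt_of_le h1 with rfl | h1
      · obtain ⟨h3, h4⟩ := Bool.and_eq_true_iff.mp hc
        rw [Nat.blt_eq] at h3
        exact ⟨h3, Nat.eq_of_beq_eq_true h4⟩
      · exact invRowFI_spec T N x X cnt (lo + 1) h v h1 (by omega)

section main
variable {G : Type*} [Group G] {g : ℕ → G} {D : Dat} {T : ℕ → ℕ → ℕ}

/-- **Main theorem** (paired letters): the index of a subgroup from a coset table and an upper
bound for the number of cosets. -/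
theorem index_of_boundI {N : ℕ} (ι : ℕ → ℕ) (H : Subgroup G)
    (hιι : ∀ x, ι (ι x) = x) (hιk : ∀ x, x < D.k → ι x < D.k) (hι16 : ∀ x, x < 16 → ι x < 16)
    (hinv : ∀ x, x < D.k → g x * g (ι x) = 1)
    (hrel : ∀ wi, wi < D.nrel → rprod g (unpack (D.wlen wi) (D.wordP wi)) = 1)
    (hsub1 : ∀ wi, D.nrel ≤ wi → wi < D.nw → rprod g (unpack (D.wlen wi) (D.wordP wi)) ∈ H)
    (hsub2 : H ≤ Subgroup.closure {a | ∃ wi, D.nrel ≤ wi ∧ wi < D.nw ∧
      a = rprod g (unpack (D.wlen wi) (D.wordP wi))})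
    (huniv : ∀ σ : ℕ → Equiv.Perm (Fin N), (∀ x, σ x * σ (ι x) = 1) →
      (∀ wi, wi < D.nrel → rprod σ (unpack (D.wlen wi) (D.wordP wi)) = 1) →
      ∃ ρ : G →* Equiv.Perm (Fin N), ∀ x, x < D.k → ρ (g x) = σ x)
    (hle : D.nrel ≤ D.nw)
    (hrev : revOKI ι D D.nw = true)
    (hub : HypI ι g ((1 : G) : G ⧸ H) D → (∀ q : G ⧸ H, ∃ a : G, a • ((1 : G) : G ⧸ H) = q) →
      Finite (G ⧸ H) ∧ Nat.card (G ⧸ H) ≤ N)
    (hN : 0 < N)
    (hT : ∀ x, x < D.k → ∀ v, v < N → T x v < N ∧ T (ι x) (T x v) = v)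
    (hltr : ∀ j, j < D.nw → lettersOK D.k (D.wlen j) (D.wordP j) = true)
    (hrelT : ∀ wi, wi < D.nrel → ∀ v, v < N → walkT T (D.wlen wi) (D.wordP wi) v = v)
    (hsubT : ∀ wi, wi < D.nw → D.nrel ≤ wi → walkT T (D.wlen wi) (D.wordP wi) 0 = 0)
    (hconn : ∀ v, v < N → v ≠ 0 → ∃ x, x < D.k ∧ T x v < v) :
    H.index = N := by
  classical
  -- the upper bound
  have hH : HypI ι g ((1 : G) : G ⧸ H) D := by
    refine ⟨hinv, fun wi hwi => lettersOK_spec D.k _ _ (hltr wi hwi),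
      revOKI_spec ι hι16 D D.nw hrev, ?_, ?_, hle⟩
    · intro wi hwi q
      rw [hrel wi hwi, one_smul]
    · intro wi hwi
      by_cases h : wi < D.nrel
      · rw [hrel wi h, one_smul]
      · rw [not_lt] at h
        rw [MulAction.Quotient.smul_coe, smul_eq_mul, mul_one]
        rw [QuotientGroup.eq, mul_one]
        exact H.inv_mem (hsub1 wi h hwi)
  have htr : ∀ q : G ⧸ H, ∃ a : G, a • ((1 : G) : G ⧸ H) = q := by
    intro q
    induction q using QuotientGroup.induction_on with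
    | H a => exact ⟨a, by rw [MulAction.Quotient.smul_coe, smul_eq_mul, mul_one]⟩
  obtain ⟨hfin, hcard⟩ := hub hH htr
  -- the representation
  have hσrel : ∀ wi, wi < D.nrel →
      rprod (tblPermI T ι N) (unpack (D.wlen wi) (D.wordP wi)) = 1 := by
    intro wi hwi
    ext v
    rw [walkT_specI hιι hιk hT _ _ (hltr wi (lt_of_lt_of_le hwi hle)),
      hrelT wi hwi v.1 v.2]
    rfl
  obtain ⟨ρ, hρ⟩ := huniv (tblPermI T ι N) (tblPermI_mul T ι hιι N) hσrel
  have hword : ∀ j, j < D.nw → ∀ v : Fin N,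
      ((ρ (rprod g (unpack (D.wlen j) (D.wordP j)))) v).val
        = walkT T (D.wlen j) (D.wordP j) v.val := by
    intro j hj v
    rw [map_rprod, rprod_congr (γ' := tblPermI T ι N) hρ _ (lettersOK_spec D.k _ _ (hltr j hj)),
      walkT_specI hιι hιk hT _ _ (hltr j hj)]
  let z : Fin N := ⟨0, hN⟩
  -- the subgroup fixes `0`
  have hfix' : ∀ a ∈ Subgroup.closure {a | ∃ wi, D.nrel ≤ wi ∧ wi < D.nw ∧
      a = rprod g (unpack (D.wlen wi) (D.wordP wi))}, ρ a z = z := by
    intro a ha'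
    induction ha' using Subgroup.closure_induction with
    | mem y hy =>
      obtain ⟨wi, h1, h2, rfl⟩ := hy
      apply Fin.ext
      rw [hword wi h2]
      exact hsubT wi h2 h1
    | one => simp
    | mul a b _ _ iha ihb => rw [map_mul, Equiv.Perm.mul_apply, ihb, iha]
    | inv a _ iha =>
      rw [map_inv, Equiv.Perm.inv_eq_iff_eq, iha]
  have hfix : ∀ a ∈ H, ρ a z = z := fun a ha => hfix' a (hsub2 ha)
  -- transitivity
  have htrans : ∀ (n : ℕ) (v : Fin N), v.val = n → ∃ a : G, ρ a z = v := by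
    intro n
    induction n using Nat.strong_induction_on with
    | _ n ih =>
      intro v hv
      by_cases h0 : v.val = 0
      · exact ⟨1, by rw [map_one]; exact Fin.ext h0.symm⟩
      · obtain ⟨x, hx, hlt⟩ := hconn v.1 v.2 h0
        obtain ⟨a, ha⟩ := ih (T x v.1) (hv ▸ hlt) ⟨T x v.1, (hT x hx v.1 v.2).1⟩ rfl
        refine ⟨g (ι x) * a, ?_⟩
        rw [map_mul, Equiv.Perm.mul_apply, ha, hρ (ι x) (hιk x hx)]
        apply Fin.ext
        rw [tblPermI_apply (tbl_both hιι hιk hT (hιk x hx))]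
        exact (hT x hx v.1 v.2).2
  -- the map
  let φ₀ : G ⧸ H → Fin N := fun q => Quotient.liftOn' q (fun a => ρ a z) (by
    intro a b hab
    rw [QuotientGroup.leftRel_apply] at hab
    have := hfix _ hab
    rw [map_mul, map_inv, Equiv.Perm.mul_apply, Equiv.Perm.inv_eq_iff_eq] at this
    exact this.symm)
  have hsurj : Function.Surjective φ₀ := by
    intro v
    obtain ⟨a, ha⟩ := htrans v.1 v rfl
    exact ⟨(a : G ⧸ H), ha⟩
  have hcardN : Nat.card (Fin N) = N := by simp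
  have hge : N ≤ Nat.card (G ⧸ H) := by
    have := Nat.card_le_card_of_surjective φ₀ hsurj
    rwa [hcardN] at this
  exact le_antisymm hcard hge

end main

/-! ## presented groups -/

section
variable {α : Type}

/-- a free-group word and a packed word evaluate to the same thing whenever the letters paired
by `ι` are sent to mutually inverse elements. -/
def WordMatchI (ι : ℕ → ℕ) (enc : α → ℕ) (r : FreeGroup α) (n w : ℕ) : Prop :=
  ∀ (K : Type) [Group K] (γ : ℕ → K), (∀ x, γ x * γ (ι x) = 1) →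
    FreeGroup.lift (fun z => γ (enc z)) r = rprod γ (unpack n w)

/-- **Certified coset enumeration in a presented group** (generators need not be involutions). -/
theorem presented_indexI (rels : Set (FreeGroup α)) (subs : List (FreeGroup α))
    (ι : ℕ → ℕ) (gw : ℕ → FreeGroup α) (enc : α → ℕ) (E : Dat2) {N RS : ℕ} {T : ℕ → ℕ → ℕ}
    (hιι : ∀ x, ι (ι x) = x) (hιk : ∀ x, x < E.D.k → ι x < E.D.k)
    (hι16 : ∀ x, x < 16 → ι x < 16)
    (henc : ∀ z, enc z < E.D.k) (hgw : ∀ z, gw (enc z) = FreeGroup.of z)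
    (hgwinv : ∀ x, PresentedGroup.mk rels (gw x) * PresentedGroup.mk rels (gw (ι x)) = 1)
    (hgwm : ∀ x, x < E.D.k → ∀ (K : Type) [Group K] (γ : ℕ → K), (∀ y, γ y * γ (ι y) = 1) →
      FreeGroup.lift (fun z => γ (enc z)) (gw x) = γ x)
    (hnw : E.D.nw = E.D.nrel + subs.length)
    (hA : ∀ wi, wi < E.D.nrel →
      (∃ r ∈ rels, WordMatchI ι enc r (E.D.wlen wi) (E.D.wordP wi)) ∨
      (∃ x, unpack (E.D.wlen wi) (E.D.wordP wi) = [x, ι x]))
    (hC : ∀ r ∈ rels, ∃ wi, wi < E.D.nrel ∧ WordMatchI ι enc r (E.D.wlen wi) (E.D.wordP wi))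
    (hsubs : ∀ i (hi : i < subs.length),
      WordMatchI ι enc (subs[i]) (E.D.wlen (E.D.nrel + i)) (E.D.wordP (E.D.nrel + i)))
    (hrev : revOKI ι E.D E.D.nw = true)
    (hE : ∀ v, v < E.M → ∀ x, x < E.D.k → edgeOKI ι E x v = true)
    (hAl : ∀ v, v < E.M → aliasOK E v = true)
    (hset : setOK E.M N RS = true)
    (hrows : ∀ v, v < E.M → tb RS v = true → rowOK2 E RS v E.D.k = true)
    (hN : 0 < N)
    (hT : ∀ x, x < E.D.k → ∀ v, v < N → T x v < N ∧ T (ι x) (T x v) = v)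
    (hltr : ∀ j, j < E.D.nw → lettersOK E.D.k (E.D.wlen j) (E.D.wordP j) = true)
    (hrelT : ∀ wi, wi < E.D.nrel → ∀ v, v < N →
      walkT T (E.D.wlen wi) (E.D.wordP wi) v = v)
    (hsubT : ∀ wi, wi < E.D.nw → E.D.nrel ≤ wi →
      walkT T (E.D.wlen wi) (E.D.wordP wi) 0 = 0)
    (hconn : ∀ v, v < N → v ≠ 0 → ∃ x, x < E.D.k ∧ T x v < v) :
    ((Subgroup.closure {s | s ∈ subs}).map (PresentedGroup.mk rels)).index = N := by
  set g : ℕ → PresentedGroup rels := fun x => PresentedGroup.mk rels (gw x) with hg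
  have hgenc : (fun z => g (enc z)) = fun z => (PresentedGroup.of z : PresentedGroup rels) := by
    funext z
    simp only [hg, hgw]
    rfl
  have hinvG : ∀ x, g x * g (ι x) = 1 := hgwinv
  have hle : E.D.nrel ≤ E.D.nw := by omega
  have hgen : Subgroup.closure (g '' {x | x < E.D.k}) = ⊤ := by
    rw [eq_top_iff, ← PresentedGroup.closure_range_of]
    apply Subgroup.closure_mono
    rintro _ ⟨z, rfl⟩
    refine ⟨enc z, henc z, ?_⟩
    simp only [hg, hgw]
    rfl
  refine index_of_boundI (g := g) (D := E.D) (T := T) ι _ hιι hιk hι16 (fun x _ => hinvG x)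
    ?_ ?_ ?_ ?_ hle hrev
    (fun hH htr => card_le_of_cert2I hH hgen htr hE hAl hset hrows) hN hT hltr hrelT hsubT hconn
  · -- relators
    intro wi hwi
    rcases hA wi hwi with ⟨r, hr, hm⟩ | ⟨x, hx⟩
    · rw [← hm _ g hinvG, hgenc, lift_mk_of]
      exact PresentedGroup.one_of_mem hr
    · rw [hx, rprod, rprod, rprod, one_mul]
      have := hinvG (ι x)
      rwa [hιι] at this
  · -- subgroup words lie in `H`
    intro wi h1 h2
    obtain ⟨i, rfl⟩ := Nat.exists_eq_add_of_le h1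
    have hi : i < subs.length := by omega
    rw [← hsubs i hi _ g hinvG, hgenc, lift_mk_of]
    exact Subgroup.mem_map_of_mem _ (Subgroup.subset_closure (List.getElem_mem hi))
  · -- `H` is generated by the subgroup words
    rw [MonoidHom.map_closure]
    apply Subgroup.closure_mono
    rintro _ ⟨s, hs, rfl⟩
    obtain ⟨i, hi, rfl⟩ := List.getElem_of_mem hs
    refine ⟨E.D.nrel + i, Nat.le_add_right _ _, by omega, ?_⟩
    rw [← hsubs i hi _ g hinvG, hgenc, lift_mk_of]
  · -- the universal property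
    intro σ hσ hσrel
    have hall : ∀ r ∈ rels, FreeGroup.lift (fun z => σ (enc z)) r = 1 := by
      intro r hr
      obtain ⟨wi, hwi, hm⟩ := hC r hr
      rw [hm _ σ hσ]
      exact hσrel _ hwi
    refine ⟨PresentedGroup.toGroup hall, ?_⟩
    intro x hx
    simp only [hg]
    have h1 : PresentedGroup.toGroup hall (PresentedGroup.mk rels (gw x))
        = FreeGroup.lift (fun z => σ (enc z)) (gw x) := rfl
    rw [h1, hgwm x hx _ σ hσ]

end

end Cfsg.Agent.Helper5.TCI
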