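import Mathlib
import Cfsg.Agent.Helper5.TCIB

/-!
# List-presented groups on involutions

`LPG k R` is the group presented by generators `0, …, k - 1` and the relator words in the list `R`
(words are lists of letters, in group order).  We wrap the certified coset enumeration for such
groups, and construct the permutation representation on the cosets from the coset table.
-/

set_option autoImplicit false

namespace Cfsg.Agent.Helper5.LP

open Cfsg.Agent.Helper5.TC Cfsg.Agent.Helper5.TCI

section
variable (k : ℕ)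

/-- the free-group element of a letter. -/
def fl (c : ℕ) : FreeGroup (Fin k) := if h : c < k then FreeGroup.of ⟨c, h⟩ else 1

/-- the free-group element of a word. -/
def fw (l : List ℕ) : FreeGroup (Fin k) := (l.map (fl k)).prod

theorem fw_nil : fw k [] = 1 := rfl

theorem fw_cons (c : ℕ) (l : List ℕ) : fw k (c :: l) = fl k c * fw k l := by simp [fw]

theorem fw_append (l l' : List ℕ) : fw k (l ++ l') = fw k l * fw k l' := by simp [fw]

theorem fl_lt {c : ℕ} (h : c < k) : fl k c = FreeGroup.of ⟨c, h⟩ := dif_pos h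

theorem fl_ge {c : ℕ} (h : k ≤ c) : fl k c = 1 := dif_neg (by omega)

/-- the relators. -/
def rels (R : List (List ℕ)) : Set (FreeGroup (Fin k)) := {r | ∃ l ∈ R, r = fw k l}

/-- the list-presented group. -/
abbrev LPG (R : List (List ℕ)) : Type := PresentedGroup (rels k R)

variable {k}
variable {R : List (List ℕ)}

/-- the element spelled by a word. -/
def ev (k : ℕ) (R : List (List ℕ)) (l : List ℕ) : LPG k R := PresentedGroup.mk (rels k R) (fw k l)

theorem ev_nil : ev k R [] = 1 := map_one _

theorem ev_cons (c : ℕ) (l : List ℕ) : ev k R (c :: l) = ev k R [c] * ev k R l := by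
  unfold ev
  rw [fw_cons, map_mul, fw_cons, fw_nil, mul_one]

theorem ev_append (l l' : List ℕ) : ev k R (l ++ l') = ev k R l * ev k R l' := by
  unfold ev
  rw [fw_append, map_mul]

theorem ev_rel {l : List ℕ} (h : l ∈ R) : ev k R l = 1 :=
  PresentedGroup.one_of_mem ⟨l, h, rfl⟩

/-- all generators are involutions by the relators. -/
def Invol (k : ℕ) (R : List (List ℕ)) : Prop := ∀ c, c < k → [c, c] ∈ R

instance (k : ℕ) (R : List (List ℕ)) : Decidable (Invol k R) := by
  unfold Invol; infer_instance

theorem ev_ge {c : ℕ} (h : k ≤ c) : ev k R [c] = 1 := by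
  unfold ev
  rw [fw_cons, fw_nil, mul_one, fl_ge k h, map_one]

theorem ev_sq (h : Invol k R) (c : ℕ) : ev k R [c] * ev k R [c] = 1 := by
  rcases Nat.lt_or_ge c k with hc | hc
  · rw [← ev_append]
    exact ev_rel (h c hc)
  · rw [ev_ge hc, one_mul]

theorem ev_reverse (h : Invol k R) : ∀ l : List ℕ, ev k R l.reverse = (ev k R l)⁻¹
  | [] => by simp [ev_nil]
  | c :: l => by
    rw [List.reverse_cons, ev_append, ev_reverse h l, ev_cons c l, mul_inv_rev]
    congr 1
    exact eq_inv_of_mul_eq_one_left (ev_sq h c)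

theorem closure_gens : Subgroup.closure {x : LPG k R | ∃ c, c < k ∧ x = ev k R [c]} = ⊤ := by
  rw [eq_top_iff, ← PresentedGroup.closure_range_of]
  apply Subgroup.closure_mono
  rintro _ ⟨z, rfl⟩
  refine ⟨z.val, z.isLt, ?_⟩
  unfold ev
  rw [fw_cons, fw_nil, mul_one, fl_lt k z.isLt]
  rfl

/-- the letters of all words are below `k`. -/
def LettersLt (k : ℕ) (R : List (List ℕ)) : Prop := ∀ l ∈ R, ∀ c ∈ l, c < k

instance (k : ℕ) (R : List (List ℕ)) : Decidable (LettersLt k R) := by
  unfold LettersLt; infer_instance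

/-! ### the universal property -/

theorem lift_fw {K : Type*} [Group K] (f : ℕ → K) : ∀ l : List ℕ, (∀ c ∈ l, c < k) →
    FreeGroup.lift (fun z : Fin k => f z.val) (fw k l) = (l.map f).prod
  | [], _ => by simp [fw_nil]
  | c :: l, h => by
    rw [fw_cons, map_mul, lift_fw f l (fun c hc => h c (List.mem_cons_of_mem _ hc)),
      fl_lt k (h c List.mem_cons_self), FreeGroup.lift_apply_of, List.map_cons, List.prod_cons]

/-- the homomorphism defined by images of the generators satisfying the relators. -/
def lift {K : Type*} [Group K] (f : ℕ → K) (hlt : LettersLt k R)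
    (hf : ∀ l ∈ R, (l.map f).prod = 1) : LPG k R →* K :=
  PresentedGroup.toGroup (f := fun z : Fin k => f z.val) (by
    rintro r ⟨l, hl, rfl⟩
    rw [lift_fw f l (hlt l hl)]
    exact hf l hl)

theorem lift_ev {K : Type*} [Group K] (f : ℕ → K) (hlt : LettersLt k R)
    (hf : ∀ l ∈ R, (l.map f).prod = 1) (l : List ℕ) (hl : ∀ c ∈ l, c < k) :
    lift f hlt hf (ev k R l) = (l.map f).prod := by
  unfold lift ev
  exact lift_fw f l hl

end

/-! ### the coset enumeration -/

section index
variable {k : ℕ} {R : List (List ℕ)}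

theorem wordMatch_fw (ι : ℕ → ℕ) (l : List ℕ) (hl : ∀ c ∈ l, c < k) (n w : ℕ)
    (hu : unpack n w = l.reverse) : WordMatchI ι (fun z : Fin k => z.val) (fw k l) n w := by
  intro K _ γ _
  rw [hu]
  clear hu
  induction l with
  | nil => simp [fw_nil, rprod]
  | cons c l ih =>
    rw [fw_cons, map_mul, ih (fun c hc => hl c (List.mem_cons_of_mem _ hc)),
      fl_lt k (hl c List.mem_cons_self), FreeGroup.lift_apply_of, List.reverse_cons, rprod_append]
    simp [rprod]

/-- **Certified coset enumeration in a list-presented group on involutions.** -/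
theorem lp_index (hinv : Invol k R) (subs : List (List ℕ)) (E : Dat2) {N RS : ℕ}
    {T : ℕ → ℕ → ℕ} (ι : ℕ → ℕ) (hι : ∀ x, ι x = x) (hk : E.D.k = k)
    (hnrel : E.D.nrel = R.length) (hnw : E.D.nw = R.length + subs.length)
    (hlt : ∀ l ∈ R ++ subs, ∀ c ∈ l, c < k)
    (hwords : ∀ i (hi : i < (R ++ subs).length),
      unpack (E.D.wlen i) (E.D.wordP i) = ((R ++ subs)[i]).reverse)
    (hrev : revOKI ι E.D E.D.nw = true)
    (hE : ∀ v, v < E.M → ∀ x, x < E.D.k → edgeOKI ι E x v = true)
    (hAl : ∀ v, v < E.M → aliasOK E v = true)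
    (hset : setOK E.M N RS = true)
    (hrows : ∀ v, v < E.M → tb RS v = true → rowOK2 E RS v E.D.k = true)
    (hN : 0 < N)
    (hT : ∀ x, x < E.D.k → ∀ v, v < N → T x v < N ∧ T (ι x) (T x v) = v)
    (hltr : ∀ j, j < E.D.nw → lettersOK E.D.k (E.D.wlen j) (E.D.wordP j) = true)
    (hrelT : ∀ wi, wi < E.D.nrel → ∀ v, v < N →
      walkT T (E.D.wlen wi) (E.D.wordP wi) v = v)
    (hsubT : ∀ wi, wi < E.D.nw → E.D.nrel ≤ wi →
      walkT T (E.D.wlen wi) (E.D.wordP wi) 0 = 0)
    (hconn : ∀ v, v < N → v ≠ 0 → ∃ x, x < E.D.k ∧ T x v < v) :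
    (Subgroup.closure {x : LPG k R | ∃ s ∈ subs, x = ev k R s}).index = N := by
  have hk16 : ∀ x, x < 16 → ι x < 16 := fun x hx => by rw [hι]; exact hx
  have hRlt : ∀ l ∈ R, ∀ c ∈ l, c < k := fun l hl => hlt l (List.mem_append_left _ hl)
  have hSlt : ∀ l ∈ subs, ∀ c ∈ l, c < k := fun l hl => hlt l (List.mem_append_right _ hl)
  have key := presented_indexI (rels k R) (subs.map (fw k)) ι (fl k) (fun z : Fin k => z.val) E
    (T := T) (N := N) (RS := RS)
    (fun x => by rw [hι, hι]) (fun x hx => by rw [hι]; exact hx) hk16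
    (fun z => by rw [hk]; exact z.isLt)
    (fun z => fl_lt k z.isLt)
    (fun x => by
      rw [hι]
      have := ev_sq hinv (R := R) x
      unfold ev at this
      rwa [fw_cons, fw_nil, mul_one] at this)
    (fun x hx K _ γ _ => by
      rw [hk] at hx
      rw [fl_lt k hx, FreeGroup.lift_apply_of])
    (by rw [hnw, hnrel, List.length_map])
    (fun wi hwi => by
      left
      rw [hnrel] at hwi
      have hi : wi < (R ++ subs).length := by rw [List.length_append]; omega
      have hw := hwords wi hi
      rw [List.getElem_append_left hwi] at hw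
      exact ⟨fw k R[wi], ⟨R[wi], List.getElem_mem hwi, rfl⟩,
        wordMatch_fw ι _ (hRlt _ (List.getElem_mem hwi)) _ _ hw⟩)
    (fun r hr => by
      obtain ⟨l, hl, rfl⟩ := hr
      obtain ⟨i, hi, rfl⟩ := List.getElem_of_mem hl
      have hi' : i < (R ++ subs).length := by rw [List.length_append]; omega
      have hw := hwords i hi'
      rw [List.getElem_append_left hi] at hw
      exact ⟨i, by rw [hnrel]; exact hi,
        wordMatch_fw ι _ (hRlt _ (List.getElem_mem hi)) _ _ hw⟩)
    (fun i hi => by
      rw [List.length_map] at hi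
      have hi' : R.length + i < (R ++ subs).length := by rw [List.length_append]; omega
      have hw := hwords (R.length + i) hi'
      rw [List.getElem_append_right (by omega)] at hw
      simp only [Nat.add_sub_cancel_left] at hw
      rw [List.getElem_map, hnrel]
      exact wordMatch_fw ι _ (hSlt _ (List.getElem_mem hi)) _ _ hw)
    hrev hE hAl hset hrows hN hT hltr hrelT hsubT hconn
  have hset' : {x : LPG k R | ∃ s ∈ subs, x = ev k R s}
      = (PresentedGroup.mk (rels k R)) '' {s | s ∈ subs.map (fw k)} := by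
    ext x
    constructor
    · rintro ⟨s, hs, rfl⟩
      exact ⟨fw k s, List.mem_map.mpr ⟨s, hs, rfl⟩, rfl⟩
    · rintro ⟨y, hy, rfl⟩
      obtain ⟨s, hs, rfl⟩ := List.mem_map.mp hy
      exact ⟨s, hs, rfl⟩
  rw [hset', ← MonoidHom.map_closure]
  exact key

end index

/-! ### the permutation representation on the cosets -/

/-- the action of a word (in group order) on a point of the table. -/
def actL (T : ℕ → ℕ → ℕ) : List ℕ → ℕ → ℕ
  | [], v => v
  | c :: l, v => T c (actL T l v)

theorem actL_append (T : ℕ → ℕ → ℕ) : ∀ (l l' : List ℕ) (v : ℕ),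
    actL T (l ++ l') v = actL T l (actL T l' v)
  | [], _, _ => rfl
  | c :: l, l', v => by rw [List.cons_append, actL, actL_append T l l' v, actL]

theorem walkT_eq_actL (T : ℕ → ℕ → ℕ) : ∀ (n w v : ℕ),
    walkT T n w v = actL T (unpack n w).reverse v
  | 0, _, _ => rfl
  | n + 1, w, v => by
    rw [walkT, walkT_eq_actL T n, unpack, List.reverse_cons, actL_append]
    rfl

section table
variable {k : ℕ} {R : List (List ℕ)} {N : ℕ} {T : ℕ → ℕ → ℕ}

/-- the table conditions. -/
def TableOK (k N : ℕ) (T : ℕ → ℕ → ℕ) : Prop := ∀ x, x < k → ∀ v, v < N → T x v < N ∧ T x (T x v) = v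

theorem actL_lt (hT : TableOK k N T) : ∀ (l : List ℕ), (∀ c ∈ l, c < k) → ∀ v, v < N →
    actL T l v < N
  | [], _, v, hv => hv
  | c :: l, hl, v, hv =>
    (hT c (hl c List.mem_cons_self) _
      (actL_lt hT l (fun c hc => hl c (List.mem_cons_of_mem _ hc)) v hv)).1

/-- the permutation of `Fin N` given by a letter. -/
noncomputable def tperm (T : ℕ → ℕ → ℕ) (N : ℕ) (x : ℕ) : Equiv.Perm (Fin N) :=
  tblPermI T (fun x => x) N x

theorem tperm_apply (hT : TableOK k N T) {x : ℕ} (hx : x < k) (v : Fin N) :
    (tperm T N x v).val = T x v.val :=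
  tblPermI_apply (ι := fun x => x) ⟨hT x hx, hT x hx⟩ v

theorem prod_tperm_apply (hT : TableOK k N T) : ∀ (l : List ℕ), (∀ c ∈ l, c < k) → ∀ v : Fin N,
    ((l.map (tperm T N)).prod v).val = actL T l v.val
  | [], _, _ => rfl
  | c :: l, hl, v => by
    rw [List.map_cons, List.prod_cons, Equiv.Perm.mul_apply,
      tperm_apply hT (hl c List.mem_cons_self),
      prod_tperm_apply hT l (fun c hc => hl c (List.mem_cons_of_mem _ hc)) v]
    rfl

/-- the relators act trivially on the table. -/
def RelsFix (R : List (List ℕ)) (N : ℕ) (T : ℕ → ℕ → ℕ) : Prop :=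
  ∀ l ∈ R, ∀ v, v < N → actL T l v = v

/-- the permutation representation given by a coset table. -/
noncomputable def tableHom (hlt : LettersLt k R) (hT : TableOK k N T) (hR : RelsFix R N T) :
    LPG k R →* Equiv.Perm (Fin N) :=
  lift (tperm T N) hlt (by
    intro l hl
    ext v
    rw [prod_tperm_apply hT l (hlt l hl), hR l hl v.val v.isLt]
    rfl)

theorem tableHom_ev (hlt : LettersLt k R) (hT : TableOK k N T) (hR : RelsFix R N T)
    (l : List ℕ) (hl : ∀ c ∈ l, c < k) (v : Fin N) :
    (tableHom hlt hT hR (ev k R l) v).val = actL T l v.val := by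
  unfold tableHom
  rw [lift_ev _ _ _ l hl, prod_tperm_apply hT l hl]

end table

end Cfsg.Agent.Helper5.LP
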