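import Mathlib
import Cfsg.Agent.Helper5.LPA

/-!
# Orbit certificates on a coset table, stabiliser chains and a simplicity criterion
-/

set_option autoImplicit false

namespace Cfsg.Agent.Helper5.LP

open Cfsg.Agent.Helper5.TC Cfsg.Agent.Helper5.TCI

/-! ### marking points in a bit mask -/

/-- one step of an orbit certificate: the point `e.1` is already marked, its image under the
generator number `e.2` is new and gets marked. -/
def orbStep (T : ℕ → ℕ → ℕ) (gens : List (List ℕ)) (st : ℕ × Bool) (e : ℕ × ℕ) : ℕ × Bool :=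
  (st.1 ||| (1 <<< actL T (gens.getD e.2 []) e.1),
    st.2 && st.1.testBit e.1 && !(st.1.testBit (actL T (gens.getD e.2 []) e.1)) &&
      Nat.blt e.2 gens.length)

/-- mark a new root `b` and run the steps of a tree. -/
def treeRun (T : ℕ → ℕ → ℕ) (gens : List (List ℕ)) (st : ℕ × Bool) (b : ℕ)
    (tree : List (ℕ × ℕ)) : ℕ × Bool :=
  tree.foldl (orbStep T gens) (st.1 ||| (1 <<< b), st.2 && !(st.1.testBit b))

/-- run a forest. -/
def forestRun (T : ℕ → ℕ → ℕ) (gens : List (List ℕ)) (st : ℕ × Bool) :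
    List (ℕ × List (ℕ × ℕ)) → ℕ × Bool
  | [] => st
  | bt :: f => forestRun T gens (treeRun T gens st bt.1 bt.2) f

/-- the number of points of a forest. -/
def forestCount : List (ℕ × List (ℕ × ℕ)) → ℕ
  | [] => 0
  | bt :: f => (bt.2.length + 1) + forestCount f

/-- the invariant: if the flag is still set, the marked points form a set of `n` points all
satisfying `P`. -/
def MaskInv (P : ℕ → Prop) (st : ℕ × Bool) (n : ℕ) : Prop :=
  st.2 = true → ∃ S : Finset ℕ, S.card = n ∧ (∀ v, st.1.testBit v = true ↔ v ∈ S) ∧ ∀ v ∈ S, P v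

theorem testBit_mark (m q v : ℕ) :
    (m ||| (1 <<< q)).testBit v = (m.testBit v || decide (q = v)) := by
  rw [Nat.testBit_or, Nat.one_shiftLeft, Nat.testBit_two_pow]

theorem maskInv_mark {P : ℕ → Prop} {m : ℕ} {f : Bool} {n q : ℕ} (h : MaskInv P (m, f) n)
    {f' : Bool} (hf : f' = true → f = true ∧ m.testBit q = false ∧ P q) :
    MaskInv P (m ||| (1 <<< q), f') (n + 1) := by
  intro hf'
  obtain ⟨hf1, hq, hPq⟩ := hf hf'
  obtain ⟨S, hS, hbit, hP⟩ := h hf1
  have hqS : q ∉ S := by
    intro hmem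
    have := (hbit q).mpr hmem
    simp only at this
    rw [hq] at this
    exact absurd this (by simp)
  refine ⟨insert q S, by rw [Finset.card_insert_of_notMem hqS, hS], ?_, ?_⟩
  · intro v
    simp only
    rw [testBit_mark, Bool.or_eq_true, decide_eq_true_eq, Finset.mem_insert]
    constructor
    · rintro (h1 | h1)
      · exact Or.inr ((hbit v).mp h1)
      · exact Or.inl h1.symm
    · rintro (h1 | h1)
      · exact Or.inr h1.symm
      · exact Or.inl ((hbit v).mpr h1)
  · intro v hv
    rcases Finset.mem_insert.mp hv with rfl | hv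
    · exact hPq
    · exact hP v hv

section
variable {T : ℕ → ℕ → ℕ} {gens : List (List ℕ)} {P : ℕ → Prop}

theorem orbStep_inv (hstep : ∀ w ∈ gens, ∀ v, P v → P (actL T w v)) {st : ℕ × Bool} {n : ℕ}
    (h : MaskInv P st n) (e : ℕ × ℕ) : MaskInv P (orbStep T gens st e) (n + 1) := by
  obtain ⟨m, f⟩ := st
  unfold orbStep
  apply maskInv_mark h
  intro hf'
  simp only [Bool.and_eq_true, Bool.not_eq_true', Nat.blt_eq] at hf'
  obtain ⟨⟨⟨h1, h2⟩, h3⟩, h4⟩ := hf'
  refine ⟨h1, h3, ?_⟩
  obtain ⟨S, -, hbit, hP⟩ := h h1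
  have hw : gens.getD e.2 [] ∈ gens := by
    rw [List.getD_eq_getElem _ _ h4]
    exact List.getElem_mem h4
  exact hstep _ hw _ (hP _ ((hbit _).mp h2))

theorem foldl_orbStep_inv (hstep : ∀ w ∈ gens, ∀ v, P v → P (actL T w v)) :
    ∀ (tree : List (ℕ × ℕ)) (st : ℕ × Bool) (n : ℕ), MaskInv P st n →
      MaskInv P (tree.foldl (orbStep T gens) st) (n + tree.length)
  | [], _, _, h => h
  | e :: tree, st, n, h => by
    rw [List.foldl_cons, List.length_cons, show n + (tree.length + 1) = (n + 1) + tree.length by ring]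
    exact foldl_orbStep_inv hstep tree _ _ (orbStep_inv hstep h e)

theorem treeRun_inv (hstep : ∀ w ∈ gens, ∀ v, P v → P (actL T w v)) {st : ℕ × Bool} {n : ℕ}
    (h : MaskInv P st n) {b : ℕ} (hb : P b) (tree : List (ℕ × ℕ)) :
    MaskInv P (treeRun T gens st b tree) (n + (tree.length + 1)) := by
  obtain ⟨m, f⟩ := st
  unfold treeRun
  rw [show n + (tree.length + 1) = (n + 1) + tree.length by ring]
  apply foldl_orbStep_inv hstep
  apply maskInv_mark h
  intro hf'
  simp only [Bool.and_eq_true, Bool.not_eq_true'] at hf'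
  exact ⟨hf'.1, hf'.2, hb⟩

theorem forestRun_inv (hstep : ∀ w ∈ gens, ∀ v, P v → P (actL T w v)) :
    ∀ (forest : List (ℕ × List (ℕ × ℕ))) (st : ℕ × Bool) (n : ℕ), MaskInv P st n →
      (∀ bt ∈ forest, P bt.1) → MaskInv P (forestRun T gens st forest) (n + forestCount forest)
  | [], _, _, h, _ => h
  | bt :: f, st, n, h, hb => by
    rw [forestRun, forestCount, ← add_assoc]
    exact forestRun_inv hstep f _ _
      (treeRun_inv hstep h (hb bt List.mem_cons_self) bt.2)
      (fun bt' hbt' => hb bt' (List.mem_cons_of_mem _ hbt'))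

theorem maskInv_zero (P : ℕ → Prop) : MaskInv P (0, true) 0 := by
  intro _
  exact ⟨∅, rfl, by simp, by simp⟩

end

/-! ### reachability -/

/-- `v` is the image of `b` under an element of `Q`. -/
def ReachN {N : ℕ} (Q : Subgroup (Equiv.Perm (Fin N))) (b v : ℕ) : Prop :=
  ∃ (hb : b < N) (hv : v < N) (σ : Equiv.Perm (Fin N)), σ ∈ Q ∧ σ ⟨b, hb⟩ = ⟨v, hv⟩

theorem reachN_self {N : ℕ} (Q : Subgroup (Equiv.Perm (Fin N))) {b : ℕ} (hb : b < N) :
    ReachN Q b b := ⟨hb, hb, 1, one_mem _, rfl⟩

/-- a finite set of reachable points gives a lower bound for the orbit. -/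
theorem card_le_orbit {N : ℕ} (Q : Subgroup (Equiv.Perm (Fin N))) {b : ℕ} (hb : b < N)
    (S : Finset ℕ) (hS : ∀ v ∈ S, ReachN Q b v) :
    S.card ≤ (MulAction.orbit Q (⟨b, hb⟩ : Fin N)).ncard := by
  classical
  let S' : Finset (Fin N) := Finset.univ.filter (fun x => x.val ∈ S)
  have hcard : S'.card = S.card := by
    apply Finset.card_bij (fun x _ => x.val)
    · intro x hx
      exact (Finset.mem_filter.mp hx).2
    · intro x _ y _ hxy
      exact Fin.ext hxy
    · intro v hv
      obtain ⟨_, hv', _⟩ := hS v hv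
      exact ⟨⟨v, hv'⟩, Finset.mem_filter.mpr ⟨Finset.mem_univ _, hv⟩, rfl⟩
  have hsub : (S' : Set (Fin N)) ⊆ MulAction.orbit Q (⟨b, hb⟩ : Fin N) := by
    intro x hx
    have hx' : x.val ∈ S := (Finset.mem_filter.mp (Finset.mem_coe.mp hx)).2
    obtain ⟨_, hv, σ, hσ, hσb⟩ := hS x.val hx'
    refine ⟨⟨σ, hσ⟩, ?_⟩
    show σ ⟨b, hb⟩ = x
    rw [hσb]
  have := Set.ncard_le_ncard hsub (Set.toFinite _)
  rwa [Set.ncard_coe_finset, hcard] at this

/-- orbit-stabilizer for a subgroup `K` of a group acting on a type. -/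
theorem card_eq_orbit_mul' {G X : Type*} [Group G] [MulAction G X] (K : Subgroup G) (b : X) :
    Nat.card K = (MulAction.orbit K b).ncard *
      Nat.card (K ⊓ MulAction.stabilizer G b : Subgroup G) := by
  have h1 := Subgroup.card_mul_index (MulAction.stabilizer K b)
  rw [MulAction.index_stabilizer] at h1
  have h2 : MulAction.stabilizer K b = (K ⊓ MulAction.stabilizer G b).subgroupOf K := by
    ext g
    simp only [MulAction.mem_stabilizer_iff, Subgroup.mem_subgroupOf, Subgroup.mem_inf]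
    constructor
    · intro h
      exact ⟨g.2, h⟩
    · intro h
      exact h.2
  have h3 : Nat.card ((K ⊓ MulAction.stabilizer G b).subgroupOf K)
      = Nat.card (K ⊓ MulAction.stabilizer G b : Subgroup G) :=
    Nat.card_congr (Subgroup.subgroupOfEquivOfLe inf_le_left).toEquiv
  rw [h2, h3] at h1
  rw [← h1, mul_comm]

end Cfsg.Agent.Helper5.LP
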