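import Mathlib
import Cfsg.Agent.Helper5.LPB

/-!
# Stabiliser chains: a lower bound for the order of a group acting on a coset table
-/

set_option autoImplicit false

namespace Cfsg.Agent.Helper5.LP

open Cfsg.Agent.Helper5.TC Cfsg.Agent.Helper5.TCI

/-- the pointwise stabiliser of a list of points. -/
def fixSub (N : ℕ) (l : List ℕ) : Subgroup (Equiv.Perm (Fin N)) where
  carrier := {σ | ∀ b ∈ l, ∀ hb : b < N, σ ⟨b, hb⟩ = ⟨b, hb⟩}
  mul_mem' := by
    intro σ τ hσ hτ b hb hbN
    rw [Equiv.Perm.mul_apply, hτ b hb hbN, hσ b hb hbN]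
  one_mem' := by
    intro b _ hbN
    rfl
  inv_mem' := by
    intro σ hσ b hb hbN
    rw [Equiv.Perm.inv_eq_iff_eq, hσ b hb hbN]

theorem mem_fixSub {N : ℕ} {l : List ℕ} {σ : Equiv.Perm (Fin N)} :
    σ ∈ fixSub N l ↔ ∀ b ∈ l, ∀ hb : b < N, σ ⟨b, hb⟩ = ⟨b, hb⟩ := Iff.rfl

theorem fixSub_cons {N : ℕ} (K : Subgroup (Equiv.Perm (Fin N))) {b : ℕ} (hb : b < N)
    (l : List ℕ) :
    K ⊓ fixSub N l ⊓ MulAction.stabilizer (Equiv.Perm (Fin N)) (⟨b, hb⟩ : Fin N)
      = K ⊓ fixSub N (b :: l) := by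
  ext σ
  simp only [Subgroup.mem_inf, mem_fixSub, MulAction.mem_stabilizer_iff, List.mem_cons]
  constructor
  · rintro ⟨⟨h1, h2⟩, h3⟩
    refine ⟨h1, ?_⟩
    rintro c (rfl | hc) hcN
    · exact h3
    · exact h2 c hc hcN
  · rintro ⟨h1, h2⟩
    exact ⟨⟨h1, fun c hc hcN => h2 c (Or.inr hc) hcN⟩, h2 b (Or.inl rfl) hb⟩

/-- all words of the list fix all points of the list. -/
def fixOK (T : ℕ → ℕ → ℕ) (fixed : List ℕ) (gens : List (List ℕ)) : Bool :=
  gens.all (fun w => fixed.all (fun b => Nat.beq (actL T w b) b))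

/-- all letters are below `k`. -/
def lettersLtB (k : ℕ) (gens : List (List ℕ)) : Bool :=
  gens.all (fun w => w.all (fun c => Nat.blt c k))

theorem lettersLtB_spec {k : ℕ} {gens : List (List ℕ)} (h : lettersLtB k gens = true) :
    ∀ w ∈ gens, ∀ c ∈ w, c < k := by
  intro w hw c hc
  have h1 := List.all_eq_true.mp h w hw
  have h2 := List.all_eq_true.mp h1 c hc
  rwa [Nat.blt_eq] at h2

theorem fixOK_spec {T : ℕ → ℕ → ℕ} {fixed : List ℕ} {gens : List (List ℕ)}
    (h : fixOK T fixed gens = true) : ∀ w ∈ gens, ∀ b ∈ fixed, actL T w b = b := by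
  intro w hw b hb
  have h1 := List.all_eq_true.mp h w hw
  have h2 := List.all_eq_true.mp h1 b hb
  exact Nat.eq_of_beq_eq_true h2

/-- a level of a stabiliser chain: base point, generators (words), orbit tree. -/
abbrev Level : Type := ℕ × List (List ℕ) × List (ℕ × ℕ)

/-- the check of a stabiliser chain. -/
def chainOK (T : ℕ → ℕ → ℕ) (k N : ℕ) : List ℕ → List Level → Bool
  | _, [] => true
  | fixed, lv :: rest =>
    Nat.blt lv.1 N && lettersLtB k lv.2.1 && fixOK T fixed lv.2.1 &&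
      (treeRun T lv.2.1 (0, true) lv.1 lv.2.2).2 && chainOK T k N (lv.1 :: fixed) rest

/-- the product of the orbit lengths. -/
def chainProd : List Level → ℕ
  | [] => 1
  | lv :: rest => (lv.2.2.length + 1) * chainProd rest

section
variable {G : Type*} [Group G] {k N : ℕ} {T : ℕ → ℕ → ℕ}

/-- the data of a group acting on a table through words. -/
structure ActsOn (ρ : G →* Equiv.Perm (Fin N)) (e : List ℕ → G) (k : ℕ) (T : ℕ → ℕ → ℕ) : Prop where
  /-- the action of a word is given by the table -/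
  act : ∀ l : List ℕ, (∀ c ∈ l, c < k) → ∀ v : Fin N, (ρ (e l) v).val = actL T l v.val

/-- the elements of `Q` spelled by the words of `gens` move reachable points to reachable
points. -/
theorem reach_step {ρ : G →* Equiv.Perm (Fin N)} {e : List ℕ → G} (hA : ActsOn ρ e k T)
    (Q : Subgroup (Equiv.Perm (Fin N))) {gens : List (List ℕ)}
    (hlt : ∀ w ∈ gens, ∀ c ∈ w, c < k) (hQ : ∀ w ∈ gens, ρ (e w) ∈ Q) (b : ℕ) :
    ∀ w ∈ gens, ∀ v, ReachN Q b v → ReachN Q b (actL T w v) := by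
  rintro w hw v ⟨hb, hv, σ, hσ, hσb⟩
  have h1 := hA.act w (hlt w hw) ⟨v, hv⟩
  refine ⟨hb, ?_, ρ (e w) * σ, mul_mem (hQ w hw) hσ, ?_⟩
  · rw [← h1]; exact (ρ (e w) ⟨v, hv⟩).isLt
  · rw [Equiv.Perm.mul_apply, hσb]
    exact Fin.ext h1

theorem chain_lower {ρ : G →* Equiv.Perm (Fin N)} {e : List ℕ → G} (hA : ActsOn ρ e k T) :
    ∀ (levels : List Level) (fixed : List ℕ), chainOK T k N fixed levels = true →
      chainProd levels ≤ Nat.card (ρ.range ⊓ fixSub N fixed : Subgroup (Equiv.Perm (Fin N))) := by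
  intro levels
  induction levels with
  | nil =>
    intro fixed _
    exact Nat.card_pos
  | cons lv rest ih =>
    intro fixed h
    obtain ⟨b, gens, tree⟩ := lv
    simp only [chainOK, Bool.and_eq_true, Nat.blt_eq] at h
    obtain ⟨⟨⟨⟨hb, hlt⟩, hfix⟩, htree⟩, hrest⟩ := h
    have hlt' := lettersLtB_spec hlt
    have hfix' := fixOK_spec hfix
    set Q : Subgroup (Equiv.Perm (Fin N)) := ρ.range ⊓ fixSub N fixed with hQdef
    have hQ : ∀ w ∈ gens, ρ (e w) ∈ Q := by
      intro w hw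
      refine ⟨⟨e w, rfl⟩, ?_⟩
      intro c hc hcN
      apply Fin.ext
      rw [hA.act w (hlt' w hw)]
      exact hfix' w hw c hc
    have hinv := treeRun_inv (P := ReachN Q b) (T := T) (gens := gens)
      (reach_step hA Q hlt' hQ b) (maskInv_zero _) (reachN_self Q hb) tree
    obtain ⟨S, hS, -, hP⟩ := hinv htree
    have horb := card_le_orbit Q hb S hP
    have h1 := ih (b :: fixed) hrest
    rw [← fixSub_cons ρ.range hb fixed] at h1
    rw [card_eq_orbit_mul' Q (⟨b, hb⟩ : Fin N)]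
    unfold chainProd
    apply Nat.mul_le_mul _ h1
    rw [hS, zero_add] at horb
    exact horb

/-- the lower bound for the order of the group. -/
theorem card_ge_of_chain [Finite G] {ρ : G →* Equiv.Perm (Fin N)} {e : List ℕ → G}
    (hA : ActsOn ρ e k T) (levels : List Level) (h : chainOK T k N [] levels = true) :
    chainProd levels ≤ Nat.card G := by
  have h1 := chain_lower hA levels [] h
  have h2 : Nat.card (ρ.range ⊓ fixSub N [] : Subgroup (Equiv.Perm (Fin N))) ≤ Nat.card ρ.range :=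
    Subgroup.card_le_of_le inf_le_left
  have h3 : Nat.card ρ.range ≤ Nat.card G := Nat.card_le_card_of_surjective _ ρ.rangeRestrict_surjective
  omega

end

end Cfsg.Agent.Helper5.LP
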