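import Mathlib
import Cfsg.Agent.Helper5.LPC

/-!
# Normal subgroups of a group acting primitively on a coset table, and a simplicity criterion
-/

set_option autoImplicit false

namespace Cfsg.Agent.Helper5.LP

open Cfsg.Agent.Helper5.TC Cfsg.Agent.Helper5.TCI

/-- primitivity data: for each non-trivial orbit of the point stabiliser a representative `v`,
a word `t` mapping `0` to `v`, the orbit tree of `v` under the stabiliser generators and the orbit
tree of `0` under the stabiliser generators together with `t`. -/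
abbrev PrimData : Type := List (ℕ × List ℕ × List (ℕ × ℕ) × List (ℕ × ℕ))

/-- the forest of the orbits of the point stabiliser. -/
def primForest (prim : PrimData) : List (ℕ × List (ℕ × ℕ)) :=
  (0, []) :: prim.map (fun p => (p.1, p.2.2.1))

/-- the check of the primitivity data. -/
def primOK (T : ℕ → ℕ → ℕ) (k N : ℕ) (Hgens : List (List ℕ)) (prim : PrimData) : Bool :=
  Nat.blt 0 N && lettersLtB k Hgens && fixOK T [0] Hgens &&
    lettersLtB k (prim.map (fun p => p.2.1)) &&
    (forestRun T Hgens (0, true) (primForest prim)).2 &&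
    Nat.beq (forestCount (primForest prim)) N &&
    prim.all (fun p => Nat.blt p.1 N && Nat.beq (actL T p.2.1 0) p.1 &&
      (treeRun T (Hgens ++ [p.2.1]) (0, true) 0 p.2.2.2).2 && Nat.beq (p.2.2.2.length + 1) N)

/-- a set of `N` numbers below `N` contains all of them. -/
theorem mem_of_card_eq {N : ℕ} (S : Finset ℕ) (hS : S.card = N) (hlt : ∀ v ∈ S, v < N) :
    ∀ v, v < N → v ∈ S := by
  have hsub : S ⊆ Finset.range N := fun v hv => Finset.mem_range.mpr (hlt v hv)
  have := Finset.eq_of_subset_of_card_le hsub (by rw [Finset.card_range, hS])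
  intro v hv
  rw [this]
  exact Finset.mem_range.mpr hv

section
variable {G : Type*} [Group G] {k N : ℕ} {T : ℕ → ℕ → ℕ}

/-- **Non-trivial normal subgroups are transitive.** -/
theorem normal_transitive {ρ : G →* Equiv.Perm (Fin N)} {e : List ℕ → G} (hA : ActsOn ρ e k T)
    (hinj : Function.Injective ρ) {Hgens : List (List ℕ)} {prim : PrimData}
    (h : primOK T k N Hgens prim = true) (K : Subgroup G) [hK : K.Normal] (hK1 : K ≠ ⊥) :
    ∃ h0 : 0 < N, ∀ v : Fin N, ∃ g ∈ K, ρ g ⟨0, h0⟩ = v := by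
  simp only [primOK, Bool.and_eq_true, Nat.blt_eq] at h
  obtain ⟨⟨⟨⟨⟨⟨h0, hHlt⟩, hHfix⟩, htlt⟩, hforest⟩, hcount⟩, hprim⟩ := h
  have hHlt' := lettersLtB_spec hHlt
  have hHfix' := fixOK_spec hHfix
  have htlt' := lettersLtB_spec htlt
  have hcount' := Nat.eq_of_beq_eq_true hcount
  refine ⟨h0, ?_⟩
  set z : Fin N := ⟨0, h0⟩ with hz
  -- the orbit of `0` under `K`
  set B : Set (Fin N) := {v | ∃ g ∈ K, ρ g z = v} with hB
  have hzB : z ∈ B := ⟨1, one_mem _, by rw [map_one]; rfl⟩
  -- invariance under elements normalising `K` which map `0` into `B`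
  have hBinv : ∀ g : G, ρ g z ∈ B → ∀ v ∈ B, ρ g v ∈ B := by
    rintro g ⟨k0, hk0, hk0z⟩ v ⟨k1, hk1, rfl⟩
    refine ⟨g * k1 * g⁻¹ * k0, mul_mem (hK.conj_mem k1 hk1 g) hk0, ?_⟩
    calc ρ (g * k1 * g⁻¹ * k0) z = ρ (g * k1 * g⁻¹) (ρ k0 z) := by rw [map_mul]; rfl
      _ = ρ (g * k1 * g⁻¹) (ρ g z) := by rw [hk0z]
      _ = ρ (g * k1 * g⁻¹ * g) z := by rw [map_mul ρ (g * k1 * g⁻¹) g]; rfl
      _ = ρ (g * k1) z := by rw [inv_mul_cancel_right]
      _ = ρ g (ρ k1 z) := by rw [map_mul]; rfl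
  -- the stabiliser of `0`
  set Q0 : Subgroup (Equiv.Perm (Fin N)) := ρ.range ⊓ fixSub N [0] with hQ0
  have hQ0B : ∀ σ ∈ Q0, ∀ v ∈ B, σ v ∈ B := by
    rintro σ ⟨⟨g, rfl⟩, hfix⟩ v hv
    apply hBinv g _ v hv
    have : ρ g z = z := hfix 0 (List.mem_singleton.mpr rfl) h0
    rw [this]
    exact hzB
  have hHQ0 : ∀ w ∈ Hgens, ρ (e w) ∈ Q0 := by
    intro w hw
    refine ⟨⟨e w, rfl⟩, ?_⟩
    intro c hc hcN
    apply Fin.ext
    rw [hA.act w (hHlt' w hw)]
    exact hHfix' w hw c hc
  -- every point is reachable from a root by the stabiliser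
  let P : ℕ → Prop := fun v => ∃ b ∈ (primForest prim).map Prod.fst, ReachN Q0 b v
  have hstepP : ∀ w ∈ Hgens, ∀ v, P v → P (actL T w v) := by
    rintro w hw v ⟨b, hb, hr⟩
    exact ⟨b, hb, reach_step hA Q0 hHlt' hHQ0 b w hw v hr⟩
  have hroots : ∀ bt ∈ primForest prim, P bt.1 := by
    intro bt hbt
    refine ⟨bt.1, List.mem_map.mpr ⟨bt, hbt, rfl⟩, reachN_self Q0 ?_⟩
    unfold primForest at hbt
    rcases List.mem_cons.mp hbt with rfl | hbt
    · exact h0
    · obtain ⟨p, hp, rfl⟩ := List.mem_map.mp hbt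
      have := List.all_eq_true.mp hprim p hp
      simp only [Bool.and_eq_true, Nat.blt_eq] at this
      exact this.1.1.1
  have hinvA := forestRun_inv (P := P) hstepP (primForest prim) (0, true) 0 (maskInv_zero _) hroots
  obtain ⟨S, hS, -, hSP⟩ := hinvA hforest
  rw [zero_add, hcount'] at hS
  have hSall := mem_of_card_eq S hS (fun v hv => by
    obtain ⟨b, -, _, hv', _⟩ := hSP v hv
    exact hv')
  -- `K` moves `0`
  have hmove : ∃ v ∈ B, v ≠ z := by
    have : ∃ g ∈ K, g ≠ 1 := by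
      by_contra hcon
      push Not at hcon
      exact hK1 ((Subgroup.eq_bot_iff_forall K).mpr hcon)
    obtain ⟨g, hg, hg1⟩ := this
    have hρg : ρ g ≠ 1 := fun h1 => hg1 (hinj (by rw [h1, map_one]))
    obtain ⟨u, hu⟩ : ∃ u, ρ g u ≠ u := by
      by_contra hcon
      push Not at hcon
      exact hρg (Equiv.Perm.ext hcon)
    -- `u` is reachable from a root, hence from `0` by an element of `G`
    obtain ⟨b, hb, hb', hu', σ, hσ, hσb⟩ := hSP u.val (hSall u.val u.isLt)
    -- transitivity of `G`: some element maps `0` to `u`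
    have htrans : ∃ a : G, ρ a z = u := by
      obtain ⟨a1, ha1⟩ := hσ.1
      unfold primForest at hb
      rw [List.map_cons, List.mem_cons] at hb
      rcases hb with rfl | hb
      · exact ⟨a1, by rw [ha1]; exact hσb⟩
      · rw [List.map_map] at hb
        obtain ⟨p, hp, rfl⟩ := List.mem_map.mp hb
        have hp' := List.all_eq_true.mp hprim p hp
        simp only [Bool.and_eq_true, Nat.blt_eq] at hp'
        have ht0 := Nat.eq_of_beq_eq_true hp'.1.1.2
        have hlt := htlt' p.2.1 (List.mem_map.mpr ⟨p, hp, rfl⟩)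
        refine ⟨a1 * e p.2.1, ?_⟩
        rw [map_mul, Equiv.Perm.mul_apply, ha1]
        have : ρ (e p.2.1) z = ⟨p.1, hb'⟩ := by
          apply Fin.ext
          rw [hA.act _ hlt]
          exact ht0
        rw [this]
        exact hσb
    obtain ⟨a, ha⟩ := htrans
    refine ⟨ρ (a⁻¹ * g * a) z, ⟨a⁻¹ * g * a, ?_, rfl⟩, ?_⟩
    · have := hK.conj_mem g hg a⁻¹
      rwa [inv_inv] at this
    · intro hfix
      apply hu
      rw [← ha]
      have : ρ (a⁻¹ * g * a) z = (ρ a)⁻¹ (ρ g (ρ a z)) := by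
        rw [map_mul, map_mul, map_inv]; rfl
      rw [this, Equiv.Perm.inv_eq_iff_eq] at hfix
      exact hfix
  obtain ⟨v, hvB, hvz⟩ := hmove
  -- a root different from `0` lies in `B`
  obtain ⟨b, hb, hb', _, σ, hσ, hσb⟩ := hSP v.val (hSall v.val v.isLt)
  have hbB : (⟨b, hb'⟩ : Fin N) ∈ B := by
    have h1 := hQ0B σ⁻¹ (inv_mem hσ) v hvB
    have h2 : σ⁻¹ v = ⟨b, hb'⟩ := by
      rw [Equiv.Perm.inv_eq_iff_eq]
      exact hσb.symm
    rwa [h2] at h1
  unfold primForest at hb
  rw [List.map_cons, List.mem_cons] at hb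
  rcases hb with rfl | hb
  · exfalso
    apply hvz
    have hfix : σ z = z := hσ.2 0 (List.mem_singleton.mpr rfl) h0
    have h3 : σ z = v := by
      apply Fin.ext
      exact congrArg Fin.val hσb
    rw [← h3]
    exact hfix
  rw [List.map_map] at hb
  obtain ⟨p, hp, rfl⟩ := List.mem_map.mp hb
  have hp' := List.all_eq_true.mp hprim p hp
  simp only [Bool.and_eq_true, Nat.blt_eq] at hp'
  obtain ⟨⟨⟨-, ht0⟩, htree⟩, hlen⟩ := hp'
  have ht0' := Nat.eq_of_beq_eq_true ht0
  have hlen' := Nat.eq_of_beq_eq_true hlen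
  have hlt := htlt' p.2.1 (List.mem_map.mpr ⟨p, hp, rfl⟩)
  -- `B` is invariant under `t`
  have htz : ρ (e p.2.1) z = ⟨p.1, hb'⟩ := by
    apply Fin.ext
    rw [hA.act _ hlt]
    exact ht0'
  have htB : ∀ v ∈ B, ρ (e p.2.1) v ∈ B := hBinv (e p.2.1) (by rw [htz]; exact hbB)
  -- the orbit of `0` under the stabiliser generators and `t`
  let P' : ℕ → Prop := fun v => ∃ hv : v < N, (⟨v, hv⟩ : Fin N) ∈ B
  have hstepP' : ∀ w ∈ Hgens ++ [p.2.1], ∀ v, P' v → P' (actL T w v) := by
    rintro w hw v ⟨hv, hvB⟩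
    have hwlt : ∀ c ∈ w, c < k := by
      rcases List.mem_append.mp hw with hw | hw
      · exact hHlt' w hw
      · rw [List.mem_singleton.mp hw]; exact hlt
    have hact := hA.act w hwlt ⟨v, hv⟩
    have hmem : ρ (e w) ⟨v, hv⟩ ∈ B := by
      rcases List.mem_append.mp hw with hw | hw
      · exact hQ0B _ (hHQ0 w hw) _ hvB
      · rw [List.mem_singleton.mp hw]; exact htB _ hvB
    refine ⟨by rw [← hact]; exact (ρ (e w) ⟨v, hv⟩).isLt, ?_⟩
    have : (⟨actL T w v, by rw [← hact]; exact (ρ (e w) ⟨v, hv⟩).isLt⟩ : Fin N)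
        = ρ (e w) ⟨v, hv⟩ := Fin.ext hact.symm
    rw [this]
    exact hmem
  have hinvB := treeRun_inv (P := P') hstepP' (maskInv_zero _) (b := 0) ⟨h0, hzB⟩ p.2.2.2
  obtain ⟨S', hS', -, hSP'⟩ := hinvB htree
  rw [zero_add, hlen'] at hS'
  have hS'all := mem_of_card_eq S' hS' (fun v hv => (hSP' v hv).1)
  intro u
  obtain ⟨_, huB⟩ := hSP' u.val (hS'all u.val u.isLt)
  exact huB

/-- the order of a non-trivial normal subgroup is divisible by the number of points. -/
theorem dvd_card_normal [Finite G] {ρ : G →* Equiv.Perm (Fin N)} {e : List ℕ → G}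
    (hA : ActsOn ρ e k T) (hinj : Function.Injective ρ) {Hgens : List (List ℕ)} {prim : PrimData}
    (h : primOK T k N Hgens prim = true) (K : Subgroup G) [hK : K.Normal] (hK1 : K ≠ ⊥) :
    N ∣ Nat.card K := by
  obtain ⟨h0, htr⟩ := normal_transitive hA hinj h K hK1
  let _ : MulAction G (Fin N) := MulAction.compHom (Fin N) ρ
  have h1 := card_eq_orbit_mul' (G := G) (X := Fin N) K (⟨0, h0⟩ : Fin N)
  have h2 : MulAction.orbit K (⟨0, h0⟩ : Fin N) = Set.univ := by
    ext v
    simp only [Set.mem_univ, iff_true]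
    obtain ⟨g, hg, hgv⟩ := htr v
    exact ⟨⟨g, hg⟩, hgv⟩
  rw [h2, Set.ncard_univ, Nat.card_fin] at h1
  exact ⟨_, h1⟩

end

/-! ### the simplicity criterion -/

section
variable {G : Type*} [Group G] [Finite G]

/-- a normal subgroup whose order is divisible by a prime `p` with `p² ∤ |G|` contains every
element of order `p`. -/
theorem mem_of_prime_dvd_card {p : ℕ} [hp : Fact p.Prime] (hp2 : ¬ p ^ 2 ∣ Nat.card G)
    (K : Subgroup G) [hK : K.Normal] (hpK : p ∣ Nat.card K) {x : G} (hx : orderOf x = p) :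
    x ∈ K := by
  obtain ⟨y, hy⟩ := exists_prime_orderOf_dvd_card' p hpK
  have hy' : orderOf (y : G) = p := by rw [Subgroup.orderOf_coe]; exact hy
  have sylow_card : ∀ (P : Sylow p G) (g : G), orderOf g = p → g ∈ (P : Subgroup G) →
      Nat.card (P : Subgroup G) = p := by
    intro P g hg hgP
    obtain ⟨n, hn⟩ := IsPGroup.iff_card.mp P.isPGroup'
    have hdvd : Nat.card (P : Subgroup G) ∣ Nat.card G := Subgroup.card_subgroup_dvd_card _
    have h1 : p ∣ Nat.card (P : Subgroup G) := by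
      have h := orderOf_dvd_natCard (⟨g, hgP⟩ : (P : Subgroup G))
      rwa [Subgroup.orderOf_mk, hg] at h
    rw [hn] at h1 hdvd ⊢
    rcases n with _ | _ | n
    · simp at h1
      exact absurd h1 hp.out.one_lt.ne'
    · simp
    · exfalso
      apply hp2
      exact dvd_trans (pow_dvd_pow p (by omega)) hdvd
  obtain ⟨P, hP⟩ := (IsPGroup.of_card (p := p) (n := 1)
    (by rw [Nat.card_zpowers, hx, pow_one] : Nat.card (Subgroup.zpowers x) = p ^ 1)).exists_le_sylow
  obtain ⟨Q, hQ⟩ := (IsPGroup.of_card (p := p) (n := 1)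
    (by rw [Nat.card_zpowers, hy', pow_one] :
      Nat.card (Subgroup.zpowers (y : G)) = p ^ 1)).exists_le_sylow
  have hxP : x ∈ (P : Subgroup G) := hP (Subgroup.mem_zpowers x)
  have hyQ : (y : G) ∈ (Q : Subgroup G) := hQ (Subgroup.mem_zpowers _)
  have cQ := sylow_card Q y hy' hyQ
  have eQ : Subgroup.zpowers (y : G) = (Q : Subgroup G) := by
    apply Subgroup.eq_of_le_of_card_ge hQ
    rw [cQ, Nat.card_zpowers, hy']
  obtain ⟨c, hc⟩ := MulAction.exists_smul_eq G P Q
  have hmem : c * x * c⁻¹ ∈ (Q : Subgroup G) := by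
    rw [← hc, Sylow.coe_subgroup_smul]
    have := Subgroup.smul_mem_pointwise_smul x (MulAut.conj c) (P : Subgroup G) hxP
    simpa [MulAut.smul_def] using this
  rw [← eQ] at hmem
  have hK' : c * x * c⁻¹ ∈ K := by
    have hle : Subgroup.zpowers (y : G) ≤ K := by
      rw [Subgroup.zpowers_le]; exact y.2
    exact hle hmem
  have := hK.conj_mem _ hK' c⁻¹
  simpa [mul_assoc] using this

/-- **Simplicity criterion.** -/
theorem simple_of_prim {k N : ℕ} {T : ℕ → ℕ → ℕ} {ρ : G →* Equiv.Perm (Fin N)}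
    {e : List ℕ → G} (hA : ActsOn ρ e k T) (hinj : Function.Injective ρ)
    {Hgens : List (List ℕ)} {prim : PrimData} (h : primOK T k N Hgens prim = true)
    (hnt : Nontrivial G) {p : ℕ} (hp : p.Prime) (hpN : p ∣ N) (hp2 : ¬ p ^ 2 ∣ Nat.card G)
    {x : G} (hx : orderOf x = p) (hncl : Subgroup.normalClosure {x} = ⊤) : IsSimpleGroup G := by
  have : Fact p.Prime := ⟨hp⟩
  refine { exists_pair_ne := hnt.exists_pair_ne, eq_bot_or_eq_top_of_normal := ?_ }
  intro K hK
  by_cases hK1 : K = ⊥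
  · exact Or.inl hK1
  · right
    have hdvd := dvd_card_normal hA hinj h K hK1
    have hxK := mem_of_prime_dvd_card hp2 K (dvd_trans hpN hdvd) hx
    rw [eq_top_iff, ← hncl]
    exact Subgroup.normalClosure_le_normal (Set.singleton_subset_iff.mpr hxK)

end

end Cfsg.Agent.Helper5.LP
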