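import Mathlib
import Cfsg.Agent.Helper5.LPD

/-!
# Orders of list-presented groups: upper bounds along a chain of sub-presentations, normal
closures, and the assembly of the simplicity proof
-/

set_option autoImplicit false

namespace Cfsg.Agent.Helper5.LP

open Cfsg.Agent.Helper5.TC Cfsg.Agent.Helper5.TCI

/-- the one-letter words `[0], …, [m - 1]`. -/
def letterWords (m : ℕ) : List (List ℕ) := (List.range m).map (fun c => [c])

theorem mem_letterWords {m : ℕ} {s : List ℕ} : s ∈ letterWords m ↔ ∃ c, c < m ∧ s = [c] := by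
  unfold letterWords
  rw [List.mem_map]
  constructor
  · rintro ⟨c, hc, rfl⟩
    exact ⟨c, List.mem_range.mp hc, rfl⟩
  · rintro ⟨c, hc, rfl⟩
    exact ⟨c, List.mem_range.mpr hc, rfl⟩

section
variable {k : ℕ} {R : List (List ℕ)}

/-- the parabolic subgroup generated by the first `m` generators. -/
def para (k : ℕ) (R : List (List ℕ)) (m : ℕ) : Subgroup (LPG k R) :=
  Subgroup.closure {x : LPG k R | ∃ s ∈ letterWords m, x = ev k R s}

/-- the homomorphism from a sub-presentation. -/
noncomputable def subHom (k : ℕ) (R : List (List ℕ)) {k' : ℕ} {R' : List (List ℕ)}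
    (hlt : LettersLt k' R') (hsub : ∀ l ∈ R', l ∈ R) : LPG k' R' →* LPG k R :=
  lift (fun c => ev k R [c]) hlt (by
    intro l hl
    have : ∀ l : List ℕ, (l.map (fun c => ev k R [c])).prod = ev k R l := by
      intro l
      induction l with
      | nil => simp [ev_nil]
      | cons c l ih => rw [List.map_cons, List.prod_cons, ih, ← ev_cons]
    rw [this]
    exact ev_rel (hsub l hl))

theorem subHom_ev {k' : ℕ} {R' : List (List ℕ)} (hlt : LettersLt k' R')
    (hsub : ∀ l ∈ R', l ∈ R) (l : List ℕ) (hl : ∀ c ∈ l, c < k') :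
    subHom k R hlt hsub (ev k' R' l) = ev k R l := by
  unfold subHom
  rw [lift_ev _ _ _ l hl]
  induction l with
  | nil => simp [ev_nil]
  | cons c l ih =>
    rw [List.map_cons, List.prod_cons, ih (fun c hc => hl c (List.mem_cons_of_mem _ hc)), ← ev_cons]

theorem range_subHom {k' : ℕ} {R' : List (List ℕ)} (hlt : LettersLt k' R')
    (hsub : ∀ l ∈ R', l ∈ R) : (subHom k R hlt hsub).range = para k R k' := by
  rw [MonoidHom.range_eq_map, ← closure_gens (k := k') (R := R'), MonoidHom.map_closure]
  unfold para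
  congr 1
  ext x
  constructor
  · rintro ⟨_, ⟨c, hc, rfl⟩, rfl⟩
    refine ⟨[c], mem_letterWords.mpr ⟨c, hc, rfl⟩, ?_⟩
    rw [subHom_ev hlt hsub [c] (by simpa using hc)]
  · rintro ⟨s, hs, rfl⟩
    obtain ⟨c, hc, rfl⟩ := mem_letterWords.mp hs
    refine ⟨ev k' R' [c], ⟨c, hc, rfl⟩, ?_⟩
    rw [subHom_ev hlt hsub [c] (by simpa using hc)]

/-- **One step of the upper bound**: the index of a parabolic subgroup and a finite
sub-presentation. -/
theorem card_le_step {k' : ℕ} {R' : List (List ℕ)} (hlt : LettersLt k' R')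
    (hsub : ∀ l ∈ R', l ∈ R) {N B : ℕ} (hN : 0 < N) (hidx : (para k R k').index = N)
    (hfin : Finite (LPG k' R')) (hB : Nat.card (LPG k' R') ≤ B) :
    Finite (LPG k R) ∧ Nat.card (LPG k R) ≤ N * B := by
  have hfinH : Finite (para k R k') := by
    rw [← range_subHom hlt hsub]
    exact Finite.of_surjective _ (subHom k R hlt hsub).rangeRestrict_surjective
  have hcardH : Nat.card (para k R k') ≤ B := by
    have h1 : Nat.card (subHom k R hlt hsub).range ≤ Nat.card (LPG k' R') :=
      Nat.card_le_card_of_surjective _ (subHom k R hlt hsub).rangeRestrict_surjective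
    rw [range_subHom hlt hsub] at h1
    exact le_trans h1 hB
  have hmul := Subgroup.card_mul_index (para k R k')
  rw [hidx] at hmul
  have hpos : 0 < Nat.card (para k R k') := Nat.card_pos
  have hne : Nat.card (LPG k R) ≠ 0 := by
    rw [← hmul]
    exact Nat.mul_ne_zero hpos.ne' hN.ne'
  refine ⟨Nat.finite_of_card_ne_zero hne, ?_⟩
  rw [← hmul, mul_comm]
  exact Nat.mul_le_mul_left N hcardH

/-- **The base of the upper bound**: the index of the subgroup generated by one involution. -/
theorem card_le_base (hinv : Invol k R) {N : ℕ} (hN : 0 < N) (hidx : (para k R 1).index = N) :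
    Finite (LPG k R) ∧ Nat.card (LPG k R) ≤ N * 2 := by
  have hpara : para k R 1 = Subgroup.zpowers (ev k R [0]) := by
    unfold para
    rw [Subgroup.zpowers_eq_closure]
    congr 1
    ext x
    constructor
    · rintro ⟨s, hs, rfl⟩
      obtain ⟨c, hc, rfl⟩ := mem_letterWords.mp hs
      have : c = 0 := by omega
      rw [this]
      exact Set.mem_singleton _
    · intro hx
      rw [Set.mem_singleton_iff] at hx
      exact ⟨[0], mem_letterWords.mpr ⟨0, by norm_num, rfl⟩, hx⟩
  have hord : orderOf (ev k R [0]) ∣ 2 := by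
    apply orderOf_dvd_of_pow_eq_one
    rw [pow_two]
    exact ev_sq hinv 0
  have hpos : 0 < orderOf (ev k R [0]) := Nat.pos_of_dvd_of_pos hord (by norm_num)
  have hle : orderOf (ev k R [0]) ≤ 2 := Nat.le_of_dvd (by norm_num) hord
  have hmul := Subgroup.card_mul_index (para k R 1)
  rw [hidx, hpara, Nat.card_zpowers] at hmul
  have hne : Nat.card (LPG k R) ≠ 0 := by
    rw [← hmul]
    exact Nat.mul_ne_zero hpos.ne' hN.ne'
  refine ⟨Nat.finite_of_card_ne_zero hne, ?_⟩
  rw [← hmul, mul_comm]
  exact Nat.mul_le_mul_left N hle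

/-- a trivial presented group from a coset enumeration over the trivial subgroup. -/
theorem card_eq_one_of_index (hidx : (para k R 0).index = 1) : Nat.card (LPG k R) = 1 := by
  have hpara : para k R 0 = ⊥ := by
    unfold para
    rw [Subgroup.closure_eq_bot_iff]
    rintro x ⟨s, hs, rfl⟩
    obtain ⟨c, hc, rfl⟩ := mem_letterWords.mp hs
    omega
  rw [hpara, Subgroup.index_bot] at hidx
  exact hidx

/-- **Normal closures**: if adding the relator `l` kills the group, then the normal closure of
`l` is everything. -/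
theorem normalClosure_eq_top (hlt : LettersLt k R) (l : List ℕ) (hl : ∀ c ∈ l, c < k)
    (hone : Nat.card (LPG k (R ++ [l])) = 1) :
    Subgroup.normalClosure {ev k R l} = (⊤ : Subgroup (LPG k R)) := by
  set Nc := Subgroup.normalClosure ({ev k R l} : Set (LPG k R)) with hNc
  have hlt' : LettersLt k (R ++ [l]) := by
    intro r hr
    rcases List.mem_append.mp hr with hr | hr
    · exact hlt r hr
    · rw [List.mem_singleton.mp hr]; exact hl
  have hprod : ∀ r : List ℕ, (r.map (fun c => (QuotientGroup.mk (ev k R [c]) : LPG k R ⧸ Nc))).prod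
      = QuotientGroup.mk (ev k R r) := by
    intro r
    induction r with
    | nil => simp [ev_nil]
    | cons c r ih =>
      rw [List.map_cons, List.prod_cons, ih, ev_cons c r, QuotientGroup.mk_mul]
  let ψ : LPG k (R ++ [l]) →* LPG k R ⧸ Nc :=
    lift (fun c => (QuotientGroup.mk (ev k R [c]) : LPG k R ⧸ Nc)) hlt' (by
      intro r hr
      rw [hprod]
      rcases List.mem_append.mp hr with hr | hr
      · rw [ev_rel hr]; rfl
      · rw [List.mem_singleton.mp hr]
        exact (QuotientGroup.eq_one_iff _).mpr (Subgroup.subset_normalClosure (Set.mem_singleton _)))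
  have hsurj : Function.Surjective ψ := by
    rw [← MonoidHom.range_eq_top, eq_top_iff]
    have hgen : Subgroup.map (QuotientGroup.mk' Nc) ⊤ = ⊤ :=
      Subgroup.map_top_of_surjective _ (QuotientGroup.mk'_surjective Nc)
    rw [← hgen, ← closure_gens (k := k) (R := R), MonoidHom.map_closure, Subgroup.closure_le]
    rintro _ ⟨_, ⟨c, hc, rfl⟩, rfl⟩
    refine ⟨ev k (R ++ [l]) [c], ?_⟩
    show lift _ hlt' _ (ev k (R ++ [l]) [c]) = _
    rw [lift_ev _ _ _ [c] (by simpa using hc)]
    simp
  have hfin : Finite (LPG k (R ++ [l])) := Nat.finite_of_card_ne_zero (by rw [hone]; norm_num)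
  have hcard : Nat.card (LPG k R ⧸ Nc) ≤ 1 := by
    rw [← hone]
    exact Nat.card_le_card_of_surjective ψ hsurj
  have hfinQ : Finite (LPG k R ⧸ Nc) := Finite.of_surjective ψ hsurj
  have hidx : Nc.index = 1 := by
    have hpos : 0 < Nat.card (LPG k R ⧸ Nc) := Nat.card_pos
    unfold Subgroup.index
    omega
  exact Subgroup.index_eq_one.mp hidx

end

/-! ### checking that a word acts trivially -/

/-- the word fixes the points `lo, …, lo + cnt - 1`. -/
def fixRange (T : ℕ → ℕ → ℕ) (l : List ℕ) : ℕ → ℕ → Bool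
  | 0, _ => true
  | cnt + 1, lo => Nat.beq (actL T l lo) lo && fixRange T l cnt (lo + 1)

theorem fixRange_spec (T : ℕ → ℕ → ℕ) (l : List ℕ) : ∀ (cnt lo : ℕ), fixRange T l cnt lo = true →
    ∀ v, lo ≤ v → v < lo + cnt → actL T l v = v
  | 0, lo, _, v, h1, h2 => by omega
  | cnt + 1, lo, h, v, h1, h2 => by
    rw [fixRange, Bool.and_eq_true] at h
    rcases Nat.eq_or_lt_of_le h1 with rfl | h1
    · exact Nat.eq_of_beq_eq_true h.1
    · exact fixRange_spec T l cnt (lo + 1) h.2 v h1 (by omega)

section
variable {G : Type*} [Group G] {k N : ℕ} {T : ℕ → ℕ → ℕ}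

theorem eq_one_of_fix {ρ : G →* Equiv.Perm (Fin N)} {e : List ℕ → G} (hA : ActsOn ρ e k T)
    (hinj : Function.Injective ρ) (l : List ℕ) (hl : ∀ c ∈ l, c < k)
    (h : fixRange T l N 0 = true) : e l = 1 := by
  apply hinj
  rw [map_one]
  ext v
  rw [hA.act l hl v]
  exact fixRange_spec T l N 0 h v.val (Nat.zero_le _) (by rw [Nat.zero_add]; exact v.isLt)

theorem ne_one_of_move {ρ : G →* Equiv.Perm (Fin N)} {e : List ℕ → G} (hA : ActsOn ρ e k T)
    (l : List ℕ) (hl : ∀ c ∈ l, c < k) (v : ℕ) (hv : v < N) (h : actL T l v ≠ v) : e l ≠ 1 := by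
  intro h1
  apply h
  have := hA.act l hl ⟨v, hv⟩
  rw [h1, map_one] at this
  exact this.symm

/-- injectivity of the representation from the stabiliser chain. -/
theorem injective_of_chain [Finite G] {ρ : G →* Equiv.Perm (Fin N)} {e : List ℕ → G}
    (hA : ActsOn ρ e k T) (levels : List Level) (h : chainOK T k N [] levels = true)
    (hle : Nat.card G ≤ chainProd levels) : Function.Injective ρ := by
  have h1 := chain_lower hA levels [] h
  have h2 : Nat.card (ρ.range ⊓ fixSub N [] : Subgroup (Equiv.Perm (Fin N))) ≤ Nat.card ρ.range :=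
    Subgroup.card_le_of_le inf_le_left
  have h3 : Nat.card G ≤ Nat.card ρ.range := by omega
  have hbij : Function.Bijective ρ.rangeRestrict :=
    (Function.Surjective.bijective_of_nat_card_le ρ.rangeRestrict_surjective h3)
  intro a b hab
  apply hbij.1
  exact Subtype.ext hab

end

end Cfsg.Agent.Helper5.LP
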