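import Mathlib
import Cfsg.Agent.Helper5.LPE

/-!
# Assembly: a list-presented group acting on a coset table is simple of a given order
-/

set_option autoImplicit false

namespace Cfsg.Agent.Helper5.LP

open Cfsg.Agent.Helper5.TC Cfsg.Agent.Helper5.TCI

section
variable {k : ℕ} {R : List (List ℕ)}

theorem ev_pow (l : List ℕ) : ∀ n : ℕ, ev k R l ^ n = ev k R (List.replicate n l).flatten
  | 0 => by simp [ev_nil]
  | n + 1 => by
    rw [pow_succ', ev_pow l n, List.replicate_succ, List.flatten_cons, ev_append]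

/-- the table conditions from the certificate. -/
theorem tableOK_of_cert {E : Dat2} {N : ℕ} {T : ℕ → ℕ → ℕ} (ι : ℕ → ℕ) (hι : ∀ x, ι x = x)
    (hk : E.D.k = k)
    (hT : ∀ x, x < E.D.k → ∀ v, v < N → T x v < N ∧ T (ι x) (T x v) = v) : TableOK k N T := by
  intro x hx v hv
  have := hT x (by rw [hk]; exact hx) v hv
  rwa [hι] at this

/-- the relators act trivially, from the certificate. -/
theorem relsFix_of_cert {E : Dat2} {N : ℕ} {T : ℕ → ℕ → ℕ} (subs : List (List ℕ))
    (hnrel : E.D.nrel = R.length)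
    (hwords : ∀ i (hi : i < (R ++ subs).length),
      unpack (E.D.wlen i) (E.D.wordP i) = ((R ++ subs)[i]).reverse)
    (hrelT : ∀ wi, wi < E.D.nrel → ∀ v, v < N →
      walkT T (E.D.wlen wi) (E.D.wordP wi) v = v) : RelsFix R N T := by
  intro l hl v hv
  obtain ⟨i, hi, rfl⟩ := List.getElem_of_mem hl
  have hi' : i < (R ++ subs).length := by rw [List.length_append]; omega
  have hw := hwords i hi'
  rw [List.getElem_append_left hi] at hw
  have h1 := hrelT i (by rw [hnrel]; exact hi) v hv
  rwa [walkT_eq_actL, hw, List.reverse_reverse] at h1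

/-- **Assembly.** -/
theorem lp_simple (hlt : LettersLt k R) {N : ℕ} {T : ℕ → ℕ → ℕ}
    (hT : TableOK k N T) (hR : RelsFix R N T) (M : ℕ) (hfin : Finite (LPG k R))
    (hub : Nat.card (LPG k R) ≤ M)
    (levels : List Level) (hchain : chainOK T k N [] levels = true)
    (hprod : chainProd levels = M)
    (Hgens : List (List ℕ)) (prim : PrimData) (hprim : primOK T k N Hgens prim = true)
    (p : ℕ) (hp : p.Prime) (hpN : p ∣ N) (hp2 : ¬ p ^ 2 ∣ M)
    (xw : List ℕ) (hxlt : ∀ c ∈ xw, c < k)
    (hxp : fixRange T (List.replicate p xw).flatten N 0 = true)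
    (v0 : ℕ) (hv0 : v0 < N) (hxm : actL T xw v0 ≠ v0)
    (hkill : Nat.card (LPG k (R ++ [xw])) = 1) (hM1 : 1 < M) :
    IsSimpleGroup (LPG k R) ∧ Nat.card (LPG k R) = M := by
  have hA : ActsOn (tableHom hlt hT hR) (ev k R) k T := ⟨fun l hl v => tableHom_ev hlt hT hR l hl v⟩
  have hlow := card_ge_of_chain hA levels hchain
  rw [hprod] at hlow
  have hcard : Nat.card (LPG k R) = M := le_antisymm hub hlow
  refine ⟨?_, hcard⟩
  have hinj := injective_of_chain hA levels hchain (by rw [hprod]; exact hub)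
  have hnt : Nontrivial (LPG k R) := by
    have : 1 < Nat.card (LPG k R) := by rw [hcard]; exact hM1
    exact (Finite.one_lt_card_iff_nontrivial).mp this
  have : Fact p.Prime := ⟨hp⟩
  have hord : orderOf (ev k R xw) = p := by
    apply orderOf_eq_prime
    · rw [ev_pow]
      apply eq_one_of_fix hA hinj _ _ hxp
      intro c hc
      obtain ⟨l, hl, hcl⟩ := List.mem_flatten.mp hc
      rw [List.eq_of_mem_replicate hl] at hcl
      exact hxlt c hcl
    · exact ne_one_of_move hA xw hxlt v0 hv0 hxm
  exact simple_of_prim hA hinj hprim hnt hp hpN (by rw [hcard]; exact hp2) hord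
    (normalClosure_eq_top hlt xw hxlt hkill)

end

end Cfsg.Agent.Helper5.LP
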