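import Mathlib
import Cfsg.Agent.Helper5.LTCD

/-!
# Labelled Todd–Coxeter certificates: relations among the central elements
-/

set_option autoImplicit false

namespace Cfsg.Agent.Helper5.LTC

variable {P : Type*} [Group P]

/-- fact `j` relates a vertex to itself. -/
def relFactOK (C : Cert) (j : ℕ) : Bool :=
  frc (C.fa j) fun f => Nat.blt j C.nf && Nat.beq (fM f) 0 && Nat.beq (fA f) (fB f)

/-- a combination of relation labels. -/
def comb (C : Cert) : List ℕ → List ℕ → L8
  | j :: js, c :: cs => L8.add (L8.smul c (fL (C.fa j))) (comb C js cs)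
  | [], _ => L8.zero
  | _ :: _, [] => L8.zero

/-- `z i = z i0 ^ a` follows from the relations. -/
def genOK (C : Cert) (js cs : List ℕ) (i i0 a : ℕ) : Bool :=
  L8.beq (L8.red C.E (L8.add (L8.unit i) (comb C js cs)))
    (L8.red C.E (L8.smul a (L8.unit i0)))

/-- `z i0 ^ a = 1` follows from the relations. -/
def ordOK (C : Cert) (js cs : List ℕ) (i0 a : ℕ) : Bool :=
  L8.beq (L8.red C.E (L8.add (L8.smul a (L8.unit i0)) (comb C js cs))) L8.zero

variable {C : Cert} {K : Subgroup P} {g z : ℕ → P}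

theorem phi_unit {i : ℕ} (hi : i < 8) : phi z (L8.unit i) = z i := by
  interval_cases i <;> simp [phi, L8.unit, Nat.beq]

theorem relFact_sound (hH : Hyp C K g z) (hall : ∀ j, j < C.nf → Holds C K g z j)
    (hK : ∀ l, phi z l ∈ K → phi z l = 1) {j : ℕ} (h : relFactOK C j = true) :
    phi z (fL (C.fa j)) = 1 := by
  unfold relFactOK at h
  rw [frc_eq, Bool.and_eq_true, Bool.and_eq_true] at h
  obtain ⟨⟨h1, h2⟩, h3⟩ := h
  rw [Nat.blt_eq] at h1
  have hF := hall j h1
  unfold Holds at hF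
  rw [Nat.eq_of_beq_eq_true h2, Nat.eq_of_beq_eq_true h3] at hF
  unfold Rel at hF
  have e1 : wrep C.par C.gen g (fB (C.fa j)) * mval g 0 *
      (wrep C.par C.gen g (fB (C.fa j)) * phi z (fL (C.fa j)))⁻¹ = (phi z (fL (C.fa j)))⁻¹ := by
    rw [phi_comm hH.hz]
    simp [mval]
  rw [e1] at hF
  have h4 := K.inv_mem hF
  rw [inv_inv] at h4
  exact hK _ h4

theorem phi_comb (hH : Hyp C K g z) (hall : ∀ j, j < C.nf → Holds C K g z j)
    (hK : ∀ l, phi z l ∈ K → phi z l = 1) : ∀ (js cs : List ℕ),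
    (∀ j ∈ js, relFactOK C j = true) → phi z (comb C js cs) = 1
  | [], _, _ => by
    unfold comb
    exact phi_zero
  | _ :: _, [], _ => by
    unfold comb
    exact phi_zero
  | j :: js, c :: cs, h => by
    unfold comb
    rw [phi_add hH.hz, phi_smul hH.hz, relFact_sound hH hall hK (h j List.mem_cons_self),
      one_pow, one_mul]
    exact phi_comb hH hall hK js cs (fun j' hj' => h j' (List.mem_cons_of_mem _ hj'))

theorem genOK_sound (hH : Hyp C K g z) (hall : ∀ j, j < C.nf → Holds C K g z j)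
    (hK : ∀ l, phi z l ∈ K → phi z l = 1) {js cs : List ℕ}
    (hjs : ∀ j ∈ js, relFactOK C j = true) {i i0 a : ℕ} (hi : i < 8) (hi0 : i0 < 8)
    (h : genOK C js cs i i0 a = true) : z i = z i0 ^ a := by
  unfold genOK at h
  have h1 := congrArg (phi z) (L8.eq_of_beq h)
  rw [phi_red hH.hE, phi_red hH.hE, phi_add hH.hz, phi_comb hH hall hK js cs hjs, mul_one,
    phi_smul hH.hz, phi_unit hi, phi_unit hi0] at h1
  exact h1

theorem ordOK_sound (hH : Hyp C K g z) (hall : ∀ j, j < C.nf → Holds C K g z j)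
    (hK : ∀ l, phi z l ∈ K → phi z l = 1) {js cs : List ℕ}
    (hjs : ∀ j ∈ js, relFactOK C j = true) {i0 a : ℕ} (hi0 : i0 < 8)
    (h : ordOK C js cs i0 a = true) : z i0 ^ a = 1 := by
  unfold ordOK at h
  have h1 := congrArg (phi z) (L8.eq_of_beq h)
  rw [phi_red hH.hE, phi_add hH.hz, phi_comb hH hall hK js cs hjs, mul_one,
    phi_smul hH.hz, phi_unit hi0, phi_zero] at h1
  exact h1

/-- **the main theorem on labelled certificates**: the order of `P` is at most
`|K| * N * a`. -/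
theorem ltc_main (hH : Hyp C K g z) (hchk : ∀ j, j < C.nf → ∃ r, checkFact C j r = true)
    (T : Tab) (hT0 : T.LV 0 = 0) (h0N : 0 < T.N)
    (hT : ∀ n, n < T.N → ∀ x, x < C.k → tabEntryOK C T n x = true)
    (hgen : ∀ p : P, ∃ l : List ℕ, (∀ c ∈ l, c < C.k) ∧ p = lprod g l)
    [Finite K] (hK : ∀ l, phi z l ∈ K → phi z l = 1) (D : ℕ) (hD : D ≤ 8)
    (hz8 : ∀ i, D ≤ i → z i = 1)
    (js : List ℕ) (hjs : ∀ j ∈ js, relFactOK C j = true)
    (i0 a : ℕ) (hi0 : i0 < 8) (ha : 0 < a) (cs0 : List ℕ) (h0 : ordOK C js cs0 i0 a = true)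
    (as : ℕ → ℕ) (css : ℕ → List ℕ) (hgs : ∀ i, i < D → genOK C js (css i) i i0 (as i) = true) :
    Finite P ∧ Nat.card P ≤ Nat.card K * T.N * a := by
  have hall := all_hold hH hchk
  refine card_le hH hall T hT0 h0N hT hgen (z i0) a ha (ordOK_sound hH hall hK hjs hi0 h0) ?_
  intro i
  by_cases hi : i < D
  · rw [genOK_sound hH hall hK hjs (by omega) hi0 (hgs i hi)]
    exact Subgroup.pow_mem _ (Subgroup.mem_zpowers _) _
  · rw [hz8 i (by omega)]
    exact Subgroup.one_mem _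

end Cfsg.Agent.Helper5.LTC
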