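import Mathlib
import Cfsg.Agent.Helper5.LPF

/-!
# Matching the packed words of an enumeration certificate against lists of letters
-/

set_option autoImplicit false

namespace Cfsg.Agent.Helper5.LP

open Cfsg.Agent.Helper5.TC Cfsg.Agent.Helper5.TCI

/-- equality test of lists of numbers. -/
def listBeq : List ℕ → List ℕ → Bool
  | [], [] => true
  | a :: as, b :: bs => Nat.beq a b && listBeq as bs
  | [], _ :: _ => false
  | _ :: _, [] => false

theorem listBeq_spec : ∀ (l l' : List ℕ), listBeq l l' = true → l = l'
  | [], [], _ => rfl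
  | a :: as, b :: bs, h => by
    rw [listBeq, Bool.and_eq_true] at h
    rw [Nat.eq_of_beq_eq_true h.1, listBeq_spec as bs h.2]
  | [], _ :: _, h => by simp [listBeq] at h
  | _ :: _, [], h => by simp [listBeq] at h

/-- the packed words number `i0, i0 + 1, …` spell the reverses of the words of the list. -/
def wordsMatchB (wlen wordP : ℕ → ℕ) : List (List ℕ) → ℕ → Bool
  | [], _ => true
  | l :: ls, i => listBeq (unpack (wlen i) (wordP i)) l.reverse && wordsMatchB wlen wordP ls (i + 1)

theorem wordsMatchB_spec (wlen wordP : ℕ → ℕ) : ∀ (L : List (List ℕ)) (i0 : ℕ),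
    wordsMatchB wlen wordP L i0 = true → ∀ i (hi : i < L.length),
      unpack (wlen (i0 + i)) (wordP (i0 + i)) = (L[i]).reverse
  | [], _, _, i, hi => by simp at hi
  | l :: ls, i0, h, i, hi => by
    rw [wordsMatchB, Bool.and_eq_true] at h
    cases i with
    | zero => exact listBeq_spec _ _ h.1
    | succ i =>
      have := wordsMatchB_spec wlen wordP ls (i0 + 1) h.2 i (by simpa using hi)
      rw [show i0 + 1 + i = i0 + (i + 1) by omega] at this
      simpa using this

theorem wordsMatchB_spec0 (wlen wordP : ℕ → ℕ) (L : List (List ℕ))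
    (h : wordsMatchB wlen wordP L 0 = true) : ∀ i (hi : i < L.length),
      unpack (wlen i) (wordP i) = (L[i]).reverse := by
  intro i hi
  have := wordsMatchB_spec wlen wordP L 0 h i hi
  rwa [Nat.zero_add] at this

/-- membership of all words of a list in another list, as a Boolean. -/
def subListB (R' R : List (List ℕ)) : Bool := R'.all (fun l => R.any (fun l' => listBeq l l'))

theorem subListB_spec {R' R : List (List ℕ)} (h : subListB R' R = true) : ∀ l ∈ R', l ∈ R := by
  intro l hl
  have h1 := List.all_eq_true.mp h l hl
  obtain ⟨l', hl', h2⟩ := List.any_eq_true.mp h1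
  rw [listBeq_spec l l' h2]
  exact hl'

end Cfsg.Agent.Helper5.LP
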