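import Mathlib
import Cfsg.Agent.Helper5.LPW

/-!
# Orbit trees packed into a single number
-/

set_option autoImplicit false

namespace Cfsg.Agent.Helper5.LP

open Cfsg.Agent.Helper5.TC Cfsg.Agent.Helper5.TCI

/-- the first `n` entries of a packed orbit tree: 32 bits per entry, the point in the low 24 bits
and the number of the generator in the next 8 bits. -/
def unpackTree : ℕ → ℕ → List (ℕ × ℕ)
  | 0, _ => []
  | n + 1, w => forceL (Nat.div w 4294967296) (fun w' =>
      (Nat.mod w 16777216, Nat.mod (Nat.div w 16777216) 256) :: unpackTree n w')

theorem unpackTree_length : ∀ (n w : ℕ), (unpackTree n w).length = n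
  | 0, _ => rfl
  | n + 1, w => by
    rw [unpackTree, forceL_eq, List.length_cons, unpackTree_length n]

end Cfsg.Agent.Helper5.LP
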