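import Mathlib
import Cfsg.Agent.Helper5.LPU

/-!
# Strict evaluation of words on a coset table

The functions here are equal to `actL` and `fixRange`; they force the evaluation of every
intermediate point, which keeps the kernel evaluation linear in the length of the word.
-/

set_option autoImplicit false

namespace Cfsg.Agent.Helper5.LP

open Cfsg.Agent.Helper5.TC Cfsg.Agent.Helper5.TCI

/-- `actL` with forced evaluation of the intermediate points. -/
def actLF (T : ℕ → ℕ → ℕ) : List ℕ → ℕ → ℕ
  | [], v => v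
  | c :: l, v => forceL (actLF T l v) (fun u => T c u)

theorem actLF_eq (T : ℕ → ℕ → ℕ) : ∀ (l : List ℕ) (v : ℕ), actLF T l v = actL T l v
  | [], _ => rfl
  | c :: l, v => by rw [actLF, forceL_eq, actLF_eq T l v, actL]

/-- `fixRange` with forced evaluation. -/
def fixRangeF (T : ℕ → ℕ → ℕ) (l : List ℕ) : ℕ → ℕ → Bool
  | 0, _ => true
  | cnt + 1, lo => forceL (actLF T l lo) (fun u => Nat.beq u lo) &&
      forceL (Nat.add lo 1) (fun lo' => fixRangeF T l cnt lo')

theorem fixRangeF_eq (T : ℕ → ℕ → ℕ) (l : List ℕ) : ∀ (cnt lo : ℕ),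
    fixRangeF T l cnt lo = fixRange T l cnt lo
  | 0, _ => rfl
  | cnt + 1, lo => by
    rw [fixRangeF, forceL_eq, forceL_eq, actLF_eq, fixRangeF_eq T l cnt, fixRange]

theorem fixRange_of_F {T : ℕ → ℕ → ℕ} {l : List ℕ} {cnt lo : ℕ}
    (h : fixRangeF T l cnt lo = true) : fixRange T l cnt lo = true := by
  rwa [fixRangeF_eq] at h

end Cfsg.Agent.Helper5.LP
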