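import Mathlib
import Cfsg.Agent.Helper5.LPV

/-!
# Strict evaluation of the orbit, chain and primitivity checks

The functions here are equal to `treeRun`, `forestRun`, `chainOK` and `primOK`; they force the
evaluation of all intermediate values, which keeps the kernel evaluation fast.
-/

set_option autoImplicit false

namespace Cfsg.Agent.Helper5.LP

open Cfsg.Agent.Helper5.TC Cfsg.Agent.Helper5.TCI

/-- force the evaluation of a Boolean before continuing. -/
def forceB {α : Type} (b : Bool) (f : Bool → α) : α := Bool.rec (f false) (f true) b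

theorem forceB_eq {α : Type} (b : Bool) (f : Bool → α) : forceB b f = f b := by
  cases b <;> rfl

/-- the strict fold of `orbStep`. -/
def orbFoldF (T : ℕ → ℕ → ℕ) (gens : List (List ℕ)) : List (ℕ × ℕ) → ℕ → Bool → ℕ × Bool
  | [], m, f => (m, f)
  | e :: es, m, f =>
    forceL (actLF T (gens.getD e.2 []) e.1) (fun u =>
      forceL (m ||| (1 <<< u)) (fun m' =>
        forceB (f && m.testBit e.1 && !(m.testBit u) && Nat.blt e.2 gens.length) (fun f' =>
          orbFoldF T gens es m' f')))

theorem orbFoldF_eq (T : ℕ → ℕ → ℕ) (gens : List (List ℕ)) : ∀ (tree : List (ℕ × ℕ)) (m : ℕ)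
    (f : Bool), orbFoldF T gens tree m f = tree.foldl (orbStep T gens) (m, f)
  | [], _, _ => rfl
  | e :: es, m, f => by
    rw [orbFoldF, forceL_eq, forceL_eq, forceB_eq, orbFoldF_eq T gens es, List.foldl_cons, actLF_eq]
    rfl

/-- the strict version of `treeRun`. -/
def treeRunF (T : ℕ → ℕ → ℕ) (gens : List (List ℕ)) (m : ℕ) (f : Bool) (b : ℕ)
    (tree : List (ℕ × ℕ)) : ℕ × Bool :=
  forceL (m ||| (1 <<< b)) (fun m' => forceB (f && !(m.testBit b)) (fun f' =>
    orbFoldF T gens tree m' f'))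

theorem treeRunF_eq (T : ℕ → ℕ → ℕ) (gens : List (List ℕ)) (m : ℕ) (f : Bool) (b : ℕ)
    (tree : List (ℕ × ℕ)) : treeRunF T gens m f b tree = treeRun T gens (m, f) b tree := by
  rw [treeRunF, forceL_eq, forceB_eq, orbFoldF_eq]
  rfl

/-- the strict version of `forestRun`. -/
def forestRunF (T : ℕ → ℕ → ℕ) (gens : List (List ℕ)) :
    List (ℕ × List (ℕ × ℕ)) → ℕ → Bool → ℕ × Bool
  | [], m, f => (m, f)
  | bt :: fs, m, f =>
    Prod.rec (motive := fun _ => ℕ × Bool) (fun m' f' => forestRunF T gens fs m' f')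
      (treeRunF T gens m f bt.1 bt.2)

theorem forestRunF_eq (T : ℕ → ℕ → ℕ) (gens : List (List ℕ)) :
    ∀ (fs : List (ℕ × List (ℕ × ℕ))) (m : ℕ) (f : Bool),
      forestRunF T gens fs m f = forestRun T gens (m, f) fs
  | [], _, _ => rfl
  | bt :: fs, m, f => by
    rw [forestRunF, treeRunF_eq, forestRun]
    generalize treeRun T gens (m, f) bt.1 bt.2 = st
    obtain ⟨m', f'⟩ := st
    exact forestRunF_eq T gens fs m' f'

/-- the strict version of `fixOK`. -/
def fixOKF (T : ℕ → ℕ → ℕ) (fixed : List ℕ) (gens : List (List ℕ)) : Bool :=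
  gens.all (fun w => fixed.all (fun b => Nat.beq (actLF T w b) b))

theorem fixOKF_eq (T : ℕ → ℕ → ℕ) (fixed : List ℕ) (gens : List (List ℕ)) :
    fixOKF T fixed gens = fixOK T fixed gens := by
  unfold fixOKF fixOK
  simp only [actLF_eq]

/-- the strict version of `chainOK`. -/
def chainOKF (T : ℕ → ℕ → ℕ) (k N : ℕ) : List ℕ → List Level → Bool
  | _, [] => true
  | fixed, lv :: rest =>
    Nat.blt lv.1 N && lettersLtB k lv.2.1 && fixOKF T fixed lv.2.1 &&
      (treeRunF T lv.2.1 0 true lv.1 lv.2.2).2 && chainOKF T k N (lv.1 :: fixed) rest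

theorem chainOKF_eq (T : ℕ → ℕ → ℕ) (k N : ℕ) : ∀ (levels : List Level) (fixed : List ℕ),
    chainOKF T k N fixed levels = chainOK T k N fixed levels
  | [], _ => rfl
  | lv :: rest, fixed => by
    rw [chainOKF, chainOK, fixOKF_eq, treeRunF_eq, chainOKF_eq T k N rest]

theorem chainOK_of_F {T : ℕ → ℕ → ℕ} {k N : ℕ} {levels : List Level}
    (h : chainOKF T k N [] levels = true) : chainOK T k N [] levels = true := by
  rwa [chainOKF_eq] at h

/-- the strict version of `primOK`. -/
def primOKF (T : ℕ → ℕ → ℕ) (k N : ℕ) (Hgens : List (List ℕ)) (prim : PrimData) : Bool :=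
  Nat.blt 0 N && lettersLtB k Hgens && fixOKF T [0] Hgens &&
    lettersLtB k (prim.map (fun p => p.2.1)) &&
    (forestRunF T Hgens (primForest prim) 0 true).2 &&
    Nat.beq (forestCount (primForest prim)) N &&
    prim.all (fun p => Nat.blt p.1 N && Nat.beq (actLF T p.2.1 0) p.1 &&
      (treeRunF T (Hgens ++ [p.2.1]) 0 true 0 p.2.2.2).2 && Nat.beq (p.2.2.2.length + 1) N)

theorem primOKF_eq (T : ℕ → ℕ → ℕ) (k N : ℕ) (Hgens : List (List ℕ)) (prim : PrimData) :
    primOKF T k N Hgens prim = primOK T k N Hgens prim := by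
  unfold primOKF primOK
  simp only [fixOKF_eq, forestRunF_eq, treeRunF_eq, actLF_eq]

theorem primOK_of_F {T : ℕ → ℕ → ℕ} {k N : ℕ} {Hgens : List (List ℕ)} {prim : PrimData}
    (h : primOKF T k N Hgens prim = true) : primOK T k N Hgens prim = true := by
  rwa [primOKF_eq] at h

end Cfsg.Agent.Helper5.LP
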