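import Mathlib
import Cfsg.Agent.Helper5.LPS

/-!
# Orbit trees packed into blocks

A tree is stored as a list of blocks `(count, w)`; every block holds `count` entries of 32 bits
(the point in the low 24 bits, the number of the generator in the next 8 bits).  Small blocks keep
the arithmetic on the packed numbers cheap.
-/

set_option autoImplicit false

namespace Cfsg.Agent.Helper5.LP

open Cfsg.Agent.Helper5.TC Cfsg.Agent.Helper5.TCI

/-- the first `n` entries of a packed block, followed by `tl`. -/
def unpackTreeApp : ℕ → ℕ → List (ℕ × ℕ) → List (ℕ × ℕ)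
  | 0, _, tl => tl
  | n + 1, w, tl => forceL (Nat.div w 4294967296) (fun w' =>
      (Nat.mod w 16777216, Nat.mod (Nat.div w 16777216) 256) :: unpackTreeApp n w' tl)

/-- the entries of a list of packed blocks. -/
def unpackBlocks : List (ℕ × ℕ) → List (ℕ × ℕ)
  | [] => []
  | cw :: rest => unpackTreeApp cw.1 cw.2 (unpackBlocks rest)

end Cfsg.Agent.Helper5.LP
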