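import Mathlib
import Cfsg.Agent.Helper5.LPUB

/-!
# Powers of a word through a packed table of its permutation

To check that the `p`-th power of a word acts trivially we first tabulate the permutation of the
word, check the table against the word, and then iterate the table.
-/

set_option autoImplicit false

namespace Cfsg.Agent.Helper5.LP

open Cfsg.Agent.Helper5.TC Cfsg.Agent.Helper5.TCI

/-- lookup in a packed table: blocks of `per` entries of 24 bits. -/
def pLook (per : ℕ) (blocks : List ℕ) (v : ℕ) : ℕ :=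
  Nat.mod (Nat.shiftRight (blocks.getD (Nat.div v per) 0) (Nat.mul 24 (Nat.mod v per))) 16777216

/-- the table `px` agrees with the word `l` on the points `lo, …, lo + cnt - 1`. -/
def agreeRangeF (T : ℕ → ℕ → ℕ) (l : List ℕ) (px : ℕ → ℕ) : ℕ → ℕ → Bool
  | 0, _ => true
  | cnt + 1, lo => forceL (actLF T l lo) (fun u => Nat.beq (px lo) u) &&
      forceL (Nat.add lo 1) (fun lo' => agreeRangeF T l px cnt lo')

theorem agreeRangeF_spec (T : ℕ → ℕ → ℕ) (l : List ℕ) (px : ℕ → ℕ) : ∀ (cnt lo : ℕ),
    agreeRangeF T l px cnt lo = true → ∀ v, lo ≤ v → v < lo + cnt → px v = actL T l v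
  | 0, lo, _, v, h1, h2 => by omega
  | cnt + 1, lo, h, v, h1, h2 => by
    rw [agreeRangeF, forceL_eq, forceL_eq, Bool.and_eq_true, actLF_eq] at h
    rcases Nat.eq_or_lt_of_le h1 with rfl | h1
    · exact Nat.eq_of_beq_eq_true h.1
    · exact agreeRangeF_spec T l px cnt (lo + 1) h.2 v h1 (by omega)

/-- iterate a function, forcing the intermediate values. -/
def iterF (px : ℕ → ℕ) : ℕ → ℕ → ℕ
  | 0, v => v
  | n + 1, v => forceL (px v) (fun u => iterF px n u)

/-- the `p`-th iterate of `px` fixes the points `lo, …, lo + cnt - 1`. -/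
def iterFixRangeF (px : ℕ → ℕ) (p : ℕ) : ℕ → ℕ → Bool
  | 0, _ => true
  | cnt + 1, lo => Nat.beq (iterF px p lo) lo &&
      forceL (Nat.add lo 1) (fun lo' => iterFixRangeF px p cnt lo')

theorem iterFixRangeF_spec (px : ℕ → ℕ) (p : ℕ) : ∀ (cnt lo : ℕ),
    iterFixRangeF px p cnt lo = true → ∀ v, lo ≤ v → v < lo + cnt → iterF px p v = v
  | 0, lo, _, v, h1, h2 => by omega
  | cnt + 1, lo, h, v, h1, h2 => by
    rw [iterFixRangeF, forceL_eq, Bool.and_eq_true] at h
    rcases Nat.eq_or_lt_of_le h1 with rfl | h1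
    · exact Nat.eq_of_beq_eq_true h.1
    · exact iterFixRangeF_spec px p cnt (lo + 1) h.2 v h1 (by omega)

theorem fixRange_of_forall (T : ℕ → ℕ → ℕ) (l : List ℕ) : ∀ (cnt lo : ℕ),
    (∀ v, lo ≤ v → v < lo + cnt → actL T l v = v) → fixRange T l cnt lo = true
  | 0, _, _ => rfl
  | cnt + 1, lo, h => by
    rw [fixRange, Bool.and_eq_true]
    refine ⟨?_, fixRange_of_forall T l cnt (lo + 1) (fun v h1 h2 => h v (by omega) (by omega))⟩
    rw [h lo (le_refl _) (by omega)]
    exact Nat.beq_refl lo

/-- **The power of a word through its table.** -/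
theorem fixRange_pow_of_table {k N : ℕ} {T : ℕ → ℕ → ℕ} (hT : TableOK k N T) (l : List ℕ)
    (hl : ∀ c ∈ l, c < k) (px : ℕ → ℕ) (p : ℕ) (h1 : agreeRangeF T l px N 0 = true)
    (h2 : iterFixRangeF px p N 0 = true) :
    fixRange T (List.replicate p l).flatten N 0 = true := by
  have hag : ∀ v, v < N → px v = actL T l v := fun v hv =>
    agreeRangeF_spec T l px N 0 h1 v (Nat.zero_le _) (by omega)
  have hit : ∀ (j : ℕ) (v : ℕ), v < N →
      iterF px j v = actL T (List.replicate j l).flatten v := by
    intro j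
    induction j with
    | zero => intro v _; rfl
    | succ j ih =>
      intro v hv
      rw [iterF, forceL_eq, hag v hv, ih _ (actL_lt hT l hl v hv), List.replicate_succ',
        List.flatten_append, actL_append]
      simp
  apply fixRange_of_forall
  intro v _ hv
  have hv' : v < N := by omega
  rw [← hit p v hv']
  exact iterFixRangeF_spec px p N 0 h2 v (Nat.zero_le _) (by omega)

end Cfsg.Agent.Helper5.LP
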