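import Mathlib
import Cfsg.Agent.Helper5.LPX

/-!
# A simplicity criterion with a full Sylow subgroup

If the number of points is divisible by the full power `p ^ a` of `p` dividing the group order,
then every non-trivial normal subgroup contains all `p`-elements.
-/

set_option autoImplicit false

namespace Cfsg.Agent.Helper5.LP

open Cfsg.Agent.Helper5.TC Cfsg.Agent.Helper5.TCI

section
variable {G : Type*} [Group G] [Finite G]

omit [Finite G] in
/-- a normal subgroup whose order is divisible by the full power of `p` dividing `|G|` contains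
every `p`-element. -/
theorem mem_of_ppow_dvd_card {p a : ℕ} (hp : p.Prime) (hp2 : ¬ p ^ (a + 1) ∣ Nat.card G)
    (K : Subgroup G) [hK : K.Normal] (hpK : p ^ a ∣ Nat.card K) {x : G} {j : ℕ}
    (hx : x ^ (p ^ j) = 1) : x ∈ K := by
  have hmul := Subgroup.card_eq_card_quotient_mul_card_subgroup K
  have hnp : ¬ p ∣ Nat.card (G ⧸ K) := by
    intro h
    apply hp2
    rw [hmul, pow_succ, mul_comm (p ^ a) p]
    exact Nat.mul_dvd_mul h hpK
  have h1 : orderOf (QuotientGroup.mk x : G ⧸ K) ∣ p ^ j := by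
    apply orderOf_dvd_of_pow_eq_one
    rw [← QuotientGroup.mk_pow, hx]
    rfl
  have h2 : orderOf (QuotientGroup.mk x : G ⧸ K) ∣ Nat.card (G ⧸ K) := orderOf_dvd_natCard _
  have hcop : Nat.Coprime (p ^ j) (Nat.card (G ⧸ K)) :=
    Nat.Coprime.pow_left j ((Nat.Prime.coprime_iff_not_dvd hp).mpr hnp)
  have h3 : orderOf (QuotientGroup.mk x : G ⧸ K) = 1 :=
    Nat.eq_one_of_dvd_coprimes hcop h1 h2
  rw [orderOf_eq_one_iff] at h3
  exact (QuotientGroup.eq_one_iff x).mp h3

/-- **Simplicity criterion**, full Sylow version. -/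
theorem simple_of_prim_pow {k N : ℕ} {T : ℕ → ℕ → ℕ} {ρ : G →* Equiv.Perm (Fin N)}
    {e : List ℕ → G} (hA : ActsOn ρ e k T) (hinj : Function.Injective ρ)
    {Hgens : List (List ℕ)} {prim : PrimData} (h : primOK T k N Hgens prim = true)
    (hnt : Nontrivial G) {p a : ℕ} (hp : p.Prime) (hpN : p ^ a ∣ N)
    (hp2 : ¬ p ^ (a + 1) ∣ Nat.card G) {x : G} {j : ℕ} (hx : x ^ (p ^ j) = 1)
    (hncl : Subgroup.normalClosure {x} = ⊤) : IsSimpleGroup G := by
  refine { exists_pair_ne := hnt.exists_pair_ne, eq_bot_or_eq_top_of_normal := ?_ }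
  intro K hK
  by_cases hK1 : K = ⊥
  · exact Or.inl hK1
  · right
    have hdvd := dvd_card_normal hA hinj h K hK1
    have hxK := mem_of_ppow_dvd_card hp hp2 K (dvd_trans hpN hdvd) hx
    rw [eq_top_iff, ← hncl]
    exact Subgroup.normalClosure_le_normal (Set.singleton_subset_iff.mpr hxK)

end

section
variable {k : ℕ} {R : List (List ℕ)}

/-- **Assembly**, full Sylow version. -/
theorem lp_simple_pow (hlt : LettersLt k R) {N : ℕ} {T : ℕ → ℕ → ℕ}
    (hT : TableOK k N T) (hR : RelsFix R N T) (M : ℕ) (hfin : Finite (LPG k R))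
    (hub : Nat.card (LPG k R) ≤ M)
    (levels : List Level) (hchain : chainOK T k N [] levels = true)
    (hprod : chainProd levels = M)
    (Hgens : List (List ℕ)) (prim : PrimData) (hprim : primOK T k N Hgens prim = true)
    (p a j : ℕ) (hp : p.Prime) (hpN : p ^ a ∣ N) (hp2 : ¬ p ^ (a + 1) ∣ M)
    (xw : List ℕ) (hxlt : ∀ c ∈ xw, c < k)
    (hxp : fixRange T (List.replicate (p ^ j) xw).flatten N 0 = true)
    (hkill : Nat.card (LPG k (R ++ [xw])) = 1) (hM1 : 1 < M) :
    IsSimpleGroup (LPG k R) ∧ Nat.card (LPG k R) = M := by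
  have hA : ActsOn (tableHom hlt hT hR) (ev k R) k T := ⟨fun l hl v => tableHom_ev hlt hT hR l hl v⟩
  have hlow := card_ge_of_chain hA levels hchain
  rw [hprod] at hlow
  have hcard : Nat.card (LPG k R) = M := le_antisymm hub hlow
  refine ⟨?_, hcard⟩
  have hinj := injective_of_chain hA levels hchain (by rw [hprod]; exact hub)
  have hnt : Nontrivial (LPG k R) := by
    have : 1 < Nat.card (LPG k R) := by rw [hcard]; exact hM1
    exact (Finite.one_lt_card_iff_nontrivial).mp this
  have hpow : ev k R xw ^ (p ^ j) = 1 := by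
    rw [ev_pow]
    apply eq_one_of_fix hA hinj _ _ hxp
    intro c hc
    obtain ⟨l, hl, hcl⟩ := List.mem_flatten.mp hc
    rw [List.eq_of_mem_replicate hl] at hcl
    exact hxlt c hcl
  exact simple_of_prim_pow hA hinj hprim hnt hp hpN (by rw [hcard]; exact hp2) hpow
    (normalClosure_eq_top hlt xw hxlt hkill)

end

end Cfsg.Agent.Helper5.LP
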