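import Mathlib
import Cfsg.Agent.Helper5.LPH

/-!
# List-presented groups with inverse letters

The letters of `LPG k R` need not be involutions: a map `ι` on the letters with relators
`[c, ι c]` gives every letter an inverse letter.  We wrap the certified coset enumeration and the
permutation representation on a coset table for this situation, and state the assembly of the
simplicity proof for an arbitrary action on a table.
-/

set_option autoImplicit false

namespace Cfsg.Agent.Helper5.LP

open Cfsg.Agent.Helper5.TC Cfsg.Agent.Helper5.TCI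

/-- every letter `c` has the inverse letter `ι c` by the relators. -/
def InvolI (k : ℕ) (ι : ℕ → ℕ) (R : List (List ℕ)) : Prop := ∀ c, c < k → [c, ι c] ∈ R

instance (k : ℕ) (ι : ℕ → ℕ) (R : List (List ℕ)) : Decidable (InvolI k ι R) := by
  unfold InvolI; infer_instance

section
variable {k : ℕ} {R : List (List ℕ)} {ι : ℕ → ℕ}

theorem iota_ge (hιι : ∀ x, ι (ι x) = x) (hιk : ∀ x, x < k → ι x < k) {c : ℕ} (hc : k ≤ c) :
    k ≤ ι c := by
  by_contra h
  have := hιk (ι c) (by omega)
  rw [hιι] at this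
  omega

theorem ev_mul_iota (hιι : ∀ x, ι (ι x) = x) (hιk : ∀ x, x < k → ι x < k)
    (h : InvolI k ι R) (c : ℕ) : ev k R [c] * ev k R [ι c] = 1 := by
  rcases Nat.lt_or_ge c k with hc | hc
  · rw [← ev_append]
    exact ev_rel (h c hc)
  · rw [ev_ge hc, ev_ge (iota_ge hιι hιk hc), one_mul]

theorem ev_inv_iota (hιι : ∀ x, ι (ι x) = x) (hιk : ∀ x, x < k → ι x < k)
    (h : InvolI k ι R) (c : ℕ) : (ev k R [c])⁻¹ = ev k R [ι c] :=
  inv_eq_of_mul_eq_one_right (ev_mul_iota hιι hιk h c)

/-- **Certified coset enumeration in a list-presented group with inverse letters.** -/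
theorem lp_indexI (hιι : ∀ x, ι (ι x) = x) (hιk : ∀ x, x < k → ι x < k)
    (hι16 : ∀ x, x < 16 → ι x < 16) (hinv : InvolI k ι R) (subs : List (List ℕ)) (E : Dat2)
    {N RS : ℕ} {T : ℕ → ℕ → ℕ} (hk : E.D.k = k)
    (hnrel : E.D.nrel = R.length) (hnw : E.D.nw = R.length + subs.length)
    (hlt : ∀ l ∈ R ++ subs, ∀ c ∈ l, c < k)
    (hwords : ∀ i (hi : i < (R ++ subs).length),
      unpack (E.D.wlen i) (E.D.wordP i) = ((R ++ subs)[i]).reverse)
    (hrev : revOKI ι E.D E.D.nw = true)
    (hE : ∀ v, v < E.M → ∀ x, x < E.D.k → edgeOKI ι E x v = true)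
    (hAl : ∀ v, v < E.M → aliasOK E v = true)
    (hset : setOK E.M N RS = true)
    (hrows : ∀ v, v < E.M → tb RS v = true → rowOK2 E RS v E.D.k = true)
    (hN : 0 < N)
    (hT : ∀ x, x < E.D.k → ∀ v, v < N → T x v < N ∧ T (ι x) (T x v) = v)
    (hltr : ∀ j, j < E.D.nw → lettersOK E.D.k (E.D.wlen j) (E.D.wordP j) = true)
    (hrelT : ∀ wi, wi < E.D.nrel → ∀ v, v < N →
      walkT T (E.D.wlen wi) (E.D.wordP wi) v = v)
    (hsubT : ∀ wi, wi < E.D.nw → E.D.nrel ≤ wi →
      walkT T (E.D.wlen wi) (E.D.wordP wi) 0 = 0)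
    (hconn : ∀ v, v < N → v ≠ 0 → ∃ x, x < E.D.k ∧ T x v < v) :
    (Subgroup.closure {x : LPG k R | ∃ s ∈ subs, x = ev k R s}).index = N := by
  have hRlt : ∀ l ∈ R, ∀ c ∈ l, c < k := fun l hl => hlt l (List.mem_append_left _ hl)
  have hSlt : ∀ l ∈ subs, ∀ c ∈ l, c < k := fun l hl => hlt l (List.mem_append_right _ hl)
  have key := presented_indexI (rels k R) (subs.map (fw k)) ι (fl k) (fun z : Fin k => z.val) E
    (T := T) (N := N) (RS := RS)
    hιι (fun x hx => by rw [hk] at hx ⊢; exact hιk x hx) hι16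
    (fun z => by rw [hk]; exact z.isLt)
    (fun z => fl_lt k z.isLt)
    (fun x => by
      have := ev_mul_iota hιι hιk hinv (R := R) x
      unfold ev at this
      rwa [fw_cons, fw_nil, mul_one, fw_cons, fw_nil, mul_one] at this)
    (fun x hx K _ γ _ => by
      rw [hk] at hx
      rw [fl_lt k hx, FreeGroup.lift_apply_of])
    (by rw [hnw, hnrel, List.length_map])
    (fun wi hwi => by
      left
      rw [hnrel] at hwi
      have hi : wi < (R ++ subs).length := by rw [List.length_append]; omega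
      have hw := hwords wi hi
      rw [List.getElem_append_left hwi] at hw
      exact ⟨fw k R[wi], ⟨R[wi], List.getElem_mem hwi, rfl⟩,
        wordMatch_fw ι _ (hRlt _ (List.getElem_mem hwi)) _ _ hw⟩)
    (fun r hr => by
      obtain ⟨l, hl, rfl⟩ := hr
      obtain ⟨i, hi, rfl⟩ := List.getElem_of_mem hl
      have hi' : i < (R ++ subs).length := by rw [List.length_append]; omega
      have hw := hwords i hi'
      rw [List.getElem_append_left hi] at hw
      exact ⟨i, by rw [hnrel]; exact hi,
        wordMatch_fw ι _ (hRlt _ (List.getElem_mem hi)) _ _ hw⟩)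
    (fun i hi => by
      rw [List.length_map] at hi
      have hi' : R.length + i < (R ++ subs).length := by rw [List.length_append]; omega
      have hw := hwords (R.length + i) hi'
      rw [List.getElem_append_right (by omega)] at hw
      simp only [Nat.add_sub_cancel_left] at hw
      rw [List.getElem_map, hnrel]
      exact wordMatch_fw ι _ (hSlt _ (List.getElem_mem hi)) _ _ hw)
    hrev hE hAl hset hrows hN hT hltr hrelT hsubT hconn
  have hset' : {x : LPG k R | ∃ s ∈ subs, x = ev k R s}
      = (PresentedGroup.mk (rels k R)) '' {s | s ∈ subs.map (fw k)} := by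
    ext x
    constructor
    · rintro ⟨s, hs, rfl⟩
      exact ⟨fw k s, List.mem_map.mpr ⟨s, hs, rfl⟩, rfl⟩
    · rintro ⟨y, hy, rfl⟩
      obtain ⟨s, hs, rfl⟩ := List.mem_map.mp hy
      exact ⟨s, hs, rfl⟩
  rw [hset', ← MonoidHom.map_closure]
  exact key

end

/-! ### the permutation representation -/

section table
variable {k : ℕ} {R : List (List ℕ)} {N : ℕ} {T : ℕ → ℕ → ℕ} {ι : ℕ → ℕ}

/-- the table conditions with inverse letters. -/
def TableOKI (k N : ℕ) (ι : ℕ → ℕ) (T : ℕ → ℕ → ℕ) : Prop :=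
  ∀ x, x < k → ∀ v, v < N → T x v < N ∧ T (ι x) (T x v) = v

theorem actL_ltI (hT : TableOKI k N ι T) : ∀ (l : List ℕ), (∀ c ∈ l, c < k) → ∀ v, v < N →
    actL T l v < N
  | [], _, _, hv => hv
  | c :: l, hl, v, hv =>
    (hT c (hl c List.mem_cons_self) _
      (actL_ltI hT l (fun c hc => hl c (List.mem_cons_of_mem _ hc)) v hv)).1

theorem tpermI_apply (hιι : ∀ x, ι (ι x) = x) (hιk : ∀ x, x < k → ι x < k)
    (hT : TableOKI k N ι T) {x : ℕ} (hx : x < k) (v : Fin N) :
    (tblPermI T ι N x v).val = T x v.val :=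
  tblPermI_apply (ι := ι) ⟨hT x hx, by
    have := hT (ι x) (hιk x hx)
    rwa [hιι] at this⟩ v

theorem prod_tpermI_apply (hιι : ∀ x, ι (ι x) = x) (hιk : ∀ x, x < k → ι x < k)
    (hT : TableOKI k N ι T) : ∀ (l : List ℕ), (∀ c ∈ l, c < k) → ∀ v : Fin N,
    ((l.map (tblPermI T ι N)).prod v).val = actL T l v.val
  | [], _, _ => rfl
  | c :: l, hl, v => by
    rw [List.map_cons, List.prod_cons, Equiv.Perm.mul_apply,
      tpermI_apply hιι hιk hT (hl c List.mem_cons_self),
      prod_tpermI_apply hιι hιk hT l (fun c hc => hl c (List.mem_cons_of_mem _ hc)) v]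
    rfl

/-- the permutation representation given by a coset table, with inverse letters. -/
noncomputable def tableHomI (hιι : ∀ x, ι (ι x) = x) (hιk : ∀ x, x < k → ι x < k)
    (hlt : LettersLt k R) (hT : TableOKI k N ι T) (hR : RelsFix R N T) :
    LPG k R →* Equiv.Perm (Fin N) :=
  lift (tblPermI T ι N) hlt (by
    intro l hl
    ext v
    rw [prod_tpermI_apply hιι hιk hT l (hlt l hl), hR l hl v.val v.isLt]
    rfl)

theorem tableHomI_ev (hιι : ∀ x, ι (ι x) = x) (hιk : ∀ x, x < k → ι x < k)
    (hlt : LettersLt k R) (hT : TableOKI k N ι T) (hR : RelsFix R N T)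
    (l : List ℕ) (hl : ∀ c ∈ l, c < k) (v : Fin N) :
    (tableHomI hιι hιk hlt hT hR (ev k R l) v).val = actL T l v.val := by
  unfold tableHomI
  rw [lift_ev _ _ _ l hl, prod_tpermI_apply hιι hιk hT l hl]

theorem actsOn_tableHomI (hιι : ∀ x, ι (ι x) = x) (hιk : ∀ x, x < k → ι x < k)
    (hlt : LettersLt k R) (hT : TableOKI k N ι T) (hR : RelsFix R N T) :
    ActsOn (tableHomI hιι hιk hlt hT hR) (ev k R) k T :=
  ⟨fun l hl v => tableHomI_ev hιι hιk hlt hT hR l hl v⟩

/-- the table conditions from the certificate. -/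
theorem tableOKI_of_cert {E : Dat2} (hk : E.D.k = k)
    (hT : ∀ x, x < E.D.k → ∀ v, v < N → T x v < N ∧ T (ι x) (T x v) = v) : TableOKI k N ι T := by
  intro x hx v hv
  exact hT x (by rw [hk]; exact hx) v hv

/-- the power of a word through its table, with inverse letters. -/
theorem fixRange_pow_of_tableI (hT : TableOKI k N ι T) (l : List ℕ)
    (hl : ∀ c ∈ l, c < k) (px : ℕ → ℕ) (p : ℕ) (h1 : agreeRangeF T l px N 0 = true)
    (h2 : iterFixRangeF px p N 0 = true) :
    fixRange T (List.replicate p l).flatten N 0 = true := by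
  have hag : ∀ v, v < N → px v = actL T l v := fun v hv =>
    agreeRangeF_spec T l px N 0 h1 v (Nat.zero_le _) (by omega)
  have hit : ∀ (j : ℕ) (v : ℕ), v < N →
      iterF px j v = actL T (List.replicate j l).flatten v := by
    intro j
    induction j with
    | zero => intro v _; rfl
    | succ j ih =>
      intro v hv
      rw [iterF, forceL_eq, hag v hv, ih _ (actL_ltI hT l hl v hv), List.replicate_succ',
        List.flatten_append, actL_append]
      simp
  apply fixRange_of_forall
  intro v _ hv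
  have hv' : v < N := by omega
  rw [← hit p v hv']
  exact iterFixRangeF_spec px p N 0 h2 v (Nat.zero_le _) (by omega)

end table

/-! ### assembly for an arbitrary action on a table -/

section
variable {k : ℕ} {R : List (List ℕ)}

/-- **Assembly** for an arbitrary action on a table. -/
theorem lp_simple_acts (hlt : LettersLt k R) {N : ℕ} {T : ℕ → ℕ → ℕ}
    (ρ : LPG k R →* Equiv.Perm (Fin N)) (hA : ActsOn ρ (ev k R) k T)
    (M : ℕ) (hfin : Finite (LPG k R)) (hub : Nat.card (LPG k R) ≤ M)
    (levels : List Level) (hchain : chainOK T k N [] levels = true)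
    (hprod : chainProd levels = M)
    (Hgens : List (List ℕ)) (prim : PrimData) (hprim : primOK T k N Hgens prim = true)
    (p a j : ℕ) (hp : p.Prime) (hpN : p ^ a ∣ N) (hp2 : ¬ p ^ (a + 1) ∣ M)
    (xw : List ℕ) (hxlt : ∀ c ∈ xw, c < k)
    (hxp : fixRange T (List.replicate (p ^ j) xw).flatten N 0 = true)
    (hkill : Nat.card (LPG k (R ++ [xw])) = 1) (hM1 : 1 < M) :
    IsSimpleGroup (LPG k R) ∧ Nat.card (LPG k R) = M := by
  have hlow := card_ge_of_chain hA levels hchain
  rw [hprod] at hlow
  have hcard : Nat.card (LPG k R) = M := le_antisymm hub hlow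
  refine ⟨?_, hcard⟩
  have hinj := injective_of_chain hA levels hchain (by rw [hprod]; exact hub)
  have hnt : Nontrivial (LPG k R) := by
    have : 1 < Nat.card (LPG k R) := by rw [hcard]; exact hM1
    exact (Finite.one_lt_card_iff_nontrivial).mp this
  have hpow : ev k R xw ^ (p ^ j) = 1 := by
    rw [ev_pow]
    apply eq_one_of_fix hA hinj _ _ hxp
    intro c hc
    obtain ⟨l, hl, hcl⟩ := List.mem_flatten.mp hc
    rw [List.eq_of_mem_replicate hl] at hcl
    exact hxlt c hcl
  exact simple_of_prim_pow hA hinj hprim hnt hp hpN (by rw [hcard]; exact hp2) hpow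
    (normalClosure_eq_top hlt xw hxlt hkill)

end

end Cfsg.Agent.Helper5.LP
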