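import Mathlib
import Cfsg.Prelude.Def_KGroupFacts
import Cfsg.Agent.Helper3.StemA
import Cfsg.Agent.Helper3.StemB

/-!
# Stem extensions: splitting off the part of the kernel of order prime to `s`

Let `σ : Γ →* G` be a finite stem extension and `|G| = s t`.  The elements of the kernel killed by
`t` form a central subgroup `N`, and `Γ ⧸ N →* G` is again a stem extension, whose kernel has
exponent dividing `s`.  Elements of `G` of order prime to `s` lift to elements of the same order,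
and lifts of generators generate.
-/

set_option autoImplicit false

namespace Cfsg.Agent.Helper5.StemP

open Cfsg.Agent.Helper3.Stem
open scoped commutatorElement

universe u v

section
variable {Γ : Type u} {G : Type v} [Group Γ] [Group G]

/-- the elements of the kernel killed by `t`. -/
def torPart (σ : Γ →* G) (hc : σ.ker ≤ Subgroup.center Γ) (t : ℕ) : Subgroup Γ where
  carrier := {z | z ∈ σ.ker ∧ z ^ t = 1}
  one_mem' := ⟨one_mem _, one_pow t⟩
  mul_mem' := by
    rintro a b ⟨ha, ha'⟩ ⟨hb, hb'⟩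
    refine ⟨mul_mem ha hb, ?_⟩
    have hcomm : Commute a b := ((Subgroup.mem_center_iff.mp (hc ha)) b).symm
    rw [hcomm.mul_pow, ha', hb', one_mul]
  inv_mem' := by
    rintro a ⟨ha, ha'⟩
    exact ⟨inv_mem ha, by rw [inv_pow, ha', inv_one]⟩

theorem mem_torPart {σ : Γ →* G} {hc : σ.ker ≤ Subgroup.center Γ} {t : ℕ} {z : Γ} :
    z ∈ torPart σ hc t ↔ z ∈ σ.ker ∧ z ^ t = 1 := Iff.rfl

instance torPart_normal (σ : Γ →* G) (hc : σ.ker ≤ Subgroup.center Γ) (t : ℕ) :
    (torPart σ hc t).Normal := ⟨fun z hz g => by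
  have h := Subgroup.mem_center_iff.mp (hc hz.1) g
  have : g * z * g⁻¹ = z := by rw [h, mul_inv_cancel_right]
  rw [this]
  exact hz⟩

/-- the induced map on the quotient by the part killed by `t`. -/
def qmap (σ : Γ →* G) (hc : σ.ker ≤ Subgroup.center Γ) (t : ℕ) : Γ ⧸ torPart σ hc t →* G :=
  QuotientGroup.lift _ σ (fun _ hz => hz.1)

theorem qmap_mk (σ : Γ →* G) (hc : σ.ker ≤ Subgroup.center Γ) (t : ℕ) (x : Γ) :
    qmap σ hc t (QuotientGroup.mk x) = σ x := rfl

theorem qmap_stem (σ : Γ →* G) (hσ : Cfsg.IsStemExtension σ) (hc : σ.ker ≤ Subgroup.center Γ)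
    (t : ℕ) : Cfsg.IsStemExtension (qmap σ hc t) := by
  refine ⟨?_, ?_, ?_⟩
  · intro g
    obtain ⟨x, rfl⟩ := hσ.1 g
    exact ⟨QuotientGroup.mk x, rfl⟩
  · intro y hy
    obtain ⟨x, rfl⟩ := QuotientGroup.mk_surjective y
    have hx : x ∈ σ.ker := hy
    rw [Subgroup.mem_center_iff]
    intro w
    obtain ⟨w', rfl⟩ := QuotientGroup.mk_surjective w
    have h := Subgroup.mem_center_iff.mp (hc hx) w'
    rw [← QuotientGroup.mk_mul, ← QuotientGroup.mk_mul, h]
  · intro y hy
    obtain ⟨x, rfl⟩ := QuotientGroup.mk_surjective y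
    have hx : x ∈ σ.ker := hy
    have h0 : x ∈ ⁅(⊤ : Subgroup Γ), ⊤⁆ := hσ.2.2 hx
    have h1 : (QuotientGroup.mk' (torPart σ hc t)) x ∈
        Subgroup.map (QuotientGroup.mk' (torPart σ hc t)) ⁅(⊤ : Subgroup Γ), (⊤ : Subgroup Γ)⁆ :=
      Subgroup.mem_map_of_mem _ h0
    rw [Subgroup.map_commutator] at h1
    have h2 : ⁅(⊤ : Subgroup Γ).map (QuotientGroup.mk' (torPart σ hc t)),
        (⊤ : Subgroup Γ).map (QuotientGroup.mk' (torPart σ hc t))⁆
        ≤ commutator (Γ ⧸ torPart σ hc t) := by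
      rw [commutator_def]
      exact Subgroup.commutator_mono le_top le_top
    exact h2 h1

theorem mem_qmap_ker (σ : Γ →* G) (hc : σ.ker ≤ Subgroup.center Γ) (t : ℕ) (x : Γ) :
    (QuotientGroup.mk x : Γ ⧸ torPart σ hc t) ∈ (qmap σ hc t).ker ↔ x ∈ σ.ker := Iff.rfl

/-- the elements of the kernel of a finite stem extension are killed by `|G|`. -/
theorem pow_card_eq_one [Finite Γ] (σ : Γ →* G) (hσ : Cfsg.IsStemExtension σ) (z : Γ)
    (hz : z ∈ σ.ker) : z ^ Nat.card G = 1 := by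
  have hgood : Good σ ⊥ := by
    apply good_of_comm
    intro x y hx hy
    have hx' : x ∈ σ.ker := by
      rw [MonoidHom.mem_ker]
      exact Subgroup.mem_bot.mp hx
    exact ((Subgroup.mem_center_iff.mp (hσ.2.1 hx')) y).symm
  have h := pow_index_eq_one_of_good σ hσ ⊥ hgood z hz
  rwa [Subgroup.index_bot] at h

/-- the elements of the kernel of a finite stem extension are killed by the index of every cyclic
subgroup. -/
theorem pow_index_zpowers_eq_one [Finite Γ] (σ : Γ →* G) (hσ : Cfsg.IsStemExtension σ) (u : G)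
    (z : Γ) (hz : z ∈ σ.ker) : z ^ (Subgroup.zpowers u).index = 1 :=
  pow_index_eq_one_of_good σ hσ _ (good_of_isCyclic σ hσ.2.1 hσ.1 _) z hz

/-- the kernel of the quotient has exponent dividing `s`. -/
theorem qmap_ker_pow [Finite Γ] (σ : Γ →* G) (hσ : Cfsg.IsStemExtension σ)
    (hc : σ.ker ≤ Subgroup.center Γ) {s t : ℕ}
    (hst : Nat.card G = s * t) (y : Γ ⧸ torPart σ hc t) (hy : y ∈ (qmap σ hc t).ker) :
    y ^ s = 1 := by
  obtain ⟨x, rfl⟩ := QuotientGroup.mk_surjective y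
  have hx : x ∈ σ.ker := hy
  rw [← QuotientGroup.mk_pow, QuotientGroup.eq_one_iff]
  refine ⟨Subgroup.pow_mem _ hx s, ?_⟩
  rw [← pow_mul, ← hst]
  exact pow_card_eq_one σ hσ x hx

theorem qmap_ker_pow_of (σ : Γ →* G) (hc : σ.ker ≤ Subgroup.center Γ) (t E0 : ℕ)
    (hE0 : ∀ z ∈ σ.ker, z ^ E0 = 1) (y : Γ ⧸ torPart σ hc t) (hy : y ∈ (qmap σ hc t).ker) :
    y ^ E0 = 1 := by
  obtain ⟨x, rfl⟩ := QuotientGroup.mk_surjective y
  have hx : x ∈ σ.ker := hy
  rw [← QuotientGroup.mk_pow, hE0 x hx]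
  rfl

/-- if the part killed by `t` is trivial, the kernels have the same order. -/
theorem card_qmap_ker (σ : Γ →* G) (hc : σ.ker ≤ Subgroup.center Γ) (t : ℕ)
    (h : ∀ z ∈ σ.ker, z ^ t = 1 → z = 1) :
    Nat.card (qmap σ hc t).ker = Nat.card σ.ker := by
  have hbot : torPart σ hc t = ⊥ := by
    rw [eq_bot_iff]
    intro z hz
    rw [Subgroup.mem_bot]
    exact h z hz.1 hz.2
  symm
  apply Nat.card_congr
  refine Equiv.ofBijective (fun z => ⟨QuotientGroup.mk z.1, z.2⟩) ⟨?_, ?_⟩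
  · intro a b hab
    have h1 : (QuotientGroup.mk a.1 : Γ ⧸ torPart σ hc t) = QuotientGroup.mk b.1 :=
      congrArg Subtype.val hab
    rw [QuotientGroup.eq, hbot, Subgroup.mem_bot] at h1
    apply Subtype.ext
    exact (inv_mul_eq_one.mp h1)
  · rintro ⟨y, hy⟩
    obtain ⟨x, rfl⟩ := QuotientGroup.mk_surjective y
    exact ⟨⟨x, hy⟩, rfl⟩

/-- if the kernel of the quotient is trivial, the kernel is killed by `t`. -/
theorem pow_eq_one_of_qmap_ker (σ : Γ →* G) (hc : σ.ker ≤ Subgroup.center Γ) (t : ℕ)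
    (h : (qmap σ hc t).ker = ⊥) (z : Γ) (hz : z ∈ σ.ker) : z ^ t = 1 := by
  have h1 : (QuotientGroup.mk z : Γ ⧸ torPart σ hc t) ∈ (qmap σ hc t).ker := hz
  rw [h, Subgroup.mem_bot, QuotientGroup.eq_one_iff] at h1
  exact h1.2

end

section lifting
variable {Γ : Type u} {G : Type v} [Group Γ] [Group G]

/-- an element of order prime to the exponent of the central kernel lifts to an element of the same
order. -/
theorem exists_lift_pow_eq_one (σ : Γ →* G) (hsurj : Function.Surjective σ)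
    (hc : σ.ker ≤ Subgroup.center Γ) (s : ℕ) (hs : ∀ z ∈ σ.ker, z ^ s = 1) (g : G) (m : ℕ)
    (hm : m.Coprime s) (hg : g ^ m = 1) : ∃ x : Γ, σ x = g ∧ x ^ m = 1 := by
  obtain ⟨y, rfl⟩ := hsurj g
  have hk : y ^ m ∈ σ.ker := by rw [MonoidHom.mem_ker, map_pow, hg]
  -- Bezout
  have hb : (m : ℤ) * Nat.gcdA m s + (s : ℤ) * Nat.gcdB m s = 1 := by
    have := Nat.gcd_eq_gcd_ab m s
    rw [hm] at this
    simpa using this.symm
  set a : ℤ := Nat.gcdA m s with ha
  set b : ℤ := Nat.gcdB m s with hb'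
  let u : Γ := (y ^ m) ^ a
  have hu : u ∈ σ.ker := Subgroup.zpow_mem _ hk a
  have hum : u ^ m = y ^ m := by
    show ((y ^ m) ^ a) ^ m = y ^ m
    rw [← zpow_natCast, ← zpow_mul]
    have : a * (m : ℤ) = 1 - (s : ℤ) * b := by linarith
    rw [this, zpow_sub, zpow_one, zpow_mul, zpow_natCast, hs _ hk, one_zpow, inv_one, mul_one]
  have hcomm : Commute y u⁻¹ := by
    have h := Subgroup.mem_center_iff.mp (hc (inv_mem hu)) y
    exact h
  refine ⟨y * u⁻¹, ?_, ?_⟩
  · rw [map_mul, map_inv, MonoidHom.mem_ker.mp hu, inv_one, mul_one]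
  · rw [hcomm.mul_pow, inv_pow, hum, mul_inv_cancel]

/-- lifts of generators generate the source of a stem extension. -/
theorem closure_eq_top_of_stem (σ : Γ →* G) (hσ : Cfsg.IsStemExtension σ) (S : Set Γ)
    (hS : Subgroup.closure (σ '' S) = ⊤) : Subgroup.closure S = ⊤ := by
  obtain ⟨hsurj, hcen, hder⟩ := hσ
  set H := Subgroup.closure S with hH
  -- every element is a product of an element of `H` and an element of the kernel
  have hdec : ∀ x : Γ, ∃ h ∈ H, ∃ z ∈ σ.ker, x = h * z := by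
    intro x
    have hx : σ x ∈ H.map σ := by
      rw [hH, MonoidHom.map_closure, hS]
      exact Subgroup.mem_top _
    obtain ⟨h, hh, he⟩ := hx
    refine ⟨h, hh, h⁻¹ * x, ?_, by group⟩
    rw [MonoidHom.mem_ker, map_mul, map_inv, he, inv_mul_cancel]
  -- hence commutators lie in `H`
  have hcomm : commutator Γ ≤ H := by
    rw [commutator_eq_closure, Subgroup.closure_le]
    rintro _ ⟨a, b, rfl⟩
    obtain ⟨h1, hh1, z1, hz1, rfl⟩ := hdec a
    obtain ⟨h2, hh2, z2, hz2, rfl⟩ := hdec b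
    rw [comm_mul_central h1 h2 z1 z2 (hcen hz1) (hcen hz2)]
    have hle : ⁅H, H⁆ ≤ H := Subgroup.commutator_le.mpr (fun a ha b hb =>
      H.mul_mem (H.mul_mem (H.mul_mem ha hb) (H.inv_mem ha)) (H.inv_mem hb))
    exact hle (Subgroup.commutator_mem_commutator hh1 hh2)
  rw [eq_top_iff]
  intro x _
  obtain ⟨h, hh, z, hz, rfl⟩ := hdec x
  exact mul_mem hh (hcomm (hder hz))

end lifting

end Cfsg.Agent.Helper5.StemP
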