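import Mathlib
import Cfsg.Prelude.Def_KGroupFacts
import Cfsg.Agent.Helper5.StemPA
import Cfsg.Agent.Helper5.LPA

/-!
# Covering presentations

Let `G` be generated by `g 0, …, g (d - 1)` with `g i ^ m i = 1`, the `m i` prime to `s`, and let
`C`, `T` be lists of words in the letters `2 i` (for `g i`) and `2 i + 1` (for its inverse) that
are trivial in `G`.  The *covering presentation* has the relators `x_i ^ (m i) = 1`, `[r, x_i] = 1`
for `r ∈ C` and `r ^ e = 1` for `r ∈ T`.  Every stem extension of `G` whose kernel has exponent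
dividing `s` and `e` is a quotient of the group so presented.
-/

set_option autoImplicit false

namespace Cfsg.Agent.Helper5.StemP

open Cfsg.Agent.Helper5.LP

universe u v

/-- the inverse letter: `2 i ↔ 2 i + 1`. -/
def linv (c : ℕ) : ℕ := if c % 2 = 0 then c + 1 else c - 1

/-- the inverse word. -/
def winv (r : List ℕ) : List ℕ := (r.map linv).reverse

/-- the relators of the covering presentation. -/
def coverRels (d : ℕ) (m : ℕ → ℕ) (C T : List (List ℕ)) (e : ℕ) : List (List ℕ) :=
  ((List.range d).flatMap fun i =>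
      [[2 * i, 2 * i + 1], [2 * i + 1, 2 * i], List.replicate (m i) (2 * i)]) ++
    (C.flatMap fun r => (List.range d).map fun i => r ++ [2 * i] ++ winv r ++ [2 * i + 1]) ++
    (T.map fun r => (List.replicate e r).flatten)

section
variable {K : Type*} [Group K]

/-- the value of a letter. -/
def lval (x : ℕ → K) (c : ℕ) : K := if c % 2 = 0 then x (c / 2) else (x (c / 2))⁻¹

theorem lval_even (x : ℕ → K) (i : ℕ) : lval x (2 * i) = x i := by
  unfold lval
  rw [if_pos (by omega), Nat.mul_div_cancel_left i (by norm_num)]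

theorem lval_odd (x : ℕ → K) (i : ℕ) : lval x (2 * i + 1) = (x i)⁻¹ := by
  unfold lval
  rw [if_neg (by omega)]
  congr 2
  omega

theorem lval_linv (x : ℕ → K) (c : ℕ) : lval x (linv c) = (lval x c)⁻¹ := by
  obtain ⟨i, rfl | rfl⟩ : ∃ i, c = 2 * i ∨ c = 2 * i + 1 := ⟨c / 2, by omega⟩
  · have : linv (2 * i) = 2 * i + 1 := by unfold linv; rw [if_pos (by omega)]
    rw [this, lval_even, lval_odd]
  · have : linv (2 * i + 1) = 2 * i := by unfold linv; rw [if_neg (by omega)]; omega
    rw [this, lval_even, lval_odd, inv_inv]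

theorem prod_winv (x : ℕ → K) (r : List ℕ) :
    ((winv r).map (lval x)).prod = ((r.map (lval x)).prod)⁻¹ := by
  unfold winv
  rw [List.prod_inv_reverse, List.map_reverse, List.map_map, List.map_map]
  congr 2
  apply List.map_congr_left
  intro c _
  exact lval_linv x c

theorem prod_replicate_flatten (x : ℕ → K) (r : List ℕ) (e : ℕ) :
    (((List.replicate e r).flatten).map (lval x)).prod = ((r.map (lval x)).prod) ^ e := by
  induction e with
  | zero => simp
  | succ n ih =>
    rw [List.replicate_succ, List.flatten_cons, List.map_append, List.prod_append, ih, pow_succ']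

/-- the relators of the covering presentation hold for elements of the right orders such that the
words in `C` are central and those in `T` are killed by `e`. -/
theorem coverRels_hold (x : ℕ → K) (d : ℕ) (m : ℕ → ℕ) (C T : List (List ℕ)) (e : ℕ)
    (h1 : ∀ i, i < d → x i ^ m i = 1)
    (h2 : ∀ r ∈ C, (r.map (lval x)).prod ∈ Subgroup.center K)
    (h3 : ∀ r ∈ T, ((r.map (lval x)).prod) ^ e = 1) :
    ∀ l ∈ coverRels d m C T e, (l.map (lval x)).prod = 1 := by
  intro l hl
  unfold coverRels at hl
  rcases List.mem_append.mp hl with hl | hl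
  · rcases List.mem_append.mp hl with hl | hl
    · obtain ⟨i, hi, hl⟩ := List.mem_flatMap.mp hl
      rw [List.mem_range] at hi
      simp only [List.mem_cons, List.not_mem_nil, or_false] at hl
      rcases hl with rfl | rfl | rfl
      · simp [lval_even, lval_odd]
      · simp [lval_even, lval_odd]
      · rw [List.map_replicate, List.prod_replicate, lval_even]
        exact h1 i hi
    · obtain ⟨r, hr, hl⟩ := List.mem_flatMap.mp hl
      obtain ⟨i, _, rfl⟩ := List.mem_map.mp hl
      have hc := Subgroup.mem_center_iff.mp (h2 r hr) (x i)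
      simp only [List.map_append, List.prod_append, List.map_cons, List.map_nil, List.prod_cons,
        List.prod_nil, mul_one, prod_winv, lval_even, lval_odd]
      rw [← hc]
      group
  · obtain ⟨r, hr, rfl⟩ := List.mem_map.mp hl
    rw [prod_replicate_flatten]
    exact h3 r hr

end

theorem linv_lt {d c : ℕ} (hc : c < 2 * d) : linv c < 2 * d := by
  unfold linv
  split_ifs <;> omega

theorem coverRels_lt (d : ℕ) (m : ℕ → ℕ) (C T : List (List ℕ)) (e : ℕ)
    (hlt : ∀ r ∈ C ++ T, ∀ c ∈ r, c < 2 * d) : LettersLt (2 * d) (coverRels d m C T e) := by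
  intro l hl c hc
  unfold coverRels at hl
  rcases List.mem_append.mp hl with hl | hl
  · rcases List.mem_append.mp hl with hl | hl
    · obtain ⟨i, hi, hl⟩ := List.mem_flatMap.mp hl
      rw [List.mem_range] at hi
      simp only [List.mem_cons, List.not_mem_nil, or_false] at hl
      rcases hl with rfl | rfl | rfl
      · simp only [List.mem_cons, List.not_mem_nil, or_false] at hc
        omega
      · simp only [List.mem_cons, List.not_mem_nil, or_false] at hc
        omega
      · rw [List.eq_of_mem_replicate hc]
        omega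
    · obtain ⟨r, hr, hl⟩ := List.mem_flatMap.mp hl
      obtain ⟨i, hi, rfl⟩ := List.mem_map.mp hl
      rw [List.mem_range] at hi
      have hr' := hlt r (List.mem_append_left _ hr)
      simp only [List.mem_append, List.mem_cons, List.not_mem_nil, or_false] at hc
      rcases hc with ((hc | rfl) | hc) | rfl
      · exact hr' c hc
      · omega
      · unfold winv at hc
        rw [List.mem_reverse] at hc
        obtain ⟨c', hc', rfl⟩ := List.mem_map.mp hc
        exact linv_lt (hr' c' hc')
      · omega
  · obtain ⟨r, hr, rfl⟩ := List.mem_map.mp hl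
    obtain ⟨l', hl', hc'⟩ := List.mem_flatten.mp hc
    rw [List.eq_of_mem_replicate hl'] at hc'
    exact hlt r (List.mem_append_right _ hr) c hc'

section main
variable {G : Type v} [Group G] {Γ : Type u} [Group Γ]

/-- the images of the letters in `G` satisfy the covering presentation. -/
theorem coverRels_hold_base (g : ℕ → G) (d : ℕ) (m : ℕ → ℕ) (C T : List (List ℕ)) (e : ℕ)
    (hm : ∀ i, i < d → g i ^ m i = 1)
    (hC : ∀ r ∈ C ++ T, (r.map (lval g)).prod = 1) :
    ∀ l ∈ coverRels d m C T e, (l.map (lval g)).prod = 1 := by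
  apply coverRels_hold g d m C T e hm
  · intro r hr
    rw [hC r (List.mem_append_left _ hr)]
    exact one_mem _
  · intro r hr
    rw [hC r (List.mem_append_right _ hr), one_pow]

/-- **Every stem extension whose kernel has exponent dividing `s` and `e` is a quotient of the
covering presentation.** -/
theorem exists_cover_hom (σ : Γ →* G) (hσ : Cfsg.IsStemExtension σ)
    (s : ℕ) (hs : ∀ z ∈ σ.ker, z ^ s = 1) (e : ℕ) (he : ∀ z ∈ σ.ker, z ^ e = 1)
    (d : ℕ) (m : ℕ → ℕ) (C T : List (List ℕ))
    (hlt : ∀ r ∈ C ++ T, ∀ c ∈ r, c < 2 * d)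
    (g : ℕ → G) (hgen : Subgroup.closure {y | ∃ i, i < d ∧ y = g i} = ⊤)
    (hm : ∀ i, i < d → g i ^ m i = 1 ∧ (m i).Coprime s)
    (hC : ∀ r ∈ C ++ T, (r.map (lval g)).prod = 1) :
    ∃ ψ : LPG (2 * d) (coverRels d m C T e) →* Γ, Function.Surjective ψ ∧
      ∀ c, c < 2 * d → σ (ψ (ev (2 * d) (coverRels d m C T e) [c])) = lval g c := by
  classical
  -- lifts of the generators of the right orders
  have hex : ∀ i, ∃ x : Γ, i < d → (σ x = g i ∧ x ^ m i = 1) := by
    intro i
    by_cases hi : i < d
    · obtain ⟨x, hx1, hx2⟩ := exists_lift_pow_eq_one σ hσ.1 hσ.2.1 s hs (g i) (m i) (hm i hi).2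
        (hm i hi).1
      exact ⟨x, fun _ => ⟨hx1, hx2⟩⟩
    · exact ⟨1, fun h => absurd h hi⟩
  choose x hx using hex
  have hval : ∀ c, c < 2 * d → σ (lval x c) = lval g c := by
    intro c hc
    unfold lval
    have hi : c / 2 < d := by omega
    split_ifs
    · exact (hx _ hi).1
    · rw [map_inv, (hx _ hi).1]
  have hword : ∀ r : List ℕ, (∀ c ∈ r, c < 2 * d) →
      σ ((r.map (lval x)).prod) = (r.map (lval g)).prod := by
    intro r hr
    rw [map_list_prod, List.map_map]
    congr 1
    apply List.map_congr_left
    intro c hc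
    exact hval c (hr c hc)
  have hker : ∀ r ∈ C ++ T, (r.map (lval x)).prod ∈ σ.ker := by
    intro r hr
    rw [MonoidHom.mem_ker, hword r (hlt r hr), hC r hr]
  have hrel : ∀ l ∈ coverRels d m C T e, (l.map (lval x)).prod = 1 := by
    apply coverRels_hold x d m C T e (fun i hi => (hx i hi).2)
    · intro r hr
      exact hσ.2.1 (hker r (List.mem_append_left _ hr))
    · intro r hr
      exact he _ (hker r (List.mem_append_right _ hr))
  have hLt := coverRels_lt d m C T e hlt
  refine ⟨lift (lval x) hLt hrel, ?_, ?_⟩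
  · -- surjectivity: the lifts generate
    rw [← MonoidHom.range_eq_top, eq_top_iff]
    have hcl : Subgroup.closure {y : Γ | ∃ i, i < d ∧ y = x i} = ⊤ := by
      apply closure_eq_top_of_stem σ hσ
      rw [eq_top_iff, ← hgen]
      apply Subgroup.closure_mono
      rintro y ⟨i, hi, rfl⟩
      exact ⟨x i, ⟨i, hi, rfl⟩, (hx i hi).1⟩
    rw [← hcl, Subgroup.closure_le]
    rintro y ⟨i, hi, rfl⟩
    refine ⟨ev (2 * d) (coverRels d m C T e) [2 * i], ?_⟩
    rw [lift_ev (lval x) hLt hrel [2 * i] (by
      intro c hc
      rw [List.mem_singleton] at hc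
      omega)]
    simp [lval_even]
  · intro c hc
    rw [lift_ev (lval x) hLt hrel [c] (by
      intro c' hc'
      rw [List.mem_singleton] at hc'
      omega)]
    simpa using hval c hc

end main

end Cfsg.Agent.Helper5.StemP
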