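import Mathlib
import Cfsg.Prelude.Def_KGroupFacts
import Cfsg.Agent.Helper5.StemPB
import Cfsg.Agent.Helper3.StemG

/-!
# Schur multipliers from covering presentations

Assembly of the results of `StemPA` and `StemPB`: an upper bound for the order of the kernel of
every finite stem extension of `G` from the order of a covering presentation, and the stem
extension given by the covering presentation itself.
-/

set_option autoImplicit false

namespace Cfsg.Agent.Helper5.StemP

open Cfsg.Agent.Helper5.LP Cfsg.Agent.Helper3.Stem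

universe u v

section bound
variable {G : Type v} [Group G] {Γ : Type u} [Group Γ]

theorem card_eq_card_mul_ker [Finite Γ] (σ : Γ →* G) (hsurj : Function.Surjective σ) :
    Nat.card Γ = Nat.card G * Nat.card σ.ker := by
  have h1 := Subgroup.card_mul_index σ.ker
  rw [Subgroup.index_ker, MonoidHom.range_eq_top.mpr hsurj] at h1
  rw [← h1, mul_comm]
  congr 1
  exact Nat.card_congr Subgroup.topEquiv.toEquiv

theorem card_dvd_of_surjective {E : Type*} [Group E] [Finite E] (ψ : E →* Γ)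
    (hψ : Function.Surjective ψ) : Nat.card Γ ∣ Nat.card E := by
  have : Finite Γ := Finite.of_surjective ψ hψ
  rw [card_eq_card_mul_ker ψ hψ]
  exact dvd_mul_right _ _

/-- **the order of the kernel of the quotient stem extension divides `a`.** -/
theorem card_qmap_ker_dvd [Finite G] [Finite Γ] (σ : Γ →* G) (hσ : Cfsg.IsStemExtension σ)
    (hc : σ.ker ≤ Subgroup.center Γ)
    (s t : ℕ) (hst : Nat.card G = s * t) (E0 : ℕ) (hE0 : ∀ z ∈ σ.ker, z ^ E0 = 1)
    (e : ℕ) (he : Nat.gcd E0 s ∣ e)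
    (d : ℕ) (m : ℕ → ℕ) (C T : List (List ℕ))
    (hlt : ∀ r ∈ C ++ T, ∀ c ∈ r, c < 2 * d)
    (g : ℕ → G) (hgen : Subgroup.closure {y | ∃ i, i < d ∧ y = g i} = ⊤)
    (hm : ∀ i, i < d → g i ^ m i = 1 ∧ (m i).Coprime s)
    (hC : ∀ r ∈ C ++ T, (r.map (lval g)).prod = 1)
    [Finite (LPG (2 * d) (coverRels d m C T e))] (a : ℕ)
    (ha : Nat.card (LPG (2 * d) (coverRels d m C T e)) ∣ Nat.card G * a) :
    Nat.card (qmap σ hc t).ker ∣ a := by
  have hstem := qmap_stem σ hσ hc t
  have hs : ∀ z ∈ (qmap σ hc t).ker, z ^ s = 1 := qmap_ker_pow σ hσ hc hst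
  have hE : ∀ z ∈ (qmap σ hc t).ker, z ^ E0 = 1 := qmap_ker_pow_of σ hc t E0 hE0
  have hee : ∀ z ∈ (qmap σ hc t).ker, z ^ e = 1 := by
    intro z hz
    obtain ⟨k, rfl⟩ := he
    rw [pow_mul, pow_gcd_eq_one.mpr ⟨hE z hz, hs z hz⟩, one_pow]
  obtain ⟨ψ, hψ, -⟩ := exists_cover_hom (qmap σ hc t) hstem s hs e hee d m C T hlt g hgen hm hC
  have h1 := card_dvd_of_surjective ψ hψ
  rw [card_eq_card_mul_ker (qmap σ hc t) hstem.1] at h1
  have h2 := h1.trans ha
  have hG : 0 < Nat.card G := Nat.card_pos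
  exact Nat.dvd_of_mul_dvd_mul_left hG h2

/-- the elements of the kernel of a finite stem extension have order prime to every prime whose
square does not divide `|G|`. -/
theorem eq_one_of_pow_eq_one [Finite G] [Finite Γ] (σ : Γ →* G) (hσ : Cfsg.IsStemExtension σ)
    (t : ℕ) (ht : ∀ q : ℕ, q.Prime → q ∣ t → ¬ q ^ 2 ∣ Nat.card G) (z : Γ) (hz : z ∈ σ.ker)
    (hzt : z ^ t = 1) : z = 1 := by
  by_contra hne
  have hord : orderOf z ≠ 1 := by
    rw [Ne, orderOf_eq_one_iff]
    exact hne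
  obtain ⟨q, hq, hqd⟩ := Nat.exists_prime_and_dvd hord
  have hqt : q ∣ t := hqd.trans (orderOf_dvd_of_pow_eq_one hzt)
  obtain ⟨U, hU1, hU2⟩ := exists_good_of_not_sq_dvd σ hσ.2.1 hσ.1 q hq (ht q hq hqt)
  have h1 := pow_index_eq_one_of_good σ hσ U hU2 z hz
  exact hU1 (hqd.trans (orderOf_dvd_of_pow_eq_one h1))

/-- **the order of the kernel of every finite stem extension divides `a`**, if the primes
dividing `t` divide `|G|` only once. -/
theorem card_ker_dvd [Finite G] [Finite Γ] (σ : Γ →* G) (hσ : Cfsg.IsStemExtension σ)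
    (s t : ℕ) (hst : Nat.card G = s * t)
    (ht : ∀ q : ℕ, q.Prime → q ∣ t → ¬ q ^ 2 ∣ Nat.card G)
    (E0 : ℕ) (hE0 : ∀ z ∈ σ.ker, z ^ E0 = 1)
    (e : ℕ) (he : Nat.gcd E0 s ∣ e)
    (d : ℕ) (m : ℕ → ℕ) (C T : List (List ℕ))
    (hlt : ∀ r ∈ C ++ T, ∀ c ∈ r, c < 2 * d)
    (g : ℕ → G) (hgen : Subgroup.closure {y | ∃ i, i < d ∧ y = g i} = ⊤)
    (hm : ∀ i, i < d → g i ^ m i = 1 ∧ (m i).Coprime s)
    (hC : ∀ r ∈ C ++ T, (r.map (lval g)).prod = 1)
    [Finite (LPG (2 * d) (coverRels d m C T e))] (a : ℕ)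
    (ha : Nat.card (LPG (2 * d) (coverRels d m C T e)) ∣ Nat.card G * a) :
    Nat.card σ.ker ∣ a := by
  rw [← card_qmap_ker σ hσ.2.1 t (fun z hz hzt => eq_one_of_pow_eq_one σ hσ t ht z hz hzt)]
  exact card_qmap_ker_dvd σ hσ hσ.2.1 s t hst E0 hE0 e he d m C T hlt g hgen hm hC a ha

end bound

section exist
variable {G : Type v} [Group G] {E : Type u} [Group E]

/-- in a group generated by elements killed by `M`, every element of the abelianization is killed
by `M`. -/
theorem abelianization_pow_eq_one (S : Set E) (hS : Subgroup.closure S = ⊤) (M : ℕ)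
    (hM : ∀ x ∈ S, x ^ M = 1) (y : Abelianization E) : y ^ M = 1 := by
  obtain ⟨x, rfl⟩ := QuotientGroup.mk_surjective y
  change (Abelianization.of x) ^ M = 1
  have hx : x ∈ Subgroup.closure S := by rw [hS]; exact Subgroup.mem_top x
  induction hx using Subgroup.closure_induction with
  | mem x hx => rw [← map_pow, hM x hx, map_one]
  | one => rw [map_one, one_pow]
  | mul a b _ _ ha hb => rw [map_mul, mul_pow, ha, hb, one_mul]
  | inv a _ ha => rw [map_inv, inv_pow, ha, inv_one]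

/-- **the stem extension given by a central subgroup of the right order.** -/
theorem isStem_of_central [Finite E] (π : E →* G) (hπ : Function.Surjective π)
    (K0 : Subgroup E) (hK0c : K0 ≤ Subgroup.center E) (hK0k : K0 ≤ π.ker)
    (hcard : Nat.card π.ker ≤ Nat.card K0)
    (S : Set E) (hS : Subgroup.closure S = ⊤) (M : ℕ) (hM : ∀ x ∈ S, x ^ M = 1)
    (a : ℕ) (hK0a : ∀ z ∈ K0, z ^ a = 1) (hcop : M.Coprime a) :
    Cfsg.IsStemExtension π ∧ π.ker = K0 := by
  have heq : π.ker = K0 := (Subgroup.eq_of_le_of_card_ge hK0k hcard).symm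
  refine ⟨⟨hπ, ?_, ?_⟩, heq⟩
  · rw [heq]
    exact hK0c
  · rw [heq]
    intro z hz
    rw [← Abelianization.ker_of, MonoidHom.mem_ker]
    have h1 : (Abelianization.of z) ^ M = 1 := abelianization_pow_eq_one S hS M hM _
    have h2 : (Abelianization.of z) ^ a = 1 := by rw [← map_pow, hK0a z hz, map_one]
    have h3 := pow_gcd_eq_one.mpr ⟨h1, h2⟩
    rwa [hcop, pow_one] at h3

/-- the order of the kernel of a surjection. -/
theorem card_ker_dvd_of_card_dvd [Finite E] [Finite G] (π : E →* G) (hπ : Function.Surjective π)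
    (a : ℕ) (ha : Nat.card E ∣ Nat.card G * a) : Nat.card π.ker ∣ a := by
  rw [card_eq_card_mul_ker π hπ] at ha
  exact Nat.dvd_of_mul_dvd_mul_left Nat.card_pos ha

end exist

end Cfsg.Agent.Helper5.StemP
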