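import Mathlib
import Cfsg.Agent.Helper5.StemPC
import Cfsg.Agent.Helper3.StemTwoGen

/-!
# Schur multipliers from covering presentations: the final assembly

`index_zpowers_eq`, `pow_gcd_index_eq_one` (a priori exponent of the kernel of a stem extension from
two cyclic subgroups), `exists_surjective_of_card_dvd` (an abelian group of order dividing a
squarefree `a` is an image of `ZMod a`), `hasCyclic_of_bound_and_cover`.
-/

set_option autoImplicit false

namespace Cfsg.Agent.Helper5.StemP

universe u v

section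
variable {G : Type u} [Group G]

/-- the index of a cyclic subgroup. -/
theorem index_zpowers_eq [Finite G] (x : G) (k n : ℕ) (hk : orderOf x = k) (hk0 : 0 < k)
    (hG : Nat.card G = n * k) : (Subgroup.zpowers x).index = n := by
  have h := Subgroup.card_mul_index (Subgroup.zpowers x)
  rw [Nat.card_zpowers, hk, hG, mul_comm] at h
  exact Nat.eq_of_mul_eq_mul_right hk0 h

/-- the kernel of a finite stem extension is killed by the gcd of the indices of two cyclic
subgroups. -/
theorem pow_gcd_index_eq_one {Γ : Type v} [Group Γ] [Finite Γ] (σ : Γ →* G)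
    (hσ : Cfsg.IsStemExtension σ) (u1 u2 : G) (z : Γ) (hz : z ∈ σ.ker) :
    z ^ Nat.gcd (Subgroup.zpowers u1).index (Subgroup.zpowers u2).index = 1 :=
  pow_gcd_eq_one.mpr
    ⟨pow_index_zpowers_eq_one σ hσ u1 z hz, pow_index_zpowers_eq_one σ hσ u2 z hz⟩

/-- a finite central subgroup of order dividing a squarefree number `a` is a homomorphic image of
the cyclic group of order `a`. -/
theorem exists_surjective_of_card_dvd {Γ : Type v} [Group Γ] (K : Subgroup Γ) [Finite K]
    (hK : K ≤ Subgroup.center Γ) (a : ℕ) (hsq : Squarefree a) (hcard : Nat.card K ∣ a) :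
    ∃ π : Multiplicative (ZMod a) →* K, Function.Surjective π := by
  have hZ : IsZGroup K := IsZGroup.of_squarefree (hsq.squarefree_of_dvd hcard)
  have hcomm : ∀ x y : K, x * y = y * x := by
    intro x y
    apply Subtype.ext
    rw [Subgroup.coe_mul, Subgroup.coe_mul]
    exact ((Subgroup.mem_center_iff.mp (hK x.2)) y.1).symm
  have hnil : Group.IsNilpotent K := by
    letI : CommGroup K := { (inferInstance : Group K) with mul_comm := hcomm }
    exact CommGroup.isNilpotent
  have hcyc : IsCyclic K := inferInstance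
  obtain ⟨c, hc⟩ := hcyc.exists_generator
  have hca : (c : Γ) ^ a = 1 := by
    obtain ⟨j, rfl⟩ := hcard
    have h1 : c ^ Nat.card K = 1 := pow_card_eq_one'
    rw [pow_mul, ← Subgroup.coe_pow, h1, Subgroup.coe_one, one_pow]
  apply Cfsg.Agent.Helper3.exists_surjective_of_le_zpowers K (c : Γ) a hca
  intro x hx
  obtain ⟨j, hj⟩ := Subgroup.mem_zpowers_iff.mp (hc ⟨x, hx⟩)
  rw [Subgroup.mem_zpowers_iff]
  refine ⟨j, ?_⟩
  have := congrArg Subtype.val hj
  rwa [Subgroup.coe_zpow] at this

/-- **Schur multiplier cyclic of squarefree order `a`** from a bound for the kernels of the finite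
stem extensions and a finite central extension `π : E → G` of order `|G| a` containing a central
element of order `a` in the kernel, the group `E` being generated by elements of orders prime
to `a`. -/
theorem hasCyclic_of_bound_and_cover [Finite G] (a : ℕ) (hsq : Squarefree a)
    (hbound : ∀ (Γ : Type u) [Group Γ] [Finite Γ] (σ : Γ →* G), Cfsg.IsStemExtension σ →
      Nat.card σ.ker ∣ a)
    (E : Type u) [Group E] [Finite E] (π : E →* G) (hπ : Function.Surjective π)
    (hcard : Nat.card E ∣ Nat.card G * a)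
    (z0 : E) (hz0c : z0 ∈ Subgroup.center E) (hz0k : z0 ∈ π.ker)
    (hord : ∀ p : ℕ, p.Prime → p ∣ a → z0 ^ (a / p) ≠ 1)
    (S : Set E) (hS : Subgroup.closure S = ⊤) (M : ℕ) (hM : ∀ x ∈ S, x ^ M = 1)
    (hcop : M.Coprime a) :
    Cfsg.HasCyclicSchurMultiplier G a := by
  have ha0 : 0 < a := Nat.pos_of_ne_zero hsq.ne_zero
  have hkd : Nat.card π.ker ∣ a := card_ker_dvd_of_card_dvd π hπ a hcard
  have hpow : ∀ z ∈ π.ker, z ^ a = 1 := by
    intro z hz
    obtain ⟨j, hj⟩ := hkd
    have h1 : (⟨z, hz⟩ : π.ker) ^ Nat.card π.ker = 1 := pow_card_eq_one'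
    have h2 := congrArg Subtype.val h1
    rw [Subgroup.coe_pow, Subgroup.coe_one] at h2
    rw [hj, pow_mul, h2, one_pow]
  have hz0a : orderOf z0 = a := orderOf_eq_of_pow_and_pow_div_prime ha0 (hpow z0 hz0k) hord
  have hK0c : Subgroup.zpowers z0 ≤ Subgroup.center E := by
    rw [Subgroup.zpowers_le]
    exact hz0c
  have hK0k : Subgroup.zpowers z0 ≤ π.ker := by
    rw [Subgroup.zpowers_le]
    exact hz0k
  have hK0card : Nat.card (Subgroup.zpowers z0) = a := by rw [Nat.card_zpowers, hz0a]
  have hle : Nat.card π.ker ≤ Nat.card (Subgroup.zpowers z0) := by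
    rw [hK0card]
    exact Nat.le_of_dvd ha0 hkd
  obtain ⟨hstem, hker⟩ := isStem_of_central π hπ (Subgroup.zpowers z0) hK0c hK0k hle S hS M hM a
    (fun z hz => hpow z (hK0k hz)) hcop
  refine ⟨⟨E, inferInstance, inferInstance, π, hstem, ?_⟩, ?_⟩
  · have hcyc : IsCyclic π.ker := by
      rw [hker]
      infer_instance
    have hc2 : IsCyclic (Multiplicative (ZMod a)) := inferInstance
    have hcard2 : Nat.card π.ker = Nat.card (Multiplicative (ZMod a)) := by
      rw [hker, hK0card]
      change _ = Nat.card (ZMod a)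
      rw [Nat.card_zmod]
    exact ⟨mulEquivOfCyclicCardEq hcard2⟩
  · intro Γ _ _ σ hσ
    exact exists_surjective_of_card_dvd σ.ker hσ.2.1 a hsq (hbound Γ σ hσ)

end

end Cfsg.Agent.Helper5.StemP
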