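import Mathlib
import Cfsg.Agent.Helper5.StemPD
import Cfsg.Agent.Helper5.LPI
import Cfsg.Agent.Helper5.LPF

/-!
# Schur multipliers from covering presentations: the covering group as a list-presented group

`card_dvd_base` (order of a list-presented group from the index of the subgroup generated by the
first letter), `cover_center`, `cover_ker`, `hasCyclic_of_coverRels`.
-/

set_option autoImplicit false

namespace Cfsg.Agent.Helper5.StemP

open Cfsg.Agent.Helper5.LP

section base
variable {k : ℕ} {R : List (List ℕ)}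

theorem ev_replicate_letter (c : ℕ) : ∀ n : ℕ, ev k R (List.replicate n c) = ev k R [c] ^ n
  | 0 => by simp [ev_nil]
  | n + 1 => by
    rw [List.replicate_succ, ev_cons, ev_replicate_letter c n, pow_succ']

/-- **the base of the divisibility bound**: the first generator has order dividing `m0`, the
subgroup it generates has index `N`. -/
theorem card_dvd_base {m0 : ℕ} (hrel : List.replicate m0 0 ∈ R) (hm0 : 0 < m0) {N : ℕ}
    (hN : 0 < N) (hidx : (para k R 1).index = N) :
    Finite (LPG k R) ∧ Nat.card (LPG k R) ∣ N * m0 := by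
  have hpara : para k R 1 = Subgroup.zpowers (ev k R [0]) := by
    unfold para
    rw [Subgroup.zpowers_eq_closure]
    congr 1
    ext x
    constructor
    · rintro ⟨s, hs, rfl⟩
      obtain ⟨c, hc, rfl⟩ := mem_letterWords.mp hs
      have : c = 0 := by omega
      rw [this]
      exact Set.mem_singleton _
    · intro hx
      rw [Set.mem_singleton_iff] at hx
      exact ⟨[0], mem_letterWords.mpr ⟨0, by norm_num, rfl⟩, hx⟩
  have hord : orderOf (ev k R [0]) ∣ m0 := by
    apply orderOf_dvd_of_pow_eq_one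
    rw [← ev_replicate_letter]
    exact ev_rel hrel
  have hpos : 0 < orderOf (ev k R [0]) := Nat.pos_of_dvd_of_pos hord hm0
  have hmul := Subgroup.card_mul_index (para k R 1)
  rw [hidx, hpara, Nat.card_zpowers] at hmul
  have hne : Nat.card (LPG k R) ≠ 0 := by
    rw [← hmul]
    exact Nat.mul_ne_zero hpos.ne' hN.ne'
  refine ⟨Nat.finite_of_card_ne_zero hne, ?_⟩
  rw [← hmul, mul_comm]
  exact Nat.mul_dvd_mul_left N hord

end base

section cover
variable (d : ℕ) (m : ℕ → ℕ) (C T : List (List ℕ)) (e : ℕ)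

theorem mem_coverRels_inv {i : ℕ} (hi : i < d) : [2 * i, 2 * i + 1] ∈ coverRels d m C T e := by
  unfold coverRels
  apply List.mem_append_left
  apply List.mem_append_left
  rw [List.mem_flatMap]
  exact ⟨i, List.mem_range.mpr hi, by simp⟩

theorem mem_coverRels_pow {i : ℕ} (hi : i < d) :
    List.replicate (m i) (2 * i) ∈ coverRels d m C T e := by
  unfold coverRels
  apply List.mem_append_left
  apply List.mem_append_left
  rw [List.mem_flatMap]
  exact ⟨i, List.mem_range.mpr hi, by simp⟩

theorem mem_coverRels_comm {r : List ℕ} (hr : r ∈ C) {i : ℕ} (hi : i < d) :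
    r ++ [2 * i] ++ winv r ++ [2 * i + 1] ∈ coverRels d m C T e := by
  unfold coverRels
  apply List.mem_append_left
  apply List.mem_append_right
  rw [List.mem_flatMap]
  refine ⟨r, hr, ?_⟩
  rw [List.mem_map]
  exact ⟨i, List.mem_range.mpr hi, rfl⟩

/-- abbreviation: the covering group. -/
abbrev CovG : Type := LPG (2 * d) (coverRels d m C T e)

/-- the generators of the covering group. -/
noncomputable def cgen (i : ℕ) : CovG d m C T e := ev (2 * d) (coverRels d m C T e) [2 * i]

theorem ev_odd {i : ℕ} (hi : i < d) :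
    ev (2 * d) (coverRels d m C T e) [2 * i + 1] = (cgen d m C T e i)⁻¹ := by
  have h := ev_rel (k := 2 * d) (mem_coverRels_inv d m C T e hi)
  rw [ev_cons] at h
  unfold cgen
  exact (inv_eq_of_mul_eq_one_right h).symm ▸ rfl

theorem ev_letter {c : ℕ} (hc : c < 2 * d) :
    ev (2 * d) (coverRels d m C T e) [c] = lval (cgen d m C T e) c := by
  obtain ⟨i, rfl | rfl⟩ : ∃ i, c = 2 * i ∨ c = 2 * i + 1 := ⟨c / 2, by omega⟩
  · rw [lval_even]
    rfl
  · rw [lval_odd, ev_odd d m C T e (by omega)]

theorem ev_eq_prod : ∀ l : List ℕ, (∀ c ∈ l, c < 2 * d) →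
    ev (2 * d) (coverRels d m C T e) l = (l.map (lval (cgen d m C T e))).prod
  | [], _ => by simp [ev_nil]
  | c :: l, h => by
    rw [ev_cons, List.map_cons, List.prod_cons,
      ev_eq_prod l (fun c hc => h c (List.mem_cons_of_mem _ hc)),
      ev_letter d m C T e (h c List.mem_cons_self)]

theorem winv_lt {r : List ℕ} (hr : ∀ c ∈ r, c < 2 * d) : ∀ c ∈ winv r, c < 2 * d := by
  intro c hc
  unfold winv at hc
  rw [List.mem_reverse, List.mem_map] at hc
  obtain ⟨c', hc', rfl⟩ := hc
  exact linv_lt (hr c' hc')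

theorem ev_winv {r : List ℕ} (hr : ∀ c ∈ r, c < 2 * d) :
    ev (2 * d) (coverRels d m C T e) (winv r) = (ev (2 * d) (coverRels d m C T e) r)⁻¹ := by
  rw [ev_eq_prod d m C T e _ (winv_lt d hr), prod_winv, ev_eq_prod d m C T e r hr]

theorem cgen_pow {i : ℕ} (hi : i < d) : cgen d m C T e i ^ m i = 1 := by
  unfold cgen
  rw [← ev_replicate_letter]
  exact ev_rel (mem_coverRels_pow d m C T e hi)

theorem closure_cgen :
    Subgroup.closure {x : CovG d m C T e | ∃ i, i < d ∧ x = cgen d m C T e i} = ⊤ := by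
  rw [eq_top_iff, ← closure_gens (k := 2 * d) (R := coverRels d m C T e), Subgroup.closure_le]
  rintro x ⟨c, hc, rfl⟩
  rw [ev_letter d m C T e hc]
  unfold lval
  have hi : c / 2 < d := by omega
  split_ifs
  · exact Subgroup.subset_closure ⟨c / 2, hi, rfl⟩
  · exact inv_mem (Subgroup.subset_closure ⟨c / 2, hi, rfl⟩)

/-- the words of `C` are central in the covering group. -/
theorem cover_center {r : List ℕ} (hr : r ∈ C) (hlt : ∀ c ∈ r, c < 2 * d) :
    ev (2 * d) (coverRels d m C T e) r ∈ Subgroup.center (CovG d m C T e) := by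
  have hcomm : ∀ i, i < d → cgen d m C T e i * ev (2 * d) (coverRels d m C T e) r =
      ev (2 * d) (coverRels d m C T e) r * cgen d m C T e i := by
    intro i hi
    have h := ev_rel (k := 2 * d) (mem_coverRels_comm d m C T e hr hi)
    rw [ev_append, ev_append, ev_append, ev_winv d m C T e hlt, ev_odd d m C T e hi] at h
    change _ * cgen d m C T e i * _ * _ = 1 at h
    have h2 := mul_inv_eq_one.mp h
    have h3 := mul_inv_eq_iff_eq_mul.mp h2
    exact h3.symm
  have hcen : Subgroup.closure {x : CovG d m C T e | ∃ i, i < d ∧ x = cgen d m C T e i} ≤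
      Subgroup.centralizer {ev (2 * d) (coverRels d m C T e) r} := by
    rw [Subgroup.closure_le]
    rintro x ⟨i, hi, rfl⟩
    rw [SetLike.mem_coe, Subgroup.mem_centralizer_iff]
    intro y hy
    rw [Set.mem_singleton_iff] at hy
    rw [hy]
    exact (hcomm i hi).symm
  rw [closure_cgen] at hcen
  rw [Subgroup.mem_center_iff]
  intro x
  have := hcen (Subgroup.mem_top x)
  rw [Subgroup.mem_centralizer_iff] at this
  exact (this _ (Set.mem_singleton _)).symm

theorem ev_flatten {k : ℕ} {R : List (List ℕ)} : ∀ ws : List (List ℕ),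
    ev k R ws.flatten = (ws.map (ev k R)).prod
  | [] => by simp [ev_nil]
  | w :: ws => by rw [List.flatten_cons, ev_append, ev_flatten ws, List.map_cons, List.prod_cons]

end cover

section final
variable {G : Type} [Group G]

/-- the natural map of the covering group onto `G`. -/
noncomputable def coverHom (d : ℕ) (m : ℕ → ℕ) (C T : List (List ℕ)) (e : ℕ)
    (hlt : ∀ r ∈ C ++ T, ∀ c ∈ r, c < 2 * d) (g : ℕ → G)
    (hm : ∀ i, i < d → g i ^ m i = 1)
    (hC : ∀ r ∈ C ++ T, (r.map (lval g)).prod = 1) : CovG d m C T e →* G :=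
  lift (lval g) (coverRels_lt d m C T e hlt) (coverRels_hold_base g d m C T e hm hC)

theorem coverHom_ev (d : ℕ) (m : ℕ → ℕ) (C T : List (List ℕ)) (e : ℕ)
    (hlt : ∀ r ∈ C ++ T, ∀ c ∈ r, c < 2 * d) (g : ℕ → G)
    (hm : ∀ i, i < d → g i ^ m i = 1)
    (hC : ∀ r ∈ C ++ T, (r.map (lval g)).prod = 1) (l : List ℕ) (hl : ∀ c ∈ l, c < 2 * d) :
    coverHom d m C T e hlt g hm hC (ev (2 * d) (coverRels d m C T e) l) =
      (l.map (lval g)).prod :=
  lift_ev _ _ _ l hl

theorem coverHom_surjective (d : ℕ) (m : ℕ → ℕ) (C T : List (List ℕ)) (e : ℕ)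
    (hlt : ∀ r ∈ C ++ T, ∀ c ∈ r, c < 2 * d) (g : ℕ → G)
    (hm : ∀ i, i < d → g i ^ m i = 1)
    (hC : ∀ r ∈ C ++ T, (r.map (lval g)).prod = 1)
    (hgen : Subgroup.closure {y | ∃ i, i < d ∧ y = g i} = ⊤) :
    Function.Surjective (coverHom d m C T e hlt g hm hC) := by
  rw [← MonoidHom.range_eq_top, eq_top_iff, ← hgen, Subgroup.closure_le]
  rintro y ⟨i, hi, rfl⟩
  refine ⟨cgen d m C T e i, ?_⟩
  unfold cgen
  rw [coverHom_ev d m C T e hlt g hm hC [2 * i] (by
    intro c hc
    rw [List.mem_singleton] at hc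
    omega)]
  simp [lval_even]

/-- **Schur multiplier cyclic of squarefree order `a`** from a bound for the kernels of the finite
stem extensions and a covering presentation of order dividing `|G| a` in which a product of words
of `C` has order at least `a`. -/
theorem hasCyclic_of_coverRels [Finite G] (a : ℕ) (hsq : Squarefree a)
    (hbound : ∀ (Γ : Type) [Group Γ] [Finite Γ] (σ : Γ →* G), Cfsg.IsStemExtension σ →
      Nat.card σ.ker ∣ a)
    (d : ℕ) (m : ℕ → ℕ) (C T : List (List ℕ)) (e : ℕ)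
    (hlt : ∀ r ∈ C ++ T, ∀ c ∈ r, c < 2 * d) (g : ℕ → G)
    (hgen : Subgroup.closure {y | ∃ i, i < d ∧ y = g i} = ⊤)
    (hm : ∀ i, i < d → g i ^ m i = 1)
    (hC : ∀ r ∈ C ++ T, (r.map (lval g)).prod = 1)
    [Finite (CovG d m C T e)]
    (hcard : Nat.card (CovG d m C T e) ∣ Nat.card G * a)
    (ws : List (List ℕ)) (hws : ∀ w ∈ ws, w ∈ C)
    (hord : ∀ p : ℕ, p.Prime → p ∣ a →
      ev (2 * d) (coverRels d m C T e) ws.flatten ^ (a / p) ≠ 1)
    (M : ℕ) (hM : ∀ i, i < d → m i ∣ M) (hcop : M.Coprime a) :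
    Cfsg.HasCyclicSchurMultiplier G a := by
  have hwlt : ∀ w ∈ ws, ∀ c ∈ w, c < 2 * d := fun w hw =>
    hlt w (List.mem_append_left _ (hws w hw))
  apply hasCyclic_of_bound_and_cover a hsq hbound (CovG d m C T e)
    (coverHom d m C T e hlt g hm hC) (coverHom_surjective d m C T e hlt g hm hC hgen) hcard
    (ev (2 * d) (coverRels d m C T e) ws.flatten) ?_ ?_ hord
    {x | ∃ i, i < d ∧ x = cgen d m C T e i} (closure_cgen d m C T e) M ?_ hcop
  · rw [ev_flatten]
    apply Subgroup.list_prod_mem
    intro x hx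
    obtain ⟨w, hw, rfl⟩ := List.mem_map.mp hx
    exact cover_center d m C T e (hws w hw) (hwlt w hw)
  · rw [ev_flatten]
    apply Subgroup.list_prod_mem
    intro x hx
    obtain ⟨w, hw, rfl⟩ := List.mem_map.mp hx
    rw [MonoidHom.mem_ker, coverHom_ev d m C T e hlt g hm hC w (hwlt w hw)]
    exact hC w (List.mem_append_left _ (hws w hw))
  · rintro x ⟨i, hi, rfl⟩
    obtain ⟨j, hj⟩ := hM i hi
    rw [hj, pow_mul, cgen_pow d m C T e hi, one_pow]

end final

end Cfsg.Agent.Helper5.StemP
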