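import Mathlib
import Cfsg.Prelude.Def_KGroupFacts
import Cfsg.Agent.Helper3.SchurMultB

/-!
# Schur multipliers: assembly from one stem extension and a bound for the orders of the kernels,
and transport along isomorphisms

`hasSchurMultiplier_of_exists_of_card_le`: if some finite stem extension of `Q` has kernel
isomorphic to `A` and the kernel of every finite stem extension of `Q` has at most `|A|` elements,
then the Schur multiplier of `Q` is `A`.

`hasSchurMultiplier_congr`: transport along an isomorphism of groups, possibly changing the universe.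
-/

set_option autoImplicit false

namespace Cfsg.Agent.Helper5.StemP

open Cfsg.Agent.Helper3.SchurMult

universe u v w

section assembly
variable {Q : Type u} [Group Q] [Finite Q]

theorem hasSchurMultiplier_of_exists_of_card_le {A : Type v} [CommGroup A] [Finite A]
    (hex : ∃ (Γ : Type u) (_ : Group Γ) (_ : Finite Γ) (σ : Γ →* Q),
      Cfsg.IsStemExtension σ ∧ Nonempty (σ.ker ≃* A))
    (hbound : ∀ (Γ : Type u) [Group Γ] [Finite Γ] (σ : Γ →* Q), Cfsg.IsStemExtension σ →
      Nat.card σ.ker ≤ Nat.card A) :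
    Cfsg.HasSchurMultiplier Q A := by
  obtain ⟨Γ₀, hG₀, hF₀, σ₀, hσ₀, ⟨e₀⟩⟩ := hex
  refine ⟨⟨Γ₀, hG₀, hF₀, σ₀, hσ₀, ⟨e₀⟩⟩, ?_⟩
  -- the Hopf multiplier
  have hfin : Finite (mult (id : Q → Q)) := mult_finite _ pres_id_surjective
  obtain ⟨Γ₁, hG₁, hF₁, σ₁, hσ₁, ⟨e₁⟩⟩ := exists_cover (id : Q → Q) pres_id_surjective
  have h1 : Nat.card (mult (id : Q → Q)) ≤ Nat.card A := by
    rw [Nat.card_congr e₁.toEquiv]
    exact hbound Γ₁ σ₁ hσ₁
  obtain ⟨π₀, hπ₀⟩ := exists_surjective_mult_ker (id : Q → Q) σ₀ hσ₀ pres_id_surjective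
  -- `mult → ker σ₀ ≃ A` is a bijection
  have hbij : Function.Bijective (e₀.toMonoidHom.comp π₀) :=
    Function.Surjective.bijective_of_nat_card_le (f := e₀.toMonoidHom.comp π₀)
      (e₀.surjective.comp hπ₀) h1
  let ε : mult (id : Q → Q) ≃* A := MulEquiv.ofBijective (e₀.toMonoidHom.comp π₀) hbij
  intro Γ _ _ σ hσ
  obtain ⟨π, hπ⟩ := exists_surjective_mult_ker (id : Q → Q) σ hσ pres_id_surjective
  exact ⟨π.comp ε.symm.toMonoidHom, hπ.comp ε.symm.surjective⟩

end assembly

section transport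

/-- a stem extension composed with an isomorphism of the base is a stem extension. -/
theorem isStem_comp_equiv {Γ : Type*} {G G' : Type*} [Group Γ] [Group G] [Group G']
    (σ : Γ →* G) (hσ : Cfsg.IsStemExtension σ) (e : G ≃* G') :
    Cfsg.IsStemExtension (e.toMonoidHom.comp σ) ∧ (e.toMonoidHom.comp σ).ker = σ.ker := by
  have hk : (e.toMonoidHom.comp σ).ker = σ.ker := by
    ext x
    rw [MonoidHom.mem_ker, MonoidHom.mem_ker, MonoidHom.comp_apply]
    exact e.map_eq_one_iff
  refine ⟨⟨e.surjective.comp hσ.1, ?_, ?_⟩, hk⟩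
  · rw [hk]; exact hσ.2.1
  · rw [hk]; exact hσ.2.2

/-- a stem extension precomposed with an isomorphism of the middle group. -/
theorem isStem_equiv_comp {Γ Γ' : Type*} {G : Type*} [Group Γ] [Group Γ'] [Group G]
    (σ : Γ →* G) (hσ : Cfsg.IsStemExtension σ) (e : Γ' ≃* Γ) :
    Cfsg.IsStemExtension (σ.comp e.toMonoidHom) := by
  have hk : ∀ x, x ∈ (σ.comp e.toMonoidHom).ker ↔ e x ∈ σ.ker := fun x => Iff.rfl
  refine ⟨hσ.1.comp e.surjective, ?_, ?_⟩
  · intro x hx
    have h1 := hσ.2.1 ((hk x).mp hx)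
    rw [Subgroup.mem_center_iff] at h1 ⊢
    intro y
    apply e.injective
    rw [map_mul, map_mul]
    exact h1 (e y)
  · intro x hx
    have h1 : e x ∈ commutator Γ := hσ.2.2 ((hk x).mp hx)
    have h2 : (commutator Γ).comap e.toMonoidHom ≤ commutator Γ' := by
      intro y hy
      have h3 : e y ∈ commutator Γ := hy
      have h4 : e.symm (e y) ∈ (commutator Γ).map e.symm.toMonoidHom :=
        Subgroup.mem_map_of_mem _ h3
      rw [MulEquiv.symm_apply_apply] at h4
      have h5 : (commutator Γ).map e.symm.toMonoidHom ≤ commutator Γ' := by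
        rw [commutator_def, Subgroup.map_commutator, commutator_def]
        exact Subgroup.commutator_mono le_top le_top
      exact h5 h4
    exact h2 h1

/-- the kernel of `σ ∘ e` is isomorphic to the kernel of `σ`. -/
noncomputable def kerEquivComp {Γ Γ' : Type*} {G : Type*} [Group Γ] [Group Γ'] [Group G]
    (σ : Γ →* G) (e : Γ' ≃* Γ) : (σ.comp e.toMonoidHom).ker ≃* σ.ker where
  toFun x := ⟨e x.1, x.2⟩
  invFun y := ⟨e.symm y.1, by
    change σ (e (e.symm y.1)) = 1
    rw [MulEquiv.apply_symm_apply]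
    exact y.2⟩
  left_inv x := by apply Subtype.ext; exact e.symm_apply_apply x.1
  right_inv y := by apply Subtype.ext; exact e.apply_symm_apply y.1
  map_mul' x y := by apply Subtype.ext; exact map_mul e x.1 y.1

/-- a type with `n` elements in any universe, without algebraic structure. -/
def Carrier (n : ℕ) : Type v := ULift.{v} (Fin n)

/-- the equivalence with `Fin n`. -/
def carrierEquiv (n : ℕ) : Carrier.{v} n ≃ Fin n := Equiv.ulift

instance (n : ℕ) : Finite (Carrier.{v} n) := Finite.of_equiv _ (carrierEquiv n).symm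

/-- **transport of the Schur multiplier along an isomorphism**, possibly changing the universe. -/
theorem hasSchurMultiplier_congr {G : Type u} {G' : Type v} [Group G] [Group G'] (e : G ≃* G')
    {A : Type w} [CommGroup A] (h : Cfsg.HasSchurMultiplier G A) :
    Cfsg.HasSchurMultiplier G' A := by
  obtain ⟨⟨Γ, hG, hF, σ, hσ, ⟨ε⟩⟩, h2⟩ := h
  refine ⟨?_, ?_⟩
  · -- move `Γ` to the universe of `G'`
    obtain ⟨n, ⟨f⟩⟩ := Finite.exists_equiv_fin Γ
    let Γ' : Type v := Carrier.{v} n
    let f' : Γ' ≃ Γ := (carrierEquiv n).trans f.symm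
    let _ : Group Γ' := f'.group
    let φ : Γ' ≃* Γ := f'.mulEquiv
    obtain ⟨hs1, hk1⟩ := isStem_comp_equiv σ hσ e
    have hs2 := isStem_equiv_comp (e.toMonoidHom.comp σ) hs1 φ
    refine ⟨Γ', inferInstance, inferInstance, (e.toMonoidHom.comp σ).comp φ.toMonoidHom, hs2, ⟨?_⟩⟩
    exact ((kerEquivComp (e.toMonoidHom.comp σ) φ).trans (MulEquiv.subgroupCongr hk1)).trans ε
  · intro Γ' _ _ σ' hσ'
    -- move `Γ'` to the universe of `G`
    obtain ⟨n, ⟨f⟩⟩ := Finite.exists_equiv_fin Γ'
    let Γ : Type u := Carrier.{u} n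
    let f' : Γ ≃ Γ' := (carrierEquiv n).trans f.symm
    let _ : Group Γ := f'.group
    let φ : Γ ≃* Γ' := f'.mulEquiv
    obtain ⟨hs1, hk1⟩ := isStem_comp_equiv σ' hσ' e.symm
    have hs2 := isStem_equiv_comp (e.symm.toMonoidHom.comp σ') hs1 φ
    obtain ⟨π, hπ⟩ := h2 Γ ((e.symm.toMonoidHom.comp σ').comp φ.toMonoidHom) hs2
    let κ := (kerEquivComp (e.symm.toMonoidHom.comp σ') φ).trans (MulEquiv.subgroupCongr hk1)
    exact ⟨κ.toMonoidHom.comp π, κ.surjective.comp hπ⟩

end transport

end Cfsg.Agent.Helper5.StemP
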