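import Mathlib
import Cfsg.Prelude.Def_KGroupFacts
import Cfsg.Agent.Helper3.SchurMultB
import Cfsg.Agent.Helper5.StemPA
import Cfsg.Agent.Helper5.StemPC
import Cfsg.Agent.Helper5.StemPH

/-!
# Schur multipliers which are products of two groups of coprime orders

`card_ker_le_mul`: the order of the kernel of a stem extension is at most the product of the orders
of the kernels of two quotients.

`hasSchurMultiplier_prod`: if `A` and `B` have coprime orders, both are kernels of finite stem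
extensions of `Q` and the kernel of every finite stem extension has at most `|A| |B|` elements,
then the Schur multiplier of `Q` is `A × B`.

`stem_c4c4`, `stem_cyclic`: recognition of central extensions as stem extensions with kernel
`C₄ × C₄`, respectively cyclic.
-/

set_option autoImplicit false

namespace Cfsg.Agent.Helper5.StemP

open Cfsg.Agent.Helper3.SchurMult

universe u v w

section bound
variable {Γ : Type u} {G : Type v} [Group Γ] [Group G]

theorem card_ker_le_mul [Finite Γ] (σ : Γ →* G) (hc : σ.ker ≤ Subgroup.center Γ) (t1 t2 : ℕ)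
    (h : ∀ z ∈ σ.ker, z ^ Nat.gcd t1 t2 = 1 → z = 1) :
    Nat.card σ.ker ≤ Nat.card (qmap σ hc t1).ker * Nat.card (qmap σ hc t2).ker := by
  rw [← Nat.card_prod]
  apply Nat.card_le_card_of_injective
    (fun z : σ.ker => ((⟨QuotientGroup.mk z.1, z.2⟩ : (qmap σ hc t1).ker),
      (⟨QuotientGroup.mk z.1, z.2⟩ : (qmap σ hc t2).ker)))
  intro a b hab
  have h1 : (QuotientGroup.mk a.1 : Γ ⧸ torPart σ hc t1) = QuotientGroup.mk b.1 :=
    congrArg (fun p => (p.1 : Γ ⧸ torPart σ hc t1)) hab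
  have h2 : (QuotientGroup.mk a.1 : Γ ⧸ torPart σ hc t2) = QuotientGroup.mk b.1 :=
    congrArg (fun p => (p.2 : Γ ⧸ torPart σ hc t2)) hab
  rw [QuotientGroup.eq] at h1 h2
  have h3 : (a.1⁻¹ * b.1) ^ Nat.gcd t1 t2 = 1 := pow_gcd_eq_one.mpr ⟨h1.2, h2.2⟩
  have h4 := h _ h1.1 h3
  apply Subtype.ext
  exact inv_mul_eq_one.mp h4

end bound

section congr

theorem hasSchurMultiplier_congr_right {Q : Type u} [Group Q] {A : Type v} {A' : Type w}
    [CommGroup A] [CommGroup A'] (e : A ≃* A') (h : Cfsg.HasSchurMultiplier Q A) :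
    Cfsg.HasSchurMultiplier Q A' := by
  obtain ⟨⟨Γ, hG, hF, σ, hσ, ⟨ε⟩⟩, h2⟩ := h
  refine ⟨⟨Γ, hG, hF, σ, hσ, ⟨ε.trans e⟩⟩, ?_⟩
  intro Γ' _ _ σ' hσ'
  obtain ⟨π, hπ⟩ := h2 Γ' σ' hσ'
  exact ⟨π.comp e.symm.toMonoidHom, hπ.comp e.symm.surjective⟩

end congr

section prod
variable {Q : Type u} [Group Q] [Finite Q]

theorem hasSchurMultiplier_prod {A : Type v} {B : Type w} [CommGroup A] [CommGroup B]
    [Finite A] [Finite B] (hcop : (Nat.card A).Coprime (Nat.card B))
    (hexA : ∃ (Γ : Type u) (_ : Group Γ) (_ : Finite Γ) (σ : Γ →* Q),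
      Cfsg.IsStemExtension σ ∧ Nonempty (σ.ker ≃* A))
    (hexB : ∃ (Γ : Type u) (_ : Group Γ) (_ : Finite Γ) (σ : Γ →* Q),
      Cfsg.IsStemExtension σ ∧ Nonempty (σ.ker ≃* B))
    (hbound : ∀ (Γ : Type u) [Group Γ] [Finite Γ] (σ : Γ →* Q), Cfsg.IsStemExtension σ →
      Nat.card σ.ker ≤ Nat.card A * Nat.card B) :
    Cfsg.HasSchurMultiplier Q (A × B) := by
  obtain ⟨ΓA, hGA, hFA, σA, hσA, ⟨eA⟩⟩ := hexA
  obtain ⟨ΓB, hGB, hFB, σB, hσB, ⟨eB⟩⟩ := hexB
  have hfin : Finite (mult (id : Q → Q)) := mult_finite _ pres_id_surjective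
  obtain ⟨Γ₁, hG₁, hF₁, σ₁, hσ₁, ⟨e₁⟩⟩ := exists_cover (id : Q → Q) pres_id_surjective
  have hle : Nat.card (mult (id : Q → Q)) ≤ Nat.card A * Nat.card B := by
    rw [Nat.card_congr e₁.toEquiv]
    exact hbound Γ₁ σ₁ hσ₁
  obtain ⟨πA0, hπA0⟩ := exists_surjective_mult_ker (id : Q → Q) σA hσA pres_id_surjective
  obtain ⟨πB0, hπB0⟩ := exists_surjective_mult_ker (id : Q → Q) σB hσB pres_id_surjective
  let πA : mult (id : Q → Q) →* A := eA.toMonoidHom.comp πA0
  let πB : mult (id : Q → Q) →* B := eB.toMonoidHom.comp πB0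
  have hπA : Function.Surjective πA := eA.surjective.comp hπA0
  have hπB : Function.Surjective πB := eB.surjective.comp hπB0
  have hcA : Nat.card (mult (id : Q → Q)) = Nat.card A * Nat.card πA.ker :=
    card_eq_card_mul_ker πA hπA
  have hcB : Nat.card (mult (id : Q → Q)) = Nat.card B * Nat.card πB.ker :=
    card_eq_card_mul_ker πB hπB
  have hdA : Nat.card A ∣ Nat.card (mult (id : Q → Q)) := ⟨_, hcA⟩
  have hdB : Nat.card B ∣ Nat.card (mult (id : Q → Q)) := ⟨_, hcB⟩
  have hd : Nat.card A * Nat.card B ∣ Nat.card (mult (id : Q → Q)) :=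
    hcop.mul_dvd_of_dvd_of_dvd hdA hdB
  have hcard : Nat.card (mult (id : Q → Q)) = Nat.card A * Nat.card B :=
    le_antisymm hle (Nat.le_of_dvd Nat.card_pos hd)
  have hA0 : 0 < Nat.card A := Nat.card_pos
  have hB0 : 0 < Nat.card B := Nat.card_pos
  have hkA : Nat.card πA.ker = Nat.card B := by
    have : Nat.card A * Nat.card πA.ker = Nat.card A * Nat.card B := by rw [← hcA, hcard]
    exact Nat.eq_of_mul_eq_mul_left hA0 this
  have hkB : Nat.card πB.ker = Nat.card A := by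
    have : Nat.card B * Nat.card πB.ker = Nat.card B * Nat.card A := by
      rw [← hcB, hcard, mul_comm]
    exact Nat.eq_of_mul_eq_mul_left hB0 this
  have hbot : πA.ker ⊓ πB.ker = ⊥ := by
    apply disjoint_iff.mp
    apply Subgroup.disjoint_of_coprime_natCard
    rw [hkA, hkB]
    exact hcop.symm
  let φ : mult (id : Q → Q) →* A × B := πA.prod πB
  have hφinj : Function.Injective φ := by
    rw [injective_iff_map_eq_one]
    intro x hx
    have h1 : πA x = 1 := congrArg Prod.fst hx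
    have h2 : πB x = 1 := congrArg Prod.snd hx
    have h3 : x ∈ πA.ker ⊓ πB.ker := Subgroup.mem_inf.mpr ⟨h1, h2⟩
    rw [hbot] at h3
    exact Subgroup.mem_bot.mp h3
  have hφbij : Function.Bijective φ := by
    apply Function.Injective.bijective_of_nat_card_le hφinj
    rw [Nat.card_prod, hcard]
  let ε : mult (id : Q → Q) ≃* A × B := MulEquiv.ofBijective φ hφbij
  apply hasSchurMultiplier_of_exists_of_card_le
  · exact ⟨Γ₁, hG₁, hF₁, σ₁, hσ₁, ⟨e₁.symm.trans ε⟩⟩
  · intro Γ _ _ σ hσ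
    rw [Nat.card_prod]
    exact hbound Γ σ hσ

end prod

section recog
variable {G : Type v} [Group G] {E : Type u} [Group E]

/-- a central extension with a central element of order `a` in a kernel of order dividing `a`,
generated by elements of orders prime to `a`, is a stem extension with cyclic kernel. -/
theorem stem_cyclic [Finite E] [Finite G] (π : E →* G) (hπ : Function.Surjective π)
    (a : ℕ) (ha0 : 0 < a) (hcard : Nat.card E ∣ Nat.card G * a)
    (z0 : E) (hz0c : z0 ∈ Subgroup.center E) (hz0k : z0 ∈ π.ker)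
    (hord : ∀ p : ℕ, p.Prime → p ∣ a → z0 ^ (a / p) ≠ 1)
    (S : Set E) (hS : Subgroup.closure S = ⊤) (M : ℕ) (hM : ∀ x ∈ S, x ^ M = 1)
    (hcop : M.Coprime a) :
    Cfsg.IsStemExtension π ∧ Nonempty (π.ker ≃* Multiplicative (ZMod a)) := by
  have hkd : Nat.card π.ker ∣ a := card_ker_dvd_of_card_dvd π hπ a hcard
  have hpow : ∀ z ∈ π.ker, z ^ a = 1 := by
    intro z hz
    obtain ⟨j, hj⟩ := hkd
    have h1 : (⟨z, hz⟩ : π.ker) ^ Nat.card π.ker = 1 := pow_card_eq_one'
    have h2 := congrArg Subtype.val h1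
    rw [Subgroup.coe_pow, Subgroup.coe_one] at h2
    rw [hj, pow_mul, h2, one_pow]
  have hz0a : orderOf z0 = a := orderOf_eq_of_pow_and_pow_div_prime ha0 (hpow z0 hz0k) hord
  have hK0c : Subgroup.zpowers z0 ≤ Subgroup.center E := by
    rw [Subgroup.zpowers_le]
    exact hz0c
  have hK0k : Subgroup.zpowers z0 ≤ π.ker := by
    rw [Subgroup.zpowers_le]
    exact hz0k
  have hK0card : Nat.card (Subgroup.zpowers z0) = a := by rw [Nat.card_zpowers, hz0a]
  have hle : Nat.card π.ker ≤ Nat.card (Subgroup.zpowers z0) := by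
    rw [hK0card]
    exact Nat.le_of_dvd ha0 hkd
  obtain ⟨hstem, hker⟩ := isStem_of_central π hπ (Subgroup.zpowers z0) hK0c hK0k hle S hS M hM a
    (fun z hz => hpow z (hK0k hz)) hcop
  refine ⟨hstem, ?_⟩
  have hcyc : IsCyclic π.ker := by
    rw [hker]
    infer_instance
  have hc2 : IsCyclic (Multiplicative (ZMod a)) := inferInstance
  have hcard2 : Nat.card π.ker = Nat.card (Multiplicative (ZMod a)) := by
    rw [hker, hK0card]
    change _ = Nat.card (ZMod a)
    rw [Nat.card_zmod]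
  exact ⟨mulEquivOfCyclicCardEq hcard2⟩

/-- a central extension of order `16 |G|` with two central elements of the kernel whose sixteen
products `z₁ ^ a z₂ ^ b` are distinguished by a function `pt`, which does not distinguish the
fourth powers from the identity, is a stem extension with kernel `C₄ × C₄`, when the group is
generated by elements of odd order. -/
theorem stem_c4c4 [Finite E] [Finite G] (π : E →* G) (hπ : Function.Surjective π)
    (hcard : Nat.card E ∣ Nat.card G * 16)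
    (z1 z2 : E) (hz1c : z1 ∈ Subgroup.center E) (hz2c : z2 ∈ Subgroup.center E)
    (hz1k : z1 ∈ π.ker) (hz2k : z2 ∈ π.ker)
    (pt : E → ℕ)
    (hinj : ∀ a b a' b' : ℕ, a < 4 → b < 4 → a' < 4 → b' < 4 →
      pt (z1 ^ a * z2 ^ b) = pt (z1 ^ a' * z2 ^ b') → a = a' ∧ b = b')
    (h41 : pt (z1 ^ 4) = pt 1) (h42 : pt (z2 ^ 4) = pt 1)
    (S : Set E) (hS : Subgroup.closure S = ⊤) (M : ℕ) (hM : ∀ x ∈ S, x ^ M = 1)
    (hcop : M.Coprime 4) :
    Cfsg.IsStemExtension π ∧ (∀ y ∈ π.ker, y ^ 4 = 1) ∧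
      Nonempty (π.ker ≃* Multiplicative (ZMod 4 × ZMod 4)) := by
  have hkd : Nat.card π.ker ∣ 16 := card_ker_dvd_of_card_dvd π hπ 16 hcard
  have hcomm : Commute z1 z2 := ((Subgroup.mem_center_iff.mp hz1c) z2).symm
  let f : Fin 4 × Fin 4 → π.ker := fun p =>
    ⟨z1 ^ p.1.val * z2 ^ p.2.val, mul_mem (pow_mem hz1k _) (pow_mem hz2k _)⟩
  have hf : Function.Injective f := by
    intro p q hpq
    have h1 : z1 ^ p.1.val * z2 ^ p.2.val = z1 ^ q.1.val * z2 ^ q.2.val :=
      congrArg Subtype.val hpq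
    have h2 := hinj _ _ _ _ p.1.2 p.2.2 q.1.2 q.2.2 (congrArg pt h1)
    exact Prod.ext (Fin.ext h2.1) (Fin.ext h2.2)
  have hcardf : Nat.card (Fin 4 × Fin 4) = 16 := by
    rw [Nat.card_prod, Nat.card_fin]
  have hk16 : Nat.card π.ker = 16 := by
    apply le_antisymm (Nat.le_of_dvd (by norm_num) hkd)
    rw [← hcardf]
    exact Nat.card_le_card_of_injective f hf
  have hfb : Function.Bijective f := by
    apply Function.Injective.bijective_of_nat_card_le hf
    rw [hk16, hcardf]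
  have hz1 : z1 ^ 4 = 1 := by
    obtain ⟨p, hp⟩ := hfb.2 ⟨z1 ^ 4, pow_mem hz1k 4⟩
    have h1 : z1 ^ p.1.val * z2 ^ p.2.val = z1 ^ 4 := congrArg Subtype.val hp
    have h2 : pt (z1 ^ p.1.val * z2 ^ p.2.val) = pt (z1 ^ 0 * z2 ^ 0) := by
      rw [h1, h41, pow_zero, pow_zero, one_mul]
    have h3 := hinj _ _ _ _ p.1.2 p.2.2 (by norm_num) (by norm_num) h2
    rw [← h1, h3.1, h3.2, pow_zero, pow_zero, one_mul]
  have hz2 : z2 ^ 4 = 1 := by
    obtain ⟨p, hp⟩ := hfb.2 ⟨z2 ^ 4, pow_mem hz2k 4⟩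
    have h1 : z1 ^ p.1.val * z2 ^ p.2.val = z2 ^ 4 := congrArg Subtype.val hp
    have h2 : pt (z1 ^ p.1.val * z2 ^ p.2.val) = pt (z1 ^ 0 * z2 ^ 0) := by
      rw [h1, h42, pow_zero, pow_zero, one_mul]
    have h3 := hinj _ _ _ _ p.1.2 p.2.2 (by norm_num) (by norm_num) h2
    rw [← h1, h3.1, h3.2, pow_zero, pow_zero, one_mul]
  have hform : ∀ y ∈ π.ker, ∃ a b : ℕ, y = z1 ^ a * z2 ^ b := by
    intro y hy
    obtain ⟨p, hp⟩ := hfb.2 ⟨y, hy⟩
    exact ⟨p.1.val, p.2.val, (congrArg Subtype.val hp).symm⟩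
  have hexp : ∀ y ∈ π.ker, y ^ 4 = 1 := by
    intro y hy
    obtain ⟨a, b, rfl⟩ := hform y hy
    rw [(hcomm.pow_pow a b).mul_pow, ← pow_mul, ← pow_mul, mul_comm a 4, mul_comm b 4,
      pow_mul, pow_mul, hz1, hz2, one_pow, one_pow, one_mul]
  have hcen : π.ker ≤ Subgroup.center E := by
    intro y hy
    obtain ⟨a, b, rfl⟩ := hform y hy
    exact mul_mem (pow_mem hz1c _) (pow_mem hz2c _)
  have hstem : Cfsg.IsStemExtension π := by
    refine ⟨hπ, hcen, ?_⟩
    intro z hz
    rw [← Abelianization.ker_of, MonoidHom.mem_ker]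
    have h1 : (Abelianization.of z) ^ M = 1 := abelianization_pow_eq_one S hS M hM _
    have h2 : (Abelianization.of z) ^ 4 = 1 := by rw [← map_pow, hexp z hz, map_one]
    have h3 := pow_gcd_eq_one.mpr ⟨h1, h2⟩
    rwa [hcop, pow_one] at h3
  refine ⟨hstem, hexp, ?_⟩
  -- the isomorphism
  have hpm : ∀ (z : E), z ^ 4 = 1 → ∀ x y : ZMod 4, z ^ (x + y).val = z ^ x.val * z ^ y.val := by
    intro z hz x y
    rw [ZMod.val_add, ← pow_add, pow_eq_pow_mod (x.val + y.val) hz]
  let ψ : Multiplicative (ZMod 4 × ZMod 4) →* π.ker := MonoidHom.mk'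
    (fun x => ⟨z1 ^ (Multiplicative.toAdd x).1.val * z2 ^ (Multiplicative.toAdd x).2.val,
      mul_mem (pow_mem hz1k _) (pow_mem hz2k _)⟩)
    (by
      intro x y
      apply Subtype.ext
      change z1 ^ ((Multiplicative.toAdd x).1 + (Multiplicative.toAdd y).1).val *
        z2 ^ ((Multiplicative.toAdd x).2 + (Multiplicative.toAdd y).2).val =
        (z1 ^ (Multiplicative.toAdd x).1.val * z2 ^ (Multiplicative.toAdd x).2.val) *
        (z1 ^ (Multiplicative.toAdd y).1.val * z2 ^ (Multiplicative.toAdd y).2.val)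
      rw [hpm z1 hz1, hpm z2 hz2]
      exact (hcomm.pow_pow _ _).mul_mul_mul_comm _ _)
  have hψinj : Function.Injective ψ := by
    intro x y hxy
    have h1 : z1 ^ (Multiplicative.toAdd x).1.val * z2 ^ (Multiplicative.toAdd x).2.val =
        z1 ^ (Multiplicative.toAdd y).1.val * z2 ^ (Multiplicative.toAdd y).2.val :=
      congrArg Subtype.val hxy
    have h2 := hinj _ _ _ _ (ZMod.val_lt _) (ZMod.val_lt _) (ZMod.val_lt _) (ZMod.val_lt _)
      (congrArg pt h1)
    have h3 : (Multiplicative.toAdd x).1 = (Multiplicative.toAdd y).1 :=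
      ZMod.val_injective 4 h2.1
    have h4 : (Multiplicative.toAdd x).2 = (Multiplicative.toAdd y).2 :=
      ZMod.val_injective 4 h2.2
    exact Multiplicative.toAdd.injective (Prod.ext h3 h4)
  have hψbij : Function.Bijective ψ := by
    apply Function.Injective.bijective_of_nat_card_le hψinj
    rw [hk16]
    change 16 ≤ Nat.card (ZMod 4 × ZMod 4)
    rw [Nat.card_prod, Nat.card_zmod]
  exact ⟨(MulEquiv.ofBijective ψ hψbij).symm⟩

end recog

end Cfsg.Agent.Helper5.StemP
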