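import Mathlib
import Cfsg.Agent.Helper5.StemPK

/-!
# Group-theoretic lemmas for the labelled Todd–Coxeter method
-/

set_option autoImplicit false

namespace Cfsg.Agent.Helper5.LTC

open Cfsg.Agent.Helper5.StemP

section metacyc
variable {G : Type*} [Group G]

theorem conj_pow_eq {U X : G} {k : ℕ} (h : U * X * U⁻¹ = X ^ k) :
    ∀ n : ℕ, U ^ n * X * (U ^ n)⁻¹ = X ^ (k ^ n)
  | 0 => by simp
  | n + 1 => by
    have ih := conj_pow_eq h n
    have e1 : U ^ (n + 1) * X * (U ^ (n + 1))⁻¹ = U * (U ^ n * X * (U ^ n)⁻¹) * U⁻¹ := by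
      rw [pow_succ']
      group
    rw [e1, ih, ← conj_pow, h, ← pow_mul, pow_succ']

/-- a central factor of a conjugate of an element of coprime order is trivial. -/
theorem central_eq_one {U X c : G} {k a e : ℕ} (hc : c ∈ Subgroup.center G)
    (h : U * X * U⁻¹ = c * X ^ k) (hX : X ^ a = 1) (hce : c ^ e = 1) (hcop : Nat.Coprime a e) :
    c = 1 := by
  have h1 : (U * X * U⁻¹) ^ a = 1 := by rw [conj_pow, hX, mul_one, mul_inv_cancel]
  have hcomm : Commute c (X ^ k) := (Subgroup.mem_center_iff.mp hc (X ^ k)).symm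
  rw [h, hcomm.mul_pow, ← pow_mul, mul_comm k a, pow_mul, hX, one_pow, mul_one] at h1
  have h2 := pow_gcd_eq_one.mpr ⟨h1, hce⟩
  rwa [Nat.Coprime.gcd_eq_one hcop, pow_one] at h2

/-- a subgroup generated by an element and a second one normalising it is small. -/
theorem closure_pair_card_le (X V : G) (a b s : ℕ) (ha : 0 < a) (hb : 0 < b)
    (hX : X ^ a = 1) (hV : V ^ b = 1) (hconj : V * X * V⁻¹ = X ^ s) :
    Finite (Subgroup.closure ({X, V} : Set G)) ∧
      Nat.card (Subgroup.closure ({X, V} : Set G)) ≤ a * b := by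
  let S : Set G := {p | ∃ i j : ℕ, p = X ^ i * V ^ j}
  have hSX : ∀ q ∈ S, X * q ∈ S := by
    rintro q ⟨i, j, rfl⟩
    exact ⟨i + 1, j, by rw [pow_succ', mul_assoc]⟩
  have hSV : ∀ q ∈ S, V * q ∈ S := by
    rintro q ⟨i, j, rfl⟩
    refine ⟨s * i, j + 1, ?_⟩
    have h1 : V * X ^ i * V⁻¹ = X ^ (s * i) := by rw [← conj_pow, hconj, ← pow_mul]
    have h2 : V * X ^ i = X ^ (s * i) * V := by
      rw [← h1]
      group
    rw [← mul_assoc, h2, mul_assoc, ← pow_succ']
  have hSpow : ∀ (W : G), (∀ q ∈ S, W * q ∈ S) → ∀ n : ℕ, ∀ q ∈ S, W ^ n * q ∈ S := by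
    intro W hW n
    induction n with
    | zero => intro q hq; rwa [pow_zero, one_mul]
    | succ n ih =>
      intro q hq
      rw [pow_succ', mul_assoc]
      exact hW _ (ih q hq)
  have hXinv : X⁻¹ = X ^ (a - 1) := by
    apply inv_eq_of_mul_eq_one_right
    rw [← pow_succ', Nat.sub_add_cancel ha, hX]
  have hVinv : V⁻¹ = V ^ (b - 1) := by
    apply inv_eq_of_mul_eq_one_right
    rw [← pow_succ', Nat.sub_add_cancel hb, hV]
  have hcl : ∀ p ∈ Subgroup.closure ({X, V} : Set G),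
      (∀ q ∈ S, p * q ∈ S) ∧ (∀ q ∈ S, p⁻¹ * q ∈ S) := by
    intro p hp
    induction hp using Subgroup.closure_induction with
    | mem x hx =>
      rcases hx with rfl | rfl
      · exact ⟨hSX, by rw [hXinv]; exact hSpow x hSX _⟩
      · exact ⟨hSV, by rw [hVinv]; exact hSpow _ hSV _⟩
    | one => exact ⟨fun q hq => by rwa [one_mul], fun q hq => by rwa [inv_one, one_mul]⟩
    | mul x y _ _ hx hy =>
      refine ⟨fun q hq => ?_, fun q hq => ?_⟩
      · rw [mul_assoc]
        exact hx.1 _ (hy.1 q hq)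
      · rw [mul_inv_rev, mul_assoc]
        exact hy.2 _ (hx.2 q hq)
    | inv x _ hx => exact ⟨hx.2, by rw [inv_inv]; exact hx.1⟩
  have h1S : (1 : G) ∈ S := ⟨0, 0, by simp⟩
  let f : Fin a × Fin b → G := fun t => X ^ t.1.val * V ^ t.2.val
  have hsub : ((Subgroup.closure ({X, V} : Set G) : Subgroup G) : Set G) ⊆ Set.range f := by
    intro p hp
    obtain ⟨i, j, hij⟩ := (hcl p hp).1 1 h1S
    rw [mul_one] at hij
    refine ⟨(⟨i % a, Nat.mod_lt i ha⟩, ⟨j % b, Nat.mod_lt j hb⟩), ?_⟩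
    simp only [f]
    rw [hij]
    congr 1
    · conv_rhs => rw [← Nat.div_add_mod i a, pow_add, pow_mul, hX, one_pow, one_mul]
    · conv_rhs => rw [← Nat.div_add_mod j b, pow_add, pow_mul, hV, one_pow, one_mul]
  have hfin : (Set.range f).Finite := Set.finite_range f
  have hfin2 : ((Subgroup.closure ({X, V} : Set G) : Subgroup G) : Set G).Finite :=
    hfin.subset hsub
  refine ⟨hfin2.to_subtype, ?_⟩
  calc Nat.card (Subgroup.closure ({X, V} : Set G))
      ≤ Nat.card (Set.range f) := Nat.card_mono hfin hsub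
    _ ≤ Nat.card (Fin a × Fin b) := Finite.card_range_le f
    _ = a * b := by rw [Nat.card_prod, Nat.card_fin, Nat.card_fin]

end metacyc

section inj
variable {P G : Type*} [Group P] [Group G]

/-- a homomorphism is injective on a subgroup which is not larger than its image. -/
theorem eq_one_of_map_card (K : Subgroup P) [Finite K] (π : P →* G) (n : ℕ)
    (h1 : Nat.card K ≤ n) (h2 : n ≤ Nat.card (K.map π)) : ∀ y ∈ K, π y = 1 → y = 1 := by
  let f : K → K.map π := fun y => ⟨π y.1, Subgroup.mem_map_of_mem π y.2⟩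
  have hf : Function.Surjective f := by
    rintro ⟨q, hq⟩
    obtain ⟨y, hy, rfl⟩ := Subgroup.mem_map.mp hq
    exact ⟨⟨y, hy⟩, rfl⟩
  have hb := hf.bijective_of_nat_card_le (h1.trans h2)
  intro y hy hy1
  have h3 : f ⟨y, hy⟩ = f ⟨1, K.one_mem⟩ := by
    apply Subtype.ext
    simp only [f]
    rw [hy1, map_one]
  exact congrArg Subtype.val (hb.1 h3)

/-- a subgroup containing elements of coprime orders `a` and `b` has at least `a * b` elements. -/
theorem le_card_of_orders (H : Subgroup G) [Finite H] {p q : G} (hp : p ∈ H) (hq : q ∈ H)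
    (a b : ℕ) (hpa : orderOf p = a) (hqb : orderOf q = b) (hab : Nat.Coprime a b) :
    a * b ≤ Nat.card H := by
  have h1 : a ∣ Nat.card H := by
    rw [← hpa, ← Subgroup.orderOf_mk p hp]
    exact orderOf_dvd_natCard _
  have h2 : b ∣ Nat.card H := by
    rw [← hqb, ← Subgroup.orderOf_mk q hq]
    exact orderOf_dvd_natCard _
  exact Nat.le_of_dvd Nat.card_pos (hab.mul_dvd_of_dvd_of_dvd h1 h2)

end inj

section recog
universe u v
variable {G : Type v} [Group G] {E : Type u} [Group E]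

/-- a central extension of order at most `p ^ i * |G|` with a central element of the kernel of
`p`-power order at least `p ^ i`, generated by elements of orders prime to `p`, is a stem
extension with cyclic kernel of order `p ^ i`. -/
theorem stem_cyclic_le [Finite E] [Finite G] (π : E →* G) (hπ : Function.Surjective π)
    (p i j : ℕ) (hp : p.Prime) (hi : 0 < i) (hcard : Nat.card E ≤ Nat.card G * p ^ i)
    (z0 : E) (hz0c : z0 ∈ Subgroup.center E) (hz0k : z0 ∈ π.ker)
    (hzj : z0 ^ p ^ j = 1) (hzi : z0 ^ p ^ (i - 1) ≠ 1)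
    (S : Set E) (hS : Subgroup.closure S = ⊤) (M : ℕ) (hM : ∀ x ∈ S, x ^ M = 1)
    (hcop : M.Coprime (p ^ i)) :
    (Cfsg.IsStemExtension π ∧ Nonempty (π.ker ≃* Multiplicative (ZMod (p ^ i)))) ∧
      Nat.card E = Nat.card G * p ^ i := by
  have hmul := card_eq_card_mul_ker π hπ
  obtain ⟨s, hsj, hs⟩ := (Nat.dvd_prime_pow hp).mp (orderOf_dvd_of_pow_eq_one hzj)
  have hsi : i ≤ s := by
    by_contra hlt
    apply hzi
    have hd : p ^ s ∣ p ^ (i - 1) := Nat.pow_dvd_pow p (by omega)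
    rw [← hs] at hd
    exact orderOf_dvd_iff_pow_eq_one.mp hd
  have hdk : orderOf z0 ∣ Nat.card π.ker := by
    rw [← Subgroup.orderOf_mk z0 hz0k]
    exact orderOf_dvd_natCard _
  have hle1 : p ^ i ≤ Nat.card π.ker :=
    (Nat.pow_le_pow_right hp.pos hsi).trans (hs ▸ Nat.le_of_dvd Nat.card_pos hdk)
  have hle2 : Nat.card π.ker ≤ p ^ i := by
    rw [hmul] at hcard
    exact Nat.le_of_mul_le_mul_left hcard Nat.card_pos
  have hk : Nat.card π.ker = p ^ i := le_antisymm hle2 hle1
  have hE : Nat.card E = Nat.card G * p ^ i := by rw [hmul, hk]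
  refine ⟨stem_cyclic π hπ (p ^ i) (pow_pos hp.pos i) (by rw [hE]) z0 hz0c hz0k ?_ S hS M hM hcop,
    hE⟩
  intro q hq hqd
  have hqp : q = p := (Nat.prime_dvd_prime_iff_eq hq hp).mp (hq.dvd_of_dvd_pow hqd)
  subst hqp
  have : q ^ i / q = q ^ (i - 1) := by
    obtain ⟨i', rfl⟩ : ∃ i', i = i' + 1 := ⟨i - 1, by omega⟩
    rw [pow_succ, Nat.mul_div_cancel _ hq.pos, Nat.add_sub_cancel]
  rw [this]
  exact hzi

end recog

end Cfsg.Agent.Helper5.LTC
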