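import Mathlib
import Cfsg.Agent.Helper5.StemPC

/-!
# Stem extensions: reduction of the exponent of the kernel

Let `σ : Γ →* G` be a finite stem extension whose kernel `Z` is a `p`-group.  The `e`-th powers of
the elements of `Z` form a central subgroup `Z ^ e`, and `Γ ⧸ Z ^ e →* G` is a stem extension whose
kernel has exponent dividing `e`.  If `e = p ^ j` and the order of the kernel of the quotient is not
divisible by `p ^ j`, then `Z ^ e = 1`.  Hence, to bound the `p`-part of the Schur multiplier by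
`a`, it suffices to consider a covering presentation with `e = p ^ j` not dividing `a`
(`card_qmap_ker_dvd_of_pow`), without any a priori bound for the exponent.
-/

set_option autoImplicit false

namespace Cfsg.Agent.Helper5.StemP

open Cfsg.Agent.Helper3.Stem Cfsg.Agent.Helper5.LP
open scoped commutatorElement

universe u v

section
variable {Γ : Type u} {G : Type v} [Group Γ] [Group G]

/-- the `e`-th powers of the elements of the kernel. -/
def powPart (σ : Γ →* G) (hc : σ.ker ≤ Subgroup.center Γ) (e : ℕ) : Subgroup Γ where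
  carrier := {y | ∃ z ∈ σ.ker, z ^ e = y}
  one_mem' := ⟨1, one_mem _, one_pow e⟩
  mul_mem' := by
    rintro _ _ ⟨a, ha, rfl⟩ ⟨b, hb, rfl⟩
    refine ⟨a * b, mul_mem ha hb, ?_⟩
    have hcomm : Commute a b := ((Subgroup.mem_center_iff.mp (hc ha)) b).symm
    exact hcomm.mul_pow e
  inv_mem' := by
    rintro _ ⟨a, ha, rfl⟩
    exact ⟨a⁻¹, inv_mem ha, inv_pow a e⟩

theorem powPart_le_ker (σ : Γ →* G) (hc : σ.ker ≤ Subgroup.center Γ) (e : ℕ) :
    powPart σ hc e ≤ σ.ker := by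
  rintro _ ⟨z, hz, rfl⟩
  exact Subgroup.pow_mem _ hz e

instance powPart_normal (σ : Γ →* G) (hc : σ.ker ≤ Subgroup.center Γ) (e : ℕ) :
    (powPart σ hc e).Normal := ⟨fun z hz g => by
  have h := Subgroup.mem_center_iff.mp (hc (powPart_le_ker σ hc e hz)) g
  have : g * z * g⁻¹ = z := by rw [h, mul_inv_cancel_right]
  rw [this]
  exact hz⟩

/-- the quotient extension. -/
def pmap (σ : Γ →* G) (hc : σ.ker ≤ Subgroup.center Γ) (e : ℕ) : Γ ⧸ powPart σ hc e →* G :=
  QuotientGroup.lift _ σ (fun _ hz => powPart_le_ker σ hc e hz)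

theorem pmap_stem (σ : Γ →* G) (hσ : Cfsg.IsStemExtension σ) (hc : σ.ker ≤ Subgroup.center Γ)
    (e : ℕ) : Cfsg.IsStemExtension (pmap σ hc e) := by
  refine ⟨?_, ?_, ?_⟩
  · intro g
    obtain ⟨x, rfl⟩ := hσ.1 g
    exact ⟨QuotientGroup.mk x, rfl⟩
  · intro y hy
    obtain ⟨x, rfl⟩ := QuotientGroup.mk_surjective y
    have hx : x ∈ σ.ker := hy
    rw [Subgroup.mem_center_iff]
    intro w
    obtain ⟨w', rfl⟩ := QuotientGroup.mk_surjective w
    have h := Subgroup.mem_center_iff.mp (hc hx) w'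
    rw [← QuotientGroup.mk_mul, ← QuotientGroup.mk_mul, h]
  · intro y hy
    obtain ⟨x, rfl⟩ := QuotientGroup.mk_surjective y
    have hx : x ∈ σ.ker := hy
    have h0 : x ∈ ⁅(⊤ : Subgroup Γ), ⊤⁆ := hσ.2.2 hx
    have h1 : (QuotientGroup.mk' (powPart σ hc e)) x ∈
        Subgroup.map (QuotientGroup.mk' (powPart σ hc e)) ⁅(⊤ : Subgroup Γ), (⊤ : Subgroup Γ)⁆ :=
      Subgroup.mem_map_of_mem _ h0
    rw [Subgroup.map_commutator] at h1
    have h2 : ⁅(⊤ : Subgroup Γ).map (QuotientGroup.mk' (powPart σ hc e)),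
        (⊤ : Subgroup Γ).map (QuotientGroup.mk' (powPart σ hc e))⁆
        ≤ commutator (Γ ⧸ powPart σ hc e) := by
      rw [commutator_def]
      exact Subgroup.commutator_mono le_top le_top
    exact h2 h1

theorem mem_pmap_ker (σ : Γ →* G) (hc : σ.ker ≤ Subgroup.center Γ) (e : ℕ) (x : Γ) :
    (QuotientGroup.mk x : Γ ⧸ powPart σ hc e) ∈ (pmap σ hc e).ker ↔ x ∈ σ.ker := Iff.rfl

/-- the kernel of the quotient has exponent dividing `e`. -/
theorem pmap_ker_pow (σ : Γ →* G) (hc : σ.ker ≤ Subgroup.center Γ) (e : ℕ)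
    (y : Γ ⧸ powPart σ hc e) (hy : y ∈ (pmap σ hc e).ker) : y ^ e = 1 := by
  obtain ⟨x, rfl⟩ := QuotientGroup.mk_surjective y
  have hx : x ∈ σ.ker := hy
  rw [← QuotientGroup.mk_pow, QuotientGroup.eq_one_iff]
  exact ⟨x, hx, rfl⟩

/-- powers killing the kernel kill the kernel of the quotient. -/
theorem pmap_ker_pow_of (σ : Γ →* G) (hc : σ.ker ≤ Subgroup.center Γ) (e s : ℕ)
    (hs : ∀ z ∈ σ.ker, z ^ s = 1) (y : Γ ⧸ powPart σ hc e) (hy : y ∈ (pmap σ hc e).ker) :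
    y ^ s = 1 := by
  obtain ⟨x, rfl⟩ := QuotientGroup.mk_surjective y
  have hx : x ∈ σ.ker := hy
  rw [← QuotientGroup.mk_pow, hs x hx]
  rfl

/-- if the `e`-th powers are trivial, the kernels have the same order. -/
theorem card_pmap_ker (σ : Γ →* G) (hc : σ.ker ≤ Subgroup.center Γ) (e : ℕ)
    (h : ∀ z ∈ σ.ker, z ^ e = 1) :
    Nat.card (pmap σ hc e).ker = Nat.card σ.ker := by
  have hbot : powPart σ hc e = ⊥ := by
    rw [eq_bot_iff]
    rintro _ ⟨z, hz, rfl⟩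
    rw [Subgroup.mem_bot]
    exact h z hz
  symm
  apply Nat.card_congr
  refine Equiv.ofBijective (fun z => ⟨QuotientGroup.mk z.1, z.2⟩) ⟨?_, ?_⟩
  · intro a b hab
    have h1 : (QuotientGroup.mk a.1 : Γ ⧸ powPart σ hc e) = QuotientGroup.mk b.1 :=
      congrArg Subtype.val hab
    rw [QuotientGroup.eq, hbot, Subgroup.mem_bot] at h1
    apply Subtype.ext
    exact (inv_mul_eq_one.mp h1)
  · rintro ⟨y, hy⟩
    obtain ⟨x, rfl⟩ := QuotientGroup.mk_surjective y
    exact ⟨⟨x, hy⟩, rfl⟩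

/-- the key point: in a subgroup of exponent dividing `p ^ k` in which every `p ^ i`-th power is a
`p ^ j`-th power, `i < j`, all `p ^ i`-th powers are trivial. -/
theorem pow_eq_one_of_pow_eq_pow (Z : Subgroup Γ) (p i j : ℕ) (hij : i < j)
    (h : ∀ z ∈ Z, ∃ w ∈ Z, z ^ p ^ i = w ^ p ^ j) :
    ∀ k : ℕ, (∀ z ∈ Z, z ^ p ^ k = 1) → ∀ z ∈ Z, z ^ p ^ i = 1 := by
  intro k
  induction k with
  | zero =>
    intro hk z hz
    have := hk z hz
    rw [pow_zero, pow_one] at this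
    rw [this, one_pow]
  | succ k ih =>
    intro hk
    rcases Nat.lt_or_ge k i with hki | hki
    · intro z hz
      obtain ⟨c, rfl⟩ : ∃ c, i = k + 1 + c := ⟨i - (k + 1), by omega⟩
      rw [pow_add, pow_mul, hk z hz, one_pow]
    · apply ih
      intro z hz
      obtain ⟨w, hw, hzw⟩ := h z hz
      obtain ⟨c, rfl⟩ : ∃ c, k = i + c := ⟨k - i, by omega⟩
      obtain ⟨c', hc'⟩ : ∃ c', j + c = i + c + 1 + c' := ⟨j - i - 1, by omega⟩
      rw [pow_add, pow_mul, hzw, ← pow_mul, ← pow_add, hc', pow_add, pow_mul, hk w hw, one_pow]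

end

section bound
variable {Γ : Type u} {G : Type v} [Group Γ] [Group G]

/-- **the order of the kernel of the quotient stem extension divides `a`**, from a covering
presentation with `e = p ^ j`, where `p ^ j` does not divide `a`. -/
theorem card_qmap_ker_dvd_of_pow [Finite G] [Finite Γ] (σ : Γ →* G)
    (hσ : Cfsg.IsStemExtension σ) (hc : σ.ker ≤ Subgroup.center Γ)
    (p : ℕ) (hp : p.Prime) (k j t : ℕ) (hst : Nat.card G = p ^ k * t)
    (d : ℕ) (m : ℕ → ℕ) (C T : List (List ℕ))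
    (hlt : ∀ r ∈ C ++ T, ∀ c ∈ r, c < 2 * d)
    (g : ℕ → G) (hgen : Subgroup.closure {y | ∃ i, i < d ∧ y = g i} = ⊤)
    (hm : ∀ i, i < d → g i ^ m i = 1 ∧ (m i).Coprime (p ^ k))
    (hC : ∀ r ∈ C ++ T, (r.map (lval g)).prod = 1)
    [Finite (LPG (2 * d) (coverRels d m C T (p ^ j)))] (a : ℕ)
    (ha : Nat.card (LPG (2 * d) (coverRels d m C T (p ^ j))) ∣ Nat.card G * a)
    (hja : ¬ p ^ j ∣ a) :
    Nat.card (qmap σ hc t).ker ∣ a := by
  have hstem1 := qmap_stem σ hσ hc t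
  have hs1 : ∀ z ∈ (qmap σ hc t).ker, z ^ p ^ k = 1 := qmap_ker_pow σ hσ hc hst
  have hc1 : (qmap σ hc t).ker ≤ Subgroup.center _ := hstem1.2.1
  have hstem2 := pmap_stem (qmap σ hc t) hstem1 hc1 (p ^ j)
  have hs2 := pmap_ker_pow_of (qmap σ hc t) hc1 (p ^ j) (p ^ k) hs1
  have he2 := pmap_ker_pow (qmap σ hc t) hc1 (p ^ j)
  obtain ⟨ψ, hψ, -⟩ := exists_cover_hom (pmap (qmap σ hc t) hc1 (p ^ j)) hstem2 (p ^ k) hs2
    (p ^ j) he2 d m C T hlt g hgen hm hC
  have h1 := card_dvd_of_surjective ψ hψ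
  rw [card_eq_card_mul_ker (pmap (qmap σ hc t) hc1 (p ^ j)) hstem2.1] at h1
  have h2 := h1.trans ha
  have hG : 0 < Nat.card G := Nat.card_pos
  have h3 : Nat.card (pmap (qmap σ hc t) hc1 (p ^ j)).ker ∣ a := Nat.dvd_of_mul_dvd_mul_left hG h2
  -- the kernel of the second quotient is a `p`-group
  have : Fact p.Prime := ⟨hp⟩
  have hpg : IsPGroup p (pmap (qmap σ hc t) hc1 (p ^ j)).ker := by
    intro z
    refine ⟨k, ?_⟩
    apply Subtype.ext
    rw [Subgroup.coe_pow, Subgroup.coe_one]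
    exact hs2 z.1 z.2
  obtain ⟨i, hi⟩ := IsPGroup.iff_card.mp hpg
  have hij : i < j := by
    by_contra hcon
    rw [not_lt] at hcon
    apply hja
    exact (pow_dvd_pow p hcon).trans (hi ▸ h3)
  -- every `p ^ i`-th power in the kernel is a `p ^ j`-th power
  have hpow : ∀ z ∈ (qmap σ hc t).ker, ∃ w ∈ (qmap σ hc t).ker, z ^ p ^ i = w ^ p ^ j := by
    intro z hz
    have hz2 : (QuotientGroup.mk z : _ ⧸ powPart (qmap σ hc t) hc1 (p ^ j)) ∈
        (pmap (qmap σ hc t) hc1 (p ^ j)).ker := hz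
    have h4 : (⟨_, hz2⟩ : (pmap (qmap σ hc t) hc1 (p ^ j)).ker) ^
        Nat.card (pmap (qmap σ hc t) hc1 (p ^ j)).ker = 1 := pow_card_eq_one'
    rw [hi] at h4
    have h5 := congrArg Subtype.val h4
    rw [Subgroup.coe_pow, Subgroup.coe_one, ← QuotientGroup.mk_pow,
      QuotientGroup.eq_one_iff] at h5
    obtain ⟨w, hw, hwz⟩ := h5
    exact ⟨w, hw, hwz.symm⟩
  have h6 := pow_eq_one_of_pow_eq_pow (qmap σ hc t).ker p i j hij hpow k hs1
  have h7 : ∀ z ∈ (qmap σ hc t).ker, z ^ p ^ j = 1 := by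
    intro z hz
    obtain ⟨c, rfl⟩ : ∃ c, j = i + c := ⟨j - i, by omega⟩
    rw [pow_add, pow_mul, h6 z hz, one_pow]
  rw [← card_pmap_ker (qmap σ hc t) hc1 (p ^ j) h7]
  exact h3

end bound

end Cfsg.Agent.Helper5.StemP
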