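import Mathlib
import Cfsg.Agent.Helper5.StemPE
import Cfsg.Agent.Helper5.StemPG

/-!
# Schur multipliers from covering presentations: bound from the exponent of the kernel of the
covering group

`coverHomU`: the natural map of the covering group onto `G` (any universe).
`card_qmap_ker_dvd_of_exp`: if the covering group with `e = p ^ j` has order dividing `|G| a` and
the kernel of its natural map to `G` has exponent dividing `p ^ i` with `i < j`, then the `p`-part
of the kernel of every finite stem extension of `G` has order dividing `a`.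
-/

set_option autoImplicit false

namespace Cfsg.Agent.Helper5.StemP

open Cfsg.Agent.Helper3.Stem Cfsg.Agent.Helper5.LP

universe u v

section
variable {G : Type v} [Group G]

/-- the natural map of the covering group onto `G`. -/
noncomputable def coverHomU (d : ℕ) (m : ℕ → ℕ) (C T : List (List ℕ)) (e : ℕ)
    (hlt : ∀ r ∈ C ++ T, ∀ c ∈ r, c < 2 * d) (g : ℕ → G)
    (hm : ∀ i, i < d → g i ^ m i = 1)
    (hC : ∀ r ∈ C ++ T, (r.map (lval g)).prod = 1) : CovG d m C T e →* G :=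
  lift (lval g) (coverRels_lt d m C T e hlt) (coverRels_hold_base g d m C T e hm hC)

theorem coverHomU_ev (d : ℕ) (m : ℕ → ℕ) (C T : List (List ℕ)) (e : ℕ)
    (hlt : ∀ r ∈ C ++ T, ∀ c ∈ r, c < 2 * d) (g : ℕ → G)
    (hm : ∀ i, i < d → g i ^ m i = 1)
    (hC : ∀ r ∈ C ++ T, (r.map (lval g)).prod = 1) (l : List ℕ) (hl : ∀ c ∈ l, c < 2 * d) :
    coverHomU d m C T e hlt g hm hC (ev (2 * d) (coverRels d m C T e) l) =
      (l.map (lval g)).prod :=
  lift_ev _ _ _ l hl

theorem coverHomU_surjective (d : ℕ) (m : ℕ → ℕ) (C T : List (List ℕ)) (e : ℕ)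
    (hlt : ∀ r ∈ C ++ T, ∀ c ∈ r, c < 2 * d) (g : ℕ → G)
    (hm : ∀ i, i < d → g i ^ m i = 1)
    (hC : ∀ r ∈ C ++ T, (r.map (lval g)).prod = 1)
    (hgen : Subgroup.closure {y | ∃ i, i < d ∧ y = g i} = ⊤) :
    Function.Surjective (coverHomU d m C T e hlt g hm hC) := by
  rw [← MonoidHom.range_eq_top, eq_top_iff, ← hgen, Subgroup.closure_le]
  rintro y ⟨i, hi, rfl⟩
  refine ⟨cgen d m C T e i, ?_⟩
  unfold cgen
  rw [coverHomU_ev d m C T e hlt g hm hC [2 * i] (by
    intro c hc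
    rw [List.mem_singleton] at hc
    omega)]
  simp [lval_even]

/-- the words of `C` lie in the kernel of the natural map. -/
theorem coverHomU_ker (d : ℕ) (m : ℕ → ℕ) (C T : List (List ℕ)) (e : ℕ)
    (hlt : ∀ r ∈ C ++ T, ∀ c ∈ r, c < 2 * d) (g : ℕ → G)
    (hm : ∀ i, i < d → g i ^ m i = 1)
    (hC : ∀ r ∈ C ++ T, (r.map (lval g)).prod = 1) {r : List ℕ} (hr : r ∈ C) :
    ev (2 * d) (coverRels d m C T e) r ∈ (coverHomU d m C T e hlt g hm hC).ker := by
  rw [MonoidHom.mem_ker,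
    coverHomU_ev d m C T e hlt g hm hC r (hlt r (List.mem_append_left _ hr))]
  exact hC r (List.mem_append_left _ hr)

/-- two homomorphisms from the covering group agreeing on the letters are equal. -/
theorem covG_hom_ext {K : Type*} [Group K] (d : ℕ) (m : ℕ → ℕ) (C T : List (List ℕ)) (e : ℕ)
    (f₁ f₂ : CovG d m C T e →* K)
    (h : ∀ c, c < 2 * d → f₁ (ev (2 * d) (coverRels d m C T e) [c]) =
      f₂ (ev (2 * d) (coverRels d m C T e) [c])) : f₁ = f₂ := by
  apply MonoidHom.eq_of_eqOn_dense (closure_gens (k := 2 * d) (R := coverRels d m C T e))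
  rintro x ⟨c, hc, rfl⟩
  exact h c hc

end

section bound
variable {Γ : Type u} {G : Type v} [Group Γ] [Group G]

/-- **the order of the kernel of the quotient stem extension divides `a`**, from a covering
presentation with `e = p ^ j` whose kernel has exponent dividing `p ^ i`, `i < j`. -/
theorem card_qmap_ker_dvd_of_exp [Finite G] [Finite Γ] (σ : Γ →* G)
    (hσ : Cfsg.IsStemExtension σ) (hc : σ.ker ≤ Subgroup.center Γ)
    (p : ℕ) (k i j t : ℕ) (hij : i < j) (hst : Nat.card G = p ^ k * t)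
    (d : ℕ) (m : ℕ → ℕ) (C T : List (List ℕ))
    (hlt : ∀ r ∈ C ++ T, ∀ c ∈ r, c < 2 * d)
    (g : ℕ → G) (hgen : Subgroup.closure {y | ∃ i, i < d ∧ y = g i} = ⊤)
    (hm : ∀ i, i < d → g i ^ m i = 1 ∧ (m i).Coprime (p ^ k))
    (hC : ∀ r ∈ C ++ T, (r.map (lval g)).prod = 1)
    [Finite (CovG d m C T (p ^ j))] (a : ℕ)
    (ha : Nat.card (CovG d m C T (p ^ j)) ∣ Nat.card G * a)
    (hexp : ∀ y ∈ (coverHomU d m C T (p ^ j) hlt g (fun i hi => (hm i hi).1) hC).ker,
      y ^ p ^ i = 1) :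
    Nat.card (qmap σ hc t).ker ∣ a := by
  have hstem1 := qmap_stem σ hσ hc t
  have hs1 : ∀ z ∈ (qmap σ hc t).ker, z ^ p ^ k = 1 := qmap_ker_pow σ hσ hc hst
  have hc1 : (qmap σ hc t).ker ≤ Subgroup.center _ := hstem1.2.1
  have hstem2 := pmap_stem (qmap σ hc t) hstem1 hc1 (p ^ j)
  have hs2 := pmap_ker_pow_of (qmap σ hc t) hc1 (p ^ j) (p ^ k) hs1
  have he2 := pmap_ker_pow (qmap σ hc t) hc1 (p ^ j)
  obtain ⟨ψ, hψ, hψg⟩ := exists_cover_hom (pmap (qmap σ hc t) hc1 (p ^ j)) hstem2 (p ^ k) hs2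
    (p ^ j) he2 d m C T hlt g hgen hm hC
  have h1 := card_dvd_of_surjective ψ hψ
  rw [card_eq_card_mul_ker (pmap (qmap σ hc t) hc1 (p ^ j)) hstem2.1] at h1
  have h2 := h1.trans ha
  have hG : 0 < Nat.card G := Nat.card_pos
  have h3 : Nat.card (pmap (qmap σ hc t) hc1 (p ^ j)).ker ∣ a := Nat.dvd_of_mul_dvd_mul_left hG h2
  -- compatibility with the natural map
  have hcomp : (pmap (qmap σ hc t) hc1 (p ^ j)).comp ψ =
      coverHomU d m C T (p ^ j) hlt g (fun i hi => (hm i hi).1) hC := by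
    apply covG_hom_ext
    intro c hc'
    rw [MonoidHom.comp_apply, hψg c hc', coverHomU_ev d m C T (p ^ j) hlt g _ hC [c] (by
      intro c' hc''
      rw [List.mem_singleton] at hc''
      omega)]
    simp
  -- the kernel of the second quotient has exponent dividing `p ^ i`
  have hexp2 : ∀ y ∈ (pmap (qmap σ hc t) hc1 (p ^ j)).ker, y ^ p ^ i = 1 := by
    intro y hy
    obtain ⟨x, rfl⟩ := hψ y
    have hx : x ∈ (coverHomU d m C T (p ^ j) hlt g (fun i hi => (hm i hi).1) hC).ker := by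
      rw [MonoidHom.mem_ker, ← hcomp, MonoidHom.comp_apply]
      exact hy
    rw [← map_pow, hexp x hx, map_one]
  -- every `p ^ i`-th power in the kernel is a `p ^ j`-th power
  have hpow : ∀ z ∈ (qmap σ hc t).ker, ∃ w ∈ (qmap σ hc t).ker, z ^ p ^ i = w ^ p ^ j := by
    intro z hz
    have hz2 : (QuotientGroup.mk z : _ ⧸ powPart (qmap σ hc t) hc1 (p ^ j)) ∈
        (pmap (qmap σ hc t) hc1 (p ^ j)).ker := hz
    have h5 := hexp2 _ hz2
    rw [← QuotientGroup.mk_pow, QuotientGroup.eq_one_iff] at h5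
    obtain ⟨w, hw, hwz⟩ := h5
    exact ⟨w, hw, hwz.symm⟩
  have h6 := pow_eq_one_of_pow_eq_pow (qmap σ hc t).ker p i j hij hpow k hs1
  have h7 : ∀ z ∈ (qmap σ hc t).ker, z ^ p ^ j = 1 := by
    intro z hz
    obtain ⟨c, rfl⟩ : ∃ c, j = i + c := ⟨j - i, by omega⟩
    rw [pow_add, pow_mul, h6 z hz, one_pow]
  rw [← card_pmap_ker (qmap σ hc t) hc1 (p ^ j) h7]
  exact h3

end bound

end Cfsg.Agent.Helper5.StemP
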