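import Mathlib
import Cfsg.Prelude.Def_SporCoxeter
import Cfsg.Agent.Helper5.LPW

/-!
# Coxeter-style presentations as list-presented groups

A group `CoxPresented α edges extra` all of whose generators are nodes of the graph is isomorphic
to the list-presented group `LPG k R` as soon as a few finite checks hold.
-/

set_option autoImplicit false

namespace Cfsg.Agent.Helper5.LP

open Cfsg.Agent.Helper5.TC Cfsg.Agent.Helper5.TCI Cfsg.Spor

/-- the word `(a b)^m`. -/
def coxWord (a b m : ℕ) : List ℕ := (List.replicate m [a, b]).flatten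

theorem coxWord_succ (a b m : ℕ) : coxWord a b (m + 1) = [a, b] ++ coxWord a b m := by
  unfold coxWord
  rw [List.replicate_succ, List.flatten_cons]

section
variable {k : ℕ} {R : List (List ℕ)}

theorem prod_map_ev : ∀ l : List ℕ, (l.map (fun c => ev k R [c])).prod = ev k R l
  | [] => by simp [ev_nil]
  | c :: l => by rw [List.map_cons, List.prod_cons, prod_map_ev l, ← ev_cons]

theorem ev_coxWord (a b : ℕ) : ∀ m : ℕ, ev k R (coxWord a b m) = (ev k R [a] * ev k R [b]) ^ m
  | 0 => by simp [coxWord, ev_nil]
  | m + 1 => by
    rw [coxWord_succ, ev_append, ev_coxWord a b m, pow_succ', ev_cons a [b]]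

theorem of_eq_ev (z : Fin k) : (PresentedGroup.of z : LPG k R) = ev k R [z.val] := by
  unfold ev
  rw [fw_cons, fw_nil, mul_one, fl_lt k z.isLt]
  rfl

end

/-- the letters of a free group element, through a numbering of the generators. -/
def lettersOf {α : Type*} [DecidableEq α] (idx : α → ℕ) (r : FreeGroup α) : List ℕ :=
  r.toWord.map (fun p => idx p.1)

theorem hom_eq_prod {α : Type*} [DecidableEq α] {K : Type*} [Group K] (g : FreeGroup α →* K)
    (r : FreeGroup α) :
    g r = (r.toWord.map (fun p => cond p.2 (g (FreeGroup.of p.1)) (g (FreeGroup.of p.1))⁻¹)).prod := by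
  rw [FreeGroup.lift_unique g (f := fun x => g (FreeGroup.of x)) (fun x => rfl)]
  conv_lhs => rw [← FreeGroup.mk_toWord (x := r)]
  rw [FreeGroup.lift_mk]

theorem hom_eq_prod_of_invol {α : Type*} [DecidableEq α] {K : Type*} [Group K]
    (g : FreeGroup α →* K) (hinv : ∀ x, g (FreeGroup.of x) * g (FreeGroup.of x) = 1)
    (r : FreeGroup α) : g r = (r.toWord.map (fun p => g (FreeGroup.of p.1))).prod := by
  rw [hom_eq_prod g r]
  congr 1
  apply List.map_congr_left
  intro p _
  cases p.2
  · exact (eq_inv_of_mul_eq_one_left (hinv p.1)).symm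
  · rfl

section
variable {α : Type*} [DecidableEq α] (edges : List (α × ℕ × α)) (extra : List (FreeGroup α))
  (k : ℕ) (R : List (List ℕ)) (idx : α → ℕ) (gen : ℕ → α)

/-- **A Coxeter-style presentation on nodes is a list-presented group.** -/
theorem cox_equiv (hgi : ∀ x, gen (idx x) = x) (hidx : ∀ x, idx x < k)
    (hig : ∀ c, c < k → idx (gen c) = c) (hnodes : ∀ x, x ∈ coxNodes edges)
    (hlt : LettersLt k R) (hinv : Invol k R)
    (hcox : ∀ x ∈ coxNodes edges, ∀ y ∈ coxNodes edges,
      coxWord (idx x) (idx y) (coxLabel edges x y) ∈ R ∨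
        coxWord (idx y) (idx x) (coxLabel edges x y) ∈ R)
    (hextra : ∀ r ∈ extra, lettersOf idx r ∈ R)
    (hR : ∀ l ∈ R, (∃ x ∈ coxNodes edges, ∃ y ∈ coxNodes edges,
        l = coxWord (idx x) (idx y) (coxLabel edges x y)) ∨ ∃ r ∈ extra, l = lettersOf idx r) :
    Nonempty (CoxPresented α edges extra ≃* LPG k R) := by
  -- the generators of the Coxeter-style presentation are involutions
  have hinvC : ∀ x : α, (PresentedGroup.of x : CoxPresented α edges extra) * PresentedGroup.of x
      = 1 := by
    intro x
    have hmem : (FreeGroup.of x * FreeGroup.of x) ^ coxLabel edges x x ∈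
        coxRelators edges ∪ {r | r ∈ extra} :=
      Or.inl ⟨x, hnodes x, x, hnodes x, rfl⟩
    have := PresentedGroup.one_of_mem hmem
    have hl : coxLabel edges x x = 1 := by unfold coxLabel; simp
    rw [hl, pow_one, map_mul] at this
    exact this
  have hφ : ∀ r ∈ coxRelators edges ∪ {r | r ∈ extra},
      FreeGroup.lift (fun x => ev k R [idx x]) r = 1 := by
    rintro r (⟨x, hx, y, hy, rfl⟩ | hr)
    · rw [map_pow, map_mul, FreeGroup.lift_apply_of, FreeGroup.lift_apply_of]
      rcases hcox x hx y hy with h | h
      · rw [← ev_coxWord]; exact ev_rel h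
      · have h1 := ev_rel (k := k) h
        rw [ev_coxWord] at h1
        have h2 : ev k R [idx x] * ev k R [idx y] =
            ev k R [idx x] * (ev k R [idx y] * ev k R [idx x]) * (ev k R [idx x])⁻¹ := by group
        rw [h2, conj_pow, h1]
        group
    · have hr' : r ∈ extra := hr
      rw [hom_eq_prod_of_invol _ (fun x => by
        rw [FreeGroup.lift_apply_of]; exact ev_sq hinv (idx x))]
      have : (r.toWord.map (fun p => FreeGroup.lift (fun x => ev k R [idx x]) (FreeGroup.of p.1)))
          = (lettersOf idx r).map (fun c => ev k R [c]) := by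
        unfold lettersOf
        rw [List.map_map]
        apply List.map_congr_left
        intro p _
        rw [FreeGroup.lift_apply_of]
        rfl
      rw [this, prod_map_ev]
      exact ev_rel (hextra r hr')
  have hψ : ∀ l ∈ R, (l.map (fun c => (PresentedGroup.of (gen c) :
      CoxPresented α edges extra))).prod = 1 := by
    intro l hl
    rcases hR l hl with ⟨x, hx, y, hy, rfl⟩ | ⟨r, hr, rfl⟩
    · have hmem : (FreeGroup.of x * FreeGroup.of y) ^ coxLabel edges x y ∈
          coxRelators edges ∪ {r | r ∈ extra} := Or.inl ⟨x, hx, y, hy, rfl⟩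
      have h1 := PresentedGroup.one_of_mem hmem
      rw [map_pow, map_mul] at h1
      have h2 : ∀ m : ℕ, ((coxWord (idx x) (idx y) m).map (fun c => (PresentedGroup.of (gen c) :
          CoxPresented α edges extra))).prod =
          (PresentedGroup.of x * PresentedGroup.of y) ^ m := by
        intro m
        induction m with
        | zero => simp [coxWord]
        | succ m ih =>
          rw [coxWord_succ, List.map_append, List.prod_append, ih, pow_succ']
          simp [hgi]
      rw [h2]
      exact h1
    · have hmem : r ∈ coxRelators edges ∪ {r | r ∈ extra} := Or.inr hr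
      have h1 := PresentedGroup.one_of_mem hmem
      rw [hom_eq_prod_of_invol _ (fun x => hinvC x)] at h1
      rw [← h1]
      unfold lettersOf
      rw [List.map_map]
      congr 1
      apply List.map_congr_left
      intro p _
      show PresentedGroup.of (gen (idx p.1)) = _
      rw [hgi]
      rfl
  let φ : CoxPresented α edges extra →* LPG k R := PresentedGroup.toGroup hφ
  let ψ : LPG k R →* CoxPresented α edges extra :=
    lift (fun c => (PresentedGroup.of (gen c) : CoxPresented α edges extra)) hlt hψ
  have h1 : ψ.comp φ = MonoidHom.id _ := by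
    apply PresentedGroup.ext
    intro x
    show ψ (φ (PresentedGroup.of x)) = PresentedGroup.of x
    rw [PresentedGroup.toGroup.of]
    show lift _ hlt hψ (ev k R [idx x]) = _
    rw [lift_ev _ _ _ [idx x] (by simpa using hidx x)]
    simp [hgi]
  have h2 : φ.comp ψ = MonoidHom.id _ := by
    apply PresentedGroup.ext
    intro z
    show φ (ψ (PresentedGroup.of z)) = PresentedGroup.of z
    rw [of_eq_ev]
    show φ (lift _ hlt hψ (ev k R [z.val])) = _
    rw [lift_ev _ _ _ [z.val] (by simp)]
    simp only [List.map_cons, List.map_nil, List.prod_cons, List.prod_nil, mul_one]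
    rw [PresentedGroup.toGroup.of, hig z.val z.isLt]
  exact ⟨MonoidHom.toMulEquiv φ ψ h1 h2⟩

/-- transfer of simplicity and order. -/
theorem cox_simple_card {M : ℕ}
    (e : Nonempty (CoxPresented α edges extra ≃* LPG k R))
    (h : IsSimpleGroup (LPG k R) ∧ Nat.card (LPG k R) = M) :
    IsSimpleGroup (CoxPresented α edges extra) ∧ Nat.card (CoxPresented α edges extra) = M := by
  obtain ⟨e⟩ := e
  have := h.1
  exact ⟨e.isSimpleGroup, by rw [Nat.card_congr e.toEquiv]; exact h.2⟩

end

end Cfsg.Agent.Helper5.LP
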