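import Mathlib
import Cfsg.Prelude.Def_SporadicB
import Cfsg.Agent.Helper5.LPI

/-!
# Non-split double covers from presentations

General lemmas on perfect central extensions by a group of order two, the quotient of a
list-presented group by the normal closure of a word, and perfectness through an enumeration.
-/

set_option autoImplicit false

namespace Cfsg.Agent.Helper5.LP

open Cfsg.Agent.Helper5.TC Cfsg.Agent.Helper5.TCI

/-! ### group theory -/

section
variable {H : Type*} [Group H]

/-- in a perfect group a central subgroup of order two has no complement. -/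
theorem not_isComplement'_of_perfect (hperf : commutator H = ⊤)
    (hZ : Nat.card (Subgroup.center H) = 2) (L : Subgroup H) :
    ¬ (Subgroup.center H).IsComplement' L := by
  intro hL
  have hidx : L.index = 2 := by rw [hL.index_eq_card, hZ]
  have hLn : L.Normal := Subgroup.normal_of_index_eq_two hidx
  have hcard : Nat.card (H ⧸ L) = 2 := hidx
  have : Fact (Nat.Prime 2) := ⟨Nat.prime_two⟩
  have : IsCyclic (H ⧸ L) := isCyclic_of_prime_card hcard
  let _ : CommGroup (H ⧸ L) := IsCyclic.commGroup
  have hle := Abelianization.commutator_subset_ker (QuotientGroup.mk' L)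
  rw [QuotientGroup.ker_mk', hperf] at hle
  have : L = ⊤ := top_le_iff.mp hle
  rw [this, Subgroup.index_top] at hidx
  omega

/-- the centre of a non-commutative simple group is trivial. -/
theorem center_eq_bot_of_simple {K : Type*} [Group K] [IsSimpleGroup K]
    (hK : ∃ a b : K, a * b ≠ b * a) : Subgroup.center K = ⊥ := by
  rcases Subgroup.Normal.eq_bot_or_eq_top (inferInstance : (Subgroup.center K).Normal) with h | h
  · exact h
  · exfalso
    obtain ⟨a, b, hab⟩ := hK
    apply hab
    have ha : a ∈ Subgroup.center K := by rw [h]; exact Subgroup.mem_top a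
    exact ((Subgroup.mem_center_iff.mp ha) b).symm

/-- a central subgroup with non-commutative simple quotient is the centre. -/
theorem center_eq_of_quotient_simple {K : Type*} [Group K] [IsSimpleGroup K]
    (hK : ∃ a b : K, a * b ≠ b * a) (N : Subgroup H) [N.Normal] (hN : N ≤ Subgroup.center H)
    (e : H ⧸ N ≃* K) : Subgroup.center H = N := by
  apply le_antisymm _ hN
  intro x hx
  have h1 : e (QuotientGroup.mk x) ∈ Subgroup.center K := by
    rw [Subgroup.mem_center_iff]
    intro y
    obtain ⟨q, rfl⟩ := e.surjective y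
    obtain ⟨g, rfl⟩ := QuotientGroup.mk_surjective q
    rw [← map_mul, ← map_mul, ← QuotientGroup.mk_mul, ← QuotientGroup.mk_mul,
      (Subgroup.mem_center_iff.mp hx) g]
  rw [center_eq_bot_of_simple hK, Subgroup.mem_bot] at h1
  have h2 : (QuotientGroup.mk x : H ⧸ N) = 1 := by
    apply e.injective
    rw [h1, map_one]
  exact (QuotientGroup.eq_one_iff x).mp h2

/-- **A perfect group with a central involution whose quotient is simple non-commutative is a
non-split double cover.** -/
theorem isNonsplitDoubleCover_of {K : Type*} [Group K] [IsSimpleGroup K]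
    (hK : ∃ a b : K, a * b ≠ b * a) (hperf : commutator H = ⊤) (z : H)
    (hzc : z ∈ Subgroup.center H) (hz2 : orderOf z = 2)
    [(Subgroup.zpowers z).Normal] (e : H ⧸ (Subgroup.zpowers z) ≃* K) :
    Cfsg.IsNonsplitDoubleCover H K := by
  have hN : Subgroup.zpowers z ≤ Subgroup.center H := by
    rw [Subgroup.zpowers_le]; exact hzc
  have hc : Subgroup.center H = Subgroup.zpowers z := center_eq_of_quotient_simple hK _ hN e
  have hcard : Nat.card (Subgroup.center H) = 2 := by
    rw [hc, Nat.card_zpowers, hz2]
  refine ⟨hcard, ?_, not_isComplement'_of_perfect hperf hcard⟩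
  exact ⟨(QuotientGroup.quotientMulEquivOfEq hc).trans e⟩

/-- transfer of a non-split double cover along an isomorphism. -/
theorem isNonsplitDoubleCover_congr {H' K : Type*} [Group H'] [Group K] (f : H ≃* H')
    (h : Cfsg.IsNonsplitDoubleCover H K) : Cfsg.IsNonsplitDoubleCover H' K := by
  obtain ⟨h1, ⟨e⟩, h3⟩ := h
  have hmap : (Subgroup.center H).map f.toMonoidHom = Subgroup.center H' := by
    ext y
    constructor
    · rintro ⟨x, hx, rfl⟩
      rw [Subgroup.mem_center_iff]
      intro w
      obtain ⟨u, rfl⟩ := f.surjective w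
      show f u * f x = f x * f u
      rw [← map_mul, ← map_mul, (Subgroup.mem_center_iff.mp hx) u]
    · intro hy
      refine ⟨f.symm y, ?_, by simp⟩
      show f.symm y ∈ Subgroup.center H
      rw [Subgroup.mem_center_iff]
      intro u
      apply f.injective
      rw [map_mul, map_mul, f.apply_symm_apply]
      exact (Subgroup.mem_center_iff.mp hy) (f u)
  refine ⟨?_, ?_, ?_⟩
  · rw [← h1]
    exact Nat.card_congr (Subgroup.centerCongr f).symm.toEquiv
  · exact ⟨(QuotientGroup.congr (Subgroup.center H) (Subgroup.center H') f hmap).symm.trans e⟩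
  · intro L' hL'
    apply h3 (L'.comap f.toMonoidHom)
    rw [Subgroup.isComplement'_def] at hL' ⊢
    -- transport the bijection
    have hbij := hL'
    unfold Subgroup.IsComplement at hbij ⊢
    constructor
    · rintro ⟨⟨a, ha⟩, ⟨b, hb⟩⟩ ⟨⟨a', ha'⟩, ⟨b', hb'⟩⟩ hab
      simp only at hab
      have haZ : f a ∈ Subgroup.center H' := by rw [← hmap]; exact ⟨a, ha, rfl⟩
      have haZ' : f a' ∈ Subgroup.center H' := by rw [← hmap]; exact ⟨a', ha', rfl⟩
      have := @hbij.1 (⟨⟨f a, haZ⟩, ⟨f b, hb⟩⟩) (⟨⟨f a', haZ'⟩, ⟨f b', hb'⟩⟩) (by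
        simp only
        rw [← map_mul, ← map_mul, hab])
      simp only [Prod.mk.injEq, Subtype.mk.injEq] at this
      simp only [Prod.mk.injEq, Subtype.mk.injEq]
      exact ⟨f.injective this.1, f.injective (Subtype.ext_iff.mp this.2)⟩
    · intro x
      obtain ⟨⟨⟨a, ha⟩, ⟨b, hb⟩⟩, hab⟩ := hbij.2 (f x)
      simp only at hab
      rw [← hmap] at ha
      obtain ⟨a0, ha0, rfl⟩ := ha
      refine ⟨⟨⟨a0, ha0⟩, ⟨f.symm b, by simpa [Subgroup.mem_comap] using hb⟩⟩, ?_⟩
      simp only
      apply f.injective
      rw [map_mul, f.apply_symm_apply]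
      exact hab

end

end Cfsg.Agent.Helper5.LP
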