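import Mathlib
import Cfsg.Prelude.Def_SporCoxeter
import Cfsg.Agent.Helper5.LPCox
import Cfsg.Agent.Helper5.LPK

/-!
# Quotients of list-presented groups by a word, perfectness, and equality through an action
-/

set_option autoImplicit false

namespace Cfsg.Agent.Helper5.LP

open Cfsg.Agent.Helper5.TC Cfsg.Agent.Helper5.TCI Cfsg.Spor

section
variable {α : Type*} [DecidableEq α] (edges : List (α × ℕ × α)) (extra : List (FreeGroup α))
  (k : ℕ) (R : List (List ℕ)) (idx : α → ℕ) (gen : ℕ → α)

/-- the isomorphism of `cox_equiv` with its values on the generators. -/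
theorem cox_equiv_spec (hgi : ∀ x, gen (idx x) = x) (hidx : ∀ x, idx x < k)
    (hig : ∀ c, c < k → idx (gen c) = c) (hnodes : ∀ x, x ∈ coxNodes edges)
    (hlt : LettersLt k R) (hinv : Invol k R)
    (hcox : ∀ x ∈ coxNodes edges, ∀ y ∈ coxNodes edges,
      coxWord (idx x) (idx y) (coxLabel edges x y) ∈ R ∨
        coxWord (idx y) (idx x) (coxLabel edges x y) ∈ R)
    (hextra : ∀ r ∈ extra, lettersOf idx r ∈ R)
    (hR : ∀ l ∈ R, (∃ x ∈ coxNodes edges, ∃ y ∈ coxNodes edges,
        l = coxWord (idx x) (idx y) (coxLabel edges x y)) ∨ ∃ r ∈ extra, l = lettersOf idx r) :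
    ∃ e : CoxPresented α edges extra ≃* LPG k R, ∀ x, e (PresentedGroup.of x) = ev k R [idx x] := by
  -- the generators of the Coxeter-style presentation are involutions
  have hinvC : ∀ x : α, (PresentedGroup.of x : CoxPresented α edges extra) * PresentedGroup.of x
      = 1 := by
    intro x
    have hmem : (FreeGroup.of x * FreeGroup.of x) ^ coxLabel edges x x ∈
        coxRelators edges ∪ {r | r ∈ extra} :=
      Or.inl ⟨x, hnodes x, x, hnodes x, rfl⟩
    have := PresentedGroup.one_of_mem hmem
    have hl : coxLabel edges x x = 1 := by unfold coxLabel; simp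
    rw [hl, pow_one, map_mul] at this
    exact this
  have hφ : ∀ r ∈ coxRelators edges ∪ {r | r ∈ extra},
      FreeGroup.lift (fun x => ev k R [idx x]) r = 1 := by
    rintro r (⟨x, hx, y, hy, rfl⟩ | hr)
    · rw [map_pow, map_mul, FreeGroup.lift_apply_of, FreeGroup.lift_apply_of]
      rcases hcox x hx y hy with h | h
      · rw [← ev_coxWord]; exact ev_rel h
      · have h1 := ev_rel (k := k) h
        rw [ev_coxWord] at h1
        have h2 : ev k R [idx x] * ev k R [idx y] =
            ev k R [idx x] * (ev k R [idx y] * ev k R [idx x]) * (ev k R [idx x])⁻¹ := by group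
        rw [h2, conj_pow, h1]
        group
    · have hr' : r ∈ extra := hr
      rw [hom_eq_prod_of_invol _ (fun x => by
        rw [FreeGroup.lift_apply_of]; exact ev_sq hinv (idx x))]
      have : (r.toWord.map (fun p => FreeGroup.lift (fun x => ev k R [idx x]) (FreeGroup.of p.1)))
          = (lettersOf idx r).map (fun c => ev k R [c]) := by
        unfold lettersOf
        rw [List.map_map]
        apply List.map_congr_left
        intro p _
        rw [FreeGroup.lift_apply_of]
        rfl
      rw [this, prod_map_ev]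
      exact ev_rel (hextra r hr')
  have hψ : ∀ l ∈ R, (l.map (fun c => (PresentedGroup.of (gen c) :
      CoxPresented α edges extra))).prod = 1 := by
    intro l hl
    rcases hR l hl with ⟨x, hx, y, hy, rfl⟩ | ⟨r, hr, rfl⟩
    · have hmem : (FreeGroup.of x * FreeGroup.of y) ^ coxLabel edges x y ∈
          coxRelators edges ∪ {r | r ∈ extra} := Or.inl ⟨x, hx, y, hy, rfl⟩
      have h1 := PresentedGroup.one_of_mem hmem
      rw [map_pow, map_mul] at h1
      have h2 : ∀ m : ℕ, ((coxWord (idx x) (idx y) m).map (fun c => (PresentedGroup.of (gen c) :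
          CoxPresented α edges extra))).prod =
          (PresentedGroup.of x * PresentedGroup.of y) ^ m := by
        intro m
        induction m with
        | zero => simp [coxWord]
        | succ m ih =>
          rw [coxWord_succ, List.map_append, List.prod_append, ih, pow_succ']
          simp [hgi]
      rw [h2]
      exact h1
    · have hmem : r ∈ coxRelators edges ∪ {r | r ∈ extra} := Or.inr hr
      have h1 := PresentedGroup.one_of_mem hmem
      rw [hom_eq_prod_of_invol _ (fun x => hinvC x)] at h1
      rw [← h1]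
      unfold lettersOf
      rw [List.map_map]
      congr 1
      apply List.map_congr_left
      intro p _
      show PresentedGroup.of (gen (idx p.1)) = _
      rw [hgi]
      rfl
  let φ : CoxPresented α edges extra →* LPG k R := PresentedGroup.toGroup hφ
  let ψ : LPG k R →* CoxPresented α edges extra :=
    lift (fun c => (PresentedGroup.of (gen c) : CoxPresented α edges extra)) hlt hψ
  have h1 : ψ.comp φ = MonoidHom.id _ := by
    apply PresentedGroup.ext
    intro x
    show ψ (φ (PresentedGroup.of x)) = PresentedGroup.of x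
    rw [PresentedGroup.toGroup.of]
    show lift _ hlt hψ (ev k R [idx x]) = _
    rw [lift_ev _ _ _ [idx x] (by simpa using hidx x)]
    simp [hgi]
  have h2 : φ.comp ψ = MonoidHom.id _ := by
    apply PresentedGroup.ext
    intro z
    show φ (ψ (PresentedGroup.of z)) = PresentedGroup.of z
    rw [of_eq_ev]
    show φ (lift _ hlt hψ (ev k R [z.val])) = _
    rw [lift_ev _ _ _ [z.val] (by simp)]
    simp only [List.map_cons, List.map_nil, List.prod_cons, List.prod_nil, mul_one]
    rw [PresentedGroup.toGroup.of, hig z.val z.isLt]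
  exact ⟨MonoidHom.toMulEquiv φ ψ h1 h2, fun x => PresentedGroup.toGroup.of hφ⟩

end

section
variable {k : ℕ} {R : List (List ℕ)}

/-- the sub-presentation homomorphism on the same letters. -/
noncomputable def addRelHom (hlt : LettersLt k R) (l : List ℕ) : LPG k R →* LPG k (R ++ [l]) :=
  subHom k (R ++ [l]) hlt (fun _ hr => List.mem_append_left _ hr)

theorem addRelHom_ev (hlt : LettersLt k R) (l : List ℕ) (w : List ℕ) (hw : ∀ c ∈ w, c < k) :
    addRelHom hlt l (ev k R w) = ev k (R ++ [l]) w :=
  subHom_ev hlt _ w hw

/-- **Adding a relator is the quotient by its normal closure.** -/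
theorem quotEquiv (hlt : LettersLt k R) (l : List ℕ) (hl : ∀ c ∈ l, c < k) :
    Nonempty (LPG k R ⧸ Subgroup.normalClosure {ev k R l} ≃* LPG k (R ++ [l])) := by
  set Nc := Subgroup.normalClosure ({ev k R l} : Set (LPG k R)) with hNc
  have hlt' : LettersLt k (R ++ [l]) := by
    intro r hr
    rcases List.mem_append.mp hr with hr | hr
    · exact hlt r hr
    · rw [List.mem_singleton.mp hr]; exact hl
  have hprod : ∀ r : List ℕ, (r.map (fun c => (QuotientGroup.mk (ev k R [c]) : LPG k R ⧸ Nc))).prod
      = QuotientGroup.mk (ev k R r) := by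
    intro r
    induction r with
    | nil => simp [ev_nil]
    | cons c r ih =>
      rw [List.map_cons, List.prod_cons, ih, ev_cons c r, QuotientGroup.mk_mul]
  let ψ : LPG k (R ++ [l]) →* LPG k R ⧸ Nc :=
    lift (fun c => (QuotientGroup.mk (ev k R [c]) : LPG k R ⧸ Nc)) hlt' (by
      intro r hr
      rw [hprod]
      rcases List.mem_append.mp hr with hr | hr
      · rw [ev_rel hr]; rfl
      · rw [List.mem_singleton.mp hr]
        exact (QuotientGroup.eq_one_iff _).mpr (Subgroup.subset_normalClosure (Set.mem_singleton _)))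
  have hker : Nc ≤ (addRelHom hlt l).ker := by
    apply Subgroup.normalClosure_le_normal
    rintro _ rfl
    rw [SetLike.mem_coe, MonoidHom.mem_ker, addRelHom_ev hlt l l hl]
    exact ev_rel (List.mem_append_right _ (List.mem_singleton.mpr rfl))
  let φ : LPG k R ⧸ Nc →* LPG k (R ++ [l]) := QuotientGroup.lift Nc (addRelHom hlt l) hker
  have h1 : ψ.comp φ = MonoidHom.id _ := by
    apply QuotientGroup.monoidHom_ext
    apply PresentedGroup.ext
    intro z
    show ψ (φ (QuotientGroup.mk (PresentedGroup.of z))) = QuotientGroup.mk (PresentedGroup.of z)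
    rw [of_eq_ev]
    show ψ (addRelHom hlt l (ev k R [z.val])) = _
    rw [addRelHom_ev hlt l [z.val] (by simp)]
    show lift _ hlt' _ (ev k (R ++ [l]) [z.val]) = _
    rw [lift_ev _ _ _ [z.val] (by simp)]
    simp
  have h2 : φ.comp ψ = MonoidHom.id _ := by
    apply PresentedGroup.ext
    intro z
    show φ (ψ (PresentedGroup.of z)) = PresentedGroup.of z
    rw [of_eq_ev]
    show φ (lift _ hlt' _ (ev k (R ++ [l]) [z.val])) = _
    rw [lift_ev _ _ _ [z.val] (by simp)]
    simp only [List.map_cons, List.map_nil, List.prod_cons, List.prod_nil, mul_one]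
    show addRelHom hlt l (ev k R [z.val]) = _
    rw [addRelHom_ev hlt l [z.val] (by simp)]
  exact ⟨MonoidHom.toMulEquiv φ ψ h1 h2⟩

/-- the commutator words of the letters. -/
def commWords (k : ℕ) : List (List ℕ) :=
  (List.range k).flatMap (fun x => (List.range k).map (fun y => [x, y, x, y]))

theorem mem_commWords {k : ℕ} {w : List ℕ} (h : w ∈ commWords k) :
    ∃ x y, x < k ∧ y < k ∧ w = [x, y, x, y] := by
  unfold commWords at h
  rw [List.mem_flatMap] at h
  obtain ⟨x, hx, h⟩ := h
  rw [List.mem_map] at h
  obtain ⟨y, hy, rfl⟩ := h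
  exact ⟨x, y, List.mem_range.mp hx, List.mem_range.mp hy, rfl⟩

/-- **Perfectness through an enumeration**: if adding all commutators of the (involutory)
generators kills the group, the group is perfect. -/
theorem perfect_of_card (hinv : Invol k R) (hlt : LettersLt k R)
    (hone : Nat.card (LPG k (R ++ commWords k)) = 1) : commutator (LPG k R) = ⊤ := by
  set C := commutator (LPG k R) with hC
  have hlt' : LettersLt k (R ++ commWords k) := by
    intro r hr
    rcases List.mem_append.mp hr with hr | hr
    · exact hlt r hr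
    · obtain ⟨x, y, hx, hy, rfl⟩ := mem_commWords hr
      intro c hc
      simp only [List.mem_cons, List.not_mem_nil, or_false] at hc
      rcases hc with rfl | rfl | rfl | rfl <;> assumption
  have hprod : ∀ r : List ℕ, (r.map (fun c => (QuotientGroup.mk (ev k R [c]) : LPG k R ⧸ C))).prod
      = QuotientGroup.mk (ev k R r) := by
    intro r
    induction r with
    | nil => simp [ev_nil]
    | cons c r ih =>
      rw [List.map_cons, List.prod_cons, ih, ev_cons c r, QuotientGroup.mk_mul]
  have hcomm : ∀ a b : LPG k R ⧸ C, a * b = b * a :=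
    fun a b => mul_comm (G := Abelianization (LPG k R)) a b
  let ψ : LPG k (R ++ commWords k) →* LPG k R ⧸ C :=
    lift (fun c => (QuotientGroup.mk (ev k R [c]) : LPG k R ⧸ C)) hlt' (by
      intro r hr
      rcases List.mem_append.mp hr with hr | hr
      · rw [hprod, ev_rel hr]; rfl
      · obtain ⟨x, y, _, _, rfl⟩ := mem_commWords hr
        simp only [List.map_cons, List.map_nil, List.prod_cons, List.prod_nil, mul_one]
        have hx : (QuotientGroup.mk (ev k R [x]) : LPG k R ⧸ C) * QuotientGroup.mk (ev k R [x]) = 1 := by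
          rw [← QuotientGroup.mk_mul, ev_sq hinv x]; rfl
        have hy : (QuotientGroup.mk (ev k R [y]) : LPG k R ⧸ C) * QuotientGroup.mk (ev k R [y]) = 1 := by
          rw [← QuotientGroup.mk_mul, ev_sq hinv y]; rfl
        rw [hcomm (QuotientGroup.mk (ev k R [y])) (QuotientGroup.mk (ev k R [x]) * _),
          mul_assoc (QuotientGroup.mk (ev k R [x]) : LPG k R ⧸ C), ← mul_assoc, hx, one_mul, hy])
  have hsurj : Function.Surjective ψ := by
    rw [← MonoidHom.range_eq_top, eq_top_iff]
    have hgen : Subgroup.map (QuotientGroup.mk' C) ⊤ = ⊤ :=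
      Subgroup.map_top_of_surjective _ (QuotientGroup.mk'_surjective C)
    rw [← hgen, ← closure_gens (k := k) (R := R), MonoidHom.map_closure, Subgroup.closure_le]
    rintro _ ⟨_, ⟨c, hc, rfl⟩, rfl⟩
    refine ⟨ev k (R ++ commWords k) [c], ?_⟩
    show lift _ hlt' _ (ev k (R ++ commWords k) [c]) = _
    rw [lift_ev _ _ _ [c] (by simpa using hc)]
    simp
  have hfin : Finite (LPG k (R ++ commWords k)) :=
    Nat.finite_of_card_ne_zero (by rw [hone]; norm_num)
  have hcard : Nat.card (LPG k R ⧸ C) ≤ 1 := by
    rw [← hone]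
    exact Nat.card_le_card_of_surjective ψ hsurj
  have hfinQ : Finite (LPG k R ⧸ C) := Finite.of_surjective ψ hsurj
  have hidx : C.index = 1 := by
    have hpos : 0 < Nat.card (LPG k R ⧸ C) := Nat.card_pos
    unfold Subgroup.index
    omega
  exact Subgroup.index_eq_one.mp hidx

end

section
variable {G : Type*} [Group G] {k N : ℕ} {T : ℕ → ℕ → ℕ}

/-- two words acting in the same way spell the same element, for a faithful action. -/
theorem eq_of_act_eq {ρ : G →* Equiv.Perm (Fin N)} {e : List ℕ → G} (hA : ActsOn ρ e k T)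
    (hinj : Function.Injective ρ) (l l' : List ℕ) (hl : ∀ c ∈ l, c < k) (hl' : ∀ c ∈ l', c < k)
    (h : ∀ v, v < N → actL T l v = actL T l' v) : e l = e l' := by
  apply hinj
  ext v
  rw [hA.act l hl v, hA.act l' hl' v]
  exact h v.val v.isLt

end

end Cfsg.Agent.Helper5.LP
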