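import Mathlib
import Cfsg.Agent.Helper5.StemPG
import Cfsg.Agent.Helper5.StemPK

/-!
# Stem extensions: the covering presentation with a composite exponent

A variant of `card_qmap_ker_dvd_of_pow`: the exponent `e` of the covering presentation only has to
be divisible by `p ^ j`.  One covering presentation then deals with several primes at once.
-/

set_option autoImplicit false

namespace Cfsg.Agent.Helper5.StemP

open Cfsg.Agent.Helper3.Stem Cfsg.Agent.Helper5.LP
open scoped commutatorElement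

universe u v

section bound
variable {Γ : Type u} {G : Type v} [Group Γ] [Group G]

/-- **the order of the kernel of the quotient stem extension divides `a`**, from a covering
presentation with exponent `e` divisible by `p ^ j`, where `p ^ j` does not divide `a`. -/
theorem card_qmap_ker_dvd_of_pow_dvd [Finite G] [Finite Γ] (σ : Γ →* G)
    (hσ : Cfsg.IsStemExtension σ) (hc : σ.ker ≤ Subgroup.center Γ)
    (p : ℕ) (hp : p.Prime) (k j t e : ℕ) (hje : p ^ j ∣ e) (hst : Nat.card G = p ^ k * t)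
    (d : ℕ) (m : ℕ → ℕ) (C T : List (List ℕ))
    (hlt : ∀ r ∈ C ++ T, ∀ c ∈ r, c < 2 * d)
    (g : ℕ → G) (hgen : Subgroup.closure {y | ∃ i, i < d ∧ y = g i} = ⊤)
    (hm : ∀ i, i < d → g i ^ m i = 1 ∧ (m i).Coprime (p ^ k))
    (hC : ∀ r ∈ C ++ T, (r.map (lval g)).prod = 1)
    [Finite (LPG (2 * d) (coverRels d m C T e))] (a : ℕ)
    (ha : Nat.card (LPG (2 * d) (coverRels d m C T e)) ∣ Nat.card G * a)
    (hja : ¬ p ^ j ∣ a) :
    Nat.card (qmap σ hc t).ker ∣ a := by
  have hstem1 := qmap_stem σ hσ hc t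
  have hs1 : ∀ z ∈ (qmap σ hc t).ker, z ^ p ^ k = 1 := qmap_ker_pow σ hσ hc hst
  have hc1 : (qmap σ hc t).ker ≤ Subgroup.center _ := hstem1.2.1
  have hstem2 := pmap_stem (qmap σ hc t) hstem1 hc1 (p ^ j)
  have hs2 := pmap_ker_pow_of (qmap σ hc t) hc1 (p ^ j) (p ^ k) hs1
  have he2 := pmap_ker_pow (qmap σ hc t) hc1 (p ^ j)
  have he2' : ∀ z ∈ (pmap (qmap σ hc t) hc1 (p ^ j)).ker, z ^ e = 1 := by
    intro z hz
    obtain ⟨c, rfl⟩ := hje
    rw [pow_mul, he2 z hz, one_pow]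
  obtain ⟨ψ, hψ, -⟩ := exists_cover_hom (pmap (qmap σ hc t) hc1 (p ^ j)) hstem2 (p ^ k) hs2
    e he2' d m C T hlt g hgen hm hC
  have h1 := card_dvd_of_surjective ψ hψ
  rw [card_eq_card_mul_ker (pmap (qmap σ hc t) hc1 (p ^ j)) hstem2.1] at h1
  have h2 := h1.trans ha
  have hG : 0 < Nat.card G := Nat.card_pos
  have h3 : Nat.card (pmap (qmap σ hc t) hc1 (p ^ j)).ker ∣ a := Nat.dvd_of_mul_dvd_mul_left hG h2
  -- the kernel of the second quotient is a `p`-group
  have : Fact p.Prime := ⟨hp⟩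
  have hpg : IsPGroup p (pmap (qmap σ hc t) hc1 (p ^ j)).ker := by
    intro z
    refine ⟨k, ?_⟩
    apply Subtype.ext
    rw [Subgroup.coe_pow, Subgroup.coe_one]
    exact hs2 z.1 z.2
  obtain ⟨i, hi⟩ := IsPGroup.iff_card.mp hpg
  have hij : i < j := by
    by_contra hcon
    rw [not_lt] at hcon
    apply hja
    exact (pow_dvd_pow p hcon).trans (hi ▸ h3)
  -- every `p ^ i`-th power in the kernel is a `p ^ j`-th power
  have hpow : ∀ z ∈ (qmap σ hc t).ker, ∃ w ∈ (qmap σ hc t).ker, z ^ p ^ i = w ^ p ^ j := by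
    intro z hz
    have hz2 : (QuotientGroup.mk z : _ ⧸ powPart (qmap σ hc t) hc1 (p ^ j)) ∈
        (pmap (qmap σ hc t) hc1 (p ^ j)).ker := hz
    have h4 : (⟨_, hz2⟩ : (pmap (qmap σ hc t) hc1 (p ^ j)).ker) ^
        Nat.card (pmap (qmap σ hc t) hc1 (p ^ j)).ker = 1 := pow_card_eq_one'
    rw [hi] at h4
    have h5 := congrArg Subtype.val h4
    rw [Subgroup.coe_pow, Subgroup.coe_one, ← QuotientGroup.mk_pow,
      QuotientGroup.eq_one_iff] at h5
    obtain ⟨w, hw, hwz⟩ := h5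
    exact ⟨w, hw, hwz.symm⟩
  have h6 := pow_eq_one_of_pow_eq_pow (qmap σ hc t).ker p i j hij hpow k hs1
  have h7 : ∀ z ∈ (qmap σ hc t).ker, z ^ p ^ j = 1 := by
    intro z hz
    obtain ⟨c, rfl⟩ : ∃ c, j = i + c := ⟨j - i, by omega⟩
    rw [pow_add, pow_mul, h6 z hz, one_pow]
  rw [← card_pmap_ker (qmap σ hc t) hc1 (p ^ j) h7]
  exact h3

end bound

end Cfsg.Agent.Helper5.StemP
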