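import Mathlib
import Cfsg.Agent.Helper7.LinearCard
import Cfsg.Agent.Helper5.Misc
import Cfsg.Agent.Helper5.Basic

/-!
Helper lemmas (helper5): the unipotent subgroup and the Borel subgroup of `SL₂(F)`:
a subgroup containing the upper unitriangular matrices and not contained in the Borel subgroup is everything.
-/

set_option autoImplicit false
set_option linter.unusedSimpArgs false

namespace Cfsg.Agent.Helper5.SLB

open Matrix

variable {F : Type*} [Field F]

/-- Upper unitriangular matrix. -/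
def uMat (s : F) : Matrix.SpecialLinearGroup (Fin 2) F :=
  ⟨!![1, s; 0, 1], by simp [Matrix.det_fin_two]⟩

/-- Lower unitriangular matrix. -/
def lMat (t : F) : Matrix.SpecialLinearGroup (Fin 2) F :=
  ⟨!![1, 0; t, 1], by simp [Matrix.det_fin_two]⟩

theorem uMat_coe (s : F) : ((uMat s : Matrix.SpecialLinearGroup (Fin 2) F) : Matrix (Fin 2) (Fin 2) F) =
    !![1, s; 0, 1] := rfl

theorem lMat_coe (t : F) : ((lMat t : Matrix.SpecialLinearGroup (Fin 2) F) : Matrix (Fin 2) (Fin 2) F) =
    !![1, 0; t, 1] := rfl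

theorem sl2_ext {g h : Matrix.SpecialLinearGroup (Fin 2) F}
    (h00 : (g : Matrix (Fin 2) (Fin 2) F) 0 0 = (h : Matrix (Fin 2) (Fin 2) F) 0 0)
    (h01 : (g : Matrix (Fin 2) (Fin 2) F) 0 1 = (h : Matrix (Fin 2) (Fin 2) F) 0 1)
    (h10 : (g : Matrix (Fin 2) (Fin 2) F) 1 0 = (h : Matrix (Fin 2) (Fin 2) F) 1 0)
    (h11 : (g : Matrix (Fin 2) (Fin 2) F) 1 1 = (h : Matrix (Fin 2) (Fin 2) F) 1 1) : g = h := by
  apply Subtype.ext
  ext i j
  fin_cases i <;> fin_cases j
  · exact h00
  · exact h01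
  · exact h10
  · exact h11

theorem det_eq (g : Matrix.SpecialLinearGroup (Fin 2) F) :
    (g : Matrix (Fin 2) (Fin 2) F) 0 0 * (g : Matrix (Fin 2) (Fin 2) F) 1 1 -
      (g : Matrix (Fin 2) (Fin 2) F) 0 1 * (g : Matrix (Fin 2) (Fin 2) F) 1 0 = 1 := by
  have := g.2
  rwa [Matrix.det_fin_two] at this

theorem mul_apply' (g h : Matrix.SpecialLinearGroup (Fin 2) F) (i j : Fin 2) :
    ((g * h : Matrix.SpecialLinearGroup (Fin 2) F) : Matrix (Fin 2) (Fin 2) F) i j =
      (g : Matrix (Fin 2) (Fin 2) F) i 0 * (h : Matrix (Fin 2) (Fin 2) F) 0 j +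
        (g : Matrix (Fin 2) (Fin 2) F) i 1 * (h : Matrix (Fin 2) (Fin 2) F) 1 j := by
  rw [Matrix.SpecialLinearGroup.coe_mul, Matrix.mul_apply, Fin.sum_univ_two]

theorem inv_apply_00 (g : Matrix.SpecialLinearGroup (Fin 2) F) :
    ((g⁻¹ : Matrix.SpecialLinearGroup (Fin 2) F) : Matrix (Fin 2) (Fin 2) F) 0 0 =
      (g : Matrix (Fin 2) (Fin 2) F) 1 1 := by
  rw [Matrix.SpecialLinearGroup.coe_inv, Matrix.adjugate_fin_two]; simp

theorem inv_apply_01 (g : Matrix.SpecialLinearGroup (Fin 2) F) :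
    ((g⁻¹ : Matrix.SpecialLinearGroup (Fin 2) F) : Matrix (Fin 2) (Fin 2) F) 0 1 =
      -(g : Matrix (Fin 2) (Fin 2) F) 0 1 := by
  rw [Matrix.SpecialLinearGroup.coe_inv, Matrix.adjugate_fin_two]; simp

theorem inv_apply_10 (g : Matrix.SpecialLinearGroup (Fin 2) F) :
    ((g⁻¹ : Matrix.SpecialLinearGroup (Fin 2) F) : Matrix (Fin 2) (Fin 2) F) 1 0 =
      -(g : Matrix (Fin 2) (Fin 2) F) 1 0 := by
  rw [Matrix.SpecialLinearGroup.coe_inv, Matrix.adjugate_fin_two]; simp

theorem inv_apply_11 (g : Matrix.SpecialLinearGroup (Fin 2) F) :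
    ((g⁻¹ : Matrix.SpecialLinearGroup (Fin 2) F) : Matrix (Fin 2) (Fin 2) F) 1 1 =
      (g : Matrix (Fin 2) (Fin 2) F) 0 0 := by
  rw [Matrix.SpecialLinearGroup.coe_inv, Matrix.adjugate_fin_two]; simp

theorem uMat_mul (s t : F) : uMat s * uMat t = uMat (s + t) := by
  apply sl2_ext <;> simp [mul_apply', uMat_coe, add_comm]

theorem uMat_zero : uMat (0 : F) = 1 := by
  apply sl2_ext <;> simp [uMat_coe]

theorem uMat_inv (s : F) : (uMat s)⁻¹ = uMat (-s) := by
  apply inv_eq_of_mul_eq_one_right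
  rw [uMat_mul, add_neg_cancel, uMat_zero]

theorem uMat_injective : Function.Injective (uMat : F → Matrix.SpecialLinearGroup (Fin 2) F) := by
  intro s t h
  have := congrArg (fun M : Matrix.SpecialLinearGroup (Fin 2) F =>
    (M : Matrix (Fin 2) (Fin 2) F) 0 1) h
  simpa [uMat_coe] using this

/-- The upper unitriangular subgroup. -/
def unip (F : Type*) [Field F] : Subgroup (Matrix.SpecialLinearGroup (Fin 2) F) where
  carrier := Set.range uMat
  mul_mem' := by
    rintro _ _ ⟨s, rfl⟩ ⟨t, rfl⟩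
    exact ⟨s + t, (uMat_mul s t).symm⟩
  one_mem' := ⟨0, uMat_zero⟩
  inv_mem' := by
    rintro _ ⟨s, rfl⟩
    exact ⟨-s, (uMat_inv s).symm⟩

theorem mem_unip (g : Matrix.SpecialLinearGroup (Fin 2) F) : g ∈ unip F ↔ ∃ s, uMat s = g := Iff.rfl

theorem uMat_mem (s : F) : uMat s ∈ unip F := ⟨s, rfl⟩

/-- The Borel subgroup: lower-left entry zero. -/
def borel (F : Type*) [Field F] : Subgroup (Matrix.SpecialLinearGroup (Fin 2) F) where
  carrier := {g | (g : Matrix (Fin 2) (Fin 2) F) 1 0 = 0}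
  mul_mem' := by
    intro g h hg hh
    simp only [Set.mem_ofPred_eq] at hg hh ⊢
    rw [mul_apply', hg, hh]; simp
  one_mem' := by simp
  inv_mem' := by
    intro g hg
    simp only [Set.mem_ofPred_eq] at hg ⊢
    rw [inv_apply_10, hg, neg_zero]

theorem mem_borel (g : Matrix.SpecialLinearGroup (Fin 2) F) :
    g ∈ borel F ↔ (g : Matrix (Fin 2) (Fin 2) F) 1 0 = 0 := Iff.rfl

theorem unip_le_borel : unip F ≤ borel F := by
  rintro _ ⟨s, rfl⟩
  rw [mem_borel, uMat_coe]; simp

theorem lMat_not_mem_borel : lMat (1 : F) ∉ borel F := by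
  rw [mem_borel, lMat_coe]; simp

theorem borel_ne_top : borel F ≠ ⊤ := by
  intro h
  apply lMat_not_mem_borel (F := F)
  rw [h]; trivial


section entries

variable (s : F)

theorem uMat_00 : ((uMat s : Matrix.SpecialLinearGroup (Fin 2) F) : Matrix (Fin 2) (Fin 2) F) 0 0 = 1 := rfl
theorem uMat_01 : ((uMat s : Matrix.SpecialLinearGroup (Fin 2) F) : Matrix (Fin 2) (Fin 2) F) 0 1 = s := rfl
theorem uMat_10 : ((uMat s : Matrix.SpecialLinearGroup (Fin 2) F) : Matrix (Fin 2) (Fin 2) F) 1 0 = 0 := rfl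
theorem uMat_11 : ((uMat s : Matrix.SpecialLinearGroup (Fin 2) F) : Matrix (Fin 2) (Fin 2) F) 1 1 = 1 := rfl
theorem lMat_00 : ((lMat s : Matrix.SpecialLinearGroup (Fin 2) F) : Matrix (Fin 2) (Fin 2) F) 0 0 = 1 := rfl
theorem lMat_01 : ((lMat s : Matrix.SpecialLinearGroup (Fin 2) F) : Matrix (Fin 2) (Fin 2) F) 0 1 = 0 := rfl
theorem lMat_10 : ((lMat s : Matrix.SpecialLinearGroup (Fin 2) F) : Matrix (Fin 2) (Fin 2) F) 1 0 = s := rfl
theorem lMat_11 : ((lMat s : Matrix.SpecialLinearGroup (Fin 2) F) : Matrix (Fin 2) (Fin 2) F) 1 1 = 1 := rfl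

end entries

/-- Conjugating the unipotent subgroup by a suitable element outside the Borel subgroup gives the
lower unitriangular matrices. -/
theorem conj_uMat_eq_lMat (h : Matrix.SpecialLinearGroup (Fin 2) F)
    (hc : (h : Matrix (Fin 2) (Fin 2) F) 1 0 ≠ 0) (s : F) :
    (uMat (-(h : Matrix (Fin 2) (Fin 2) F) 0 0 / (h : Matrix (Fin 2) (Fin 2) F) 1 0) * h) * uMat s =
      lMat (-s * (h : Matrix (Fin 2) (Fin 2) F) 1 0 ^ 2) *
        (uMat (-(h : Matrix (Fin 2) (Fin 2) F) 0 0 / (h : Matrix (Fin 2) (Fin 2) F) 1 0) * h) := by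
  have hdet := det_eq h
  set a := (h : Matrix (Fin 2) (Fin 2) F) 0 0
  set b := (h : Matrix (Fin 2) (Fin 2) F) 0 1
  set c := (h : Matrix (Fin 2) (Fin 2) F) 1 0
  set d := (h : Matrix (Fin 2) (Fin 2) F) 1 1
  apply sl2_ext
  · simp only [mul_apply', uMat_00, uMat_01, uMat_10, uMat_11, lMat_00, lMat_01, lMat_10, lMat_11]
    ring
  · simp only [mul_apply', uMat_00, uMat_01, uMat_10, uMat_11, lMat_00, lMat_01, lMat_10, lMat_11]
    field_simp
    ring
  · simp only [mul_apply', uMat_00, uMat_01, uMat_10, uMat_11, lMat_00, lMat_01, lMat_10, lMat_11]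
    field_simp
    ring
  · simp only [mul_apply', uMat_00, uMat_01, uMat_10, uMat_11, lMat_00, lMat_01, lMat_10, lMat_11]
    field_simp
    linear_combination (-(s * c)) * hdet


/-- Bruhat-type factorisation of an element outside the Borel subgroup. -/
theorem eq_uMat_lMat_uMat (g : Matrix.SpecialLinearGroup (Fin 2) F)
    (hc : (g : Matrix (Fin 2) (Fin 2) F) 1 0 ≠ 0) :
    g = uMat (((g : Matrix (Fin 2) (Fin 2) F) 0 0 - 1) / (g : Matrix (Fin 2) (Fin 2) F) 1 0) *
      lMat ((g : Matrix (Fin 2) (Fin 2) F) 1 0) *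
      uMat (((g : Matrix (Fin 2) (Fin 2) F) 1 1 - 1) / (g : Matrix (Fin 2) (Fin 2) F) 1 0) := by
  have hdet := det_eq g
  set a := (g : Matrix (Fin 2) (Fin 2) F) 0 0
  set b := (g : Matrix (Fin 2) (Fin 2) F) 0 1
  set c := (g : Matrix (Fin 2) (Fin 2) F) 1 0
  set d := (g : Matrix (Fin 2) (Fin 2) F) 1 1
  apply sl2_ext
  · simp only [mul_apply', uMat_00, uMat_01, uMat_10, uMat_11, lMat_00, lMat_01, lMat_10, lMat_11]
    field_simp
    ring
  · simp only [mul_apply', uMat_00, uMat_01, uMat_10, uMat_11, lMat_00, lMat_01, lMat_10, lMat_11]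
    field_simp
    linear_combination (-1 : F) * hdet
  · simp only [mul_apply', uMat_00, uMat_01, uMat_10, uMat_11, lMat_00, lMat_01, lMat_10, lMat_11]
    ring
  · simp only [mul_apply', uMat_00, uMat_01, uMat_10, uMat_11, lMat_00, lMat_01, lMat_10, lMat_11]
    field_simp
    ring

/-- A subgroup containing the unipotent subgroup and not contained in the Borel subgroup is everything. -/
theorem eq_top_of_unip_le_of_not_le_borel (H : Subgroup (Matrix.SpecialLinearGroup (Fin 2) F))
    (hU : unip F ≤ H) (hB : ¬ H ≤ borel F) : H = ⊤ := by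
  obtain ⟨h, hhH, hhB⟩ := SetLike.not_le_iff_exists.mp hB
  rw [mem_borel] at hhB
  -- all lower unitriangular matrices lie in `H`
  have hL : ∀ t : F, lMat t ∈ H := by
    intro t
    set c := (h : Matrix (Fin 2) (Fin 2) F) 1 0 with hcdef
    set k := uMat (-(h : Matrix (Fin 2) (Fin 2) F) 0 0 / c) * h with hk
    have hkH : k ∈ H := H.mul_mem (hU (uMat_mem _)) hhH
    have h1 := conj_uMat_eq_lMat h hhB (-t / c ^ 2)
    have h2 : -(-t / c ^ 2) * c ^ 2 = t := by field_simp
    rw [← hcdef, ← hk, h2] at h1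
    have h3 : lMat t = k * uMat (-t / c ^ 2) * k⁻¹ := by
      rw [h1, mul_inv_cancel_right]
    rw [h3]
    exact H.mul_mem (H.mul_mem hkH (hU (uMat_mem _))) (H.inv_mem hkH)
  have hgen : ∀ g : Matrix.SpecialLinearGroup (Fin 2) F,
      (g : Matrix (Fin 2) (Fin 2) F) 1 0 ≠ 0 → g ∈ H := by
    intro g hg
    rw [eq_uMat_lMat_uMat g hg]
    exact H.mul_mem (H.mul_mem (hU (uMat_mem _)) (hL _)) (hU (uMat_mem _))
  rw [eq_top_iff]
  intro g _
  by_cases hg : (g : Matrix (Fin 2) (Fin 2) F) 1 0 = 0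
  · have hdet := det_eq g
    rw [hg, mul_zero, sub_zero] at hdet
    have ha : (g : Matrix (Fin 2) (Fin 2) F) 0 0 ≠ 0 := by
      intro h0
      rw [h0, zero_mul] at hdet
      exact zero_ne_one hdet
    have h1 : lMat 1 * g ∈ H := by
      apply hgen
      rw [mul_apply', lMat_10, lMat_11, hg]
      simpa using ha
    have h2 : g = (lMat 1)⁻¹ * (lMat 1 * g) := by rw [inv_mul_cancel_left]
    rw [h2]
    exact H.mul_mem (H.inv_mem (hL 1)) h1
  · exact hgen g hg

/-- The Borel subgroup normalizes the unipotent subgroup. -/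
theorem borel_le_normalizer_unip : borel F ≤ Subgroup.normalizer (unip F : Set (Matrix.SpecialLinearGroup (Fin 2) F)) := by
  have key : ∀ b ∈ borel F, ∀ u ∈ unip F, b * u * b⁻¹ ∈ unip F := by
    rintro b hb _ ⟨s, rfl⟩
    rw [mem_borel] at hb
    have hdet := det_eq b
    rw [hb, mul_zero, sub_zero] at hdet
    refine ⟨(b : Matrix (Fin 2) (Fin 2) F) 0 0 ^ 2 * s, ?_⟩
    have h1 : uMat ((b : Matrix (Fin 2) (Fin 2) F) 0 0 ^ 2 * s) * b = b * uMat s := by
      apply sl2_ext
      · simp only [mul_apply', uMat_00, uMat_01, uMat_10, uMat_11, hb]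
        ring
      · simp only [mul_apply', uMat_00, uMat_01, uMat_10, uMat_11, hb]
        linear_combination ((b : Matrix (Fin 2) (Fin 2) F) 0 0 * s) * hdet
      · simp only [mul_apply', uMat_00, uMat_01, uMat_10, uMat_11, hb]
        ring
      · simp only [mul_apply', uMat_00, uMat_01, uMat_10, uMat_11, hb]
        ring
    rw [← h1, mul_inv_cancel_right]
  intro b hb
  rw [Subgroup.mem_normalizer_iff]
  intro x
  constructor
  · intro hx
    exact key b hb x hx
  · intro hx
    have := key b⁻¹ ((borel F).inv_mem hb) _ hx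
    simpa [mul_assoc] using this

/-- The unipotent subgroup is not normal. -/
theorem normalizer_unip_ne_top :
    Subgroup.normalizer (unip F : Set (Matrix.SpecialLinearGroup (Fin 2) F)) ≠ ⊤ := by
  intro h
  have h1 : lMat (1 : F) ∈ Subgroup.normalizer (unip F : Set (Matrix.SpecialLinearGroup (Fin 2) F)) := by
    rw [h]; trivial
  have h2 := (Subgroup.mem_normalizer_iff.mp h1 (uMat 1)).mp (uMat_mem 1)
  have h3 := unip_le_borel h2
  rw [mem_borel] at h3
  simp only [mul_apply', inv_apply_10, inv_apply_00, lMat_10, lMat_11, uMat_00, uMat_01, uMat_10,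
    uMat_11] at h3
  have h4 : (1 : F) = 0 := by linear_combination (-1 : F) * h3
  exact one_ne_zero h4

/-- Proper subgroups containing the unipotent subgroup normalize it. -/
theorem le_normalizer_unip_of_ne_top (H : Subgroup (Matrix.SpecialLinearGroup (Fin 2) F))
    (hU : unip F ≤ H) (hH : H ≠ ⊤) :
    H ≤ Subgroup.normalizer (unip F : Set (Matrix.SpecialLinearGroup (Fin 2) F)) := by
  have h1 : H ≤ borel F := by
    by_contra hcon
    exact hH (eq_top_of_unip_le_of_not_le_borel H hU hcon)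
  exact h1.trans borel_le_normalizer_unip


section finite

variable [Fintype F]

theorem card_unip : Nat.card (unip F) = Fintype.card F := by
  have e : F ≃ unip F := Equiv.ofBijective (fun s => (⟨uMat s, uMat_mem s⟩ : unip F))
    ⟨fun s t h => uMat_injective (congrArg Subtype.val h), by
      rintro ⟨_, s, rfl⟩
      exact ⟨s, rfl⟩⟩
  rw [← Nat.card_congr e, Nat.card_eq_fintype_card]

theorem card_SL2' : Nat.card (Matrix.SpecialLinearGroup (Fin 2) F) =
    Fintype.card F * (Fintype.card F ^ 2 - 1) := by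
  have h1 := Matrix.card_GL_field (𝔽 := F) 2
  have h2 := Cfsg.Agent.Helper7.card_units_mul_card_SL (n := Fin 2) (F := F)
  have hq : 2 ≤ Fintype.card F := Fintype.one_lt_card
  rw [h1] at h2
  simp only [Fin.prod_univ_two, Fin.val_zero, pow_zero, Fin.val_one, pow_one] at h2
  have h3 : Fintype.card F ^ 2 - Fintype.card F = Fintype.card F * (Fintype.card F - 1) := by
    rw [Nat.mul_sub, mul_one, pow_two]
  rw [h3] at h2
  have hpos : 0 < Fintype.card F - 1 := by omega
  have h4 : (Fintype.card F - 1) * Nat.card (Matrix.SpecialLinearGroup (Fin 2) F) =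
      (Fintype.card F - 1) * (Fintype.card F * (Fintype.card F ^ 2 - 1)) := by
    rw [h2]; ring
  exact Nat.eq_of_mul_eq_mul_left hpos h4

theorem index_unip : (unip F).index = Fintype.card F ^ 2 - 1 := by
  have h1 := Subgroup.card_mul_index (unip F)
  rw [card_unip, card_SL2'] at h1
  have hq : 0 < Fintype.card F := Fintype.card_pos
  exact Nat.eq_of_mul_eq_mul_left hq h1

variable (p : ℕ) [hp : Fact p.Prime] [CharP F p]

omit hp in
theorem isPGroup_unip : IsPGroup p (unip F) := by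
  obtain ⟨n, -, hn⟩ := FiniteField.card F p
  apply IsPGroup.of_card (n := n)
  rw [card_unip, hn]

theorem not_dvd_index_unip : ¬ p ∣ (unip F).index := by
  obtain ⟨n, -, hn⟩ := FiniteField.card F p
  rw [index_unip, hn]
  intro h
  have hpos : 0 < p := hp.out.pos
  have h1 : p ∣ (p ^ (n : ℕ)) ^ 2 := by
    rw [← pow_mul]
    exact dvd_pow_self p (Nat.mul_ne_zero n.pos.ne' two_ne_zero)
  have h2 : 1 ≤ (p ^ (n : ℕ)) ^ 2 := Nat.one_le_iff_ne_zero.mpr (by positivity)
  have h3 : p ∣ 1 := by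
    have h4 : (p ^ (n : ℕ)) ^ 2 = ((p ^ (n : ℕ)) ^ 2 - 1) + 1 := by omega
    rw [h4] at h1
    exact (Nat.dvd_add_right h).mp h1
  exact hp.out.one_lt.ne' (Nat.dvd_one.mp h3)

/-- The unipotent subgroup as a Sylow subgroup. -/
noncomputable def unipSylow : Sylow p (Matrix.SpecialLinearGroup (Fin 2) F) :=
  (isPGroup_unip p).toSylow (not_dvd_index_unip p)

theorem coe_unipSylow : ((unipSylow (F := F) p : Sylow p (Matrix.SpecialLinearGroup (Fin 2) F)) :
    Subgroup (Matrix.SpecialLinearGroup (Fin 2) F)) = unip F := rfl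

end finite


section normmax

/-- `T` has proper normalizer, and every proper subgroup containing `T` normalizes `T`. -/
def NormMax {Y : Type*} [Group Y] (T : Subgroup Y) : Prop :=
  Subgroup.normalizer (T : Set Y) ≠ ⊤ ∧
    ∀ H : Subgroup Y, T ≤ H → H ≠ ⊤ → H ≤ Subgroup.normalizer (T : Set Y)

theorem NormMax.map_equiv {Y Z : Type*} [Group Y] [Group Z] (e : Y ≃* Z) {T : Subgroup Y}
    (h : NormMax T) : NormMax (T.map e.toMonoidHom) := by
  obtain ⟨h1, h2⟩ := h
  have hN : Subgroup.normalizer ((T.map e.toMonoidHom : Subgroup Z) : Set Z) =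
      (Subgroup.normalizer (T : Set Y)).map e.toMonoidHom :=
    (Subgroup.map_equiv_normalizer_eq T e).symm
  refine ⟨?_, ?_⟩
  · intro htop
    apply h1
    rw [eq_top_iff]
    intro y _
    have : e y ∈ Subgroup.normalizer ((T.map e.toMonoidHom : Subgroup Z) : Set Z) := by
      rw [htop]; trivial
    rw [hN] at this
    obtain ⟨y', hy', hyy⟩ := this
    have : y' = y := e.injective hyy
    rw [← this]; exact hy'
  · intro H hTH hH
    have hT' : T ≤ H.comap e.toMonoidHom := by
      intro t ht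
      exact hTH ⟨t, ht, rfl⟩
    have hH' : H.comap e.toMonoidHom ≠ ⊤ := by
      intro htop
      apply hH
      rw [eq_top_iff]
      intro z _
      have : e.symm z ∈ H.comap e.toMonoidHom := by rw [htop]; trivial
      rw [Subgroup.mem_comap] at this
      simpa using this
    have h3 := h2 _ hT' hH'
    intro z hz
    rw [hN]
    refine ⟨e.symm z, h3 ?_, by simp⟩
    rw [Subgroup.mem_comap]
    simpa using hz

theorem NormMax.of_surjective {X Y : Type*} [Group X] [Group Y] (φ : X →* Y)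
    (hφ : Function.Surjective φ) {T : Subgroup X} (hker : φ.ker ≤ T) (h : NormMax (T.map φ)) :
    NormMax T := by
  obtain ⟨h1, h2⟩ := h
  have hcm : (T.map φ).comap φ = T := by
    rw [Subgroup.comap_map_eq]; exact sup_eq_left.mpr hker
  have hN : Subgroup.normalizer (T : Set X) =
      (Subgroup.normalizer ((T.map φ : Subgroup Y) : Set Y)).comap φ := by
    have := Subgroup.comap_normalizer_eq_of_surjective (T.map φ) hφ
    rw [hcm] at this
    exact this.symm
  refine ⟨?_, ?_⟩
  · intro htop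
    apply h1
    rw [eq_top_iff]
    intro y _
    obtain ⟨x, rfl⟩ := hφ y
    have : x ∈ Subgroup.normalizer (T : Set X) := by rw [htop]; trivial
    rw [hN] at this
    exact this
  · intro H hTH hH
    have hH' : H.map φ ≠ ⊤ := by
      intro htop
      apply hH
      have h3 : (H.map φ).comap φ = H := by
        rw [Subgroup.comap_map_eq]; exact sup_eq_left.mpr (hker.trans hTH)
      rw [← h3, htop, Subgroup.comap_top]
    have h3 := h2 (H.map φ) (Subgroup.map_mono hTH) hH'
    intro x hx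
    rw [hN, Subgroup.mem_comap]
    exact h3 ⟨x, hx, rfl⟩

theorem NormMax.isCoatom {X : Type*} [Group X] {T : Subgroup X} (h : NormMax T) :
    IsCoatom (Subgroup.normalizer (T : Set X)) ∧
      ∀ M : Subgroup X, IsCoatom M → T ≤ M → M = Subgroup.normalizer (T : Set X) := by
  obtain ⟨h1, h2⟩ := h
  have hco : IsCoatom (Subgroup.normalizer (T : Set X)) := by
    refine ⟨h1, fun H hH => ?_⟩
    by_contra hne
    have := h2 H (Subgroup.le_normalizer.trans hH.le) hne
    exact absurd (lt_of_lt_of_le hH this) (lt_irrefl _)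
  refine ⟨hco, fun M hM hTM => ?_⟩
  have hle := h2 M hTM hM.1
  by_contra hne
  exact h1 (hM.2 _ (lt_of_le_of_ne hle hne))

end normmax


theorem normMax_unip : NormMax (unip F) :=
  ⟨normalizer_unip_ne_top, fun H hU hH => le_normalizer_unip_of_ne_top H hU hH⟩

theorem normMax_sylow [Fintype F] (p : ℕ) [hp : Fact p.Prime] [CharP F p]
    (P : Sylow p (Matrix.SpecialLinearGroup (Fin 2) F)) :
    NormMax (P : Subgroup (Matrix.SpecialLinearGroup (Fin 2) F)) := by
  obtain ⟨g, hg⟩ := Cfsg.Agent.Helper5.sylow_exists_map_conj_eq (unipSylow (F := F) p) P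
  rw [← hg, coe_unipSylow]
  exact normMax_unip.map_equiv (MulAut.conj g)

/-- In characteristic two the centre of `SL₂(F)` is trivial. -/
theorem center_eq_bot_of_charTwo [CharP F 2] :
    Subgroup.center (Matrix.SpecialLinearGroup (Fin 2) F) = ⊥ := by
  rw [eq_bot_iff]
  intro A hA
  rw [Matrix.SpecialLinearGroup.mem_center_iff] at hA
  obtain ⟨r, hr, hrA⟩ := hA
  rw [Fintype.card_fin] at hr
  have h1 : (r - 1) ^ 2 = 0 := by
    have h2 : (2 : F) = 0 := CharTwo.two_eq_zero
    have : (r - 1) ^ 2 = r ^ 2 - 2 * r + 1 := by ring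
    rw [this, hr]
    linear_combination (1 - r) * h2
  have h3 : r = 1 := by
    have := pow_eq_zero_iff (two_ne_zero) |>.mp h1
    exact sub_eq_zero.mp this
  rw [Subgroup.mem_bot]
  apply Subtype.ext
  rw [← hrA, h3]
  simp

/-- In characteristic two `PSL₂(F) ≃ SL₂(F)`. -/
noncomputable def pslEquivSL [CharP F 2] :
    Matrix.ProjectiveSpecialLinearGroup (Fin 2) F ≃* Matrix.SpecialLinearGroup (Fin 2) F :=
  (QuotientGroup.quotientMulEquivOfEq center_eq_bot_of_charTwo).trans QuotientGroup.quotientBot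

end Cfsg.Agent.Helper5.SLB




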