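import Mathlib

/-!
# Abstract lemmas for trivial Schur multipliers

* `pow_index_eq_one_of_comm`: transfer into a commutative subgroup kills the `index`-th power of a
  central element of the commutator subgroup.
* `comm_comap_zpowers`: the preimage of a cyclic subgroup under a central extension is commutative.
* `commute_T`: the "Fano plane" argument for a central extension of `2³` admitting an element of
  order `7`.
-/

set_option autoImplicit false

namespace Cfsg.Agent.Helper5.SchurAbs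

open Subgroup
open scoped commutatorElement

open scoped IsMulCommutative in
/-- transfer into a commutative subgroup. -/
theorem pow_index_eq_one_of_comm {Γ : Type*} [Group Γ] (H : Subgroup Γ) [H.FiniteIndex]
    (hH : ∀ a ∈ H, ∀ b ∈ H, a * b = b * a) (z : Γ) (hz : z ∈ center Γ)
    (hz' : z ∈ commutator Γ) : z ^ H.index = 1 := by
  have : IsMulCommutative H := ⟨⟨fun a b => Subtype.ext (hH a a.2 b b.2)⟩⟩
  have key : ∀ (k : ℕ) (g₀ : Γ), g₀⁻¹ * z ^ k * g₀ ∈ H → g₀⁻¹ * z ^ k * g₀ = z ^ k := by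
    intro k g₀ _
    have h := (mem_center_iff.mp (pow_mem hz k)) g₀
    rw [mul_assoc, ← h, inv_mul_cancel_left]
  have h1 := MonoidHom.transfer_eq_pow (MonoidHom.id H) z key
  have h2 : MonoidHom.transfer (MonoidHom.id H) z = 1 :=
    MonoidHom.mem_ker.mp (Abelianization.commutator_subset_ker _ hz')
  rw [h2] at h1
  exact (congrArg Subtype.val h1).symm

/-- the preimage of a cyclic subgroup under a central extension is commutative. -/
theorem comm_comap_zpowers {Γ G : Type*} [Group Γ] [Group G] (σ : Γ →* G)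
    (hσ : Function.Surjective σ) (hK : σ.ker ≤ center Γ) (g : G) :
    ∀ a ∈ (zpowers g).comap σ, ∀ b ∈ (zpowers g).comap σ, a * b = b * a := by
  obtain ⟨g', rfl⟩ := hσ g
  have key : ∀ a ∈ (zpowers (σ g')).comap σ, ∃ n : ℤ, ∃ k ∈ center Γ, a = g' ^ n * k := by
    intro a ha
    obtain ⟨n, hn⟩ := mem_zpowers_iff.mp (mem_comap.mp ha)
    refine ⟨n, (g' ^ n)⁻¹ * a, hK ?_, by group⟩
    rw [MonoidHom.mem_ker, map_mul, map_inv, map_zpow, hn, inv_mul_cancel]
  intro a ha b hb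
  obtain ⟨n, k, hk, rfl⟩ := key a ha
  obtain ⟨m, l, hl, rfl⟩ := key b hb
  have c1 : ∀ y : Γ, k * y = y * k := fun y => ((mem_center_iff.mp hk) y).symm
  have c2 : ∀ y : Γ, l * y = y * l := fun y => ((mem_center_iff.mp hl) y).symm
  calc g' ^ n * k * (g' ^ m * l) = g' ^ n * (k * (g' ^ m * l)) := by rw [mul_assoc]
    _ = g' ^ n * (g' ^ m * l * k) := by rw [c1]
    _ = g' ^ n * g' ^ m * (l * k) := by simp only [mul_assoc]
    _ = g' ^ m * g' ^ n * (l * k) := by rw [(Commute.zpow_zpow_self g' n m).eq]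
    _ = g' ^ m * (g' ^ n * k * l) := by rw [c2 k]; simp only [mul_assoc]
    _ = g' ^ m * (l * (g' ^ n * k)) := by rw [c2 (g' ^ n * k)]
    _ = g' ^ m * l * (g' ^ n * k) := by rw [mul_assoc]

section Fano

variable {Γ : Type*} [Group Γ] (x t : Γ)

/-- the conjugates of `t` under the powers of `x`. -/
def T (i : ℕ) : Γ := x ^ i * t * (x ^ i)⁻¹

theorem T_add (i j : ℕ) : T x t (i + j) = x ^ i * T x t j * (x ^ i)⁻¹ := by
  unfold T
  rw [pow_add]
  group

theorem comm_conj (g a b : Γ) : ⁅g * a * g⁻¹, g * b * g⁻¹⁆ = g * ⁅a, b⁆ * g⁻¹ := by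
  simp only [commutatorElement_def]
  group

theorem conj_central {z : Γ} (hz : z ∈ center Γ) (g : Γ) : g * z * g⁻¹ = z := by
  rw [(mem_center_iff.mp hz) g, mul_inv_cancel_right]

theorem comm_T_add (hc : ∀ i j : ℕ, ⁅T x t i, T x t j⁆ ∈ center Γ) (n i j : ℕ) :
    ⁅T x t (n + i), T x t (n + j)⁆ = ⁅T x t i, T x t j⁆ := by
  rw [T_add, T_add, comm_conj, conj_central (hc i j)]

theorem T_add_seven (h7 : x ^ 7 ∈ center Γ) (i : ℕ) : T x t (i + 7) = T x t i := by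
  rw [T_add]
  have : T x t 7 = t := by
    unfold T
    rw [← (mem_center_iff.mp h7) t, mul_inv_cancel_right]
  rw [this]
  rfl

theorem comm_mul_right {a b c : Γ} (h : ⁅a, c⁆ ∈ center Γ) : ⁅a, b * c⁆ = ⁅a, b⁆ * ⁅a, c⁆ := by
  have : ⁅a, b * c⁆ = ⁅a, b⁆ * (b * ⁅a, c⁆ * b⁻¹) := by
    simp only [commutatorElement_def]; group
  rw [this, conj_central h]

theorem comm_mul_central {a b k : Γ} (hk : k ∈ center Γ) : ⁅a, b * k⁆ = ⁅a, b⁆ := by
  have h1 : ⁅a, k⁆ = 1 := by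
    rw [commutatorElement_eq_one_iff_mul_comm]
    exact ((mem_center_iff.mp hk) a)
  rw [comm_mul_right (by rw [h1]; exact one_mem _), h1, mul_one]

theorem comm_inv' (a b : Γ) : ⁅a, b⁆⁻¹ = ⁅b, a⁆ := commutatorElement_inv a b

/-- the Fano plane argument. -/
theorem commute_T (h7 : x ^ 7 ∈ center Γ) (hc : ∀ i j : ℕ, ⁅T x t i, T x t j⁆ ∈ center Γ)
    (hr : ∃ k ∈ center Γ, T x t 0 * T x t 1 = T x t 5 * k) :
    ∀ i j : ℕ, i < 7 → j < 7 → T x t i * T x t j = T x t j * T x t i := by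
  -- the shifted relations
  have hrel : ∀ n : ℕ, ∃ k ∈ center Γ, T x t n * T x t (n + 1) = T x t (n + 5) * k := by
    intro n
    obtain ⟨k, hk, h⟩ := hr
    refine ⟨k, hk, ?_⟩
    have e0 : T x t n = x ^ n * T x t 0 * (x ^ n)⁻¹ := by rw [← T_add]; rfl
    rw [e0, T_add, T_add]
    have : x ^ n * T x t 0 * (x ^ n)⁻¹ * (x ^ n * T x t 1 * (x ^ n)⁻¹)
        = x ^ n * (T x t 0 * T x t 1) * (x ^ n)⁻¹ := by group
    rw [this, h]
    have hk' : k * (x ^ n)⁻¹ = (x ^ n)⁻¹ * k := ((mem_center_iff.mp hk) _).symm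
    calc x ^ n * (T x t 5 * k) * (x ^ n)⁻¹ = x ^ n * T x t 5 * (k * (x ^ n)⁻¹) := by
          simp only [mul_assoc]
      _ = x ^ n * T x t 5 * (x ^ n)⁻¹ * k := by rw [hk']; simp only [mul_assoc]
  -- the recurrence
  have hrec : ∀ n : ℕ, ⁅T x t 0, T x t (n + 5)⁆ = ⁅T x t 0, T x t n⁆ * ⁅T x t 0, T x t (n + 1)⁆ := by
    intro n
    obtain ⟨k, hk, h⟩ := hrel n
    rw [← comm_mul_central (a := T x t 0) (b := T x t (n + 5)) hk, ← h, comm_mul_right (hc 0 (n + 1))]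
  have hself : ⁅T x t 0, T x t 0⁆ = 1 := commutatorElement_self _
  -- antisymmetry
  have hanti : ∀ d : ℕ, d ≤ 7 → ⁅T x t 0, T x t (7 - d)⁆ = ⁅T x t 0, T x t d⁆⁻¹ := by
    intro d hd
    rw [comm_inv']
    have h1 := comm_T_add x t hc d 0 (7 - d)
    rw [show d + (7 - d) = 0 + 7 by omega, T_add_seven x t h7, add_zero] at h1
    exact h1.symm
  have r0 : ⁅T x t 0, T x t 5⁆ = ⁅T x t 0, T x t 1⁆ := by
    have := hrec 0
    rwa [hself, one_mul] at this
  have r1 : ⁅T x t 0, T x t 6⁆ = ⁅T x t 0, T x t 1⁆ * ⁅T x t 0, T x t 2⁆ := hrec 1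
  have r2 : ⁅T x t 0, T x t 7⁆ = ⁅T x t 0, T x t 2⁆ * ⁅T x t 0, T x t 3⁆ := hrec 2
  have a1 : ⁅T x t 0, T x t 6⁆ = ⁅T x t 0, T x t 1⁆⁻¹ := hanti 1 (by norm_num)
  have a2 : ⁅T x t 0, T x t 5⁆ = ⁅T x t 0, T x t 2⁆⁻¹ := hanti 2 (by norm_num)
  have a3 : ⁅T x t 0, T x t 4⁆ = ⁅T x t 0, T x t 3⁆⁻¹ := hanti 3 (by norm_num)
  have e1 : ⁅T x t 0, T x t 1⁆ = ⁅T x t 0, T x t 2⁆⁻¹ := by rw [← r0, a2]
  have e2 : ⁅T x t 0, T x t 1⁆ = 1 := by
    have h : ⁅T x t 0, T x t 1⁆⁻¹ = ⁅T x t 0, T x t 1⁆ * ⁅T x t 0, T x t 2⁆ := by rw [← a1, r1]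
    rw [e1, inv_mul_cancel, inv_inv] at h
    rw [e1, h, inv_one]
  have e3 : ⁅T x t 0, T x t 2⁆ = 1 := by
    rw [e2] at e1
    rw [← inv_inv ⁅T x t 0, T x t 2⁆, ← e1, inv_one]
  have g0 : ∀ d : ℕ, d < 7 → ⁅T x t 0, T x t d⁆ = 1 := by
    intro d hd
    have h70 : T x t 7 = T x t 0 := T_add_seven x t h7 0
    have c3 : ⁅T x t 0, T x t 3⁆ = 1 := by
      rw [h70, hself, e3, one_mul] at r2
      exact r2.symm
    have c4 : ⁅T x t 0, T x t 4⁆ = 1 := by rw [a3, c3, inv_one]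
    have c5 : ⁅T x t 0, T x t 5⁆ = 1 := by rw [r0, e2]
    have c6 : ⁅T x t 0, T x t 6⁆ = 1 := by rw [a1, e2, inv_one]
    interval_cases d
    · exact hself
    · exact e2
    · exact e3
    · exact c3
    · exact c4
    · exact c5
    · exact c6
  have main : ∀ i j : ℕ, i ≤ j → j < 7 → T x t i * T x t j = T x t j * T x t i := by
    intro i j hij hj
    rw [← commutatorElement_eq_one_iff_mul_comm]
    have := comm_T_add x t hc i 0 (j - i)
    rw [add_zero, show i + (j - i) = j by omega] at this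
    rw [this]
    exact g0 _ (by omega)
  intro i j hi hj
  rcases le_total i j with h | h
  · exact main i j h hj
  · exact (main j i h hi).symm

end Fano

end Cfsg.Agent.Helper5.SchurAbs
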