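import Mathlib
import Cfsg.Prelude.Def_BaumannBlocks
import Cfsg.Agent.Helper5.ProdCard

/-!
Helper lemmas (helper5): the Chermak–Delgado measure `|R| · |C(R)|`.
-/

set_option autoImplicit false

namespace Cfsg.Agent.Helper5

open scoped Pointwise

variable {P : Type*} [Group P]

/-- The Chermak–Delgado measure. -/
noncomputable def cdMeasure (R : Subgroup P) : ℕ :=
  Nat.card ↥R * Nat.card ↥(Subgroup.centralizer (R : Set P))

theorem cdMeasure_le_max [Finite P] (R : Subgroup P) : cdMeasure R ≤ Cfsg.maxCentralizerProduct P := by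
  unfold Cfsg.maxCentralizerProduct
  apply le_csSup
  · refine ⟨Nat.card P * Nat.card P, ?_⟩
    rintro k ⟨R', rfl⟩
    exact Nat.mul_le_mul (Subgroup.card_le_card_group _) (Subgroup.card_le_card_group _)
  · exact ⟨R, rfl⟩

theorem isCentralizerLarge_iff (R : Subgroup P) :
    Cfsg.IsCentralizerLarge R ↔ cdMeasure R = Cfsg.maxCentralizerProduct P := Iff.rfl

theorem cdMeasure_pos [Finite P] (R : Subgroup P) : 0 < cdMeasure R :=
  Nat.mul_pos Nat.card_pos Nat.card_pos

theorem centralizer_sup_eq (Q R : Subgroup P) :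
    Subgroup.centralizer ((Q ⊔ R : Subgroup P) : Set P) =
      Subgroup.centralizer (Q : Set P) ⊓ Subgroup.centralizer (R : Set P) := by
  apply le_antisymm
  · exact le_inf (Subgroup.centralizer_le (le_sup_left : Q ≤ Q ⊔ R))
      (Subgroup.centralizer_le (le_sup_right : R ≤ Q ⊔ R))
  · intro x hx
    rw [Subgroup.mem_centralizer_iff]
    have hQ : Q ≤ Subgroup.centralizer ({x} : Set P) := by
      intro q hq
      rw [Subgroup.mem_centralizer_singleton_iff]
      exact ((Subgroup.mem_centralizer_iff.mp hx.1) q hq)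
    have hR : R ≤ Subgroup.centralizer ({x} : Set P) := by
      intro r hr
      rw [Subgroup.mem_centralizer_singleton_iff]
      exact ((Subgroup.mem_centralizer_iff.mp hx.2) r hr)
    intro y hy
    have := (sup_le hQ hR) hy
    rw [Subgroup.mem_centralizer_singleton_iff] at this
    exact this

theorem mul_subset_sup (Q R : Subgroup P) : (Q : Set P) * (R : Set P) ⊆ ((Q ⊔ R : Subgroup P) : Set P) := by
  rintro _ ⟨q, hq, r, hr, rfl⟩
  exact Subgroup.mul_mem _ (Subgroup.mem_sup_left hq) (Subgroup.mem_sup_right hr)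

theorem centralizer_mul_subset (Q R : Subgroup P) :
    ((Subgroup.centralizer (Q : Set P) : Subgroup P) : Set P) * ((Subgroup.centralizer (R : Set P) : Subgroup P) : Set P) ⊆
      ((Subgroup.centralizer ((Q ⊓ R : Subgroup P) : Set P) : Subgroup P) : Set P) := by
  rintro _ ⟨x, hx, y, hy, rfl⟩
  exact Subgroup.mul_mem _ (Subgroup.centralizer_le (inf_le_left : Q ⊓ R ≤ Q) hx)
    (Subgroup.centralizer_le (inf_le_right : Q ⊓ R ≤ R) hy)

end Cfsg.Agent.Helper5
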