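import Mathlib
import Cfsg.Prelude.Def_BaumannBlocks
import Cfsg.Agent.Helper5.ChermakDelgado

/-!
Helper lemmas (helper5): Chermak–Delgado inequality in general form, centrally large subgroups.
-/

set_option autoImplicit false

namespace Cfsg.Agent.Helper5

open scoped Pointwise

variable {P : Type*} [Group P]

theorem cd_arith {mH mK i ci j cj x y h ch k ck : ℕ}
    (hh : h * ch = mH) (hk : k * ck = mK)
    (hx : x * i = h * k) (hy : y * cj = ch * ck) (hxj : x ≤ j) (hyc : y ≤ ci) :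
    mH * mK ≤ (j * cj) * (i * ci) := by
  calc mH * mK = (h * ch) * (k * ck) := by rw [hh, hk]
    _ = (h * k) * (ch * ck) := by ring
    _ = (x * i) * (y * cj) := by rw [hx, hy]
    _ = (x * y) * (i * cj) := by ring
    _ ≤ (j * ci) * (i * cj) := Nat.mul_le_mul_right _ (Nat.mul_le_mul hxj hyc)
    _ = (j * cj) * (i * ci) := by ring

theorem cd_arith_eq {mH mK i ci j cj x y h ch k ck : ℕ}
    (hh : h * ch = mH) (hk : k * ck = mK)
    (hx : x * i = h * k) (hy : y * cj = ch * ck) (hxj : x ≤ j) (hyc : y ≤ ci)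
    (hipos : 0 < i) (hcjpos : 0 < cj) (hypos : 0 < y) (hjpos : 0 < j)
    (hge : (j * cj) * (i * ci) ≤ mH * mK) :
    x = j ∧ y = ci := by
  have h1 : mH * mK = (x * y) * (i * cj) := by
    calc mH * mK = (h * ch) * (k * ck) := by rw [hh, hk]
      _ = (h * k) * (ch * ck) := by ring
      _ = (x * i) * (y * cj) := by rw [hx, hy]
      _ = (x * y) * (i * cj) := by ring
  have h2 : (x * y) * (i * cj) ≤ (j * ci) * (i * cj) :=
    Nat.mul_le_mul_right _ (Nat.mul_le_mul hxj hyc)
  have h3 : (j * ci) * (i * cj) = (j * cj) * (i * ci) := by ring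
  have h5 : (x * y) * (i * cj) = (j * ci) * (i * cj) := by
    apply le_antisymm h2
    rw [h3, ← h1]; exact hge
  have hpos : 0 < i * cj := Nat.mul_pos hipos hcjpos
  have h7 : x * y = j * ci := Nat.eq_of_mul_eq_mul_right hpos h5
  have hxj' : x = j := by
    by_contra hne
    have hlt : x < j := lt_of_le_of_ne hxj hne
    have : x * y < j * ci := calc x * y < j * y := Nat.mul_lt_mul_of_pos_right hlt hypos
      _ ≤ j * ci := Nat.mul_le_mul_left _ hyc
    omega
  have hyc' : y = ci := by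
    rw [hxj'] at h7
    exact Nat.eq_of_mul_eq_mul_left hjpos h7
  exact ⟨hxj', hyc'⟩

/-- The Chermak–Delgado inequality. -/
theorem cdMeasure_mul_le [Finite P] (H K : Subgroup P) :
    cdMeasure H * cdMeasure K ≤ cdMeasure (H ⊔ K) * cdMeasure (H ⊓ K) := by
  have hx := card_mul_set_mul_card_inf H K
  have hy := card_mul_set_mul_card_inf (Subgroup.centralizer (H : Set P)) (Subgroup.centralizer (K : Set P))
  have hxj : Nat.card ((H : Set P) * (K : Set P) : Set P) ≤ Nat.card ↥(H ⊔ K) :=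
    Nat.card_mono (Set.toFinite _) (mul_subset_sup H K)
  have hyc : Nat.card (((Subgroup.centralizer (H : Set P) : Subgroup P) : Set P) * ((Subgroup.centralizer (K : Set P) : Subgroup P) : Set P) : Set P) ≤ Nat.card ↥(Subgroup.centralizer ((H ⊓ K : Subgroup P) : Set P)) :=
    Nat.card_mono (Set.toFinite _) (centralizer_mul_subset H K)
  unfold cdMeasure
  rw [centralizer_sup_eq]
  exact cd_arith rfl rfl hx hy hxj hyc

/-- Equality case of the Chermak–Delgado inequality. -/
theorem cdMeasure_mul_eq [Finite P] (H K : Subgroup P)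
    (hge : cdMeasure (H ⊔ K) * cdMeasure (H ⊓ K) ≤ cdMeasure H * cdMeasure K) :
    ((H ⊔ K : Subgroup P) : Set P) = (H : Set P) * (K : Set P) ∧
    ((Subgroup.centralizer ((H ⊓ K : Subgroup P) : Set P) : Subgroup P) : Set P) =
      ((Subgroup.centralizer (H : Set P) : Subgroup P) : Set P) * ((Subgroup.centralizer (K : Set P) : Subgroup P) : Set P) := by
  have hx := card_mul_set_mul_card_inf H K
  have hy := card_mul_set_mul_card_inf (Subgroup.centralizer (H : Set P)) (Subgroup.centralizer (K : Set P))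
  have hsub1 := mul_subset_sup H K
  have hsub2 := centralizer_mul_subset H K
  have hxj : Nat.card ((H : Set P) * (K : Set P) : Set P) ≤ Nat.card ↥(H ⊔ K) :=
    Nat.card_mono (Set.toFinite _) hsub1
  have hyc : Nat.card (((Subgroup.centralizer (H : Set P) : Subgroup P) : Set P) * ((Subgroup.centralizer (K : Set P) : Subgroup P) : Set P) : Set P) ≤ Nat.card ↥(Subgroup.centralizer ((H ⊓ K : Subgroup P) : Set P)) :=
    Nat.card_mono (Set.toFinite _) hsub2
  have hypos : 0 < Nat.card (((Subgroup.centralizer (H : Set P) : Subgroup P) : Set P) * ((Subgroup.centralizer (K : Set P) : Subgroup P) : Set P) : Set P) := by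
    have : Nonempty (((Subgroup.centralizer (H : Set P) : Subgroup P) : Set P) * ((Subgroup.centralizer (K : Set P) : Subgroup P) : Set P) : Set P) :=
      ⟨⟨1 * 1, Set.mul_mem_mul (Subgroup.one_mem _) (Subgroup.one_mem _)⟩⟩
    exact Nat.card_pos
  unfold cdMeasure at hge
  rw [centralizer_sup_eq] at hge
  obtain ⟨e1, e2⟩ := cd_arith_eq rfl rfl hx hy hxj hyc Nat.card_pos Nat.card_pos hypos Nat.card_pos hge
  constructor
  · symm
    apply Set.eq_of_subset_of_ncard_le hsub1 _ (Set.toFinite _)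
    rw [← _root_.Nat.card_coe_set_eq, ← _root_.Nat.card_coe_set_eq]
    exact le_of_eq e1.symm
  · symm
    apply Set.eq_of_subset_of_ncard_le hsub2 _ (Set.toFinite _)
    rw [← _root_.Nat.card_coe_set_eq, ← _root_.Nat.card_coe_set_eq]
    exact le_of_eq e2.symm

theorem le_centralizer_centralizer (Q : Subgroup P) :
    Q ≤ Subgroup.centralizer ((Subgroup.centralizer (Q : Set P) : Subgroup P) : Set P) := by
  intro a ha
  rw [Subgroup.mem_centralizer_iff]
  intro b hb
  exact ((Subgroup.mem_centralizer_iff.mp hb) a ha).symm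

/-- The lattice properties of subgroups of largest measure. -/
theorem chermak_delgado [Finite P] (Q R : Subgroup P)
    (hQ : Cfsg.IsCentralizerLarge Q) (hR : Cfsg.IsCentralizerLarge R) :
    ((Q ⊔ R : Subgroup P) : Set P) = (Q : Set P) * (R : Set P) ∧ Cfsg.IsCentralizerLarge (Q ⊔ R) ∧
      Cfsg.IsCentralizerLarge (Q ⊓ R) ∧
      ((Subgroup.centralizer ((Q ⊓ R : Subgroup P) : Set P) : Subgroup P) : Set P) =
      ((Subgroup.centralizer (Q : Set P) : Subgroup P) : Set P) * ((Subgroup.centralizer (R : Set P) : Subgroup P) : Set P) := by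
  rw [isCentralizerLarge_iff] at hQ hR
  have hM : 0 < Cfsg.maxCentralizerProduct P := by
    have := cdMeasure_pos Q
    omega
  have h1 := cdMeasure_mul_le Q R
  have hj := cdMeasure_le_max (Q ⊔ R)
  have hi := cdMeasure_le_max (Q ⊓ R)
  rw [hQ, hR] at h1
  have h6 : cdMeasure (Q ⊔ R) * cdMeasure (Q ⊓ R) = Cfsg.maxCentralizerProduct P * Cfsg.maxCentralizerProduct P :=
    le_antisymm (Nat.mul_le_mul hj hi) h1
  have hjM : cdMeasure (Q ⊔ R) = Cfsg.maxCentralizerProduct P := by
    by_contra hne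
    have hlt : cdMeasure (Q ⊔ R) < Cfsg.maxCentralizerProduct P := lt_of_le_of_ne hj hne
    have : cdMeasure (Q ⊔ R) * cdMeasure (Q ⊓ R) < Cfsg.maxCentralizerProduct P * Cfsg.maxCentralizerProduct P :=
      calc cdMeasure (Q ⊔ R) * cdMeasure (Q ⊓ R) ≤ cdMeasure (Q ⊔ R) * Cfsg.maxCentralizerProduct P := Nat.mul_le_mul_left _ hi
      _ < Cfsg.maxCentralizerProduct P * Cfsg.maxCentralizerProduct P := Nat.mul_lt_mul_of_pos_right hlt hM
    omega
  have hiM : cdMeasure (Q ⊓ R) = Cfsg.maxCentralizerProduct P := by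
    rw [hjM] at h6
    exact Nat.eq_of_mul_eq_mul_left hM h6
  have h7 := cdMeasure_mul_eq Q R (by rw [hQ, hR, hjM, hiM])
  exact ⟨h7.1, hjM, hiM, h7.2⟩

theorem IsCentralizerLarge.centralizer [Finite P] {Q : Subgroup P} (hQ : Cfsg.IsCentralizerLarge Q) :
    Cfsg.IsCentralizerLarge (Subgroup.centralizer (Q : Set P)) ∧
      Q = Subgroup.centralizer ((Subgroup.centralizer (Q : Set P) : Subgroup P) : Set P) := by
  have hQcc := le_centralizer_centralizer Q
  have hcc := cdMeasure_le_max (Subgroup.centralizer (Q : Set P))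
  unfold cdMeasure at hcc
  have hcard_le : Nat.card ↥Q ≤ Nat.card ↥(Subgroup.centralizer ((Subgroup.centralizer (Q : Set P) : Subgroup P) : Set P)) :=
    Subgroup.card_le_of_le hQcc
  have hQ' : Nat.card ↥Q * Nat.card ↥(Subgroup.centralizer (Q : Set P)) = Cfsg.maxCentralizerProduct P := hQ
  have hCQ : Nat.card ↥(Subgroup.centralizer (Q : Set P)) * Nat.card ↥(Subgroup.centralizer ((Subgroup.centralizer (Q : Set P) : Subgroup P) : Set P)) = Cfsg.maxCentralizerProduct P := by
    apply le_antisymm hcc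
    rw [← hQ', mul_comm]
    exact Nat.mul_le_mul_left _ hcard_le
  have hcard_eq : Nat.card ↥(Subgroup.centralizer ((Subgroup.centralizer (Q : Set P) : Subgroup P) : Set P)) = Nat.card ↥Q := by
    have hpos : 0 < Nat.card ↥(Subgroup.centralizer (Q : Set P)) := Nat.card_pos
    have : Nat.card ↥(Subgroup.centralizer (Q : Set P)) * Nat.card ↥(Subgroup.centralizer ((Subgroup.centralizer (Q : Set P) : Subgroup P) : Set P)) = Nat.card ↥(Subgroup.centralizer (Q : Set P)) * Nat.card ↥Q := by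
      rw [hCQ, ← hQ', mul_comm]
    exact Nat.eq_of_mul_eq_mul_left hpos this
  exact ⟨hCQ, Subgroup.eq_of_le_of_card_ge hQcc (le_of_eq hcard_eq)⟩

/-! ### Centrally large subgroups -/

theorem map_center_subtype (Q : Subgroup P) :
    (Subgroup.center ↥Q).map Q.subtype = Q ⊓ Subgroup.centralizer (Q : Set P) := by
  ext x
  constructor
  · rintro ⟨y, hy, rfl⟩
    refine ⟨y.2, ?_⟩
    show Q.subtype y ∈ Subgroup.centralizer (Q : Set P)
    rw [Subgroup.mem_centralizer_iff]
    intro g hg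
    have hy' : y ∈ Subgroup.center ↥Q := hy
    have := (Subgroup.mem_center_iff.mp hy') ⟨g, hg⟩
    exact congrArg Subtype.val this
  · rintro ⟨hxQ, hxC⟩
    have hxC' : x ∈ Subgroup.centralizer (Q : Set P) := hxC
    refine ⟨⟨x, hxQ⟩, ?_, rfl⟩
    show (⟨x, hxQ⟩ : ↥Q) ∈ Subgroup.center ↥Q
    rw [Subgroup.mem_center_iff]
    intro g
    apply Subtype.ext
    exact (Subgroup.mem_centralizer_iff.mp hxC') g g.2

theorem card_center_subgroup (Q : Subgroup P) :
    Nat.card ↥(Subgroup.center ↥Q) = Nat.card ↥(Q ⊓ Subgroup.centralizer (Q : Set P)) := by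
  rw [← map_center_subtype, Subgroup.card_subtype]

/-- The measure `|R| · |Z(R)|`. -/
noncomputable def clMeasure (R : Subgroup P) : ℕ :=
  Nat.card ↥R * Nat.card ↥(Subgroup.center ↥R)

theorem clMeasure_le_max [Finite P] (R : Subgroup P) : clMeasure R ≤ Cfsg.maxCentralProduct P := by
  unfold Cfsg.maxCentralProduct
  apply le_csSup
  · refine ⟨Nat.card P * Nat.card P, ?_⟩
    rintro k ⟨R', rfl⟩
    exact Nat.mul_le_mul (Subgroup.card_le_card_group _)
      (le_trans (Subgroup.card_le_card_group _) (Subgroup.card_le_card_group _))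
  · exact ⟨R, rfl⟩

theorem isCentrallyLarge_iff (R : Subgroup P) :
    Cfsg.IsCentrallyLarge R ↔ clMeasure R = Cfsg.maxCentralProduct P := Iff.rfl

theorem clMeasure_eq (R : Subgroup P) :
    clMeasure R = Nat.card ↥R * Nat.card ↥(R ⊓ Subgroup.centralizer (R : Set P)) := by
  unfold clMeasure
  rw [card_center_subgroup]

theorem clMeasure_le_cdMeasure [Finite P] (R : Subgroup P) : clMeasure R ≤ cdMeasure R := by
  rw [clMeasure_eq]
  exact Nat.mul_le_mul_left _ (Subgroup.card_le_of_le inf_le_right)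

theorem clMeasure_eq_cdMeasure_iff [Finite P] (R : Subgroup P) :
    clMeasure R = cdMeasure R ↔ Subgroup.centralizer (R : Set P) ≤ R := by
  rw [clMeasure_eq]
  unfold cdMeasure
  constructor
  · intro h
    have hpos : 0 < Nat.card ↥R := Nat.card_pos
    have h2 := Nat.eq_of_mul_eq_mul_left hpos h
    have h3 : R ⊓ Subgroup.centralizer (R : Set P) = Subgroup.centralizer (R : Set P) :=
      Subgroup.eq_of_le_of_card_ge inf_le_right (le_of_eq h2.symm)
    rw [← h3]
    exact inf_le_left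
  · intro h
    rw [inf_eq_right.mpr h]

theorem exists_isCentralizerLarge [Finite P] : ∃ Q : Subgroup P, Cfsg.IsCentralizerLarge Q := by
  have hmem : sSup {k : ℕ | ∃ R : Subgroup P, Nat.card ↥R * Nat.card ↥(Subgroup.centralizer (R : Set P)) = k} ∈
      {k : ℕ | ∃ R : Subgroup P, Nat.card ↥R * Nat.card ↥(Subgroup.centralizer (R : Set P)) = k} := by
    apply Nat.sSup_mem
    · exact ⟨_, ⊥, rfl⟩
    · refine ⟨Nat.card P * Nat.card P, ?_⟩
      rintro k ⟨R', rfl⟩
      exact Nat.mul_le_mul (Subgroup.card_le_card_group _) (Subgroup.card_le_card_group _)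
  obtain ⟨Q, hQ⟩ := hmem
  exact ⟨Q, hQ⟩

theorem exists_isCentrallyLarge [Finite P] : ∃ Q : Subgroup P, Cfsg.IsCentrallyLarge Q := by
  have hmem : sSup {k : ℕ | ∃ R : Subgroup P, Nat.card ↥R * Nat.card ↥(Subgroup.center ↥R) = k} ∈
      {k : ℕ | ∃ R : Subgroup P, Nat.card ↥R * Nat.card ↥(Subgroup.center ↥R) = k} := by
    apply Nat.sSup_mem
    · exact ⟨_, ⊥, rfl⟩
    · refine ⟨Nat.card P * Nat.card P, ?_⟩
      rintro k ⟨R', rfl⟩
      exact Nat.mul_le_mul (Subgroup.card_le_card_group _)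
        (le_trans (Subgroup.card_le_card_group _) (Subgroup.card_le_card_group _))
  obtain ⟨Q, hQ⟩ := hmem
  exact ⟨Q, hQ⟩

theorem maxCentralProduct_eq [Finite P] : Cfsg.maxCentralProduct P = Cfsg.maxCentralizerProduct P := by
  apply le_antisymm
  · obtain ⟨Q, hQ⟩ := exists_isCentrallyLarge (P := P)
    rw [isCentrallyLarge_iff] at hQ
    rw [← hQ]
    exact le_trans (clMeasure_le_cdMeasure Q) (cdMeasure_le_max Q)
  · obtain ⟨Q, hQ⟩ := exists_isCentralizerLarge (P := P)
    obtain ⟨hC, hQC⟩ := IsCentralizerLarge.centralizer hQ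
    obtain ⟨-, hT, -, -⟩ := chermak_delgado Q _ hQ hC
    rw [isCentralizerLarge_iff] at hT
    have hle : Subgroup.centralizer ((Q ⊔ Subgroup.centralizer (Q : Set P) : Subgroup P) : Set P) ≤
        Q ⊔ Subgroup.centralizer (Q : Set P) := by
      rw [centralizer_sup_eq, ← hQC]
      exact le_trans inf_le_left le_sup_right
    rw [← hT, ← (clMeasure_eq_cdMeasure_iff _).mpr hle]
    exact clMeasure_le_max _

theorem IsCentrallyLarge.isCentralizerLarge [Finite P] {Q : Subgroup P} (hQ : Cfsg.IsCentrallyLarge Q) :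
    Cfsg.IsCentralizerLarge Q ∧ Subgroup.centralizer (Q : Set P) ≤ Q := by
  rw [isCentrallyLarge_iff, maxCentralProduct_eq] at hQ
  have h1 := clMeasure_le_cdMeasure Q
  have h2 := cdMeasure_le_max Q
  have h3 : cdMeasure Q = Cfsg.maxCentralizerProduct P := le_antisymm h2 (hQ ▸ h1)
  refine ⟨h3, ?_⟩
  rw [← clMeasure_eq_cdMeasure_iff, hQ, h3]

theorem isCentrallyLarge_iff_of_isCentralizerLarge [Finite P] {Q : Subgroup P} (hQ : Cfsg.IsCentralizerLarge Q) :
    Cfsg.IsCentrallyLarge Q ↔ Subgroup.centralizer (Q : Set P) ≤ Q := by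
  constructor
  · intro h
    exact (IsCentrallyLarge.isCentralizerLarge h).2
  · intro h
    rw [isCentrallyLarge_iff, maxCentralProduct_eq, (clMeasure_eq_cdMeasure_iff Q).mpr h]
    exact hQ

theorem IsCentrallyLarge.sup [Finite P] {Q R : Subgroup P} (hQ : Cfsg.IsCentrallyLarge Q)
    (hR : Cfsg.IsCentrallyLarge R) :
    ((Q ⊔ R : Subgroup P) : Set P) = (Q : Set P) * (R : Set P) ∧ Cfsg.IsCentrallyLarge (Q ⊔ R) := by
  obtain ⟨hQ1, hQ2⟩ := IsCentrallyLarge.isCentralizerLarge hQ
  obtain ⟨hR1, hR2⟩ := IsCentrallyLarge.isCentralizerLarge hR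
  obtain ⟨h1, h2, -, -⟩ := chermak_delgado Q R hQ1 hR1
  refine ⟨h1, ?_⟩
  rw [isCentrallyLarge_iff_of_isCentralizerLarge h2, centralizer_sup_eq]
  exact le_trans inf_le_left (le_trans hQ2 le_sup_left)

theorem isCentrallyLarge_sSup [Finite P] (𝒮 : Set (Subgroup P)) (hne : 𝒮.Nonempty)
    (h : ∀ R ∈ 𝒮, Cfsg.IsCentrallyLarge R) : Cfsg.IsCentrallyLarge (sSup 𝒮) := by
  obtain ⟨R₀, hR₀⟩ := hne
  have hfin : {T : Subgroup P | Cfsg.IsCentrallyLarge T ∧ T ≤ sSup 𝒮}.Finite := Set.toFinite _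
  obtain ⟨T, ⟨hT1, hT2⟩, hTmax⟩ := Set.exists_max_image _ (fun T : Subgroup P => Nat.card ↥T) hfin
    ⟨R₀, h R₀ hR₀, le_sSup hR₀⟩
  have hle : sSup 𝒮 ≤ T := by
    apply sSup_le
    intro R hR
    have h1 := (IsCentrallyLarge.sup (h R hR) hT1).2
    have h2 : R ⊔ T ≤ sSup 𝒮 := sup_le (le_sSup hR) hT2
    have h3 := hTmax (R ⊔ T) ⟨h1, h2⟩
    have h4 : T = R ⊔ T := Subgroup.eq_of_le_of_card_ge le_sup_right h3
    rw [h4]
    exact le_sup_left
  rw [le_antisymm hle hT2]
  exact hT1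

theorem exists_isMinimalCentrallyLarge_le [Finite P] {Q : Subgroup P} (hQ : Cfsg.IsCentrallyLarge Q) :
    ∃ Q' : Subgroup P, Q' ≤ Q ∧ Cfsg.IsMinimalCentrallyLarge Q' := by
  have hfin : {T : Subgroup P | Cfsg.IsCentrallyLarge T ∧ T ≤ Q}.Finite := Set.toFinite _
  obtain ⟨T, ⟨hT1, hT2⟩, hTmin⟩ := Set.exists_min_image _ (fun T : Subgroup P => Nat.card ↥T) hfin
    ⟨Q, hQ, le_rfl⟩
  refine ⟨T, hT2, hT1, ?_⟩
  intro R' hR'T hR'
  exact Subgroup.eq_of_le_of_card_ge hR'T (hTmin R' ⟨hR', le_trans hR'T hT2⟩)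

theorem exists_isMinimalCentrallyLarge [Finite P] : ∃ Q : Subgroup P, Cfsg.IsMinimalCentrallyLarge Q := by
  obtain ⟨Q, hQ⟩ := exists_isCentrallyLarge (P := P)
  obtain ⟨Q', -, hQ'⟩ := exists_isMinimalCentrallyLarge_le hQ
  exact ⟨Q', hQ'⟩

theorem isCentrallyLarge_centrallyLargeJoin [Finite P] : Cfsg.IsCentrallyLarge (Cfsg.centrallyLargeJoin P) := by
  unfold Cfsg.centrallyLargeJoin
  apply isCentrallyLarge_sSup
  · exact exists_isCentrallyLarge
  · intro R hR
    exact hR

theorem isCentrallyLarge_minimalCentrallyLargeJoin [Finite P] :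
    Cfsg.IsCentrallyLarge (Cfsg.minimalCentrallyLargeJoin P) := by
  unfold Cfsg.minimalCentrallyLargeJoin
  apply isCentrallyLarge_sSup
  · exact exists_isMinimalCentrallyLarge
  · intro R hR
    exact hR.1

end Cfsg.Agent.Helper5
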