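import Mathlib
import Cfsg.Prelude.Def_BaumannBlocks
import Cfsg.Prelude.Def_PLocal
import Cfsg.Agent.Helper5.CentrallyLarge

/-!
Helper lemmas (helper5): abelian subgroups of largest order and centrally large subgroups.
-/

set_option autoImplicit false

namespace Cfsg.Agent.Helper5

open scoped Pointwise

variable {P : Type*} [Group P]

theorem isMulCommutative_sup_of_commute (H K : Subgroup P) [IsMulCommutative ↥H] [IsMulCommutative ↥K]
    (h : K ≤ Subgroup.centralizer (H : Set P)) : IsMulCommutative ↥(H ⊔ K) := by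
  have hHK : H ⊔ K = Subgroup.closure ((H : Set P) ∪ (K : Set P)) := by
    rw [Subgroup.closure_union, Subgroup.closure_eq, Subgroup.closure_eq]
  rw [hHK]
  apply Subgroup.isMulCommutative_closure
  rintro x (hx | hx) y (hy | hy)
  · exact setLike_mul_comm hx hy
  · exact (Subgroup.mem_centralizer_iff.mp (h hy)) x hx
  · exact ((Subgroup.mem_centralizer_iff.mp (h hx)) y hy).symm
  · exact setLike_mul_comm hx hy

theorem isMulCommutative_of_le {H K : Subgroup P} [IsMulCommutative ↥K] (h : H ≤ K) : IsMulCommutative ↥H := by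
  apply IsMulCommutative.of_setLike_mul_comm
  intro a ha b hb
  exact setLike_mul_comm (h ha) (h hb)

theorem centralizer_eq_of_mem_maxAbelianSubgroups [Finite P] {A : Subgroup P}
    (hA : A ∈ Cfsg.maxAbelianSubgroups P) : Subgroup.centralizer (A : Set P) = A := by
  obtain ⟨hAc, hAmax⟩ := hA
  apply le_antisymm
  · intro x hx
    have hle : Subgroup.zpowers x ≤ Subgroup.centralizer (A : Set P) := by
      rw [Subgroup.zpowers_le]; exact hx
    have hc := isMulCommutative_sup_of_commute A (Subgroup.zpowers x) hle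
    have h1 := hAmax _ hc
    have h2 : A = A ⊔ Subgroup.zpowers x := Subgroup.eq_of_le_of_card_ge le_sup_left h1
    rw [h2]
    exact Subgroup.mem_sup_right (Subgroup.mem_zpowers x)
  · exact Subgroup.le_centralizer A

theorem exists_mem_maxAbelianSubgroups (P : Type*) [Group P] [Finite P] :
    ∃ A : Subgroup P, A ∈ Cfsg.maxAbelianSubgroups P := by
  have hfin : {T : Subgroup P | IsMulCommutative ↥T}.Finite := Set.toFinite _
  obtain ⟨T, hT1, hTmax⟩ := Set.exists_max_image _ (fun T : Subgroup P => Nat.card ↥T) hfin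
    ⟨⊥, by
      show IsMulCommutative ↥(⊥ : Subgroup P)
      apply IsMulCommutative.of_setLike_mul_comm
      intro a ha b hb
      rw [Subgroup.mem_bot] at ha hb
      rw [ha, hb]⟩
  exact ⟨T, hT1, fun B hB => hTmax B hB⟩

theorem clA_arith {q z a b w x jj u v : ℕ} (hq : 0 < q) (hb : 0 < b) (hw : 0 < w)
    (h1 : x * b = q * a) (h2 : u * w = z * b) (h3 : x ≤ jj) (h4 : u ≤ v) (h5 : v ≤ a)
    (h6 : jj * w ≤ q * z) :
    x = jj ∧ jj * w = q * z ∧ u = v ∧ v = a := by
  have e1 : z * b ≤ a * w := by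
    calc z * b = u * w := h2.symm
      _ ≤ a * w := Nat.mul_le_mul_right _ (h4.trans h5)
  have e2 : q * (a * w) ≤ q * (z * b) := by
    calc q * (a * w) = (x * b) * w := by rw [h1]; ring
      _ ≤ (jj * b) * w := Nat.mul_le_mul_right _ (Nat.mul_le_mul_right _ h3)
      _ = (jj * w) * b := by ring
      _ ≤ (q * z) * b := Nat.mul_le_mul_right _ h6
      _ = q * (z * b) := by ring
  have e3 : a * w ≤ z * b := Nat.le_of_mul_le_mul_left e2 hq
  have e4 : a * w = z * b := le_antisymm e3 e1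
  have e5 : u = a := by
    have : u * w = a * w := by rw [h2, e4]
    exact Nat.eq_of_mul_eq_mul_right hw this
  have e6 : v = a := le_antisymm h5 (e5 ▸ h4)
  have e7 : x * w = q * z := by
    have : (x * w) * b = (q * z) * b := by
      calc (x * w) * b = (x * b) * w := by ring
        _ = q * (a * w) := by rw [h1]; ring
        _ = q * (z * b) := by rw [e4]
        _ = (q * z) * b := by ring
    exact Nat.eq_of_mul_eq_mul_right hb this
  have e8 : jj * w = q * z := le_antisymm h6 (e7 ▸ Nat.mul_le_mul_right _ h3)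
  have e9 : x = jj := by
    have : x * w = jj * w := by rw [e7, e8]
    exact Nat.eq_of_mul_eq_mul_right hw this
  exact ⟨e9, e8, by rw [e5, e6], e6⟩

/-- `Q` centrally large, `A` abelian of largest order: `QA` is a centrally large subgroup, and
`C(Q)(Q ∩ A)` is an abelian subgroup of largest order. -/
theorem IsCentrallyLarge.sup_maxAbelian [Finite P] {Q A : Subgroup P} (hQ : Cfsg.IsCentrallyLarge Q)
    (hA : A ∈ Cfsg.maxAbelianSubgroups P) :
    ((Q ⊔ A : Subgroup P) : Set P) = (Q : Set P) * (A : Set P) ∧ Cfsg.IsCentrallyLarge (Q ⊔ A) ∧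
    (Subgroup.centralizer (Q : Set P) ⊔ (Q ⊓ A)) ∈ Cfsg.maxAbelianSubgroups P ∧
    ((Subgroup.centralizer (Q : Set P) ⊔ (Q ⊓ A) : Subgroup P) : Set P) =
      ((Subgroup.centralizer (Q : Set P) : Subgroup P) : Set P) * ((Q ⊓ A : Subgroup P) : Set P) := by
  obtain ⟨hQ1, hQ2⟩ := IsCentrallyLarge.isCentralizerLarge hQ
  have hCA := centralizer_eq_of_mem_maxAbelianSubgroups hA
  obtain ⟨hAc, hAmax⟩ := hA
  have hBc : IsMulCommutative ↥(Q ⊓ A) := isMulCommutative_of_le (inf_le_right : Q ⊓ A ≤ A)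
  have hZc : IsMulCommutative ↥(Subgroup.centralizer (Q : Set P)) := by
    apply IsMulCommutative.of_setLike_mul_comm
    intro x hx y hy
    exact (Subgroup.mem_centralizer_iff.mp hy) x (hQ2 hx)
  have hBZ : Q ⊓ A ≤ Subgroup.centralizer ((Subgroup.centralizer (Q : Set P) : Subgroup P) : Set P) :=
    le_trans inf_le_left (le_centralizer_centralizer Q)
  have hVc : IsMulCommutative ↥(Subgroup.centralizer (Q : Set P) ⊔ (Q ⊓ A)) :=
    isMulCommutative_sup_of_commute _ _ hBZ
  have h5 := hAmax _ hVc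
  have h1 := card_mul_set_mul_card_inf Q A
  have h2 := card_mul_set_mul_card_inf (Subgroup.centralizer (Q : Set P)) (Q ⊓ A)
  have hinf : Subgroup.centralizer (Q : Set P) ⊓ (Q ⊓ A) = Subgroup.centralizer (Q : Set P) ⊓ A := by
    rw [← inf_assoc, inf_eq_left.mpr hQ2]
  rw [hinf] at h2
  have hsub1 := mul_subset_sup Q A
  have hsub2 := mul_subset_sup (Subgroup.centralizer (Q : Set P)) (Q ⊓ A)
  have h3 : Nat.card ((Q : Set P) * (A : Set P) : Set P) ≤ Nat.card ↥(Q ⊔ A) :=
    Nat.card_mono (Set.toFinite _) hsub1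
  have h4 : Nat.card (((Subgroup.centralizer (Q : Set P) : Subgroup P) : Set P) * ((Q ⊓ A : Subgroup P) : Set P) : Set P) ≤
      Nat.card ↥(Subgroup.centralizer (Q : Set P) ⊔ (Q ⊓ A)) :=
    Nat.card_mono (Set.toFinite _) hsub2
  have h6 := cdMeasure_le_max (Q ⊔ A)
  unfold cdMeasure at h6
  rw [centralizer_sup_eq, hCA] at h6
  have hQ1' : Nat.card ↥Q * Nat.card ↥(Subgroup.centralizer (Q : Set P)) = Cfsg.maxCentralizerProduct P := hQ1
  rw [← hQ1'] at h6
  obtain ⟨e1, e2, e3, e4⟩ := clA_arith Nat.card_pos Nat.card_pos Nat.card_pos h1 h2 h3 h4 h5 h6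
  have hJ : Cfsg.IsCentralizerLarge (Q ⊔ A) := by
    show Nat.card ↥(Q ⊔ A) * Nat.card ↥(Subgroup.centralizer ((Q ⊔ A : Subgroup P) : Set P)) = Cfsg.maxCentralizerProduct P
    rw [centralizer_sup_eq, hCA, e2, hQ1']
  refine ⟨?_, ?_, ⟨hVc, ?_⟩, ?_⟩
  · symm
    apply Set.eq_of_subset_of_ncard_le hsub1 _ (Set.toFinite _)
    rw [← _root_.Nat.card_coe_set_eq, ← _root_.Nat.card_coe_set_eq]
    exact le_of_eq e1.symm
  · rw [isCentrallyLarge_iff_of_isCentralizerLarge hJ, centralizer_sup_eq]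
    exact le_trans inf_le_left (le_trans hQ2 le_sup_left)
  · intro B hB
    rw [e4]
    exact hAmax B hB
  · symm
    apply Set.eq_of_subset_of_ncard_le hsub2 _ (Set.toFinite _)
    rw [← _root_.Nat.card_coe_set_eq, ← _root_.Nat.card_coe_set_eq]
    exact le_of_eq e3.symm

/-- `C_Q(Q ∩ A) ≤ C(Q)(Q ∩ A)` for `Q` centrally large and `A` abelian of largest order. -/
theorem IsCentrallyLarge.inf_centralizer_inf_le [Finite P] {Q A : Subgroup P} (hQ : Cfsg.IsCentrallyLarge Q)
    (hA : A ∈ Cfsg.maxAbelianSubgroups P) :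
    Q ⊓ Subgroup.centralizer ((Q ⊓ A : Subgroup P) : Set P) ≤ Subgroup.centralizer (Q : Set P) ⊔ (Q ⊓ A) := by
  obtain ⟨-, -, hV, -⟩ := IsCentrallyLarge.sup_maxAbelian hQ hA
  have hCV := centralizer_eq_of_mem_maxAbelianSubgroups hV
  rw [centralizer_sup_eq] at hCV
  rw [← hCV]
  exact inf_le_inf_right _ (le_centralizer_centralizer Q)

theorem le_centrallyLargeJoin_of_mem_maxAbelianSubgroups [Finite P] {A : Subgroup P}
    (hA : A ∈ Cfsg.maxAbelianSubgroups P) : A ≤ Cfsg.centrallyLargeJoin P := by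
  have hT := isCentrallyLarge_centrallyLargeJoin (P := P)
  obtain ⟨-, h2, -, -⟩ := IsCentrallyLarge.sup_maxAbelian hT hA
  have h3 : Cfsg.centrallyLargeJoin P ⊔ A ≤ Cfsg.centrallyLargeJoin P := by
    conv_rhs => unfold Cfsg.centrallyLargeJoin
    exact le_sSup h2
  exact le_trans le_sup_right h3

theorem thompsonSubgroupA_le_centrallyLargeJoin [Finite P] :
    Cfsg.thompsonSubgroupA P ≤ Cfsg.centrallyLargeJoin P := by
  unfold Cfsg.thompsonSubgroupA
  apply sSup_le
  intro A hA
  exact le_centrallyLargeJoin_of_mem_maxAbelianSubgroups hA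

/-- `C(T) ≤ Z(J(P))` for any centrally large `T ≥ J(P)`. -/
theorem centralizer_le_center_thompsonA [Finite P] {T : Subgroup P}
    (hJT : Cfsg.thompsonSubgroupA P ≤ T) :
    Subgroup.centralizer (T : Set P) ≤
      Cfsg.thompsonSubgroupA P ⊓ Subgroup.centralizer (Cfsg.thompsonSubgroupA P : Set P) := by
  obtain ⟨A, hA⟩ := exists_mem_maxAbelianSubgroups P
  have hAJ : A ≤ Cfsg.thompsonSubgroupA P := by
    unfold Cfsg.thompsonSubgroupA
    exact le_sSup hA
  apply le_inf
  · calc Subgroup.centralizer (T : Set P) ≤ Subgroup.centralizer (A : Set P) :=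
          Subgroup.centralizer_le (le_trans hAJ hJT)
      _ = A := centralizer_eq_of_mem_maxAbelianSubgroups hA
      _ ≤ Cfsg.thompsonSubgroupA P := hAJ
  · exact Subgroup.centralizer_le hJT

/-- `C(Z(J(P))) ≤ T` for any centrally large `T ≥ J(P)`. -/
theorem centralizer_center_thompsonA_le [Finite P] {T : Subgroup P} (hT : Cfsg.IsCentrallyLarge T)
    (hJT : Cfsg.thompsonSubgroupA P ≤ T) :
    Subgroup.centralizer ((Cfsg.thompsonSubgroupA P ⊓ Subgroup.centralizer (Cfsg.thompsonSubgroupA P : Set P) : Subgroup P) : Set P) ≤ T := by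
  obtain ⟨hT1, -⟩ := IsCentrallyLarge.isCentralizerLarge hT
  obtain ⟨-, hT3⟩ := IsCentralizerLarge.centralizer hT1
  conv_rhs => rw [hT3]
  exact Subgroup.centralizer_le (centralizer_le_center_thompsonA hJT)

end Cfsg.Agent.Helper5
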