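import Mathlib
import Cfsg.Prelude.Def_LocalStructure
import Cfsg.Prelude.Def_LocalEven
import Cfsg.Prelude.Def_CaseTheorems
import Cfsg.Agent.Helper5.Basic
import Cfsg.Agent.Helper5.Cores
import Cfsg.Agent.Helper5.Misc
import Cfsg.Agent.Helper5.MaxAbelian
import Cfsg.Agent.Helper5.ChermakDelgado
import Cfsg.Agent.Helper5.PResidual
import Cfsg.Agent.Helper1.Subnormal

/-!
Helper lemmas (helper5): `p`-reduced normal subgroups, internal characterization, closure under products,
the largest `p`-reduced normal subgroup, and the Sylow criterion for centralizing.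
-/

set_option autoImplicit false

namespace Cfsg.Agent.Helper5

variable {L : Type*} [Group L]

/-- Internal form of `IsPReducedNormal`. -/
def PRed (p : ℕ) (V : Subgroup L) : Prop :=
  V.Normal ∧ Cfsg.IsElementaryAbelian p V ∧
    ∀ D : Subgroup L, D.Normal →
      (∀ d ∈ D, ∃ k : ℕ, d ^ p ^ k ∈ Subgroup.centralizer (V : Set L)) →
      D ≤ Subgroup.centralizer (V : Set L)

theorem isPReducedNormal_iff_pRed [Finite L] {p : ℕ} [Fact p.Prime] (V : Subgroup L) :
    Cfsg.IsPReducedNormal p V ↔ PRed p V := by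
  constructor
  · rintro ⟨hn, hel, hcn, hcore⟩
    refine ⟨hn, hel, fun D hD hcond => ?_⟩
    have hDn : (D.map (QuotientGroup.mk' (Subgroup.centralizer (V : Set L)))).Normal :=
      hD.map _ (QuotientGroup.mk'_surjective _)
    have hDp : IsPGroup p ↥(D.map (QuotientGroup.mk' (Subgroup.centralizer (V : Set L)))) := by
      rintro ⟨_, d, hd, rfl⟩
      obtain ⟨k, hk⟩ := hcond d hd
      refine ⟨k, ?_⟩
      apply Subtype.ext
      rw [Subgroup.coe_pow, Subgroup.coe_one]
      show (QuotientGroup.mk' _ d) ^ p ^ k = 1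
      rw [← map_pow, QuotientGroup.mk'_apply, QuotientGroup.eq_one_iff]
      exact hk
    have h1 := le_pCore hDn hDp
    rw [hcore, le_bot_iff] at h1
    have h2 := (Subgroup.map_eq_bot_iff _).mp h1
    rwa [QuotientGroup.ker_mk'] at h2
  · rintro ⟨hn, hel, hD⟩
    have hcn : (Subgroup.centralizer (V : Set L)).Normal := Subgroup.normal_centralizer
    refine ⟨hn, hel, hcn, ?_⟩
    have hsurj := QuotientGroup.mk'_surjective (Subgroup.centralizer (V : Set L))
    have hDle := hD ((Cfsg.pCore p (L ⧸ Subgroup.centralizer (V : Set L))).comap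
      (QuotientGroup.mk' (Subgroup.centralizer (V : Set L)))) (Subgroup.Normal.comap inferInstance _) (by
        intro d hd
        obtain ⟨k, hk⟩ := (isPGroup_pCore (G := L ⧸ Subgroup.centralizer (V : Set L)) p) ⟨_, hd⟩
        refine ⟨k, ?_⟩
        have hk' := congrArg Subtype.val hk
        rw [Subgroup.coe_pow, Subgroup.coe_one] at hk'
        rw [← QuotientGroup.eq_one_iff, ← QuotientGroup.mk'_apply, map_pow]
        exact hk')
    rw [eq_bot_iff, ← Subgroup.map_comap_eq_self_of_surjective hsurj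
      (Cfsg.pCore p (L ⧸ Subgroup.centralizer (V : Set L)))]
    refine (Subgroup.map_mono hDle).trans ?_
    rw [le_bot_iff, Subgroup.map_eq_bot_iff, QuotientGroup.ker_mk']


theorem PRed.isPGroup {p : ℕ} {V : Subgroup L} (h : PRed p V) : IsPGroup p ↥V := by
  intro x
  refine ⟨1, ?_⟩
  apply Subtype.ext
  rw [pow_one, Subgroup.coe_pow, Subgroup.coe_one]
  exact h.2.1.2 _ x.2

theorem PRed.pCore_le_centralizer [Finite L] {p : ℕ} [Fact p.Prime] {V : Subgroup L} (h : PRed p V) :
    Cfsg.pCore p L ≤ Subgroup.centralizer (V : Set L) := by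
  apply h.2.2 _ (Cfsg.pCore_normal p L)
  intro d hd
  obtain ⟨k, hk⟩ := (isPGroup_pCore (G := L) p) ⟨d, hd⟩
  refine ⟨k, ?_⟩
  have hk' := congrArg Subtype.val hk
  rw [Subgroup.coe_pow, Subgroup.coe_one] at hk'
  rw [hk']; exact Subgroup.one_mem _

theorem PRed.le_pCore {p : ℕ} {V : Subgroup L} (h : PRed p V) : V ≤ Cfsg.pCore p L :=
  Cfsg.Agent.Helper5.le_pCore h.1 h.isPGroup

theorem PRed.le_center_pCore [Finite L] {p : ℕ} [Fact p.Prime] {V : Subgroup L} (h : PRed p V) :
    V ≤ Cfsg.pCore p L ⊓ Subgroup.centralizer (Cfsg.pCore p L : Set L) :=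
  le_inf h.le_pCore (Subgroup.le_centralizer_iff.mp h.pCore_le_centralizer)

theorem pRed_bot (p : ℕ) : PRed p (⊥ : Subgroup L) := by
  refine ⟨inferInstance, ⟨?_, ?_⟩, fun D _ _ => ?_⟩
  · apply IsMulCommutative.of_setLike_mul_comm
    intro a ha b hb
    rw [Subgroup.mem_bot] at ha hb
    rw [ha, hb]
  · intro a ha; rw [Subgroup.mem_bot] at ha; rw [ha, one_pow]
  · intro d _
    rw [Subgroup.mem_centralizer_iff]
    intro h hh
    have : h = 1 := by simpa using hh
    rw [this, one_mul, mul_one]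

theorem PRed.sup [Finite L] {p : ℕ} [Fact p.Prime] {V W : Subgroup L} (hV : PRed p V) (hW : PRed p W) :
    PRed p (V ⊔ W) := by
  have hVn := hV.1
  have hWn := hW.1
  have hVc : IsMulCommutative ↥V := hV.2.1.1
  have hWc : IsMulCommutative ↥W := hW.2.1.1
  have hWV : W ≤ Subgroup.centralizer (V : Set L) := hW.le_pCore.trans hV.pCore_le_centralizer
  refine ⟨inferInstance, ⟨isMulCommutative_sup_of_commute V W hWV, ?_⟩, fun D hD hcond => ?_⟩
  · intro a ha
    obtain ⟨v, hv, w, hw, rfl⟩ := Subgroup.mem_sup_of_normal_right.mp ha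
    have hc : Commute v w := ((Subgroup.mem_centralizer_iff.mp (hWV hw)) v hv)
    rw [hc.mul_pow, hV.2.1.2 v hv, hW.2.1.2 w hw, one_mul]
  · rw [centralizer_sup_eq]
    refine le_inf (hV.2.2 D hD ?_) (hW.2.2 D hD ?_)
    · intro d hd
      obtain ⟨k, hk⟩ := hcond d hd
      rw [centralizer_sup_eq] at hk
      exact ⟨k, hk.1⟩
    · intro d hd
      obtain ⟨k, hk⟩ := hcond d hd
      rw [centralizer_sup_eq] at hk
      exact ⟨k, hk.2⟩

theorem pRed_largestPReduced [Finite L] (p : ℕ) [Fact p.Prime] :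
    PRed p (Cfsg.largestPReduced p L) := by
  have hsc : SupClosed {V : Subgroup L | PRed p V} := fun V hV W hW => PRed.sup hV hW
  have h := hsc.sSup_mem (t := {V : Subgroup L | Cfsg.IsPReducedNormal p V}) (Set.toFinite _)
    (pRed_bot p) (fun V hV => (isPReducedNormal_iff_pRed V).mp hV)
  exact h

theorem PRed.le_largestPReduced [Finite L] {p : ℕ} [Fact p.Prime] {V : Subgroup L} (h : PRed p V) :
    V ≤ Cfsg.largestPReduced p L :=
  le_sSup ((isPReducedNormal_iff_pRed V).mpr h)

/-- Sylow criterion: a normal subgroup `D` whose elements have `p`-power in `C`, with `S ∩ D ≤ C` for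
one Sylow `p`-subgroup `S`, lies in `C`. -/
theorem le_of_sylow_inf_le [Finite L] {p : ℕ} [Fact p.Prime] (D : Subgroup L) [D.Normal] (C : Subgroup L)
    (hcond : ∀ d ∈ D, ∃ k : ℕ, d ^ p ^ k ∈ C) (S : Sylow p L) (hS : (S : Subgroup L) ⊓ D ≤ C) :
    D ≤ C := by
  obtain ⟨Q, hQ⟩ := Cfsg.Agent.Helper1.sylow_inf_subnormal p D (Subgroup.Normal.isSubnormal inferInstance) S
  have hres : Cfsg.pResidual p ↥D ≤ C.subgroupOf D := by
    unfold Cfsg.pResidual
    rw [Subgroup.closure_le]
    intro g hg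
    have hg' : (orderOf g).Coprime p := hg
    obtain ⟨k, hk⟩ := hcond (g : L) g.2
    rw [SetLike.mem_coe, Subgroup.mem_subgroupOf]
    apply mem_of_pow_mem_of_coprime C (g : L) (p ^ k) (orderOf g)
      (Nat.Coprime.pow_left k hg'.symm) hk
    rw [← Subgroup.coe_pow, pow_orderOf_eq_one]; exact Subgroup.one_mem _
  have hQle : (Q : Subgroup ↥D) ≤ C.subgroupOf D := by
    rw [hQ]
    intro x hx
    rw [Subgroup.mem_subgroupOf] at hx ⊢
    exact hS ⟨hx, x.2⟩
  have htop : (⊤ : Subgroup ↥D) ≤ C.subgroupOf D := by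
    rw [← pResidual_sup_sylow Q]; exact sup_le hres hQle
  intro d hd
  have := htop (Subgroup.mem_top (⟨d, hd⟩ : ↥D))
  rwa [Subgroup.mem_subgroupOf] at this

end Cfsg.Agent.Helper5
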