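import Mathlib

set_option autoImplicit false

/-!
Helper5: S3360 (Huppert: solvable linear groups transitive on nonzero vectors), definitions.
A faithful linear action is given as an injective monoid hom `ι : G →* Module.End (ZMod q) V`.
-/

namespace Cfsg.Agent.Helper5.Hup

universe u w

variable {q : ℕ} {V : Type u} [AddCommGroup V] [Module (ZMod q) V]
variable {G : Type w} [Group G]

/-- the subgroup `A` acts irreducibly -/
def IrrOn (ι : G →* Module.End (ZMod q) V) (A : Subgroup G) : Prop :=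
  ∀ W : Submodule (ZMod q) V, (∀ a ∈ A, ∀ v ∈ W, ι a v ∈ W) → W = ⊥ ∨ W = ⊤

/-- transitive on nonzero vectors -/
def Trans (ι : G →* Module.End (ZMod q) V) : Prop :=
  ∀ v w : V, v ≠ 0 → w ≠ 0 → ∃ g : G, ι g v = w

/-- scalar endomorphism -/
def IsScal (f : Module.End (ZMod q) V) : Prop :=
  ∃ c : ZMod q, f = algebraMap (ZMod q) (Module.End (ZMod q) V) c

/-- the centre of a subgroup, as a subgroup of the ambient group -/
def zc (D : Subgroup G) : Subgroup G := D ⊓ Subgroup.centralizer (D : Set G)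

theorem mem_zc {D : Subgroup G} {z : G} : z ∈ zc D ↔ z ∈ D ∧ ∀ d ∈ D, d * z = z * d := by
  unfold zc
  rw [Subgroup.mem_inf, Subgroup.mem_centralizer_iff]
  rfl

theorem zc_le (D : Subgroup G) : zc D ≤ D := inf_le_left

theorem zc_comm {D : Subgroup G} {a b : G} (ha : a ∈ zc D) (hb : b ∈ zc D) : a * b = b * a :=
  (mem_zc.1 hb).2 a (mem_zc.1 ha).1

theorem zc_conj_mem {D : Subgroup G} {g z : G} (hg : ∀ d : G, d ∈ D ↔ g * d * g⁻¹ ∈ D)
    (hz : z ∈ zc D) : g * z * g⁻¹ ∈ zc D := by
  rw [mem_zc] at hz ⊢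
  refine ⟨(hg z).1 hz.1, ?_⟩
  intro d hd
  have hd' : g⁻¹ * d * g ∈ D := by
    rw [hg]
    simpa [mul_assoc] using hd
  have h := hz.2 _ hd'
  calc d * (g * z * g⁻¹) = g * ((g⁻¹ * d * g) * z) * g⁻¹ := by group
    _ = g * (z * (g⁻¹ * d * g)) * g⁻¹ := by rw [h]
    _ = g * z * g⁻¹ * d := by group

instance zc_normal (D : Subgroup G) [hD : D.Normal] : (zc D).Normal := by
  constructor
  intro z hz g
  apply zc_conj_mem _ hz
  intro d
  constructor
  · intro hd
    exact hD.conj_mem d hd g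
  · intro hd
    have := hD.conj_mem _ hd g⁻¹
    simpa [mul_assoc] using this

theorem subgroupOf_zc (D : Subgroup G) : (zc D).subgroupOf D = Subgroup.center D := by
  ext x
  rw [Subgroup.mem_subgroupOf, mem_zc, Subgroup.mem_center_iff]
  constructor
  · rintro ⟨_, h⟩ g
    apply Subtype.ext
    exact h g g.2
  · intro h
    refine ⟨x.2, fun d hd => ?_⟩
    exact congrArg Subtype.val (h ⟨d, hd⟩)

theorem relIndex_zc (D : Subgroup G) : (zc D).relIndex D = (Subgroup.center D).index := by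
  rw [Subgroup.relIndex, subgroupOf_zc]

end Cfsg.Agent.Helper5.Hup
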