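import Mathlib
import Cfsg.Agent.Helper5.HupDefs

set_option autoImplicit false
set_option linter.unusedVariables false

/-!
Helper5: S3360, PIECE E1: Dedekind-style independence of coset representatives of `zc P` in `P`
over a commutative coefficient algebra without zero divisors.
-/

open scoped commutatorElement

namespace Cfsg.Agent.Helper5.Hup

universe u w

variable {q : ℕ} {V : Type u} [AddCommGroup V] [Module (ZMod q) V]
variable {G : Type w} [Group G]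

theorem comm_of_commutatorElement_eq {g t₁ t₂ : G} (h : ⁅g, t₂⁆ = ⁅g, t₁⁆) :
    g * (t₁⁻¹ * t₂) = (t₁⁻¹ * t₂) * g := by
  rw [commutatorElement_def, commutatorElement_def] at h
  -- g t₂ g⁻¹ t₂⁻¹ = g t₁ g⁻¹ t₁⁻¹
  have h1 : t₂ * g⁻¹ * t₂⁻¹ = t₁ * g⁻¹ * t₁⁻¹ := by
    have := congrArg (fun z => g⁻¹ * z) h
    simpa [mul_assoc] using this
  have h2 : (t₁⁻¹ * t₂) * g⁻¹ = g⁻¹ * (t₁⁻¹ * t₂) := by
    calc (t₁⁻¹ * t₂) * g⁻¹ = t₁⁻¹ * (t₂ * g⁻¹ * t₂⁻¹) * t₂ := by group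
      _ = t₁⁻¹ * (t₁ * g⁻¹ * t₁⁻¹) * t₂ := by rw [h1]
      _ = g⁻¹ * (t₁⁻¹ * t₂) := by group
  calc g * (t₁⁻¹ * t₂) = g * ((t₁⁻¹ * t₂) * g⁻¹) * g := by group
    _ = g * (g⁻¹ * (t₁⁻¹ * t₂)) * g := by rw [h2]
    _ = (t₁⁻¹ * t₂) * g := by group

/-- PIECE E1 -/
theorem indep (ι : G →* Module.End (ZMod q) V) (hι : Function.Injective ι) (P : Subgroup G)
    (C : Subalgebra (ZMod q) (Module.End (ZMod q) V))
    (hcomm : ∀ a ∈ C, ∀ b ∈ C, a * b = b * a)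
    (hdom : ∀ a ∈ C, ∀ b ∈ C, a * b = 0 → a = 0 ∨ b = 0)
    (hcP : ∀ a ∈ C, ∀ g ∈ P, a * ι g = ι g * a)
    (hZ : ∀ z ∈ zc P, ι z ∈ C) (hcl : ∀ a ∈ P, ∀ b ∈ P, ⁅a, b⁆ ∈ zc P)
    (T : Finset G) (hT : ∀ t ∈ T, t ∈ P) (hTd : ∀ t ∈ T, ∀ t' ∈ T, t⁻¹ * t' ∈ zc P → t = t')
    (c : G → Module.End (ZMod q) V) (hc : ∀ t ∈ T, c t ∈ C)
    (hsum : ∑ t ∈ T, c t * ι t = 0) : ∀ t ∈ T, c t = 0 := by
  classical
  induction' hN : T.card using Nat.strong_induction_on with N ih generalizing T c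
  by_contra hcon
  push Not at hcon
  obtain ⟨t₁, ht₁, hct₁⟩ := hcon
  have hinv : ∀ g : G, ι g * ι g⁻¹ = 1 := fun g => by rw [← map_mul, mul_inv_cancel, map_one]
  have hinv' : ∀ g : G, ι g⁻¹ * ι g = 1 := fun g => by rw [← map_mul, inv_mul_cancel, map_one]
  -- every other coefficient vanishes
  have hothers : ∀ t₂ ∈ T, t₂ ≠ t₁ → c t₂ = 0 := by
    intro t₂ ht₂ hne
    by_contra hct₂
    have hnz : t₁⁻¹ * t₂ ∉ zc P := fun h => hne (hTd t₁ ht₁ t₂ ht₂ h).symm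
    have hmem : t₁⁻¹ * t₂ ∈ P := P.mul_mem (P.inv_mem (hT t₁ ht₁)) (hT t₂ ht₂)
    have : ∃ g ∈ P, g * (t₁⁻¹ * t₂) ≠ (t₁⁻¹ * t₂) * g := by
      by_contra hall
      push Not at hall
      exact hnz (mem_zc.2 ⟨hmem, hall⟩)
    obtain ⟨g, hg, hgne⟩ := this
    -- the character
    have hχ : ∀ t ∈ T, ι ⁅g, t⁆ ∈ C := fun t ht => hZ _ (hcl g hg t (hT t ht))
    have hconj : ∀ t : G, ι g * ι t * ι g⁻¹ = ι ⁅g, t⁆ * ι t := by
      intro t
      rw [← map_mul, ← map_mul, ← map_mul]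
      congr 1
      rw [commutatorElement_def]
      group
    -- conjugated relation
    have hrel1 : ∑ t ∈ T, c t * ι ⁅g, t⁆ * ι t = 0 := by
      have h0 : ι g * (∑ t ∈ T, c t * ι t) * ι g⁻¹ = 0 := by rw [hsum, mul_zero, zero_mul]
      rw [Finset.mul_sum, Finset.sum_mul] at h0
      rw [← h0]
      apply Finset.sum_congr rfl
      intro t ht
      symm
      calc ι g * (c t * ι t) * ι g⁻¹ = (ι g * c t) * ι t * ι g⁻¹ := by simp only [mul_assoc]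
        _ = (c t * ι g) * ι t * ι g⁻¹ := by rw [hcP (c t) (hc t ht) g hg]
        _ = c t * (ι g * ι t * ι g⁻¹) := by simp only [mul_assoc]
        _ = c t * ι ⁅g, t⁆ * ι t := by rw [hconj t, mul_assoc]
    have hrel2 : ∑ t ∈ T, c t * ι ⁅g, t₁⁆ * ι t = 0 := by
      have h0 : ι ⁅g, t₁⁆ * (∑ t ∈ T, c t * ι t) = 0 := by rw [hsum, mul_zero]
      rw [Finset.mul_sum] at h0
      rw [← h0]
      apply Finset.sum_congr rfl
      intro t ht
      rw [← mul_assoc, hcomm _ (hχ t₁ ht₁) _ (hc t ht)]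
    set c' : G → Module.End (ZMod q) V := fun t => c t * (ι ⁅g, t⁆ - ι ⁅g, t₁⁆) with hc'
    have hc'C : ∀ t ∈ T, c' t ∈ C := fun t ht =>
      C.mul_mem (hc t ht) (C.sub_mem (hχ t ht) (hχ t₁ ht₁))
    have hrel3 : ∑ t ∈ T, c' t * ι t = 0 := by
      have : ∑ t ∈ T, c' t * ι t =
          ∑ t ∈ T, c t * ι ⁅g, t⁆ * ι t - ∑ t ∈ T, c t * ι ⁅g, t₁⁆ * ι t := by
        rw [← Finset.sum_sub_distrib]
        apply Finset.sum_congr rfl
        intro t ht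
        simp only [hc']
        rw [mul_sub, sub_mul]
      rw [this, hrel1, hrel2, sub_zero]
    have hc't₁ : c' t₁ = 0 := by simp only [hc', sub_self, mul_zero]
    have hrel4 : ∑ t ∈ T.erase t₁, c' t * ι t = 0 := by
      rw [← Finset.add_sum_erase T _ ht₁, hc't₁, zero_mul, zero_add] at hrel3
      exact hrel3
    have hcard : (T.erase t₁).card < N := by
      rw [Finset.card_erase_of_mem ht₁, hN]
      have : 0 < T.card := Finset.card_pos.2 ⟨t₁, ht₁⟩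
      omega
    have hIH := ih (T.erase t₁).card hcard (T.erase t₁)
      (fun t ht => hT t (Finset.mem_of_mem_erase ht))
      (fun t ht t' ht' => hTd t (Finset.mem_of_mem_erase ht) t' (Finset.mem_of_mem_erase ht'))
      c' (fun t ht => hc'C t (Finset.mem_of_mem_erase ht)) hrel4 rfl
    have h2 := hIH t₂ (Finset.mem_erase.2 ⟨hne, ht₂⟩)
    simp only [hc'] at h2
    rcases hdom _ (hc t₂ ht₂) _ (C.sub_mem (hχ t₂ ht₂) (hχ t₁ ht₁)) h2 with h3 | h3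
    · exact hct₂ h3
    · have h4 : ⁅g, t₂⁆ = ⁅g, t₁⁆ := hι (sub_eq_zero.1 h3)
      exact hgne (comm_of_commutatorElement_eq h4)
  -- the single remaining term
  have h1 : ∑ t ∈ T, c t * ι t = c t₁ * ι t₁ := by
    apply Finset.sum_eq_single_of_mem t₁ ht₁
    intro t ht hne
    rw [hothers t ht hne, zero_mul]
  rw [h1] at hsum
  apply hct₁
  calc c t₁ = c t₁ * ι t₁ * ι t₁⁻¹ := by rw [mul_assoc, hinv, mul_one]
    _ = 0 := by rw [hsum, zero_mul]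

end Cfsg.Agent.Helper5.Hup
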