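import Mathlib
import Cfsg.Agent.Helper5.HupE1

set_option autoImplicit false
set_option linter.unusedVariables false
set_option linter.style.haveILetI false
set_option linter.unusedSectionVars false

/-!
Helper5: S3360, PIECE E2: counting consequences of the independence lemma.
-/

open scoped commutatorElement

namespace Cfsg.Agent.Helper5.Hup

universe u w

variable {q : ℕ} [hq : Fact q.Prime] {V : Type u} [AddCommGroup V] [Module (ZMod q) V] [Finite V]
variable {G : Type w} [Group G] [Finite G]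

omit hq [Finite V] in
/-- a transversal of `zc P` in `P` -/
theorem exists_transversal (P : Subgroup G) :
    ∃ T : Finset G, (∀ t ∈ T, t ∈ P) ∧ (∀ t ∈ T, ∀ t' ∈ T, t⁻¹ * t' ∈ zc P → t = t') ∧
      T.card = (zc P).relIndex P := by
  classical
  haveI : Fintype (P ⧸ (zc P).subgroupOf P) := Fintype.ofFinite _
  let φ : P ⧸ (zc P).subgroupOf P → G := fun x => ((Quotient.out x : P) : G)
  have hφ : Function.Injective φ := by
    intro x y hxy
    have h1 : (Quotient.out x : P) = Quotient.out y := Subtype.ext hxy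
    calc x = Quotient.mk'' (Quotient.out x) := (Quotient.out_eq' x).symm
      _ = Quotient.mk'' (Quotient.out y) := by rw [h1]
      _ = y := Quotient.out_eq' y
  refine ⟨Finset.univ.image φ, ?_, ?_, ?_⟩
  · intro t ht
    obtain ⟨x, -, rfl⟩ := Finset.mem_image.1 ht
    exact (Quotient.out x : P).2
  · intro t ht t' ht' h
    obtain ⟨x, -, rfl⟩ := Finset.mem_image.1 ht
    obtain ⟨y, -, rfl⟩ := Finset.mem_image.1 ht'
    have h1 : (Quotient.out x : P)⁻¹ * Quotient.out y ∈ (zc P).subgroupOf P := by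
      rw [Subgroup.mem_subgroupOf]
      exact h
    have h2 : (QuotientGroup.mk (Quotient.out x : P) : P ⧸ (zc P).subgroupOf P) =
        QuotientGroup.mk (Quotient.out y : P) := QuotientGroup.eq.2 h1
    have h3 : x = y := by
      calc x = QuotientGroup.mk (Quotient.out x : P) := (QuotientGroup.out_eq' x).symm
        _ = QuotientGroup.mk (Quotient.out y : P) := h2
        _ = y := QuotientGroup.out_eq' y
    rw [h3]
  · rw [Finset.card_image_of_injective _ hφ, Finset.card_univ, Subgroup.relIndex, Subgroup.index,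
      Nat.card_eq_fintype_card]

/-- the cardinality of `End V` -/
theorem card_end {n : ℕ} (hV : Nat.card V = q ^ n) :
    Nat.card (Module.End (ZMod q) V) = q ^ (n ^ 2) := by
  have h1 := Module.natCard_eq_pow_finrank (K := ZMod q) (V := V)
  rw [Nat.card_zmod, hV] at h1
  have hn : n = Module.finrank (ZMod q) V := Nat.pow_right_injective hq.out.two_le h1
  haveI : Finite (Module.End (ZMod q) V) :=
    Finite.of_injective (fun f : Module.End (ZMod q) V => (f : V → V)) DFunLike.coe_injective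
  have h2 := Module.natCard_eq_pow_finrank (K := ZMod q) (V := Module.End (ZMod q) V)
  rw [Nat.card_zmod] at h2
  rw [h2]
  have h3 : Module.finrank (ZMod q) (Module.End (ZMod q) V) =
      Module.finrank (ZMod q) V * Module.finrank (ZMod q) V :=
    Module.finrank_linearMap (ZMod q) (ZMod q) V V
  rw [h3, ← hn, sq]

omit [Finite G] in
/-- the key counting inequality -/
theorem card_pow_le (ι : G →* Module.End (ZMod q) V) (hι : Function.Injective ι) (P : Subgroup G)
    (C : Subalgebra (ZMod q) (Module.End (ZMod q) V))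
    (hcomm : ∀ a ∈ C, ∀ b ∈ C, a * b = b * a)
    (hdom : ∀ a ∈ C, ∀ b ∈ C, a * b = 0 → a = 0 ∨ b = 0)
    (hcP : ∀ a ∈ C, ∀ g ∈ P, a * ι g = ι g * a)
    (hZ : ∀ z ∈ zc P, ι z ∈ C) (hcl : ∀ a ∈ P, ∀ b ∈ P, ⁅a, b⁆ ∈ zc P)
    (T : Finset G) (hT : ∀ t ∈ T, t ∈ P) (hTd : ∀ t ∈ T, ∀ t' ∈ T, t⁻¹ * t' ∈ zc P → t = t') :
    Nat.card C ^ T.card ≤ Nat.card (Module.End (ZMod q) V) ∧
      (Nat.card C ^ T.card = Nat.card (Module.End (ZMod q) V) →
        ∀ f : Module.End (ZMod q) V, ∃ c : G → Module.End (ZMod q) V,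
          (∀ t ∈ T, c t ∈ C) ∧ f = ∑ t ∈ T, c t * ι t) := by
  classical
  haveI : Finite (Module.End (ZMod q) V) :=
    Finite.of_injective (fun f : Module.End (ZMod q) V => (f : V → V)) DFunLike.coe_injective
  let Φ : (T → C) → Module.End (ZMod q) V := fun c => ∑ t : T, (c t : Module.End (ZMod q) V) * ι t
  -- extension by zero
  let ext : (T → C) → G → Module.End (ZMod q) V :=
    fun c g => if h : g ∈ T then (c ⟨g, h⟩ : Module.End (ZMod q) V) else 0
  have hext : ∀ (c : T → C) (t : T), ext c t = c t := by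
    intro c t
    simp only [ext, dif_pos t.2]
  have hΦ : ∀ c : T → C, Φ c = ∑ t ∈ T, ext c t * ι t := by
    intro c
    rw [← Finset.sum_coe_sort T (fun t => ext c t * ι t)]
    apply Finset.sum_congr rfl
    intro t _
    rw [hext]
  have hinj : Function.Injective Φ := by
    intro c c' h
    have h0 : ∑ t ∈ T, (ext c t - ext c' t) * ι t = 0 := by
      simp only [sub_mul]
      rw [Finset.sum_sub_distrib, ← hΦ, ← hΦ, h, sub_self]
    have h1 := indep ι hι P C hcomm hdom hcP hZ hcl T hT hTd (fun g => ext c g - ext c' g)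
      (fun t ht => by
        simp only [ext, dif_pos ht]
        exact C.sub_mem (c ⟨t, ht⟩).2 (c' ⟨t, ht⟩).2) h0
    funext t
    apply Subtype.ext
    have := h1 t t.2
    rw [hext, hext] at this
    exact sub_eq_zero.1 this
  have hcard : Nat.card (T → C) = Nat.card C ^ T.card := by
    rw [Nat.card_fun, Nat.card_eq_fintype_card (α := T), Fintype.card_coe]
  constructor
  · rw [← hcard]
    exact Nat.card_le_card_of_injective Φ hinj
  · intro heq f
    have hbij : Function.Bijective Φ := by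
      rw [Nat.bijective_iff_injective_and_card]
      exact ⟨hinj, by rw [hcard, heq]⟩
    obtain ⟨c, rfl⟩ := hbij.2 f
    refine ⟨ext c, ?_, hΦ c⟩
    intro t ht
    simp only [ext, dif_pos ht]
    exact (c ⟨t, ht⟩).2

/-- the coefficient algebra has at least `q` elements -/
theorem le_card_subalgebra [Nontrivial V] (C : Subalgebra (ZMod q) (Module.End (ZMod q) V)) :
    q ≤ Nat.card C ∧ (Nat.card C = q →
      ∀ a ∈ C, ∃ c : ZMod q, a = algebraMap (ZMod q) (Module.End (ZMod q) V) c) := by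
  haveI : Finite (Module.End (ZMod q) V) :=
    Finite.of_injective (fun f : Module.End (ZMod q) V => (f : V → V)) DFunLike.coe_injective
  let φ : ZMod q → C := fun c => ⟨algebraMap (ZMod q) (Module.End (ZMod q) V) c, C.algebraMap_mem c⟩
  have hφ : Function.Injective φ := by
    intro c d h
    have h1 : algebraMap (ZMod q) (Module.End (ZMod q) V) c =
        algebraMap (ZMod q) (Module.End (ZMod q) V) d := congrArg Subtype.val h
    exact (algebraMap (ZMod q) (Module.End (ZMod q) V)).injective h1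
  constructor
  · have := Nat.card_le_card_of_injective φ hφ
    rwa [Nat.card_zmod] at this
  · intro heq a ha
    have hbij : Function.Bijective φ := by
      rw [Nat.bijective_iff_injective_and_card]
      exact ⟨hφ, by rw [Nat.card_zmod, heq]⟩
    obtain ⟨c, hc⟩ := hbij.2 ⟨a, ha⟩
    exact ⟨c, (congrArg Subtype.val hc).symm⟩

omit [Finite V] in
theorem nontrivial_of_card {n : ℕ} (hn : 0 < n) (hV : Nat.card V = q ^ n) : Nontrivial V := by
  have h1 : 1 < Nat.card V := by
    rw [hV]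
    exact Nat.one_lt_pow hn.ne' hq.out.one_lt
  haveI : Finite V := Nat.finite_of_card_ne_zero (by omega)
  exact Finite.one_lt_card_iff_nontrivial.1 h1

/-- PIECE E2 (a) -/
theorem relIndex_le (ι : G →* Module.End (ZMod q) V) (hι : Function.Injective ι) (P : Subgroup G)
    (C : Subalgebra (ZMod q) (Module.End (ZMod q) V))
    (hcomm : ∀ a ∈ C, ∀ b ∈ C, a * b = b * a)
    (hdom : ∀ a ∈ C, ∀ b ∈ C, a * b = 0 → a = 0 ∨ b = 0)
    (hcP : ∀ a ∈ C, ∀ g ∈ P, a * ι g = ι g * a)
    (hZ : ∀ z ∈ zc P, ι z ∈ C) (hcl : ∀ a ∈ P, ∀ b ∈ P, ⁅a, b⁆ ∈ zc P)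
    {n : ℕ} (hn : 0 < n) (hV : Nat.card V = q ^ n) : (zc P).relIndex P ≤ n ^ 2 := by
  haveI := nontrivial_of_card hn hV
  obtain ⟨T, hT, hTd, hTc⟩ := exists_transversal P
  have h1 := (card_pow_le ι hι P C hcomm hdom hcP hZ hcl T hT hTd).1
  rw [card_end hV, hTc] at h1
  have h2 := (le_card_subalgebra C).1
  have h3 : q ^ (zc P).relIndex P ≤ q ^ (n ^ 2) :=
    (Nat.pow_le_pow_left h2 _).trans h1
  exact (Nat.pow_le_pow_iff_right hq.out.one_lt).1 h3

/-- PIECE E2 (b) -/
theorem scal_of_relIndex_eq (ι : G →* Module.End (ZMod q) V) (hι : Function.Injective ι)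
    (P : Subgroup G) (C : Subalgebra (ZMod q) (Module.End (ZMod q) V))
    (hcomm : ∀ a ∈ C, ∀ b ∈ C, a * b = b * a)
    (hdom : ∀ a ∈ C, ∀ b ∈ C, a * b = 0 → a = 0 ∨ b = 0)
    (hcP : ∀ a ∈ C, ∀ g ∈ P, a * ι g = ι g * a)
    (hZ : ∀ z ∈ zc P, ι z ∈ C) (hcl : ∀ a ∈ P, ∀ b ∈ P, ⁅a, b⁆ ∈ zc P)
    {n : ℕ} (hn : 0 < n) (hV : Nat.card V = q ^ n) (heq : (zc P).relIndex P = n ^ 2) :
    ∀ z ∈ zc P, IsScal (ι z) := by
  haveI := nontrivial_of_card hn hV
  obtain ⟨T, hT, hTd, hTc⟩ := exists_transversal P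
  have h1 := (card_pow_le ι hι P C hcomm hdom hcP hZ hcl T hT hTd).1
  rw [card_end hV, hTc, heq] at h1
  have h2 := (le_card_subalgebra C).1
  have hn2 : n ^ 2 ≠ 0 := by positivity
  have h3 : Nat.card C ≤ q := (Nat.pow_le_pow_iff_left hn2).1 h1
  have h4 : Nat.card C = q := le_antisymm h3 h2
  intro z hz
  exact (le_card_subalgebra C).2 h4 _ (hZ z hz)

omit [Finite V] in
/-- the hypotheses of piece E for the scalar coefficient algebra -/
theorem bot_hyps [Nontrivial V] (ι : G →* Module.End (ZMod q) V) (P : Subgroup G)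
    (hZ : ∀ z ∈ zc P, IsScal (ι z)) :
    (∀ a ∈ (⊥ : Subalgebra (ZMod q) (Module.End (ZMod q) V)),
      ∀ b ∈ (⊥ : Subalgebra (ZMod q) (Module.End (ZMod q) V)), a * b = b * a) ∧
    (∀ a ∈ (⊥ : Subalgebra (ZMod q) (Module.End (ZMod q) V)),
      ∀ b ∈ (⊥ : Subalgebra (ZMod q) (Module.End (ZMod q) V)), a * b = 0 → a = 0 ∨ b = 0) ∧
    (∀ a ∈ (⊥ : Subalgebra (ZMod q) (Module.End (ZMod q) V)), ∀ g ∈ P, a * ι g = ι g * a) ∧
    (∀ z ∈ zc P, ι z ∈ (⊥ : Subalgebra (ZMod q) (Module.End (ZMod q) V))) := by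
  refine ⟨?_, ?_, ?_, ?_⟩
  · rintro a ha b hb
    obtain ⟨c, rfl⟩ := Algebra.mem_bot.1 ha
    exact Algebra.commutes c b
  · rintro a ha b hb hab
    obtain ⟨c, rfl⟩ := Algebra.mem_bot.1 ha
    obtain ⟨d, rfl⟩ := Algebra.mem_bot.1 hb
    rw [← map_mul] at hab
    have h0 : c * d = 0 := by
      apply (algebraMap (ZMod q) (Module.End (ZMod q) V)).injective
      rw [hab, map_zero]
    rcases mul_eq_zero.1 h0 with h | h
    · left
      rw [h, map_zero]
    · right
      rw [h, map_zero]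
  · rintro a ha g hg
    obtain ⟨c, rfl⟩ := Algebra.mem_bot.1 ha
    exact Algebra.commutes c (ι g)
  · intro z hz
    obtain ⟨c, hc⟩ := hZ z hz
    rw [hc]
    exact Subalgebra.algebraMap_mem _ c

/-- expansion of endomorphisms over a transversal, with scalar coefficients -/
theorem exists_expansion (ι : G →* Module.End (ZMod q) V) (hι : Function.Injective ι)
    (P : Subgroup G) (hZ : ∀ z ∈ zc P, IsScal (ι z)) (hcl : ∀ a ∈ P, ∀ b ∈ P, ⁅a, b⁆ ∈ zc P)
    {n : ℕ} (hn : 0 < n) (hV : Nat.card V = q ^ n) (heq : (zc P).relIndex P = n ^ 2) :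
    ∃ T : Finset G, (∀ t ∈ T, t ∈ P) ∧ (∀ t ∈ T, ∀ t' ∈ T, t⁻¹ * t' ∈ zc P → t = t') ∧
      T.card = n ^ 2 ∧
      (∀ f : Module.End (ZMod q) V, ∃ d : G → ZMod q, f = ∑ t ∈ T, d t • ι t) ∧
      (∀ d : G → ZMod q, ∑ t ∈ T, d t • ι t = 0 → ∀ t ∈ T, d t = 0) := by
  haveI := nontrivial_of_card hn hV
  obtain ⟨T, hT, hTd, hTc⟩ := exists_transversal P
  obtain ⟨hb1, hb2, hb3, hb4⟩ := bot_hyps ι P hZ
  refine ⟨T, hT, hTd, hTc.trans heq, ?_, ?_⟩
  · have hcb : Nat.card (⊥ : Subalgebra (ZMod q) (Module.End (ZMod q) V)) = q := by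
      apply le_antisymm _ (le_card_subalgebra _).1
      let ψ : ZMod q → (⊥ : Subalgebra (ZMod q) (Module.End (ZMod q) V)) :=
        fun c => ⟨algebraMap (ZMod q) (Module.End (ZMod q) V) c, Subalgebra.algebraMap_mem _ c⟩
      have hψ : Function.Surjective ψ := by
        rintro ⟨a, ha⟩
        obtain ⟨c, rfl⟩ := Algebra.mem_bot.1 ha
        exact ⟨c, rfl⟩
      have := Nat.card_le_card_of_surjective ψ hψ
      rwa [Nat.card_zmod] at this
    have h1 := (card_pow_le ι hι P ⊥ hb1 hb2 hb3 hb4 hcl T hT hTd).2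
    rw [card_end hV, hTc, heq, hcb] at h1
    intro f
    obtain ⟨c, hc, hf⟩ := h1 rfl f
    choose! d hd using fun t (ht : t ∈ T) => Algebra.mem_bot.1 (hc t ht)
    refine ⟨d, ?_⟩
    rw [hf]
    apply Finset.sum_congr rfl
    intro t ht
    rw [← hd t ht, Algebra.smul_def]
  · intro d hd t ht
    have h1 := indep ι hι P ⊥ hb1 hb2 hb3 hb4 hcl T hT hTd
      (fun t => algebraMap (ZMod q) (Module.End (ZMod q) V) (d t))
      (fun t _ => Subalgebra.algebraMap_mem _ _)
      (by
        rw [← hd]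
        apply Finset.sum_congr rfl
        intro t _
        rw [Algebra.smul_def]) t ht
    apply (algebraMap (ZMod q) (Module.End (ZMod q) V)).injective
    rw [h1, map_zero]

/-- PIECE E2 (c) -/
theorem span_of_relIndex_eq (ι : G →* Module.End (ZMod q) V) (hι : Function.Injective ι)
    (P : Subgroup G) (hZ : ∀ z ∈ zc P, IsScal (ι z)) (hcl : ∀ a ∈ P, ∀ b ∈ P, ⁅a, b⁆ ∈ zc P)
    {n : ℕ} (hn : 0 < n) (hV : Nat.card V = q ^ n) (heq : (zc P).relIndex P = n ^ 2) :
    Submodule.span (ZMod q) (ι '' (P : Set G)) = ⊤ := by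
  obtain ⟨T, hT, -, -, hexp, -⟩ := exists_expansion ι hι P hZ hcl hn hV heq
  rw [eq_top_iff]
  intro f _
  obtain ⟨d, rfl⟩ := hexp f
  apply Submodule.sum_mem
  intro t ht
  apply Submodule.smul_mem
  exact Submodule.subset_span ⟨t, hT t ht, rfl⟩

end Cfsg.Agent.Helper5.Hup
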