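import Mathlib
import Cfsg.Agent.Helper5.HupDefs

set_option autoImplicit false
set_option linter.unusedVariables false
set_option linter.style.haveILetI false
set_option linter.unusedSectionVars false

/-!
Helper5: S3360, PIECE J (part 1): the subgroup of scalars; in dimension 2 a normal abelian
subgroup of a transitive group is irreducible or scalar.
-/

namespace Cfsg.Agent.Helper5.Hup

universe u w

variable {q : ℕ} [hq : Fact q.Prime] {V : Type u} [AddCommGroup V] [Module (ZMod q) V] [Finite V]
variable {G : Type w} [Group G] [Finite G]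

omit [Finite V] [Finite G] in
theorem isScal_inv (ι : G →* Module.End (ZMod q) V) {a : G} (ha : IsScal (ι a)) :
    IsScal (ι a⁻¹) := by
  obtain ⟨c, hc⟩ := ha
  have h1 : ι a * ι a⁻¹ = 1 := by rw [← map_mul, mul_inv_cancel, map_one]
  by_cases hc0 : c = 0
  · rw [hc0, map_zero] at hc
    rw [hc, zero_mul] at h1
    refine ⟨0, ?_⟩
    rw [map_zero]
    calc ι a⁻¹ = 1 * ι a⁻¹ := (one_mul _).symm
      _ = 0 * ι a⁻¹ := by rw [h1]
      _ = 0 := zero_mul _
  · refine ⟨c⁻¹, ?_⟩
    calc ι a⁻¹ = 1 * ι a⁻¹ := (one_mul _).symm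
      _ = (algebraMap (ZMod q) (Module.End (ZMod q) V) c⁻¹ * ι a) * ι a⁻¹ := by
          rw [hc, ← map_mul, inv_mul_cancel₀ hc0, map_one]
      _ = algebraMap (ZMod q) (Module.End (ZMod q) V) c⁻¹ := by rw [mul_assoc, h1, mul_one]

omit [Finite V] [Finite G] in
/-- the subgroup of elements acting as scalars -/
def scalSub (ι : G →* Module.End (ZMod q) V) : Subgroup G where
  carrier := {g | IsScal (ι g)}
  one_mem' := ⟨1, by rw [map_one, map_one]⟩
  mul_mem' := by
    rintro a b ⟨c, hc⟩ ⟨d, hd⟩
    exact ⟨c * d, by rw [map_mul, hc, hd, map_mul]⟩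
  inv_mem' := fun {a} ha => isScal_inv ι ha

omit [Finite V] [Finite G] in
theorem mem_scalSub {ι : G →* Module.End (ZMod q) V} {g : G} : g ∈ scalSub ι ↔ IsScal (ι g) :=
  Iff.rfl

omit [Finite V] [Finite G] in
theorem scalSub_central (ι : G →* Module.End (ZMod q) V) (hι : Function.Injective ι) {g : G}
    (hg : g ∈ scalSub ι) (h : G) : g * h = h * g := by
  obtain ⟨c, hc⟩ := hg
  apply hι
  rw [map_mul, map_mul, hc]
  exact Algebra.commutes c (ι h)

omit [Finite V] [Finite G] in
theorem scalSub_normal (ι : G →* Module.End (ZMod q) V) (hι : Function.Injective ι) :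
    (scalSub ι).Normal := by
  constructor
  intro n hn g
  have : g * n * g⁻¹ = n := by
    rw [← scalSub_central ι hι hn g, mul_inv_cancel_right]
  rwa [this]

omit [Finite G] in
/-- the scalar of a scalar element, as a monoid hom into the field -/
theorem scalSub_isCyclic [Nontrivial V] (ι : G →* Module.End (ZMod q) V)
    (hι : Function.Injective ι) (Z : Subgroup G) (hZ : Z ≤ scalSub ι) : IsCyclic Z := by
  classical
  haveI : Finite (Module.End (ZMod q) V) :=
    Finite.of_injective (fun f : Module.End (ZMod q) V => (f : V → V)) DFunLike.coe_injective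
  haveI : Finite G := Finite.of_injective ι hι
  have hinj := (algebraMap (ZMod q) (Module.End (ZMod q) V)).injective
  choose c hc using fun z : Z => hZ z.2
  let φ : Z →* ZMod q :=
    { toFun := c
      map_one' := by
        apply hinj
        rw [← hc, map_one]
        simp
      map_mul' := fun a b => by
        apply hinj
        rw [map_mul, ← hc, ← hc, ← hc]
        simp }
  have hφ : Function.Injective φ := by
    intro a b h
    apply Subtype.ext
    apply hι
    rw [hc a, hc b]
    exact congrArg _ h
  exact isCyclic_of_injective_ringHom φ hφ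

omit [Finite G] in
/-- the group of scalars has order dividing `q - 1` -/
theorem card_scalSub_dvd [Nontrivial V] (ι : G →* Module.End (ZMod q) V)
    (hι : Function.Injective ι) : Nat.card (scalSub ι) ∣ q - 1 := by
  classical
  haveI : Finite (Module.End (ZMod q) V) :=
    Finite.of_injective (fun f : Module.End (ZMod q) V => (f : V → V)) DFunLike.coe_injective
  haveI : Finite G := Finite.of_injective ι hι
  have hinj := (algebraMap (ZMod q) (Module.End (ZMod q) V)).injective
  choose c hc using fun z : scalSub ι => (z.2 : IsScal (ι z))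
  have hmul : ∀ a b : scalSub ι, c (a * b) = c a * c b := by
    intro a b
    apply hinj
    rw [map_mul, ← hc, ← hc, ← hc]
    simp
  have hone : c 1 = 1 := by
    apply hinj
    rw [← hc, map_one]
    simp
  let φ : scalSub ι →* (ZMod q)ˣ :=
    { toFun := fun z => ⟨c z, c z⁻¹, by rw [← hmul, mul_inv_cancel, hone],
        by rw [← hmul, inv_mul_cancel, hone]⟩
      map_one' := Units.ext hone
      map_mul' := fun a b => Units.ext (hmul a b) }
  have hφ : Function.Injective φ := by
    intro a b h
    apply Subtype.ext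
    apply hι
    rw [hc a, hc b]
    exact congrArg _ (congrArg Units.val h)
  have h1 := Subgroup.card_dvd_of_injective φ hφ
  rwa [Nat.card_eq_fintype_card (α := (ZMod q)ˣ), ZMod.card_units_eq_totient,
    Nat.totient_prime hq.out] at h1

/-- in dimension 2, a normal subgroup that is not irreducible consists of scalars -/
theorem le_scalSub_of_not_irrOn (ι : G →* Module.End (ZMod q) V) (hι : Function.Injective ι)
    (htr : Trans ι) (hV : Nat.card V = q ^ 2) (A : Subgroup G) [hA : A.Normal]
    (hirr : ¬ IrrOn ι A) : A ≤ scalSub ι := by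
  classical
  have hfr : Module.finrank (ZMod q) V = 2 := by
    have h1 := Module.natCard_eq_pow_finrank (K := ZMod q) (V := V)
    rw [Nat.card_zmod, hV] at h1
    exact (Nat.pow_right_injective hq.out.two_le h1).symm
  unfold IrrOn at hirr
  push Not at hirr
  obtain ⟨W, hW, hWb, hWt⟩ := hirr
  obtain ⟨v₀, hv₀W, hv₀⟩ := Submodule.exists_mem_ne_zero_of_ne_bot hWb
  have hinvG : ∀ g : G, ι g⁻¹ * ι g = 1 := fun g => by rw [← map_mul, inv_mul_cancel, map_one]
  -- `v₀` is an eigenvector of every element of `A`
  have h0 : ∀ a ∈ A, ¬ LinearIndependent (ZMod q) ![v₀, ι a v₀] := by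
    intro a ha hli
    let w' : Fin 2 → W := ![⟨v₀, hv₀W⟩, ⟨ι a v₀, hW a ha v₀ hv₀W⟩]
    have hcomp : W.subtype ∘ w' = ![v₀, ι a v₀] := by
      funext i
      fin_cases i <;> rfl
    have hli' : LinearIndependent (ZMod q) w' := by
      apply LinearIndependent.of_comp W.subtype
      rw [hcomp]
      exact hli
    have h1 := hli'.fintype_card_le_finrank
    rw [Fintype.card_fin] at h1
    have h2 := Submodule.finrank_lt hWt
    omega
  intro a ha
  rw [mem_scalSub]
  have hall : ∀ v : V, ¬ LinearIndependent (ZMod q) ![v, ι a v] := by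
    intro v hli
    have hv : v ≠ 0 := by
      have := hli.ne_zero 0
      simpa using this
    obtain ⟨g, hg⟩ := htr v₀ v hv₀ hv
    have ha' : g⁻¹ * a * g ∈ A := by
      have := hA.conj_mem a ha g⁻¹
      simpa using this
    apply h0 _ ha'
    have hker : LinearMap.ker (ι g⁻¹) = ⊥ := by
      rw [LinearMap.ker_eq_bot]
      intro x y hxy
      have := congrArg (ι g) hxy
      have h3 : ∀ z : V, ι g (ι g⁻¹ z) = z := by
        intro z
        have : (ι g * ι g⁻¹) z = z := by rw [← map_mul, mul_inv_cancel, map_one]; rfl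
        exact this
      rwa [h3, h3] at this
    have h4 := hli.map' (ι g⁻¹) hker
    have h5 : (ι g⁻¹) ∘ ![v, ι a v] = ![v₀, ι (g⁻¹ * a * g) v₀] := by
      funext i
      fin_cases i
      · show ι g⁻¹ v = v₀
        rw [← hg]
        have : (ι g⁻¹ * ι g) v₀ = v₀ := by rw [hinvG]; rfl
        exact this
      · show ι g⁻¹ (ι a v) = ι (g⁻¹ * a * g) v₀
        rw [← hg, map_mul, map_mul]
        rfl
    rw [h5] at h4
    exact h4
  obtain ⟨c, hc⟩ := LinearMap.exists_eq_smul_id_of_forall_notLinearIndependent hall
  exact ⟨c, by rw [hc, Algebra.algebraMap_eq_smul_one]⟩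

end Cfsg.Agent.Helper5.Hup
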