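import Mathlib

set_option autoImplicit false
set_option linter.unusedVariables false
set_option linter.style.haveILetI false

/-!
Helper5: S3360, PIECE NUM: the two arithmetic lemmas.
-/

namespace Cfsg.Agent.Helper5.Hup

theorem sq_sub_one' (a : ℕ) : a ^ 2 - 1 = (a - 1) * (a + 1) := by
  cases a with
  | zero => simp
  | succ b =>
    have : (b + 1) ^ 2 = b * (b + 1 + 1) + 1 := by ring
    rw [this]
    simp

theorem two_pow_lt_three_pow (X : ℕ) : 2 ^ (3 * X) < 3 ^ (2 * X + 1) := by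
  rw [pow_succ, pow_mul, pow_mul]
  have h9 : (2 ^ 3) ^ X ≤ (3 ^ 2) ^ X := Nat.pow_le_pow_left (by norm_num) _
  have h10 : 0 < (3 ^ 2) ^ X := by positivity
  omega

theorem num_step {n r s k : ℕ} (hn : 2 ≤ n) (hr : r.Prime) (hs : s.Prime) (hk : 1 ≤ k)
    (hrn : n + 1 ≤ r) (hle : s ^ (2 * k) ≤ n ^ 2) (hdvd : r ∣ s ^ (2 * k) - 1) :
    s = 2 ∧ n = 2 ^ k ∧ r = n + 1 := by
  set a := s ^ k with ha
  have ha2 : 2 ≤ a := by
    calc 2 ≤ s := hs.two_le
      _ = s ^ 1 := (pow_one s).symm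
      _ ≤ s ^ k := Nat.pow_le_pow_right hs.pos hk
  have hsq : s ^ (2 * k) = a ^ 2 := by rw [ha, ← pow_mul, mul_comm]
  rw [hsq] at hle hdvd
  have han : a ≤ n := by
    by_contra h
    push Not at h
    have : n ^ 2 < a ^ 2 := Nat.pow_lt_pow_left h (by norm_num)
    omega
  have hfac : a ^ 2 - 1 = (a - 1) * (a + 1) := sq_sub_one' a
  rw [hfac] at hdvd
  rcases (Nat.Prime.dvd_mul hr).1 hdvd with h | h
  · exfalso
    have := Nat.le_of_dvd (by omega) h
    omega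
  · have h1 := Nat.le_of_dvd (by omega) h
    have hra : r = a + 1 := by omega
    have hna : n = a := by omega
    have hr3 : r ≠ 2 := by omega
    have hodd : Odd r := hr.odd_of_ne_two hr3
    have haev : Even a := by
      rcases Nat.even_or_odd a with h2 | h2
      · exact h2
      · exfalso
        have : Even r := by
          rw [hra]
          exact Odd.add_one h2
        exact (Nat.not_even_iff_odd.2 hodd) this
    have hs2 : s = 2 := by
      have h2 : 2 ∣ s ^ k := even_iff_two_dvd.1 haev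
      have h3 : 2 ∣ s := Nat.Prime.dvd_of_dvd_pow Nat.prime_two h2
      exact ((Nat.prime_dvd_prime_iff_eq Nat.prime_two hs).1 h3).symm
    refine ⟨hs2, ?_, ?_⟩
    · rw [hna, ha, hs2]
    · omega

/-- `(q - 1) * q ^ (N - 1) ≤ q ^ N - 1` -/
theorem pred_mul_pow_le (q N : ℕ) (hq : 1 ≤ q) (hN : 1 ≤ N) : (q - 1) * q ^ (N - 1) ≤ q ^ N - 1 := by
  obtain ⟨M, rfl⟩ : ∃ M, N = M + 1 := ⟨N - 1, by omega⟩
  obtain ⟨t, rfl⟩ : ∃ t, q = t + 1 := ⟨q - 1, by omega⟩
  simp only [Nat.add_sub_cancel]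
  have h1 : 1 ≤ (t + 1) ^ M := Nat.one_le_pow _ _ (by omega)
  have h2 : (t + 1) ^ (M + 1) = t * (t + 1) ^ M + (t + 1) ^ M := by ring
  omega

theorem card_GL_two (k : ℕ) :
    Nat.card (GL (Fin k) (ZMod 2)) = ∏ i : Fin k, (2 ^ k - 2 ^ (i : ℕ)) := by
  haveI : Fact (Nat.Prime 2) := ⟨Nat.prime_two⟩
  rw [Matrix.card_GL_field (𝔽 := ZMod 2) k, ZMod.card]

theorem card_GL_two_le (k : ℕ) : Nat.card (GL (Fin k) (ZMod 2)) ≤ 2 ^ (k * k) := by
  rw [card_GL_two]
  calc ∏ i : Fin k, (2 ^ k - 2 ^ (i : ℕ)) ≤ ∏ _i : Fin k, 2 ^ k :=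
        Finset.prod_le_prod' (fun i _ => Nat.sub_le _ _)
    _ = 2 ^ (k * k) := by
        rw [Finset.prod_const, Finset.card_univ, Fintype.card_fin, ← pow_mul]

theorem big_ineq (t : ℕ) :
    4 * (t + 8) ^ 2 + 2 * (t + 8) + 3 ≤ 3 * 2 ^ (t + 7) ∧ 8 * (t + 8) + 6 ≤ 3 * 2 ^ (t + 7) := by
  induction t with
  | zero => norm_num
  | succ t ih =>
    obtain ⟨h1, h2⟩ := ih
    have hp : 2 ^ (t + 1 + 7) = 2 * 2 ^ (t + 7) := by ring
    rw [hp]
    constructor
    · nlinarith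
    · nlinarith

/-- the size argument for `m ≥ 8` -/
theorem size_contra {q m : ℕ} (hq3 : 3 ≤ q) (hm : 8 ≤ m)
    (hdvd : q ^ (2 ^ m) - 1 ∣ (q - 1) * (2 ^ m) ^ 2 * Nat.card (GL (Fin (2 * m)) (ZMod 2))) :
    False := by
  have hpos : 0 < Nat.card (GL (Fin (2 * m)) (ZMod 2)) := Nat.card_pos
  have hpos2 : 0 < (q - 1) * (2 ^ m) ^ 2 * Nat.card (GL (Fin (2 * m)) (ZMod 2)) :=
    Nat.mul_pos (Nat.mul_pos (by omega) (by positivity)) hpos
  have hle := Nat.le_of_dvd hpos2 hdvd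
  have h1 := pred_mul_pow_le q (2 ^ m) (by omega) (Nat.one_le_two_pow)
  have h2 : (q - 1) * q ^ (2 ^ m - 1) ≤
      (q - 1) * ((2 ^ m) ^ 2 * Nat.card (GL (Fin (2 * m)) (ZMod 2))) := by
    rw [← mul_assoc]
    exact h1.trans hle
  have h3 : q ^ (2 ^ m - 1) ≤ (2 ^ m) ^ 2 * Nat.card (GL (Fin (2 * m)) (ZMod 2)) :=
    Nat.le_of_mul_le_mul_left h2 (by omega)
  have h4 : (2 ^ m) ^ 2 * Nat.card (GL (Fin (2 * m)) (ZMod 2)) ≤ 2 ^ (4 * m ^ 2 + 2 * m) := by
    calc (2 ^ m) ^ 2 * Nat.card (GL (Fin (2 * m)) (ZMod 2))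
        ≤ (2 ^ m) ^ 2 * 2 ^ (2 * m * (2 * m)) := Nat.mul_le_mul_left _ (card_GL_two_le _)
      _ = 2 ^ (4 * m ^ 2 + 2 * m) := by
        rw [← pow_mul, ← pow_add]
        congr 1
        ring
  obtain ⟨t, rfl⟩ : ∃ t, m = t + 8 := ⟨m - 8, by omega⟩
  have h5 := (big_ineq t).1
  -- 3 ^ (2^m - 1) > 2 ^ (3 * 2^(m-1) - 3)
  have h6 : 2 ^ (t + 8) - 1 = 2 * (2 ^ (t + 7) - 1) + 1 := by
    have : 2 ^ (t + 8) = 2 * 2 ^ (t + 7) := by ring
    have h7 : 1 ≤ 2 ^ (t + 7) := Nat.one_le_two_pow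
    omega
  have h8 : 2 ^ (3 * (2 ^ (t + 7) - 1)) < 3 ^ (2 ^ (t + 8) - 1) := by
    rw [h6]
    exact two_pow_lt_three_pow _
  have h11 : 4 * (t + 8) ^ 2 + 2 * (t + 8) ≤ 3 * (2 ^ (t + 7) - 1) := by
    have h7 : 1 ≤ 2 ^ (t + 7) := Nat.one_le_two_pow
    omega
  have h12 : 2 ^ (4 * (t + 8) ^ 2 + 2 * (t + 8)) ≤ 2 ^ (3 * (2 ^ (t + 7) - 1)) :=
    Nat.pow_le_pow_right (by norm_num) h11
  have h13 : 3 ^ (2 ^ (t + 8) - 1) ≤ q ^ (2 ^ (t + 8) - 1) := Nat.pow_le_pow_left hq3 _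
  omega

theorem pow_four_sub_one (q : ℕ) : q ^ 4 - 1 = (q - 1) * (q ^ 3 + q ^ 2 + q + 1) := by
  cases q with
  | zero => simp
  | succ t =>
    have : (t + 1) ^ 4 = t * ((t + 1) ^ 3 + (t + 1) ^ 2 + (t + 1) + 1) + 1 := by ring
    rw [this]
    simp

theorem card_GL_two_two : Nat.card (GL (Fin 2) (ZMod 2)) = 6 := by
  rw [card_GL_two]
  simp [Fin.prod_univ_two]

theorem card_GL_two_four : Nat.card (GL (Fin 4) (ZMod 2)) = 20160 := by
  rw [card_GL_two]
  simp [Fin.prod_univ_four]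

theorem card_GL_two_eight : Nat.card (GL (Fin 8) (ZMod 2)) = 5348063769211699200 := by
  rw [card_GL_two]
  simp [Fin.prod_univ_eight]

theorem num_main {q m : ℕ} (hq : q.Prime) (hq2 : q ≠ 2) (hm : 1 ≤ m) (hr : (2 ^ m + 1).Prime)
    (hdvd : q ^ (2 ^ m) - 1 ∣ (q - 1) * (2 ^ m) ^ 2 * Nat.card (GL (Fin (2 * m)) (ZMod 2))) :
    q ^ (2 ^ m) ∈ ({9, 25, 49, 121, 529, 81} : Set ℕ) := by
  have hq3 : 3 ≤ q := by
    have := hq.two_le
    omega
  rcases Nat.lt_or_ge m 8 with h8 | h8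
  · interval_cases m
    · -- m = 1
      have hc : Nat.card (GL (Fin (2 * 1)) (ZMod 2)) = 6 := card_GL_two_two
      rw [hc] at hdvd
      norm_num at hdvd ⊢
      rw [sq_sub_one', mul_assoc] at hdvd
      have h1 : q + 1 ∣ 4 * 6 := Nat.dvd_of_mul_dvd_mul_left (by omega) hdvd
      have h2 : q + 1 ≤ 24 := Nat.le_of_dvd (by norm_num) h1
      have h3 : q ≤ 23 := by omega
      interval_cases q <;> first
        | (norm_num at hq; done)
        | (norm_num at h1; done)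
        | norm_num
    · -- m = 2
      have hc : Nat.card (GL (Fin (2 * 2)) (ZMod 2)) = 20160 := card_GL_two_four
      rw [hc] at hdvd
      norm_num at hdvd ⊢
      rw [pow_four_sub_one, mul_assoc] at hdvd
      have h1 : q ^ 3 + q ^ 2 + q + 1 ∣ 16 * 20160 := Nat.dvd_of_mul_dvd_mul_left (by omega) hdvd
      have h2 : q ^ 3 + q ^ 2 + q + 1 ≤ 16 * 20160 := Nat.le_of_dvd (by norm_num) h1
      have h3 : q ≤ 68 := by
        by_contra h
        push Not at h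
        have : 69 ^ 3 ≤ q ^ 3 := Nat.pow_le_pow_left h 3
        omega
      interval_cases q <;> first
        | (norm_num at hq; done)
        | (norm_num at h1; done)
        | norm_num
    · norm_num at hr
    · -- m = 4
      exfalso
      have hc : Nat.card (GL (Fin (2 * 4)) (ZMod 2)) = 5348063769211699200 := card_GL_two_eight
      rw [hc] at hdvd
      norm_num at hdvd
      have hpos : 0 < (q - 1) * 256 * 5348063769211699200 := by
        apply Nat.mul_pos (Nat.mul_pos (by omega) (by norm_num)) (by norm_num)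
      have hle := Nat.le_of_dvd hpos hdvd
      have h1 := pred_mul_pow_le q 16 (by omega) (by norm_num)
      have h2 : (q - 1) * q ^ 15 ≤ (q - 1) * (256 * 5348063769211699200) := by
        rw [← mul_assoc]
        exact h1.trans hle
      have h3 : q ^ 15 ≤ 256 * 5348063769211699200 := Nat.le_of_mul_le_mul_left h2 (by omega)
      have h4 : q ≤ 25 := by
        by_contra h
        push Not at h
        have : 26 ^ 15 ≤ q ^ 15 := Nat.pow_le_pow_left h 15
        omega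
      interval_cases q <;> first
        | (norm_num at hq; done)
        | (norm_num at hdvd; done)
    · norm_num at hr
    · norm_num at hr
    · norm_num at hr
  · exact (size_contra hq3 h8 hdvd).elim

end Cfsg.Agent.Helper5.Hup
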