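import Mathlib
import Cfsg.Agent.Helper5.HupE2
import Cfsg.Agent.Helper5.HupNum
import Cfsg.Agent.Helper5.HupJ1
import Cfsg.Agent.Helper9.HupSQ
import Cfsg.Agent.Helper1.Fitting2
import Cfsg.Agent.Helper1.HHD3Grp
import Cfsg.Agent.Helper1.PGroup
import Cfsg.Agent.Helper2.HupBase
import Cfsg.Agent.Helper6.HupG

set_option autoImplicit false
set_option linter.unusedVariables false
set_option linter.style.haveILetI false
set_option linter.unusedSectionVars false

/-!
Helper5: S3360, PIECE J: the case `n = 2`.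
-/

open scoped commutatorElement

namespace Cfsg.Agent.Helper5.Hup

open Cfsg.Agent.Helper2.Hup Cfsg.Agent.Helper6.Hup Cfsg.Agent.Helper9.Hup

universe u w

variable {q : ℕ} [hq : Fact q.Prime] {V : Type u} [AddCommGroup V] [Module (ZMod q) V] [Finite V]
variable {G : Type w} [Group G] [Finite G]

omit hq [Finite G] in
/-- the Frattini subgroup of a normal `s`-subgroup, inside the ambient group -/
theorem frattini_image {s : ℕ} [Fact s.Prime] (D : Subgroup G) [hDn : D.Normal] [Finite D]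
    (hDp : IsPGroup s D) (hD1 : D ≠ ⊥) :
    ∃ Φ : Subgroup G, Φ.Normal ∧ Φ ≤ D ∧ Φ ≠ D ∧ (∀ a ∈ D, ∀ b ∈ D, ⁅a, b⁆ ∈ Φ) ∧
      (∀ a ∈ D, a ^ s ∈ Φ) := by
  haveI : (frattini D).Characteristic := frattini_characteristic
  refine ⟨(frattini D).map D.subtype, ConjAct.normal_of_characteristic_of_normal, ?_, ?_, ?_, ?_⟩
  · rintro _ ⟨d, -, rfl⟩
    exact d.2
  · intro h
    have h1 : frattini D = ⊤ := by
      apply Subgroup.map_injective D.subtype_injective
      rw [h, ← MonoidHom.range_eq_map, Subgroup.range_subtype]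
    haveI : Nontrivial D := (Subgroup.nontrivial_iff_ne_bot D).2 hD1
    exact Cfsg.Agent.Helper1.HHD3.frattini_ne_top' D h1
  · intro a ha b hb
    have h1 : ⁅(⟨a, ha⟩ : D), ⟨b, hb⟩⁆ ∈ frattini D :=
      Cfsg.Agent.Helper1.IsPGroup.commutator_le_frattini hDp
        (Subgroup.commutator_mem_commutator (Subgroup.mem_top _) (Subgroup.mem_top _))
    exact ⟨_, h1, rfl⟩
  · intro a ha
    have h1 : (⟨a, ha⟩ : D) ^ s ∈ frattini D :=
      Cfsg.Agent.Helper1.IsPGroup.pow_mem_frattini hDp _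
    exact ⟨_, h1, rfl⟩

/-- PIECE J -/
theorem case_two (ι : G →* Module.End (ZMod q) V) (hι : Function.Injective ι) (htr : Trans ι)
    (hsol : Group.IsSolvable G) (hV : Nat.card V = q ^ 2) :
    (∃ A : Subgroup G, A.Normal ∧ (∀ a ∈ A, ∀ b ∈ A, a * b = b * a) ∧ IrrOn ι A) ∨
      Nat.card V ∈ ({9, 25, 49, 121, 529, 81} : Set ℕ) := by
  classical
  by_cases hex : ∃ A : Subgroup G, A.Normal ∧ (∀ a ∈ A, ∀ b ∈ A, a * b = b * a) ∧ IrrOn ι A
  · exact Or.inl hex
  right
  push Not at hex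
  have hn0 : 0 < 2 := by norm_num
  haveI := nontrivial_of_card hn0 hV
  have hZ₀n : (scalSub ι).Normal := scalSub_normal ι hι
  -- every normal abelian subgroup is scalar
  have hab : ∀ A : Subgroup G, A.Normal → (∀ a ∈ A, ∀ b ∈ A, a * b = b * a) → A ≤ scalSub ι := by
    intro A hA hc
    haveI := hA
    exact le_scalSub_of_not_irrOn ι hι htr hV A (hex A hA hc)
  -- `G` is not abelian
  have hGna : ¬ ∀ a b : G, a * b = b * a := by
    intro h
    exact hex ⊤ inferInstance (fun a _ b _ => h a b) (irrOn_top ι htr)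
  -- some `O_s(G)` is not scalar
  have hs : ∃ s : Nat.Primes, ¬ Cfsg.pCore (s : ℕ) G ≤ scalSub ι := by
    by_contra hall
    push Not at hall
    have hF : Cfsg.fittingSubgroup G ≤ scalSub ι := by
      rw [Cfsg.Agent.Helper1.fittingSubgroup_eq_fitJoin]
      exact iSup_le hall
    haveI := hsol
    have hC := Cfsg.Agent.Helper1.centralizer_fittingSubgroup_le (G := G)
    have htop : (⊤ : Subgroup G) ≤ Subgroup.centralizer (Cfsg.fittingSubgroup G : Set G) := by
      intro g _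
      rw [Subgroup.mem_centralizer_iff]
      intro h hh
      exact scalSub_central ι hι (hF hh) g
    apply hGna
    intro a b
    have ha : a ∈ scalSub ι := hF (hC (htop (Subgroup.mem_top a)))
    exact scalSub_central ι hι ha b
  obtain ⟨⟨s, hsp⟩, hsZ⟩ := hs
  haveI : Fact s.Prime := ⟨hsp⟩
  have hSp : IsPGroup s (Cfsg.pCore s G) := Cfsg.Agent.Helper1.pCore_isPGroup s
  -- `s ≠ q`
  have hsq : s ≠ q := by
    intro h
    apply hsZ
    have hqn : ¬ q ∣ q ^ 2 - 1 := by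
      intro h'
      have h1 : q ∣ q ^ 2 := dvd_pow_self q (by norm_num)
      have h2 : 1 ≤ q ^ 2 := Nat.one_le_pow _ _ hq.out.pos
      have h3 : q ∣ q ^ 2 - (q ^ 2 - 1) := Nat.dvd_sub h1 h'
      have h4 : q ^ 2 - (q ^ 2 - 1) = 1 := by omega
      rw [h4] at h3
      exact hq.out.one_lt.ne' (Nat.dvd_one.1 h3)
    have hbot : Cfsg.pCore s G = ⊥ := by
      subst h
      exact eq_bot_of_isPGroup ι hι htr hV (Cfsg.pCore s G) hSp hqn
    rw [hbot]
    exact bot_le
  -- the minimal normal non-scalar subgroup `D`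
  let 𝒟 : Set (Subgroup G) := {N | N.Normal ∧ N ≤ Cfsg.pCore s G ∧ ¬ N ≤ scalSub ι}
  have h𝒟 : 𝒟.Nonempty := ⟨Cfsg.pCore s G, inferInstance, le_rfl, hsZ⟩
  obtain ⟨D, ⟨hDn, hDS, hDZ⟩, hmin⟩ := wellFounded_lt.has_min 𝒟 h𝒟
  haveI := hDn
  have hDp : IsPGroup s D := hSp.to_le hDS
  have hD1 : D ≠ ⊥ := by
    intro h
    apply hDZ
    rw [h]
    exact bot_le
  have hzc : zc D ≤ scalSub ι := hab (zc D) inferInstance (fun a ha b hb => zc_comm ha hb)
  obtain ⟨Φ, hΦn, hΦD, hΦne, hΦcl, hΦexp⟩ := frattini_image D hDp hD1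
  have hΦZ : Φ ≤ scalSub ι := by
    by_contra h
    have hmem : Φ ∈ 𝒟 := ⟨hΦn, hΦD.trans hDS, h⟩
    exact hmin Φ hmem (lt_of_le_of_ne hΦD hΦne)
  have hΦzc : Φ ≤ zc D := by
    intro z hz
    rw [mem_zc]
    exact ⟨hΦD hz, fun d _ => (scalSub_central ι hι (hΦZ hz) d).symm⟩
  have hcl : ∀ a ∈ D, ∀ b ∈ D, ⁅a, b⁆ ∈ zc D := fun a ha b hb => hΦzc (hΦcl a ha b hb)
  have hexp : ∀ a ∈ D, a ^ s ∈ zc D := fun a ha => hΦzc (hΦexp a ha)
  have hZsc : ∀ z ∈ zc D, IsScal (ι z) := fun z hz => hzc hz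
  -- independence bound
  obtain ⟨hb1, hb2, hb3, hb4⟩ := bot_hyps ι D hZsc
  have hle := relIndex_le ι hι D ⊥ hb1 hb2 hb3 hb4 hcl hn0 hV
  -- the square lemma
  have hcyc : IsCyclic (zc D) := scalSub_isCyclic ι hι (zc D) hzc
  obtain ⟨k, hk⟩ : ∃ k : ℕ, (zc D).relIndex D = s ^ (2 * k) := by
    rw [relIndex_zc]
    apply card_quot_center_sq hDp
    · intro a b
      rw [← subgroupOf_zc, Subgroup.mem_subgroupOf]
      exact hcl a a.2 b b.2
    · intro a
      rw [← subgroupOf_zc, Subgroup.mem_subgroupOf]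
      exact hexp a a.2
    · rw [← subgroupOf_zc]
      exact (Subgroup.subgroupOfEquivOfLe (zc_le D)).isCyclic.2 hcyc
  have hk1 : 1 ≤ k := by
    by_contra hk0
    have hk0' : k = 0 := by omega
    rw [hk0', Nat.mul_zero, pow_zero, Subgroup.relIndex_eq_one] at hk
    apply hDZ
    exact hk.trans hzc
  rw [hk] at hle
  -- `s = 2`, `k = 1`
  have hs2 : s = 2 := by
    by_contra h
    have h3 : 3 ≤ s := by
      have := hsp.two_le
      omega
    have h4 : 3 ^ (2 * k) ≤ s ^ (2 * k) := Nat.pow_le_pow_left h3 _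
    have h5 : 3 ^ 2 ≤ 3 ^ (2 * k) := Nat.pow_le_pow_right (by norm_num) (by omega)
    omega
  have hk1' : k = 1 := by
    by_contra h
    have h2 : 2 ≤ k := by omega
    rw [hs2] at hle
    have h5 : 2 ^ 4 ≤ 2 ^ (2 * k) := Nat.pow_le_pow_right (by norm_num) (by omega)
    omega
  have hidx : (zc D).relIndex D = 2 ^ 2 := by
    rw [hk, hs2, hk1']
  have hexp2 : ∀ a ∈ D, a ^ 2 ∈ zc D := by
    intro a ha
    have := hexp a ha
    rwa [hs2] at this
  have hdvd := card_dvd_of_symplectic ι hι hV (n := 2) (m := 1) (by norm_num) D hZsc hcl hexp2 hidx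
  have hcard := card_dvd_of_trans ι htr hn0 hV
  have hq2 : q ≠ 2 := fun h => hsq (hs2.trans h.symm)
  have hfin : q ^ 2 ^ 1 - 1 ∣ (q - 1) * (2 ^ 1) ^ 2 * Nat.card (GL (Fin (2 * 1)) (ZMod 2)) := by
    have := hcard.trans hdvd
    simpa using this
  have := num_main hq.out hq2 (le_refl 1) (by norm_num) hfin
  rw [hV]
  simpa using this

end Cfsg.Agent.Helper5.Hup
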