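import Mathlib
import Cfsg.Agent.Helper5.HupDefs
import Cfsg.Agent.Helper9.HupAut

set_option autoImplicit false
set_option linter.unusedVariables false
set_option linter.style.haveILetI false
set_option linter.unusedSectionVars false

/-!
Helper5: S3360, PIECE K (part 1): general counting tools.
-/

namespace Cfsg.Agent.Helper5.Hup

universe u w

variable {q : ℕ} [hq : Fact q.Prime] {V : Type u} [AddCommGroup V] [Module (ZMod q) V] [Finite V]
variable {G : Type w} [Group G] [Finite G]

omit [Finite V] [Finite G] in
theorem apply_inv_apply (ι : G →* Module.End (ZMod q) V) (g : G) (v : V) : ι g (ι g⁻¹ v) = v := by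
  have : (ι g * ι g⁻¹) v = v := by rw [← map_mul, mul_inv_cancel, map_one]; rfl
  exact this

omit [Finite V] [Finite G] in
theorem inv_apply_apply (ι : G →* Module.End (ZMod q) V) (g : G) (v : V) : ι g⁻¹ (ι g v) = v := by
  have : (ι g⁻¹ * ι g) v = v := by rw [← map_mul, inv_mul_cancel, map_one]; rfl
  exact this

omit [Finite G] in
/-- a faithful linear group on `F_q^n` has order dividing `|GL_n(q)|` -/
theorem card_dvd_card_GL (ι : G →* Module.End (ZMod q) V) (hι : Function.Injective ι) {n : ℕ}
    (hV : Nat.card V = q ^ n) : Nat.card G ∣ Nat.card (GL (Fin n) (ZMod q)) := by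
  classical
  have hexp : ∀ x : Multiplicative V, x ^ q = 1 := by
    intro x
    change Multiplicative.ofAdd (q • Multiplicative.toAdd x) = 1
    have : q • Multiplicative.toAdd x = 0 := by
      rw [← Nat.cast_smul_eq_nsmul (ZMod q), ZMod.natCast_self, zero_smul]
    rw [this]
    rfl
  obtain ⟨f, hf⟩ := Cfsg.Agent.Helper9.Hup.exists_inj_GL_of_card (Multiplicative V) q n hV hexp
  let φ : G →* MulAut (Multiplicative V) :=
    { toFun := fun g =>
        { toFun := fun v => Multiplicative.ofAdd (ι g (Multiplicative.toAdd v))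
          invFun := fun v => Multiplicative.ofAdd (ι g⁻¹ (Multiplicative.toAdd v))
          left_inv := fun v => by
            show Multiplicative.ofAdd (ι g⁻¹ (ι g (Multiplicative.toAdd v))) = v
            rw [inv_apply_apply]
            rfl
          right_inv := fun v => by
            show Multiplicative.ofAdd (ι g (ι g⁻¹ (Multiplicative.toAdd v))) = v
            rw [apply_inv_apply]
            rfl
          map_mul' := fun a b => by
            show Multiplicative.ofAdd (ι g (Multiplicative.toAdd a + Multiplicative.toAdd b)) = _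
            rw [map_add]
            rfl }
      map_one' := by
        ext v
        show Multiplicative.ofAdd (ι 1 (Multiplicative.toAdd v)) = v
        rw [map_one]
        rfl
      map_mul' := fun a b => by
        ext v
        show Multiplicative.ofAdd (ι (a * b) (Multiplicative.toAdd v)) = _
        rw [map_mul]
        rfl }
  have hφ : Function.Injective φ := by
    intro a b h
    apply hι
    ext v
    have := congrArg (fun e : MulAut (Multiplicative V) => e (Multiplicative.ofAdd v)) h
    exact this
  exact Subgroup.card_dvd_of_injective (f.comp φ) (hf.comp hφ)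

omit [Finite G] in
/-- a `p`-subgroup acting on an invariant subspace: the number of vectors is congruent to the
number of fixed vectors -/
theorem card_modEq_card_fixed {p : ℕ} [Fact p.Prime] (ι : G →* Module.End (ZMod q) V)
    (Q : Subgroup G) (hQ : IsPGroup p Q) (W : Submodule (ZMod q) V)
    (hW : ∀ a ∈ Q, ∀ v ∈ W, ι a v ∈ W) :
    Nat.card W ≡ Nat.card {v : W // ∀ a ∈ Q, ι a (v : V) = v} [MOD p] := by
  classical
  letI : MulAction Q W :=
    { smul := fun a v => ⟨ι (a : G) (v : V), hW a a.2 v v.2⟩
      one_smul := fun v => by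
        apply Subtype.ext
        show ι ((1 : Q) : G) (v : V) = v
        rw [Subgroup.coe_one, map_one]
        rfl
      mul_smul := fun a b v => by
        apply Subtype.ext
        show ι ((a * b : Q) : G) (v : V) = ι (a : G) (ι (b : G) (v : V))
        rw [Subgroup.coe_mul, map_mul]
        rfl }
  have hsmul : ∀ (a : Q) (v : W), ((a • v : W) : V) = ι (a : G) (v : V) := fun a v => rfl
  have h1 := hQ.card_modEq_card_fixedPoints W
  have h2 : Nat.card (MulAction.fixedPoints Q W) =
      Nat.card {v : W // ∀ a ∈ Q, ι a (v : V) = v} := by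
    apply Nat.card_congr
    refine
      { toFun := fun v => ⟨v.1, fun a ha => ?_⟩
        invFun := fun v => ⟨v.1, fun a => ?_⟩
        left_inv := fun v => rfl
        right_inv := fun v => rfl }
    · have := v.2 ⟨a, ha⟩
      have h3 := congrArg Subtype.val this
      rw [hsmul] at h3
      exact h3
    · apply Subtype.ext
      rw [hsmul]
      exact v.2 a a.2
  rw [h2] at h1
  exact h1

omit [Finite G] in
/-- no nonzero fixed vector: the number of vectors is `1` mod `p` -/
theorem card_modEq_one_of_no_fixed {p : ℕ} [Fact p.Prime] (ι : G →* Module.End (ZMod q) V)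
    (Q : Subgroup G) (hQ : IsPGroup p Q) (W : Submodule (ZMod q) V)
    (hW : ∀ a ∈ Q, ∀ v ∈ W, ι a v ∈ W)
    (hfix : ∀ v ∈ W, (∀ a ∈ Q, ι a v = v) → v = 0) : Nat.card W ≡ 1 [MOD p] := by
  have h1 := card_modEq_card_fixed ι Q hQ W hW
  have h2 : Nat.card {v : W // ∀ a ∈ Q, ι a (v : V) = v} = 1 := by
    rw [Nat.card_eq_one_iff_unique]
    refine ⟨⟨fun a b => ?_⟩, ⟨⟨0, fun a _ => by simp⟩⟩⟩
    apply Subtype.ext
    apply Subtype.ext
    rw [hfix a.1.1 a.1.2 a.2, hfix b.1.1 b.1.2 b.2]
  rwa [h2] at h1

omit hq [Finite V] [Finite G] in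
/-- the join of two elementwise commuting abelian normal subgroups is abelian -/
theorem sup_comm {A B : Subgroup G} [B.Normal] (hA : ∀ a ∈ A, ∀ b ∈ A, a * b = b * a)
    (hB : ∀ a ∈ B, ∀ b ∈ B, a * b = b * a) (hAB : ∀ a ∈ A, ∀ b ∈ B, a * b = b * a) :
    ∀ x ∈ A ⊔ B, ∀ y ∈ A ⊔ B, x * y = y * x := by
  intro x hx y hy
  have hx' : x ∈ ((A ⊔ B : Subgroup G) : Set G) := hx
  have hy' : y ∈ ((A ⊔ B : Subgroup G) : Set G) := hy
  rw [Subgroup.mul_normal] at hx' hy'
  obtain ⟨a, ha, b, hb, rfl⟩ := Set.mem_mul.1 hx'
  obtain ⟨c, hc, d, hd, rfl⟩ := Set.mem_mul.1 hy'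
  calc a * b * (c * d) = a * (b * c) * d := by group
    _ = a * (c * b) * d := by rw [hAB c hc b hb]
    _ = (a * c) * (b * d) := by group
    _ = (c * a) * (d * b) := by rw [hA a ha c hc, hB b hb d hd]
    _ = c * (a * d) * b := by group
    _ = c * (d * a) * b := by rw [hAB a ha d hd]
    _ = c * d * (a * b) := by group

end Cfsg.Agent.Helper5.Hup
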