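import Mathlib
import Cfsg.Agent.Helper5.HupK1
import Cfsg.Agent.Helper2.HupBase

set_option autoImplicit false
set_option linter.unusedVariables false
set_option linter.style.haveILetI false
set_option linter.unusedSectionVars false

/-!
Helper5: S3360, PIECE K (part 2): a normal subgroup of order 49 is impossible for `|V| = 64`.
-/

namespace Cfsg.Agent.Helper5.Hup

open Cfsg.Agent.Helper2.Hup

universe u w

variable {V : Type u} [AddCommGroup V] [Module (ZMod 2) V] [Finite V]
variable {G : Type w} [Group G] [Finite G]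

/-- the fixed vectors of one element, as an additive subgroup -/
def fixSub (f : Module.End (ZMod 2) V) : AddSubgroup V where
  carrier := {v | f v = v}
  zero_mem' := map_zero f
  add_mem' := fun {a b} ha hb => by
    show f (a + b) = a + b
    rw [map_add, ha, hb]
  neg_mem' := fun {a} ha => by
    show f (-a) = -a
    rw [map_neg, ha]

omit [Finite G] in
theorem card_fixSub_le [Fact (Nat.Prime 2)] (ι : G →* Module.End (ZMod 2) V) (hι : Function.Injective ι)
    (hV : Nat.card V = 2 ^ 6) (t : G) (ht : t ^ 7 = 1) (ht1 : t ≠ 1) :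
    Nat.card (fixSub (ι t)) ≤ 8 := by
  classical
  haveI : Fact (Nat.Prime 7) := ⟨by norm_num⟩
  have hQ : IsPGroup 7 (Subgroup.zpowers t) := by
    intro g
    refine ⟨1, ?_⟩
    obtain ⟨j, hj⟩ := Subgroup.mem_zpowers_iff.1 g.2
    apply Subtype.ext
    rw [pow_one, Subgroup.coe_pow, ← hj, ← zpow_natCast, ← zpow_mul, mul_comm, zpow_mul,
      zpow_natCast, ht, one_zpow]
    rfl
  have h1 := card_modEq_card_fixed ι (Subgroup.zpowers t) hQ ⊤ (fun _ _ _ _ => Submodule.mem_top)
  have h2 : Nat.card {v : (⊤ : Submodule (ZMod 2) V) // ∀ a ∈ Subgroup.zpowers t, ι a (v : V) = v} =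
      Nat.card (fixSub (ι t)) := by
    apply Nat.card_congr
    refine
      { toFun := fun v => ⟨v.1.1, v.2 t (Subgroup.mem_zpowers t)⟩
        invFun := fun v => ⟨⟨v.1, Submodule.mem_top⟩, fun a ha => ?_⟩
        left_inv := fun v => rfl
        right_inv := fun v => rfl }
    obtain ⟨j, rfl⟩ := Subgroup.mem_zpowers_iff.1 ha
    have hv : ι t v.1 = v.1 := v.2
    -- the stabilizer is a subgroup
    have hstab : ∀ g : G, ι g v.1 = v.1 → ι g⁻¹ v.1 = v.1 := by
      intro g hg
      calc ι g⁻¹ v.1 = ι g⁻¹ (ι g v.1) := by rw [hg]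
        _ = v.1 := inv_apply_apply ι g v.1
    have hpow : ∀ m : ℕ, ι (t ^ m) v.1 = v.1 := by
      intro m
      induction m with
      | zero => rw [pow_zero, map_one]; rfl
      | succ m ih =>
        rw [pow_succ, map_mul]
        show ι (t ^ m) (ι t v.1) = v.1
        rw [hv, ih]
    rcases Int.eq_nat_or_neg j with ⟨m, rfl | rfl⟩
    · rw [zpow_natCast]
      exact hpow m
    · rw [zpow_neg, zpow_natCast]
      exact hstab _ (hpow m)
  rw [h2, Nat.card_congr (Submodule.topEquiv (R := ZMod 2) (M := V)).toEquiv, hV] at h1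
  -- the fixed subgroup is proper
  have hdvd : Nat.card (fixSub (ι t)) ∣ 2 ^ 6 := by
    rw [← hV]
    exact AddSubgroup.card_addSubgroup_dvd_card _
  have hne : Nat.card (fixSub (ι t)) ≠ 2 ^ 6 := by
    intro h
    apply ht1
    apply hι
    rw [map_one]
    have htop : fixSub (ι t) = ⊤ := by
      apply AddSubgroup.eq_top_of_card_eq
      rw [h, hV]
    ext v
    have : v ∈ fixSub (ι t) := by rw [htop]; exact AddSubgroup.mem_top v
    exact this
  set d := Nat.card (fixSub (ι t)) with hd
  have hd64 : d ≤ 64 := Nat.le_of_dvd (by norm_num) hdvd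
  have hmod : 64 % 7 = d % 7 := h1
  norm_num at hdvd hne hmod
  interval_cases d <;> omega

omit [Finite G] in
theorem card_fixSub_le' [Fact (Nat.Prime 2)] (ι : G →* Module.End (ZMod 2) V)
    (hι : Function.Injective ι) (hV : Nat.card V = 2 ^ 6) (t : G) (ht : t ^ 49 = 1) (ht1 : t ≠ 1) :
    Nat.card (fixSub (ι t)) ≤ 8 := by
  by_cases h7 : t ^ 7 = 1
  · exact card_fixSub_le ι hι hV t h7 ht1
  · have hu : (t ^ 7) ^ 7 = 1 := by rw [← pow_mul]; exact ht
    have h1 := card_fixSub_le ι hι hV (t ^ 7) hu h7
    have hle : fixSub (ι t) ≤ fixSub (ι (t ^ 7)) := by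
      intro v hv
      have hv' : ι t v = v := hv
      show ι (t ^ 7) v = v
      rw [map_pow]
      have hpow : ∀ m : ℕ, ((ι t) ^ m) v = v := by
        intro m
        induction m with
        | zero => rfl
        | succ m ih =>
          rw [pow_succ]
          show ((ι t) ^ m) (ι t v) = v
          rw [hv', ih]
      exact hpow 7
    exact (Nat.card_le_card_of_injective _ (AddSubgroup.inclusion_injective hle)).trans h1

/-- PIECE K (the order-49 case) -/
theorem not_card_eq_49 [Fact (Nat.Prime 2)] (ι : G →* Module.End (ZMod 2) V)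
    (hι : Function.Injective ι) (htr : Trans ι) (hV : Nat.card V = 2 ^ 6) (T : Subgroup G)
    [T.Normal] (hT : Nat.card T = 49) : False := by
  classical
  haveI : Fintype V := Fintype.ofFinite V
  haveI : Fintype T := Fintype.ofFinite T
  letI : MulAction T V := MulAction.compHom V (ι.comp T.subtype)
  have hsmul : ∀ (t : T) (v : V), t • v = ι (t : G) v := fun t v => rfl
  haveI : Nontrivial V := by
    apply Finite.one_lt_card_iff_nontrivial.1
    rw [hV]
    norm_num
  obtain ⟨v₀, hv₀⟩ := exists_ne (0 : V)
  set k := Nat.card {a : T // ι (a : G) v₀ = v₀} with hk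
  have hkv : ∀ v : V, v ≠ 0 → Nat.card (MulAction.stabilizer T v) = k := by
    intro v hv
    rw [hk, card_stab_eq ι htr T v₀ v hv₀ hv]
    rfl
  have hk1 : 1 ≤ k := by
    rw [hk]
    haveI : Nonempty {a : T // ι (a : G) v₀ = v₀} := ⟨⟨1, by rw [Subgroup.coe_one, map_one]; rfl⟩⟩
    exact Nat.card_pos
  -- Burnside
  have hB := MulAction.sum_card_fixedBy_eq_card_orbits_mul_card_group T V
  -- double counting
  have hdc : (∑ t : T, Fintype.card (MulAction.fixedBy V t)) =
      ∑ v : V, Fintype.card (MulAction.stabilizer T v) := by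
    rw [← Fintype.card_sigma, ← Fintype.card_sigma]
    apply Fintype.card_congr
    exact
      { toFun := fun x => ⟨x.2.1, ⟨x.1, x.2.2⟩⟩
        invFun := fun x => ⟨x.2.1, ⟨x.1, x.2.2⟩⟩
        left_inv := fun x => rfl
        right_inv := fun x => rfl }
  -- the right-hand side
  have hrhs : (∑ v : V, Fintype.card (MulAction.stabilizer T v)) = 49 + 63 * k := by
    rw [← Finset.add_sum_erase Finset.univ _ (Finset.mem_univ (0 : V))]
    congr 1
    · rw [← Nat.card_eq_fintype_card, ← hT]
      apply Nat.card_congr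
      refine (Equiv.subtypeUnivEquiv ?_)
      intro t
      rw [MulAction.mem_stabilizer_iff, hsmul, map_zero]
    · have hall : ∀ v ∈ Finset.univ.erase (0 : V), Fintype.card (MulAction.stabilizer T v) = k := by
        intro v hv
        rw [← Nat.card_eq_fintype_card]
        exact hkv v (Finset.ne_of_mem_erase hv)
      rw [Finset.sum_congr rfl hall, Finset.sum_const, Finset.card_erase_of_mem (Finset.mem_univ _),
        Finset.card_univ, ← Nat.card_eq_fintype_card, hV]
      simp
  -- the left-hand side
  have hlhs : (∑ t : T, Fintype.card (MulAction.fixedBy V t)) ≤ 64 + 48 * 8 := by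
    rw [← Finset.add_sum_erase Finset.univ _ (Finset.mem_univ (1 : T))]
    apply Nat.add_le_add
    · rw [← Nat.card_eq_fintype_card]
      calc Nat.card (MulAction.fixedBy V (1 : T)) ≤ Nat.card V := Nat.card_le_card_of_injective _
            Subtype.val_injective
        _ = 64 := by rw [hV]; norm_num
    · have h48 : (Finset.univ.erase (1 : T)).card = 48 := by
        rw [Finset.card_erase_of_mem (Finset.mem_univ _), Finset.card_univ,
          ← Nat.card_eq_fintype_card, hT]
      calc ∑ t ∈ Finset.univ.erase (1 : T), Fintype.card (MulAction.fixedBy V t)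
          ≤ ∑ _t ∈ Finset.univ.erase (1 : T), 8 := by
            apply Finset.sum_le_sum
            intro t ht
            have ht1 : (t : G) ≠ 1 := by
              intro h
              exact Finset.ne_of_mem_erase ht (Subtype.ext h)
            have ht49 : (t : G) ^ 49 = 1 := by
              have h1 : t ^ Nat.card T = 1 := pow_card_eq_one'
              rw [← Subgroup.coe_pow, ← hT, h1]
              rfl
            have := card_fixSub_le' ι hι hV (t : G) ht49 ht1
            rw [← Nat.card_eq_fintype_card]
            exact this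
        _ = 48 * 8 := by rw [Finset.sum_const, h48, smul_eq_mul]
  rw [hdc, hrhs] at hlhs
  rw [hdc, hrhs, ← Nat.card_eq_fintype_card (α := T), hT] at hB
  have hk6 : k ≤ 6 := by omega
  have h49 : 49 ∣ 49 + 63 * k := ⟨_, by rw [hB, mul_comm]⟩
  omega

end Cfsg.Agent.Helper5.Hup
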