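import Mathlib
import Cfsg.Agent.Helper5.HupK2
import Cfsg.Agent.Helper5.HupNum
import Cfsg.Agent.Helper1.Fitting2
import Cfsg.Agent.Helper1.Cores

set_option autoImplicit false
set_option linter.unusedVariables false
set_option linter.style.haveILetI false
set_option linter.unusedSectionVars false

/-!
Helper5: S3360, PIECE K: the case `(q, n) = (2, 6)`.
-/

namespace Cfsg.Agent.Helper5.Hup

open Cfsg.Agent.Helper2.Hup

universe u w

theorem card_GL_six : Nat.card (GL (Fin 6) (ZMod 2)) = 20158709760 := by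
  rw [card_GL_two]
  simp [Fin.prod_univ_six]

section

variable {V : Type u} [AddCommGroup V] [Module (ZMod 2) V] [Finite V]
variable {G : Type w} [Group G] [Finite G]

/-- the centre of a nontrivial normal `p`-subgroup is a nontrivial normal abelian subgroup -/
theorem zc_ne_bot {p : ℕ} [Fact p.Prime] (N : Subgroup G) (hN : IsPGroup p N) (hN1 : N ≠ ⊥) :
    zc N ≠ ⊥ := by
  haveI : Nontrivial N := (Subgroup.nontrivial_iff_ne_bot N).2 hN1
  haveI : Nontrivial (Subgroup.center N) := hN.center_nontrivial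
  obtain ⟨y, hy⟩ := exists_ne (1 : Subgroup.center N)
  intro h
  apply hy
  have hyz : ((y : N) : G) ∈ zc N := by
    have : (y : N) ∈ (zc N).subgroupOf N := by rw [subgroupOf_zc]; exact y.2
    exact this
  rw [h, Subgroup.mem_bot] at hyz
  apply Subtype.ext
  apply Subtype.ext
  exact hyz

theorem case_two_six_aux [Fact (Nat.Prime 2)] (ι : G →* Module.End (ZMod 2) V)
    (hι : Function.Injective ι) (htr : Trans ι) (hsol : Group.IsSolvable G)
    (hV : Nat.card V = 2 ^ 6) :
    ∃ A : Subgroup G, A.Normal ∧ (∀ a ∈ A, ∀ b ∈ A, a * b = b * a) ∧ IrrOn ι A := by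
  classical
  haveI := hsol
  haveI h3 : Fact (Nat.Prime 3) := ⟨by norm_num⟩
  haveI h7 : Fact (Nat.Prime 7) := ⟨by norm_num⟩
  have hcardG : 63 ∣ Nat.card G := by
    have := card_dvd_of_trans ι htr (by norm_num) hV
    norm_num at this
    exact this
  have hGL : Nat.card G ∣ 20158709760 := by
    have := card_dvd_card_GL ι hι hV
    rwa [card_GL_six] at this
  have hcore : ∀ s : ℕ, ∀ _ : Fact s.Prime, ¬ s ∣ 63 → Cfsg.pCore s G = ⊥ := by
    intro s _ hs
    apply eq_bot_of_isPGroup ι hι htr hV (Cfsg.pCore s G) (Cfsg.Agent.Helper1.pCore_isPGroup s)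
    norm_num
    exact hs
  have hPp : IsPGroup 3 (Cfsg.pCore 3 G) := Cfsg.Agent.Helper1.pCore_isPGroup 3
  have hTp : IsPGroup 7 (Cfsg.pCore 7 G) := Cfsg.Agent.Helper1.pCore_isPGroup 7
  have hF : Cfsg.fittingSubgroup G ≤ Cfsg.pCore 3 G ⊔ Cfsg.pCore 7 G := by
    rw [Cfsg.Agent.Helper1.fittingSubgroup_eq_fitJoin]
    unfold Cfsg.Agent.Helper1.fitJoin
    apply iSup_le
    intro p
    by_cases hp3 : (p : ℕ) = 3
    · rw [hp3]
      exact le_sup_left
    by_cases hp7 : (p : ℕ) = 7
    · rw [hp7]
      exact le_sup_right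
    have hp63 : ¬ (p : ℕ) ∣ 63 := by
      intro h
      have h63 : (63 : ℕ) = 3 * (3 * 7) := by norm_num
      rw [h63] at h
      rcases (Nat.Prime.dvd_mul p.2).1 h with h | h
      · exact hp3 ((Nat.prime_dvd_prime_iff_eq p.2 (by norm_num)).1 h)
      rcases (Nat.Prime.dvd_mul p.2).1 h with h | h
      · exact hp3 ((Nat.prime_dvd_prime_iff_eq p.2 (by norm_num)).1 h)
      · exact hp7 ((Nat.prime_dvd_prime_iff_eq p.2 (by norm_num)).1 h)
    rw [hcore p ⟨p.2⟩ hp63]
    exact bot_le
  have hCF := Cfsg.Agent.Helper1.centralizer_fittingSubgroup_le (G := G)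
  -- `O_7(G) ≠ 1`
  have hT1 : Cfsg.pCore 7 G ≠ ⊥ := by
    intro hT
    rw [hT, sup_bot_eq] at hF
    obtain ⟨x, hx⟩ := exists_prime_orderOf_dvd_card' 7 (Dvd.dvd.trans (by norm_num) hcardG)
    obtain ⟨a, ha⟩ := IsPGroup.iff_card.1 hPp
    have ha4 : a ≤ 4 := by
      by_contra h
      have h5 : 3 ^ 5 ∣ 3 ^ a := pow_dvd_pow 3 (by omega)
      have h6 : 3 ^ a ∣ 20158709760 := by
        rw [← ha]
        exact (Subgroup.card_subgroup_dvd_card _).trans hGL
      have := h5.trans h6
      norm_num at this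
    have hQ : IsPGroup 7 (Subgroup.zpowers x) := by
      apply IsPGroup.of_card (n := 1)
      rw [Nat.card_zpowers, hx, pow_one]
    have hmod := card_modEq_of_normalizes (Cfsg.pCore 3 G) (Subgroup.zpowers x) hQ
      (fun y _ l hl => (inferInstance : (Cfsg.pCore 3 G).Normal).conj_mem l hl y)
    obtain ⟨b, hb⟩ := IsPGroup.iff_card.1
      (hPp.to_le (inf_le_left : Cfsg.pCore 3 G ⊓ Subgroup.centralizer (Subgroup.zpowers x : Set G)
        ≤ Cfsg.pCore 3 G))
    have hba : b ≤ a := by
      have h1 : 3 ^ b ∣ 3 ^ a := by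
        rw [← ha, ← hb]
        exact Subgroup.card_dvd_of_le inf_le_left
      exact (Nat.pow_dvd_pow_iff_le_right (by norm_num)).1 h1
    rw [ha, hb] at hmod
    have hab : a = b := by
      have hmod' : 3 ^ a % 7 = 3 ^ b % 7 := hmod
      interval_cases a <;> interval_cases b <;> first | rfl | (norm_num at hmod')
    have hle : Cfsg.pCore 3 G ≤ Subgroup.centralizer (Subgroup.zpowers x : Set G) := by
      have : Cfsg.pCore 3 G ⊓ Subgroup.centralizer (Subgroup.zpowers x : Set G) = Cfsg.pCore 3 G := by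
        apply Subgroup.eq_of_le_of_card_ge inf_le_left
        rw [ha, hb, hab]
      rw [← this]
      exact inf_le_right
    have hxC : x ∈ Subgroup.centralizer (Cfsg.fittingSubgroup G : Set G) := by
      rw [Subgroup.mem_centralizer_iff]
      intro f hf
      have := hle (hF hf)
      rw [Subgroup.mem_centralizer_iff] at this
      exact (this x (Subgroup.mem_zpowers x)).symm
    have hxP : x ∈ Cfsg.pCore 3 G := hF (hCF hxC)
    obtain ⟨k, hk⟩ := hPp ⟨x, hxP⟩
    have hk' : x ^ 3 ^ k = 1 := congrArg Subtype.val hk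
    have h7 : 7 ∣ 3 ^ k := by
      rw [← hx]
      exact orderOf_dvd_of_pow_eq_one hk'
    have := Nat.Prime.dvd_of_dvd_pow (by norm_num : Nat.Prime 7) h7
    norm_num at this
  -- `O_3(G) ≠ 1`
  have hP1 : Cfsg.pCore 3 G ≠ ⊥ := by
    intro hP
    rw [hP, bot_sup_eq] at hF
    have hCT : Subgroup.centralizer (Cfsg.pCore 7 G : Set G) ≤ Cfsg.pCore 7 G :=
      ((Subgroup.centralizer_le hF).trans hCF).trans hF
    obtain ⟨a, ha⟩ := IsPGroup.iff_card.1 hTp
    have ha2 : a ≤ 2 := by
      by_contra h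
      have h5 : 7 ^ 3 ∣ 7 ^ a := pow_dvd_pow 7 (by omega)
      have h6 : 7 ^ a ∣ 20158709760 := by
        rw [← ha]
        exact (Subgroup.card_subgroup_dvd_card _).trans hGL
      have := h5.trans h6
      norm_num at this
    have ha0 : a ≠ 0 := by
      rintro rfl
      rw [pow_zero] at ha
      exact hT1 ((Subgroup.card_eq_one).1 ha)
    rcases (by omega : a = 1 ∨ a = 2) with rfl | rfl
    · -- order 7
      rw [pow_one] at ha
      haveI : IsCyclic (Cfsg.pCore 7 G) := isCyclic_of_prime_card ha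
      let φ : G →* MulAut (Cfsg.pCore 7 G) := MulAut.conjNormal
      have hker : φ.ker ≤ Cfsg.pCore 7 G := by
        intro g hg
        apply hCT
        rw [Subgroup.mem_centralizer_iff]
        intro t ht
        have h1 : φ g ⟨t, ht⟩ = ⟨t, ht⟩ := by
          rw [MonoidHom.mem_ker.1 hg]
          rfl
        have h2 := congrArg Subtype.val h1
        rw [MulAut.conjNormal_apply] at h2
        simp only at h2
        calc t * g = (g * t * g⁻¹) * g := by rw [h2]
          _ = g * t := by group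
      have h1 : Nat.card φ.ker ∣ 7 := by
        have := Subgroup.card_dvd_of_le hker
        rwa [ha] at this
      have h2 : Nat.card φ.range ∣ 6 := by
        have := Subgroup.card_subgroup_dvd_card φ.range
        rwa [IsCyclic.card_mulAut, ha, Nat.totient_prime (by norm_num)] at this
      have h3 : Nat.card G = Nat.card φ.ker * Nat.card φ.range := by
        rw [← Subgroup.index_ker, Subgroup.card_mul_index]
      have h4 : Nat.card G ∣ 7 * 6 := by
        rw [h3]
        exact Nat.mul_dvd_mul h1 h2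
      have := hcardG.trans h4
      norm_num at this
    · -- order 49
      exact not_card_eq_49 ι hι htr hV (Cfsg.pCore 7 G) (by rw [ha]; norm_num)
  -- the normal abelian irreducible subgroup
  have hcomm37 : ∀ a ∈ Cfsg.pCore 3 G, ∀ b ∈ Cfsg.pCore 7 G, a * b = b * a := by
    intro a ha b hb
    have hdisj : Disjoint (Cfsg.pCore 3 G) (Cfsg.pCore 7 G) :=
      IsPGroup.disjoint_of_ne 3 7 (by norm_num) _ _ hPp hTp
    have h1 : a * b * a⁻¹ * b⁻¹ ∈ Cfsg.pCore 3 G := by
      have := (inferInstance : (Cfsg.pCore 3 G).Normal).conj_mem a⁻¹ (inv_mem ha) b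
      have h2 := mul_mem ha this
      simpa [mul_assoc] using h2
    have h2 : a * b * a⁻¹ * b⁻¹ ∈ Cfsg.pCore 7 G := by
      have := (inferInstance : (Cfsg.pCore 7 G).Normal).conj_mem b hb a
      exact mul_mem this (inv_mem hb)
    have h3 : a * b * a⁻¹ * b⁻¹ = 1 := by
      have := Subgroup.disjoint_def.1 hdisj h1 h2
      exact this
    calc a * b = (a * b * a⁻¹ * b⁻¹) * (b * a) := by group
      _ = b * a := by rw [h3, one_mul]
  haveI : (zc (Cfsg.pCore 7 G)).Normal := zc_normal _
  haveI : (zc (Cfsg.pCore 3 G)).Normal := zc_normal _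
  refine ⟨zc (Cfsg.pCore 3 G) ⊔ zc (Cfsg.pCore 7 G), inferInstance, ?_, ?_⟩
  · apply sup_comm
    · intro a ha b hb
      exact zc_comm ha hb
    · intro a ha b hb
      exact zc_comm ha hb
    · intro a ha b hb
      exact hcomm37 a (zc_le _ ha) b (zc_le _ hb)
  · intro W hW
    have h7' := card_modEq_one_of_no_fixed ι (zc (Cfsg.pCore 7 G)) (hTp.to_le (zc_le _)) W
      (fun a ha v hv => hW a (le_sup_right (a := zc (Cfsg.pCore 3 G)) ha) v hv)
      (fun v _ hfix => fixed_eq_zero_of_normal ι hι htr (zc (Cfsg.pCore 7 G))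
        (zc_ne_bot _ hTp hT1) v hfix)
    have h3' := card_modEq_one_of_no_fixed ι (zc (Cfsg.pCore 3 G)) (hPp.to_le (zc_le _)) W
      (fun a ha v hv => hW a (le_sup_left (b := zc (Cfsg.pCore 7 G)) ha) v hv)
      (fun v _ hfix => fixed_eq_zero_of_normal ι hι htr (zc (Cfsg.pCore 3 G))
        (zc_ne_bot _ hPp hP1) v hfix)
    have hdvd : Nat.card W ∣ 2 ^ 6 := by
      rw [← hV]
      exact AddSubgroup.card_addSubgroup_dvd_card W.toAddSubgroup
    set d := Nat.card W with hd
    have hd64 : d ≤ 64 := Nat.le_of_dvd (by norm_num) hdvd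
    have hm7 : d % 7 = 1 % 7 := h7'
    have hm3 : d % 3 = 1 % 3 := h3'
    have hcases : d = 1 ∨ d = 64 := by
      norm_num at hdvd hm7 hm3
      interval_cases d <;> omega
    rcases hcases with h | h
    · left
      rw [hd] at h
      have : Subsingleton W := (Nat.card_eq_one_iff_unique.1 h).1
      exact Submodule.subsingleton_iff_eq_bot.1 this
    · right
      have htop : W.toAddSubgroup = ⊤ := by
        apply AddSubgroup.eq_top_of_card_eq
        show Nat.card W = Nat.card V
        rw [← hd, h, hV]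
        norm_num
      rw [eq_top_iff]
      intro v _
      have : v ∈ W.toAddSubgroup := by rw [htop]; exact AddSubgroup.mem_top v
      exact this

end

/-- PIECE K -/
theorem case_two_six {q : ℕ} [hq : Fact q.Prime] {V : Type u} [AddCommGroup V] [Module (ZMod q) V]
    [Finite V] {G : Type w} [Group G] [Finite G]
    (ι : G →* Module.End (ZMod q) V) (hι : Function.Injective ι) (htr : Trans ι)
    (hsol : Group.IsSolvable G) (hq2 : q = 2) (hV : Nat.card V = q ^ 6) :
    ∃ A : Subgroup G, A.Normal ∧ (∀ a ∈ A, ∀ b ∈ A, a * b = b * a) ∧ IrrOn ι A := by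
  subst hq2
  exact case_two_six_aux ι hι htr hsol hV

end Cfsg.Agent.Helper5.Hup
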