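import Mathlib
import Cfsg.Agent.Helper5.HupDefs
import Cfsg.Agent.Helper1.ZNFe

set_option autoImplicit false
set_option linter.unusedVariables false
set_option linter.style.haveILetI false
set_option linter.unusedSectionVars false

/-!
Helper5: S3360, PIECE B: the centralizer of an irreducible endomorphism is a commutative domain.
-/

namespace Cfsg.Agent.Helper5.Hup

universe u w

variable {q : ℕ} [hq : Fact q.Prime] {V : Type u} [AddCommGroup V] [Module (ZMod q) V] [Finite V]
variable {G : Type w} [Group G] [Finite G]

omit [Finite G] in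
theorem cent_comm (f : Module.End (ZMod q) V)
    (hirr : ∀ W : Submodule (ZMod q) V, (∀ v ∈ W, f v ∈ W) → W = ⊥ ∨ W = ⊤)
    (a b : Module.End (ZMod q) V) (ha : a * f = f * a) (hb : b * f = f * b) : a * b = b * a := by
  apply Cfsg.Agent.Helper1.ZNF.comm_centralizer_of_irreducible ({f} : Set (Module.End (ZMod q) V))
  · intro W hW
    apply hirr W
    intro v hv
    exact hW f rfl v hv
  · intro s hs
    rw [Set.mem_singleton_iff] at hs
    rw [hs, ha]
  · intro s hs
    rw [Set.mem_singleton_iff] at hs
    rw [hs, hb]

omit [Finite G] [Finite V] in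
theorem cent_inj (f : Module.End (ZMod q) V)
    (hirr : ∀ W : Submodule (ZMod q) V, (∀ v ∈ W, f v ∈ W) → W = ⊥ ∨ W = ⊤)
    (a : Module.End (ZMod q) V) (ha : a * f = f * a) (ha0 : a ≠ 0) : Function.Injective a := by
  have hker : ∀ v ∈ LinearMap.ker a, f v ∈ LinearMap.ker a := by
    intro v hv
    rw [LinearMap.mem_ker] at hv ⊢
    have h1 : (a * f) v = (f * a) v := by rw [ha]
    rw [Module.End.mul_apply, Module.End.mul_apply, hv, map_zero] at h1
    exact h1
  rcases hirr _ hker with h | h
  · exact LinearMap.ker_eq_bot.1 h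
  · exfalso
    apply ha0
    exact LinearMap.ker_eq_top.1 h

omit [Finite G] in
theorem isCyclic_of_commutes (ι : G →* Module.End (ZMod q) V) (hι : Function.Injective ι)
    (f : Module.End (ZMod q) V)
    (hirr : ∀ W : Submodule (ZMod q) V, (∀ v ∈ W, f v ∈ W) → W = ⊥ ∨ W = ⊤)
    (Z : Subgroup G) (hZ : ∀ z ∈ Z, ι z * f = f * ι z) : IsCyclic Z := by
  classical
  by_cases hV : Nontrivial V
  swap
  · -- trivial module: `End V` is trivial, so `G` is trivial
    rw [not_nontrivial_iff_subsingleton] at hV
    haveI : Subsingleton (Module.End (ZMod q) V) := ⟨fun a b => by ext v; exact Subsingleton.elim _ _⟩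
    haveI : Subsingleton G := ⟨fun a b => hι (Subsingleton.elim _ _)⟩
    infer_instance
  haveI : Finite (Module.End (ZMod q) V) :=
    Finite.of_injective (fun f : Module.End (ZMod q) V => (f : V → V)) DFunLike.coe_injective
  haveI : Finite G := Finite.of_injective ι hι
  set K : Subalgebra (ZMod q) (Module.End (ZMod q) V) :=
    Subalgebra.centralizer (ZMod q) ({f} : Set (Module.End (ZMod q) V)) with hK
  have hmemK : ∀ a : Module.End (ZMod q) V, a ∈ K ↔ a * f = f * a := by
    intro a
    rw [hK, Subalgebra.mem_centralizer_iff]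
    constructor
    · intro h
      exact (h f rfl).symm
    · intro h g hg
      rw [Set.mem_singleton_iff] at hg
      rw [hg, h]
  letI iC : CommRing K :=
    { (inferInstance : Ring K) with
      mul_comm := fun a b => Subtype.ext
        (cent_comm f hirr a.1 b.1 ((hmemK _).1 a.2) ((hmemK _).1 b.2)) }
  haveI : Nontrivial K := by
    refine ⟨⟨0, 1, ?_⟩⟩
    intro h
    have h1 : (0 : Module.End (ZMod q) V) = 1 := congrArg Subtype.val h
    obtain ⟨v, hv⟩ := exists_ne (0 : V)
    have h2 : (0 : Module.End (ZMod q) V) v = (1 : Module.End (ZMod q) V) v := by rw [h1]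
    simp at h2
    exact hv h2.symm
  haveI : NoZeroDivisors K := by
    refine ⟨fun {a b} hab => ?_⟩
    by_cases ha0 : a = 0
    · exact Or.inl ha0
    · right
      have ha0' : (a : Module.End (ZMod q) V) ≠ 0 := fun h => ha0 (Subtype.ext h)
      have hinj := cent_inj f hirr a.1 ((hmemK _).1 a.2) ha0'
      apply Subtype.ext
      ext v
      apply hinj
      have h1 : (a : Module.End (ZMod q) V) * (b : Module.End (ZMod q) V) = 0 :=
        congrArg Subtype.val hab
      have := LinearMap.congr_fun h1 v
      simpa using this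
  haveI : IsDomain K := NoZeroDivisors.to_isDomain K
  let φ : Z →* K :=
    { toFun := fun z => ⟨ι z, (hmemK _).2 (hZ z z.2)⟩
      map_one' := by
        apply Subtype.ext
        simp
      map_mul' := fun a b => by
        apply Subtype.ext
        simp }
  have hφ : Function.Injective φ := by
    intro a b h
    have h1 : ι a = ι b := congrArg Subtype.val h
    exact Subtype.ext (hι h1)
  exact isCyclic_of_injective_ringHom φ hφ

end Cfsg.Agent.Helper5.Hup
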