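import Mathlib

/-!
Helper lemmas (helper5): cyclotomic values, towards Zsigmondy's theorem.
-/

set_option autoImplicit false

namespace Cfsg.Agent.Helper5.Zsig

open Polynomial

/-- The value `Φ_n(a)` as a natural number. -/
noncomputable def phi (n a : ℕ) : ℕ := ((cyclotomic n ℤ).eval (a : ℤ)).natAbs

theorem phi_cast (n a : ℕ) (ha : 1 < a) : ((phi n a : ℕ) : ℤ) = (cyclotomic n ℤ).eval (a : ℤ) := by
  unfold phi
  have h : 0 < (cyclotomic n ℤ).eval (a : ℤ) := cyclotomic_pos' n (by exact_mod_cast ha)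
  rw [Int.natCast_natAbs, abs_of_pos h]

theorem phi_cast_real (n a : ℕ) (ha : 1 < a) : ((phi n a : ℕ) : ℝ) = (cyclotomic n ℝ).eval (a : ℝ) := by
  have h1 := phi_cast n a ha
  have h2 := cyclotomic.eval_apply (a : ℤ) n (Int.castRingHom ℝ)
  simp only [eq_intCast, Int.cast_natCast] at h2
  rw [h2, ← h1, Int.cast_natCast]

theorem phi_pos (n a : ℕ) (ha : 1 < a) : 0 < phi n a := by
  have h : 0 < (cyclotomic n ℤ).eval (a : ℤ) := cyclotomic_pos' n (by exact_mod_cast ha)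
  rw [← phi_cast n a ha] at h
  exact_mod_cast h

theorem phi_lower (n a : ℕ) (ha : 1 < a) : (a - 1) ^ n.totient ≤ phi n a := by
  have h := sub_one_pow_totient_le_cyclotomic_eval (q := (a : ℝ)) (by exact_mod_cast ha) n
  rw [← phi_cast_real n a ha] at h
  have h2 : ((a - 1 : ℕ) : ℝ) = (a : ℝ) - 1 := by
    rw [Nat.cast_sub ha.le, Nat.cast_one]
  rw [← h2] at h
  exact_mod_cast h

theorem phi_upper (n a : ℕ) (ha : 1 < a) : phi n a ≤ (a + 1) ^ n.totient := by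
  have h := cyclotomic_eval_le_add_one_pow_totient (q := (a : ℝ)) (by exact_mod_cast ha) n
  rw [← phi_cast_real n a ha] at h
  exact_mod_cast h

theorem phi_lower_strict (n a : ℕ) (hn : 1 < n) (ha : 1 < a) : (a - 1) ^ n.totient < phi n a :=
  sub_one_pow_totient_lt_natAbs_cyclotomic_eval hn ha.ne'

theorem one_lt_phi (n a : ℕ) (hn : 1 < n) (ha : 1 < a) : 1 < phi n a := by
  have h := sub_one_lt_natAbs_cyclotomic_eval (n := n) (q := a) hn ha.ne'
  unfold phi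
  omega

/-- `Φ_n(a) ∣ a^n - 1`. -/
theorem phi_dvd (n a : ℕ) (ha : 1 < a) : phi n a ∣ a ^ n - 1 := by
  have h1 : (cyclotomic n ℤ) ∣ X ^ n - 1 := cyclotomic.dvd_X_pow_sub_one n ℤ
  have h2 := eval_dvd (x := (a : ℤ)) h1
  simp only [eval_sub, eval_pow, eval_X, eval_one] at h2
  rw [← phi_cast n a ha] at h2
  have h3 : ((a ^ n - 1 : ℕ) : ℤ) = (a : ℤ) ^ n - 1 := by
    rw [Nat.cast_sub (Nat.one_le_pow _ _ (by omega)), Nat.cast_pow, Nat.cast_one]
  rw [← h3] at h2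
  exact_mod_cast h2

/-- For a prime `q ∣ n`, `Φ_n(a)` divides `1 + c + ⋯ + c^(q-1)` with `c = a^(n/q)`. -/
theorem phi_dvd_geom_sum (n a q : ℕ) (hn : 0 < n) (ha : 1 < a) (hq : q.Prime) (hqn : q ∣ n) :
    phi n a ∣ ∑ i ∈ Finset.range q, (a ^ (n / q)) ^ i := by
  have hmem : n / q ∈ n.properDivisors := by
    rw [Nat.mem_properDivisors]
    exact ⟨Nat.div_dvd_of_dvd hqn, Nat.div_lt_self hn hq.one_lt⟩
  have h1 := X_pow_sub_one_mul_cyclotomic_dvd_X_pow_sub_one_of_dvd ℤ hmem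
  have h2 := eval_dvd (x := (a : ℤ)) h1
  simp only [eval_mul, eval_sub, eval_pow, eval_X, eval_one] at h2
  have h3 : (a : ℤ) ^ n - 1 = ((a : ℤ) ^ (n / q) - 1) * ∑ i ∈ Finset.range q, ((a : ℤ) ^ (n / q)) ^ i := by
    rw [mul_comm, geom_sum_mul, ← pow_mul, Nat.div_mul_cancel hqn]
  rw [h3] at h2
  have hne : (a : ℤ) ^ (n / q) - 1 ≠ 0 := by
    have h4 : (1 : ℤ) < (a : ℤ) ^ (n / q) := by
      apply one_lt_pow₀ (by exact_mod_cast ha)
      exact (Nat.div_pos (Nat.le_of_dvd hn hqn) hq.pos).ne'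
    omega
  have h5 := (mul_dvd_mul_iff_left hne).mp h2
  rw [← phi_cast n a ha] at h5
  have h6 : ((∑ i ∈ Finset.range q, (a ^ (n / q)) ^ i : ℕ) : ℤ) =
      ∑ i ∈ Finset.range q, ((a : ℤ) ^ (n / q)) ^ i := by
    push_cast; rfl
  rw [← h6] at h5
  exact_mod_cast h5

end Cfsg.Agent.Helper5.Zsig
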