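import Mathlib
import Cfsg.Agent.Helper5.Zsig1

/-!
Helper lemmas (helper5): prime factors of cyclotomic values, towards Zsigmondy's theorem.
-/

set_option autoImplicit false

namespace Cfsg.Agent.Helper5.Zsig

open Polynomial

theorem dvd_pow_sub_one_iff (r a k : ℕ) [Fact r.Prime] (ha : 0 < a) :
    r ∣ a ^ k - 1 ↔ orderOf (a : ZMod r) ∣ k := by
  rw [orderOf_dvd_iff_pow_eq_one, ← ZMod.natCast_eq_zero_iff, Nat.cast_sub (Nat.one_le_pow _ _ ha),
    Nat.cast_pow, Nat.cast_one, sub_eq_zero]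

/-- Claim A: if `r ∣ Φ_n(a)`, `q ∣ n` prime and the order of `a` mod `r` divides `n / q`, then `q = r`. -/
theorem eq_of_order_dvd (n a r q : ℕ) [hr : Fact r.Prime] (hn : 0 < n) (ha : 1 < a) (hrd : r ∣ phi n a)
    (hq : q.Prime) (hqn : q ∣ n) (hd : orderOf (a : ZMod r) ∣ n / q) : q = r := by
  have h1 : r ∣ a ^ (n / q) - 1 := (dvd_pow_sub_one_iff r a (n / q) (by omega)).mpr hd
  have h2 : r ∣ ∑ i ∈ Finset.range q, (a ^ (n / q)) ^ i := hrd.trans (phi_dvd_geom_sum n a q hn ha hq hqn)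
  have hc : ((a ^ (n / q) : ℕ) : ZMod r) = 1 := by
    rw [← ZMod.natCast_eq_zero_iff, Nat.cast_sub (Nat.one_le_pow _ _ (by omega)), Nat.cast_one,
      sub_eq_zero] at h1
    exact h1
  rw [← ZMod.natCast_eq_zero_iff, Nat.cast_sum] at h2
  simp only [Nat.cast_pow] at h2 hc
  simp only [hc, one_pow, Finset.sum_const, Finset.card_range, nsmul_eq_mul, mul_one] at h2
  rw [ZMod.natCast_eq_zero_iff] at h2
  exact ((Nat.prime_dvd_prime_iff_eq hr.out hq).mp h2).symm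

/-- Structure of a prime factor `r` of `Φ_n(a)`: with `d` the order of `a` mod `r`, `d ∣ r - 1` and `n = d r^j`. -/
theorem prime_factor_structure (n a r : ℕ) [hr : Fact r.Prime] (hn : 0 < n) (ha : 1 < a)
    (hrd : r ∣ phi n a) :
    0 < orderOf (a : ZMod r) ∧ orderOf (a : ZMod r) ∣ r - 1 ∧ ∃ j, n = orderOf (a : ZMod r) * r ^ j := by
  set d := orderOf (a : ZMod r) with hd
  have h1 : r ∣ a ^ n - 1 := hrd.trans (phi_dvd n a ha)
  have hdn : d ∣ n := (dvd_pow_sub_one_iff r a n (by omega)).mp h1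
  have hdpos : 0 < d := Nat.pos_of_dvd_of_pos hdn hn
  have hpow : (a : ZMod r) ^ n = 1 := by
    rw [← orderOf_dvd_iff_pow_eq_one]; exact hdn
  have ha0 : (a : ZMod r) ≠ 0 := by
    intro h0
    rw [h0, zero_pow hn.ne'] at hpow
    exact zero_ne_one hpow
  have hd1 : d ∣ r - 1 := orderOf_dvd_of_pow_eq_one (ZMod.pow_card_sub_one_eq_one ha0)
  refine ⟨hdpos, hd1, ?_⟩
  obtain ⟨m, hm⟩ := hdn
  have hmpos : 0 < m := by
    rcases Nat.eq_zero_or_pos m with h | h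
    · rw [h, mul_zero] at hm; omega
    · exact h
  have hm_pow : m = r ^ m.primeFactorsList.length := by
    apply Nat.eq_prime_pow_of_unique_prime_dvd hmpos.ne'
    intro q hq hqm
    have hqn : q ∣ n := by rw [hm]; exact Dvd.dvd.mul_left hqm d
    apply eq_of_order_dvd n a r q hn ha hrd hq hqn
    obtain ⟨m', hm'⟩ := hqm
    have : n / q = d * m' := by
      rw [hm, hm', ← mul_assoc, mul_comm d q, mul_assoc, Nat.mul_div_cancel_left _ hq.pos]
    rw [this]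
    exact Dvd.intro _ rfl
  exact ⟨m.primeFactorsList.length, by rw [← hm_pow]; exact hm⟩

/-- For an odd prime `r` and `c ≡ 1 mod r`, `r²` does not divide `1 + c + ⋯ + c^(r-1)`. -/
theorem not_sq_dvd_geom_sum (r : ℕ) (hr : r.Prime) (hodd : r ≠ 2) (c : ℕ) (hc : r ∣ c - 1) (hc1 : 1 ≤ c) :
    ¬ r ^ 2 ∣ ∑ i ∈ Finset.range r, c ^ i := by
  intro hdvd
  obtain ⟨t, ht⟩ := hc
  have hct : (c : ℤ) = 1 + (r : ℤ) * t := by
    have : c = 1 + r * t := by omega
    rw [this]; push_cast; ring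
  have hdvdZ : ((r : ℤ)) ^ 2 ∣ ∑ i ∈ Finset.range r, (c : ℤ) ^ i := by
    have : ((∑ i ∈ Finset.range r, c ^ i : ℕ) : ℤ) = ∑ i ∈ Finset.range r, (c : ℤ) ^ i := by push_cast; rfl
    rw [← this]
    exact_mod_cast hdvd
  have key : ∀ i : ℕ, ((r : ℤ)) ^ 2 ∣ (c : ℤ) ^ i - (1 + (i : ℤ) * r * t) := by
    intro i
    induction i with
    | zero => simp
    | succ i ih =>
      obtain ⟨k, hk⟩ := ih
      refine ⟨k * c + (i : ℤ) * t ^ 2, ?_⟩
      have : (c : ℤ) ^ (i + 1) = (c : ℤ) ^ i * c := pow_succ _ _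
      rw [this]
      have h2 : (c : ℤ) ^ i = (r : ℤ) ^ 2 * k + (1 + (i : ℤ) * r * t) := by linarith
      rw [h2, hct]
      push_cast
      ring
  have hsum : ((r : ℤ)) ^ 2 ∣ ∑ i ∈ Finset.range r, ((c : ℤ) ^ i - (1 + (i : ℤ) * r * t)) :=
    Finset.dvd_sum fun i _ => key i
  rw [Finset.sum_sub_distrib] at hsum
  have h3 : ((r : ℤ)) ^ 2 ∣ ∑ i ∈ Finset.range r, (1 + (i : ℤ) * r * t) := by
    have := dvd_sub hdvdZ hsum
    simpa using this
  have h4 : ∑ i ∈ Finset.range r, (1 + (i : ℤ) * r * t) = r + (∑ i ∈ Finset.range r, (i : ℤ)) * r * t := by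
    rw [Finset.sum_add_distrib, Finset.sum_const, Finset.card_range, nsmul_eq_mul, mul_one,
      Finset.sum_mul, Finset.sum_mul]
  have h5 : (∑ i ∈ Finset.range r, (i : ℤ)) * 2 = (r : ℤ) * ((r : ℤ) - 1) := by
    have := Finset.sum_range_id_mul_two r
    have h6 : ((∑ i ∈ Finset.range r, i : ℕ) : ℤ) * 2 = ((r * (r - 1) : ℕ) : ℤ) := by
      exact_mod_cast this
    rw [Nat.cast_sum] at h6
    rw [h6, Nat.cast_mul, Nat.cast_sub hr.one_lt.le, Nat.cast_one]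
  obtain ⟨m, hm⟩ : ∃ m : ℕ, r = 2 * m + 1 := by
    rcases hr.eq_two_or_odd with h | h
    · exact absurd h hodd
    · exact ⟨r / 2, by omega⟩
  have h7 : (∑ i ∈ Finset.range r, (i : ℤ)) = (r : ℤ) * m := by
    have : ((r : ℤ) - 1) = 2 * m := by rw [hm]; push_cast; ring
    rw [this] at h5
    linarith
  rw [h4, h7] at h3
  have h8 : ((r : ℤ)) ^ 2 ∣ (r : ℤ) := by
    have h9 : ((r : ℤ)) ^ 2 ∣ (r : ℤ) * m * r * t := ⟨m * t, by ring⟩
    have := dvd_sub h3 h9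
    simpa using this
  have h10 : (r : ℤ) ∣ 1 := by
    obtain ⟨k, hk⟩ := h8
    refine ⟨k, ?_⟩
    have hr0 : (r : ℤ) ≠ 0 := by exact_mod_cast hr.ne_zero
    have : (r : ℤ) * 1 = (r : ℤ) * ((r : ℤ) * k) := by rw [mul_one]; nlinarith [hk]
    exact mul_left_cancel₀ hr0 this
  have h11 : r ∣ 1 := by exact_mod_cast h10
  exact hr.one_lt.ne' (Nat.dvd_one.mp h11)

end Cfsg.Agent.Helper5.Zsig
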