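import Mathlib
import Cfsg.Agent.Helper5.Zsig2

/-!
Helper lemmas (helper5): Zsigmondy's theorem, the case analysis.
-/

set_option autoImplicit false

namespace Cfsg.Agent.Helper5.Zsig

open Polynomial

/-- A prime factor `r` of `Φ_n(a)` with `a` of order `n` mod `r` is a primitive prime divisor. -/
theorem primitive_of_order_eq (n a r : ℕ) [Fact r.Prime] (ha : 1 < a) (hrd : r ∣ phi n a)
    (hd : orderOf (a : ZMod r) = n) :
    r ∣ a ^ n - 1 ∧ ∀ k : ℕ, 0 < k → k < n → ¬ r ∣ a ^ k - 1 := by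
  refine ⟨hrd.trans (phi_dvd n a ha), ?_⟩
  intro k hk hkn hdvd
  rw [dvd_pow_sub_one_iff r a k (by omega), hd] at hdvd
  exact absurd (Nat.le_of_dvd hk hdvd) (by omega)

theorem phi_expand_dvd (m a r : ℕ) (ha : 1 < a) (hr : r.Prime) (hrm : r ∣ m) :
    phi (m * r) a = phi m (a ^ r) := by
  have ha' : 1 < a ^ r := Nat.one_lt_pow hr.ne_zero ha
  have h1 := phi_cast (m * r) a ha
  have h2 := phi_cast m (a ^ r) ha'
  have h3 : (cyclotomic m ℤ).eval (((a ^ r : ℕ)) : ℤ) = (cyclotomic (m * r) ℤ).eval (a : ℤ) := by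
    rw [← cyclotomic_expand_eq_cyclotomic hr hrm ℤ, expand_eval, Nat.cast_pow]
  rw [h3, ← h1] at h2
  exact_mod_cast h2.symm

theorem phi_expand_not_dvd (m a r : ℕ) (ha : 1 < a) (hr : r.Prime) (hrm : ¬ r ∣ m) :
    phi m (a ^ r) = phi (m * r) a * phi m a := by
  have ha' : 1 < a ^ r := Nat.one_lt_pow hr.ne_zero ha
  have h1 := phi_cast (m * r) a ha
  have h2 := phi_cast m (a ^ r) ha'
  have h4 := phi_cast m a ha
  have h3 : (cyclotomic m ℤ).eval (((a ^ r : ℕ)) : ℤ) =
      (cyclotomic (m * r) ℤ).eval (a : ℤ) * (cyclotomic m ℤ).eval (a : ℤ) := by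
    rw [← eval_mul, ← cyclotomic_expand_eq_cyclotomic_mul hr hrm ℤ, expand_eval, Nat.cast_pow]
  rw [h3, ← h1, ← h4] at h2
  exact_mod_cast h2

theorem two_pow_bound1 : ∀ r : ℕ, 2 ≤ r → r + 1 < 2 ^ r := by
  intro r hr
  induction r, hr using Nat.le_induction with
  | base => norm_num
  | succ r hr ih => rw [pow_succ]; omega

theorem two_pow_bound2 : ∀ r : ℕ, 5 ≤ r → 3 * r + 1 < 2 ^ r := by
  intro r hr
  induction r, hr using Nat.le_induction with
  | base => norm_num
  | succ r hr ih => rw [pow_succ]; omega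

theorem phi_three_two : phi 3 2 = 7 := by
  unfold phi
  rw [cyclotomic_three]
  simp

/-- If `Φ_n(a)` has no primitive prime factor (`n ≥ 3`), then it is a prime `r` dividing `n`, with
`n = d r^j`, `d ∣ r - 1`. -/
theorem phi_eq_prime_of_no_primitive (n a : ℕ) (hn : 2 < n) (ha : 1 < a)
    (hno : ∀ r : ℕ, r.Prime → r ∣ phi n a → ∀ _ : Fact r.Prime, orderOf (a : ZMod r) ≠ n) :
    ∃ r d j : ℕ, r.Prime ∧ phi n a = r ∧ 0 < d ∧ d ∣ r - 1 ∧ 0 < j ∧ n = d * r ^ j := by
  have hN1 : 1 < phi n a := one_lt_phi n a (by omega) ha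
  obtain ⟨r, hr, hrN⟩ := Nat.exists_prime_and_dvd hN1.ne'
  haveI : Fact r.Prime := ⟨hr⟩
  obtain ⟨hdpos, hd1, j, hj⟩ := prime_factor_structure n a r (by omega) ha hrN
  set d := orderOf (a : ZMod r) with hd
  have hjpos : 0 < j := by
    rcases Nat.eq_zero_or_pos j with h | h
    · exfalso
      rw [h, pow_zero, mul_one] at hj
      exact hno r hr hrN ⟨hr⟩ hj.symm
    · exact h
  have hrn : r ∣ n := by
    rw [hj]
    exact Dvd.dvd.mul_left (dvd_pow_self r hjpos.ne') d
  -- uniqueness of the prime factor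
  have huniq : ∀ {q : ℕ}, q.Prime → q ∣ phi n a → q = r := by
    intro q hq hqN
    haveI : Fact q.Prime := ⟨hq⟩
    obtain ⟨hdpos', hd1', j', hj'⟩ := prime_factor_structure n a q (by omega) ha hqN
    have hj'pos : 0 < j' := by
      rcases Nat.eq_zero_or_pos j' with h | h
      · exfalso
        rw [h, pow_zero, mul_one] at hj'
        exact hno q hq hqN ⟨hq⟩ hj'.symm
      · exact h
    have hqn : q ∣ n := by
      rw [hj']
      exact Dvd.dvd.mul_left (dvd_pow_self q hj'pos.ne') _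
    by_contra hne
    have aux : ∀ (r₁ r₂ d₁ j₁ : ℕ), r₁.Prime → r₂.Prime → r₁ < r₂ → 0 < d₁ → d₁ ∣ r₁ - 1 →
        n = d₁ * r₁ ^ j₁ → r₂ ∣ n → False := by
      intro r₁ r₂ d₁ j₁ h1 h2 hlt hd hdd hn' h2n
      rw [hn'] at h2n
      have hcop : Nat.Coprime r₂ (r₁ ^ j₁) := by
        apply Nat.Coprime.pow_right
        rw [Nat.coprime_primes h2 h1]
        omega
      have h3 : r₂ ∣ d₁ := hcop.dvd_of_dvd_mul_right h2n
      have h4 : r₂ ≤ d₁ := Nat.le_of_dvd hd h3
      have h5 : d₁ ≤ r₁ - 1 := Nat.le_of_dvd (by have := h1.two_le; omega) hdd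
      omega
    rcases Nat.lt_or_gt_of_ne hne with hlt | hlt
    · exact aux q r _ j' hq hr hlt hdpos' hd1' hj' hrn
    · exact aux r q d j hr hq hlt hdpos hd1 hj hqn
  have hNpow : phi n a = r ^ (phi n a).primeFactorsList.length :=
    Nat.eq_prime_pow_of_unique_prime_dvd (by omega) huniq
  -- `r² ∤ Φ_n(a)`
  have hsq : ¬ r ^ 2 ∣ phi n a := by
    intro hsq
    have hS := hsq.trans (phi_dvd_geom_sum n a r (by omega) ha hr hrn)
    have hnr : n / r = d * r ^ (j - 1) := by
      have : n = d * r ^ (j - 1) * r := by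
        rw [hj, mul_assoc, ← pow_succ]
        congr 2
        omega
      rw [this, Nat.mul_div_cancel _ hr.pos]
    have hc : r ∣ a ^ (n / r) - 1 := by
      rw [dvd_pow_sub_one_iff r a _ (by omega), hnr]
      exact Dvd.intro _ rfl
    by_cases h2 : r = 2
    · -- `r = 2`, `d = 1`, `n = 2^j`, `j ≥ 2`
      subst h2
      have hd_one : d = 1 := Nat.dvd_one.mp (by simpa using hd1)
      rw [hd_one, one_mul] at hj hnr
      have hj2 : 2 ≤ j := by
        by_contra hlt
        have : j = 1 := by omega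
        rw [this] at hj
        omega
      have ha_odd : a % 2 = 1 := by
        have h3 : 2 ∣ a ^ n - 1 := hrN.trans (phi_dvd n a ha)
        by_contra heven
        have h4 : a % 2 = 0 := by omega
        have h5 : 2 ∣ a ^ n := Dvd.dvd.pow (Nat.dvd_of_mod_eq_zero h4) (by omega)
        have h6 : 1 ≤ a ^ n := Nat.one_le_pow _ _ (by omega)
        omega
      have hnr2 : n / 2 = 2 * 2 ^ (j - 2) := by
        rw [hnr, ← pow_succ']
        congr 1
        omega
      rw [hnr2, pow_mul] at hS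
      simp only [Finset.sum_range_succ, Finset.sum_range_zero, pow_zero, pow_one, zero_add] at hS
      have hb : (a ^ 2) % 4 = 1 := by
        have : a % 4 = 1 ∨ a % 4 = 3 := by omega
        rcases this with h | h <;> simp [Nat.pow_mod, h]
      have hb2 : ((a ^ 2) ^ 2 ^ (j - 2)) % 4 = 1 := by
        rw [Nat.pow_mod, hb]; simp
      omega
    · exact not_sq_dvd_geom_sum r hr h2 (a ^ (n / r)) hc (Nat.one_le_pow _ _ (by omega)) hS
  have hN : phi n a = r := by
    set e := (phi n a).primeFactorsList.length with he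
    rcases Nat.lt_or_ge e 2 with h | h
    · interval_cases e
      · rw [pow_zero] at hNpow; omega
      · rw [pow_one] at hNpow; exact hNpow
    · exfalso
      apply hsq
      rw [hNpow]
      exact pow_dvd_pow r h
  exact ⟨r, d, j, hr, hN, hdpos, hd1, hjpos, hj⟩

end Cfsg.Agent.Helper5.Zsig
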