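import Mathlib

set_option autoImplicit false
set_option linter.style.haveILetI false

/-!
Helper5: S3361, transport of a semilinear structure to a field living in `Type`.
-/

namespace Cfsg.Agent.Helper5.Z61

/-- a copy of `Fin n` without any algebraic instance -/
def FinCopy (n : ℕ) : Type := Fin n

instance (n : ℕ) : Fintype (FinCopy n) := inferInstanceAs (Fintype (Fin n))

theorem transport_down {V : Type*} [AddCommGroup V] {R : Type*} [Field R] [Finite R] (e : V ≃+ R)
    {ι : Type*} (act : ι → V → V)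
    (h : ∀ i, ∃ (a : R) (σ : R ≃+* R), ∀ v, e (act i v) = a * σ (e v)) :
    ∃ (F : Type) (_ : Field F) (_ : Fintype F) (e' : V ≃+ F),
      ∀ i, ∃ (a : F) (σ : F ≃+* F), ∀ v, e' (act i v) = a * σ (e' v) := by
  let ε : FinCopy (Nat.card R) ≃ R := (Finite.equivFin R).symm
  letI iF : Field (FinCopy (Nat.card R)) := ε.field
  let ψ : FinCopy (Nat.card R) ≃+* R := ε.ringEquiv
  refine ⟨FinCopy (Nat.card R), iF, inferInstance, e.trans ψ.symm.toAddEquiv, ?_⟩
  intro i
  obtain ⟨a, σ, hσ⟩ := h i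
  refine ⟨ψ.symm a, ψ.trans (σ.trans ψ.symm), ?_⟩
  intro v
  show ψ.symm (e (act i v)) = ψ.symm a * ψ.symm (σ (ψ (ψ.symm (e v))))
  rw [hσ v, map_mul, RingEquiv.apply_symm_apply]

end Cfsg.Agent.Helper5.Z61
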