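import Mathlib
import Cfsg.Agent.Helper5.Z61F

set_option autoImplicit false
set_option linter.style.haveILetI false

/-!
Helper5: S3361, PIECE SL: a linear group with an abelian normal irreducible subgroup is semilinear.
-/

namespace Cfsg.Agent.Helper5.Z61

universe u

variable {q : ℕ} [hq : Fact q.Prime] {V : Type u} [AddCommGroup V] [Module (ZMod q) V] [Finite V]
  [Nontrivial V]

theorem semilinear_aux (H : Subgroup (V ≃ₗ[ZMod q] V)) (A : Subgroup H) (hAn : A.Normal)
    (hAc : IsMulCommutative A)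
    (hirr : ∀ W : Submodule (ZMod q) V,
      (∀ a ∈ A, ∀ v ∈ W, ((a : H) : V ≃ₗ[ZMod q] V) v ∈ W) → W = ⊥ ∨ W = ⊤) :
    ∃ (R : Type u) (_ : Field R) (_ : Finite R) (e : V ≃+ R),
      ∀ h : H, ∃ (a : R) (σ : R ≃+* R), ∀ v : V, e ((h : V ≃ₗ[ZMod q] V) v) = a * σ (e v) := by
  classical
  obtain ⟨v₀, hv₀⟩ := exists_ne (0 : V)
  set S : Set (Module.End (ZMod q) V) :=
    {f | ∃ a ∈ A, f = (((a : H) : V ≃ₗ[ZMod q] V) : V →ₗ[ZMod q] V)} with hS
  have hScomm : ∀ x ∈ S, ∀ y ∈ S, x * y = y * x := by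
    rintro _ ⟨a, ha, rfl⟩ _ ⟨b, hb, rfl⟩
    have h1 : a * b = b * a := congrArg Subtype.val (hAc.is_comm.comm ⟨a, ha⟩ ⟨b, hb⟩)
    exact congrArg (fun t : H => ((t : V ≃ₗ[ZMod q] V) : V →ₗ[ZMod q] V)) h1
  set R₀ : Subalgebra (ZMod q) (Module.End (ZMod q) V) := Algebra.adjoin (ZMod q) S with hR₀
  letI iC : CommRing R₀ := Algebra.adjoinCommRingOfComm (ZMod q) hScomm
  have hSR : ∀ s ∈ S, s ∈ R₀ := fun s hs => Algebra.subset_adjoin hs
  -- elements of `R₀` commute
  have hRcomm : ∀ r ∈ R₀, ∀ s ∈ R₀, r * s = s * r := by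
    intro r hr s hs
    exact congrArg Subtype.val (mul_comm (⟨r, hr⟩ : R₀) ⟨s, hs⟩)
  -- nonzero elements are injective
  have hinj : ∀ r ∈ R₀, r ≠ 0 → ∀ v : V, r v = 0 → v = 0 := by
    intro r hr hr0 v hv
    have hker : LinearMap.ker r = ⊥ ∨ LinearMap.ker r = ⊤ := by
      apply hirr
      intro a ha w hw
      rw [LinearMap.mem_ker] at hw ⊢
      have h1 := hRcomm r hr _ (hSR _ ⟨a, ha, rfl⟩)
      have h2 := congrArg (fun f : Module.End (ZMod q) V => f w) h1
      simp only [Module.End.mul_apply] at h2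
      have h3 : r (((a : H) : V ≃ₗ[ZMod q] V) w) = ((a : H) : V ≃ₗ[ZMod q] V) (r w) := h2
      rw [h3, hw, map_zero]
    rcases hker with h | h
    · have : v ∈ LinearMap.ker r := hv
      rw [h, Submodule.mem_bot] at this
      exact this
    · exact (hr0 (LinearMap.ker_eq_top.1 h)).elim
  haveI : Nontrivial R₀ := by
    refine ⟨⟨0, 1, ?_⟩⟩
    intro h
    have h1 : ((0 : R₀) : Module.End (ZMod q) V) v₀ = ((1 : R₀) : Module.End (ZMod q) V) v₀ := by
      rw [h]
    have h2 : (0 : V) = v₀ := h1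
    exact hv₀ h2.symm
  haveI : NoZeroDivisors R₀ := by
    refine ⟨?_⟩
    intro a b hab
    by_cases ha : a = 0
    · left; exact ha
    · right
      apply Subtype.ext
      apply LinearMap.ext
      intro v
      have h1 : ((a * b : R₀) : Module.End (ZMod q) V) v = 0 := by rw [hab]; rfl
      have h2 : (a : Module.End (ZMod q) V) ((b : Module.End (ZMod q) V) v) = 0 := h1
      have ha' : (a : Module.End (ZMod q) V) ≠ 0 := fun h => ha (Subtype.ext h)
      exact hinj a a.2 ha' _ h2
  haveI : IsDomain R₀ := NoZeroDivisors.to_isDomain R₀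
  haveI : Finite (Module.End (ZMod q) V) :=
    Finite.of_injective (fun f : Module.End (ZMod q) V => (f : V → V)) DFunLike.coe_injective
  haveI : Finite R₀ := inferInstance
  haveI : Fintype R₀ := Fintype.ofFinite _
  letI iF : Field R₀ := Fintype.fieldOfDomain R₀
  -- evaluation at `v₀`
  let ev : R₀ →+ V :=
    { toFun := fun r => (r : Module.End (ZMod q) V) v₀
      map_zero' := rfl
      map_add' := fun a b => rfl }
  have hev : ∀ r : R₀, ev r = (r : Module.End (ZMod q) V) v₀ := fun r => rfl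
  have hevinj : Function.Injective ev := by
    rw [injective_iff_map_eq_zero]
    intro r hr
    by_contra hne
    have ha' : (r : Module.End (ZMod q) V) ≠ 0 := fun h => hne (Subtype.ext h)
    exact hv₀ (hinj r r.2 ha' v₀ hr)
  have hevsurj : Function.Surjective ev := by
    let U : Submodule (ZMod q) V :=
      { carrier := {v | ∃ r : R₀, ev r = v}
        add_mem' := by
          rintro _ _ ⟨r, rfl⟩ ⟨s, rfl⟩
          exact ⟨r + s, map_add ev r s⟩
        zero_mem' := ⟨0, map_zero ev⟩
        smul_mem' := by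
          rintro c _ ⟨r, rfl⟩
          exact ⟨c • r, rfl⟩ }
    have hU : U = ⊥ ∨ U = ⊤ := by
      apply hirr
      rintro a ha _ ⟨r, rfl⟩
      exact ⟨⟨_, hSR _ ⟨a, ha, rfl⟩⟩ * r, rfl⟩
    rcases hU with h | h
    · exfalso
      have : v₀ ∈ U := ⟨1, rfl⟩
      rw [h, Submodule.mem_bot] at this
      exact hv₀ this
    · intro v
      have : v ∈ U := by rw [h]; trivial
      exact this
  let E₁ : R₀ ≃+ V := AddEquiv.ofBijective ev ⟨hevinj, hevsurj⟩
  have hE₁ : ∀ r : R₀, E₁ r = (r : Module.End (ZMod q) V) v₀ := fun r => rfl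
  refine ⟨R₀, iF, inferInstance, E₁.symm, ?_⟩
  intro h
  -- conjugation by `h`
  set L : Module.End (ZMod q) V := ((h : V ≃ₗ[ZMod q] V) : V →ₗ[ZMod q] V) with hL
  set L' : Module.End (ZMod q) V := (((h : V ≃ₗ[ZMod q] V).symm) : V →ₗ[ZMod q] V) with hL'
  have hLL' : L * L' = 1 := by
    apply LinearMap.ext; intro v
    show (h : V ≃ₗ[ZMod q] V) ((h : V ≃ₗ[ZMod q] V).symm v) = v
    simp
  have hL'L : L' * L = 1 := by
    apply LinearMap.ext; intro v
    show (h : V ≃ₗ[ZMod q] V).symm ((h : V ≃ₗ[ZMod q] V) v) = v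
    simp
  have hconjS : ∀ s ∈ S, L * s * L' ∈ S := by
    rintro _ ⟨a, ha, rfl⟩
    refine ⟨h * a * h⁻¹, hAn.conj_mem a ha h, ?_⟩
    rfl
  have hconjR : ∀ r ∈ R₀, L * r * L' ∈ R₀ := by
    intro r hr
    induction hr using Algebra.adjoin_induction with
    | mem x hx => exact hSR _ (hconjS x hx)
    | algebraMap c =>
      have : L * (algebraMap (ZMod q) (Module.End (ZMod q) V) c) * L' =
          algebraMap (ZMod q) (Module.End (ZMod q) V) c := by
        rw [Algebra.algebraMap_eq_smul_one, mul_smul_comm, mul_one, smul_mul_assoc, hLL']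
      rw [this]
      exact Subalgebra.algebraMap_mem _ c
    | add x y _ _ hx hy =>
      have : L * (x + y) * L' = L * x * L' + L * y * L' := by
        rw [mul_add, add_mul]
      rw [this]
      exact Subalgebra.add_mem _ hx hy
    | mul x y _ _ hx hy =>
      have : L * (x * y) * L' = (L * x * L') * (L * y * L') := by
        calc L * (x * y) * L' = L * x * 1 * y * L' := by rw [mul_one]; simp only [mul_assoc]
          _ = L * x * (L' * L) * y * L' := by rw [hL'L]
          _ = (L * x * L') * (L * y * L') := by simp only [mul_assoc]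
      rw [this]
      exact Subalgebra.mul_mem _ hx hy
  let σ₀ : R₀ →+* R₀ :=
    { toFun := fun r => ⟨L * (r : Module.End (ZMod q) V) * L', hconjR r r.2⟩
      map_one' := by
        apply Subtype.ext
        show L * ((1 : R₀) : Module.End (ZMod q) V) * L' = ((1 : R₀) : Module.End (ZMod q) V)
        rw [show ((1 : R₀) : Module.End (ZMod q) V) = 1 from rfl, mul_one, hLL']
      map_mul' := by
        intro x y
        apply Subtype.ext
        show L * ((x * y : R₀) : Module.End (ZMod q) V) * L' =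
          (L * (x : Module.End (ZMod q) V) * L') * (L * (y : Module.End (ZMod q) V) * L')
        rw [show ((x * y : R₀) : Module.End (ZMod q) V) =
          (x : Module.End (ZMod q) V) * (y : Module.End (ZMod q) V) from rfl]
        calc L * ((x : Module.End (ZMod q) V) * y) * L'
            = L * x * 1 * y * L' := by rw [mul_one]; simp only [mul_assoc]
          _ = L * x * (L' * L) * y * L' := by rw [hL'L]
          _ = (L * x * L') * (L * y * L') := by simp only [mul_assoc]
      map_zero' := by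
        apply Subtype.ext
        show L * ((0 : R₀) : Module.End (ZMod q) V) * L' = ((0 : R₀) : Module.End (ZMod q) V)
        rw [show ((0 : R₀) : Module.End (ZMod q) V) = 0 from rfl, mul_zero, zero_mul]
      map_add' := by
        intro x y
        apply Subtype.ext
        show L * ((x + y : R₀) : Module.End (ZMod q) V) * L' =
          (L * (x : Module.End (ZMod q) V) * L') + (L * (y : Module.End (ZMod q) V) * L')
        rw [show ((x + y : R₀) : Module.End (ZMod q) V) =
          (x : Module.End (ZMod q) V) + (y : Module.End (ZMod q) V) from rfl, mul_add, add_mul] }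
  have hσ₀ : ∀ r : R₀, ((σ₀ r : R₀) : Module.End (ZMod q) V) = L * r * L' := fun r => rfl
  have hσbij : Function.Bijective σ₀ :=
    ⟨σ₀.injective, Finite.surjective_of_injective σ₀.injective⟩
  refine ⟨E₁.symm (L v₀), RingEquiv.ofBijective σ₀ hσbij, ?_⟩
  intro v
  apply E₁.injective
  rw [AddEquiv.apply_symm_apply]
  set r : R₀ := E₁.symm v with hr
  set a : R₀ := E₁.symm (L v₀) with ha
  have hrv : (r : Module.End (ZMod q) V) v₀ = v := by rw [← hE₁, hr, AddEquiv.apply_symm_apply]
  have hav : (a : Module.End (ZMod q) V) v₀ = L v₀ := by rw [← hE₁, ha, AddEquiv.apply_symm_apply]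
  have hcomm : a * (RingEquiv.ofBijective σ₀ hσbij) r = σ₀ r * a := by
    rw [mul_comm]; rfl
  rw [hcomm, hE₁]
  show (h : V ≃ₗ[ZMod q] V) v = ((σ₀ r : R₀) : Module.End (ZMod q) V) ((a : Module.End (ZMod q) V) v₀)
  rw [hσ₀, hav]
  show (h : V ≃ₗ[ZMod q] V) v = L ((r : Module.End (ZMod q) V) (L' (L v₀)))
  have h1 : L' (L v₀) = v₀ := by
    have := congrArg (fun f : Module.End (ZMod q) V => f v₀) hL'L
    exact this
  rw [h1, hrv]
  rfl

/-- PIECE SL -/
theorem semilinear_of_irreducible_normal (H : Subgroup (V ≃ₗ[ZMod q] V)) (A : Subgroup H)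
    (hAn : A.Normal) (hAc : IsMulCommutative A)
    (hirr : ∀ W : Submodule (ZMod q) V,
      (∀ a ∈ A, ∀ v ∈ W, ((a : H) : V ≃ₗ[ZMod q] V) v ∈ W) → W = ⊥ ∨ W = ⊤) :
    ∃ (F : Type) (_ : Field F) (_ : Fintype F) (e : V ≃+ F),
      ∀ h : H, ∃ (a : F) (σ : F ≃+* F), ∀ v : V, e ((h : V ≃ₗ[ZMod q] V) v) = a * σ (e v) := by
  obtain ⟨R, iR, iRf, e, he⟩ := semilinear_aux H A hAn hAc hirr
  exact transport_down e (fun (h : H) (v : V) => (h : V ≃ₗ[ZMod q] V) v) he

end Cfsg.Agent.Helper5.Z61
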