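import Mathlib
import Cfsg.Agent.Helper5.HupMain
import Cfsg.Agent.Helper5.HupJ2
import Cfsg.Agent.Helper5.HupK3
import Cfsg.Agent.Helper2.HupN1
import Cfsg.Agent.Helper5.Z61G

set_option autoImplicit false
set_option linter.unusedVariables false
set_option linter.style.haveILetI false
set_option linter.unusedSectionVars false

/-!
Helper5: S3360, FINAL assembly: the core dichotomy and the transport to the statement's format.
-/

namespace Cfsg.Agent.Helper5.Hup

open Cfsg.Agent.Helper2.Hup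

universe u w

variable {q : ℕ} [hq : Fact q.Prime] {V : Type u} [AddCommGroup V] [Module (ZMod q) V] [Finite V]
variable {G : Type w} [Group G] [Finite G]

/-- the core dichotomy -/
theorem core [Nontrivial V] (ι : G →* Module.End (ZMod q) V) (hι : Function.Injective ι)
    (htr : Trans ι) (hsol : Group.IsSolvable G) :
    (∃ A : Subgroup G, A.Normal ∧ (∀ a ∈ A, ∀ b ∈ A, a * b = b * a) ∧ IrrOn ι A) ∨
      Nat.card V ∈ ({9, 25, 49, 121, 529, 81} : Set ℕ) := by
  have hV := Module.natCard_eq_pow_finrank (K := ZMod q) (V := V)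
  rw [Nat.card_zmod] at hV
  set n := Module.finrank (ZMod q) V with hn
  have hn0 : n ≠ 0 := by
    intro h
    rw [h, pow_zero] at hV
    have := Finite.one_lt_card (α := V)
    omega
  rcases (by omega : n = 1 ∨ n = 2 ∨ 3 ≤ n) with h1 | h2 | h3
  · left
    rw [h1] at hV
    exact case_one ι hι htr hV
  · rw [h2] at hV
    exact case_two ι hι htr hsol hV
  · by_cases h26 : q = 2 ∧ n = 6
    · left
      rw [h26.2] at hV
      exact case_two_six ι hι htr hsol h26.1 hV
    · exact case_main ι hι htr hsol h3 h26 hV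

/-- Huppert's theorem in the format of S3360 -/
theorem huppert [Nontrivial V] (hsol : Group.IsSolvable G)
    (ρ : G →* (V ≃ₗ[ZMod q] V)) (hρ : Function.Injective ρ)
    (htrans : ∀ v w : V, v ≠ 0 → w ≠ 0 → ∃ g : G, ρ g v = w) :
    (∃ (F : Type) (_ : Field F) (_ : Fintype F) (e : V ≃+ F),
        ∀ g : G, ∃ (a : F) (σ : F ≃+* F), ∀ v : V, e (ρ g v) = a * σ (e v)) ∨
    Nat.card V ∈ ({9, 25, 49, 121, 529, 81} : Set ℕ) := by
  classical
  set ι : G →* Module.End (ZMod q) V :=
    (LinearEquiv.automorphismGroup.toLinearMapMonoidHom).comp ρ with hιdef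
  have hιapp : ∀ (g : G) (v : V), ι g v = ρ g v := fun g v => rfl
  have hι : Function.Injective ι := by
    intro a b h
    apply hρ
    ext v
    have := LinearMap.congr_fun h v
    rwa [hιapp, hιapp] at this
  have htr : Trans ι := fun v w hv hw => htrans v w hv hw
  rcases core ι hι htr hsol with ⟨A, hAn, hAc, hirr⟩ | h
  · left
    haveI := hAn
    let H : Subgroup (V ≃ₗ[ZMod q] V) := ρ.range
    let A' : Subgroup H := (A.map ρ).subgroupOf H
    have hA'mem : ∀ a' : H, a' ∈ A' ↔ ∃ a ∈ A, ρ a = (a' : V ≃ₗ[ZMod q] V) := by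
      intro a'
      rw [Subgroup.mem_subgroupOf, Subgroup.mem_map]
    have hA'n : A'.Normal := by
      constructor
      intro a' ha' h'
      rw [hA'mem] at ha' ⊢
      obtain ⟨a, ha, hae⟩ := ha'
      obtain ⟨g, hg⟩ := h'.2
      refine ⟨g * a * g⁻¹, hAn.conj_mem a ha g, ?_⟩
      rw [map_mul, map_mul, map_inv, hg, hae]
      rfl
    have hA'c : IsMulCommutative A' := by
      refine ⟨⟨?_⟩⟩
      rintro ⟨x, hx⟩ ⟨y, hy⟩
      obtain ⟨a, ha, hae⟩ := (hA'mem x).1 hx
      obtain ⟨b, hb, hbe⟩ := (hA'mem y).1 hy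
      apply Subtype.ext
      apply Subtype.ext
      show (x : V ≃ₗ[ZMod q] V) * (y : V ≃ₗ[ZMod q] V) = (y : V ≃ₗ[ZMod q] V) * x
      rw [← hae, ← hbe, ← map_mul, ← map_mul, hAc a ha b hb]
    have hA'irr : ∀ W : Submodule (ZMod q) V,
        (∀ a ∈ A', ∀ v ∈ W, ((a : H) : V ≃ₗ[ZMod q] V) v ∈ W) → W = ⊥ ∨ W = ⊤ := by
      intro W hW
      apply hirr W
      intro a ha v hv
      have hmem : (⟨ρ a, ⟨a, rfl⟩⟩ : H) ∈ A' := (hA'mem _).2 ⟨a, ha, rfl⟩
      exact hW _ hmem v hv
    obtain ⟨F, iF, iFt, e, he⟩ :=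
      Cfsg.Agent.Helper5.Z61.semilinear_of_irreducible_normal H A' hA'n hA'c hA'irr
    exact ⟨F, iF, iFt, e, fun g => he ⟨ρ g, ⟨g, rfl⟩⟩⟩
  · right
    exact h

end Cfsg.Agent.Helper5.Hup
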