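import Mathlib
import Cfsg.Prelude.Def_Local
import Cfsg.Prelude.Def_CaseTheorems
import Cfsg.Agent.Helper5.Basic
import Cfsg.Agent.Helper5.Cores
import Cfsg.Agent.Helper5.PResidual
import Cfsg.Agent.Helper5.PPrimeCore
import Cfsg.Agent.Helper5.NormalPComplement

/-!
Helper lemmas (helper5): the preimage of `O_p(N / C_N(H))` for a normal `p`-subgroup `H` of a finite
group `N`, and the criterion `H ∈ Syl_p` of it iff `C_P(H) ≤ H` and `O_{p',p}(N) = H C_N(H)`.
-/

set_option autoImplicit false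

namespace Cfsg.Agent.Helper5

variable {N : Type*} [Group N]

theorem card_eq_card_mul_relIndex {H K : Subgroup N} (h : H ≤ K) :
    Nat.card K = Nat.card H * H.relIndex K := by
  have h1 : Nat.card ↥(H.subgroupOf K) * (H.subgroupOf K).index = Nat.card ↥K :=
    Subgroup.card_mul_index _
  have h2 : Nat.card ↥(H.subgroupOf K) = Nat.card H :=
    Nat.card_congr (Subgroup.subgroupOfEquivOfLe h).toEquiv
  rw [← h1, h2]
  rfl

/-- `|C : P ∩ C| = |PC : P|` for `C` normal. -/
theorem relIndex_eq_relIndex_sup_of_normal [Finite N] (P C : Subgroup N) [C.Normal] :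
    P.relIndex C = P.relIndex (P ⊔ C) := by
  have hC : Nat.card C = Nat.card ↥(P ⊓ C) * P.relIndex C := by
    rw [card_eq_card_mul_relIndex (inf_le_right : P ⊓ C ≤ C), Subgroup.inf_relIndex_right]
  have hP : Nat.card P = Nat.card ↥(P ⊓ C) * C.relIndex P := by
    rw [card_eq_card_mul_relIndex (inf_le_left : P ⊓ C ≤ P), Subgroup.inf_relIndex_left]
  have hPC1 : Nat.card ↥(P ⊔ C) = Nat.card C * C.relIndex P := by
    rw [card_eq_card_mul_relIndex (le_sup_right : C ≤ P ⊔ C), Subgroup.relIndex_sup_right]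
  have hPC2 : Nat.card ↥(P ⊔ C) = Nat.card P * P.relIndex (P ⊔ C) :=
    card_eq_card_mul_relIndex le_sup_left
  have ha : 0 < Nat.card ↥(P ⊓ C) := Nat.card_pos
  have hb : 0 < C.relIndex P := by
    rcases Nat.eq_zero_or_pos (C.relIndex P) with h0 | h0
    · exfalso
      rw [h0, mul_zero] at hP
      exact (Nat.card_pos (α := P)).ne' hP
    · exact h0
  rw [hC, hP] at *
  rw [hPC1] at hPC2
  have : Nat.card ↥(P ⊓ C) * C.relIndex P * P.relIndex C =
      Nat.card ↥(P ⊓ C) * C.relIndex P * P.relIndex (P ⊔ C) := by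
    rw [← hPC2]; ring
  exact Nat.eq_of_mul_eq_mul_left (Nat.mul_pos ha hb) this

theorem not_dvd_relIndex_of_normal [Finite N] {p : ℕ} (P C : Subgroup N) [C.Normal]
    (hP : ¬ p ∣ P.index) : ¬ p ∣ P.relIndex C := by
  rw [relIndex_eq_relIndex_sup_of_normal]
  intro h
  exact hP (dvd_trans h (Subgroup.relIndex_dvd_index_of_le le_sup_left))

/-- Elements of the preimage of `O_p(N / M)` have a `p`-power power in `M`. -/
theorem exists_pow_mem_of_mem_comap_pCore {p : ℕ} (M : Subgroup N) [M.Normal] {x : N}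
    (hx : x ∈ (Cfsg.pCore p (N ⧸ M)).comap (QuotientGroup.mk' M)) : ∃ k : ℕ, x ^ (p ^ k) ∈ M := by
  obtain ⟨k, hk⟩ := (isPGroup_pCore p (G := N ⧸ M)) ⟨_, hx⟩
  refine ⟨k, ?_⟩
  have h1 := congrArg Subtype.val hk
  simp only [Subgroup.coe_pow, Subgroup.coe_one, QuotientGroup.mk'_apply] at h1
  rwa [← QuotientGroup.mk_pow, QuotientGroup.eq_one_iff] at h1

/-- A normal subgroup all of whose elements have a `p`-power power in `M` lies in the preimage of
`O_p(N / M)`. -/
theorem le_comap_pCore_of_pow_mem {p : ℕ} (M W : Subgroup N) [M.Normal] [hW : W.Normal]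
    (h : ∀ x ∈ W, ∃ k : ℕ, x ^ (p ^ k) ∈ M) :
    W ≤ (Cfsg.pCore p (N ⧸ M)).comap (QuotientGroup.mk' M) := by
  have hn : (W.map (QuotientGroup.mk' M)).Normal :=
    Subgroup.Normal.map hW _ (QuotientGroup.mk'_surjective M)
  have hp : IsPGroup p (W.map (QuotientGroup.mk' M)) := by
    rintro ⟨_, x, hx, rfl⟩
    obtain ⟨k, hk⟩ := h x hx
    refine ⟨k, Subtype.ext ?_⟩
    simp only [Subgroup.coe_pow, Subgroup.coe_one, QuotientGroup.mk'_apply]
    rw [← QuotientGroup.mk_pow, QuotientGroup.eq_one_iff]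
    exact hk
  intro x hx
  exact le_pCore hn hp ⟨x, hx, rfl⟩

theorem le_comap_pCore_self (p : ℕ) (M : Subgroup N) [M.Normal] :
    M ≤ (Cfsg.pCore p (N ⧸ M)).comap (QuotientGroup.mk' M) := by
  intro x hx
  rw [Subgroup.mem_comap]
  have : QuotientGroup.mk' M x = 1 := (QuotientGroup.eq_one_iff x).mpr hx
  rw [this]
  exact Subgroup.one_mem _

theorem isPGroup_le_comap_pCore {p : ℕ} (M H : Subgroup N) [M.Normal] [H.Normal]
    (hH : IsPGroup p H) : H ≤ (Cfsg.pCore p (N ⧸ M)).comap (QuotientGroup.mk' M) := by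
  apply le_comap_pCore_of_pow_mem
  intro x hx
  obtain ⟨k, hk⟩ := hH ⟨x, hx⟩
  refine ⟨k, ?_⟩
  have h1 := congrArg Subtype.val hk
  simp only [Subgroup.coe_pow, Subgroup.coe_one] at h1
  rw [h1]
  exact Subgroup.one_mem _

/-- `O_{p'}(N)` centralises every normal `p`-subgroup. -/
theorem pPrimeCore_le_centralizer [Finite N] {p : ℕ} [Fact p.Prime] (H : Subgroup N) [hHn : H.Normal]
    (hH : IsPGroup p H) : Cfsg.pPrimeCore p N ≤ Subgroup.centralizer (H : Set N) := by
  have hcop : (Nat.card (Cfsg.pPrimeCore p N)).Coprime (Nat.card H) := by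
    obtain ⟨n, hn⟩ := IsPGroup.iff_card.mp hH
    rw [hn]
    exact Nat.Coprime.pow_right n (coprime_card_pPrimeCore (G := N) p)
  have hbot := (Subgroup.disjoint_of_coprime_natCard hcop).eq_bot
  intro x hx
  rw [Subgroup.mem_centralizer_iff]
  intro h hh
  have h1 : x * h * x⁻¹ * h⁻¹ ∈ Cfsg.pPrimeCore p N ⊓ H := by
    refine Subgroup.mem_inf.mpr ⟨?_, ?_⟩
    · have : x * h * x⁻¹ * h⁻¹ = x * (h * x⁻¹ * h⁻¹) := by group
      rw [this]
      exact Subgroup.mul_mem _ hx ((Cfsg.pPrimeCore_normal p N).conj_mem _ (Subgroup.inv_mem _ hx) h)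
    · exact Subgroup.mul_mem _ (hHn.conj_mem _ hh x) (Subgroup.inv_mem _ hh)
  rw [hbot, Subgroup.mem_bot] at h1
  have : x * h = (x * h * x⁻¹ * h⁻¹) * (h * x) := by group
  rw [this, h1, one_mul]

/-- `O_{p',p}(N)` lies in the preimage of `O_p(N / C)` whenever `O_{p'}(N) ≤ C`. -/
theorem pPrimePCore_le_comap_pCore {p : ℕ} (C : Subgroup N) [C.Normal]
    (hC : Cfsg.pPrimeCore p N ≤ C) :
    Cfsg.pPrimePCore p N ≤ (Cfsg.pCore p (N ⧸ C)).comap (QuotientGroup.mk' C) := by
  haveI : (Cfsg.pPrimePCore p N).Normal := by unfold Cfsg.pPrimePCore; infer_instance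
  apply le_comap_pCore_of_pow_mem
  intro x hx
  obtain ⟨k, hk⟩ := exists_pow_mem_of_mem_comap_pCore (Cfsg.pPrimeCore p N) hx
  exact ⟨k, hC hk⟩

theorem pSubgroup_le_of_sylow_inf_le [Finite N] {p : ℕ} [Fact p.Prime] (P : Sylow p N)
    (H C : Subgroup N) [hHn : H.Normal] [hCn : C.Normal]
    (hA : (P : Subgroup N) ⊓ C ≤ H) (Q : Subgroup N) (hQ : IsPGroup p Q) (hQC : Q ≤ C) : Q ≤ H := by
  obtain ⟨k, hk⟩ := exists_conj_le_sylow P Q hQ
  intro x hx
  have h1 : k * x * k⁻¹ ∈ H := hA (Subgroup.mem_inf.mpr ⟨hk x hx, hCn.conj_mem _ (hQC hx) k⟩)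
  have h2 := hHn.conj_mem _ h1 k⁻¹
  have h3 : k⁻¹ * (k * x * k⁻¹) * k⁻¹⁻¹ = x := by group
  rwa [h3] at h2

theorem coprime_card_pResidual_centralizer [Finite N] {p : ℕ} [Fact p.Prime] (P : Sylow p N)
    (H : Subgroup N) [H.Normal] [hCn : (Subgroup.centralizer (H : Set N)).Normal]
    (hA : (P : Subgroup N) ⊓ Subgroup.centralizer (H : Set N) ≤ H) :
    (Nat.card (Cfsg.pResidual p ↥(Subgroup.centralizer (H : Set N)))).Coprime p := by
  apply coprime_card_pResidual_of_central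
  intro Q hQ _
  have h1 : Q.map (Subgroup.centralizer (H : Set N)).subtype ≤ H :=
    pSubgroup_le_of_sylow_inf_le P H _ hA _ (hQ.map _) (by rintro _ ⟨y, -, rfl⟩; exact y.2)
  intro x hx
  rw [Subgroup.mem_centralizer_iff]
  intro y _
  have h2 : (x : N) ∈ H := h1 ⟨x, hx, rfl⟩
  have h3 := Subgroup.mem_centralizer_iff.mp y.2 (x : N) h2
  apply Subtype.ext
  simpa using h3.symm

theorem comap_pCore_centralizer_le_pPrimePCore [Finite N] {p : ℕ} [Fact p.Prime] (P : Sylow p N)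
    (H : Subgroup N) [H.Normal] [hCn : (Subgroup.centralizer (H : Set N)).Normal]
    (hA : (P : Subgroup N) ⊓ Subgroup.centralizer (H : Set N) ≤ H) :
    (Cfsg.pCore p (N ⧸ Subgroup.centralizer (H : Set N))).comap (QuotientGroup.mk' _) ≤
      Cfsg.pPrimePCore p N := by
  set C := Subgroup.centralizer (H : Set N) with hC
  set K := (Cfsg.pResidual p ↥C).map C.subtype with hK
  haveI : (Cfsg.pResidual p ↥C).Characteristic := pResidual_characteristic p
  have hKn : K.Normal := ConjAct.normal_of_characteristic_of_normal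
  have hKc : (Nat.card K).Coprime p := by
    rw [hK, Subgroup.card_map_of_injective (Subgroup.subtype_injective _)]
    exact coprime_card_pResidual_centralizer P H hA
  have hKle : K ≤ Cfsg.pPrimeCore p N := le_pPrimeCore hKn hKc
  haveI : ((Cfsg.pCore p (N ⧸ C)).comap (QuotientGroup.mk' C)).Normal := inferInstance
  unfold Cfsg.pPrimePCore
  apply le_comap_pCore_of_pow_mem
  intro x hx
  obtain ⟨k, hk⟩ := exists_pow_mem_of_mem_comap_pCore C hx
  obtain ⟨j, hj⟩ := (isPGroup_quotient_pResidual (G := ↥C) p) (QuotientGroup.mk ⟨x ^ p ^ k, hk⟩)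
  refine ⟨k + j, hKle ?_⟩
  rw [← QuotientGroup.mk_pow, QuotientGroup.eq_one_iff] at hj
  refine ⟨_, hj, ?_⟩
  simp [pow_add, pow_mul]

theorem le_of_isPGroup_of_not_dvd_relIndex [Finite N] {p : ℕ} [Fact p.Prime] {H K L : Subgroup N}
    (hHK : H ≤ K) (hKL : K ≤ L) (hK : IsPGroup p K) (hnd : ¬ p ∣ H.relIndex L) : K ≤ H := by
  rw [← Subgroup.relIndex_eq_one]
  obtain ⟨n, hn⟩ := IsPGroup.iff_card.mp hK
  have h1 : H.relIndex K ∣ p ^ n := hn ▸ Subgroup.relIndex_dvd_card H K
  have h2 : H.relIndex K ∣ H.relIndex L := Dvd.intro _ (Subgroup.relIndex_mul_relIndex H K L hHK hKL)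
  have h3 : (H.relIndex K).Coprime (p ^ n) := by
    apply Nat.Coprime.pow_right
    rw [Nat.coprime_comm]
    exact (Nat.Prime.coprime_iff_not_dvd Fact.out).mpr (fun h => hnd (dvd_trans h h2))
  exact Nat.Coprime.eq_one_of_dvd h3 h1

/-- The criterion: for a normal `p`-subgroup `H` of the finite group `N` with `C = C_N(H)` and `R` the
preimage of `O_p(N / C)`: `H ∈ Syl_p(R)` iff `C_P(H) ≤ H` and `O_{p',p}(N) = H C`. -/
theorem sylow_comap_pCore_iff [Finite N] {p : ℕ} [Fact p.Prime] (P : Sylow p N) (H C : Subgroup N)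
    [hHn : H.Normal] [hCn : C.Normal] (hH : IsPGroup p H) (hC : C = Subgroup.centralizer (H : Set N)) :
    (H ≤ (Cfsg.pCore p (N ⧸ C)).comap (QuotientGroup.mk' C) ∧
      ¬ p ∣ H.relIndex ((Cfsg.pCore p (N ⧸ C)).comap (QuotientGroup.mk' C))) ↔
    ((P : Subgroup N) ⊓ C ≤ H ∧ Cfsg.pPrimePCore p N = H ⊔ C) := by
  subst hC
  set C := Subgroup.centralizer (H : Set N) with hC
  set R := (Cfsg.pCore p (N ⧸ C)).comap (QuotientGroup.mk' C) with hR
  have hCR : C ≤ R := le_comap_pCore_self p C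
  have hHR : H ≤ R := isPGroup_le_comap_pCore C H hH
  have hWR : Cfsg.pPrimePCore p N ≤ R :=
    pPrimePCore_le_comap_pCore C (pPrimeCore_le_centralizer H hH)
  have hRW : (P : Subgroup N) ⊓ C ≤ H → R ≤ Cfsg.pPrimePCore p N :=
    comap_pCore_centralizer_le_pPrimePCore P H
  constructor
  · rintro ⟨-, hnd⟩
    have hA : (P : Subgroup N) ⊓ C ≤ H := by
      have hQp : IsPGroup p ↥((P : Subgroup N) ⊓ C) := P.isPGroup'.to_le inf_le_left
      have hQH : IsPGroup p ↥((P : Subgroup N) ⊓ C ⊔ H) := hQp.to_sup_of_normal_right hH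
      have := le_of_isPGroup_of_not_dvd_relIndex (H := H) (K := (P : Subgroup N) ⊓ C ⊔ H) (L := R)
        le_sup_right (sup_le (inf_le_right.trans hCR) hHR) hQH hnd
      exact le_sup_left.trans this
    refine ⟨hA, ?_⟩
    have hReq : R = H ⊔ C := by
      apply le_antisymm _ (sup_le hHR hCR)
      rw [← Subgroup.relIndex_eq_one]
      have h1 : (H ⊔ C).relIndex R ∣ H.relIndex R := Subgroup.relIndex_dvd_of_le_left R le_sup_left
      have h2 : (H ⊔ C).relIndex R ∣ C.relIndex R := Subgroup.relIndex_dvd_of_le_left R le_sup_right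
      have hp : IsPGroup p (↥R ⧸ C.subgroupOf R) := by
        intro y
        obtain ⟨r, rfl⟩ := QuotientGroup.mk_surjective y
        obtain ⟨k, hk⟩ := exists_pow_mem_of_mem_comap_pCore C r.2
        refine ⟨k, ?_⟩
        rw [← QuotientGroup.mk_pow, QuotientGroup.eq_one_iff]
        rw [Subgroup.mem_subgroupOf]
        simpa using hk
      obtain ⟨n, hn⟩ := IsPGroup.iff_card.mp hp
      have h3 : C.relIndex R = p ^ n := by
        rw [← hn]; exact Subgroup.index_eq_card _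
      rw [h3] at h2
      have h4 : ((H ⊔ C).relIndex R).Coprime (p ^ n) := by
        apply Nat.Coprime.pow_right
        rw [Nat.coprime_comm]
        exact (Nat.Prime.coprime_iff_not_dvd Fact.out).mpr (fun h => hnd (dvd_trans h h1))
      exact Nat.Coprime.eq_one_of_dvd h4 h2
    rw [← hReq]
    exact le_antisymm hWR (hRW hA)
  · rintro ⟨hA, hB⟩
    refine ⟨hHR, ?_⟩
    have hReq : R = H ⊔ C := le_antisymm ((hRW hA).trans hB.le) (sup_le hHR hCR)
    rw [hReq, Subgroup.relIndex_sup_left, ← Subgroup.inf_relIndex_right]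
    intro hd
    have h1 : (H ⊓ C).relIndex C ∣ ((P : Subgroup N) ⊓ C).relIndex C :=
      Subgroup.relIndex_dvd_of_le_left C (le_inf hA inf_le_right)
    rw [Subgroup.inf_relIndex_right ((P : Subgroup N)) C] at h1
    exact not_dvd_relIndex_of_normal (P : Subgroup N) C P.not_dvd_index (dvd_trans hd h1)

end Cfsg.Agent.Helper5
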