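import Mathlib
import Cfsg.Agent.Helper5.Basic
import Cfsg.Agent.Helper5.SylowSub

/-!
Helper lemmas (helper5): the classical theory of strongly `p`-embedded subgroups, in elementwise form.
`LocCtrl M P` says `P ≤ M` and `N_G(Q) ≤ M` for every nontrivial `Q ≤ P`.
-/

set_option autoImplicit false

namespace Cfsg.Agent.Helper5

open scoped Pointwise

variable {G : Type*} [Group G]

/-- `P ≤ M`, and `M` contains the normalizer of every nontrivial subgroup of `P`. -/
def LocCtrl (M P : Subgroup G) : Prop :=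
  P ≤ M ∧ ∀ Q : Subgroup G, Q ≤ P → Q ≠ ⊥ → Subgroup.normalizer (Q : Set G) ≤ M

theorem map_conj_ne_bot (D : Subgroup G) (g : G) (hD : D ≠ ⊥) :
    D.map (MulAut.conj g).toMonoidHom ≠ ⊥ := by
  intro h
  apply hD
  rw [eq_bot_iff] at h ⊢
  intro x hx
  have := h (conj_mem_map_conj D g x hx)
  rw [Subgroup.mem_bot] at this ⊢
  have h2 : x = g⁻¹ * (g * x * g⁻¹) * g := by group
  rw [h2, this]; group

theorem normalizer_map_conj (D : Subgroup G) (g : G) :
    Subgroup.normalizer ((D.map (MulAut.conj g).toMonoidHom : Subgroup G) : Set G) =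
      (Subgroup.normalizer (D : Set G)).map (MulAut.conj g).toMonoidHom :=
  (Subgroup.map_equiv_normalizer_eq D (MulAut.conj g)).symm

/-- Claim A: under local control, the normalizer of any nontrivial `p`-subgroup of `M` lies in `M`. -/
theorem LocCtrl.normalizer_le [Finite G] {p : ℕ} [Fact p.Prime] {M : Subgroup G} {P : Sylow p G}
    (h : LocCtrl M (P : Subgroup G)) (D : Subgroup G) (hDM : D ≤ M) (hD : IsPGroup p D) (hD1 : D ≠ ⊥) :
    Subgroup.normalizer (D : Set G) ≤ M := by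
  obtain ⟨m, hmM, hm⟩ := exists_conj_le_sylow_of_le P M h.1 D hDM hD
  have hQP : D.map (MulAut.conj m).toMonoidHom ≤ (P : Subgroup G) := by
    rw [map_conj_le_iff]; exact hm
  have hN := h.2 _ hQP (map_conj_ne_bot D m hD1)
  rw [normalizer_map_conj] at hN
  intro n hn
  have h1 : m * n * m⁻¹ ∈ M := hN (conj_mem_map_conj _ m n hn)
  have h2 : n = m⁻¹ * (m * n * m⁻¹) * m := by group
  rw [h2]
  exact M.mul_mem (M.mul_mem (M.inv_mem hmM) h1) hmM

/-- Claim A for a conjugate of `M`. -/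
theorem LocCtrl.normalizer_le_conj [Finite G] {p : ℕ} [Fact p.Prime] {M : Subgroup G} {P : Sylow p G}
    (h : LocCtrl M (P : Subgroup G)) (g : G) (D : Subgroup G)
    (hDM : D ≤ M.map (MulAut.conj g).toMonoidHom) (hD : IsPGroup p D) (hD1 : D ≠ ⊥) :
    Subgroup.normalizer (D : Set G) ≤ M.map (MulAut.conj g).toMonoidHom := by
  have hD'M : D.map (MulAut.conj g⁻¹).toMonoidHom ≤ M := by
    rw [map_conj_le_iff]
    intro x hx
    have := hDM hx
    rw [mem_map_conj_iff] at this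
    simpa using this
  have hN := h.normalizer_le _ hD'M (hD.map _) (map_conj_ne_bot D g⁻¹ hD1)
  rw [normalizer_map_conj] at hN
  intro n hn
  rw [mem_map_conj_iff]
  have := hN (conj_mem_map_conj _ g⁻¹ n hn)
  simpa using this

/-- Two Sylow subgroups inside a subgroup `K` are conjugate by an element of `K`. -/
theorem sylow_smul_eq_of_le [Finite G] {p : ℕ} [Fact p.Prime] (P P₁ : Sylow p G) (K : Subgroup G)
    (hPK : (P : Subgroup G) ≤ K) (hP₁K : (P₁ : Subgroup G) ≤ K) : ∃ k ∈ K, k • P₁ = P := by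
  obtain ⟨k, hkK, hk⟩ := exists_conj_le_sylow_of_le P K hPK (P₁ : Subgroup G) hP₁K P₁.isPGroup'
  refine ⟨k, hkK, ?_⟩
  apply Sylow.ext
  have hle : ((k • P₁ : Sylow p G) : Subgroup G) ≤ (P : Subgroup G) := by
    rw [Sylow.coe_subgroup_smul]
    rintro _ ⟨x, hx, rfl⟩
    have := hk x hx
    simpa [MulAut.smul_def] using this
  exact ((k • P₁).is_maximal' P.isPGroup' hle).symm

theorem sylow_mem_smul_iff {p : ℕ} (P : Sylow p G) (g x : G) :
    x ∈ ((g • P : Sylow p G) : Subgroup G) ↔ g⁻¹ * x * g ∈ (P : Subgroup G) := by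
  rw [Sylow.coe_subgroup_smul]
  exact mem_map_conj_iff (P : Subgroup G) g x

/-- Claim B: under local control, if `M ∩ M^g` contains a nontrivial `p`-subgroup then `g ∈ M`. -/
theorem LocCtrl.mem_of_inter [Finite G] {p : ℕ} [Fact p.Prime] {M : Subgroup G} {P : Sylow p G}
    (h : LocCtrl M (P : Subgroup G)) (g : G) (D : Subgroup G) (hDM : D ≤ M)
    (hDMg : D ≤ M.map (MulAut.conj g).toMonoidHom) (hD : IsPGroup p D) (hD1 : D ≠ ⊥) : g ∈ M := by
  set K := M ⊓ M.map (MulAut.conj g).toMonoidHom with hK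
  obtain ⟨T, hDT, hTK, hTp, hTmax, -⟩ := exists_sylow_of_subgroup K D (le_inf hDM hDMg) hD
  have hT1 : T ≠ ⊥ := fun hT => hD1 (eq_bot_iff.mpr (hT ▸ hDT))
  have hNM : Subgroup.normalizer (T : Set G) ≤ M := h.normalizer_le T (hTK.trans inf_le_left) hTp hT1
  have hNMg : Subgroup.normalizer (T : Set G) ≤ M.map (MulAut.conj g).toMonoidHom :=
    h.normalizer_le_conj g T (hTK.trans inf_le_right) hTp hT1
  obtain ⟨P₁, hTP₁⟩ := hTp.exists_le_sylow
  have hTeq : T = (P₁ : Subgroup G) := by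
    by_contra hne
    obtain ⟨n, hnP, hnN, hnT⟩ := exists_mem_normalizer_not_mem (P₁ : Subgroup G) T P₁.isPGroup' hTP₁ hne
    set E := (P₁ : Subgroup G) ⊓ Subgroup.normalizer (T : Set G) with hE
    have hEK : E ≤ K := fun x hx => ⟨hNM hx.2, hNMg hx.2⟩
    have hEp : IsPGroup p E := P₁.isPGroup'.to_le inf_le_left
    have hTE : T ≤ E := le_inf hTP₁ Subgroup.le_normalizer
    have := hTmax E hEK hEp hTE
    apply hnT
    rw [← this]
    exact ⟨hnP, hnN⟩
  have hP₁M : (P₁ : Subgroup G) ≤ M := hTeq ▸ (hTK.trans inf_le_left)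
  have hP₁Mg : (P₁ : Subgroup G) ≤ M.map (MulAut.conj g).toMonoidHom := hTeq ▸ (hTK.trans inf_le_right)
  obtain ⟨m, hmM, hm⟩ := sylow_smul_eq_of_le P P₁ M h.1 hP₁M
  have hP₂M : ((g⁻¹ • P₁ : Sylow p G) : Subgroup G) ≤ M := by
    intro x hx
    rw [sylow_mem_smul_iff] at hx
    have := hP₁Mg hx
    rw [mem_map_conj_iff] at this
    simpa [mul_assoc] using this
  obtain ⟨m₂, hm₂M, hm₂⟩ := sylow_smul_eq_of_le P (g⁻¹ • P₁) M h.1 hP₂M
  have hPne : (P : Subgroup G) ≠ ⊥ := by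
    intro hP
    apply hT1
    have hc : Nat.card (P₁ : Subgroup G) = Nat.card (P : Subgroup G) := by
      rw [← hm]
      exact (Sylow.card_eq_multiplicity _).trans (Sylow.card_eq_multiplicity _).symm
    rw [hP, Subgroup.card_bot] at hc
    rw [hTeq]
    exact (Subgroup.card_eq_one).mp hc
  have hnorm : m₂ * g⁻¹ * m⁻¹ ∈ Subgroup.normalizer ((P : Subgroup G) : Set G) := by
    refine Sylow.smul_eq_iff_mem_normalizer.mp ?_
    calc (m₂ * g⁻¹ * m⁻¹) • P = m₂ • (g⁻¹ • (m⁻¹ • P)) := by rw [mul_smul, mul_smul]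
      _ = m₂ • (g⁻¹ • P₁) := by rw [← hm, inv_smul_smul]
      _ = P := hm₂
  have hmem : m₂ * g⁻¹ * m⁻¹ ∈ M := h.2 _ le_rfl hPne hnorm
  have : g⁻¹ = m₂⁻¹ * (m₂ * g⁻¹ * m⁻¹) * m := by group
  have hg' : g⁻¹ ∈ M := by
    rw [this]
    exact M.mul_mem (M.mul_mem (M.inv_mem hm₂M) hmem) hmM
  simpa using M.inv_mem hg'

/-- Claim C: under local control, a `p`-subgroup of `G` containing a nontrivial `p`-subgroup of `M` lies in `M`. -/
theorem LocCtrl.le_of_le [Finite G] {p : ℕ} [Fact p.Prime] {M : Subgroup G} {P : Sylow p G}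
    (h : LocCtrl M (P : Subgroup G)) (D T : Subgroup G) (hDM : D ≤ M) (hD1 : D ≠ ⊥) (hDT : D ≤ T)
    (hT : IsPGroup p T) : T ≤ M := by
  obtain ⟨P₁, hTP₁⟩ := hT.exists_le_sylow
  obtain ⟨g, hg⟩ := MulAction.exists_smul_eq G P P₁
  have hP₁Mg : (P₁ : Subgroup G) ≤ M.map (MulAut.conj g).toMonoidHom := by
    intro x hx
    rw [← hg, sylow_mem_smul_iff] at hx
    rw [mem_map_conj_iff]
    exact h.1 hx
  have hgM : g ∈ M :=
    h.mem_of_inter g D hDM (hDT.trans (hTP₁.trans hP₁Mg)) (hT.to_le hDT) hD1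
  rw [map_conj_eq_self_of_mem M g hgM] at hP₁Mg
  exact hTP₁.trans hP₁Mg

/-- Frattini argument, elementwise: if `T` is a maximal `p`-subgroup of `L` (Sylow in `L`) and `n` normalizes `L`,
then `n = l * c` with `l ∈ L` and `c ∈ N_G(T)`. -/
theorem frattini_elementwise [Finite G] {p : ℕ} [Fact p.Prime] (L T : Subgroup G) (hTL : T ≤ L)
    (hTp : IsPGroup p T)
    (hconj : ∀ E : Subgroup G, E ≤ L → IsPGroup p E → ∃ k ∈ L, ∀ x ∈ E, k * x * k⁻¹ ∈ T)
    (n : G) (hn : n ∈ Subgroup.normalizer (L : Set G)) :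
    ∃ l ∈ L, ∃ c ∈ Subgroup.normalizer (T : Set G), n = l * c := by
  have hEL : T.map (MulAut.conj n).toMonoidHom ≤ L := by
    rw [map_conj_le_iff]
    intro x hx
    exact (Subgroup.mem_normalizer_iff.mp hn x).mp (hTL hx)
  obtain ⟨k, hkL, hk⟩ := hconj _ hEL (hTp.map _)
  have hc : k * n ∈ Subgroup.normalizer (T : Set G) := by
    apply Subgroup.mem_normalizer_fintype
    intro x hx
    have := hk _ (conj_mem_map_conj T n x hx)
    simpa [mul_assoc] using this
  exact ⟨k⁻¹, L.inv_mem hkL, k * n, hc, by group⟩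

end Cfsg.Agent.Helper5
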