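import Mathlib
import Cfsg.Prelude.Def_EvenType
import Cfsg.Agent.Helper5.Basic
import Cfsg.Agent.Helper5.SylowSub
import Cfsg.Agent.Helper5.StrongEmb

/-!
Helper lemmas (helper5): `Cfsg.IsStronglyPEmbedded` versus the classical characterizations.
-/

set_option autoImplicit false

namespace Cfsg.Agent.Helper5

open scoped Pointwise

variable {G : Type*} [Group G]

/-- A nontrivial finite `p`-group has positive `p`-rank. -/
theorem not_pRankLE_zero_of_ne_bot [Finite G] {p : ℕ} [Fact p.Prime] (Q : Subgroup G) (hQ : IsPGroup p Q)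
    (hQ1 : Q ≠ ⊥) : ¬ Cfsg.PRankLE p 0 Q := by
  intro h
  have hnt : Nontrivial Q := (Subgroup.nontrivial_iff_ne_bot Q).mpr hQ1
  obtain ⟨n, hn0, hn⟩ := hQ.nontrivial_iff_card.mp hnt
  have hdvd : p ∣ Nat.card Q := by rw [hn]; exact dvd_pow_self p (Nat.pos_iff_ne_zero.mp hn0)
  obtain ⟨a, ha⟩ := exists_prime_orderOf_dvd_card' p hdvd
  have hle := h (Subgroup.zpowers a) inferInstance (by
    intro b hb
    obtain ⟨k, rfl⟩ := Subgroup.mem_zpowers_iff.mp hb
    rw [← zpow_natCast, ← zpow_mul, mul_comm, zpow_mul, zpow_natCast, ← ha, pow_orderOf_eq_one, one_zpow])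
  rw [Nat.card_zpowers, ha, pow_zero] at hle
  have := (Fact.out : p.Prime).one_lt
  omega

theorem ne_bot_of_not_pRankLE_zero {p : ℕ} (Q : Subgroup G) (h : ¬ Cfsg.PRankLE p 0 Q) : Q ≠ ⊥ := by
  intro hQ
  apply h
  intro A _ _
  subst hQ
  rw [pow_zero]
  have : Subsingleton (⊥ : Subgroup G) := inferInstance
  have : Subsingleton A := inferInstance
  exact (Nat.card_of_subsingleton (1 : A)).le

theorem kGeneratedCore_one_le_iff [Finite G] {p : ℕ} [Fact p.Prime] (P : Sylow p G) (Y : Subgroup G)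
    (hdvd : p ∣ Nat.card G) :
    Cfsg.kGeneratedCore p 1 (P : Subgroup G) ≤ Y ↔ LocCtrl Y (P : Subgroup G) := by
  have hP1 : (P : Subgroup G) ≠ ⊥ := P.ne_bot_of_dvd_card hdvd
  unfold Cfsg.kGeneratedCore
  constructor
  · intro h
    have key : ∀ Q : Subgroup G, Q ≤ (P : Subgroup G) → Q ≠ ⊥ → Subgroup.normalizer (Q : Set G) ≤ Y := by
      intro Q hQP hQ1
      have hnr : ¬ Cfsg.PRankLE p (1 - 1) Q :=
        not_pRankLE_zero_of_ne_bot Q (P.isPGroup'.to_le hQP) hQ1
      exact (le_iSup (fun Q : {Q : Subgroup G // Q ≤ (P : Subgroup G) ∧ ¬ Cfsg.PRankLE p (1 - 1) Q} =>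
        Subgroup.normalizer ((Q : Subgroup G) : Set G)) ⟨Q, hQP, hnr⟩).trans h
    exact ⟨Subgroup.le_normalizer.trans (key _ le_rfl hP1), key⟩
  · intro h
    apply iSup_le
    rintro ⟨Q, hQP, hQr⟩
    exact h.2 Q hQP (ne_bot_of_not_pRankLE_zero Q hQr)

theorem isStronglyPEmbedded_iff [Finite G] {p : ℕ} [Fact p.Prime] (Y : Subgroup G) :
    Cfsg.IsStronglyPEmbedded p Y ↔
      p ∣ Nat.card G ∧ Y ≠ ⊤ ∧ ∃ P : Sylow p G, LocCtrl Y (P : Subgroup G) := by
  unfold Cfsg.IsStronglyPEmbedded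
  constructor
  · rintro ⟨h1, h2, P, hP⟩
    exact ⟨h1, h2, P, (kGeneratedCore_one_le_iff P Y h1).mp hP⟩
  · rintro ⟨h1, h2, P, hP⟩
    exact ⟨h1, h2, P, (kGeneratedCore_one_le_iff P Y h1).mpr hP⟩

/-- If `p` divides the order of a subgroup `K`, then `K` contains a nontrivial `p`-subgroup. -/
theorem exists_pgroup_of_dvd_card [Finite G] {p : ℕ} [Fact p.Prime] (K : Subgroup G) (h : p ∣ Nat.card K) :
    ∃ D : Subgroup G, D ≤ K ∧ IsPGroup p D ∧ D ≠ ⊥ := by
  obtain ⟨a, ha⟩ := exists_prime_orderOf_dvd_card' p h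
  refine ⟨Subgroup.zpowers (a : G), ?_, ?_, ?_⟩
  · rw [Subgroup.zpowers_le]; exact a.2
  · apply IsPGroup.of_card (n := 1)
    rw [Nat.card_zpowers, Subgroup.orderOf_coe, ha, pow_one]
  · rw [Ne, Subgroup.zpowers_eq_bot]
    intro h1
    have : orderOf (a : G) = 1 := by rw [h1, orderOf_one]
    rw [Subgroup.orderOf_coe, ha] at this
    exact (Fact.out : p.Prime).one_lt.ne' this

/-- Classical consequence: a strongly `p`-embedded subgroup meets its conjugates by outside elements in `p'`-groups. -/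
theorem LocCtrl.not_dvd_card_inter [Finite G] {p : ℕ} [Fact p.Prime] {M : Subgroup G} {P : Sylow p G}
    (h : LocCtrl M (P : Subgroup G)) (g : G) (hg : g ∉ M) :
    ¬ p ∣ Nat.card ↥(M ⊓ M.map (MulAut.conj g).toMonoidHom) := by
  intro hd
  obtain ⟨D, hDK, hDp, hD1⟩ := exists_pgroup_of_dvd_card _ hd
  exact hg (h.mem_of_inter g D (hDK.trans inf_le_left) (hDK.trans inf_le_right) hDp hD1)

/-- If `M` has order divisible by `p` and contains the normalizer of each of its nontrivial `p`-subgroups, then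
`M` contains a Sylow `p`-subgroup of `G` and has local control over it. -/
theorem locCtrl_of_normalizers [Finite G] {p : ℕ} [Fact p.Prime] (M : Subgroup G) (hpM : p ∣ Nat.card M)
    (key : ∀ Q : Subgroup G, Q ≤ M → IsPGroup p Q → Q ≠ ⊥ → Subgroup.normalizer (Q : Set G) ≤ M) :
    ∃ P : Sylow p G, LocCtrl M (P : Subgroup G) := by
  obtain ⟨D, hDM, hDp, hD1⟩ := exists_pgroup_of_dvd_card M hpM
  obtain ⟨T, hDT, hTM, hTp, hTmax, -⟩ := exists_sylow_of_subgroup M D hDM hDp
  have hT1 : T ≠ ⊥ := fun hT => hD1 (eq_bot_iff.mpr (hT ▸ hDT))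
  obtain ⟨P₁, hTP₁⟩ := hTp.exists_le_sylow
  have hTeq : T = (P₁ : Subgroup G) := by
    by_contra hne
    obtain ⟨n, hnP, hnN, hnT⟩ := exists_mem_normalizer_not_mem (P₁ : Subgroup G) T P₁.isPGroup' hTP₁ hne
    set E := (P₁ : Subgroup G) ⊓ Subgroup.normalizer (T : Set G) with hE
    have hEM : E ≤ M := fun x hx => key T hTM hTp hT1 hx.2
    have hEp : IsPGroup p E := P₁.isPGroup'.to_le inf_le_left
    have hTE : T ≤ E := le_inf hTP₁ Subgroup.le_normalizer
    have := hTmax E hEM hEp hTE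
    apply hnT
    rw [← this]
    exact ⟨hnP, hnN⟩
  refine ⟨P₁, hTeq ▸ hTM, ?_⟩
  intro Q hQP hQ1
  exact key Q (hQP.trans (hTeq ▸ hTM)) (P₁.isPGroup'.to_le hQP) hQ1

/-- The classical condition implies that normalizers of nontrivial `p`-subgroups of `M` lie in `M`. -/
theorem normalizers_le_of_classical [Finite G] {p : ℕ} [Fact p.Prime] (M : Subgroup G)
    (hcl : ∀ g : G, g ∉ M → ¬ p ∣ Nat.card ↥(M ⊓ M.map (MulAut.conj g).toMonoidHom)) :
    ∀ Q : Subgroup G, Q ≤ M → IsPGroup p Q → Q ≠ ⊥ → Subgroup.normalizer (Q : Set G) ≤ M := by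
  intro Q hQM hQp hQ1 n hn
  by_contra hnM
  apply hcl n hnM
  have hQle : Q ≤ M ⊓ M.map (MulAut.conj n).toMonoidHom := by
    apply le_inf hQM
    intro x hx
    rw [mem_map_conj_iff]
    apply hQM
    have hn' : n⁻¹ ∈ Subgroup.normalizer (Q : Set G) := Subgroup.inv_mem _ hn
    have := (Subgroup.mem_normalizer_iff.mp hn' x).mp hx
    simpa using this
  have hnt : Nontrivial Q := (Subgroup.nontrivial_iff_ne_bot Q).mpr hQ1
  obtain ⟨k, hk0, hk⟩ := hQp.nontrivial_iff_card.mp hnt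
  have h1 : p ∣ Nat.card Q := by rw [hk]; exact dvd_pow_self p (Nat.pos_iff_ne_zero.mp hk0)
  exact h1.trans (Subgroup.card_dvd_of_le hQle)

/-- Converse: the classical condition gives local control for some Sylow subgroup. -/
theorem locCtrl_of_classical [Finite G] {p : ℕ} [Fact p.Prime] (M : Subgroup G) (hpM : p ∣ Nat.card M)
    (hcl : ∀ g : G, g ∉ M → ¬ p ∣ Nat.card ↥(M ⊓ M.map (MulAut.conj g).toMonoidHom)) :
    ∃ P : Sylow p G, LocCtrl M (P : Subgroup G) :=
  locCtrl_of_normalizers M hpM (normalizers_le_of_classical M hcl)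

/-- Transport of local control along conjugation of the Sylow subgroup. -/
theorem locCtrl_smul_iff [Finite G] {p : ℕ} [Fact p.Prime] (M : Subgroup G) (T : Sylow p G) (g : G)
    (hT1 : (T : Subgroup G) ≠ ⊥) :
    LocCtrl M ((g • T : Sylow p G) : Subgroup G) ↔
      ∀ A : Subgroup G, A ≤ (T : Subgroup G) → A ≠ ⊥ →
        (Subgroup.normalizer (A : Set G)).map (MulAut.conj g).toMonoidHom ≤ M := by
  constructor
  · intro h A hAT hA1
    rw [← normalizer_map_conj]
    apply h.2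
    · rw [map_conj_le_iff]
      intro x hx
      rw [sylow_mem_smul_iff]
      have : g⁻¹ * (g * x * g⁻¹) * g = x := by group
      rw [this]; exact hAT hx
    · exact map_conj_ne_bot A g hA1
  · intro h
    have key : ∀ Q : Subgroup G, Q ≤ ((g • T : Sylow p G) : Subgroup G) → Q ≠ ⊥ →
        Subgroup.normalizer (Q : Set G) ≤ M := by
      intro Q hQ hQ1
      have hA : Q.map (MulAut.conj g⁻¹).toMonoidHom ≤ (T : Subgroup G) := by
        rw [map_conj_le_iff]
        intro x hx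
        have := hQ hx
        rw [sylow_mem_smul_iff] at this
        simpa using this
      have := h _ hA (map_conj_ne_bot Q g⁻¹ hQ1)
      rw [← normalizer_map_conj, map_conj_map_conj] at this
      simpa [map_conj_one] using this
    have hP1 : ((g • T : Sylow p G) : Subgroup G) ≠ ⊥ := by
      rw [Sylow.coe_subgroup_smul]
      exact map_conj_ne_bot _ g hT1
    exact ⟨Subgroup.le_normalizer.trans (key _ le_rfl hP1), key⟩

end Cfsg.Agent.Helper5
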