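import Mathlib
import Cfsg.Prelude.Def_SylowChains
import Cfsg.Agent.Helper5.Basic
import Cfsg.Agent.Helper5.SylowSub
import Cfsg.Agent.Helper5.StrongEmb
import Cfsg.Agent.Helper5.SPE

/-!
Helper lemmas (helper5): the graph on Sylow `p`-subgroups (edges: distinct, meeting nontrivially),
and the equivalence between its disconnectedness and the existence of a strongly `p`-embedded subgroup.
-/

set_option autoImplicit false

namespace Cfsg.Agent.Helper5

open scoped Pointwise

variable {G : Type*} [Group G]

theorem card_map_conj'' (H : Subgroup G) (g : G) :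
    Nat.card ↥(MulAut.conj g • H) = Nat.card H :=
  Nat.card_congr (H.equivMapOfInjective _ (MulAut.conj g).injective).toEquiv.symm

/-- Adjacency of Sylow `p`-subgroups: distinct with nontrivial intersection. -/
def SylAdj (p : ℕ) (A B : Sylow p G) : Prop :=
  A ≠ B ∧ (A : Subgroup G) ⊓ (B : Subgroup G) ≠ ⊥

/-- Connectedness in the Sylow graph. -/
def SylConn (p : ℕ) (A B : Sylow p G) : Prop := Relation.ReflTransGen (SylAdj p) A B

theorem sylAdj_symm {p : ℕ} {A B : Sylow p G} (h : SylAdj p A B) : SylAdj p B A :=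
  ⟨h.1.symm, by rw [inf_comm]; exact h.2⟩

theorem sylAdj_smul {p : ℕ} (g : G) {A B : Sylow p G} (h : SylAdj p A B) : SylAdj p (g • A) (g • B) := by
  refine ⟨fun heq => h.1 (MulAction.injective g heq), ?_⟩
  obtain ⟨d, hd1⟩ := (Subgroup.ne_bot_iff_exists_ne_one).mp h.2
  intro hbot
  have hmem : g * (d : G) * g⁻¹ ∈ ((g • A : Sylow p G) : Subgroup G) ⊓ ((g • B : Sylow p G) : Subgroup G) := by
    have e : g⁻¹ * (g * (d : G) * g⁻¹) * g = d := by group
    refine Subgroup.mem_inf.mpr ⟨?_, ?_⟩
    · refine (sylow_mem_smul_iff A g _).mpr ?_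
      rw [e]; exact d.2.1
    · refine (sylow_mem_smul_iff B g _).mpr ?_
      rw [e]; exact d.2.2
  rw [hbot, Subgroup.mem_bot] at hmem
  apply hd1
  have : (d : G) = 1 := by
    have h2 : (d : G) = g⁻¹ * (g * (d : G) * g⁻¹) * g := by group
    rw [h2, hmem]; group
  exact Subtype.ext this

theorem sylConn_smul {p : ℕ} (g : G) {A B : Sylow p G} (h : SylConn p A B) : SylConn p (g • A) (g • B) := by
  induction h with
  | refl => exact Relation.ReflTransGen.refl
  | tail _ hBC ih => exact Relation.ReflTransGen.tail ih (sylAdj_smul g hBC)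

theorem sylConn_symm {p : ℕ} {A B : Sylow p G} (h : SylConn p A B) : SylConn p B A := by
  induction h with
  | refl => exact Relation.ReflTransGen.refl
  | tail _ hBC ih => exact Relation.ReflTransGen.head (sylAdj_symm hBC) ih

theorem sylConn_trans {p : ℕ} {A B C : Sylow p G} (h1 : SylConn p A B) (h2 : SylConn p B C) :
    SylConn p A C := Relation.ReflTransGen.trans h1 h2

/-- A path in the Sylow graph gives a chain in the sense of `Cfsg.IsSylowChainConnected` (without the
containment clause). -/
theorem chain_of_sylConn {p : ℕ} {S T : Sylow p G} (h : SylConn p S T) :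
    ∃ (n : ℕ) (c : Fin (n + 1) → Sylow p G), c 0 = S ∧ c (Fin.last n) = T ∧
      ∀ i : Fin n, c i.castSucc ≠ c i.succ ∧ (c i.castSucc : Subgroup G) ⊓ (c i.succ : Subgroup G) ≠ ⊥ := by
  induction h with
  | refl => exact ⟨0, fun _ => S, rfl, rfl, fun i => i.elim0⟩
  | @tail B C _ hBC ih =>
    obtain ⟨n, c, h0, hl, hadj⟩ := ih
    refine ⟨n + 1, Fin.snoc c C, ?_, ?_, ?_⟩
    · have : (0 : Fin (n + 2)) = Fin.castSucc (0 : Fin (n + 1)) := rfl
      rw [this, Fin.snoc_castSucc]; exact h0
    · exact Fin.snoc_last _ _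
    · intro i
      refine Fin.lastCases ?_ (fun j => ?_) i
      · have h1 : (Fin.snoc c C : Fin (n + 2) → Sylow p G) (Fin.last n).castSucc = B := by
          rw [Fin.snoc_castSucc]; exact hl
        have h2 : (Fin.snoc c C : Fin (n + 2) → Sylow p G) (Fin.last n).succ = C := by
          rw [Fin.succ_last]; exact Fin.snoc_last _ _
        rw [h1, h2]
        exact hBC
      · have h1 : (Fin.snoc c C : Fin (n + 2) → Sylow p G) j.castSucc.castSucc = c j.castSucc := by
          rw [Fin.snoc_castSucc]
        have h2 : (Fin.snoc c C : Fin (n + 2) → Sylow p G) j.castSucc.succ = c j.succ := by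
          rw [← Fin.castSucc_succ, Fin.snoc_castSucc]
        rw [h1, h2]
        exact hadj j

/-- Chain-connectedness follows from connectedness of the Sylow graph. -/
theorem isSylowChainConnected_of_sylConn {p : ℕ} (h : ∀ S T : Sylow p G, SylConn p S T) :
    Cfsg.IsSylowChainConnected p G := by
  intro S T
  by_cases hST : S = T
  · subst hST
    exact ⟨0, fun _ => S, rfl, rfl, fun _ => inf_le_left, fun i => i.elim0⟩
  by_cases hint : (S : Subgroup G) ⊓ (T : Subgroup G) = ⊥
  · obtain ⟨n, c, h0, hl, hadj⟩ := chain_of_sylConn (h S T)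
    exact ⟨n, c, h0, hl, fun i => by rw [hint]; exact bot_le, hadj⟩
  · refine ⟨1, ![S, T], rfl, rfl, ?_, ?_⟩
    · intro i
      fin_cases i
      · exact inf_le_left
      · exact inf_le_right
    · intro i
      fin_cases i
      exact ⟨hST, hint⟩

/-- The stabilizer of the connected component of `S` in the Sylow graph. -/
def sylCompStab (p : ℕ) (S : Sylow p G) : Subgroup G where
  carrier := {g | SylConn p S (g • S)}
  one_mem' := by
    show SylConn p S ((1 : G) • S)
    rw [one_smul]; exact Relation.ReflTransGen.refl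
  mul_mem' := by
    intro a b ha hb
    show SylConn p S ((a * b) • S)
    have h1 : SylConn p (a • S) (a • b • S) := sylConn_smul a hb
    rw [← mul_smul] at h1
    exact sylConn_trans ha h1
  inv_mem' := by
    intro a ha
    show SylConn p S (a⁻¹ • S)
    have h1 : SylConn p (a⁻¹ • S) (a⁻¹ • a • S) := sylConn_smul a⁻¹ ha
    rw [inv_smul_smul] at h1
    exact sylConn_symm h1

theorem mem_sylCompStab_iff {p : ℕ} (S : Sylow p G) (g : G) :
    g ∈ sylCompStab p S ↔ SylConn p S (g • S) := Iff.rfl

theorem le_sylCompStab {p : ℕ} (S : Sylow p G) : (S : Subgroup G) ≤ sylCompStab p S := by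
  intro s hs
  rw [mem_sylCompStab_iff]
  have : s • S = S := Sylow.smul_eq_iff_mem_normalizer.mpr (Subgroup.le_normalizer hs)
  rw [this]
  exact Relation.ReflTransGen.refl

/-- Every Sylow subgroup containing a nontrivial `p`-subgroup of the component stabilizer lies in the component. -/
theorem sylConn_of_le_sylCompStab [Finite G] {p : ℕ} [Fact p.Prime] (S : Sylow p G) (D : Subgroup G)
    (hDH : D ≤ sylCompStab p S) (hD : IsPGroup p D) (hD1 : D ≠ ⊥) (A : Sylow p G)
    (hDA : D ≤ (A : Subgroup G)) : SylConn p S A := by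
  obtain ⟨h, hhH, hh⟩ := exists_conj_le_sylow_of_le S (sylCompStab p S) (le_sylCompStab S) D hDH hD
  have hB : SylConn p S (h⁻¹ • S) := (sylCompStab p S).inv_mem hhH
  have hDB : D ≤ ((h⁻¹ • S : Sylow p G) : Subgroup G) := by
    intro x hx
    refine (sylow_mem_smul_iff S h⁻¹ x).mpr ?_
    simpa using hh x hx
  by_cases hAB : h⁻¹ • S = A
  · rw [← hAB]; exact hB
  · refine Relation.ReflTransGen.tail hB ⟨hAB, ?_⟩
    intro hbot
    apply hD1
    rw [eq_bot_iff, ← hbot]
    exact le_inf hDB hDA

/-- If the Sylow graph is disconnected, the stabilizer of a component is strongly `p`-embedded in the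
classical sense. -/
theorem exists_classical_of_not_sylConn [Finite G] {p : ℕ} [Fact p.Prime] (S T : Sylow p G)
    (h : ¬ SylConn p S T) :
    ∃ H : Subgroup G, H ≠ ⊤ ∧ p ∣ Nat.card H ∧
      ∀ g : G, g ∉ H → ¬ p ∣ Nat.card ↥(H ⊓ H.map (MulAut.conj g).toMonoidHom) := by
  have hp : p.Prime := Fact.out
  refine ⟨sylCompStab p S, ?_, ?_, ?_⟩
  · intro htop
    obtain ⟨g, hg⟩ := MulAction.exists_smul_eq G S T
    apply h
    rw [← hg]
    have : g ∈ sylCompStab p S := by rw [htop]; exact Subgroup.mem_top g
    exact this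
  · have hS1 : (S : Subgroup G) ≠ ⊥ := by
      intro hS
      apply h
      have hcard : Nat.card (T : Subgroup G) = Nat.card (S : Subgroup G) := by
        obtain ⟨g, hg⟩ := MulAction.exists_smul_eq G S T
        rw [← hg, Sylow.coe_subgroup_smul]
        exact card_map_conj'' (S : Subgroup G) g
      have hT : (T : Subgroup G) = ⊥ := by
        apply Subgroup.eq_bot_of_card_eq
        rw [hcard, hS]
        exact Subgroup.card_bot
      have : S = T := Sylow.ext (by rw [hS, hT])
      rw [this]
      exact Relation.ReflTransGen.refl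
    have hnt : Nontrivial (S : Subgroup G) := (Subgroup.nontrivial_iff_ne_bot _).mpr hS1
    obtain ⟨k, hk0, hk⟩ := S.isPGroup'.nontrivial_iff_card.mp hnt
    have h1 : p ∣ Nat.card (S : Subgroup G) := by
      rw [hk]; exact dvd_pow_self p (Nat.pos_iff_ne_zero.mp hk0)
    exact h1.trans (Subgroup.card_dvd_of_le (le_sylCompStab S))
  · intro g hg hdvd
    apply hg
    obtain ⟨D, hDK, hDp, hD1⟩ := exists_pgroup_of_dvd_card _ hdvd
    obtain ⟨A, hDA⟩ := hDp.exists_le_sylow
    have hSA : SylConn p S A := sylConn_of_le_sylCompStab S D (hDK.trans inf_le_left) hDp hD1 A hDA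
    -- the conjugate D' = g⁻¹ D g
    have hD'H : D.map (MulAut.conj g⁻¹).toMonoidHom ≤ sylCompStab p S := by
      rw [map_conj_le_iff]
      intro x hx
      have h3 : x ∈ (sylCompStab p S).map (MulAut.conj g).toMonoidHom := (hDK hx).2
      have h4 := (mem_map_conj_iff _ g x).mp h3
      simpa using h4
    have hD'A : D.map (MulAut.conj g⁻¹).toMonoidHom ≤ ((g⁻¹ • A : Sylow p G) : Subgroup G) := by
      rw [map_conj_le_iff]
      intro x hx
      refine (sylow_mem_smul_iff A g⁻¹ _).mpr ?_
      have e : g⁻¹⁻¹ * (g⁻¹ * x * g⁻¹⁻¹) * g⁻¹ = x := by group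
      rw [e]; exact hDA hx
    have hSA' : SylConn p S (g⁻¹ • A) :=
      sylConn_of_le_sylCompStab S _ hD'H (hDp.map _) (map_conj_ne_bot D g⁻¹ hD1) _ hD'A
    have h2 : SylConn p (g • S) (g • g⁻¹ • A) := sylConn_smul g hSA'
    rw [smul_inv_smul] at h2
    rw [mem_sylCompStab_iff]
    exact sylConn_trans hSA (sylConn_symm h2)

/-- A proper subgroup with local control over a nontrivial Sylow `p`-subgroup prevents chain-connectedness. -/
theorem not_isSylowChainConnected_of_locCtrl [Finite G] {p : ℕ} [Fact p.Prime] (H : Subgroup G)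
    (hH : H ≠ ⊤) (P : Sylow p G) (hP1 : (P : Subgroup G) ≠ ⊥) (hP : LocCtrl H (P : Subgroup G)) :
    ¬ Cfsg.IsSylowChainConnected p G := by
  intro hcc
  apply hH
  rw [eq_top_iff]
  intro g _
  obtain ⟨n, c, h0, hlast, -, hadj⟩ := hcc P (g • P)
  have hall : ∀ i : Fin (n + 1), ((c i : Sylow p G) : Subgroup G) ≤ H := by
    intro i
    induction i using Fin.induction with
    | zero => rw [h0]; exact hP.1
    | succ i ih =>
      exact hP.le_of_le ((c i.castSucc : Subgroup G) ⊓ (c i.succ : Subgroup G)) _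
        (inf_le_left.trans ih) (hadj i).2 inf_le_right (c i.succ).isPGroup'
  have hgP : ((g • P : Sylow p G) : Subgroup G) ≤ H := by
    have := hall (Fin.last n)
    rwa [hlast] at this
  rw [Sylow.coe_subgroup_smul] at hgP
  exact hP.mem_of_inter g ((P : Subgroup G).map (MulAut.conj g).toMonoidHom) hgP
    (Subgroup.map_mono hP.1) (P.isPGroup'.map _) (map_conj_ne_bot _ g hP1)

end Cfsg.Agent.Helper5
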