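import Mathlib
import Cfsg.Agent.Helper5.Basic
import Cfsg.Agent.Helper5.Misc

/-!
Helper lemmas (helper5): ingredients for "generation by centralizers" under coprime action of a
noncyclic abelian group.
-/

set_option autoImplicit false

namespace Cfsg.Agent.Helper5

/-- The averaging lemma: an action of `(ℤ/p)²` on a finite abelian group `V` of order prime to `p`, in which
every nonzero vector acts without nontrivial fixed points, forces `V = 1`. -/
theorem trivial_of_fixedPointFree_sq {V : Type*} [CommGroup V] [Finite V] {p : ℕ} [Fact p.Prime]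
    (hcop : (Nat.card V).Coprime p) (act : ZMod p → ZMod p → (V →* V))
    (hadd : ∀ s t s' t' : ZMod p, act (s + s') (t + t') = (act s t).comp (act s' t'))
    (h0 : act 0 0 = MonoidHom.id V)
    (hfix : ∀ s t : ZMod p, (s ≠ 0 ∨ t ≠ 0) → ∀ v : V, act s t v = v → v = 1) :
    ∀ v : V, v = 1 := by
  classical
  have hp : p.Prime := Fact.out
  -- the norm along the direction (s,t)
  have hnorm : ∀ s t : ZMod p, (s ≠ 0 ∨ t ≠ 0) → ∀ v : V, ∏ j : ZMod p, act (j * s) (j * t) v = 1 := by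
    intro s t hst v
    apply hfix s t hst
    rw [map_prod]
    have h1 : ∀ j : ZMod p, act s t (act (j * s) (j * t) v) = act ((j + 1) * s) ((j + 1) * t) v := by
      intro j
      have : act ((j + 1) * s) ((j + 1) * t) = (act s t).comp (act (j * s) (j * t)) := by
        rw [← hadd]; congr 1 <;> ring
      rw [this]; rfl
    simp_rw [h1]
    exact Fintype.prod_equiv (Equiv.addRight (1 : ZMod p)) _ _ (fun j => rfl)
  intro v
  -- the double product
  have hdouble : ∏ i : ZMod p, ∏ j : ZMod p, act (j * 1) (j * i) v = 1 := by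
    apply Finset.prod_eq_one
    intro i _
    exact hnorm 1 i (Or.inl one_ne_zero) v
  rw [Finset.prod_comm] at hdouble
  have hj : ∀ j : ZMod p, j ≠ 0 → ∏ i : ZMod p, act (j * 1) (j * i) v = 1 := by
    intro j hj
    have h1 : ∀ i : ZMod p, act (j * 1) (j * i) v = act j 0 (act 0 (j * i) v) := by
      intro i
      have : act (j * 1) (j * i) = (act j 0).comp (act 0 (j * i)) := by
        rw [← hadd]; congr 1 <;> ring
      rw [this]; rfl
    simp_rw [h1]
    rw [← map_prod]
    have h2 : ∏ i : ZMod p, act 0 (j * i) v = ∏ i : ZMod p, act 0 i v :=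
      Fintype.prod_equiv (Equiv.mulLeft₀ j hj) _ _ (fun i => rfl)
    have h3 : ∏ i : ZMod p, act 0 i v = 1 := by
      have := hnorm 0 1 (Or.inr one_ne_zero) v
      simpa using this
    rw [h2, h3, map_one]
  rw [Finset.prod_eq_single (0 : ZMod p) (fun j _ hj0 => hj j hj0) (fun h => absurd (Finset.mem_univ _) h)] at hdouble
  simp only [zero_mul, h0, MonoidHom.id_apply, Finset.prod_const, Finset.card_univ, ZMod.card] at hdouble
  -- v ^ p = 1 and coprimality
  have h4 : orderOf v ∣ p := orderOf_dvd_of_pow_eq_one hdouble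
  have h5 : orderOf v ∣ Nat.card V := orderOf_dvd_natCard v
  have h6 : orderOf v = 1 := Nat.eq_one_of_dvd_coprimes hcop h5 h4
  exact orderOf_eq_one_iff.mp h6

/-- A finite noncyclic commutative group contains a copy of `(ℤ/q)²` for some prime `q`. -/
theorem exists_rank_two_of_not_isCyclic {B : Type*} [CommGroup B] [Finite B] (hB : ¬ IsCyclic B) :
    ∃ q : ℕ, q.Prime ∧ ∃ a b : B, a ^ q = 1 ∧ b ^ q = 1 ∧
      ∀ s t : ℕ, a ^ s * b ^ t = 1 → q ∣ s ∧ q ∣ t := by
  classical
  set m := Monoid.exponent B with hm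
  have hm0 : m ≠ 0 := Monoid.exponent_ne_zero_of_finite
  obtain ⟨a, ha⟩ := Monoid.exists_orderOf_eq_exponent (G := B) (Monoid.ExponentExists.of_finite)
  set Z := Subgroup.zpowers a with hZ
  have hZtop : Z ≠ ⊤ := by
    intro h
    exact hB ⟨a, fun x => by have : x ∈ Z := h ▸ Subgroup.mem_top x; exact this⟩
  have hnt : Nontrivial (B ⧸ Z) := by
    rw [QuotientGroup.nontrivial_iff]; exact hZtop
  have hcard1 : Nat.card (B ⧸ Z) ≠ 1 := by
    intro h1
    have := (Nat.card_eq_one_iff_unique.mp h1).1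
    exact not_subsingleton (B ⧸ Z) this
  obtain ⟨q, hq, hqd⟩ := Nat.exists_prime_and_dvd hcard1
  have : Fact q.Prime := ⟨hq⟩
  obtain ⟨xbar, hxbar⟩ := exists_prime_orderOf_dvd_card' q hqd
  obtain ⟨b₀, rfl⟩ := QuotientGroup.mk_surjective xbar
  have hb₀Z : b₀ ∉ Z := by
    intro h
    have : ((b₀ : B) : B ⧸ Z) = 1 := (QuotientGroup.eq_one_iff b₀).mpr h
    rw [this, orderOf_one] at hxbar
    exact hq.one_lt.ne hxbar
  have hb₀q : b₀ ^ q ∈ Z := by
    rw [← QuotientGroup.eq_one_iff, QuotientGroup.mk_pow, ← hxbar]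
    exact pow_orderOf_eq_one _
  have hqm : q ∣ m := by
    rw [← hxbar]
    apply orderOf_dvd_of_pow_eq_one
    rw [← QuotientGroup.mk_pow, hm, Monoid.pow_exponent_eq_one]
    rfl
  obtain ⟨m', hm'⟩ := hqm
  have hm'0 : m' ≠ 0 := by
    rintro rfl; rw [mul_zero] at hm'; exact hm0 hm'
  obtain ⟨r, hr⟩ := Subgroup.mem_zpowers_iff.mp hb₀q
  -- q ∣ r
  have hqr : (q : ℤ) ∣ r := by
    have h1 : (b₀ ^ q) ^ m' = 1 := by
      rw [← pow_mul, ← hm', hm, Monoid.pow_exponent_eq_one]
    rw [← hr, ← zpow_natCast, ← zpow_mul] at h1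
    have h2 : (orderOf a : ℤ) ∣ r * (m' : ℤ) := orderOf_dvd_iff_zpow_eq_one.mpr h1
    rw [ha, ← hm, hm'] at h2
    push_cast at h2
    have h3 : (q : ℤ) * (m' : ℤ) ∣ r * (m' : ℤ) := h2
    exact Int.dvd_of_mul_dvd_mul_right (by exact_mod_cast hm'0) h3
  obtain ⟨r', hr'⟩ := hqr
  set b := b₀ * a ^ (-r') with hb
  have hbq : b ^ q = 1 := by
    rw [hb, mul_pow, ← hr, ← zpow_natCast (a ^ (-r')), ← zpow_mul, hr', ← zpow_add]
    have : (q : ℤ) * r' + -r' * (q : ℤ) = 0 := by ring
    rw [this, zpow_zero]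
  have hbZ : b ∉ Z := by
    intro h
    apply hb₀Z
    have : b₀ = b * a ^ r' := by rw [hb, mul_assoc, ← zpow_add]; simp
    rw [this]
    exact Z.mul_mem h (Subgroup.zpow_mem _ (Subgroup.mem_zpowers a) _)
  refine ⟨q, hq, a ^ m', b, ?_, hbq, ?_⟩
  · rw [← pow_mul, mul_comm, ← hm', hm, Monoid.pow_exponent_eq_one]
  · intro s t hst
    have hbt : b ^ t ∈ Z := by
      have : b ^ t = ((a ^ m') ^ s)⁻¹ := eq_inv_of_mul_eq_one_right hst
      rw [this]
      exact Z.inv_mem (Subgroup.pow_mem _ (Subgroup.pow_mem _ (Subgroup.mem_zpowers a) _) _)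
    have hqt : q ∣ t := by
      by_contra hnd
      apply hbZ
      have hcop : t.Coprime q := ((Nat.Prime.coprime_iff_not_dvd hq).mpr hnd).symm
      exact mem_of_pow_mem_of_coprime Z b t q hcop hbt (by rw [hbq]; exact Z.one_mem)
    refine ⟨?_, hqt⟩
    obtain ⟨t', rfl⟩ := hqt
    rw [pow_mul, hbq, one_pow, mul_one, ← pow_mul] at hst
    have h1 : orderOf a ∣ m' * s := orderOf_dvd_of_pow_eq_one hst
    rw [ha, ← hm, hm'] at h1
    have h2 : m' * q ∣ m' * s := by rwa [mul_comm m' q]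
    exact Nat.dvd_of_mul_dvd_mul_left (Nat.pos_of_ne_zero hm'0) h2

end Cfsg.Agent.Helper5
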