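import Mathlib
import Cfsg.Agent.Helper1.Coprime
import Cfsg.Agent.Helper1.SylowInt
import Cfsg.Agent.Helper1.AbelianAct
import Cfsg.Agent.Helper5.Basic
import Cfsg.Agent.Helper5.Misc
import Cfsg.Agent.Helper5.AxB
import Cfsg.Agent.Helper5.Generation

/-!
Helper lemmas (helper5): generation by centralizers under coprime action of `(ℤ/p)²`.
-/

set_option autoImplicit false

namespace Cfsg.Agent.Helper5

open scoped commutatorElement

variable {G : Type*} [Group G]

/-- The element `a^s b^t` for `s t : ZMod p`. -/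
def abPow (p : ℕ) (a b : G) (s t : ZMod p) : G := a ^ s.val * b ^ t.val

theorem pow_val_add {p : ℕ} [Fact p.Prime] (a : G) (hap : a ^ p = 1) (s s' : ZMod p) :
    a ^ (s + s').val = a ^ s.val * a ^ s'.val := by
  rw [ZMod.val_add, ← pow_add, ← pow_eq_pow_mod _ hap]

theorem abPow_add {p : ℕ} [Fact p.Prime] (a b : G) (hab : a * b = b * a) (hap : a ^ p = 1)
    (hbp : b ^ p = 1) (s t s' t' : ZMod p) :
    abPow p a b (s + s') (t + t') = abPow p a b s t * abPow p a b s' t' := by
  unfold abPow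
  rw [pow_val_add a hap, pow_val_add b hbp]
  have hc : Commute a b := hab
  have h1 : Commute (b ^ t.val) (a ^ s'.val) := (hc.pow_pow s'.val t.val).symm
  calc a ^ s.val * a ^ s'.val * (b ^ t.val * b ^ t'.val)
      = a ^ s.val * (a ^ s'.val * b ^ t.val) * b ^ t'.val := by group
    _ = a ^ s.val * (b ^ t.val * a ^ s'.val) * b ^ t'.val := by rw [h1.eq]
    _ = a ^ s.val * b ^ t.val * (a ^ s'.val * b ^ t'.val) := by group

theorem abPow_zero {p : ℕ} [Fact p.Prime] (a b : G) : abPow p a b 0 0 = 1 := by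
  unfold abPow; simp

theorem abPow_mem {p : ℕ} (A : Subgroup G) (a b : G) (ha : a ∈ A) (hb : b ∈ A) (s t : ZMod p) :
    abPow p a b s t ∈ A :=
  A.mul_mem (A.pow_mem ha _) (A.pow_mem hb _)

/-- The subgroup generated by the fixed points on `K` of the nonidentity elements `a^s b^t`. -/
def genCent (p : ℕ) (a b : G) (K : Subgroup G) : Subgroup G :=
  ⨆ st : {st : ZMod p × ZMod p // st.1 ≠ 0 ∨ st.2 ≠ 0},
    K ⊓ Subgroup.centralizer {abPow p a b st.1.1 st.1.2}

theorem genCent_le (p : ℕ) (a b : G) (K : Subgroup G) : genCent p a b K ≤ K :=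
  iSup_le fun _ => inf_le_left

theorem genCent_mono (p : ℕ) (a b : G) {K L : Subgroup G} (h : K ≤ L) :
    genCent p a b K ≤ genCent p a b L :=
  iSup_mono fun _ => inf_le_inf_right _ h

theorem centralizer_le_genCent (p : ℕ) (a b : G) (K : Subgroup G) (s t : ZMod p) (hst : s ≠ 0 ∨ t ≠ 0) :
    K ⊓ Subgroup.centralizer {abPow p a b s t} ≤ genCent p a b K :=
  le_iSup (fun st : {st : ZMod p × ZMod p // st.1 ≠ 0 ∨ st.2 ≠ 0} =>
    K ⊓ Subgroup.centralizer {abPow p a b st.1.1 st.1.2}) ⟨(s, t), hst⟩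

/-- An element normalizing `K` and commuting with `a` and `b` normalizes `genCent`. -/
theorem mem_normalizer_genCent [Finite G] (p : ℕ) (a b : G) (K : Subgroup G) (x : G)
    (hxK : x ∈ Subgroup.normalizer (K : Set G)) (hxa : x * a = a * x) (hxb : x * b = b * x) :
    x ∈ Subgroup.normalizer ((genCent p a b K : Subgroup G) : Set G) := by
  apply mem_normalizer_of_conj_mem
  have hle : (genCent p a b K).map (MulAut.conj x).toMonoidHom ≤ genCent p a b K := by
    unfold genCent
    rw [Subgroup.map_iSup]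
    apply iSup_le
    intro st
    refine le_trans ?_ (le_iSup (fun st : {st : ZMod p × ZMod p // st.1 ≠ 0 ∨ st.2 ≠ 0} =>
      K ⊓ Subgroup.centralizer {abPow p a b st.1.1 st.1.2}) st)
    rintro _ ⟨y, hy, rfl⟩
    have hyK : y ∈ K := hy.1
    have hyc : y ∈ Subgroup.centralizer {abPow p a b st.1.1 st.1.2} := hy.2
    refine Subgroup.mem_inf.mpr ⟨(Subgroup.mem_normalizer_iff.mp hxK y).mp hyK, ?_⟩
    rw [Subgroup.mem_centralizer_singleton_iff] at hyc ⊢
    have hxe : Commute x (abPow p a b st.1.1 st.1.2) := by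
      unfold abPow
      exact ((show Commute x a from hxa).pow_right _).mul_right ((show Commute x b from hxb).pow_right _)
    simp only [MulEquiv.coe_toMonoidHom, MulAut.conj_apply]
    calc x * y * x⁻¹ * abPow p a b st.1.1 st.1.2
        = x * (y * abPow p a b st.1.1 st.1.2) * x⁻¹ := by
          have := hxe.eq
          calc x * y * x⁻¹ * abPow p a b st.1.1 st.1.2
              = x * y * x⁻¹ * (abPow p a b st.1.1 st.1.2 * x) * x⁻¹ := by group
            _ = x * y * x⁻¹ * (x * abPow p a b st.1.1 st.1.2) * x⁻¹ := by rw [this]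
            _ = x * (y * abPow p a b st.1.1 st.1.2) * x⁻¹ := by group
      _ = x * (abPow p a b st.1.1 st.1.2 * y) * x⁻¹ := by rw [hyc]
      _ = abPow p a b st.1.1 st.1.2 * (x * y * x⁻¹) := by
          have := hxe.eq
          calc x * (abPow p a b st.1.1 st.1.2 * y) * x⁻¹
              = (x * abPow p a b st.1.1 st.1.2) * y * x⁻¹ := by group
            _ = (abPow p a b st.1.1 st.1.2 * x) * y * x⁻¹ := by rw [this]
            _ = abPow p a b st.1.1 st.1.2 * (x * y * x⁻¹) := by group
  intro y hy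
  exact hle ⟨y, hy, rfl⟩

/-- The set of `x` normalizing `Y` with `x k x⁻¹ k⁻¹ ∈ Y`, as a subgroup. -/
def cosetStab (Y : Subgroup G) (k : G) : Subgroup G where
  carrier := {x | x ∈ Subgroup.normalizer (Y : Set G) ∧ x * k * x⁻¹ * k⁻¹ ∈ Y}
  one_mem' := ⟨Subgroup.one_mem _, by simp⟩
  mul_mem' := by
    rintro x x' ⟨hx, hxk⟩ ⟨hx', hx'k⟩
    refine ⟨Subgroup.mul_mem _ hx hx', ?_⟩
    have h1 : x * (x' * k * x'⁻¹ * k⁻¹) * x⁻¹ ∈ Y := (Subgroup.mem_normalizer_iff.mp hx _).mp hx'k
    have h2 : x * x' * k * (x * x')⁻¹ * k⁻¹ = (x * (x' * k * x'⁻¹ * k⁻¹) * x⁻¹) * (x * k * x⁻¹ * k⁻¹) := by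
      group
    rw [h2]
    exact Y.mul_mem h1 hxk
  inv_mem' := by
    rintro x ⟨hx, hxk⟩
    refine ⟨Subgroup.inv_mem _ hx, ?_⟩
    have h1 : x⁻¹ * (x * k * x⁻¹ * k⁻¹)⁻¹ * x⁻¹⁻¹ ∈ Y :=
      (Subgroup.mem_normalizer_iff.mp (Subgroup.inv_mem _ hx) _).mp (Y.inv_mem hxk)
    have h2 : x⁻¹ * k * x⁻¹⁻¹ * k⁻¹ = x⁻¹ * (x * k * x⁻¹ * k⁻¹)⁻¹ * x⁻¹⁻¹ := by group
    rw [h2]
    exact h1

/-- The quotient step: if `K' ≤ genCent K` then `K = genCent K`. -/
theorem le_genCent_of_commutator_le [Finite G] {p : ℕ} [Fact p.Prime] (A K : Subgroup G)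
    [hAc : IsMulCommutative A] (a b : G) (ha : a ∈ A) (hb : b ∈ A) (hap : a ^ p = 1) (hbp : b ^ p = 1)
    (hind : ∀ s t : ZMod p, abPow p a b s t = 1 → s = 0 ∧ t = 0)
    (hAK : A ≤ Subgroup.normalizer (K : Set G)) (hcop : (Nat.card A).Coprime (Nat.card K))
    (hK' : ⁅K, K⁆ ≤ genCent p a b K) : K ≤ genCent p a b K := by
  have hp : p.Prime := Fact.out
  have hcomm : ∀ x ∈ A, ∀ y ∈ A, x * y = y * x := by
    intro x hx y hy
    exact congrArg Subtype.val (hAc.is_comm.comm ⟨x, hx⟩ ⟨y, hy⟩)
  have hab : a * b = b * a := hcomm a ha b hb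
  set Y := genCent p a b K with hY
  have hYK : Y ≤ K := genCent_le p a b K
  have hAY : A ≤ Subgroup.normalizer (Y : Set G) := by
    intro x hx
    exact mem_normalizer_genCent p a b K x (hAK hx) (hcomm x hx a ha) (hcomm x hx b hb)
  have hKY : K ≤ Subgroup.normalizer (Y : Set G) := by
    apply le_normalizer_of_conj_mem
    intro k hk y hy
    have h1 : ⁅k, y⁆ ∈ Y := hK' (Subgroup.commutator_mem_commutator hk (hYK hy))
    have h2 : k * y * k⁻¹ = ⁅k, y⁆ * y := by rw [commutatorElement_def]; group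
    rw [h2]
    exact Y.mul_mem h1 hy
  -- p divides |A| hence is coprime to |K|
  have ha1 : a ≠ 1 := by
    intro h
    have := (hind 1 0 (by unfold abPow; simp [h])).1
    exact one_ne_zero this
  have hpA : p ∣ Nat.card A := by
    have h1 : orderOf a = p := orderOf_eq_prime hap ha1
    have h2 : orderOf (⟨a, ha⟩ : A) = p := by rw [← h1, Subgroup.orderOf_mk]
    rw [← h2]
    exact orderOf_dvd_natCard _
  have hcopK : (Nat.card K).Coprime p := (hcop.coprime_dvd_left hpA).symm
  have hAsolv : Group.IsSolvable A := Cfsg.Agent.Helper1.isSolvable_of_isMulCommutative A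
  -- the quotient
  set Yk : Subgroup ↥K := Y.subgroupOf K with hYk
  have hYkn : Yk.Normal := (Subgroup.normal_subgroupOf_iff_le_normalizer hYK).mpr hKY
  let instCG : CommGroup (↥K ⧸ Yk) :=
    { (QuotientGroup.Quotient.group Yk) with
      mul_comm := by
        intro x y
        refine QuotientGroup.induction_on x ?_
        intro k
        refine QuotientGroup.induction_on y ?_
        intro l
        rw [← QuotientGroup.mk_mul, ← QuotientGroup.mk_mul, QuotientGroup.eq]
        rw [hYk, Subgroup.mem_subgroupOf]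
        apply hK'
        have h1 : (((k * l)⁻¹ * (l * k) : ↥K) : G) = ⁅(l : G)⁻¹, (k : G)⁻¹⁆ := by
          rw [commutatorElement_def]
          simp only [Subgroup.coe_mul, Subgroup.coe_inv]
          group
        rw [h1]
        exact Subgroup.commutator_mem_commutator (K.inv_mem l.2) (K.inv_mem k.2) }
  -- the maps
  have hf : ∀ (e : G) (he : e ∈ A), Yk ≤ Yk.comap (Cfsg.Agent.Helper1.conjOn A K hAK ⟨e, he⟩) := by
    intro e he y hy
    rw [Subgroup.mem_comap, hYk, Subgroup.mem_subgroupOf, Cfsg.Agent.Helper1.conjOn_coe]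
    exact (Subgroup.mem_normalizer_iff.mp (hAY he) _).mp (Subgroup.mem_subgroupOf.mp hy)
  set act : ZMod p → ZMod p → ((↥K ⧸ Yk) →* (↥K ⧸ Yk)) := fun s t =>
    QuotientGroup.map Yk Yk (Cfsg.Agent.Helper1.conjOn A K hAK ⟨abPow p a b s t, abPow_mem A a b ha hb s t⟩)
      (hf _ _) with hact
  have hall : ∀ v : ↥K ⧸ Yk, v = 1 := by
    apply trivial_of_fixedPointFree_sq (p := p) _ act
    · -- additivity
      intro s t s' t'
      apply MonoidHom.ext
      intro v
      refine QuotientGroup.induction_on v ?_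
      intro k
      simp only [hact, MonoidHom.comp_apply, QuotientGroup.map_mk]
      congr 1
      apply Subtype.ext
      simp only [Cfsg.Agent.Helper1.conjOn_coe]
      rw [abPow_add a b hab hap hbp]
      group
    · apply MonoidHom.ext
      intro v
      refine QuotientGroup.induction_on v ?_
      intro k
      simp only [hact, QuotientGroup.map_mk, MonoidHom.id_apply]
      congr 1
      apply Subtype.ext
      simp only [Cfsg.Agent.Helper1.conjOn_coe]
      rw [abPow_zero]
      group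
    · -- fixed points
      intro s t hst v
      refine QuotientGroup.induction_on v ?_
      intro k hk
      simp only [hact, QuotientGroup.map_mk] at hk
      rw [QuotientGroup.eq] at hk
      rw [hYk, Subgroup.mem_subgroupOf] at hk
      set e := abPow p a b s t with he
      have heA : e ∈ A := abPow_mem A a b ha hb s t
      have hk0 : (e * (k : G) * e⁻¹)⁻¹ * (k : G) ∈ Y := hk
      have hk' : (k : G)⁻¹ * (e * (k : G) * e⁻¹) ∈ Y := by
        have h0 := Y.inv_mem hk0
        have h00 : ((e * (k : G) * e⁻¹)⁻¹ * (k : G))⁻¹ = (k : G)⁻¹ * (e * (k : G) * e⁻¹) := by group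
        rwa [h00] at h0
      -- e k e⁻¹ k⁻¹ ∈ Y
      have hk'' : e * (k : G) * e⁻¹ * (k : G)⁻¹ ∈ Y := by
        have h1 := (Subgroup.mem_normalizer_iff.mp (hKY k.2) _).mp hk'
        have h2 : (k : G) * ((k : G)⁻¹ * (e * (k : G) * e⁻¹)) * (k : G)⁻¹ = e * (k : G) * e⁻¹ * (k : G)⁻¹ := by
          group
        rwa [h2] at h1
      have hZS : Subgroup.zpowers e ≤ cosetStab Y (k : G) := by
        rw [Subgroup.zpowers_le]
        exact ⟨hAY heA, hk''⟩
      have hZA : Subgroup.zpowers e ≤ A := by rw [Subgroup.zpowers_le]; exact heA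
      obtain ⟨c, hc, hkc⟩ := Cfsg.Agent.Helper1.coprime_fixed_coset (Subgroup.zpowers e) K
        (hZA.trans hAK) (hcop.coprime_dvd_left (Subgroup.card_dvd_of_le hZA))
        (Or.inl (Cfsg.Agent.Helper1.isSolvable_of_le hZA hAsolv)) Y hYK hKY (hZA.trans hAY)
        (k : G) k.2 (fun x hx => (hZS hx).2)
      have hcY : c ∈ Y := by
        apply centralizer_le_genCent p a b K s t hst
        refine Subgroup.mem_inf.mpr ⟨hc.1, ?_⟩
        rw [Subgroup.mem_centralizer_singleton_iff]
        exact ((Subgroup.mem_centralizer_iff.mp hc.2) e (Subgroup.mem_zpowers e)).symm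
      have hkY : (k : G) ∈ Y := by
        have h3 : (k : G) = c * ((k : G)⁻¹ * c)⁻¹ := by group
        rw [h3]
        exact Y.mul_mem hcY (Y.inv_mem hkc)
      rw [QuotientGroup.eq_one_iff, hYk, Subgroup.mem_subgroupOf]
      exact hkY
    · exact (hcopK.coprime_dvd_left (Subgroup.card_quotient_dvd_card Yk))
  intro k hk
  have h1 := hall (QuotientGroup.mk (⟨k, hk⟩ : ↥K))
  rw [QuotientGroup.eq_one_iff, hYk, Subgroup.mem_subgroupOf] at h1
  exact h1

/-- Generation by centralizers for a coprime action of `⟨a, b⟩ ≅ (ℤ/p)²` inside an abelian group `A`. -/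
theorem le_genCent [Finite G] {p : ℕ} [Fact p.Prime] (A : Subgroup G)
    [hAc : IsMulCommutative A] (a b : G) (ha : a ∈ A) (hb : b ∈ A) (hap : a ^ p = 1) (hbp : b ^ p = 1)
    (hind : ∀ s t : ZMod p, abPow p a b s t = 1 → s = 0 ∧ t = 0) :
    ∀ (n : ℕ) (K : Subgroup G), Nat.card K = n → A ≤ Subgroup.normalizer (K : Set G) →
      (Nat.card A).Coprime (Nat.card K) → K ≤ genCent p a b K := by
  intro n
  induction n using Nat.strong_induction_on with
  | _ n ih =>
  intro K hKn hAK hcop
  have hAsolv : Group.IsSolvable A := Cfsg.Agent.Helper1.isSolvable_of_isMulCommutative A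
  by_cases hq : ∃ q : ℕ, q.Prime ∧ IsPGroup q K
  · obtain ⟨q, hqp, hKq⟩ := hq
    have : Fact q.Prime := ⟨hqp⟩
    by_cases hK1 : K = ⊥
    · rw [hK1]; exact bot_le
    have hle : ⁅K, K⁆ ≤ K := commutator_le_of_le_normalizer K K Subgroup.le_normalizer
    have hne : ⁅K, K⁆ ≠ K := commutator_ne_self_of_pgroups K K hKq hKq Subgroup.le_normalizer hK1
    have hcard : Nat.card ↥(⁅K, K⁆ : Subgroup G) < n := by
      by_contra hge
      rw [not_lt, ← hKn] at hge
      exact hne (Subgroup.eq_of_le_of_card_ge hle hge)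
    have hAK' : A ≤ Subgroup.normalizer ((⁅K, K⁆ : Subgroup G) : Set G) :=
      fun x hx => mem_normalizer_commutator K K x (hAK hx) (hAK hx)
    have h1 := ih _ hcard ⁅K, K⁆ rfl hAK' (hcop.coprime_dvd_right (Subgroup.card_dvd_of_le hle))
    exact le_genCent_of_commutator_le A K a b ha hb hap hbp hind hAK hcop
      (h1.trans (genCent_mono p a b hle))
  · push Not at hq
    have hYK : genCent p a b K ≤ K := genCent_le p a b K
    have hK0 : Nat.card K ≠ 0 := Nat.card_pos.ne'
    have hY0 : Nat.card (genCent p a b K) ≠ 0 := Nat.card_pos.ne'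
    have hdvd : Nat.card K ∣ Nat.card (genCent p a b K) := by
      rw [← Nat.factorization_prime_le_iff_dvd hK0 hY0]
      intro q hqp
      have : Fact q.Prime := ⟨hqp⟩
      obtain ⟨P, hP⟩ := Cfsg.Agent.Helper1.exists_invariant_sylow (p := q) A K hAK hcop (Or.inl hAsolv)
      set Q := (P : Subgroup K).map K.subtype with hQ
      have hQK : Q ≤ K := Subgroup.map_subtype_le _
      have hQne : Q ≠ K := by
        intro h
        apply hq q hqp
        rw [← h]
        exact P.isPGroup'.map _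
      have hcard : Nat.card Q < n := by
        by_contra hge
        rw [not_lt, ← hKn] at hge
        exact hQne (Subgroup.eq_of_le_of_card_ge hQK hge)
      have h1 := ih _ hcard Q rfl hP (hcop.coprime_dvd_right (Subgroup.card_dvd_of_le hQK))
      have h2 : Q ≤ genCent p a b K := h1.trans (genCent_mono p a b hQK)
      have hQcard : Nat.card Q = q ^ (Nat.card K).factorization q := by
        rw [hQ, Cfsg.Agent.Helper1.card_map_subtype, P.card_eq_multiplicity]
      have h3 : q ^ (Nat.card K).factorization q ∣ Nat.card (genCent p a b K) := by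
        rw [← hQcard]; exact Subgroup.card_dvd_of_le h2
      exact (Nat.Prime.pow_dvd_iff_le_factorization hqp hY0).mp h3
    have := Subgroup.eq_of_le_of_card_ge hYK (Nat.le_of_dvd (Nat.pos_of_ne_zero hY0) hdvd)
    rw [this]

end Cfsg.Agent.Helper5
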