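import Mathlib
import Cfsg.Agent.Helper5.Basic
import Cfsg.Agent.Helper5.StrongEmb
import Cfsg.Agent.Helper5.SPE
import Cfsg.Agent.Helper5.Generation2

/-!
Helper lemmas (helper5): strongly `p`-embedded subgroups and `p'`-subgroups normalized by a `(ℤ/p)²`.
-/

set_option autoImplicit false

namespace Cfsg.Agent.Helper5

variable {G : Type*} [Group G]

/-- In a group with a strongly `p`-embedded subgroup `H ≥ P`, the centralizer of a nonidentity element of `P`
lies in `H`. -/
theorem LocCtrl.centralizer_le [Finite G] {p : ℕ} [Fact p.Prime] {H : Subgroup G} {P : Sylow p G}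
    (h : LocCtrl H (P : Subgroup G)) (e : G) (heP : e ∈ (P : Subgroup G)) (he1 : e ≠ 1) :
    Subgroup.centralizer ({e} : Set G) ≤ H := by
  have hZP : Subgroup.zpowers e ≤ (P : Subgroup G) := by rw [Subgroup.zpowers_le]; exact heP
  have hZp : IsPGroup p (Subgroup.zpowers e) := P.isPGroup'.to_le hZP
  have hZ1 : Subgroup.zpowers e ≠ ⊥ := by rw [Ne, Subgroup.zpowers_eq_bot]; exact he1
  have hN := h.normalizer_le (Subgroup.zpowers e) (hZP.trans h.1) hZp hZ1
  refine le_trans ?_ hN
  intro c hc
  apply Subgroup.centralizer_le_normalizer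
  rw [Subgroup.mem_centralizer_iff]
  intro z hz
  obtain ⟨j, rfl⟩ := Subgroup.mem_zpowers_iff.mp hz
  have h1 : Commute c e := (Subgroup.mem_centralizer_singleton_iff.mp hc)
  exact (h1.zpow_right j).eq.symm

/-- A `p'`-subgroup normalized by a `(ℤ/p)² ≤ P` lies in the strongly `p`-embedded subgroup `H ≥ P`. -/
theorem LocCtrl.le_of_rank_two [Finite G] {p : ℕ} [Fact p.Prime] {H : Subgroup G} {P : Sylow p G}
    (h : LocCtrl H (P : Subgroup G)) (a b : G) (ha : a ∈ (P : Subgroup G)) (hb : b ∈ (P : Subgroup G))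
    (hab : a * b = b * a) (hap : a ^ p = 1) (hbp : b ^ p = 1)
    (hind : ∀ s t : ZMod p, abPow p a b s t = 1 → s = 0 ∧ t = 0)
    (X : Subgroup G) (hXa : a ∈ Subgroup.normalizer (X : Set G)) (hXb : b ∈ Subgroup.normalizer (X : Set G))
    (hX : (Nat.card X).Coprime p) : X ≤ H := by
  set E := Subgroup.closure ({a, b} : Set G) with hE
  have hEc : IsMulCommutative ↥E := by
    apply Subgroup.isMulCommutative_closure
    intro x hx y hy
    rcases hx with rfl | rfl <;> rcases hy with rfl | rfl
    · rfl
    · exact hab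
    · exact hab.symm
    · rfl
  have haE : a ∈ E := Subgroup.subset_closure (by simp)
  have hbE : b ∈ E := Subgroup.subset_closure (by simp)
  have hEP : E ≤ (P : Subgroup G) := by
    rw [hE, Subgroup.closure_le]
    rintro x (rfl | rfl)
    · exact ha
    · exact hb
  have hEN : E ≤ Subgroup.normalizer (X : Set G) := by
    rw [hE, Subgroup.closure_le]
    rintro x (rfl | rfl)
    · exact hXa
    · exact hXb
  have hcop : (Nat.card E).Coprime (Nat.card X) := by
    obtain ⟨k, hk⟩ := IsPGroup.iff_card.mp (P.isPGroup'.to_le hEP)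
    rw [hk]
    exact Nat.Coprime.pow_left k hX.symm
  have hgen := le_genCent E a b haE hbE hap hbp hind (Nat.card X) X rfl hEN hcop
  refine hgen.trans ?_
  unfold genCent
  apply iSup_le
  rintro ⟨⟨s, t⟩, hst⟩
  refine inf_le_right.trans ?_
  apply h.centralizer_le _ (hEP (abPow_mem E a b haE hbE s t))
  intro h1
  obtain ⟨h2, h3⟩ := hind s t h1
  rcases hst with h' | h'
  · exact h' h2
  · exact h' h3

end Cfsg.Agent.Helper5
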