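import Mathlib
import Cfsg.Prelude.Def_IsolatedElements
import Cfsg.Agent.Helper5.Basic

/-!
Helper lemmas (helper5) about isolated elements and weakly closed elements of `p`-groups.
-/

set_option autoImplicit false

namespace Cfsg.Agent.Helper5

variable {G : Type*} [Group G]

/-- If every conjugate `n x n⁻¹` (with `n ∈ R`) that commutes with `x` equals `x`, and `R` is a finite
`p`-group containing `x`, then `x` is central in `R`. -/
theorem central_of_isolated_in_pgroup [Finite G] {p : ℕ} [Fact p.Prime] (R : Subgroup G)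
    (hR : IsPGroup p R) (x : G) (hxR : x ∈ R)
    (hiso : ∀ n ∈ R, Commute x (n * x * n⁻¹) → n * x * n⁻¹ = x) :
    ∀ r ∈ R, r * x = x * r := by
  haveI : Group.IsNilpotent R := hR.isNilpotent
  have hnc : NormalizerCondition R := Group.normalizerCondition_of_isNilpotent
  set A : Subgroup R := (Subgroup.centralizer ({x} : Set G)).subgroupOf R with hA
  have hAtop : A = ⊤ := by
    by_contra hne
    have hlt : A < ⊤ := lt_top_iff_ne_top.mpr hne
    have hlt2 := hnc A hlt
    obtain ⟨n, hnN, hnA⟩ := SetLike.exists_of_lt hlt2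
    apply hnA
    have hxA : (⟨x, hxR⟩ : R) ∈ A := by
      rw [hA, Subgroup.mem_subgroupOf, Subgroup.mem_centralizer_singleton_iff]
    have h1 : n * ⟨x, hxR⟩ * n⁻¹ ∈ A := (Subgroup.mem_normalizer_iff.mp hnN _).mp hxA
    rw [hA, Subgroup.mem_subgroupOf, Subgroup.mem_centralizer_singleton_iff] at h1
    have h2 : (n : G) * x * (n : G)⁻¹ = x := by
      apply hiso n n.2
      have : ((n * ⟨x, hxR⟩ * n⁻¹ : R) : G) = (n : G) * x * (n : G)⁻¹ := by simp
      rw [this] at h1
      exact h1.symm
    rw [hA, Subgroup.mem_subgroupOf, Subgroup.mem_centralizer_singleton_iff]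
    calc (n : G) * x = (n : G) * x * (n : G)⁻¹ * (n : G) := by group
      _ = x * (n : G) := by rw [h2]
  intro r hr
  have : (⟨r, hr⟩ : R) ∈ A := by rw [hAtop]; trivial
  rw [hA, Subgroup.mem_subgroupOf, Subgroup.mem_centralizer_singleton_iff] at this
  exact this

theorem central_of_isIsolated_in_pgroup [Finite G] {p : ℕ} [Fact p.Prime] (R : Subgroup G)
    (hR : IsPGroup p R) (x : G) (hxR : x ∈ R) (hiso : Cfsg.IsIsolated x) :
    ∀ r ∈ R, r * x = x * r :=
  central_of_isolated_in_pgroup R hR x hxR (fun n _ hc => hiso n hc)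

end Cfsg.Agent.Helper5
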