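import Mathlib
import Cfsg.Prelude.Def_Transfer
import Cfsg.Prelude.Def_LocalStructure
import Cfsg.Agent.Helper5.Basic
import Cfsg.Agent.Helper5.SylowSub
import Cfsg.Agent.Helper5.StrongEmb

/-!
Helper lemmas (helper5): weakly closed subgroups.
-/

set_option autoImplicit false

namespace Cfsg.Agent.Helper5

variable {H : Type*} [Group H]

theorem map_conj_inv_map_conj (X : Subgroup H) (g : H) :
    (X.map (MulAut.conj g).toMonoidHom).map (MulAut.conj g⁻¹).toMonoidHom = X := by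
  rw [map_conj_map_conj, inv_mul_cancel, map_conj_one]

theorem map_conj_map_conj_inv (X : Subgroup H) (g : H) :
    (X.map (MulAut.conj g⁻¹).toMonoidHom).map (MulAut.conj g).toMonoidHom = X := by
  rw [map_conj_map_conj, mul_inv_cancel, map_conj_one]

/-- Weak closure in one Sylow subgroup gives weak closure in every Sylow subgroup containing `Q`. -/
theorem IsWeaklyClosedSubgroup.of_sylow [Finite H] {p : ℕ} [Fact p.Prime] {Q : Subgroup H}
    (hwc : Cfsg.IsWeaklyClosedSubgroup p Q) (T : Sylow p H) (hQT : Q ≤ (T : Subgroup H)) :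
    Cfsg.IsWeaklyClosed Q (T : Subgroup H) := by
  obtain ⟨T₀, hQT₀, h₀⟩ := hwc
  obtain ⟨h, hh⟩ := MulAction.exists_smul_eq H T₀ T
  have hmem : ∀ x : H, x ∈ (T : Subgroup H) ↔ h⁻¹ * x * h ∈ (T₀ : Subgroup H) := by
    intro x
    rw [← hh]
    exact sylow_mem_smul_iff T₀ h x
  refine ⟨hQT, ?_⟩
  have hA : Q.map (MulAut.conj h⁻¹).toMonoidHom = Q := by
    apply h₀
    rw [map_conj_le_iff]
    intro x hx
    have := (hmem x).mp (hQT hx)
    simpa using this
  intro g hg
  have hB : Q.map (MulAut.conj (h⁻¹ * g)).toMonoidHom = Q := by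
    apply h₀
    rw [map_conj_le_iff]
    intro x hx
    have h1 : g * x * g⁻¹ ∈ (T : Subgroup H) := hg (conj_mem_map_conj Q g x hx)
    have h2 := (hmem _).mp h1
    have h3 : h⁻¹ * g * x * (h⁻¹ * g)⁻¹ = h⁻¹ * (g * x * g⁻¹) * h := by group
    rw [h3]; exact h2
  rw [← map_conj_map_conj] at hB
  calc Q.map (MulAut.conj g).toMonoidHom
      = ((Q.map (MulAut.conj g).toMonoidHom).map (MulAut.conj h⁻¹).toMonoidHom).map (MulAut.conj h).toMonoidHom :=
        (map_conj_map_conj_inv _ h).symm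
    _ = Q.map (MulAut.conj h).toMonoidHom := by rw [hB]
    _ = (Q.map (MulAut.conj h⁻¹).toMonoidHom).map (MulAut.conj h).toMonoidHom := by rw [hA]
    _ = Q := map_conj_map_conj_inv Q h

/-- A conjugate of a weakly closed subgroup `Q` inside a `p`-group containing `Q` equals `Q`. -/
theorem IsWeaklyClosedSubgroup.conj_eq_of_le_pgroup [Finite H] {p : ℕ} [Fact p.Prime] {Q : Subgroup H}
    (hwc : Cfsg.IsWeaklyClosedSubgroup p Q) (R : Subgroup H) (hR : IsPGroup p ↥R) (hQR : Q ≤ R) (g : H)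
    (hg : Q.map (MulAut.conj g).toMonoidHom ≤ R) : Q.map (MulAut.conj g).toMonoidHom = Q := by
  obtain ⟨T, hRT⟩ := hR.exists_le_sylow
  exact (IsWeaklyClosedSubgroup.of_sylow hwc T (hQR.trans hRT)).2 g (hg.trans hRT)

theorem IsWeaklyClosedSubgroup.normalizer_le [Finite H] {p : ℕ} [Fact p.Prime] {Q : Subgroup H}
    (hwc : Cfsg.IsWeaklyClosedSubgroup p Q) (R : Subgroup H) (hR : IsPGroup p ↥R) (hQR : Q ≤ R) :
    Subgroup.normalizer (R : Set H) ≤ Subgroup.normalizer (Q : Set H) := by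
  intro g hg
  rw [mem_normalizer_iff_map_conj] at hg ⊢
  apply IsWeaklyClosedSubgroup.conj_eq_of_le_pgroup hwc R hR hQR
  rw [← hg]
  exact Subgroup.map_mono hQR

/-- Conjugates of a weakly closed subgroup inside `K ≥ Q` are `K`-conjugate. -/
theorem IsWeaklyClosedSubgroup.exists_conj_in [Finite H] {p : ℕ} [Fact p.Prime] {Q : Subgroup H}
    (hwc : Cfsg.IsWeaklyClosedSubgroup p Q) (hQp : IsPGroup p ↥Q) (K : Subgroup H) (hQK : Q ≤ K) (g : H)
    (hg : Q.map (MulAut.conj g).toMonoidHom ≤ K) :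
    ∃ k ∈ K, Q.map (MulAut.conj g).toMonoidHom = Q.map (MulAut.conj k).toMonoidHom := by
  obtain ⟨T, hQT, hTK, hTp, -, hconj⟩ := exists_sylow_of_subgroup K Q hQK hQp
  have hQgp : IsPGroup p ↥(Q.map (MulAut.conj g).toMonoidHom) := hQp.map _
  obtain ⟨k, hk, hkT⟩ := hconj _ hg hQgp
  have h1 : Q.map (MulAut.conj (k * g)).toMonoidHom ≤ T := by
    rw [← map_conj_map_conj, map_conj_le_iff]
    exact hkT
  have h2 := IsWeaklyClosedSubgroup.conj_eq_of_le_pgroup hwc T hTp hQT (k * g) h1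
  refine ⟨k⁻¹, K.inv_mem hk, ?_⟩
  rw [← map_conj_map_conj] at h2
  calc Q.map (MulAut.conj g).toMonoidHom
      = ((Q.map (MulAut.conj g).toMonoidHom).map (MulAut.conj k).toMonoidHom).map (MulAut.conj k⁻¹).toMonoidHom :=
        (map_conj_inv_map_conj _ k).symm
    _ = Q.map (MulAut.conj k⁻¹).toMonoidHom := by rw [h2]

end Cfsg.Agent.Helper5
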