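import Mathlib
import Cfsg.Prelude.Def_LocalStructure
import Cfsg.Agent.Helper5.WeaklyClosed
import Cfsg.Agent.Helper5.CharP
import Cfsg.Agent.Helper5.CharP2

/-!
Helper lemmas (helper5): weakly closed self-centralizing `p`-subgroups and characteristic `p`.
-/

set_option autoImplicit false

namespace Cfsg.Agent.Helper5

variable {G : Type*} [Group G]

theorem mem_normalizer_of_conj_mem_both (K : Subgroup G) (x : G) (h1 : ∀ k ∈ K, x * k * x⁻¹ ∈ K)
    (h2 : ∀ k ∈ K, x⁻¹ * k * x ∈ K) : x ∈ Subgroup.normalizer (K : Set G) := by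
  rw [Subgroup.mem_normalizer_iff]
  intro k
  constructor
  · exact h1 k
  · intro hk
    have := h2 _ hk
    have h4 : x⁻¹ * (x * k * x⁻¹) * x = k := by group
    rwa [h4] at this

theorem conj_mem_of_mem_normalizer (K : Subgroup G) (x : G) (hx : x ∈ Subgroup.normalizer (K : Set G))
    (k : G) (hk : k ∈ K) : x * k * x⁻¹ ∈ K :=
  (Subgroup.mem_normalizer_iff.mp hx k).mp hk

theorem conj_inv_mem_of_mem_normalizer (K : Subgroup G) (x : G) (hx : x ∈ Subgroup.normalizer (K : Set G))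
    (k : G) (hk : k ∈ K) : x⁻¹ * k * x ∈ K := by
  have := (Subgroup.mem_normalizer_iff.mp (Subgroup.inv_mem _ hx) k).mp hk
  simpa using this

/-- `N_G(L)` normalizes `O_p(L)`. -/
theorem normalizer_le_normalizer_pCore_map_subtype (p : ℕ) (L : Subgroup G) :
    Subgroup.normalizer (L : Set G) ≤
      Subgroup.normalizer (((Cfsg.pCore p ↥L).map L.subtype : Subgroup G) : Set G) := by
  set U := (Cfsg.pCore p ↥L).map L.subtype with hU
  have hUL : U ≤ L := pCore_map_subtype_le p L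
  have hUp : IsPGroup p U := isPGroup_pCore_map_subtype p L
  have hLU : L ≤ Subgroup.normalizer (U : Set G) := le_normalizer_pCore_map_subtype p L
  have aux : ∀ x ∈ Subgroup.normalizer (L : Set G), ∀ u ∈ U, x * u * x⁻¹ ∈ U := by
    intro x hx u hu
    have hle : U.map (MulAut.conj x).toMonoidHom ≤ U := by
      apply le_pCore_map_subtype L
      · rintro _ ⟨u, hu, rfl⟩
        exact (Subgroup.mem_normalizer_iff.mp hx u).mp (hUL hu)
      · exact hUp.map _
      · intro l hl
        rw [mem_normalizer_iff_map_conj, map_conj_map_conj]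
        have h1 : l * x = x * (x⁻¹ * l * x) := by group
        rw [h1, ← map_conj_map_conj]
        have h2 : x⁻¹ * l * x ∈ L := conj_inv_mem_of_mem_normalizer L x hx l hl
        rw [(mem_normalizer_iff_map_conj U _).mp (hLU h2)]
    exact hle (conj_mem_map_conj U x u hu)
  intro x hx
  apply mem_normalizer_of_conj_mem_both
  · exact aux x hx
  · intro k hk
    have := aux x⁻¹ (Subgroup.inv_mem _ hx) k hk
    simpa using this

/-- Main lemma: `Q` a weakly closed `p`-subgroup with `C_H(Q) ≤ Q`, `Q ≤ L`, `R = O_p(L)`, and `D` a subgroup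
of characteristic `p` with `C_L(R) ≤ D ≤ C_H(R)` normalized by `L`. Then `D` is a `p`-group. -/
theorem isPGroup_of_weaklyClosed_charP {H : Type*} [Group H] [Finite H] {p : ℕ} [Fact p.Prime]
    (Q : Subgroup H) (hQp : IsPGroup p ↥Q) (hwc : Cfsg.IsWeaklyClosedSubgroup p Q)
    (hCQ : Subgroup.centralizer ((Q : Subgroup H) : Set H) ≤ Q) (L : Subgroup H) (hQL : Q ≤ L)
    (D : Subgroup H)
    (hDR : D ≤ Subgroup.centralizer (((Cfsg.pCore p ↥L).map L.subtype : Subgroup H) : Set H))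
    (hLD : L ≤ Subgroup.normalizer (D : Set H))
    (hCD : L ⊓ Subgroup.centralizer (((Cfsg.pCore p ↥L).map L.subtype : Subgroup H) : Set H) ≤ D)
    (hD : HasCharP p ↥D) : IsPGroup p ↥D := by
  set R := (Cfsg.pCore p ↥L).map L.subtype with hR
  set U := (Cfsg.pCore p ↥D).map D.subtype with hU
  set W := R ⊓ Subgroup.centralizer (R : Set H) with hW
  have hRL : R ≤ L := pCore_map_subtype_le p L
  have hRp : IsPGroup p R := isPGroup_pCore_map_subtype p L
  have hLR : L ≤ Subgroup.normalizer (R : Set H) := le_normalizer_pCore_map_subtype p L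
  have hUD : U ≤ D := pCore_map_subtype_le p D
  have hUp : IsPGroup p U := isPGroup_pCore_map_subtype p D
  have hDU : D ≤ Subgroup.normalizer (U : Set H) := le_normalizer_pCore_map_subtype p D
  have hLU : L ≤ Subgroup.normalizer (U : Set H) :=
    hLD.trans (normalizer_le_normalizer_pCore_map_subtype p D)
  -- `C_D(U) ≤ U`
  have hCU : ∀ c ∈ D, c ∈ Subgroup.centralizer (U : Set H) → c ∈ U := by
    intro c hcD hc
    have h1 : (⟨c, hcD⟩ : ↥D) ∈ Subgroup.centralizer (Cfsg.pCore p ↥D : Set ↥D) := by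
      rw [mem_centralizer_pCore_iff]; exact hc
    exact ⟨⟨c, hcD⟩, hD h1, rfl⟩
  have hWp : IsPGroup p W := hRp.to_le inf_le_left
  have hWD : W ≤ D := fun w hw => hCD ⟨hRL hw.1, hw.2⟩
  -- `D` centralizes `W`
  have hDW : ∀ d ∈ D, ∀ w ∈ W, d * w = w * d := by
    intro d hd w hw
    exact ((Subgroup.mem_centralizer_iff.mp (hDR hd)) w hw.1).symm
  have hDNW : D ≤ Subgroup.normalizer (W : Set H) := by
    intro d hd
    apply mem_normalizer_of_conj_mem_both
    · intro w hw
      have : d * w * d⁻¹ = w := by rw [hDW d hd w hw]; group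
      rw [this]; exact hw
    · intro w hw
      have : d⁻¹ * w * d = w := by rw [mul_assoc, ← hDW d hd w hw]; group
      rw [this]; exact hw
  have hLNW : L ≤ Subgroup.normalizer (W : Set H) := by
    intro l hl
    exact mem_normalizer_inf R _ l (hLR hl) (normalizer_le_normalizer_centralizer R (hLR hl))
  have hWU : W ≤ U := le_pCore_map_subtype D W hWD hWp hDNW
  -- `U ∩ L ≤ W`
  have hULW : U ⊓ L ≤ W := by
    have h1 : U ⊓ L ≤ R := by
      apply le_pCore_map_subtype L _ inf_le_right (hUp.to_le inf_le_left)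
      intro l hl
      exact mem_normalizer_inf U L l (hLU hl) (Subgroup.le_normalizer hl)
    intro x hx
    exact ⟨h1 hx, hDR (hUD hx.1)⟩
  -- `Q ⊔ U` is a `p`-group, so it normalizes `Q`
  have hQU : IsPGroup p ↥(Q ⊔ U) := IsPGroup.to_sup_of_normal_right' hQp hUp (hQL.trans hLU)
  have hNQU : Subgroup.normalizer ((Q ⊔ U : Subgroup H) : Set H) ≤ Subgroup.normalizer (Q : Set H) :=
    IsWeaklyClosedSubgroup.normalizer_le hwc (Q ⊔ U) hQU le_sup_left
  have hUNQ : U ≤ Subgroup.normalizer (Q : Set H) :=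
    (le_sup_right.trans Subgroup.le_normalizer).trans hNQU
  -- `[U, Q] ≤ W`
  have hUQW : ∀ q ∈ Q, ∀ u ∈ U, u⁻¹ * (q * u * q⁻¹) ∈ W := by
    intro q hq u hu
    apply hULW
    refine ⟨?_, ?_⟩
    · exact U.mul_mem (U.inv_mem hu) (conj_mem_of_mem_normalizer U q (hLU (hQL hq)) u hu)
    · have h1 : u⁻¹ * q * u ∈ Q := conj_inv_mem_of_mem_normalizer Q u (hUNQ hu) q hq
      have h2 : u⁻¹ * (q * u * q⁻¹) = (u⁻¹ * q * u) * q⁻¹ := by group
      rw [h2]
      exact hQL (Q.mul_mem h1 (Q.inv_mem hq))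
  -- the commutators `[q, d]` lie in the stability group of `1 ≤ W ≤ U`
  have hcomm_stab : ∀ q ∈ Q, ∀ d ∈ D, q * d * q⁻¹ * d⁻¹ ∈ stabMod U W := by
    intro q hq d hd
    have hgD : q * d * q⁻¹ * d⁻¹ ∈ D :=
      D.mul_mem (conj_mem_of_mem_normalizer D q (hLD (hQL hq)) d hd) (D.inv_mem hd)
    refine ⟨hDNW hgD, hDU hgD, ?_⟩
    intro r hr
    set r₁ := d⁻¹ * r * d with hr₁
    have hr₁U : r₁ ∈ U := conj_inv_mem_of_mem_normalizer U d (hDU hd) r hr
    set w₁ := r₁⁻¹ * (q⁻¹ * r₁ * q⁻¹⁻¹) with hw₁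
    have hw₁W : w₁ ∈ W := hUQW q⁻¹ (Q.inv_mem hq) r₁ hr₁U
    have e1 : q * d * q⁻¹ * d⁻¹ * r * (q * d * q⁻¹ * d⁻¹)⁻¹ = q * (r * (d * w₁ * d⁻¹)) * q⁻¹ := by
      rw [hw₁, hr₁]; group
    have e2 : d * w₁ * d⁻¹ = w₁ := by rw [hDW d hd w₁ hw₁W]; group
    rw [e1, e2]
    have e3 : r⁻¹ * (q * (r * w₁) * q⁻¹) = (r⁻¹ * (q * r * q⁻¹)) * (q * w₁ * q⁻¹) := by group
    rw [e3]
    exact W.mul_mem (hUQW q hq r hr) (conj_mem_of_mem_normalizer W q (hLNW (hQL hq)) w₁ hw₁W)
  -- `K = D ∩ stab` is a normal `p`-subgroup of `D`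
  set K := D ⊓ stabMod U W with hK
  have hKp : IsPGroup p K := by
    apply isPGroup_of_pprime_elements
    intro c hc hcop
    have h1 : ∀ r ∈ U, c * r = r * c :=
      commute_of_mem_stabMod U W hWp c hc.2 hcop (fun a ha => hDW c hc.1 a ha)
    have h2 : c ∈ U := by
      apply hCU c hc.1
      rw [Subgroup.mem_centralizer_iff]
      intro r hr
      exact (h1 r hr).symm
    exact eq_one_of_coprime_of_mem_pgroup U hUp c h2 hcop
  have hDK : D ≤ Subgroup.normalizer (K : Set H) := by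
    intro d hd
    exact mem_normalizer_inf D _ d (Subgroup.le_normalizer hd)
      (mem_normalizer_stabMod U W d (hDNW hd) (hDU hd))
  have hKU : K ≤ U := le_pCore_map_subtype D K inf_le_left hKp hDK
  have hcommU : ∀ q ∈ Q, ∀ d ∈ D, q * d * q⁻¹ * d⁻¹ ∈ U := by
    intro q hq d hd
    apply hKU
    refine ⟨?_, hcomm_stab q hq d hd⟩
    exact D.mul_mem (conj_mem_of_mem_normalizer D q (hLD (hQL hq)) d hd) (D.inv_mem hd)
  -- `D` normalizes `Q ⊔ U`, hence `Q`
  have hDQ : D ≤ Subgroup.normalizer (Q : Set H) := by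
    have aux : ∀ d ∈ D, ∀ x ∈ Q ⊔ U, d * x * d⁻¹ ∈ Q ⊔ U := by
      intro d hd x hx
      have hle : (Q ⊔ U).map (MulAut.conj d).toMonoidHom ≤ Q ⊔ U := by
        rw [Subgroup.map_sup]
        apply sup_le
        · rw [map_conj_le_iff]
          intro q hq
          have h1 : d * q * d⁻¹ = (q * d * q⁻¹ * d⁻¹)⁻¹ * q := by group
          rw [h1]
          exact Subgroup.mul_mem _ (Subgroup.inv_mem _ (le_sup_right (a := Q) (hcommU q hq d hd)))
            (le_sup_left (b := U) hq)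
        · rw [map_conj_le_iff]
          intro u hu
          exact le_sup_right (a := Q) (conj_mem_of_mem_normalizer U d (hDU hd) u hu)
      exact hle (conj_mem_map_conj _ d x hx)
    intro d hd
    apply hNQU
    apply mem_normalizer_of_conj_mem_both
    · exact aux d hd
    · intro x hx
      have := aux d⁻¹ (D.inv_mem hd) x hx
      simpa using this
  -- `p'`-elements of `D` are trivial
  apply isPGroup_of_pprime_elements
  intro d hd hcop
  have hA : IsPGroup p ↥(Q ⊓ W) := hQp.to_le inf_le_left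
  have hstab : d ∈ stabMod Q (Q ⊓ W) := by
    refine ⟨mem_normalizer_inf Q W d (hDQ hd) (hDNW hd), hDQ hd, ?_⟩
    intro q hq
    refine ⟨?_, ?_⟩
    · exact Q.mul_mem (Q.inv_mem hq) (conj_mem_of_mem_normalizer Q d (hDQ hd) q hq)
    · apply hULW
      refine ⟨?_, ?_⟩
      · have h1 := hcommU q⁻¹ (Q.inv_mem hq) d hd
        have h2 : q⁻¹ * (d * q * d⁻¹) = q⁻¹ * d * q⁻¹⁻¹ * d⁻¹ := by group
        rw [h2]; exact h1
      · exact hQL (Q.mul_mem (Q.inv_mem hq) (conj_mem_of_mem_normalizer Q d (hDQ hd) q hq))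
  have h1 : ∀ q ∈ Q, d * q = q * d :=
    commute_of_mem_stabMod Q (Q ⊓ W) hA d hstab hcop (fun a ha => hDW d hd a ha.2)
  have h2 : d ∈ Q := by
    apply hCQ
    rw [Subgroup.mem_centralizer_iff]
    intro q hq
    exact (h1 q hq).symm
  exact eq_one_of_coprime_of_mem_pgroup Q hQp d h2 hcop



/-- If `C_L(O_p(L))` is a `p`-group, then `L` has characteristic `p`. -/
theorem hasCharP_of_isPGroup_inf_centralizer {p : ℕ} (L : Subgroup G)
    (h : IsPGroup p ↥(L ⊓ Subgroup.centralizer (((Cfsg.pCore p ↥L).map L.subtype : Subgroup G) : Set G))) :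
    HasCharP p ↥L := by
  set R := (Cfsg.pCore p ↥L).map L.subtype with hR
  have hLR : L ≤ Subgroup.normalizer (R : Set G) := le_normalizer_pCore_map_subtype p L
  have h1 : L ⊓ Subgroup.centralizer (R : Set G) ≤ R := by
    apply le_pCore_map_subtype L _ inf_le_left h
    intro l hl
    exact mem_normalizer_inf L _ l (Subgroup.le_normalizer hl)
      (normalizer_le_normalizer_centralizer R (hLR hl))
  intro c hc
  rw [mem_centralizer_pCore_iff] at hc
  obtain ⟨y, hy, hyc⟩ := h1 ⟨c.2, hc⟩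
  have : y = c := Subtype.ext hyc
  rwa [← this]

end Cfsg.Agent.Helper5
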