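import Mathlib
import Cfsg.Prelude.Def_GeometricClasses
import Cfsg.Agent.Lead.AschBase

/-!
# ASCH-PRIME piece P4 (helper5): Clifford's theorem in prime dimension, part 1

Basic API (`L`, `Inv`) and the existence of a common eigenvector for a reducible subgroup `N`
normalized by an irreducible group `H` in prime dimension.
-/

set_option autoImplicit false
set_option linter.unusedVariables false
set_option linter.unusedSectionVars false
set_option linter.style.haveILetI false

namespace Cfsg.Agent.Helper5.Asch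

open Cfsg Cfsg.Geo Cfsg.Agent.Lead.Asch
open scoped MatrixGroups Matrix

variable {n : ℕ} {F : Type*} [Field F]

/-- the linear map of an element of `GL` -/
noncomputable def L (g : GL (Fin n) F) : (Fin n → F) →ₗ[F] (Fin n → F) :=
  Matrix.toLin' (g : Matrix (Fin n) (Fin n) F)

theorem L_def (g : GL (Fin n) F) : L g = Matrix.toLin' (g : Matrix (Fin n) (Fin n) F) := rfl

theorem L_mul (g h : GL (Fin n) F) : L (g * h) = L g ∘ₗ L h := by
  unfold L
  rw [Units.val_mul, Matrix.toLin'_mul]

theorem L_one : L (1 : GL (Fin n) F) = LinearMap.id := by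
  unfold L
  rw [Units.val_one, Matrix.toLin'_one]

theorem L_mul_apply (g h : GL (Fin n) F) (v : Fin n → F) : L (g * h) v = L g (L h v) := by
  rw [L_mul]; rfl

theorem L_inv_apply (g : GL (Fin n) F) (v : Fin n → F) : L g⁻¹ (L g v) = v := by
  rw [← L_mul_apply, inv_mul_cancel, L_one]; rfl

theorem L_apply_inv (g : GL (Fin n) F) (v : Fin n → F) : L g (L g⁻¹ v) = v := by
  rw [← L_mul_apply, mul_inv_cancel, L_one]; rfl

theorem L_injective (g : GL (Fin n) F) : Function.Injective (L g) :=
  Function.LeftInverse.injective (L_inv_apply g)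

theorem L_inj {g h : GL (Fin n) F} (hgh : L g = L h) : g = h := by
  unfold L at hgh
  exact Units.ext (Matrix.toLin'.injective hgh)

theorem finrank_map_L (g : GL (Fin n) F) (W : Submodule F (Fin n → F)) :
    Module.finrank F (W.map (L g)) = Module.finrank F W :=
  (Submodule.equivMapOfInjective (L g) (L_injective g) W).finrank_eq.symm

theorem map_map_L (g h : GL (Fin n) F) (W : Submodule F (Fin n → F)) :
    (W.map (L h)).map (L g) = W.map (L (g * h)) := by
  rw [L_mul, Submodule.map_comp]

theorem map_L_one (W : Submodule F (Fin n → F)) : W.map (L (1 : GL (Fin n) F)) = W := by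
  rw [L_one, Submodule.map_id]

/-- `W` is invariant under every element of `N` -/
def Inv (N : Subgroup (GL (Fin n) F)) (W : Submodule F (Fin n → F)) : Prop :=
  ∀ x ∈ N, W.map (L x) ≤ W

theorem irr_iff {N : Subgroup (GL (Fin n) F)} :
    ActsIrreducibly (matrixSet N) ↔ ∀ W : Submodule F (Fin n → F), Inv N W → W = ⊥ ∨ W = ⊤ := by
  unfold ActsIrreducibly Inv
  constructor
  · intro h W hW
    apply h W
    intro s hs
    obtain ⟨g, hg, rfl⟩ := mem_matrixSet_iff.1 hs
    exact hW g hg
  · intro h W hW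
    apply h W
    intro x hx
    exact hW _ (coe_mem_matrixSet hx)

theorem Inv.bot (N : Subgroup (GL (Fin n) F)) : Inv N ⊥ := by
  intro x hx
  rw [Submodule.map_bot]

theorem Inv.sup {N : Subgroup (GL (Fin n) F)} {W W' : Submodule F (Fin n → F)} (h : Inv N W)
    (h' : Inv N W') : Inv N (W ⊔ W') := by
  intro x hx
  rw [Submodule.map_sup]
  exact sup_le_sup (h x hx) (h' x hx)

theorem Inv.inf {N : Subgroup (GL (Fin n) F)} {W W' : Submodule F (Fin n → F)} (h : Inv N W)
    (h' : Inv N W') : Inv N (W ⊓ W') := by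
  intro x hx
  refine le_trans (Submodule.map_inf_le _) ?_
  exact inf_le_inf (h x hx) (h' x hx)

theorem Inv.map {H N : Subgroup (GL (Fin n) F)} (hnz : Nzes H N) {g : GL (Fin n) F} (hg : g ∈ H)
    {W : Submodule F (Fin n → F)} (h : Inv N W) : Inv N (W.map (L g)) := by
  intro x hx
  have h1 : g⁻¹ * x * g ∈ N := by
    have := hnz g⁻¹ (H.inv_mem hg) x hx
    rwa [inv_inv] at this
  have h2 : x * g = g * (g⁻¹ * x * g) := by group
  rw [map_map_L, h2, ← map_map_L]
  exact Submodule.map_mono (h _ h1)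

/-- the sum of the `H`-translates of a subspace is `H`-invariant -/
theorem inv_iSup_map (H : Subgroup (GL (Fin n) F)) (W : Submodule F (Fin n → F)) :
    Inv H (⨆ g : H, W.map (L (g : GL (Fin n) F))) := by
  intro h hh
  rw [Submodule.map_iSup]
  apply iSup_le
  intro g
  rw [map_map_L]
  exact le_iSup (fun g : H => W.map (L (g : GL (Fin n) F))) ⟨h * g, H.mul_mem hh g.2⟩

theorem iSup_map_eq_top {H : Subgroup (GL (Fin n) F)} (hH : ActsIrreducibly (matrixSet H))
    {W : Submodule F (Fin n → F)} (hW : W ≠ ⊥) :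
    (⨆ g : H, W.map (L (g : GL (Fin n) F))) = ⊤ := by
  rcases (irr_iff.1 hH) _ (inv_iSup_map H W) with h | h
  · exfalso
    apply hW
    rw [eq_bot_iff, ← h]
    have := le_iSup (fun g : H => W.map (L (g : GL (Fin n) F))) ⟨1, H.one_mem⟩
    simpa [map_L_one] using this
  · exact h

/-- **Clifford, step 1**: in prime dimension, a reducible subgroup normalized by an irreducible
group has a common eigenvector. -/
theorem exists_eigvec [Fintype F] (hn : n.Prime) {H N : Subgroup (GL (Fin n) F)}
    (hH : ActsIrreducibly (matrixSet H)) (hnz : Nzes H N)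
    (hN : ¬ ActsIrreducibly (matrixSet N)) :
    ∃ v : Fin n → F, v ≠ 0 ∧ ∀ x ∈ N, ∃ c : F, L x v = c • v := by
  classical
  rw [irr_iff] at hN
  push Not at hN
  obtain ⟨W0, hW0, hW0b, hW0t⟩ := hN
  have hex : ∃ d, ∃ W : Submodule F (Fin n → F), Inv N W ∧ W ≠ ⊥ ∧ Module.finrank F W = d :=
    ⟨_, W0, hW0, hW0b, rfl⟩
  obtain ⟨W, hW, hWb, hWd⟩ := Nat.find_spec hex
  have hmin : ∀ W' : Submodule F (Fin n → F), Inv N W' → W' ≠ ⊥ →
      Nat.find hex ≤ Module.finrank F W' := fun W' h1 h2 => Nat.find_min' hex ⟨W', h1, h2, rfl⟩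
  generalize Nat.find hex = d at hWd hmin
  have hdpos : 0 < d := by
    rw [← hWd]
    by_contra h0
    apply hWb
    have : Module.finrank F W = 0 := by omega
    exact Submodule.finrank_eq_zero.1 this
  have hdlt : d < n := by
    have h1 := hmin W0 hW0 hW0b
    have h2 := Submodule.finrank_lt hW0t
    rw [Module.finrank_fin_fun] at h2
    omega
  let 𝒮 : Set (Submodule F (Fin n → F)) := {S | Inv N S ∧ d ∣ Module.finrank F S}
  have h𝒮 : 𝒮.Nonempty := ⟨⊥, Inv.bot N, by simp⟩
  obtain ⟨S, hS, hSmax⟩ := (Set.toFinite 𝒮).exists_maximal h𝒮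
  have key : ∀ g ∈ H, W.map (L g) ≤ S := by
    intro g hg
    by_contra hle
    have hWg : Inv N (W.map (L g)) := hW.map hnz hg
    have hT : W.map (L g) ⊓ S = ⊥ := by
      by_contra hne
      have h1 := hmin _ (hWg.inf hS.1) hne
      have h2 : W.map (L g) ⊓ S < W.map (L g) :=
        lt_of_le_of_ne inf_le_left (fun h => hle (inf_eq_left.1 h))
      have h3 := Submodule.finrank_lt_finrank_of_lt h2
      rw [finrank_map_L, hWd] at h3
      omega
    have h4 := Submodule.finrank_sup_add_finrank_inf_eq (W.map (L g)) S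
    rw [hT, finrank_bot, add_zero, finrank_map_L, hWd] at h4
    have hS' : S ⊔ W.map (L g) ∈ 𝒮 := by
      refine ⟨hS.1.sup hWg, ?_⟩
      rw [sup_comm, h4]
      exact Dvd.dvd.add (dvd_refl d) hS.2
    exact hle (le_trans le_sup_right (hSmax hS' le_sup_left))
  have hStop : S = ⊤ := by
    rw [eq_top_iff, ← iSup_map_eq_top hH hWb]
    exact iSup_le (fun g => key g g.2)
  have hdn : d ∣ n := by
    have := hS.2
    rwa [hStop, finrank_top, Module.finrank_fin_fun] at this
  have hd1 : d = 1 := by
    rcases (Nat.dvd_prime hn).1 hdn with h | h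
    · exact h
    · omega
  rw [hd1] at hWd
  obtain ⟨⟨v, hvW⟩, hv0, hall⟩ := finrank_eq_one_iff'.1 hWd
  refine ⟨v, fun h => hv0 (Subtype.ext h), fun x hx => ?_⟩
  have hxv : L x v ∈ W := hW x hx (Submodule.mem_map_of_mem hvW)
  obtain ⟨c, hc⟩ := hall ⟨L x v, hxv⟩
  refine ⟨c, ?_⟩
  have := congrArg Subtype.val hc
  simpa using this.symm

end Cfsg.Agent.Helper5.Asch
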