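import Mathlib
import Cfsg.Agent.Helper5.AschCl1

/-!
# ASCH-PRIME piece P4 (helper5): Clifford's theorem in prime dimension, part 2

Weight spaces of a subgroup `N`, their independence, and the action of a normalizing group.
-/

set_option autoImplicit false
set_option linter.unusedVariables false
set_option linter.unusedSectionVars false
set_option linter.style.haveILetI false

namespace Cfsg.Agent.Helper5.Asch

open Cfsg Cfsg.Geo Cfsg.Agent.Lead.Asch
open scoped MatrixGroups Matrix

variable {n : ℕ} {F : Type*} [Field F]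

/-- the weight space of `N` for the function `χ : N → F` -/
noncomputable def wt (N : Subgroup (GL (Fin n) F)) (χ : N → F) : Submodule F (Fin n → F) :=
  ⨅ x : N, Module.End.eigenspace (L (x : GL (Fin n) F)) (χ x)

theorem mem_wt {N : Subgroup (GL (Fin n) F)} {χ : N → F} {v : Fin n → F} :
    v ∈ wt N χ ↔ ∀ x : N, L (x : GL (Fin n) F) v = χ x • v := by
  unfold wt
  simp only [Submodule.mem_iInf, Module.End.mem_eigenspace_iff]

/-- conjugation by an element of `H` as a map `N → N` -/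
def cjN {H N : Subgroup (GL (Fin n) F)} (hnz : Nzes H N) (h : H) : N → N :=
  fun x => ⟨(h : GL (Fin n) F) * x * (h : GL (Fin n) F)⁻¹, hnz h h.2 x x.2⟩

theorem cjN_inv_cjN {H N : Subgroup (GL (Fin n) F)} (hnz : Nzes H N) (h : H) (x : N) :
    cjN hnz h⁻¹ (cjN hnz h x) = x := by
  apply Subtype.ext
  simp only [cjN, Subgroup.coe_inv]
  group

theorem cjN_cjN_inv {H N : Subgroup (GL (Fin n) F)} (hnz : Nzes H N) (h : H) (x : N) :
    cjN hnz h (cjN hnz h⁻¹ x) = x := by
  apply Subtype.ext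
  simp only [cjN, Subgroup.coe_inv]
  group

theorem L_mem_wt {H N : Subgroup (GL (Fin n) F)} (hnz : Nzes H N) (h : H) (χ : N → F)
    {v : Fin n → F} (hv : v ∈ wt N χ) :
    L (h : GL (Fin n) F) v ∈ wt N (χ ∘ cjN hnz h⁻¹) := by
  rw [mem_wt] at hv ⊢
  intro x
  have h1 := hv (cjN hnz h⁻¹ x)
  have h2 : (x : GL (Fin n) F) * h = h * ((cjN hnz h⁻¹ x : N) : GL (Fin n) F) := by
    simp only [cjN, Subgroup.coe_inv]
    group
  rw [← L_mul_apply, h2, L_mul_apply, h1, map_smul]
  rfl

theorem map_wt {H N : Subgroup (GL (Fin n) F)} (hnz : Nzes H N) (h : H) (χ : N → F) :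
    (wt N χ).map (L (h : GL (Fin n) F)) = wt N (χ ∘ cjN hnz h⁻¹) := by
  apply le_antisymm
  · rintro _ ⟨v, hv, rfl⟩
    exact L_mem_wt hnz h χ hv
  · intro v hv
    have h1 := L_mem_wt hnz h⁻¹ _ hv
    have h2 : (χ ∘ cjN hnz h⁻¹) ∘ cjN hnz h⁻¹⁻¹ = χ := by
      funext x
      simp only [Function.comp_apply, inv_inv]
      rw [cjN_inv_cjN]
    rw [h2] at h1
    refine ⟨_, h1, ?_⟩
    rw [Subgroup.coe_inv, L_apply_inv]

/-- the sum of all weight spaces is invariant under a normalizing group -/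
theorem inv_iSup_wt {H N : Subgroup (GL (Fin n) F)} (hnz : Nzes H N) :
    Inv H (⨆ χ : N → F, wt N χ) := by
  intro h hh
  rw [Submodule.map_iSup]
  apply iSup_le
  intro χ
  have := map_wt hnz ⟨h, hh⟩ χ
  simp only at this
  rw [this]
  exact le_iSup (fun χ : N → F => wt N χ) _

/-- if the weight spaces span, `N` is abelian -/
theorem comm_of_iSup_wt {N : Subgroup (GL (Fin n) F)} (h : (⨆ χ : N → F, wt N χ) = ⊤) :
    ∀ x ∈ N, ∀ y ∈ N, x * y = y * x := by
  intro x hx y hy
  apply L_inj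
  rw [← LinearMap.eqLocus_eq_top, eq_top_iff, ← h]
  apply iSup_le
  intro χ v hv
  rw [mem_wt] at hv
  have h1 := hv ⟨x, hx⟩
  have h2 := hv ⟨y, hy⟩
  simp only at h1 h2
  rw [LinearMap.mem_eqLocus, L_mul_apply, L_mul_apply, h1, h2, map_smul, map_smul, h1, h2,
    smul_comm]

/-- weight spaces of an abelian group are independent -/
theorem indep_wt {N : Subgroup (GL (Fin n) F)} (hc : ∀ x ∈ N, ∀ y ∈ N, x * y = y * x) :
    iSupIndep (wt N) := by
  have h := Module.End.independent_iInf_maxGenEigenspace_of_forall_mapsTo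
    (fun x : N => (L (x : GL (Fin n) F) : Module.End F (Fin n → F)))
    (fun i j φ => Module.End.mapsTo_maxGenEigenspace_of_comm (by
      show L (j : GL (Fin n) F) * L (i : GL (Fin n) F) = L (i : GL (Fin n) F) * L (j : GL (Fin n) F)
      rw [Module.End.mul_eq_comp, Module.End.mul_eq_comp, ← L_mul, ← L_mul, hc j j.2 i i.2]) φ)
  exact h.mono (fun χ => iInf_mono fun x => Module.End.eigenspace_le_maxGenEigenspace)

/-- a weight space which is everything: `N` is scalar -/
theorem le_scalars_of_wt_eq_top (hn : 0 < n) {N : Subgroup (GL (Fin n) F)} {χ : N → F}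
    (h : wt N χ = ⊤) : N ≤ scalars (Fin n) F := by
  intro x hx
  have hmat : (x : Matrix (Fin n) (Fin n) F) = χ ⟨x, hx⟩ • (1 : Matrix (Fin n) (Fin n) F) := by
    apply Matrix.toLin'.injective
    apply LinearMap.ext
    intro v
    have hv : v ∈ wt N χ := by rw [h]; trivial
    have := mem_wt.1 hv ⟨x, hx⟩
    simp only [L_def] at this
    rw [this, map_smul, Matrix.toLin'_one]
    rfl
  have hne : χ ⟨x, hx⟩ ≠ 0 := by
    intro h0
    rw [h0, zero_smul] at hmat
    have h1 : (x : Matrix (Fin n) (Fin n) F) * ((x⁻¹ : GL (Fin n) F) : Matrix (Fin n) (Fin n) F) = 1 := by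
      rw [← Units.val_mul, mul_inv_cancel, Units.val_one]
    rw [hmat, zero_mul] at h1
    have h2 := congrFun (congrFun h1 ⟨0, hn⟩) ⟨0, hn⟩
    simp at h2
  rw [mem_scalars_iff]
  exact ⟨Units.mk0 _ hne, hmat⟩

end Cfsg.Agent.Helper5.Asch
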