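import Mathlib
import Cfsg.Agent.Helper5.AschCl2

/-!
# ASCH-PRIME piece P4 (helper5): Clifford's theorem in prime dimension, part 3

`clifford_prime'` and `clifford_prime` (exact stubs of `notes/lead_asch_stubs.lean.txt`).
-/

set_option autoImplicit false
set_option linter.unusedVariables false
set_option linter.unusedSectionVars false
set_option linter.style.haveILetI false

namespace Cfsg.Agent.Helper5.Asch

open Cfsg Cfsg.Geo Cfsg.Agent.Lead.Asch
open scoped MatrixGroups Matrix

variable {n : ℕ} {F : Type*} [Field F]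

/-- counting dimensions in an independent spanning family of subspaces of equal dimension -/
theorem card_mul_eq {ι : Type*} [Fintype ι] (A : ι → Submodule F (Fin n → F)) (hind : iSupIndep A)
    (hsup : iSup A = ⊤) (m : ℕ) (hm : ∀ i, Module.finrank F (A i) = m) :
    n = Fintype.card ι * m := by
  classical
  have hint := DirectSum.isInternal_submodule_of_iSupIndep_of_iSup_eq_top hind hsup
  have e := LinearEquiv.ofBijective (DirectSum.coeLinearMap A) hint
  have h1 := e.finrank_eq
  rw [Module.finrank_directSum] at h1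
  simp only [hm, Finset.sum_const, Finset.card_univ, smul_eq_mul] at h1
  rw [Module.finrank_fin_fun] at h1
  omega

/-- the main case: `N` has a common eigenvector (strong form: the lines are weight spaces of `N`, permuted
transitively by `H`) -/
theorem clifford_of_eigvec_strong [Fintype F] (hn : n.Prime) {H N : Subgroup (GL (Fin n) F)}
    (hH : ActsIrreducibly (matrixSet H)) (hnz : Nzes H N)
    (v : Fin n → F) (hv0 : v ≠ 0) (hv : ∀ x ∈ N, ∃ c : F, L x v = c • v) :
    ((∃ D : Fin n → Submodule F (Fin n → F), IsMDecomposition 1 D ∧ H ≤ decompositionStabilizer D ∧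
        (∀ i, ∃ χ : N → F, D i = wt N χ) ∧ (∀ i j, ∃ h ∈ H, (D i).map (L h) = D j)) ∧
      ∀ x ∈ N, ∀ y ∈ N, x * y = y * x) ∨
    N ≤ scalars (Fin n) F := by
  classical
  choose! c hc using hv
  let χ0 : N → F := fun x => c x
  have hvχ : v ∈ wt N χ0 := mem_wt.2 (fun x => hc x x.2)
  have hU : wt N χ0 ≠ ⊥ := by
    intro h
    rw [h, Submodule.mem_bot] at hvχ
    exact hv0 hvχ
  -- the weight spaces span
  have hE : (⨆ χ : N → F, wt N χ) = ⊤ := by
    rcases (irr_iff.1 hH) _ (inv_iSup_wt hnz) with h | h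
    · exfalso
      apply hU
      rw [eq_bot_iff, ← h]
      exact le_iSup (fun χ : N → F => wt N χ) χ0
    · exact h
  have hcomm := comm_of_iSup_wt hE
  have hind := indep_wt hcomm
  -- the orbit of the weight space
  let 𝒪 : Set (Submodule F (Fin n → F)) :=
    Set.range (fun h : H => (wt N χ0).map (L (h : GL (Fin n) F)))
  have hχ : ∀ A : 𝒪, ∃ χ : N → F, wt N χ = (A : Submodule F (Fin n → F)) := by
    rintro ⟨_, h, rfl⟩
    exact ⟨_, (map_wt hnz h χ0).symm⟩
  choose lam hlam using hχ
  have hlam_inj : Function.Injective lam := by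
    intro A B h
    apply Subtype.ext
    rw [← hlam A, ← hlam B, h]
  have hindO : iSupIndep (fun A : 𝒪 => (A : Submodule F (Fin n → F))) := by
    have h1 := hind.comp hlam_inj
    have h2 : (wt N ∘ lam) = (fun A : 𝒪 => (A : Submodule F (Fin n → F))) := by
      funext A
      exact hlam A
    rwa [h2] at h1
  have hsupO : (⨆ A : 𝒪, (A : Submodule F (Fin n → F))) = ⊤ := by
    rw [eq_top_iff, ← iSup_map_eq_top hH hU]
    apply iSup_le
    intro g
    exact le_iSup (fun A : 𝒪 => (A : Submodule F (Fin n → F))) ⟨_, g, rfl⟩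
  have hfr : ∀ A : 𝒪, Module.finrank F (A : Submodule F (Fin n → F)) =
      Module.finrank F (wt N χ0) := by
    rintro ⟨_, h, rfl⟩
    exact finrank_map_L _ _
  haveI : Fintype 𝒪 := Fintype.ofFinite _
  have hcount := card_mul_eq (fun A : 𝒪 => (A : Submodule F (Fin n → F))) hindO hsupO _ hfr
  have hm : Module.finrank F (wt N χ0) ∣ n := Dvd.intro_left _ hcount.symm
  rcases (Nat.dvd_prime hn).1 hm with h1 | h1
  · -- all weight spaces are lines
    left
    refine ⟨?_, hcomm⟩
    rw [h1, mul_one] at hcount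
    have hperm : ∀ (h : H) (A : 𝒪), (A : Submodule F (Fin n → F)).map (L (h : GL (Fin n) F)) ∈ 𝒪 := by
      rintro h ⟨_, g, rfl⟩
      refine ⟨h * g, ?_⟩
      simp only [Subgroup.coe_mul]
      rw [map_map_L]
    let π : H → Equiv.Perm 𝒪 := fun h =>
      { toFun := fun A => ⟨(A : Submodule F (Fin n → F)).map (L (h : GL (Fin n) F)), hperm h A⟩
        invFun := fun A => ⟨(A : Submodule F (Fin n → F)).map (L ((h⁻¹ : H) : GL (Fin n) F)),
          hperm h⁻¹ A⟩
        left_inv := fun A => by
          apply Subtype.ext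
          simp only [Subgroup.coe_inv]
          rw [map_map_L, inv_mul_cancel, map_L_one]
        right_inv := fun A => by
          apply Subtype.ext
          simp only [Subgroup.coe_inv]
          rw [map_map_L, mul_inv_cancel, map_L_one] }
    have e : Fin n ≃ 𝒪 := (Fintype.equivFinOfCardEq hcount.symm).symm
    refine ⟨fun i => ((e i : 𝒪) : Submodule F (Fin n → F)), ?_, ?_, ?_, ?_⟩
    · refine ⟨hn.two_le, one_pos, fun i => ?_, hindO.comp e.injective, ?_⟩
      · rw [hfr, h1]
      · rw [← hsupO]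
        exact e.iSup_comp (g := fun A : 𝒪 => (A : Submodule F (Fin n → F)))
    · intro h hh
      refine ⟨(e.trans (π ⟨h, hh⟩)).trans e.symm, fun i => ?_⟩
      simp only [Equiv.trans_apply, Equiv.apply_symm_apply]
      rfl
    · intro i
      exact ⟨lam (e i), (hlam (e i)).symm⟩
    · intro i j
      obtain ⟨gi, hgi⟩ := (e i).2
      obtain ⟨gj, hgj⟩ := (e j).2
      refine ⟨(gj : GL (Fin n) F) * (gi : GL (Fin n) F)⁻¹, H.mul_mem gj.2 (H.inv_mem gi.2), ?_⟩
      simp only at hgi hgj
      show Submodule.map (L ((gj : GL (Fin n) F) * (gi : GL (Fin n) F)⁻¹)) ((e i : 𝒪) : Submodule F (Fin n → F)) =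
        ((e j : 𝒪) : Submodule F (Fin n → F))
      rw [← hgi, map_map_L, inv_mul_cancel_right, hgj]
  · -- the weight space is everything
    right
    apply le_scalars_of_wt_eq_top hn.pos (χ := χ0)
    apply Submodule.eq_top_of_finrank_eq
    rw [h1, Module.finrank_fin_fun]

/-- the main case: `N` has a common eigenvector -/
theorem clifford_of_eigvec [Fintype F] (hn : n.Prime) {H N : Subgroup (GL (Fin n) F)}
    (hH : ActsIrreducibly (matrixSet H)) (hnz : Nzes H N)
    (v : Fin n → F) (hv0 : v ≠ 0) (hv : ∀ x ∈ N, ∃ c : F, L x v = c • v) :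
    ((∃ D : Fin n → Submodule F (Fin n → F), IsMDecomposition 1 D ∧ H ≤ decompositionStabilizer D) ∧
      ∀ x ∈ N, ∀ y ∈ N, x * y = y * x) ∨
    N ≤ scalars (Fin n) F := by
  rcases clifford_of_eigvec_strong hn hH hnz v hv0 hv with ⟨⟨D, h1, h2, -, -⟩, h3⟩ | h
  · exact Or.inl ⟨⟨D, h1, h2⟩, h3⟩
  · exact Or.inr h

/-- **P4**, variant recording that `N` is abelian in the monomial case. -/
theorem clifford_prime' [Fintype F] (hn : n.Prime) {H N : Subgroup (GL (Fin n) F)}
    (hH : ActsIrreducibly (matrixSet H)) (hNH : N ≤ H) (hnz : Nzes H N) :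
    ((∃ D : Fin n → Submodule F (Fin n → F), IsMDecomposition 1 D ∧ H ≤ decompositionStabilizer D) ∧
      ∀ x ∈ N, ∀ y ∈ N, x * y = y * x) ∨
    N ≤ scalars (Fin n) F ∨ ActsIrreducibly (matrixSet N) := by
  by_cases hN : ActsIrreducibly (matrixSet N)
  · exact Or.inr (Or.inr hN)
  · obtain ⟨v, hv0, hv⟩ := exists_eigvec hn hH hnz hN
    rcases clifford_of_eigvec hn hH hnz v hv0 hv with h | h
    · exact Or.inl h
    · exact Or.inr (Or.inl h)

/-- **P4**: Clifford's theorem in prime dimension. -/
theorem clifford_prime [Fintype F] (hn : n.Prime) {H N : Subgroup (GL (Fin n) F)}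
    (hH : ActsIrreducibly (matrixSet H)) (hNH : N ≤ H) (hnz : Nzes H N) :
    (∃ D : Fin n → Submodule F (Fin n → F), IsMDecomposition 1 D ∧ H ≤ decompositionStabilizer D) ∨
    N ≤ scalars (Fin n) F ∨ ActsIrreducibly (matrixSet N) := by
  rcases clifford_prime' hn hH hNH hnz with h | h
  · exact Or.inl h.1
  · exact Or.inr h

end Cfsg.Agent.Helper5.Asch
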