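import Mathlib
import Cfsg.Agent.Helper5.AschCl3

/-!
# ASCH-PRIME-U piece U2 (helper5): the weight lines of a normal abelian subgroup of an isometry group
are non-degenerate and pairwise orthogonal (odd dimension, transitive action).
-/

set_option autoImplicit false
set_option linter.unusedVariables false
set_option linter.unusedSectionVars false
set_option linter.style.haveILetI false

namespace Cfsg.Agent.Helper5.Asch

open Cfsg Cfsg.Geo Cfsg.Agent.Lead.Asch
open scoped MatrixGroups Matrix

variable {n : ℕ} {F : Type*} [Field F]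

/-- an involution without fixed points lives on a set of even size -/
theorem even_of_involution_no_fixed {α : Type*} [Fintype α] [DecidableEq α] (τ : α → α)
    (hinv : ∀ a, τ (τ a) = a) (hfix : ∀ a, τ a ≠ a) : 2 ∣ Fintype.card α := by
  let σ : Equiv.Perm α := Function.Involutive.toPerm τ hinv
  have h2 : σ ^ 2 = 1 := by
    ext a
    rw [pow_two, Equiv.Perm.mul_apply, Equiv.Perm.one_apply]
    exact hinv a
  have h := Equiv.Perm.two_dvd_card_support h2
  have hs : σ.support = Finset.univ := by
    rw [Finset.eq_univ_iff_forall]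
    intro a
    rw [Equiv.Perm.mem_support]
    exact hfix a
  rwa [hs, Finset.card_univ] at h

/-- **U2 (general form)**: let `f` be a non-degenerate `σ`-sesquilinear reflexive form preserved by `H`,
`N ≤ H`, and `D` a decomposition of `F^n` (`n` odd) into `n` lines which are weight spaces of `N` and are permuted
transitively by `H`. Then the lines are non-degenerate and pairwise orthogonal. -/
theorem nondeg_decomp_of_weight_lines {f : (Fin n → F) → (Fin n → F) → F} (σ : F →+* F)
    (hadd_l : ∀ x y v, f (x + y) v = f x v + f y v) (hsmul_l : ∀ (c : F) x v, f (c • x) v = c * f x v)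
    (hadd_r : ∀ v x y, f v (x + y) = f v x + f v y) (hsmul_r : ∀ (c : F) v x, f v (c • x) = σ c * f v x)
    (hsymm : ∀ u v, f u v = 0 → f v u = 0) (hnd : IsNondegenerateForm f) (hodd : Odd n)
    {H N : Subgroup (GL (Fin n) F)} (hHf : ∀ h ∈ H, ∀ u v, f (L h u) (L h v) = f u v) (hNH : N ≤ H)
    (D : Fin n → Submodule F (Fin n → F)) (hD : IsMDecomposition 1 D)
    (hwt : ∀ i, ∃ χ : N → F, D i = wt N χ) (htr : ∀ i j, ∃ h ∈ H, (D i).map (L h) = D j) :
    IsNondegenerateMDecomposition f 1 D := by
  classical
  have hσinj : Function.Injective σ := σ.injective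
  -- generators of the lines
  have hgen : ∀ i, ∃ v : Fin n → F, v ∈ D i ∧ v ≠ 0 ∧ ∀ w ∈ D i, ∃ c : F, w = c • v := by
    intro i
    obtain ⟨⟨v, hvD⟩, hv0, hall⟩ := finrank_eq_one_iff'.1 (hD.finrank_eq i)
    refine ⟨v, hvD, fun h => hv0 (Subtype.ext h), fun w hw => ?_⟩
    obtain ⟨c, hc⟩ := hall ⟨w, hw⟩
    refine ⟨c, ?_⟩
    have := congrArg Subtype.val hc
    simpa using this.symm
  choose v hvD hv0 hvgen using hgen
  choose χ hχ using hwt
  have hDne : ∀ i, D i ≠ ⊥ := by
    intro i h
    have := hvD i
    rw [h, Submodule.mem_bot] at this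
    exact hv0 i this
  have hDinj : Function.Injective D := hD.indep.injective hDne
  have hf0r : ∀ u, f u 0 = 0 := by
    intro u
    have := hadd_r u 0 0
    rw [add_zero] at this
    exact left_eq_add.1 this
  have hf0l : ∀ u, f 0 u = 0 := by
    intro u
    have := hadd_l 0 0 u
    rw [add_zero] at this
    exact left_eq_add.1 this
  -- the action of `N` on the generators
  have hact : ∀ i (x : N), L (x : GL (Fin n) F) (v i) = χ i x • v i := by
    intro i x
    have := hvD i
    rw [hχ i] at this
    exact mem_wt.1 this x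
  -- (a) uniqueness of the partner
  have huniq : ∀ i j j', f (v i) (v j) ≠ 0 → f (v i) (v j') ≠ 0 → j = j' := by
    intro i j j' h1 h2
    apply hDinj
    rw [hχ j, hχ j']
    congr 1
    funext x
    have e1 := hHf x (hNH x.2) (v i) (v j)
    have e2 := hHf x (hNH x.2) (v i) (v j')
    rw [hact, hact, hsmul_l, hsmul_r] at e1
    rw [hact, hact, hsmul_l, hsmul_r] at e2
    have k1 : χ i x * σ (χ j x) = 1 := by
      have : (χ i x * σ (χ j x)) * f (v i) (v j) = 1 * f (v i) (v j) := by
        rw [one_mul, mul_assoc]; exact e1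
      exact mul_right_cancel₀ h1 this
    have k2 : χ i x * σ (χ j' x) = 1 := by
      have : (χ i x * σ (χ j' x)) * f (v i) (v j') = 1 * f (v i) (v j') := by
        rw [one_mul, mul_assoc]; exact e2
      exact mul_right_cancel₀ h2 this
    have hne : χ i x ≠ 0 := by
      intro h0
      rw [h0, zero_mul] at k1
      exact zero_ne_one k1
    apply hσinj
    exact mul_left_cancel₀ hne (k1.trans k2.symm)
  -- (b) existence of a partner
  have hex : ∀ i, ∃ j, f (v i) (v j) ≠ 0 := by
    intro i
    by_contra hcon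
    push Not at hcon
    obtain ⟨x, hx⟩ := (hnd (v i) (hv0 i)).2
    apply hx
    have hxtop : x ∈ (⨆ j, D j) := by rw [hD.iSup_eq_top]; trivial
    refine Submodule.iSup_induction D (motive := fun x => f (v i) x = 0) hxtop ?_ (hf0r _) ?_
    · intro j w hw
      obtain ⟨c, rfl⟩ := hvgen j w hw
      rw [hsmul_r, hcon, mul_zero]
    · intro a b ha hb
      rw [hadd_r, ha, hb, add_zero]
  have hsym' : ∀ i j, f (v i) (v j) ≠ 0 → f (v j) (v i) ≠ 0 := fun i j h h0 => h (hsymm _ _ h0)
  -- (c) some line is not isotropic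
  have hsome : ∃ i, f (v i) (v i) ≠ 0 := by
    by_contra hcon
    push Not at hcon
    choose τ hτ using hex
    have hτne : ∀ i, τ i ≠ i := by
      intro i h
      have := hτ i
      rw [h] at this
      exact this (hcon i)
    have hτinv : ∀ i, τ (τ i) = i := by
      intro i
      exact huniq (τ i) _ _ (hτ (τ i)) (hsym' _ _ (hτ i))
    have h2 := even_of_involution_no_fixed τ hτinv hτne
    rw [Fintype.card_fin] at h2
    obtain ⟨k, hk⟩ := hodd
    omega
  -- (d) no line is isotropic
  have hall : ∀ i, f (v i) (v i) ≠ 0 := by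
    obtain ⟨i0, hi0⟩ := hsome
    intro i
    obtain ⟨h, hh, hmap⟩ := htr i0 i
    have hmem : L h (v i0) ∈ D i := by
      rw [← hmap]
      exact Submodule.mem_map_of_mem (hvD i0)
    obtain ⟨c, hc⟩ := hvgen i _ hmem
    have e := hHf h hh (v i0) (v i0)
    rw [hc, hsmul_l, hsmul_r] at e
    intro h0
    rw [h0, mul_zero, mul_zero] at e
    exact hi0 e.symm
  have horth : ∀ i j, i ≠ j → f (v i) (v j) = 0 := by
    intro i j hij
    by_contra h
    exact hij (huniq i i j (hall i) h)
  refine ⟨hD, ?_, ?_⟩
  · intro i w hw hw0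
    obtain ⟨a, rfl⟩ := hvgen i w hw
    have ha : a ≠ 0 := by
      intro h0
      apply hw0
      rw [h0, zero_smul]
    refine ⟨⟨v i, hvD i, ?_⟩, ⟨v i, hvD i, ?_⟩⟩
    · rw [hsmul_r]
      exact mul_ne_zero ((map_ne_zero σ).2 ha) (hall i)
    · rw [hsmul_l]
      exact mul_ne_zero ha (hall i)
  · intro i j hij u hu w hw
    obtain ⟨a, rfl⟩ := hvgen i u hu
    obtain ⟨b, rfl⟩ := hvgen j w hw
    rw [hsmul_l, hsmul_r, horth i j hij, mul_zero, mul_zero]

end Cfsg.Agent.Helper5.Asch
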