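import Mathlib
import Cfsg.Agent.Helper5.AschU2
import Cfsg.Agent.Helper7.Hermitian

/-!
# ASCH-PRIME-U piece U2 (helper5): Clifford in odd prime dimension inside the unitary group
-/

set_option autoImplicit false
set_option linter.unusedVariables false
set_option linter.unusedSectionVars false
set_option linter.style.haveILetI false

namespace Cfsg.Agent.Helper5.Asch

open Cfsg Cfsg.Geo Cfsg.Agent.Lead.Asch Cfsg.Agent.Helper7.Herm
open scoped MatrixGroups Matrix

variable {n : ℕ} {F : Type*} [Field F]

theorem hermForm_nondegenerate [Fintype F] {q : ℕ} (hF : Fintype.card F = q ^ 2) :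
    IsNondegenerateForm (hermForm n F q) := by
  classical
  intro v hv
  obtain ⟨i, hi⟩ : ∃ i, v i ≠ 0 := by
    by_contra hcon
    push Not at hcon
    exact hv (funext hcon)
  have hq : 1 ≤ q := one_le_q hF
  constructor
  · refine ⟨Pi.single i 1, ?_⟩
    unfold hermForm
    rw [Finset.sum_eq_single i]
    · rw [Pi.single_eq_same, one_mul]
      exact pow_ne_zero _ hi
    · intro l _ hl
      rw [Pi.single_eq_of_ne hl, zero_mul]
    · intro h
      exact absurd (Finset.mem_univ i) h
  · refine ⟨Pi.single i 1, ?_⟩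
    unfold hermForm
    rw [Finset.sum_eq_single i]
    · rw [Pi.single_eq_same, one_pow, mul_one]
      exact hi
    · intro l _ hl
      rw [Pi.single_eq_of_ne hl, zero_pow (by omega), mul_zero]
    · intro h
      exact absurd (Finset.mem_univ i) h

theorem mem_GU_iff {q : ℕ} {g : GL (Fin n) F} :
    g ∈ GU n F q ↔ ∀ u v, hermForm n F q ((g : Matrix (Fin n) (Fin n) F) *ᵥ u)
      ((g : Matrix (Fin n) (Fin n) F) *ᵥ v) = hermForm n F q u v := Iff.rfl

/-- **U2**: Clifford in odd prime dimension inside the unitary group: the lines are non-degenerate and pairwise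
orthogonal. -/
theorem clifford_prime_unitary [Fintype F] (hn : n.Prime) (hodd : Odd n) {q : ℕ}
    (hF : Fintype.card F = q ^ 2) {H N : Subgroup (GL (Fin n) F)} (hHU : H ≤ GU n F q)
    (hH : ActsIrreducibly (matrixSet H)) (hNH : N ≤ H) (hnz : Nzes H N) :
    ((∃ D : Fin n → Submodule F (Fin n → F), IsNondegenerateMDecomposition (hermForm n F q) 1 D ∧
        H ≤ decompositionStabilizer D) ∧ ∀ x ∈ N, ∀ y ∈ N, x * y = y * x) ∨
    N ≤ scalars (Fin n) F ∨ ActsIrreducibly (matrixSet N) := by
  by_cases hN : ActsIrreducibly (matrixSet N)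
  · exact Or.inr (Or.inr hN)
  obtain ⟨v, hv0, hv⟩ := exists_eigvec hn hH hnz hN
  rcases clifford_of_eigvec_strong hn hH hnz v hv0 hv with ⟨⟨D, hD, hHD, hwt, htr⟩, hcomm⟩ | h
  · left
    refine ⟨⟨D, ?_, hHD⟩, hcomm⟩
    obtain ⟨p, k, hp, hc, rfl⟩ := exists_char_pow hF
    haveI : ExpChar F p := ExpChar.prime hp
    refine nondeg_decomp_of_weight_lines (iterateFrobenius F p k)
      (fun x y v => hermForm_add_left x y v) (fun c x v => hermForm_smul_left c x v)
      (fun v x y => hermForm_add_right hF v x y) (fun c v x => ?_) (fun u v h0 => ?_)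
      (hermForm_nondegenerate hF) hodd (fun h hh u v => ?_) hNH D hD hwt htr
    · rw [hermForm_smul_right, iterateFrobenius_def]
    · rw [hermForm_swap hF, h0, zero_pow]
      have := one_le_q hF
      omega
    · exact mem_GU_iff.1 (hHU hh) u v
  · exact Or.inr (Or.inl h)

end Cfsg.Agent.Helper5.Asch
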