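import Mathlib

/-!
# ASCH-PRIME-U piece U5, part A (helper5): Hilbert 90 for `GL_n` over a quadratic extension of finite
fields, and surjectivity of the norm.
-/

set_option autoImplicit false
set_option linter.unusedVariables false
set_option linter.unusedSectionVars false
set_option linter.style.haveILetI false

namespace Cfsg.Agent.Helper5.AschU

open scoped Matrix

variable {n : ℕ} {F : Type*} [Field F]

/-- `σ` applied to a vector -/
theorem map_mulVec' (σ : F →+* F) (M : Matrix (Fin n) (Fin n) F) (v : Fin n → F) :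
    (fun i => σ ((M *ᵥ v) i)) = M.map σ *ᵥ (fun i => σ (v i)) := by
  funext i
  simp only [Matrix.mulVec, dotProduct, map_sum, map_mul, Matrix.map_apply]

/-- **Hilbert 90** for `GL_n`: a matrix `T` with `σ(T) T = 1` (`σ` an involution of the finite field `F`,
not the identity) is of the form `σ(C) C⁻¹`. -/
theorem exists_descent [Fintype F] (σ : F →+* F) (hσ2 : ∀ x, σ (σ x) = x) (ω : F) (hω : σ ω ≠ ω)
    (T : Matrix (Fin n) (Fin n) F) (hT : T.map σ * T = 1) :
    ∃ C : GL (Fin n) F, (C : Matrix (Fin n) (Fin n) F).map σ = T * (C : Matrix (Fin n) (Fin n) F) := by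
  classical
  have hT' : T * T.map σ = 1 := mul_eq_one_comm.1 hT
  -- the semilinear involution
  let θ : (Fin n → F) → (Fin n → F) := fun v => fun i => σ ((T *ᵥ v) i)
  have hθadd : ∀ v w, θ (v + w) = θ v + θ w := by
    intro v w
    funext i
    simp only [θ, Matrix.mulVec_add, Pi.add_apply, map_add]
  have hθsmul : ∀ (a : F) v, θ (a • v) = σ a • θ v := by
    intro a v
    funext i
    simp only [θ, Matrix.mulVec_smul, Pi.smul_apply, smul_eq_mul, map_mul]
  -- fixed vectors
  let V₁ : Set (Fin n → F) := {v | (fun i => σ (v i)) = T *ᵥ v}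
  have hfix : ∀ w, w + θ w ∈ V₁ := by
    intro w
    show (fun i => σ ((w + θ w) i)) = T *ᵥ (w + θ w)
    have h1 : (fun i => σ ((w + θ w) i)) = (fun i => σ (w i)) + T *ᵥ w := by
      funext i
      simp only [θ, Pi.add_apply, map_add, hσ2]
    have h2 : T *ᵥ θ w = fun i => σ (w i) := by
      show T *ᵥ (fun i => σ ((T *ᵥ w) i)) = _
      rw [map_mulVec', Matrix.mulVec_mulVec, hT', Matrix.one_mulVec]
    rw [h1, Matrix.mulVec_add, h2, add_comm]
  -- the fixed vectors span
  have hspan : ⊤ ≤ Submodule.span F V₁ := by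
    intro v _
    have hne : σ ω - ω ≠ 0 := sub_ne_zero.2 hω
    have h1 : v + θ v ∈ Submodule.span F V₁ := Submodule.subset_span (hfix v)
    have h2 : ω • v + θ (ω • v) ∈ Submodule.span F V₁ := Submodule.subset_span (hfix (ω • v))
    have h3 : v = (σ ω - ω)⁻¹ • (σ ω • (v + θ v) - (ω • v + θ (ω • v))) := by
      rw [hθsmul]
      have : σ ω • (v + θ v) - (ω • v + σ ω • θ v) = (σ ω - ω) • v := by
        rw [smul_add, sub_smul]
        abel
      rw [this, smul_smul, inv_mul_cancel₀ hne, one_smul]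
    rw [h3]
    exact Submodule.smul_mem _ _ (Submodule.sub_mem _ (Submodule.smul_mem _ _ h1) h2)
  -- a basis of fixed vectors
  let b := Module.Basis.ofSpan hspan
  have hbmem : ∀ x, b x ∈ V₁ := fun x => Module.Basis.ofSpan_subset hspan ⟨x, rfl⟩
  haveI : Fintype ((linearIndepOn_empty F id).extend (Set.empty_subset V₁)) := Fintype.ofFinite _
  have hcard : Fintype.card ((linearIndepOn_empty F id).extend (Set.empty_subset V₁)) = n := by
    rw [← Module.finrank_eq_card_basis b, Module.finrank_fin_fun]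
  let b' : Module.Basis (Fin n) F (Fin n → F) := b.reindex (Fintype.equivFinOfCardEq hcard)
  have hb'mem : ∀ j, b' j ∈ V₁ := by
    intro j
    show b.reindex (Fintype.equivFinOfCardEq hcard) j ∈ V₁
    rw [Module.Basis.reindex_apply]
    exact hbmem _
  let e := Pi.basisFun F (Fin n)
  let Cm : Matrix (Fin n) (Fin n) F := e.toMatrix b'
  have hCm : ∀ i j, Cm i j = b' j i := by
    intro i j
    show e.toMatrix b' i j = b' j i
    rw [Module.Basis.toMatrix_apply]
    simp [e]
  refine ⟨⟨Cm, b'.toMatrix e, e.toMatrix_mul_toMatrix_flip b', b'.toMatrix_mul_toMatrix_flip e⟩, ?_⟩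
  show Cm.map σ = T * Cm
  ext i j
  rw [Matrix.map_apply, hCm, Matrix.mul_apply]
  have := congrFun (hb'mem j) i
  simp only [Matrix.mulVec, dotProduct] at this
  rw [this]
  apply Finset.sum_congr rfl
  intro k _
  rw [hCm]

/-- the norm `b ↦ b ^ (q + 1)` from a field with `q ^ 2` elements onto the fixed field of `x ↦ x ^ q` -/
theorem exists_norm_eq [Fintype F] {q : ℕ} (hF : Fintype.card F = q ^ 2) (c : F) (hc : c ^ q = c)
    (hc0 : c ≠ 0) : ∃ b : F, b ^ (q + 1) = c := by
  classical
  have hq2 : 2 ≤ q := by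
    by_contra h
    have h1 : q = 0 ∨ q = 1 := by omega
    have h2 := Fintype.one_lt_card (α := F)
    rcases h1 with h1 | h1 <;> rw [h1] at hF <;> omega
  obtain ⟨g, hg⟩ := IsCyclic.exists_ofOrder_eq_natCard (α := Fˣ)
  rw [Nat.card_units, Nat.card_eq_fintype_card, hF] at hg
  have hgen : ∀ x : Fˣ, x ∈ Subgroup.zpowers g := by
    intro x
    have h1 : Subgroup.zpowers g = ⊤ := by
      apply Subgroup.eq_top_of_card_eq
      rw [Nat.card_zpowers, hg, Nat.card_units, Nat.card_eq_fintype_card, hF]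
    rw [h1]
    trivial
  obtain ⟨k, hk⟩ := (mem_powers_iff_mem_zpowers).2 (hgen (Units.mk0 c hc0))
  simp only at hk
  -- c ^ (q - 1) = 1
  have hc1 : (Units.mk0 c hc0) ^ (q - 1) = 1 := by
    apply Units.ext
    rw [Units.val_pow_eq_pow_val, Units.val_one, Units.val_mk0]
    have h3 : c ^ (q - 1) * c = 1 * c := by
      rw [← pow_succ, one_mul, Nat.sub_add_cancel (by omega), hc]
    exact mul_right_cancel₀ hc0 h3
  rw [← hk, ← pow_mul] at hc1
  have hdvd := orderOf_dvd_of_pow_eq_one hc1
  rw [hg] at hdvd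
  have hfac : q ^ 2 - 1 = (q + 1) * (q - 1) := by
    have : q ^ 2 = (q + 1) * (q - 1) + 1 := by
      obtain ⟨m, rfl⟩ : ∃ m, q = m + 1 := ⟨q - 1, by omega⟩
      simp only [Nat.add_sub_cancel]
      ring
    omega
  rw [hfac] at hdvd
  have hdvd2 : q + 1 ∣ k := by
    have hpos : 0 < q - 1 := by omega
    exact (Nat.mul_dvd_mul_iff_right hpos).1 hdvd
  obtain ⟨j, rfl⟩ := hdvd2
  refine ⟨((g ^ j : Fˣ) : F), ?_⟩
  have := congrArg Units.val hk
  rw [Units.val_mk0] at this
  rw [← this, ← Units.val_pow_eq_pow_val, ← pow_mul, mul_comm j]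

end Cfsg.Agent.Helper5.AschU
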