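import Mathlib
import Cfsg.Prelude.Def_GeometricClasses

/-!
# ASCH-PP, piece G3: Galois descent (Hilbert 90 for `GL_n` over a cyclic extension of finite fields)

`span_fixed_eq_top`: a `τ`-semilinear additive map `θ` of `F^n` with `θ^m = 1` (`τ x = x ^ q₁`, `|F| = q₁ ^ m`) has
enough fixed vectors (trace + Dedekind independence of characters).  `exists_norm_eq_gen`: the norm of a finite
cyclic extension is onto.  `realisable_of_twist`: an absolutely irreducible group `N` with `x J = J τ(x)` can be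
written over the fixed field of `τ`.
-/

set_option autoImplicit false
set_option linter.style.haveILetI false
set_option linter.unusedSectionVars false
set_option linter.unusedVariables false

namespace Cfsg.Agent.Helper5.AschPP

open Cfsg Cfsg.Geo
open scoped MatrixGroups Matrix

variable {n : ℕ} {F : Type*} [Field F]

/-- `1 + q + ⋯ + q^(i-1)` -/
def geomS (q : ℕ) : ℕ → ℕ
  | 0 => 0
  | i + 1 => 1 + geomS q i * q

theorem geomS_mul (k i : ℕ) : geomS (k + 1) i * k + 1 = (k + 1) ^ i := by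
  induction i with
  | zero => simp [geomS]
  | succ i ih =>
    rw [pow_succ, ← ih]
    simp only [geomS]
    ring

theorem two_le_of_card [Fintype F] {q₁ m : ℕ} (hq : Fintype.card F = q₁ ^ m) : 2 ≤ q₁ ∧ 1 ≤ m := by
  have h2 := Fintype.one_lt_card (α := F)
  rw [hq] at h2
  constructor
  · by_contra h
    have h1 : q₁ = 0 ∨ q₁ = 1 := by omega
    rcases h1 with h1 | h1
    · rw [h1] at h2
      rcases Nat.eq_zero_or_pos m with hm | hm
      · rw [hm] at h2; simp at h2
      · rw [zero_pow (by omega)] at h2; omega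
    · rw [h1, one_pow] at h2; omega
  · by_contra h
    have : m = 0 := by omega
    rw [this, pow_zero] at h2
    omega

theorem map_mulVec' (σ : F →+* F) (M : Matrix (Fin n) (Fin n) F) (v : Fin n → F) :
    (fun i => σ ((M *ᵥ v) i)) = M.map σ *ᵥ (fun i => σ (v i)) := by
  funext i
  simp only [Matrix.mulVec, dotProduct, map_sum, map_mul, Matrix.map_apply]

theorem mulVec_ext' {A B : Matrix (Fin n) (Fin n) F} (h : ∀ v, A *ᵥ v = B *ᵥ v) : A = B := by
  apply Matrix.toLin'.injective
  apply LinearMap.ext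
  intro v
  rw [Matrix.toLin'_apply, Matrix.toLin'_apply, h]

/-- the norm `b ↦ b ^ (1 + q₁ + ⋯ + q₁^(m-1))` is onto the fixed field of `x ↦ x ^ q₁` -/
theorem exists_norm_eq_gen [Fintype F] {q₁ m : ℕ} (hq : Fintype.card F = q₁ ^ m) (c : F) (hc : c ^ q₁ = c)
    (hc0 : c ≠ 0) : ∃ b : F, b ^ geomS q₁ m = c := by
  classical
  obtain ⟨hq2, hm1⟩ := two_le_of_card hq
  obtain ⟨g, hg⟩ := IsCyclic.exists_ofOrder_eq_natCard (α := Fˣ)
  rw [Nat.card_units, Nat.card_eq_fintype_card, hq] at hg
  have hgen : ∀ x : Fˣ, x ∈ Subgroup.zpowers g := by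
    intro x
    have h1 : Subgroup.zpowers g = ⊤ := by
      apply Subgroup.eq_top_of_card_eq
      rw [Nat.card_zpowers, hg, Nat.card_units, Nat.card_eq_fintype_card, hq]
    rw [h1]
    trivial
  obtain ⟨k, hk⟩ := (mem_powers_iff_mem_zpowers).2 (hgen (Units.mk0 c hc0))
  simp only at hk
  have hc1 : (Units.mk0 c hc0) ^ (q₁ - 1) = 1 := by
    apply Units.ext
    rw [Units.val_pow_eq_pow_val, Units.val_one, Units.val_mk0]
    have h3 : c ^ (q₁ - 1) * c = 1 * c := by
      rw [← pow_succ, one_mul, Nat.sub_add_cancel (by omega), hc]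
    exact mul_right_cancel₀ hc0 h3
  rw [← hk, ← pow_mul] at hc1
  have hdvd := orderOf_dvd_of_pow_eq_one hc1
  rw [hg] at hdvd
  have hfac : q₁ ^ m - 1 = geomS q₁ m * (q₁ - 1) := by
    obtain ⟨k', rfl⟩ : ∃ k', q₁ = k' + 1 := ⟨q₁ - 1, by omega⟩
    have := geomS_mul k' m
    simp only [Nat.add_sub_cancel]
    omega
  rw [hfac] at hdvd
  have hdvd2 : geomS q₁ m ∣ k := (Nat.mul_dvd_mul_iff_right (by omega : 0 < q₁ - 1)).1 hdvd
  obtain ⟨j, rfl⟩ := hdvd2
  refine ⟨((g ^ j : Fˣ) : F), ?_⟩
  have := congrArg Units.val hk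
  rw [Units.val_mk0] at this
  rw [← this, ← Units.val_pow_eq_pow_val, ← pow_mul, mul_comm j]

/-- the characters `x ↦ x ^ (q₁ ^ i)`, `i < m`, of a field with `q₁ ^ m` elements are distinct -/
theorem pow_char_injective [Fintype F] {q₁ m : ℕ} (hq : Fintype.card F = q₁ ^ m)
    (τ : F →+* F) (hτ : ∀ x, τ x = x ^ q₁) :
    Function.Injective (fun i : Fin m => (powMonoidHom (q₁ ^ (i : ℕ)) : F →* F)) := by
  classical
  obtain ⟨hq2, hm1⟩ := two_le_of_card hq
  have hiter : ∀ (i : ℕ) (x : F), τ^[i] x = x ^ (q₁ ^ i) := by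
    intro i x
    induction i with
    | zero => simp
    | succ i ih => rw [Function.iterate_succ_apply', ih, hτ, ← pow_mul, pow_succ]
  have hinj : ∀ i : ℕ, Function.Injective (fun x : F => x ^ (q₁ ^ i)) := by
    intro i
    have h1 : (fun x : F => x ^ (q₁ ^ i)) = τ^[i] := by
      funext x
      rw [hiter]
    rw [h1]
    exact Function.Injective.iterate τ.injective i
  -- key: i < j < m impossible
  have key : ∀ i j : ℕ, i < j → j < m → (∀ x : F, x ^ (q₁ ^ i) = x ^ (q₁ ^ j)) → False := by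
    intro i j hij hjm h
    obtain ⟨d, rfl⟩ : ∃ d, j = i + d := ⟨j - i, by omega⟩
    have hd : 1 ≤ d := by omega
    have h1 : ∀ x : F, x ^ (q₁ ^ d) = x := by
      intro x
      apply hinj i
      show (x ^ (q₁ ^ d)) ^ (q₁ ^ i) = x ^ (q₁ ^ i)
      rw [← pow_mul, h x, pow_add, mul_comm]
    obtain ⟨g, hg⟩ := IsCyclic.exists_ofOrder_eq_natCard (α := Fˣ)
    rw [Nat.card_units, Nat.card_eq_fintype_card, hq] at hg
    have hpos : 1 < q₁ ^ d := Nat.one_lt_pow (by omega) (by omega)
    have h2 : g ^ (q₁ ^ d - 1) = 1 := by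
      apply Units.ext
      rw [Units.val_pow_eq_pow_val, Units.val_one]
      have h3 : (g : F) ^ (q₁ ^ d - 1) * (g : F) = 1 * (g : F) := by
        rw [← pow_succ, one_mul, Nat.sub_add_cancel (by omega), h1]
      exact mul_right_cancel₀ g.ne_zero h3
    have h3 := orderOf_dvd_of_pow_eq_one h2
    rw [hg] at h3
    have h4 := Nat.le_of_dvd (by omega) h3
    have h5 : q₁ ^ d < q₁ ^ m := Nat.pow_lt_pow_right (by omega) (by omega)
    omega
  intro i j hij
  have hfun : ∀ x : F, x ^ (q₁ ^ (i : ℕ)) = x ^ (q₁ ^ (j : ℕ)) := by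
    intro x
    have := congrArg (fun f : F →* F => f x) hij
    simpa using this
  by_contra hne
  rcases Nat.lt_or_gt_of_ne (fun h => hne (Fin.ext h)) with h | h
  · exact key i j h j.2 hfun
  · exact key j i h i.2 (fun x => (hfun x).symm)

/-- iterates of a semilinear map -/
theorem iterate_smul {q₁ : ℕ} (τ : F →+* F) (hτ : ∀ x, τ x = x ^ q₁)
    (θ : (Fin n → F) →+ (Fin n → F)) (hθs : ∀ (a : F) v, θ (a • v) = τ a • θ v) (i : ℕ) (a : F)
    (v : Fin n → F) : θ^[i] (a • v) = (a ^ (q₁ ^ i)) • θ^[i] v := by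
  induction i with
  | zero => simp
  | succ i ih =>
    rw [Function.iterate_succ_apply', ih, hθs, hτ, ← pow_mul, ← pow_succ, ← Function.iterate_succ_apply' θ]

/-- **semilinear Hilbert 90**: the fixed vectors of a `τ`-semilinear map of order dividing `m` span. -/
theorem span_fixed_eq_top [Fintype F] {q₁ m : ℕ} (hq : Fintype.card F = q₁ ^ m)
    (τ : F →+* F) (hτ : ∀ x, τ x = x ^ q₁)
    (θ : (Fin n → F) →+ (Fin n → F)) (hθs : ∀ (a : F) v, θ (a • v) = τ a • θ v)
    (hθm : ∀ v, θ^[m] v = v) :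
    Submodule.span F {v : Fin n → F | θ v = v} = ⊤ := by
  classical
  obtain ⟨hq2, hm1⟩ := two_le_of_card hq
  by_contra hne
  obtain ⟨φ, hφ0, hφ⟩ := Submodule.exists_le_ker_of_lt_top _ (lt_top_iff_ne_top.2 hne)
  apply hφ0
  apply LinearMap.ext
  intro w
  rw [LinearMap.zero_apply]
  have htr : ∀ v, θ (∑ i ∈ Finset.range m, θ^[i] v) = ∑ i ∈ Finset.range m, θ^[i] v := by
    intro v
    rw [map_sum]
    have e1 := Finset.sum_range_succ' (fun i => θ^[i] v) m
    have e2 := Finset.sum_range_succ (fun i => θ^[i] v) m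
    rw [e2] at e1
    simp only [hθm, Function.iterate_zero, id] at e1
    have e3 := (add_right_cancel e1).symm
    rw [← e3]
    apply Finset.sum_congr rfl
    intro i _
    exact (Function.iterate_succ_apply' θ i v).symm
  have hsum : ∀ a : F, ∑ i : Fin m, φ (θ^[(i : ℕ)] w) * a ^ (q₁ ^ (i : ℕ)) = 0 := by
    intro a
    have h1 : (∑ i ∈ Finset.range m, θ^[i] (a • w)) ∈ LinearMap.ker φ :=
      hφ (Submodule.subset_span (htr (a • w)))
    rw [LinearMap.mem_ker, map_sum] at h1
    rw [← Finset.sum_range (fun i => φ (θ^[i] w) * a ^ (q₁ ^ i)), ← h1]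
    apply Finset.sum_congr rfl
    intro i _
    rw [iterate_smul τ hτ θ hθs, map_smul, smul_eq_mul, mul_comm]
  have hli : LinearIndependent F (fun i : Fin m => ((powMonoidHom (q₁ ^ (i : ℕ)) : F →* F) : F → F)) :=
    (linearIndependent_monoidHom F F).comp _ (pow_char_injective hq τ hτ)
  have h0 := Fintype.linearIndependent_iff.1 hli (fun i => φ (θ^[(i : ℕ)] w)) (by
    funext a
    simp only [Finset.sum_apply, Pi.smul_apply, smul_eq_mul, powMonoidHom_apply, Pi.zero_apply]
    exact hsum a) ⟨0, hm1⟩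
  simpa using h0

/-- a spanning set contains the columns of an invertible matrix -/
theorem exists_GL_of_span_eq_top (V₁ : Set (Fin n → F)) (hspan : Submodule.span F V₁ = ⊤) :
    ∃ C : GL (Fin n) F, ∀ j, (fun i => (C : Matrix (Fin n) (Fin n) F) i j) ∈ V₁ := by
  classical
  have hspan' : ⊤ ≤ Submodule.span F V₁ := hspan.ge
  let b := Module.Basis.ofSpan hspan'
  have hbmem : ∀ x, b x ∈ V₁ := fun x => Module.Basis.ofSpan_subset hspan' ⟨x, rfl⟩
  haveI : Fintype ((linearIndepOn_empty F id).extend (Set.empty_subset V₁)) := Fintype.ofFinite _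
  have hcard : Fintype.card ((linearIndepOn_empty F id).extend (Set.empty_subset V₁)) = n := by
    rw [← Module.finrank_eq_card_basis b, Module.finrank_fin_fun]
  let b' : Module.Basis (Fin n) F (Fin n → F) := b.reindex (Fintype.equivFinOfCardEq hcard)
  have hb'mem : ∀ j, b' j ∈ V₁ := by
    intro j
    show b.reindex (Fintype.equivFinOfCardEq hcard) j ∈ V₁
    rw [Module.Basis.reindex_apply]
    exact hbmem _
  let e := Pi.basisFun F (Fin n)
  let Cm : Matrix (Fin n) (Fin n) F := e.toMatrix b'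
  have hCm : ∀ i j, Cm i j = b' j i := by
    intro i j
    show e.toMatrix b' i j = b' j i
    rw [Module.Basis.toMatrix_apply]
    simp [e]
  refine ⟨⟨Cm, b'.toMatrix e, e.toMatrix_mul_toMatrix_flip b', b'.toMatrix_mul_toMatrix_flip e⟩, ?_⟩
  intro j
  have : (fun i => Cm i j) = b' j := by
    funext i
    exact hCm i j
  show (fun i => Cm i j) ∈ V₁
  rw [this]
  exact hb'mem j

end Cfsg.Agent.Helper5.AschPP
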