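import Mathlib
import Cfsg.Prelude.Def_GeometricClasses
import Cfsg.Agent.Helper5.AschPPG3

/-!
# ASCH-PP, piece G3: `realisable_of_twist`
-/

set_option autoImplicit false
set_option linter.style.haveILetI false
set_option linter.unusedSectionVars false
set_option linter.unusedVariables false

namespace Cfsg.Agent.Helper5.AschPP

open Cfsg Cfsg.Geo
open scoped MatrixGroups Matrix

variable {n : ℕ} {F : Type*} [Field F]

/-- G3: Galois descent (Hilbert 90 for `GL_n`, cyclic extension `F/F₁` of degree `m`, `τ` the generator). -/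
theorem realisable_of_twist [Fintype F] {q₁ m : ℕ} (hq : Fintype.card F = q₁ ^ m)
    (τ : F →+* F) (hτ : ∀ x, τ x = x ^ q₁) {N : Subgroup (GL (Fin n) F)}
    (hN : ActsAbsolutelyIrreducibly (matrixSet N)) (J : GL (Fin n) F)
    (hJ : ∀ x ∈ N, (x : GL (Fin n) F) * J = J * Matrix.GeneralLinearGroup.map τ x)
    (F₁ : Subfield F) (hF₁ : ∀ x, x ∈ F₁ ↔ x ^ q₁ = x) : RealisableOver F₁ (matrixSet N) := by
  classical
  rcases Nat.eq_zero_or_pos n with hn0 | hn
  · subst hn0
    exact ⟨1, fun s _ i => i.elim0⟩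
  obtain ⟨hq2, hm1⟩ := two_le_of_card hq
  have hJm : ∀ X ∈ matrixSet N, X * (J : Matrix (Fin n) (Fin n) F) = (J : Matrix (Fin n) (Fin n) F) * X.map τ := by
    rintro _ ⟨x, hx, rfl⟩
    exact congrArg (fun g : GL (Fin n) F => (g : Matrix (Fin n) (Fin n) F)) (hJ x hx)
  have hτm : ∀ a : F, a ^ (q₁ ^ m) = a := by
    intro a
    rw [← hq]
    exact FiniteField.pow_card a
  -- the semilinear map
  let θ : (Fin n → F) →+ (Fin n → F) :=
    { toFun := fun v => (J : Matrix (Fin n) (Fin n) F) *ᵥ (fun i => τ (v i))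
      map_zero' := by
        have : (fun i => τ ((0 : Fin n → F) i)) = 0 := by funext i; simp
        rw [this, Matrix.mulVec_zero]
      map_add' := fun v w => by
        have : (fun i => τ ((v + w) i)) = (fun i => τ (v i)) + (fun i => τ (w i)) := by
          funext i; simp
        rw [this, Matrix.mulVec_add] }
  have hθdef : ∀ v, θ v = (J : Matrix (Fin n) (Fin n) F) *ᵥ (fun i => τ (v i)) := fun v => rfl
  have hθs : ∀ (a : F) v, θ (a • v) = τ a • θ v := by
    intro a v
    rw [hθdef, hθdef]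
    have : (fun i => τ ((a • v) i)) = τ a • (fun i => τ (v i)) := by
      funext i; simp
    rw [this, Matrix.mulVec_smul]
  have hθX : ∀ X ∈ matrixSet N, ∀ v, X *ᵥ θ v = θ (X *ᵥ v) := by
    intro X hX v
    rw [hθdef, hθdef, Matrix.mulVec_mulVec, hJm X hX, ← Matrix.mulVec_mulVec, map_mulVec']
  have hθXi : ∀ (i : ℕ), ∀ X ∈ matrixSet N, ∀ v, X *ᵥ θ^[i] v = θ^[i] (X *ᵥ v) := by
    intro i X hX
    induction i with
    | zero => intro v; rfl
    | succ i ih =>
      intro v
      rw [Function.iterate_succ_apply', hθX X hX, ih, ← Function.iterate_succ_apply' θ]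
  have hθinj : Function.Injective θ := by
    rw [injective_iff_map_eq_zero]
    intro v hv
    rw [hθdef] at hv
    have h1 : ((J⁻¹ : GL (Fin n) F) : Matrix (Fin n) (Fin n) F) *ᵥ
        ((J : Matrix (Fin n) (Fin n) F) *ᵥ (fun i => τ (v i))) = 0 := by
      rw [hv, Matrix.mulVec_zero]
    rw [Matrix.mulVec_mulVec, ← Units.val_mul, inv_mul_cancel, Units.val_one, Matrix.one_mulVec] at h1
    funext i
    have := congrFun h1 i
    simp only [Pi.zero_apply] at this
    exact (map_eq_zero τ).1 this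
  -- `θ^m` is linear, hence a matrix commuting with `N`, hence a scalar
  let νl : (Fin n → F) →ₗ[F] (Fin n → F) :=
    { toFun := θ^[m]
      map_add' := fun v w => iterate_map_add θ m v w
      map_smul' := fun a v => by
        rw [iterate_smul τ hτ θ hθs, hτm]
        rfl }
  let ν := LinearMap.toMatrix' νl
  have hν : ∀ v, ν *ᵥ v = θ^[m] v := by
    intro v
    rw [← Matrix.toLin'_apply, Matrix.toLin'_toMatrix']
    rfl
  have hνc : ∀ X ∈ matrixSet N, ν * X = X * ν := by
    intro X hX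
    apply mulVec_ext'
    intro v
    rw [← Matrix.mulVec_mulVec, ← Matrix.mulVec_mulVec, hν, hν, hθXi m X hX]
  obtain ⟨lam, hlam⟩ := hN.2 ν hνc
  have hlamv : ∀ v, θ^[m] v = lam • v := by
    intro v
    rw [← hν, hlam, Matrix.smul_mulVec, Matrix.one_mulVec]
  let e0 : Fin n → F := Pi.single ⟨0, hn⟩ 1
  have he0 : e0 ≠ 0 := by
    intro h
    have := congrFun h ⟨0, hn⟩
    simp [e0] at this
  have hθe0 : θ e0 ≠ 0 := fun h => he0 (hθinj (h.trans (map_zero θ).symm))
  have hlam0 : lam ≠ 0 := by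
    intro h
    have h1 := hlamv e0
    rw [h, zero_smul] at h1
    have h2 : θ^[m] e0 = θ^[m] 0 := by
      rw [h1, iterate_map_zero]
    exact he0 (Function.Injective.iterate hθinj m h2)
  have hlamτ : lam ^ q₁ = lam := by
    rw [← hτ]
    have h1 : θ (θ^[m] e0) = θ^[m] (θ e0) := by
      rw [← Function.iterate_succ_apply' θ, Function.iterate_succ_apply]
    rw [hlamv, hlamv, hθs] at h1
    have h2 : (τ lam - lam) • θ e0 = 0 := by rw [sub_smul, h1, sub_self]
    rcases smul_eq_zero.1 h2 with h3 | h3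
    · exact sub_eq_zero.1 h3
    · exact absurd h3 hθe0
  obtain ⟨μ, hμ⟩ := exists_norm_eq_gen hq lam hlamτ hlam0
  -- the corrected semilinear map
  let θ' : (Fin n → F) →+ (Fin n → F) :=
    { toFun := fun v => μ⁻¹ • θ v
      map_zero' := by rw [map_zero, smul_zero]
      map_add' := fun v w => by rw [map_add, smul_add] }
  have hθ'def : ∀ v, θ' v = μ⁻¹ • θ v := fun v => rfl
  have hθ's : ∀ (a : F) v, θ' (a • v) = τ a • θ' v := by
    intro a v
    rw [hθ'def, hθ'def, hθs, smul_comm]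
  have hθ'i : ∀ (i : ℕ) v, θ'^[i] v = (μ⁻¹) ^ (geomS q₁ i) • θ^[i] v := by
    intro i v
    induction i with
    | zero => simp [geomS]
    | succ i ih =>
      rw [Function.iterate_succ_apply', ih, hθ'def, hθs, hτ, smul_smul, ← Function.iterate_succ_apply' θ]
      congr 1
      show μ⁻¹ * ((μ⁻¹) ^ geomS q₁ i) ^ q₁ = (μ⁻¹) ^ (1 + geomS q₁ i * q₁)
      rw [pow_add, pow_one, pow_mul]
  have hθ'm : ∀ v, θ'^[m] v = v := by
    intro v
    rw [hθ'i, hlamv, smul_smul, inv_pow, hμ, inv_mul_cancel₀ hlam0, one_smul]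
  have hspan := span_fixed_eq_top hq τ hτ θ' hθ's hθ'm
  obtain ⟨C, hC⟩ := exists_GL_of_span_eq_top _ hspan
  -- `J' * τ(C) = C`
  have hCJ : μ⁻¹ • ((J : Matrix (Fin n) (Fin n) F) * (C : Matrix (Fin n) (Fin n) F).map τ) =
      (C : Matrix (Fin n) (Fin n) F) := by
    ext i j
    have h1 := congrFun (hC j) i
    rw [hθ'def, hθdef] at h1
    rw [← h1]
    simp only [Matrix.smul_apply, Pi.smul_apply, Matrix.mul_apply, Matrix.mulVec, dotProduct, Matrix.map_apply]
  refine ⟨C⁻¹, fun X hX i j => ?_⟩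
  rw [inv_inv, hF₁, ← hτ]
  obtain ⟨Y, hY⟩ : ∃ Y : Matrix (Fin n) (Fin n) F,
      Y = ((C⁻¹ : GL (Fin n) F) : Matrix (Fin n) (Fin n) F) * X * (C : Matrix (Fin n) (Fin n) F) := ⟨_, rfl⟩
  rw [← hY]
  have hCY : (C : Matrix (Fin n) (Fin n) F) * Y = X * (C : Matrix (Fin n) (Fin n) F) := by
    rw [hY, ← mul_assoc, ← mul_assoc, ← Units.val_mul, mul_inv_cancel, Units.val_one, one_mul]
  have hkey : (C : Matrix (Fin n) (Fin n) F) * Y.map τ = (C : Matrix (Fin n) (Fin n) F) * Y := by
    calc (C : Matrix (Fin n) (Fin n) F) * Y.map τ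
        = (μ⁻¹ • ((J : Matrix (Fin n) (Fin n) F) * (C : Matrix (Fin n) (Fin n) F).map τ)) * Y.map τ := by
          rw [hCJ]
      _ = μ⁻¹ • ((J : Matrix (Fin n) (Fin n) F) * ((C : Matrix (Fin n) (Fin n) F) * Y).map τ) := by
          rw [Matrix.map_mul, Matrix.smul_mul, mul_assoc]
      _ = μ⁻¹ • ((J : Matrix (Fin n) (Fin n) F) * (X * (C : Matrix (Fin n) (Fin n) F)).map τ) := by
          rw [hCY]
      _ = μ⁻¹ • (X * (J : Matrix (Fin n) (Fin n) F) * (C : Matrix (Fin n) (Fin n) F).map τ) := by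
          rw [Matrix.map_mul, ← mul_assoc, ← hJm X hX]
      _ = X * (μ⁻¹ • ((J : Matrix (Fin n) (Fin n) F) * (C : Matrix (Fin n) (Fin n) F).map τ)) := by
          rw [Matrix.mul_smul, mul_assoc]
      _ = X * (C : Matrix (Fin n) (Fin n) F) := by rw [hCJ]
      _ = (C : Matrix (Fin n) (Fin n) F) * Y := hCY.symm
  have hYτ : Y.map τ = Y := by
    have := congrArg (fun M => ((C⁻¹ : GL (Fin n) F) : Matrix (Fin n) (Fin n) F) * M) hkey
    simp only [← mul_assoc, ← Units.val_mul, inv_mul_cancel, Units.val_one, one_mul] at this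
    exact this
  have := congrFun (congrFun hYτ i) j
  rw [Matrix.map_apply] at this
  exact this

end Cfsg.Agent.Helper5.AschPP
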