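import Mathlib
import Cfsg.Agent.Helper5.AschCl3

/-!
# General Clifford theorem for subgroups of `GL (Fin n) F` (helper5)

`H` irreducible, `N` normalized by `H`.  Then `V|_N` is completely reducible (`exists_compl`), and either
`H` permutes transitively `t ≥ 2` blocks (the homogeneous components of `N`), or `V|_N` is homogeneous
(no proper non-zero subspace is invariant under `N` and the commutant of `N`).
-/

set_option autoImplicit false
set_option linter.unusedVariables false
set_option linter.unusedSectionVars false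
set_option linter.style.haveILetI false

namespace Cfsg.Agent.Helper5.Asch

open Cfsg Cfsg.Geo Cfsg.Agent.Lead.Asch
open scoped MatrixGroups Matrix

variable {n : ℕ} {F : Type*} [Field F]

/-- `φ` commutes with every element of `N` -/
def Comm (N : Subgroup (GL (Fin n) F)) (φ : (Fin n → F) →ₗ[F] (Fin n → F)) : Prop :=
  ∀ x ∈ N, ∀ v, φ (L x v) = L x (φ v)

/-- `X` is invariant under `N` and under the commutant of `N` -/
def FullyInv (N : Subgroup (GL (Fin n) F)) (X : Submodule F (Fin n → F)) : Prop :=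
  Inv N X ∧ ∀ φ : (Fin n → F) →ₗ[F] (Fin n → F), Comm N φ → X.map φ ≤ X

theorem FullyInv.top (N : Subgroup (GL (Fin n) F)) : FullyInv N ⊤ :=
  ⟨fun x hx => le_top, fun φ hφ => le_top⟩

theorem FullyInv.inf {N : Subgroup (GL (Fin n) F)} {X Y : Submodule F (Fin n → F)}
    (hX : FullyInv N X) (hY : FullyInv N Y) : FullyInv N (X ⊓ Y) :=
  ⟨hX.1.inf hY.1, fun φ hφ => le_trans (Submodule.map_inf_le _) (inf_le_inf (hX.2 φ hφ) (hY.2 φ hφ))⟩

theorem Comm.conj {H N : Subgroup (GL (Fin n) F)} (hnz : Nzes H N) {g : GL (Fin n) F} (hg : g ∈ H)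
    {φ : (Fin n → F) →ₗ[F] (Fin n → F)} (hφ : Comm N φ) : Comm N (L g⁻¹ ∘ₗ φ ∘ₗ L g) := by
  intro x hx v
  have h1 : g * x * g⁻¹ ∈ N := hnz g hg x hx
  have h2 : g * x = (g * x * g⁻¹) * g := by group
  have h3 : g⁻¹ * (g * x * g⁻¹) = x * g⁻¹ := by group
  show L g⁻¹ (φ (L g (L x v))) = L x (L g⁻¹ (φ (L g v)))
  rw [← L_mul_apply g x, h2, L_mul_apply, hφ _ h1, ← L_mul_apply g⁻¹, h3, L_mul_apply]

theorem FullyInv.map {H N : Subgroup (GL (Fin n) F)} (hnz : Nzes H N) {g : GL (Fin n) F} (hg : g ∈ H)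
    {X : Submodule F (Fin n → F)} (hX : FullyInv N X) : FullyInv N (X.map (L g)) := by
  refine ⟨hX.1.map hnz hg, fun φ hφ => ?_⟩
  have h1 := hX.2 _ (hφ.conj hnz hg)
  have h2 : φ ∘ₗ L g = L g ∘ₗ (L g⁻¹ ∘ₗ φ ∘ₗ L g) := by
    apply LinearMap.ext
    intro v
    show φ (L g v) = L g (L g⁻¹ (φ (L g v)))
    rw [L_apply_inv]
  rw [← Submodule.map_comp, h2, Submodule.map_comp]
  exact Submodule.map_mono h1

/-- **complete reducibility** of `V|_N` -/
theorem exists_compl [Fintype F] {H N : Subgroup (GL (Fin n) F)}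
    (hH : ActsIrreducibly (matrixSet H)) (hnz : Nzes H N) (hn : 0 < n)
    {X : Submodule F (Fin n → F)} (hX : Inv N X) :
    ∃ X' : Submodule F (Fin n → F), Inv N X' ∧ IsCompl X X' := by
  classical
  -- a minimal non-zero invariant subspace
  have hex : ∃ d, ∃ W : Submodule F (Fin n → F), Inv N W ∧ W ≠ ⊥ ∧ Module.finrank F W = d := by
    refine ⟨_, ⊤, fun x hx => le_top, ?_, rfl⟩
    intro h
    have h1 : Module.finrank F (⊤ : Submodule F (Fin n → F)) = 0 := by rw [h]; simp
    rw [finrank_top, Module.finrank_fin_fun] at h1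
    omega
  obtain ⟨W, hW, hWb, hWd⟩ := Nat.find_spec hex
  have hmin : ∀ W' : Submodule F (Fin n → F), Inv N W' → W' ≠ ⊥ →
      Nat.find hex ≤ Module.finrank F W' := fun W' h1 h2 => Nat.find_min' hex ⟨W', h1, h2, rfl⟩
  generalize Nat.find hex = d at hWd hmin
  let 𝒮 : Set (Submodule F (Fin n → F)) := {X' | Inv N X' ∧ Disjoint X X'}
  have h𝒮 : 𝒮.Nonempty := ⟨⊥, Inv.bot N, disjoint_bot_right⟩
  obtain ⟨X', hX', hmax⟩ := (Set.toFinite 𝒮).exists_maximal h𝒮
  refine ⟨X', hX'.1, hX'.2, ?_⟩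
  rw [codisjoint_iff, eq_top_iff, ← iSup_map_eq_top hH hWb]
  apply iSup_le
  intro g
  by_contra hle
  have hWg : Inv N (W.map (L (g : GL (Fin n) F))) := hW.map hnz g.2
  have hT : Disjoint (X ⊔ X') (W.map (L (g : GL (Fin n) F))) := by
    rw [disjoint_iff]
    by_contra hne
    have h1 := hmin _ ((hX.sup hX'.1).inf hWg) hne
    have h2 : (X ⊔ X') ⊓ W.map (L (g : GL (Fin n) F)) < W.map (L (g : GL (Fin n) F)) :=
      lt_of_le_of_ne inf_le_right (fun h => hle (inf_eq_right.1 h))
    have h3 := Submodule.finrank_lt_finrank_of_lt h2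
    rw [finrank_map_L, hWd] at h3
    omega
  have hnew : X' ⊔ W.map (L (g : GL (Fin n) F)) ∈ 𝒮 :=
    ⟨hX'.1.sup hWg, hX'.2.disjoint_sup_right_of_disjoint_sup_left hT⟩
  exact hle (le_trans le_sup_right (le_trans (hmax hnew le_sup_left) le_sup_right))

/-- the projection onto an `N`-invariant subspace along an `N`-invariant complement lies in the commutant -/
theorem exists_proj {N : Subgroup (GL (Fin n) F)} {X X' : Submodule F (Fin n → F)} (hX : Inv N X)
    (hX' : Inv N X') (hc : IsCompl X X') :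
    ∃ e : (Fin n → F) →ₗ[F] (Fin n → F), Comm N e ∧ (∀ v ∈ X, e v = v) ∧ (∀ v ∈ X', e v = 0) ∧
      ∀ v, e v ∈ X := by
  let e : (Fin n → F) →ₗ[F] (Fin n → F) := X.subtype ∘ₗ Submodule.projectionOnto X X' hc
  have he1 : ∀ v ∈ X, e v = v := by
    intro v hv
    show ((Submodule.projectionOnto X X' hc v : X) : Fin n → F) = v
    rw [Submodule.projectionOnto_apply_of_mem_left hc hv]
  have he2 : ∀ v ∈ X', e v = 0 := by
    intro v hv
    show ((Submodule.projectionOnto X X' hc v : X) : Fin n → F) = 0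
    have := (Submodule.projectionOnto_apply_eq_zero_iff hc).2 hv
    rw [this]
    rfl
  refine ⟨e, ?_, he1, he2, fun v => (Submodule.projectionOnto X X' hc v).2⟩
  intro x hx v
  have hv : v ∈ X ⊔ X' := by rw [hc.sup_eq_top]; trivial
  obtain ⟨a, ha, b, hb, rfl⟩ := Submodule.mem_sup.1 hv
  have hxa : L x a ∈ X := hX x hx (Submodule.mem_map_of_mem ha)
  have hxb : L x b ∈ X' := hX' x hx (Submodule.mem_map_of_mem hb)
  rw [map_add, map_add, he1 _ hxa, he2 _ hxb, map_add, he1 _ ha, he2 _ hb, map_add, map_zero]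

/-- independence from a family of "orthogonal" projections -/
theorem indep_of_proj {ι : Type*} (A : ι → Submodule F (Fin n → F))
    (h : ∀ i, ∃ e : (Fin n → F) →ₗ[F] (Fin n → F), (∀ v ∈ A i, e v = v) ∧
      ∀ j, j ≠ i → ∀ v ∈ A j, e v = 0) : iSupIndep A := by
  intro i
  rw [Submodule.disjoint_def]
  intro v hv1 hv2
  obtain ⟨e, he1, he2⟩ := h i
  rw [← he1 v hv1]
  have hker : (⨆ j, ⨆ (_ : j ≠ i), A j) ≤ LinearMap.ker e := by
    apply iSup_le
    intro j
    apply iSup_le
    intro hj v hv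
    exact LinearMap.mem_ker.2 (he2 j hj v hv)
  exact LinearMap.mem_ker.1 (hker hv2)

/-- the orbit of a subspace under `H` -/
def orb (H : Subgroup (GL (Fin n) F)) (U : Submodule F (Fin n → F)) : Set (Submodule F (Fin n → F)) :=
  Set.range (fun h : H => U.map (L (h : GL (Fin n) F)))

/-- an independent orbit of subspaces is a system of imprimitivity -/
theorem decomp_of_orb [Fintype F] {H : Subgroup (GL (Fin n) F)} (hH : ActsIrreducibly (matrixSet H))
    {U : Submodule F (Fin n → F)} (hU : U ≠ ⊥)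
    (hind : iSupIndep (fun A : orb H U => (A : Submodule F (Fin n → F)))) :
    ∃ (t : ℕ) (D : Fin t → Submodule F (Fin n → F)), 0 < t ∧ n = t * Module.finrank F U ∧
      (∀ i, Module.finrank F (D i) = Module.finrank F U) ∧ iSupIndep D ∧ iSup D = ⊤ ∧
      H ≤ decompositionStabilizer D ∧ (∀ i, ∃ h ∈ H, D i = U.map (L h)) ∧
      (∀ i j, ∃ h ∈ H, (D i).map (L h) = D j) ∧ (t = 1 → U = ⊤) := by
  classical
  have hsupO : (⨆ A : orb H U, (A : Submodule F (Fin n → F))) = ⊤ := by
    rw [eq_top_iff, ← iSup_map_eq_top hH hU]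
    apply iSup_le
    intro g
    exact le_iSup (fun A : orb H U => (A : Submodule F (Fin n → F))) ⟨_, g, rfl⟩
  have hfr : ∀ A : orb H U, Module.finrank F (A : Submodule F (Fin n → F)) = Module.finrank F U := by
    rintro ⟨_, h, rfl⟩
    exact finrank_map_L _ _
  haveI : Fintype (orb H U) := Fintype.ofFinite _
  have hcount := card_mul_eq (fun A : orb H U => (A : Submodule F (Fin n → F))) hind hsupO _ hfr
  have hperm : ∀ (h : H) (A : orb H U),
      (A : Submodule F (Fin n → F)).map (L (h : GL (Fin n) F)) ∈ orb H U := by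
    rintro h ⟨_, g, rfl⟩
    refine ⟨h * g, ?_⟩
    simp only [Subgroup.coe_mul]
    rw [map_map_L]
  let π : H → Equiv.Perm (orb H U) := fun h =>
    { toFun := fun A => ⟨(A : Submodule F (Fin n → F)).map (L (h : GL (Fin n) F)), hperm h A⟩
      invFun := fun A => ⟨(A : Submodule F (Fin n → F)).map (L ((h⁻¹ : H) : GL (Fin n) F)),
        hperm h⁻¹ A⟩
      left_inv := fun A => by
        apply Subtype.ext
        simp only [Subgroup.coe_inv]
        rw [map_map_L, inv_mul_cancel, map_L_one]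
      right_inv := fun A => by
        apply Subtype.ext
        simp only [Subgroup.coe_inv]
        rw [map_map_L, mul_inv_cancel, map_L_one] }
  have e : Fin (Fintype.card (orb H U)) ≃ orb H U := (Fintype.equivFin _).symm
  have hne : Nonempty (orb H U) := ⟨⟨_, ⟨1, H.one_mem⟩, rfl⟩⟩
  refine ⟨Fintype.card (orb H U), fun i => ((e i : orb H U) : Submodule F (Fin n → F)),
    Fintype.card_pos, hcount, fun i => hfr _, hind.comp e.injective, ?_, ?_, ?_, ?_, ?_⟩
  · rw [← hsupO]
    exact e.iSup_comp (g := fun A : orb H U => (A : Submodule F (Fin n → F)))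
  · intro h hh
    refine ⟨(e.trans (π ⟨h, hh⟩)).trans e.symm, fun i => ?_⟩
    simp only [Equiv.trans_apply, Equiv.apply_symm_apply]
    rfl
  · intro i
    obtain ⟨g, hg⟩ := (e i).2
    exact ⟨g, g.2, hg.symm⟩
  · intro i j
    obtain ⟨gi, hgi⟩ := (e i).2
    obtain ⟨gj, hgj⟩ := (e j).2
    refine ⟨(gj : GL (Fin n) F) * (gi : GL (Fin n) F)⁻¹, H.mul_mem gj.2 (H.inv_mem gi.2), ?_⟩
    simp only at hgi hgj
    show Submodule.map (L ((gj : GL (Fin n) F) * (gi : GL (Fin n) F)⁻¹))
      ((e i : orb H U) : Submodule F (Fin n → F)) = ((e j : orb H U) : Submodule F (Fin n → F))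
    rw [← hgi, map_map_L, inv_mul_cancel_right, hgj]
  · intro h1
    rw [h1, one_mul] at hcount
    apply Submodule.eq_top_of_finrank_eq
    rw [← hcount, Module.finrank_fin_fun]

/-- **General Clifford theorem.** -/
theorem clifford_general [Fintype F] (hn : 0 < n) {H N : Subgroup (GL (Fin n) F)}
    (hH : ActsIrreducibly (matrixSet H)) (hnz : Nzes H N) :
    (∃ (t m : ℕ) (D : Fin t → Submodule F (Fin n → F)), IsMDecomposition m D ∧
      H ≤ decompositionStabilizer D ∧ (∀ i, FullyInv N (D i)) ∧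
      (∀ i j, ∃ h ∈ H, (D i).map (L h) = D j)) ∨
    (∀ X : Submodule F (Fin n → F), FullyInv N X → X = ⊥ ∨ X = ⊤) := by
  classical
  have htop : (⊤ : Submodule F (Fin n → F)) ≠ ⊥ := by
    intro h
    have h1 : Module.finrank F (⊤ : Submodule F (Fin n → F)) = 0 := by rw [h]; simp
    rw [finrank_top, Module.finrank_fin_fun] at h1
    omega
  -- a minimal non-zero fully invariant subspace
  let 𝒮 : Set (Submodule F (Fin n → F)) := {X | FullyInv N X ∧ X ≠ ⊥}
  have h𝒮 : 𝒮.Nonempty := ⟨⊤, FullyInv.top N, htop⟩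
  obtain ⟨U, hU, hUmin⟩ := (Set.toFinite 𝒮).exists_minimal h𝒮
  have hmin : ∀ Y, FullyInv N Y → Y ≠ ⊥ → Y ≤ U → Y = U := fun Y h1 h2 h3 =>
    le_antisymm h3 (hUmin ⟨h1, h2⟩ h3)
  -- every member of the orbit is minimal fully invariant
  have horb : ∀ A : orb H U, FullyInv N (A : Submodule F (Fin n → F)) ∧
      (A : Submodule F (Fin n → F)) ≠ ⊥ ∧
      ∀ Y, FullyInv N Y → Y ≠ ⊥ → Y ≤ (A : Submodule F (Fin n → F)) → Y = A := by
    rintro ⟨_, g, rfl⟩
    refine ⟨hU.1.map hnz g.2, ?_, ?_⟩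
    · intro h0
      apply hU.2
      change U.map (L (g : GL (Fin n) F)) = ⊥ at h0
      have := congrArg (Submodule.map (L ((g : GL (Fin n) F)⁻¹))) h0
      rwa [map_map_L, inv_mul_cancel, map_L_one, Submodule.map_bot] at this
    · intro Y hY hY0 hYle
      simp only at hYle ⊢
      have h1 : FullyInv N (Y.map (L ((g : GL (Fin n) F)⁻¹))) := hY.map hnz (H.inv_mem g.2)
      have h2 : Y.map (L ((g : GL (Fin n) F)⁻¹)) ≤ U := by
        have := Submodule.map_mono (f := L ((g : GL (Fin n) F)⁻¹)) hYle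
        rwa [map_map_L, inv_mul_cancel, map_L_one] at this
      have h3 : Y.map (L ((g : GL (Fin n) F)⁻¹)) ≠ ⊥ := by
        intro h0
        apply hY0
        have := congrArg (Submodule.map (L (g : GL (Fin n) F))) h0
        rwa [map_map_L, mul_inv_cancel, map_L_one, Submodule.map_bot] at this
      have h4 := hmin _ h1 h3 h2
      have := congrArg (Submodule.map (L (g : GL (Fin n) F))) h4
      rwa [map_map_L, mul_inv_cancel, map_L_one] at this
  -- distinct members meet trivially
  have hdisj : ∀ A B : orb H U, A ≠ B →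
      (A : Submodule F (Fin n → F)) ⊓ (B : Submodule F (Fin n → F)) = ⊥ := by
    intro A B hAB
    by_contra hne
    apply hAB
    apply Subtype.ext
    have h1 := (horb A).2.2 _ ((horb A).1.inf (horb B).1) hne inf_le_left
    have h2 := (horb B).2.2 _ ((horb A).1.inf (horb B).1) hne inf_le_right
    rw [← h1, h2]
  -- independence
  have hind : iSupIndep (fun A : orb H U => (A : Submodule F (Fin n → F))) := by
    apply indep_of_proj
    intro A
    obtain ⟨X', hX', hc⟩ := exists_compl hH hnz hn (horb A).1.1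
    obtain ⟨e, he, he1, he2, he3⟩ := exists_proj (horb A).1.1 hX' hc
    refine ⟨e, he1, fun B hB v hv => ?_⟩
    have h1 : e v ∈ (B : Submodule F (Fin n → F)) :=
      (horb B).1.2 e he (Submodule.mem_map_of_mem hv)
    have h2 : e v ∈ (A : Submodule F (Fin n → F)) ⊓ (B : Submodule F (Fin n → F)) := ⟨he3 v, h1⟩
    rw [hdisj A B (Ne.symm hB), Submodule.mem_bot] at h2
    exact h2
  obtain ⟨t, D, ht0, hcount, hfr, hDind, hDsup, hHD, hDorb, hDtr, ht1⟩ := decomp_of_orb hH hU.2 hind
  by_cases ht : t = 1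
  · right
    have hUtop := ht1 ht
    intro X hX
    by_cases hX0 : X = ⊥
    · exact Or.inl hX0
    · right
      rw [← hUtop]
      exact hmin X hX hX0 (by rw [hUtop]; exact le_top)
  · left
    refine ⟨t, Module.finrank F U, D, ⟨by omega, ?_, hfr, hDind, hDsup⟩, hHD, ?_, hDtr⟩
    · by_contra h0
      have : Module.finrank F U = 0 := by omega
      exact hU.2 (Submodule.finrank_eq_zero.1 this)
    · intro i
      obtain ⟨h, hh, hi⟩ := hDorb i
      rw [hi]
      exact hU.1.map hnz hh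

end Cfsg.Agent.Helper5.Asch
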