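import Mathlib
import Cfsg.Agent.Helper5.AschClG

/-!
# ASCH-COMP: the homogeneous case of Clifford's theorem, part 1 (helper5)

Minimal invariant subspaces, their images under the commutant, and a decomposition of a homogeneous
module into a direct sum of copies of one simple module.
-/

set_option autoImplicit false
set_option linter.unusedVariables false
set_option linter.unusedSectionVars false
set_option linter.style.haveILetI false

namespace Cfsg.Agent.Helper5.Asch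

open Cfsg Cfsg.Geo Cfsg.Agent.Lead.Asch
open scoped MatrixGroups Matrix

variable {n : ℕ} {F : Type*} [Field F]

/-- `W` is a minimal non-zero `N`-invariant subspace -/
def IsMinInv (N : Subgroup (GL (Fin n) F)) (W : Submodule F (Fin n → F)) : Prop :=
  Inv N W ∧ W ≠ ⊥ ∧ ∀ W' : Submodule F (Fin n → F), Inv N W' → W' ≠ ⊥ → W' ≤ W → W' = W

theorem exists_isMinInv_le [Fintype F] {N : Subgroup (GL (Fin n) F)} {X : Submodule F (Fin n → F)}
    (hX : Inv N X) (hX0 : X ≠ ⊥) : ∃ W, IsMinInv N W ∧ W ≤ X := by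
  classical
  let 𝒮 : Set (Submodule F (Fin n → F)) := {W | Inv N W ∧ W ≠ ⊥ ∧ W ≤ X}
  have h𝒮 : 𝒮.Nonempty := ⟨X, hX, hX0, le_refl X⟩
  obtain ⟨W, hW, hmin⟩ := (Set.toFinite 𝒮).exists_minimal h𝒮
  refine ⟨W, ⟨hW.1, hW.2.1, fun W' h1 h2 h3 => ?_⟩, hW.2.2⟩
  exact le_antisymm h3 (hmin ⟨h1, h2, h3.trans hW.2.2⟩ h3)

theorem Comm.id (N : Subgroup (GL (Fin n) F)) : Comm N LinearMap.id := fun x hx v => rfl

theorem Comm.comp {N : Subgroup (GL (Fin n) F)} {φ ψ : (Fin n → F) →ₗ[F] (Fin n → F)}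
    (hφ : Comm N φ) (hψ : Comm N ψ) : Comm N (φ ∘ₗ ψ) := by
  intro x hx v
  show φ (ψ (L x v)) = L x (φ (ψ v))
  rw [hψ x hx, hφ x hx]

theorem Comm.inv_map {N : Subgroup (GL (Fin n) F)} {φ : (Fin n → F) →ₗ[F] (Fin n → F)}
    (hφ : Comm N φ) {X : Submodule F (Fin n → F)} (hX : Inv N X) : Inv N (X.map φ) := by
  intro x hx
  rintro _ ⟨_, ⟨v, hv, rfl⟩, rfl⟩
  rw [← hφ x hx]
  exact Submodule.mem_map_of_mem (hX x hx (Submodule.mem_map_of_mem hv))

theorem Comm.inv_comap {N : Subgroup (GL (Fin n) F)} {φ : (Fin n → F) →ₗ[F] (Fin n → F)}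
    (hφ : Comm N φ) {X : Submodule F (Fin n → F)} (hX : Inv N X) : Inv N (X.comap φ) := by
  intro x hx
  rintro _ ⟨v, hv, rfl⟩
  show φ (L x v) ∈ X
  rw [hφ x hx]
  exact hX x hx (Submodule.mem_map_of_mem hv)

theorem Inv.top (N : Subgroup (GL (Fin n) F)) : Inv N ⊤ := fun x hx => le_top

/-- the image of a minimal invariant subspace under a commuting map is zero or minimal invariant of the
same dimension -/
theorem IsMinInv.map_of_comm {N : Subgroup (GL (Fin n) F)} {W : Submodule F (Fin n → F)}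
    (hW : IsMinInv N W) {φ : (Fin n → F) →ₗ[F] (Fin n → F)} (hφ : Comm N φ) (h0 : W.map φ ≠ ⊥) :
    IsMinInv N (W.map φ) ∧ Module.finrank F (W.map φ) = Module.finrank F W ∧
      ∀ v ∈ W, φ v = 0 → v = 0 := by
  have hK : W ⊓ LinearMap.ker φ = ⊥ := by
    by_contra hne
    have h1 : Inv N (W ⊓ LinearMap.ker φ) := by
      have : LinearMap.ker φ = (⊥ : Submodule F (Fin n → F)).comap φ := rfl
      rw [this]
      exact hW.1.inf (hφ.inv_comap (Inv.bot N))
    have h2 := hW.2.2 _ h1 hne inf_le_left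
    apply h0
    rw [eq_bot_iff]
    rintro _ ⟨v, hv, rfl⟩
    have hvk : v ∈ LinearMap.ker φ := (inf_eq_left.1 h2) hv
    rw [Submodule.mem_bot]
    exact LinearMap.mem_ker.1 hvk
  have hinj : ∀ v ∈ W, φ v = 0 → v = 0 := by
    intro v hv hv0
    have : v ∈ W ⊓ LinearMap.ker φ := ⟨hv, LinearMap.mem_ker.2 hv0⟩
    rw [hK, Submodule.mem_bot] at this
    exact this
  refine ⟨⟨hφ.inv_map hW.1, h0, ?_⟩, ?_, hinj⟩
  · intro T hT hT0 hTle
    apply le_antisymm hTle
    have h1 : Inv N (W ⊓ T.comap φ) := hW.1.inf (hφ.inv_comap hT)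
    have h2 : W ⊓ T.comap φ ≠ ⊥ := by
      intro h
      apply hT0
      rw [eq_bot_iff]
      intro t ht
      obtain ⟨w, hw, rfl⟩ := hTle ht
      have : w ∈ W ⊓ T.comap φ := ⟨hw, ht⟩
      rw [h, Submodule.mem_bot] at this
      rw [this, map_zero]
      exact Submodule.zero_mem _
    have h3 := hW.2.2 _ h1 h2 inf_le_left
    rw [← h3]
    rintro _ ⟨v, hv, rfl⟩
    exact hv.2
  · have hinj' : Function.Injective (φ.domRestrict W) := by
      intro a b hab
      have h1 : φ ((a - b : W) : Fin n → F) = 0 := by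
        have : φ.domRestrict W a - φ.domRestrict W b = 0 := sub_eq_zero.2 hab
        rw [← map_sub] at this
        exact this
      have h2 := hinj _ (a - b).2 h1
      exact sub_eq_zero.1 (Subtype.ext h2)
    have := LinearMap.finrank_range_of_inj hinj'
    rwa [LinearMap.range_domRestrict] at this

/-- in the homogeneous case the images of a minimal invariant subspace under the commutant span -/
theorem iSup_map_comm_eq_top {N : Subgroup (GL (Fin n) F)}
    (hhom : ∀ X : Submodule F (Fin n → F), FullyInv N X → X = ⊥ ∨ X = ⊤)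
    {W : Submodule F (Fin n → F)} (hW : IsMinInv N W) :
    (⨆ φ : {φ : (Fin n → F) →ₗ[F] (Fin n → F) // Comm N φ}, W.map φ.1) = ⊤ := by
  have hfi : FullyInv N (⨆ φ : {φ : (Fin n → F) →ₗ[F] (Fin n → F) // Comm N φ}, W.map φ.1) := by
    constructor
    · intro x hx
      rw [Submodule.map_iSup]
      apply iSup_le
      intro φ
      exact le_trans (φ.2.inv_map hW.1 x hx)
        (le_iSup (fun φ : {φ : (Fin n → F) →ₗ[F] (Fin n → F) // Comm N φ} => W.map φ.1) φ)
    · intro ψ hψ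
      rw [Submodule.map_iSup]
      apply iSup_le
      intro φ
      rw [← Submodule.map_comp]
      exact le_iSup (fun φ : {φ : (Fin n → F) →ₗ[F] (Fin n → F) // Comm N φ} => W.map φ.1)
        ⟨ψ ∘ₗ φ.1, hψ.comp φ.2⟩
  rcases hhom _ hfi with h | h
  · exfalso
    apply hW.2.1
    rw [eq_bot_iff, ← h]
    have := le_iSup (fun φ : {φ : (Fin n → F) →ₗ[F] (Fin n → F) // Comm N φ} => W.map φ.1)
      ⟨LinearMap.id, Comm.id N⟩
    simpa using this
  · exact h

/-- a homogeneous module is a direct sum of copies of a minimal invariant subspace -/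
theorem exists_indep_family [Fintype F] {N : Subgroup (GL (Fin n) F)}
    (hhom : ∀ X : Submodule F (Fin n → F), FullyInv N X → X = ⊥ ∨ X = ⊤)
    {W : Submodule F (Fin n → F)} (hW : IsMinInv N W) :
    ∃ 𝒜 : Finset (Submodule F (Fin n → F)),
      (∀ T ∈ 𝒜, ∃ φ : (Fin n → F) →ₗ[F] (Fin n → F), Comm N φ ∧ T = W.map φ ∧ T ≠ ⊥) ∧
      𝒜.SupIndep id ∧ 𝒜.sup id = ⊤ := by
  classical
  let 𝒮 : Set (Finset (Submodule F (Fin n → F))) :=
    {𝒜 | (∀ T ∈ 𝒜, ∃ φ : (Fin n → F) →ₗ[F] (Fin n → F), Comm N φ ∧ T = W.map φ ∧ T ≠ ⊥) ∧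
      𝒜.SupIndep id}
  have h𝒮 : 𝒮.Nonempty := ⟨∅, by simp, Finset.supIndep_empty _⟩
  obtain ⟨𝒜, h𝒜, hmax⟩ := (Set.toFinite 𝒮).exists_maximal h𝒮
  refine ⟨𝒜, h𝒜.1, h𝒜.2, ?_⟩
  have hsupinv : Inv N (𝒜.sup id) := by
    intro x hx
    rw [Finset.sup_eq_iSup, Submodule.map_iSup]
    apply iSup_le
    intro T
    rw [Submodule.map_iSup]
    apply iSup_le
    intro hT
    obtain ⟨φ, hφ, rfl, -⟩ := h𝒜.1 T hT
    refine le_trans (hφ.inv_map hW.1 x hx) ?_
    exact le_trans (le_iSup (fun _ : W.map φ ∈ 𝒜 => id (W.map φ)) hT)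
      (le_iSup (fun T => ⨆ (_ : T ∈ 𝒜), id T) (W.map φ))
  rw [eq_top_iff, ← iSup_map_comm_eq_top hhom hW]
  apply iSup_le
  intro φ
  by_cases h0 : W.map φ.1 = ⊥
  · rw [h0]; exact bot_le
  obtain ⟨hmin, -, -⟩ := hW.map_of_comm φ.2 h0
  by_contra hle
  have hdisj : Disjoint (id (W.map φ.1)) (𝒜.sup id) := by
    rw [disjoint_iff]
    by_contra hne
    have h1 := hmin.2.2 _ (hmin.1.inf hsupinv) hne inf_le_left
    exact hle (inf_eq_left.1 h1)
  have hnew : insert (W.map φ.1) 𝒜 ∈ 𝒮 := by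
    refine ⟨?_, h𝒜.2.insert hdisj⟩
    intro T hT
    rcases Finset.mem_insert.1 hT with rfl | hT
    · exact ⟨φ.1, φ.2, rfl, h0⟩
    · exact h𝒜.1 T hT
  have h2 := hmax hnew (Finset.subset_insert _ _)
  have h3 : W.map φ.1 ∈ 𝒜 := h2 (Finset.mem_insert_self _ _)
  exact hle (Finset.le_sup (f := id) h3)

end Cfsg.Agent.Helper5.Asch
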