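import Mathlib
import Cfsg.Agent.Helper5.AschHom1

/-!
# ASCH-COMP: the homogeneous case of Clifford's theorem, part 2 (helper5)

The adapted basis `B (i, j) = φ i (w j)` of a homogeneous module.
-/

set_option autoImplicit false
set_option linter.unusedVariables false
set_option linter.unusedSectionVars false
set_option linter.style.haveILetI false

namespace Cfsg.Agent.Helper5.Asch

open Cfsg Cfsg.Geo Cfsg.Agent.Lead.Asch
open scoped MatrixGroups Matrix

variable {n : ℕ} {F : Type*} [Field F]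

/-- a basis adapted to a direct sum of copies of `W` -/
theorem basis_of_family {ι : Type*} [Fintype ι] (W : Submodule F (Fin n → F))
    (A : ι → Submodule F (Fin n → F)) (hind : iSupIndep A) (hsup : iSup A = ⊤)
    (φ' : ι → ((Fin n → F) →ₗ[F] (Fin n → F))) (hmap : ∀ i, A i = W.map (φ' i))
    (hinj : ∀ i, ∀ v ∈ W, φ' i v = 0 → v = 0) :
    ∃ (B : Module.Basis (Fin (Fintype.card ι) × Fin (Module.finrank F W)) F (Fin n → F))
      (g : ι ≃ Fin (Fintype.card ι)),
      ∀ i j, B (i, j) = φ' (g.symm i) ((Module.finBasis F W j : W) : Fin n → F) := by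
  classical
  let w : Module.Basis (Fin (Module.finrank F W)) F W := Module.finBasis F W
  have hint := DirectSum.isInternal_submodule_of_iSupIndep_of_iSup_eq_top hind hsup
  have hmem : ∀ (i : ι) (v : W), φ' i (v : Fin n → F) ∈ A i := by
    intro i v
    rw [hmap i]
    exact Submodule.mem_map_of_mem v.2
  let f : ∀ i : ι, W →ₗ[F] A i := fun i =>
    LinearMap.codRestrict (A i) ((φ' i).domRestrict W) (hmem i)
  have hfbij : ∀ i, Function.Bijective (f i) := by
    intro i
    constructor
    · intro a b hab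
      have h1 : φ' i (a : Fin n → F) = φ' i (b : Fin n → F) :=
        congrArg (fun z : A i => (z : Fin n → F)) hab
      have h2 : φ' i ((a - b : W) : Fin n → F) = 0 := by
        rw [Submodule.coe_sub, map_sub, h1, sub_self]
      exact sub_eq_zero.1 (Subtype.ext (hinj i _ (a - b).2 h2))
    · rintro ⟨t, ht⟩
      have ht' : t ∈ W.map (φ' i) := by rw [← hmap i]; exact ht
      obtain ⟨v, hv, rfl⟩ := ht'
      exact ⟨⟨v, hv⟩, rfl⟩
  let v : ∀ i : ι, Module.Basis (Fin (Module.finrank F W)) F (A i) :=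
    fun i => w.map (LinearEquiv.ofBijective (f i) (hfbij i))
  have hv : ∀ i j, ((v i j : A i) : Fin n → F) = φ' i (w j) := fun i j => rfl
  let col := hint.collectedBasis v
  have hcol : ∀ i j, col ⟨i, j⟩ = φ' i (w j) := by
    intro i j
    show hint.collectedBasis v ⟨i, j⟩ = _
    rw [DirectSum.IsInternal.collectedBasis_coe]
    exact hv i j
  let g : ι ≃ Fin (Fintype.card ι) := Fintype.equivFin ι
  let ε : (Σ _ : ι, Fin (Module.finrank F W)) ≃ Fin (Fintype.card ι) × Fin (Module.finrank F W) :=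
    (Equiv.sigmaEquivProd _ _).trans (Equiv.prodCongr g (Equiv.refl _))
  refine ⟨col.reindex ε, g, fun i j => ?_⟩
  rw [Module.Basis.reindex_apply]
  exact hcol (g.symm i) j

/-- the adapted basis of a homogeneous module -/
theorem exists_homog_basis [Fintype F] (hn : 0 < n) {N : Subgroup (GL (Fin n) F)}
    (hhom : ∀ X : Submodule F (Fin n → F), FullyInv N X → X = ⊥ ∨ X = ⊤) :
    ∃ (d e : ℕ) (W : Submodule F (Fin n → F)) (w : Module.Basis (Fin d) F W)
      (φ : Fin e → ((Fin n → F) →ₗ[F] (Fin n → F)))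
      (B : Module.Basis (Fin e × Fin d) F (Fin n → F)),
      IsMinInv N W ∧ (∀ i, Comm N (φ i)) ∧ (∀ i j, B (i, j) = φ i (w j)) ∧ n = e * d ∧
      d = Module.finrank F W := by
  classical
  have htop : (⊤ : Submodule F (Fin n → F)) ≠ ⊥ := by
    intro h
    have h1 : Module.finrank F (⊤ : Submodule F (Fin n → F)) = 0 := by rw [h]; simp
    rw [finrank_top, Module.finrank_fin_fun] at h1
    omega
  obtain ⟨W, hW, -⟩ := exists_isMinInv_le (Inv.top N) htop
  obtain ⟨𝒜, h𝒜, hindep, hsup⟩ := exists_indep_family hhom hW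
  choose! φ' hφ'comm hφ'eq hφ'ne using h𝒜
  have hind : iSupIndep (fun T : {T // T ∈ 𝒜} => (T : Submodule F (Fin n → F))) := hindep.independent
  have hsupA : (⨆ T : {T // T ∈ 𝒜}, (T : Submodule F (Fin n → F))) = ⊤ := by
    rw [← hsup, Finset.sup_id_eq_sSup, sSup_eq_iSup']
    rfl
  have hinj : ∀ T : {T // T ∈ 𝒜}, ∀ v ∈ W, φ' T.1 v = 0 → v = 0 := by
    intro T
    have hT0 : W.map (φ' T.1) ≠ ⊥ := by rw [← hφ'eq T.1 T.2]; exact hφ'ne T.1 T.2
    exact (hW.map_of_comm (hφ'comm T.1 T.2) hT0).2.2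
  obtain ⟨B, g, hB⟩ := basis_of_family W (fun T : {T // T ∈ 𝒜} => (T : Submodule F (Fin n → F)))
    hind hsupA (fun T => φ' T.1) (fun T => hφ'eq T.1 T.2) hinj
  refine ⟨Module.finrank F W, Fintype.card {T // T ∈ 𝒜}, W, Module.finBasis F W,
    fun i => φ' (g.symm i).1, B, hW, fun i => hφ'comm _ (g.symm i).2, hB, ?_, rfl⟩
  have := Module.finrank_eq_card_basis B
  rw [Module.finrank_fin_fun, Fintype.card_prod, Fintype.card_fin, Fintype.card_fin] at this
  exact this

end Cfsg.Agent.Helper5.Asch
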