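import Mathlib
import Cfsg.Agent.Helper5.AschHom2

/-!
# ASCH-COMP: the homogeneous case of Clifford's theorem, part 3 (helper5)

The matrix form `x = P · reindex (1_e ⊗ₖ ρ x) · P⁻¹` of a homogeneous group.
-/

set_option autoImplicit false
set_option linter.unusedVariables false
set_option linter.unusedSectionVars false
set_option linter.style.haveILetI false

namespace Cfsg.Agent.Helper5.Asch

open Cfsg Cfsg.Geo Cfsg.Agent.Lead.Asch
open scoped MatrixGroups Matrix Kronecker

variable {n : ℕ} {F : Type*} [Field F]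

/-- **the homogeneous matrix form** -/
theorem exists_homog_matrix [Fintype F] (hn : 0 < n) {N : Subgroup (GL (Fin n) F)}
    (hhom : ∀ X : Submodule F (Fin n → F), FullyInv N X → X = ⊥ ∨ X = ⊤) :
    ∃ (d e : ℕ) (eqv : Fin n ≃ Fin e × Fin d) (P : GL (Fin n) F) (ρ : N →* GL (Fin d) F),
      0 < d ∧ 0 < e ∧
      (∀ x : N, ((x : GL (Fin n) F) : Matrix (Fin n) (Fin n) F) * (P : Matrix (Fin n) (Fin n) F) =
        (P : Matrix (Fin n) (Fin n) F) * ((1 : Matrix (Fin e) (Fin e) F) ⊗ₖ
          ((ρ x : GL (Fin d) F) : Matrix (Fin d) (Fin d) F)).submatrix eqv eqv) ∧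
      ActsIrreducibly (Set.range fun x : N => ((ρ x : GL (Fin d) F) : Matrix (Fin d) (Fin d) F)) ∧
      ∃ W : Submodule F (Fin n → F), IsMinInv N W ∧ Module.finrank F W = d := by
  classical
  obtain ⟨d, e, W, w, φ, B, hW, hφ, hB, hnde, hd⟩ := exists_homog_basis hn hhom
  have hWinv : ∀ x : N, ∀ v ∈ W, L (x : GL (Fin n) F) v ∈ W := fun x v hv =>
    hW.1 x x.2 (Submodule.mem_map_of_mem hv)
  let rx : N → (W →ₗ[F] W) := fun x => (L (x : GL (Fin n) F)).restrict (hWinv x)
  have hrx : ∀ (x : N) (v : W), ((rx x v : W) : Fin n → F) = L (x : GL (Fin n) F) v := fun x v => rfl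
  let ρ₀ : N →* Matrix (Fin d) (Fin d) F :=
    { toFun := fun x => LinearMap.toMatrix w w (rx x)
      map_one' := by
        have : rx 1 = LinearMap.id := by
          apply LinearMap.ext
          intro v
          apply Subtype.ext
          rw [hrx]
          simp [L_one]
        rw [this, LinearMap.toMatrix_id]
      map_mul' := fun x y => by
        have : rx (x * y) = rx x ∘ₗ rx y := by
          apply LinearMap.ext
          intro v
          apply Subtype.ext
          rw [hrx, LinearMap.comp_apply, hrx, hrx, Subgroup.coe_mul, L_mul_apply]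
        rw [this, LinearMap.toMatrix_comp w w w] }
  have hρ₀ : ∀ x, ρ₀ x = LinearMap.toMatrix w w (rx x) := fun x => rfl
  let ρ : N →* GL (Fin d) F := ρ₀.toHomUnits
  have hρ : ∀ x : N, ((ρ x : GL (Fin d) F) : Matrix (Fin d) (Fin d) F) = ρ₀ x := fun x => rfl
  -- the action on the basis of `W`
  have hkey : ∀ (x : N) (j : Fin d),
      L (x : GL (Fin n) F) (w j) = ∑ k, ρ₀ x k j • ((w k : W) : Fin n → F) := by
    intro x j
    have h1 := w.sum_repr (rx x (w j))
    have h2 := congrArg (fun z : W => (z : Fin n → F)) h1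
    simp only [Submodule.coe_sum, Submodule.coe_smul, hrx] at h2
    rw [← h2]
    apply Finset.sum_congr rfl
    intro k _
    rw [hρ₀, LinearMap.toMatrix_apply]
  have hd0 : 0 < d := by
    rw [hd]
    by_contra h0
    have : Module.finrank F W = 0 := by omega
    exact hW.2.1 (Submodule.finrank_eq_zero.1 this)
  have he0 : 0 < e := by
    by_contra h0
    have : e = 0 := by omega
    rw [this, zero_mul] at hnde
    omega
  let eqv : Fin n ≃ Fin e × Fin d := (finCongr hnde).trans finProdFinEquiv.symm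
  let Bn : Module.Basis (Fin n) F (Fin n → F) := B.reindex eqv.symm
  have hBn : ∀ c, Bn c = B (eqv c) := by
    intro c
    show B.reindex eqv.symm c = _
    rw [Module.Basis.reindex_apply, Equiv.symm_symm]
  let e0 := Pi.basisFun F (Fin n)
  let Pm : Matrix (Fin n) (Fin n) F := e0.toMatrix Bn
  have hPm : ∀ r c, Pm r c = Bn c r := by
    intro r c
    show e0.toMatrix Bn r c = Bn c r
    rw [Module.Basis.toMatrix_apply]
    simp [e0]
  let P : GL (Fin n) F := ⟨Pm, Bn.toMatrix e0, e0.toMatrix_mul_toMatrix_flip Bn,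
    Bn.toMatrix_mul_toMatrix_flip e0⟩
  refine ⟨d, e, eqv, P, ρ, hd0, he0, ?_, ?_, W, hW, hd.symm⟩
  · -- the matrix relation
    intro x
    show ((x : GL (Fin n) F) : Matrix (Fin n) (Fin n) F) * Pm =
      Pm * ((1 : Matrix (Fin e) (Fin e) F) ⊗ₖ ρ₀ x).submatrix eqv eqv
    have hvec : ∀ c, L (x : GL (Fin n) F) (Bn c) =
        ∑ c', (((1 : Matrix (Fin e) (Fin e) F) ⊗ₖ ρ₀ x).submatrix eqv eqv) c' c • Bn c' := by
      intro c
      have h1 : L (x : GL (Fin n) F) (Bn c) = ∑ k, ρ₀ x k (eqv c).2 • B ((eqv c).1, k) := by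
        rw [hBn, show eqv c = ((eqv c).1, (eqv c).2) from rfl, hB, ← hφ _ x x.2, hkey, map_sum]
        apply Finset.sum_congr rfl
        intro k _
        rw [map_smul, hB]
      rw [h1]
      have h2 : (∑ c', (((1 : Matrix (Fin e) (Fin e) F) ⊗ₖ ρ₀ x).submatrix eqv eqv) c' c • Bn c') =
          ∑ p : Fin e × Fin d, (((1 : Matrix (Fin e) (Fin e) F) ⊗ₖ ρ₀ x) p (eqv c)) • B p := by
        rw [← Equiv.sum_comp eqv]
        apply Finset.sum_congr rfl
        intro c' _
        rw [hBn]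
        rfl
      rw [h2, Fintype.sum_prod_type, Finset.sum_eq_single (eqv c).1]
      · apply Finset.sum_congr rfl
        intro k _
        rw [Matrix.kroneckerMap_apply, Matrix.one_apply_eq, one_mul]
      · intro i _ hi
        apply Finset.sum_eq_zero
        intro k _
        rw [Matrix.kroneckerMap_apply, Matrix.one_apply_ne hi, zero_mul, zero_smul]
      · intro h
        exact absurd (Finset.mem_univ _) h
    ext r c
    have h1 : (((x : GL (Fin n) F) : Matrix (Fin n) (Fin n) F) * Pm) r c =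
        (L (x : GL (Fin n) F) (Bn c)) r := by
      rw [Matrix.mul_apply, L_def, Matrix.toLin'_apply, Matrix.mulVec, dotProduct]
      apply Finset.sum_congr rfl
      intro s _
      rw [hPm]
    rw [h1, hvec c, Matrix.mul_apply, Finset.sum_apply]
    apply Finset.sum_congr rfl
    intro c' _
    rw [Pi.smul_apply, smul_eq_mul, hPm, mul_comm]
  · -- irreducibility of `ρ`
    intro U hU
    let Ψ : (Fin d → F) ≃ₗ[F] W := w.equivFun.symm
    have hΨ : ∀ (x : N) (u : Fin d → F),
        L (x : GL (Fin n) F) ((Ψ u : W) : Fin n → F) = ((Ψ (ρ₀ x *ᵥ u) : W) : Fin n → F) := by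
      intro x u
      have h1 := LinearMap.toMatrix_mulVec_repr w w (rx x) (Ψ u)
      have h2 : (w.repr (Ψ u) : Fin d → F) = u := by
        have := w.equivFun.apply_symm_apply u
        exact this
      rw [h2] at h1
      have h3 : Ψ (ρ₀ x *ᵥ u) = rx x (Ψ u) := by
        apply w.equivFun.injective
        rw [show w.equivFun (Ψ (ρ₀ x *ᵥ u)) = ρ₀ x *ᵥ u from w.equivFun.apply_symm_apply _, hρ₀, h1]
        rfl
      rw [h3, hrx]
    let W' : Submodule F (Fin n → F) := (U.map (Ψ : (Fin d → F) →ₗ[F] W)).map W.subtype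
    have hW'mem : ∀ v, v ∈ W' ↔ ∃ u ∈ U, ((Ψ u : W) : Fin n → F) = v := by
      intro v
      constructor
      · rintro ⟨_, ⟨u, hu, rfl⟩, rfl⟩
        exact ⟨u, hu, rfl⟩
      · rintro ⟨u, hu, rfl⟩
        exact ⟨Ψ u, ⟨u, hu, rfl⟩, rfl⟩
    have hW'inv : Inv N W' := by
      intro x hx
      rintro _ ⟨v, hv, rfl⟩
      obtain ⟨u, hu, rfl⟩ := (hW'mem v).1 hv
      rw [hΨ ⟨x, hx⟩ u]
      apply (hW'mem _).2
      refine ⟨ρ₀ ⟨x, hx⟩ *ᵥ u, ?_, rfl⟩
      apply hU _ ⟨⟨x, hx⟩, rfl⟩
      show ρ₀ ⟨x, hx⟩ *ᵥ u ∈ Submodule.map (Matrix.toLin' (ρ₀ ⟨x, hx⟩)) U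
      exact Submodule.mem_map_of_mem (f := Matrix.toLin' (ρ₀ ⟨x, hx⟩)) hu
    have hW'le : W' ≤ W := by
      intro v hv
      obtain ⟨u, hu, rfl⟩ := (hW'mem v).1 hv
      exact (Ψ u).2
    by_cases h0 : W' = ⊥
    · left
      rw [eq_bot_iff]
      intro u hu
      have h1 : ((Ψ u : W) : Fin n → F) ∈ W' := (hW'mem _).2 ⟨u, hu, rfl⟩
      rw [h0, Submodule.mem_bot] at h1
      have h2 : Ψ u = 0 := Subtype.ext h1
      rw [Submodule.mem_bot]
      exact Ψ.map_eq_zero_iff.1 h2
    · right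
      have h1 := hW.2.2 W' hW'inv h0 hW'le
      rw [eq_top_iff]
      intro u _
      have h2 : ((Ψ u : W) : Fin n → F) ∈ W' := by rw [h1]; exact (Ψ u).2
      obtain ⟨u', hu', h3⟩ := (hW'mem _).1 h2
      have h4 : u' = u := Ψ.injective (Subtype.ext h3)
      rw [← h4]
      exact hu'

end Cfsg.Agent.Helper5.Asch
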