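import Mathlib
import Cfsg.Agent.Helper5.AschHom3

/-!
# ASCH-COMP: the homogeneous case of Clifford's theorem, part 4 (helper5)

In a homogeneous completely reducible module all minimal invariant subspaces have the same dimension `d`,
and `d` divides the dimension of every invariant subspace.  Final wrapper `homog_data`.
-/

set_option autoImplicit false
set_option linter.unusedVariables false
set_option linter.unusedSectionVars false
set_option linter.style.haveILetI false

namespace Cfsg.Agent.Helper5.Asch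

open Cfsg Cfsg.Geo Cfsg.Agent.Lead.Asch
open scoped MatrixGroups Matrix Kronecker

variable {n : ℕ} {F : Type*} [Field F]

/-- all minimal invariant subspaces of a homogeneous completely reducible module have the same dimension -/
theorem finrank_eq_of_isMinInv {N : Subgroup (GL (Fin n) F)}
    (hcr : ∀ X : Submodule F (Fin n → F), Inv N X → ∃ X', Inv N X' ∧ IsCompl X X')
    (hhom : ∀ X : Submodule F (Fin n → F), FullyInv N X → X = ⊥ ∨ X = ⊤)
    {W U : Submodule F (Fin n → F)} (hW : IsMinInv N W) (hU : IsMinInv N U) :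
    Module.finrank F U = Module.finrank F W := by
  obtain ⟨U', hU', hc⟩ := hcr U hU.1
  obtain ⟨e, he, he1, he2, he3⟩ := exists_proj hU.1 hU' hc
  have hex : ∃ φ : {φ : (Fin n → F) →ₗ[F] (Fin n → F) // Comm N φ}, (W.map φ.1).map e ≠ ⊥ := by
    by_contra hcon
    push Not at hcon
    have h1 : (⊤ : Submodule F (Fin n → F)).map e = ⊥ := by
      rw [← iSup_map_comm_eq_top hhom hW, Submodule.map_iSup]
      simp only [hcon, iSup_bot]
    apply hU.2.1
    rw [eq_bot_iff]
    intro u hu
    have h2 : e u ∈ (⊤ : Submodule F (Fin n → F)).map e := Submodule.mem_map_of_mem trivial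
    rw [h1, Submodule.mem_bot, he1 u hu] at h2
    rw [Submodule.mem_bot]
    exact h2
  obtain ⟨φ, hφ⟩ := hex
  rw [← Submodule.map_comp] at hφ
  have hψ : Comm N (e ∘ₗ φ.1) := he.comp φ.2
  obtain ⟨hmin, hfr, -⟩ := hW.map_of_comm hψ hφ
  have hle : W.map (e ∘ₗ φ.1) ≤ U := by
    rintro _ ⟨v, hv, rfl⟩
    exact he3 _
  rw [← hU.2.2 _ hmin.1 hφ hle, hfr]

/-- the dimension of a minimal invariant subspace divides the dimension of every invariant subspace -/
theorem dvd_finrank_of_inv [Fintype F] {N : Subgroup (GL (Fin n) F)}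
    (hcr : ∀ X : Submodule F (Fin n → F), Inv N X → ∃ X', Inv N X' ∧ IsCompl X X')
    (hhom : ∀ X : Submodule F (Fin n → F), FullyInv N X → X = ⊥ ∨ X = ⊤)
    {W : Submodule F (Fin n → F)} (hW : IsMinInv N W) {X : Submodule F (Fin n → F)} (hX : Inv N X) :
    Module.finrank F W ∣ Module.finrank F X := by
  classical
  let 𝒮 : Set (Submodule F (Fin n → F)) :=
    {S | Inv N S ∧ S ≤ X ∧ Module.finrank F W ∣ Module.finrank F S}
  have h𝒮 : 𝒮.Nonempty := ⟨⊥, Inv.bot N, bot_le, by simp⟩
  obtain ⟨S, hS, hmax⟩ := (Set.toFinite 𝒮).exists_maximal h𝒮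
  suffices h : S = X by rw [← h]; exact hS.2.2
  by_contra hne
  obtain ⟨S', hS', hc⟩ := hcr S hS.1
  have h1 : X ⊓ S' ≠ ⊥ := by
    intro h0
    apply hne
    apply le_antisymm hS.2.1
    have h2 : X = S ⊔ (X ⊓ S') := by
      have := sup_inf_assoc_of_le S' hS.2.1
      rw [hc.sup_eq_top, top_inf_eq] at this
      rw [inf_comm] at this
      rw [← this]
    rw [h2, h0, sup_bot_eq]
  obtain ⟨U, hU, hUle⟩ := exists_isMinInv_le (hX.inf hS') h1
  have hdisj : S ⊓ U = ⊥ := by
    rw [eq_bot_iff, ← hc.inf_eq_bot]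
    exact inf_le_inf_left S (hUle.trans inf_le_right)
  have hfr : Module.finrank F (S ⊔ U : Submodule F (Fin n → F)) =
      Module.finrank F S + Module.finrank F U := by
    have := Submodule.finrank_sup_add_finrank_inf_eq S U
    rw [hdisj, finrank_bot, add_zero] at this
    exact this
  have hnew : S ⊔ U ∈ 𝒮 := by
    refine ⟨hS.1.sup hU.1, sup_le hS.2.1 (hUle.trans inf_le_left), ?_⟩
    rw [hfr, finrank_eq_of_isMinInv hcr hhom hW hU]
    exact Dvd.dvd.add hS.2.2 (dvd_refl _)
  have h2 : U ≤ S := le_trans le_sup_right (hmax hnew le_sup_left)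
  apply hU.2.1
  rw [eq_bot_iff, ← hdisj]
  exact le_inf h2 (le_refl U)

/-- **HomogData**: the full package for a homogeneous normal subgroup of an irreducible group. -/
theorem homog_data [Fintype F] (hn : 0 < n) {H N : Subgroup (GL (Fin n) F)}
    (hH : ActsIrreducibly (matrixSet H)) (hnz : Nzes H N)
    (hhom : ∀ X : Submodule F (Fin n → F), FullyInv N X → X = ⊥ ∨ X = ⊤) :
    ∃ (d e : ℕ) (eqv : Fin n ≃ Fin e × Fin d) (P : GL (Fin n) F) (ρ : N →* GL (Fin d) F),
      0 < d ∧ 0 < e ∧
      (∀ x : N, ((x : GL (Fin n) F) : Matrix (Fin n) (Fin n) F) * (P : Matrix (Fin n) (Fin n) F) =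
        (P : Matrix (Fin n) (Fin n) F) * ((1 : Matrix (Fin e) (Fin e) F) ⊗ₖ
          ((ρ x : GL (Fin d) F) : Matrix (Fin d) (Fin d) F)).submatrix eqv eqv) ∧
      ActsIrreducibly (Set.range fun x : N => ((ρ x : GL (Fin d) F) : Matrix (Fin d) (Fin d) F)) ∧
      ∀ X : Submodule F (Fin n → F), Inv N X → d ∣ Module.finrank F X := by
  obtain ⟨d, e, eqv, P, ρ, hd, he, hrel, hirr, W, hW, hWd⟩ := exists_homog_matrix hn hhom
  refine ⟨d, e, eqv, P, ρ, hd, he, hrel, hirr, fun X hX => ?_⟩
  rw [← hWd]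
  exact dvd_finrank_of_inv (fun X hX => exists_compl hH hnz hn hX) hhom hW hX

end Cfsg.Agent.Helper5.Asch
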