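import Mathlib
import Cfsg.Prelude.Def_GeometricClasses
import Cfsg.Agent.Lead.AschBase

/-!
# ASCH-PRIME pieces E2' and E3 (helper5): the field cases of the symplectic-type case

* `exists_subfield_of_not_minimal`: roots of unity in a proper subfield;
* `exists_unitary_of_normal_form`: monomial groups with entries in `μ_n`, `n ∣ p ^ k + 1`, fix a unitary form.
-/

set_option autoImplicit false
set_option linter.unusedVariables false
set_option linter.unusedSectionVars false
set_option linter.style.haveILetI false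

namespace Cfsg.Agent.Helper5.Asch

open Cfsg Cfsg.Geo Cfsg.Agent.Lead.Asch
open scoped MatrixGroups Matrix

variable {n : ℕ} {F : Type*} [Field F] [Fintype F]

/-- in a field with `p ^ e` elements some element is moved by `a ↦ a ^ p ^ d`, `0 < d < e` -/
theorem exists_pow_ne {p e d : ℕ} (hp : p.Prime) (hcard : Fintype.card F = p ^ e) (hd0 : 0 < d)
    (hde : d < e) : ∃ a : F, a ^ p ^ d ≠ a := by
  classical
  by_contra hcon
  push Not at hcon
  obtain ⟨g, hg⟩ := IsCyclic.exists_ofOrder_eq_natCard (α := Fˣ)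
  rw [Nat.card_units, Nat.card_eq_fintype_card, hcard] at hg
  have h1 : (g : F) ^ p ^ d = g := hcon g
  have hpd : 2 ≤ p ^ d := by
    calc 2 ≤ p := hp.two_le
      _ = p ^ 1 := (pow_one p).symm
      _ ≤ p ^ d := Nat.pow_le_pow_right hp.pos hd0
  have hlt : p ^ d < p ^ e := Nat.pow_lt_pow_right hp.one_lt hde
  have h2 : g ^ (p ^ d - 1) = 1 := by
    apply Units.ext
    rw [Units.val_pow_eq_pow_val, Units.val_one]
    have h3 : (g : F) ^ (p ^ d - 1) * g = 1 * g := by
      rw [← pow_succ, one_mul, Nat.sub_add_cancel (by omega), h1]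
    exact mul_right_cancel₀ g.ne_zero h3
  have h4 := orderOf_dvd_of_pow_eq_one h2
  rw [hg] at h4
  have h5 := Nat.le_of_dvd (by omega) h4
  omega

/-- **E2'**: if the field is not minimal for the `n`-th roots of unity, they lie in a proper subfield. -/
theorem exists_subfield_of_not_minimal {p e d : ℕ} (hp : p.Prime) (hchar : CharP F p)
    (hcard : Fintype.card F = p ^ e) (hd0 : 0 < d) (hde : d < e) (hdvd : n ∣ p ^ d - 1) :
    ∃ F₀ : Subfield F, F₀ ≠ ⊤ ∧ ∀ a : F, a ^ n = 1 → a ∈ F₀ := by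
  haveI : ExpChar F p := ExpChar.prime hp
  refine ⟨RingHom.eqLocusField (iterateFrobenius F p d) (RingHom.id F), ?_, ?_⟩
  · intro htop
    obtain ⟨a, ha⟩ := exists_pow_ne (F := F) hp hcard hd0 hde
    apply ha
    have hmem : a ∈ RingHom.eqLocusField (iterateFrobenius F p d) (RingHom.id F) := by
      rw [htop]; trivial
    rw [RingHom.mem_eqLocusField, iterateFrobenius_def] at hmem
    exact hmem
  · intro a ha
    rw [RingHom.mem_eqLocusField, iterateFrobenius_def, RingHom.id_apply]
    obtain ⟨t, ht⟩ := hdvd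
    have hpd : 1 ≤ p ^ d := Nat.one_le_pow _ _ hp.pos
    have h1 : a ^ (p ^ d - 1) = 1 := by rw [ht, pow_mul, ha, one_pow]
    calc a ^ p ^ d = a ^ (p ^ d - 1 + 1) := by rw [Nat.sub_add_cancel hpd]
      _ = a := by rw [pow_succ, h1, one_mul]

/-- the action of a monomial matrix -/
theorem monomial_mulVec [NeZero n] (M : Matrix (Fin n) (Fin n) F) (j : Fin n) (m : Fin n → F)
    (hM : ∀ i k, M i k = if i = k + j then m k else 0) (w : Fin n → F) (k : Fin n) :
    (M *ᵥ w) (k + j) = m k * w k := by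
  classical
  rw [Matrix.mulVec, dotProduct, Finset.sum_eq_single k]
  · rw [hM, if_pos rfl]
  · intro l _ hl
    rw [hM, if_neg, zero_mul]
    intro h
    exact hl (add_right_cancel h).symm
  · intro h
    exact absurd (Finset.mem_univ k) h

/-- **E3**: a group of monomial matrices with entries in `μ_n ∪ {0}` (after the change of basis `B`) fixes a
non-degenerate unitary form when `n ∣ p ^ k + 1` and `|F| = p ^ (2 k)`. -/
theorem exists_unitary_of_normal_form {N : Subgroup (GL (Fin n) F)} (B : GL (Fin n) F)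
    (hB : ∀ g ∈ N, ∃ (j : Fin n) (m : Fin n → F), (∀ k, m k ^ n = 1) ∧
      ∀ i k, ((B : Matrix (Fin n) (Fin n) F) * (g : Matrix (Fin n) (Fin n) F) *
        ((B⁻¹ : GL (Fin n) F) : Matrix (Fin n) (Fin n) F)) i k = if i = k + j then m k else 0)
    {p k : ℕ} (hp : p.Prime) (hchar : CharP F p) (hcard : Fintype.card F = p ^ (2 * k)) (hk : 0 < k)
    (hdvd : n ∣ p ^ k + 1) :
    ∃ (σ : F ≃+* F) (f : (Fin n → F) → (Fin n → F) → F), IsUnitaryForm σ f ∧ FixesForm (matrixSet N) f := by
  classical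
  haveI : ExpChar F p := ExpChar.prime hp
  haveI : NeZero n := ⟨by
    rintro rfl
    have := Nat.eq_zero_of_zero_dvd hdvd
    omega⟩
  have hbij : Function.Bijective (iterateFrobenius F p k) := by
    have hinj : Function.Injective (iterateFrobenius F p k) := RingHom.injective _
    exact ⟨hinj, Finite.injective_iff_surjective.1 hinj⟩
  let σ : F ≃+* F := RingEquiv.ofBijective (iterateFrobenius F p k) hbij
  have hσ : ∀ a : F, σ a = a ^ p ^ k := fun a => by
    show iterateFrobenius F p k a = a ^ p ^ k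
    rw [iterateFrobenius_def]
  have hinvol : ∀ a : F, σ (σ a) = a := by
    intro a
    rw [hσ, hσ, ← pow_mul, ← pow_add, ← two_mul, ← hcard, FiniteField.pow_card]
  let Bm : Matrix (Fin n) (Fin n) F := (B : Matrix (Fin n) (Fin n) F)
  let f : (Fin n → F) → (Fin n → F) → F := fun u v => ∑ i, (Bm *ᵥ u) i * σ ((Bm *ᵥ v) i)
  have hf : ∀ u v, f u v = ∑ i, (Bm *ᵥ u) i * σ ((Bm *ᵥ v) i) := fun u v => rfl
  have hBinv : ((B⁻¹ : GL (Fin n) F) : Matrix (Fin n) (Fin n) F) * Bm = 1 := by
    show ((B⁻¹ : GL (Fin n) F) : Matrix (Fin n) (Fin n) F) * (B : Matrix (Fin n) (Fin n) F) = 1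
    rw [← Units.val_mul, inv_mul_cancel, Units.val_one]
  have hBinv' : Bm * ((B⁻¹ : GL (Fin n) F) : Matrix (Fin n) (Fin n) F) = 1 := by
    show (B : Matrix (Fin n) (Fin n) F) * ((B⁻¹ : GL (Fin n) F) : Matrix (Fin n) (Fin n) F) = 1
    rw [← Units.val_mul, mul_inv_cancel, Units.val_one]
  refine ⟨σ, f, ⟨?_, hinvol, ?_, ?_, ?_, ?_⟩, ?_⟩
  · -- σ ≠ id
    intro hid
    obtain ⟨a, ha⟩ := exists_pow_ne (F := F) (d := k) hp hcard hk (by omega)
    apply ha
    rw [← hσ, hid]
    rfl
  · intro x y v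
    rw [hf, hf, hf, Matrix.mulVec_add, ← Finset.sum_add_distrib]
    apply Finset.sum_congr rfl
    intro i _
    rw [Pi.add_apply, add_mul]
  · intro c x v
    rw [hf, hf, Matrix.mulVec_smul, Finset.mul_sum]
    apply Finset.sum_congr rfl
    intro i _
    rw [Pi.smul_apply, smul_eq_mul, mul_assoc]
  · intro v w
    rw [hf, hf, map_sum]
    apply Finset.sum_congr rfl
    intro i _
    rw [map_mul, hinvol, mul_comm]
  · -- non-degenerate
    intro v hv
    have hBv : Bm *ᵥ v ≠ 0 := by
      intro h0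
      apply hv
      have := congrArg (fun w => ((B⁻¹ : GL (Fin n) F) : Matrix (Fin n) (Fin n) F) *ᵥ w) h0
      simp only [Matrix.mulVec_mulVec, hBinv, Matrix.one_mulVec, Matrix.mulVec_zero] at this
      exact this
    obtain ⟨i, hi⟩ : ∃ i, (Bm *ᵥ v) i ≠ 0 := by
      by_contra hcon
      push Not at hcon
      exact hBv (funext hcon)
    have hx : Bm *ᵥ (((B⁻¹ : GL (Fin n) F) : Matrix (Fin n) (Fin n) F) *ᵥ Pi.single i 1) =
        Pi.single i 1 := by
      rw [Matrix.mulVec_mulVec, hBinv', Matrix.one_mulVec]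
    constructor
    · refine ⟨((B⁻¹ : GL (Fin n) F) : Matrix (Fin n) (Fin n) F) *ᵥ Pi.single i 1, ?_⟩
      rw [hf, hx, Finset.sum_eq_single i]
      · rw [Pi.single_eq_same, one_mul]
        intro h0
        apply hi
        have := congrArg σ.symm h0
        simpa using this
      · intro l _ hl
        rw [Pi.single_eq_of_ne hl, zero_mul]
      · intro h
        exact absurd (Finset.mem_univ i) h
    · refine ⟨((B⁻¹ : GL (Fin n) F) : Matrix (Fin n) (Fin n) F) *ᵥ Pi.single i 1, ?_⟩
      rw [hf, hx, Finset.sum_eq_single i]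
      · rw [Pi.single_eq_same, map_one, mul_one]
        exact hi
      · intro l _ hl
        rw [Pi.single_eq_of_ne hl, map_zero, mul_zero]
      · intro h
        exact absurd (Finset.mem_univ i) h
  · -- N fixes f
    intro s hs u v
    obtain ⟨g, hg, rfl⟩ := mem_matrixSet_iff.1 hs
    obtain ⟨j, m, hm, hM⟩ := hB g hg
    have hconj : ∀ w : Fin n → F, Bm *ᵥ ((g : Matrix (Fin n) (Fin n) F) *ᵥ w) =
        (Bm * (g : Matrix (Fin n) (Fin n) F) * ((B⁻¹ : GL (Fin n) F) : Matrix (Fin n) (Fin n) F)) *ᵥ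
          (Bm *ᵥ w) := by
      intro w
      rw [Matrix.mulVec_mulVec, Matrix.mulVec_mulVec, Matrix.mul_assoc, hBinv, Matrix.mul_one]
    have hone : ∀ l, m l * σ (m l) = 1 := by
      intro l
      obtain ⟨t, ht⟩ := hdvd
      rw [hσ, ← pow_succ', ht, pow_mul, hm, one_pow]
    rw [hf, hf, hconj, hconj, ← Equiv.sum_comp (Equiv.addRight j)]
    apply Finset.sum_congr rfl
    intro l _
    simp only [Equiv.coe_addRight]
    rw [monomial_mulVec _ j m hM, monomial_mulVec _ j m hM, map_mul]
    calc m l * (Bm *ᵥ u) l * (σ (m l) * σ ((Bm *ᵥ v) l))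
        = (m l * σ (m l)) * ((Bm *ᵥ u) l * σ ((Bm *ᵥ v) l)) := by ring
      _ = (Bm *ᵥ u) l * σ ((Bm *ᵥ v) l) := by rw [hone, one_mul]

end Cfsg.Agent.Helper5.Asch
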