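import Mathlib
import Cfsg.Prelude.Def_GeometricClasses
import Cfsg.Agent.Lead.AschBase
import Cfsg.Agent.Helper5.AschCl1

/-!
ASCH-COMP piece K3a: **Burnside's theorem**.  A group of matrices acting irreducibly with scalar commutant spans
the full matrix algebra.  From Mathlib's `jacobson_density`.
-/

set_option autoImplicit false
set_option linter.style.haveILetI false
set_option linter.unusedSectionVars false
set_option linter.unusedVariables false

namespace Cfsg.Agent.Helper5.AschK

open Cfsg Cfsg.Geo Cfsg.Agent.Lead.Asch Cfsg.Agent.Helper5.Asch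
open scoped MatrixGroups Matrix Kronecker

variable {n : ℕ} {F : Type*} [Field F]

/-- density, generic form: if the `R`-endomorphisms of a semisimple module are `F`-scalars, every `F`-endomorphism
agrees with an element of `R` on any finite set. -/
theorem density_of_scalar_end {R M : Type*} [Ring R] [AddCommGroup M] [Module F M] [Module R M]
    [IsSemisimpleModule R M] (hsc : ∀ f : Module.End R M, ∃ c : F, ∀ v, f v = c • v)
    (g : Module.End F M) (s : Finset M) : ∃ r : R, ∀ m ∈ s, g m = r • m := by
  let g' : Module.End (Module.End R M) M :=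
    { toFun := g
      map_add' := g.map_add
      map_smul' := fun φ v => by
        obtain ⟨c, hc⟩ := hsc φ
        show g (φ v) = φ (g v)
        rw [hc, hc, g.map_smul] }
  exact jacobson_density g' s

/-- Burnside for a subalgebra of `End V`: irreducible with scalar commutant implies everything. -/
theorem subalgebra_eq_top_of_irr (hn : 0 < n) (A : Subalgebra F (Module.End F (Fin n → F)))
    (hirr : ∀ W : Submodule F (Fin n → F), (∀ a ∈ A, W.map a ≤ W) → W = ⊥ ∨ W = ⊤)
    (hcomm : ∀ φ : Module.End F (Fin n → F), (∀ a ∈ A, φ ∘ₗ a = a ∘ₗ φ) → ∃ c : F, ∀ v, φ v = c • v) :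
    A = ⊤ := by
  classical
  haveI : Nontrivial (Fin n → F) := by
    haveI : Nonempty (Fin n) := ⟨⟨0, hn⟩⟩
    infer_instance
  -- simple module
  haveI hsimple : IsSimpleModule A (Fin n → F) := by
    rw [isSimpleModule_iff]
    refine { toNontrivial := inferInstance, eq_bot_or_eq_top := ?_ }
    intro W
    let W' : Submodule F (Fin n → F) :=
      { carrier := W
        add_mem' := fun ha hb => W.add_mem ha hb
        zero_mem' := W.zero_mem
        smul_mem' := fun c v hv => by
          have : c • v = (algebraMap F A c) • v := by
            rw [algebraMap_smul]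
          rw [this]
          exact W.smul_mem _ hv }
    have hW' : ∀ a ∈ A, W'.map a ≤ W' := by
      rintro a ha _ ⟨v, hv, rfl⟩
      exact W.smul_mem (⟨a, ha⟩ : A) hv
    rcases hirr W' hW' with h | h
    · left
      apply SetLike.ext'
      have := congrArg (fun X : Submodule F (Fin n → F) => (X : Set (Fin n → F))) h
      exact this
    · right
      apply SetLike.ext'
      have := congrArg (fun X : Submodule F (Fin n → F) => (X : Set (Fin n → F))) h
      exact this
  -- the A-endomorphisms are scalars
  have hsc : ∀ f : Module.End A (Fin n → F), ∃ c : F, ∀ v, f v = c • v := by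
    intro f
    let f' : Module.End F (Fin n → F) :=
      { toFun := f
        map_add' := f.map_add
        map_smul' := fun c v => by
          have : c • v = (algebraMap F A c) • v := by
            rw [algebraMap_smul]
          rw [this, f.map_smul, algebraMap_smul]
          rfl }
    refine hcomm f' (fun a ha => ?_)
    apply LinearMap.ext
    intro v
    show f (a v) = a (f v)
    exact f.map_smul (⟨a, ha⟩ : A) v
  -- every F-endomorphism is in A
  rw [eq_top_iff]
  intro g _
  obtain ⟨r, hr⟩ := density_of_scalar_end (R := A) hsc g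
    (Finset.univ.image fun i : Fin n => (Pi.single i 1 : Fin n → F))
  have hgr : g = (r : Module.End F (Fin n → F)) := by
    apply LinearMap.pi_ext'
    intro i
    apply LinearMap.ext_ring
    have := hr (Pi.single i 1) (Finset.mem_image_of_mem _ (Finset.mem_univ i))
    exact this
  rw [hgr]
  exact r.2

/-- **K3a: Burnside** (exact stub). -/
theorem span_matrixSet_eq_top {N : Subgroup (GL (Fin n) F)} (hN : ActsAbsolutelyIrreducibly (matrixSet N)) :
    Submodule.span F (matrixSet N) = ⊤ := by
  classical
  rcases Nat.eq_zero_or_pos n with hn | hn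
  · subst hn
    rw [eq_top_iff]
    intro M _
    have : M = 0 := Subsingleton.elim _ _
    rw [this]
    exact Submodule.zero_mem _
  -- the monoid hom
  let φ : GL (Fin n) F →* Module.End F (Fin n → F) :=
    { toFun := fun g => Matrix.toLin' (g : Matrix (Fin n) (Fin n) F)
      map_one' := by rw [Units.val_one, Matrix.toLin'_one]; rfl
      map_mul' := fun a b => by rw [Units.val_mul, Matrix.toLin'_mul]; rfl }
  let S : Set (Module.End F (Fin n → F)) := Matrix.toLin' '' matrixSet N
  have hS : S = ((N.toSubmonoid.map φ : Submonoid (Module.End F (Fin n → F))) : Set _) := by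
    ext a
    constructor
    · rintro ⟨_, ⟨x, hx, rfl⟩, rfl⟩
      exact ⟨x, hx, rfl⟩
    · rintro ⟨x, hx, rfl⟩
      exact ⟨_, ⟨x, hx, rfl⟩, rfl⟩
  let A : Subalgebra F (Module.End F (Fin n → F)) := Algebra.adjoin F S
  have hA : A = ⊤ := by
    apply subalgebra_eq_top_of_irr hn
    · intro W hW
      apply hN.1 W
      intro s hs
      exact hW _ (Algebra.subset_adjoin ⟨s, hs, rfl⟩)
    · intro ψ hψ
      obtain ⟨c, hc⟩ := hN.2 (LinearMap.toMatrix' ψ) (fun s hs => by
        have h := hψ (Matrix.toLin' s) (Algebra.subset_adjoin ⟨s, hs, rfl⟩)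
        apply Matrix.toLin'.injective
        rw [Matrix.toLin'_mul, Matrix.toLin'_mul, Matrix.toLin'_toMatrix']
        exact h)
      refine ⟨c, fun v => ?_⟩
      have h1 : ψ = Matrix.toLin' (LinearMap.toMatrix' ψ) := (Matrix.toLin'_toMatrix' ψ).symm
      rw [h1, hc]
      simp
  have hspan : Subalgebra.toSubmodule A = Submodule.span F S := by
    rw [Algebra.adjoin_eq_span, hS, Submonoid.closure_eq]
  have hmap : Submodule.span F S = (Submodule.span F (matrixSet N)).map
      (Matrix.toLin' : Matrix (Fin n) (Fin n) F ≃ₗ[F] _).toLinearMap := by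
    rw [Submodule.map_span]
    rfl
  rw [eq_top_iff]
  intro M _
  have hM : Matrix.toLin' M ∈ Subalgebra.toSubmodule A := by
    rw [hA]
    exact Submodule.mem_top
  rw [hspan, hmap] at hM
  obtain ⟨M', hM', hMM'⟩ := hM
  have : M' = M := Matrix.toLin'.injective hMM'
  rwa [this] at hM'

end Cfsg.Agent.Helper5.AschK
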