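import Mathlib
import Cfsg.Prelude.Def_GeometricClasses
import Cfsg.Agent.Lead.AschBase
import Cfsg.Agent.Helper5.AschHom4

/-!
ASCH-COMP piece K1a (`clifford_decomp`, exact stub of `notes/helper6_aschcomp_stubs.lean.txt`, with helper6's
`FullInv N` unfolded): a wrapper around `clifford_general`.
Also the two conversions between the matrix and the linear-map formulations of "fully invariant".
-/

set_option autoImplicit false
set_option linter.style.haveILetI false
set_option linter.unusedSectionVars false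
set_option linter.unusedVariables false

namespace Cfsg.Agent.Helper5.AschK

open Cfsg Cfsg.Geo Cfsg.Agent.Lead.Asch Cfsg.Agent.Helper5.Asch
open scoped MatrixGroups Matrix Kronecker

variable {n : ℕ} {F : Type*} [Field F]

/-- a linear map commuting with `N` is `toLin'` of a matrix commuting with `matrixSet N` -/
theorem comm_toLin'_of_commutes {N : Subgroup (GL (Fin n) F)} {c : Matrix (Fin n) (Fin n) F}
    (hc : ∀ s ∈ matrixSet N, c * s = s * c) : Comm N (Matrix.toLin' c) := by
  intro x hx v
  have h := hc _ ⟨x, hx, rfl⟩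
  show Matrix.toLin' c (Matrix.toLin' (x : Matrix (Fin n) (Fin n) F) v) =
    Matrix.toLin' (x : Matrix (Fin n) (Fin n) F) (Matrix.toLin' c v)
  rw [← LinearMap.comp_apply, ← LinearMap.comp_apply, ← Matrix.toLin'_mul, ← Matrix.toLin'_mul, h]

theorem commutes_toMatrix'_of_comm {N : Subgroup (GL (Fin n) F)} {φ : (Fin n → F) →ₗ[F] (Fin n → F)}
    (hφ : Comm N φ) : ∀ s ∈ matrixSet N, LinearMap.toMatrix' φ * s = s * LinearMap.toMatrix' φ := by
  rintro s ⟨x, hx, rfl⟩
  apply Matrix.toLin'.injective
  rw [Matrix.toLin'_mul, Matrix.toLin'_mul, Matrix.toLin'_toMatrix']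
  apply LinearMap.ext
  intro v
  exact hφ x hx v

/-- the matrix formulation of "fully invariant" implies the linear-map one -/
theorem fullyInv_of_matrix {N : Subgroup (GL (Fin n) F)} {U : Submodule F (Fin n → F)} (hU : Inv N U)
    (h : ∀ c : Matrix (Fin n) (Fin n) F, (∀ s ∈ matrixSet N, c * s = s * c) → U.map (Matrix.toLin' c) ≤ U) :
    FullyInv N U := by
  refine ⟨hU, fun φ hφ => ?_⟩
  have := h _ (commutes_toMatrix'_of_comm hφ)
  rwa [Matrix.toLin'_toMatrix'] at this

theorem matrix_of_fullyInv {N : Subgroup (GL (Fin n) F)} {U : Submodule F (Fin n → F)} (hU : FullyInv N U)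
    (c : Matrix (Fin n) (Fin n) F) (hc : ∀ s ∈ matrixSet N, c * s = s * c) : U.map (Matrix.toLin' c) ≤ U :=
  hU.2 _ (comm_toLin'_of_commutes hc)

/-- helper6's `FullInv N` (unfolded) from the linear-map formulation -/
theorem fullInv_iff {N : Subgroup (GL (Fin n) F)} :
    (∀ U : Submodule F (Fin n → F), Inv N U →
      (∀ c : Matrix (Fin n) (Fin n) F, (∀ s ∈ matrixSet N, c * s = s * c) → U.map (Matrix.toLin' c) ≤ U) →
      U = ⊥ ∨ U = ⊤) ↔ (∀ X : Submodule F (Fin n → F), FullyInv N X → X = ⊥ ∨ X = ⊤) := by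
  constructor
  · intro h X hX
    exact h X hX.1 (fun c hc => matrix_of_fullyInv hX c hc)
  · intro h U hU hc
    exact h U (fullyInv_of_matrix hU hc)

/-- **K1a** (exact stub, `FullInv N` unfolded). -/
theorem clifford_decomp [Fintype F] {H N : Subgroup (GL (Fin n) F)}
    (hH : ActsIrreducibly (matrixSet H)) (hNH : N ≤ H) (hnz : Nzes H N) :
    (∃ (t m : ℕ) (D : Fin t → Submodule F (Fin n → F)), IsMDecomposition m D ∧ t * m = n ∧
      H ≤ decompositionStabilizer D) ∨
    (∀ U : Submodule F (Fin n → F), Inv N U →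
      (∀ c : Matrix (Fin n) (Fin n) F, (∀ s ∈ matrixSet N, c * s = s * c) → U.map (Matrix.toLin' c) ≤ U) →
      U = ⊥ ∨ U = ⊤) := by
  rcases Nat.eq_zero_or_pos n with hn | hn
  · right
    subst hn
    intro U _ _
    left
    exact Subsingleton.elim _ _
  · rcases clifford_general hn hH hnz with ⟨t, m, D, hD, hle, -, -⟩ | h
    · left
      refine ⟨t, m, D, hD, ?_, hle⟩
      have := card_mul_eq D hD.indep hD.iSup_eq_top m hD.finrank_eq
      rw [Fintype.card_fin] at this
      exact this.symm
    · right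
      exact fullInv_iff.2 h

end Cfsg.Agent.Helper5.AschK
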