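import Mathlib
import Cfsg.Prelude.Def_GeometricClasses

/-!
# FORM-CLIFFORD, part 8: invariant Gram matrices of an absolutely irreducible set; the tensor decomposition

Pure matrix lemmas (Mathlib + Prelude only).
* `gram_unique`: two Gram matrices `G ≠ 0`, `G'` with `rᵀ G σ(r) = G` for all `r` in an absolutely irreducible set
  of invertible matrices: `G` is invertible and `G' = c • G`.
* `gram_kronecker`: a Gram matrix `T` on `Fin e × Fin d` invariant under all `1 ⊗ r` is `B ⊗ₖ G`.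
-/

set_option autoImplicit false
set_option linter.style.haveILetI false
set_option linter.unusedSectionVars false
set_option linter.unusedVariables false

namespace Cfsg.Agent.Helper5.AschF

open Cfsg Cfsg.Geo
open scoped Matrix Kronecker

variable {d e : ℕ} {F : Type*} [Field F]

/-- `G` is the Gram matrix of a `σ`-sesquilinear form invariant under `r` -/
def GramInv (σ : F →+* F) (r G : Matrix (Fin d) (Fin d) F) : Prop := rᵀ * G * r.map σ = G

theorem isUnit_det_map (σ : F →+* F) {r : Matrix (Fin d) (Fin d) F} (hr : IsUnit r.det) :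
    IsUnit (r.map σ).det := by
  have h1 : (r.map σ).det = σ r.det := by
    have := RingHom.map_det σ r
    rw [this]
    rfl
  rw [h1]
  exact hr.map σ

/-- a non-zero invariant Gram matrix of an irreducible set of invertible matrices is invertible -/
theorem isUnit_det_of_gramInv (σ : F →+* F) {R : Set (Matrix (Fin d) (Fin d) F)} (hR : ActsIrreducibly R)
    (hRu : ∀ r ∈ R, IsUnit r.det) {G : Matrix (Fin d) (Fin d) F} (hG : ∀ r ∈ R, GramInv σ r G)
    (hG0 : G ≠ 0) : IsUnit G.det := by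
  -- the kernel of `Gᵀ` is invariant
  let W : Submodule F (Fin d → F) := LinearMap.ker (Matrix.toLin' Gᵀ)
  have hW : ∀ r ∈ R, W.map (Matrix.toLin' r) ≤ W := by
    rintro r hr _ ⟨u, hu, rfl⟩
    have hu' : Gᵀ *ᵥ u = 0 := by
      have := LinearMap.mem_ker.1 hu
      rwa [Matrix.toLin'_apply] at this
    show Matrix.toLin' r u ∈ LinearMap.ker (Matrix.toLin' Gᵀ)
    rw [LinearMap.mem_ker, Matrix.toLin'_apply, Matrix.toLin'_apply]
    have h1 : (r.map σ)ᵀ * Gᵀ * r = Gᵀ := by
      have := congrArg Matrix.transpose (hG r hr)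
      rw [Matrix.transpose_mul, Matrix.transpose_mul, Matrix.transpose_transpose] at this
      rw [Matrix.mul_assoc]
      exact this
    have h2 : (r.map σ)ᵀ *ᵥ (Gᵀ *ᵥ (r *ᵥ u)) = 0 := by
      rw [Matrix.mulVec_mulVec, Matrix.mulVec_mulVec, h1, hu']
    have h3 : IsUnit ((r.map σ)ᵀ).det := by
      rw [Matrix.det_transpose]
      exact isUnit_det_map σ (hRu r hr)
    have h4 : ((r.map σ)ᵀ)⁻¹ *ᵥ ((r.map σ)ᵀ *ᵥ (Gᵀ *ᵥ (r *ᵥ u))) = Gᵀ *ᵥ (r *ᵥ u) := by
      rw [Matrix.mulVec_mulVec _ ((r.map σ)ᵀ)⁻¹ ((r.map σ)ᵀ), Matrix.nonsing_inv_mul _ h3,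
        Matrix.one_mulVec]
    rw [← h4, h2, Matrix.mulVec_zero]
  rcases hR W hW with h | h
  · -- `Gᵀ` is injective
    have hinj : Function.Injective (Matrix.toLin' Gᵀ) := LinearMap.ker_eq_bot.1 h
    have h1 : IsUnit Gᵀ := (Matrix.mulVec_injective_iff_isUnit).1 (by
      intro a b hab
      apply hinj
      rw [Matrix.toLin'_apply, Matrix.toLin'_apply]
      exact hab)
    have h2 : IsUnit Gᵀ.det := (Matrix.isUnit_iff_isUnit_det _).1 h1
    rwa [Matrix.det_transpose] at h2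
  · exfalso
    apply hG0
    have h1 : Matrix.toLin' Gᵀ = 0 := LinearMap.ker_eq_top.1 h
    have h2 : Gᵀ = 0 := by
      apply Matrix.toLin'.injective
      rw [h1, map_zero]
    have := congrArg Matrix.transpose h2
    rwa [Matrix.transpose_transpose, Matrix.transpose_zero] at this

/-- **uniqueness of the invariant Gram matrix** -/
theorem gram_unique (σ : F →+* F) {R : Set (Matrix (Fin d) (Fin d) F)} (hR : ActsAbsolutelyIrreducibly R)
    (hRu : ∀ r ∈ R, IsUnit r.det) {G G' : Matrix (Fin d) (Fin d) F} (hG : ∀ r ∈ R, GramInv σ r G)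
    (hG' : ∀ r ∈ R, GramInv σ r G') (hG0 : G ≠ 0) : ∃ c : F, G' = c • G := by
  have hGu : IsUnit G.det := isUnit_det_of_gramInv σ hR.1 hRu hG hG0
  -- `M = G' G⁻¹` commutes with all `rᵀ`
  have hcomm : ∀ r ∈ R, rᵀ * (G' * G⁻¹) = (G' * G⁻¹) * rᵀ := by
    intro r hr
    have hru : IsUnit (r.map σ).det := isUnit_det_map σ (hRu r hr)
    have key : ∀ X : Matrix (Fin d) (Fin d) F, GramInv σ r X → rᵀ * X = X * (r.map σ)⁻¹ := by
      intro X hX
      calc rᵀ * X = rᵀ * X * (r.map σ * (r.map σ)⁻¹) := by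
            rw [Matrix.mul_nonsing_inv _ hru, Matrix.mul_one]
        _ = (rᵀ * X * r.map σ) * (r.map σ)⁻¹ := by rw [← Matrix.mul_assoc]
        _ = X * (r.map σ)⁻¹ := by rw [show rᵀ * X * r.map σ = X from hX]
    have h1 : rᵀ * G = G * (r.map σ)⁻¹ := key G (hG r hr)
    have h2 : rᵀ * G' = G' * (r.map σ)⁻¹ := key G' (hG' r hr)
    have h3 : (r.map σ)⁻¹ = G⁻¹ * rᵀ * G := by
      rw [Matrix.mul_assoc, h1, ← Matrix.mul_assoc, Matrix.nonsing_inv_mul _ hGu, Matrix.one_mul]
    calc rᵀ * (G' * G⁻¹) = (rᵀ * G') * G⁻¹ := by rw [Matrix.mul_assoc]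
      _ = G' * (G⁻¹ * rᵀ * G) * G⁻¹ := by rw [h2, h3]
      _ = (G' * G⁻¹) * rᵀ := by
          simp only [Matrix.mul_assoc]
          rw [Matrix.mul_nonsing_inv _ hGu, Matrix.mul_one]
  have htr : ∀ (M r : Matrix (Fin d) (Fin d) F), rᵀ * M = M * rᵀ → Mᵀ * r = r * Mᵀ := by
    intro M r h
    have := congrArg Matrix.transpose h
    rwa [Matrix.transpose_mul, Matrix.transpose_mul, Matrix.transpose_transpose] at this
  obtain ⟨c, hc⟩ := hR.2 (G' * G⁻¹)ᵀ (fun r hr => htr _ r (hcomm r hr))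
  refine ⟨c, ?_⟩
  have h1 : G' * G⁻¹ = c • (1 : Matrix (Fin d) (Fin d) F) := by
    have := congrArg Matrix.transpose hc
    rwa [Matrix.transpose_transpose, Matrix.transpose_smul, Matrix.transpose_one] at this
  calc G' = G' * G⁻¹ * G := by rw [Matrix.mul_assoc, Matrix.nonsing_inv_mul _ hGu, Matrix.mul_one]
    _ = c • G := by rw [h1, Matrix.smul_mul, Matrix.one_mul]

/-- the `(i, j)` block of a matrix on `Fin e × Fin d` -/
def blk (T : Matrix (Fin e × Fin d) (Fin e × Fin d) F) (i j : Fin e) : Matrix (Fin d) (Fin d) F :=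
  fun a b => T (i, a) (j, b)

/-- the blocks of a Gram matrix invariant under `1 ⊗ r` are invariant under `r` -/
theorem blk_gramInv (σ : F →+* F) {r : Matrix (Fin d) (Fin d) F}
    {T : Matrix (Fin e × Fin d) (Fin e × Fin d) F}
    (hT : ((1 : Matrix (Fin e) (Fin e) F) ⊗ₖ r)ᵀ * T * ((1 : Matrix (Fin e) (Fin e) F) ⊗ₖ r).map σ = T)
    (i j : Fin e) : GramInv σ r (blk T i j) := by
  ext a b
  have h := congrFun (congrFun hT (i, a)) (j, b)
  rw [show blk T i j a b = T (i, a) (j, b) from rfl, ← h]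
  simp only [Matrix.mul_apply, Matrix.transpose_apply, Matrix.map_apply, Matrix.kroneckerMap_apply,
    Matrix.one_apply, Fintype.sum_prod_type, blk]
  symm
  rw [Finset.sum_eq_single j]
  · apply Finset.sum_congr rfl
    intro c _
    rw [if_pos rfl, one_mul]
    congr 1
    rw [Finset.sum_eq_single i]
    · apply Finset.sum_congr rfl
      intro c' _
      rw [if_pos rfl, one_mul]
    · intro k _ hk
      apply Finset.sum_eq_zero
      intro c' _
      rw [if_neg hk, zero_mul, zero_mul]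
    · intro h
      exact absurd (Finset.mem_univ i) h
  · intro k _ hk
    apply Finset.sum_eq_zero
    intro c _
    rw [if_neg hk, zero_mul, map_zero, mul_zero]
  · intro h
    exact absurd (Finset.mem_univ j) h

/-- **the tensor decomposition of an invariant Gram matrix** -/
theorem gram_kronecker (σ : F →+* F) {R : Set (Matrix (Fin d) (Fin d) F)}
    (hR : ActsAbsolutelyIrreducibly R) (hRu : ∀ r ∈ R, IsUnit r.det)
    {T : Matrix (Fin e × Fin d) (Fin e × Fin d) F} (hT0 : T ≠ 0)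
    (hT : ∀ r ∈ R, ((1 : Matrix (Fin e) (Fin e) F) ⊗ₖ r)ᵀ * T *
      ((1 : Matrix (Fin e) (Fin e) F) ⊗ₖ r).map σ = T) :
    ∃ (B : Matrix (Fin e) (Fin e) F) (G : Matrix (Fin d) (Fin d) F), T = B ⊗ₖ G ∧
      (∀ r ∈ R, GramInv σ r G) ∧ IsUnit G.det := by
  classical
  -- a non-zero block
  have hex : ∃ i j, blk T i j ≠ 0 := by
    by_contra hcon
    push Not at hcon
    apply hT0
    ext ⟨i, a⟩ ⟨j, b⟩
    have := congrFun (congrFun (hcon i j) a) b
    exact this
  obtain ⟨i₀, j₀, h0⟩ := hex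
  have hinv : ∀ i j, ∀ r ∈ R, GramInv σ r (blk T i j) := fun i j r hr => blk_gramInv σ (hT r hr) i j
  have hc : ∀ i j, ∃ c : F, blk T i j = c • blk T i₀ j₀ := fun i j =>
    gram_unique σ hR hRu (hinv i₀ j₀) (hinv i j) h0
  choose c hc using hc
  refine ⟨Matrix.of c, blk T i₀ j₀, ?_, hinv i₀ j₀, isUnit_det_of_gramInv σ hR.1 hRu (hinv i₀ j₀) h0⟩
  ext ⟨i, a⟩ ⟨j, b⟩
  rw [Matrix.kroneckerMap_apply, Matrix.of_apply]
  have := congrFun (congrFun (hc i j) a) b
  rw [Matrix.smul_apply, smul_eq_mul] at this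
  exact this

end Cfsg.Agent.Helper5.AschF
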