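import Mathlib
import Cfsg.Prelude.Def_GeometricClasses
import Cfsg.Agent.Lead.AschBase
import Cfsg.Agent.Helper3.AschForms
import Cfsg.Agent.Helper8.GUOrder
import Cfsg.Agent.Helper5.AschU5a
import Cfsg.Agent.Helper5.AschField

/-!
# ASCH-PRIME-U piece U5 (helper5): an absolutely irreducible subgroup of `GU_n(q)` fixing a non-degenerate
quadratic form is realisable over `F_q`.
-/

set_option autoImplicit false
set_option linter.unusedVariables false
set_option linter.unusedSectionVars false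
set_option linter.style.haveILetI false

namespace Cfsg.Agent.Helper5.AschU

open Cfsg Cfsg.Geo Cfsg.Agent.Lead.Asch Cfsg.Agent.Helper7.Herm
open scoped MatrixGroups Matrix

variable {n : ℕ} {F : Type*} [Field F]

theorem mat_ext_of_forall (M M' : Matrix (Fin n) (Fin n) F)
    (h : ∀ u v : Fin n → F, u ⬝ᵥ (M *ᵥ v) = u ⬝ᵥ (M' *ᵥ v)) : M = M' := by
  apply Matrix.toLin'.injective
  apply LinearMap.ext
  intro v
  rw [Matrix.toLin'_apply, Matrix.toLin'_apply]
  apply dotProduct_eq
  intro u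
  rw [dotProduct_comm, h, dotProduct_comm]

theorem mulVec_dotProduct' (g : Matrix (Fin n) (Fin n) F) (u w : Fin n → F) :
    (g *ᵥ u) ⬝ᵥ w = u ⬝ᵥ (gᵀ *ᵥ w) := by
  rw [Matrix.dotProduct_mulVec, Matrix.vecMul_transpose]

variable [Fintype F]

/-- **U5** -/
theorem realisable_of_fixes_quad (q : ℕ) (hF : Fintype.card F = q ^ 2) (hn : 1 ≤ n)
    {P : Subgroup (GL (Fin n) F)} (hPI : P ≤ GU n F q) (hP : ActsAbsolutelyIrreducibly (matrixSet P))
    (Q : (Fin n → F) → F) (hQ : IsNondegenerateQuadraticForm Q) (hfix : FixesQuadForm (matrixSet P) Q) :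
    ∃ F₀ : Subfield F, F₀ ≠ ⊤ ∧ RealisableOver F₀ (matrixSet P) := by
  classical
  obtain ⟨p, k, hp, hchar, hqk⟩ := exists_char_pow hF
  haveI : ExpChar F p := ExpChar.prime hp
  have hk : 0 < k := by
    by_contra h0
    have : k = 0 := by omega
    rw [this, pow_zero] at hqk
    rw [hqk] at hF
    have := Fintype.one_lt_card (α := F)
    omega
  let σ : F →+* F := iterateFrobenius F p k
  have hσ : ∀ x, σ x = x ^ q := by
    intro x
    show iterateFrobenius F p k x = x ^ q
    rw [iterateFrobenius_def, hqk]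
  have hσ2 : ∀ x, σ (σ x) = x := by
    intro x
    rw [hσ, hσ, ← pow_mul, ← sq, ← hF, FiniteField.pow_card]
  have hcard : Fintype.card F = p ^ (2 * k) := by rw [hF, hqk, ← pow_mul, mul_comm]
  obtain ⟨ω, hω'⟩ := Cfsg.Agent.Helper5.Asch.exists_pow_ne (F := F) (d := k) hp hcard hk (by omega)
  have hω : σ ω ≠ ω := by
    rw [hσ, hqk]; exact hω'
  have hmap2 : ∀ M : Matrix (Fin n) (Fin n) F, (M.map σ).map σ = M := by
    intro M
    ext i j
    simp only [Matrix.map_apply, hσ2]
  have hmapmul : ∀ A B : Matrix (Fin n) (Fin n) F, (A * B).map σ = A.map σ * B.map σ :=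
    fun A B => Matrix.map_mul
  have hmapone : (1 : Matrix (Fin n) (Fin n) F).map σ = 1 := Matrix.map_one σ (map_zero σ) (map_one σ)
  -- the Gram matrix of the polar form
  have hB : IsBilinearForm (QuadraticMap.polar Q) := hQ.polar_bilinear
  have hsesq := Cfsg.Agent.Helper3.Asch.IsSesq.of_bilinear hB
  let S : Matrix (Fin n) (Fin n) F := Cfsg.Agent.Helper3.Asch.gram (QuadraticMap.polar Q)
  have hS : ∀ u v, QuadraticMap.polar Q u v = u ⬝ᵥ (S *ᵥ v) := by
    intro u v
    have := hsesq.expand u v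
    simpa using this
  have hSdet : IsUnit S.det := hsesq.isUnit_det_gram (fun v hv => (hQ.nondegenerate v hv).1)
  -- the basic relation `S g = σ(g) S`
  have hrel : ∀ g ∈ P, S * (g : Matrix (Fin n) (Fin n) F) =
      (g : Matrix (Fin n) (Fin n) F).map σ * S := by
    intro g hg
    have ha : (g : Matrix (Fin n) (Fin n) F)ᵀ * (g : Matrix (Fin n) (Fin n) F).map σ = 1 := by
      have := (Cfsg.Agent.Helper8.GUOrder.mem_GU_iff hF g).1 (hPI hg)
      have h2 : (g : Matrix (Fin n) (Fin n) F).map (· ^ q) = (g : Matrix (Fin n) (Fin n) F).map σ := by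
        ext i j
        simp only [Matrix.map_apply, hσ]
      rwa [h2] at this
    have ha' : (g : Matrix (Fin n) (Fin n) F).map σ * (g : Matrix (Fin n) (Fin n) F)ᵀ = 1 :=
      mul_eq_one_comm.1 ha
    have hb : (g : Matrix (Fin n) (Fin n) F)ᵀ * S * (g : Matrix (Fin n) (Fin n) F) = S := by
      apply mat_ext_of_forall
      intro u v
      rw [← hS, Matrix.mul_assoc, ← Matrix.mulVec_mulVec, ← mulVec_dotProduct', ← Matrix.mulVec_mulVec,
        ← hS]
      unfold QuadraticMap.polar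
      rw [← Matrix.mulVec_add, hfix _ (coe_mem_matrixSet hg), hfix _ (coe_mem_matrixSet hg),
        hfix _ (coe_mem_matrixSet hg)]
    calc S * (g : Matrix (Fin n) (Fin n) F)
        = ((g : Matrix (Fin n) (Fin n) F).map σ * (g : Matrix (Fin n) (Fin n) F)ᵀ) * S *
            (g : Matrix (Fin n) (Fin n) F) := by rw [ha', Matrix.one_mul]
      _ = (g : Matrix (Fin n) (Fin n) F).map σ *
            ((g : Matrix (Fin n) (Fin n) F)ᵀ * S * (g : Matrix (Fin n) (Fin n) F)) := by
          simp only [Matrix.mul_assoc]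
      _ = (g : Matrix (Fin n) (Fin n) F).map σ * S := by rw [hb]
  -- `Z = σ(S) S` is scalar
  let Z : Matrix (Fin n) (Fin n) F := S.map σ * S
  have hZcomm : ∀ s ∈ matrixSet P, Z * s = s * Z := by
    intro s hs
    obtain ⟨g, hg, rfl⟩ := mem_matrixSet_iff.1 hs
    have h1 := hrel g hg
    have h2 : S.map σ * (g : Matrix (Fin n) (Fin n) F).map σ =
        (g : Matrix (Fin n) (Fin n) F) * S.map σ := by
      have := congrArg (fun M : Matrix (Fin n) (Fin n) F => M.map σ) h1
      simp only [hmapmul, hmap2] at this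
      exact this
    show S.map σ * S * (g : Matrix (Fin n) (Fin n) F) = (g : Matrix (Fin n) (Fin n) F) * (S.map σ * S)
    rw [Matrix.mul_assoc, h1, ← Matrix.mul_assoc, h2, Matrix.mul_assoc]
  obtain ⟨c, hc⟩ := hP.2 Z hZcomm
  have hZdet : Z.det ≠ 0 := by
    show (S.map σ * S).det ≠ 0
    rw [Matrix.det_mul]
    have h1 : (S.map σ).det = σ S.det := by
      have := RingHom.map_det σ S
      rw [this]
      rfl
    rw [h1]
    exact mul_ne_zero ((map_ne_zero σ).2 hSdet.ne_zero) hSdet.ne_zero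
  haveI : Nonempty (Fin n) := ⟨⟨0, hn⟩⟩
  have hc0 : c ≠ 0 := by
    intro h0
    rw [h0, zero_smul] at hc
    rw [hc, Matrix.det_zero] at hZdet
    exact hZdet rfl
  have hZ' : S * S.map σ = c • (1 : Matrix (Fin n) (Fin n) F) := by
    have h1 : (c⁻¹ • S.map σ) * S = 1 := by
      rw [Matrix.smul_mul]
      show c⁻¹ • Z = 1
      rw [hc, smul_smul, inv_mul_cancel₀ hc0, one_smul]
    have h2 := mul_eq_one_comm.1 h1
    rw [Matrix.mul_smul] at h2
    have := congrArg (fun M : Matrix (Fin n) (Fin n) F => c • M) h2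
    simp only [smul_smul, mul_inv_cancel₀ hc0, one_smul] at this
    exact this
  have hσc : σ c = c := by
    have h1 : Z.map σ = S * S.map σ := by
      show (S.map σ * S).map σ = _
      rw [hmapmul, hmap2]
    have h2 : Z.map σ = σ c • (1 : Matrix (Fin n) (Fin n) F) := by
      rw [hc]
      ext i j
      simp only [Matrix.map_apply, Matrix.smul_apply, smul_eq_mul, map_mul, Matrix.one_apply]
      split_ifs <;> simp
    have h3 := h1.symm.trans h2
    rw [hZ'] at h3
    have h4 := congrFun (congrFun h3 ⟨0, hn⟩) ⟨0, hn⟩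
    simpa using h4.symm
  -- the norm
  obtain ⟨b, hb⟩ := exists_norm_eq hF c (by rw [← hσ, hσc]) hc0
  have hb0 : b ≠ 0 := by
    intro h0
    rw [h0, zero_pow (by omega)] at hb
    exact hc0 hb.symm
  have hbσ : b * σ b = c := by rw [hσ, ← pow_succ', hb]
  let T : Matrix (Fin n) (Fin n) F := b⁻¹ • S
  have hTmap : T.map σ = (σ b)⁻¹ • S.map σ := by
    ext i j
    simp only [T, Matrix.map_apply, Matrix.smul_apply, smul_eq_mul, map_mul, map_inv₀]
  have hT : T.map σ * T = 1 := by
    rw [hTmap]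
    show ((σ b)⁻¹ • S.map σ) * (b⁻¹ • S) = 1
    rw [Matrix.smul_mul, Matrix.mul_smul, smul_smul]
    show ((σ b)⁻¹ * b⁻¹) • Z = 1
    rw [hc, smul_smul, ← hbσ]
    have : (σ b)⁻¹ * b⁻¹ * (b * σ b) = 1 := by
      have hσb : σ b ≠ 0 := (map_ne_zero σ).2 hb0
      field_simp
    rw [this, one_smul]
  have hT' : T * T.map σ = 1 := mul_eq_one_comm.1 hT
  have hTrel : ∀ g ∈ P, T * (g : Matrix (Fin n) (Fin n) F) =
      (g : Matrix (Fin n) (Fin n) F).map σ * T := by
    intro g hg
    show (b⁻¹ • S) * (g : Matrix (Fin n) (Fin n) F) = (g : Matrix (Fin n) (Fin n) F).map σ * (b⁻¹ • S)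
    rw [Matrix.smul_mul, Matrix.mul_smul, hrel g hg]
  -- Hilbert 90
  obtain ⟨C, hC⟩ := exists_descent σ hσ2 ω hω T hT
  have hCC : ((C⁻¹ : GL (Fin n) F) : Matrix (Fin n) (Fin n) F) * (C : Matrix (Fin n) (Fin n) F) = 1 := by
    rw [← Units.val_mul, inv_mul_cancel, Units.val_one]
  have hCC' : (C : Matrix (Fin n) (Fin n) F) * ((C⁻¹ : GL (Fin n) F) : Matrix (Fin n) (Fin n) F) = 1 := by
    rw [← Units.val_mul, mul_inv_cancel, Units.val_one]
  have hCi : ((C⁻¹ : GL (Fin n) F) : Matrix (Fin n) (Fin n) F).map σ =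
      ((C⁻¹ : GL (Fin n) F) : Matrix (Fin n) (Fin n) F) * T.map σ := by
    have h1 : (((C⁻¹ : GL (Fin n) F) : Matrix (Fin n) (Fin n) F) * T.map σ) *
        (C : Matrix (Fin n) (Fin n) F).map σ = 1 := by
      rw [hC, Matrix.mul_assoc, ← Matrix.mul_assoc (T.map σ), hT, Matrix.one_mul, hCC]
    have h2 : (C : Matrix (Fin n) (Fin n) F).map σ *
        ((C⁻¹ : GL (Fin n) F) : Matrix (Fin n) (Fin n) F).map σ = 1 := by
      rw [← hmapmul, hCC', hmapone]
    calc ((C⁻¹ : GL (Fin n) F) : Matrix (Fin n) (Fin n) F).map σ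
        = ((((C⁻¹ : GL (Fin n) F) : Matrix (Fin n) (Fin n) F) * T.map σ) *
            (C : Matrix (Fin n) (Fin n) F).map σ) *
            ((C⁻¹ : GL (Fin n) F) : Matrix (Fin n) (Fin n) F).map σ := by rw [h1, Matrix.one_mul]
      _ = (((C⁻¹ : GL (Fin n) F) : Matrix (Fin n) (Fin n) F) * T.map σ) *
            ((C : Matrix (Fin n) (Fin n) F).map σ *
            ((C⁻¹ : GL (Fin n) F) : Matrix (Fin n) (Fin n) F).map σ) := by
          simp only [Matrix.mul_assoc]
      _ = ((C⁻¹ : GL (Fin n) F) : Matrix (Fin n) (Fin n) F) * T.map σ := by rw [h2, Matrix.mul_one]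
  refine ⟨RingHom.eqLocusField σ (RingHom.id F), ?_, C⁻¹, ?_⟩
  · intro htop
    apply hω
    have hmem : ω ∈ RingHom.eqLocusField σ (RingHom.id F) := by rw [htop]; trivial
    exact hmem
  · intro s hs i j
    obtain ⟨g, hg, rfl⟩ := mem_matrixSet_iff.1 hs
    rw [inv_inv]
    have hfixed : (((C⁻¹ : GL (Fin n) F) : Matrix (Fin n) (Fin n) F) * (g : Matrix (Fin n) (Fin n) F) *
        (C : Matrix (Fin n) (Fin n) F)).map σ =
        ((C⁻¹ : GL (Fin n) F) : Matrix (Fin n) (Fin n) F) * (g : Matrix (Fin n) (Fin n) F) *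
        (C : Matrix (Fin n) (Fin n) F) := by
      rw [hmapmul, hmapmul, hCi, hC]
      calc ((C⁻¹ : GL (Fin n) F) : Matrix (Fin n) (Fin n) F) * T.map σ *
            (g : Matrix (Fin n) (Fin n) F).map σ * (T * (C : Matrix (Fin n) (Fin n) F))
          = ((C⁻¹ : GL (Fin n) F) : Matrix (Fin n) (Fin n) F) * T.map σ *
            ((g : Matrix (Fin n) (Fin n) F).map σ * T) * (C : Matrix (Fin n) (Fin n) F) := by
            simp only [Matrix.mul_assoc]
        _ = ((C⁻¹ : GL (Fin n) F) : Matrix (Fin n) (Fin n) F) * (T.map σ * T) *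
            (g : Matrix (Fin n) (Fin n) F) * (C : Matrix (Fin n) (Fin n) F) := by
            rw [← hTrel g hg]
            simp only [Matrix.mul_assoc]
        _ = _ := by rw [hT, Matrix.mul_one]
    have := congrFun (congrFun hfixed i) j
    rw [Matrix.map_apply] at this
    exact this

end Cfsg.Agent.Helper5.AschU
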