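import Mathlib
import Cfsg.Prelude.Def_GeometricClasses
import Cfsg.Agent.Lead.AschBase
import Cfsg.Agent.Helper3.AschForms
import Cfsg.Agent.Helper5.AschU5
import Cfsg.Agent.Helper5.AschClG

/-!
# FORM-CLIFFORD, part 1: reflexive non-degenerate sesquilinear forms given as functions

`RForm σ f`: `f` is `σ`-sesquilinear (helper3's `IsSesq`), reflexive and non-degenerate.
`perp f X`: the (left) orthogonal complement.  Adjoints of the commutant, `perp` of a fully invariant subspace is
fully invariant, dimension estimate, behaviour under isometries.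
-/

set_option autoImplicit false
set_option linter.style.haveILetI false
set_option linter.unusedSectionVars false
set_option linter.unusedVariables false

namespace Cfsg.Agent.Helper5.AschF

open Cfsg Cfsg.Geo Cfsg.Agent.Lead.Asch Cfsg.Agent.Helper5.Asch Cfsg.Agent.Helper5.AschU
open Cfsg.Agent.Helper3.Asch
open scoped MatrixGroups Matrix

variable {n : ℕ} {F : Type*} [Field F]

/-- a reflexive non-degenerate `σ`-sesquilinear form -/
structure RForm (σ : F ≃+* F) (f : (Fin n → F) → (Fin n → F) → F) : Prop where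
  sesq : IsSesq σ f
  refl : ∀ u v, f u v = 0 → f v u = 0
  nondeg : IsNondegenerateForm f

variable {σ : F ≃+* F} {f : (Fin n → F) → (Fin n → F) → F}

theorem RForm.zero_left (hf : RForm σ f) (v : Fin n → F) : f 0 v = 0 := by
  have := hf.sesq.smul_left 0 0 v
  simpa using this

theorem RForm.zero_right (hf : RForm σ f) (u : Fin n → F) : f u 0 = 0 := by
  have := hf.sesq.smul_right 0 u 0
  simpa using this

theorem RForm.neg_right (hf : RForm σ f) (u v : Fin n → F) : f u (-v) = - f u v := by
  have := hf.sesq.smul_right (-1) u v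
  simpa using this

theorem RForm.sub_right (hf : RForm σ f) (u v w : Fin n → F) : f u (v - w) = f u v - f u w := by
  rw [sub_eq_add_neg, hf.sesq.add_right, hf.neg_right, sub_eq_add_neg]

theorem RForm.ext_right (hf : RForm σ f) {a b : Fin n → F} (h : ∀ u, f u a = f u b) : a = b := by
  by_contra hab
  have hne : a - b ≠ 0 := sub_ne_zero.2 hab
  obtain ⟨x, hx⟩ := (hf.nondeg _ hne).1
  apply hx
  rw [hf.sub_right, h, sub_self]

/-- the left orthogonal complement -/
def perp (hf : RForm σ f) (X : Submodule F (Fin n → F)) : Submodule F (Fin n → F) where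
  carrier := {u | ∀ v ∈ X, f u v = 0}
  add_mem' := by
    intro a b ha hb v hv
    rw [hf.sesq.add_left, ha v hv, hb v hv, add_zero]
  zero_mem' := fun v _ => hf.zero_left v
  smul_mem' := by
    intro c a ha v hv
    rw [hf.sesq.smul_left, ha v hv, mul_zero]

theorem mem_perp (hf : RForm σ f) {X : Submodule F (Fin n → F)} {u : Fin n → F} :
    u ∈ perp hf X ↔ ∀ v ∈ X, f u v = 0 := Iff.rfl

theorem perp_anti (hf : RForm σ f) {X Y : Submodule F (Fin n → F)} (h : X ≤ Y) : perp hf Y ≤ perp hf X :=
  fun u hu v hv => hu v (h hv)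

theorem perp_sup (hf : RForm σ f) (X Y : Submodule F (Fin n → F)) :
    perp hf (X ⊔ Y) = perp hf X ⊓ perp hf Y := by
  apply le_antisymm
  · exact le_inf (perp_anti hf le_sup_left) (perp_anti hf le_sup_right)
  · rintro u ⟨h1, h2⟩ v hv
    obtain ⟨a, ha, b, hb, rfl⟩ := Submodule.mem_sup.1 hv
    rw [hf.sesq.add_right, h1 a ha, h2 b hb, add_zero]

/-- reflexivity: `X ≤ perp Y ↔ Y ≤ perp X` -/
theorem le_perp_comm (hf : RForm σ f) {X Y : Submodule F (Fin n → F)} :
    X ≤ perp hf Y ↔ Y ≤ perp hf X :=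
  ⟨fun h v hv u hu => hf.refl _ _ (h hu v hv), fun h u hu v hv => hf.refl _ _ (h hv u hu)⟩

theorem perp_ne_top (hf : RForm σ f) {X : Submodule F (Fin n → F)} (hX : X ≠ ⊥) : perp hf X ≠ ⊤ := by
  intro htop
  obtain ⟨v, hv, hv0⟩ := Submodule.exists_mem_ne_zero_of_ne_bot hX
  obtain ⟨x, hx⟩ := (hf.nondeg v hv0).1
  apply hx
  have : x ∈ perp hf X := by rw [htop]; trivial
  exact this v hv

/-- `U ⊓ perp U = ⊥` means that `U` is non-degenerate -/
theorem isNondegenerateOn_of_inf_perp (hf : RForm σ f) {U : Submodule F (Fin n → F)}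
    (h : U ⊓ perp hf U = ⊥) : IsNondegenerateOn f U := by
  intro w hw hw0
  have key : ∃ x ∈ U, f w x ≠ 0 := by
    by_contra hcon
    push Not at hcon
    have : w ∈ U ⊓ perp hf U := ⟨hw, fun v hv => hcon v hv⟩
    rw [h, Submodule.mem_bot] at this
    exact hw0 this
  refine ⟨?_, key⟩
  by_contra hcon
  push Not at hcon
  obtain ⟨x, hx, hwx⟩ := key
  exact hwx (hf.refl _ _ (hcon x hx))

/-! ### isometries -/

/-- `h` preserves `f` -/
def Isom (f : (Fin n → F) → (Fin n → F) → F) (h : GL (Fin n) F) : Prop :=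
  ∀ u v, f (L h u) (L h v) = f u v

theorem Isom.inv {h : GL (Fin n) F} (hh : Isom f h) : Isom f h⁻¹ := by
  intro u v
  have := hh (L h⁻¹ u) (L h⁻¹ v)
  rw [L_apply_inv, L_apply_inv] at this
  exact this.symm

theorem Isom.mul {g h : GL (Fin n) F} (hg : Isom f g) (hh : Isom f h) : Isom f (g * h) := by
  intro u v
  rw [L_mul_apply, L_mul_apply, hg, hh]

theorem perp_map (hf : RForm σ f) {h : GL (Fin n) F} (hh : Isom f h) (X : Submodule F (Fin n → F)) :
    perp hf (X.map (L h)) = (perp hf X).map (L h) := by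
  ext u
  constructor
  · intro hu
    refine ⟨L h⁻¹ u, ?_, L_apply_inv h u⟩
    intro v hv
    have := hu (L h v) (Submodule.mem_map_of_mem hv)
    rw [← hh, L_apply_inv]
    exact this
  · rintro ⟨w, hw, rfl⟩ _ ⟨v, hv, rfl⟩
    rw [hh]
    exact hw v hv

/-! ### the dimension of `perp` -/

theorem finrank_perp_ge (hf : RForm σ f) (X : Submodule F (Fin n → F)) :
    n ≤ Module.finrank F (perp hf X) + Module.finrank F X := by
  classical
  let k := Module.finrank F X
  let b : Module.Basis (Fin k) F X := Module.finBasis F X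
  let A : (Fin n → F) →ₗ[F] (Fin k → F) :=
    { toFun := fun u i => f u (b i : Fin n → F)
      map_add' := fun u w => by funext i; exact hf.sesq.add_left u w _
      map_smul' := fun c u => by funext i; simpa using hf.sesq.smul_left c u _ }
  have hker : LinearMap.ker A ≤ perp hf X := by
    intro u hu v hv
    have hu' : ∀ i, f u (b i : Fin n → F) = 0 := fun i => congrFun (LinearMap.mem_ker.1 hu) i
    -- the right kernel of `f u` is a subspace containing the basis
    let R : Submodule F (Fin n → F) :=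
      { carrier := {w | f u w = 0}
        add_mem' := by
          intro a c ha hc
          show f u (a + c) = 0
          rw [hf.sesq.add_right, ha, hc, add_zero]
        zero_mem' := hf.zero_right u
        smul_mem' := by
          intro c a ha
          show f u (c • a) = 0
          rw [hf.sesq.smul_right, ha, mul_zero] }
    have hXR : X ≤ R := by
      intro w hw
      have h1 := b.sum_repr ⟨w, hw⟩
      have h2 : w = ∑ i, (b.repr ⟨w, hw⟩ i) • (b i : Fin n → F) := by
        have := congrArg (fun x : X => (x : Fin n → F)) h1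
        simp only [Submodule.coe_sum, Submodule.coe_smul] at this
        exact this.symm
      rw [h2]
      apply Submodule.sum_mem
      intro i _
      exact R.smul_mem _ (hu' i)
    exact hXR hv
  have h1 := LinearMap.finrank_range_add_finrank_ker A
  rw [Module.finrank_fin_fun] at h1
  have h2 : Module.finrank F (LinearMap.range A) ≤ k := by
    have := Submodule.finrank_le (LinearMap.range A)
    rwa [Module.finrank_fin_fun] at this
  have h3 : Module.finrank F (LinearMap.ker A) ≤ Module.finrank F (perp hf X) :=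
    Submodule.finrank_mono hker
  omega

/-! ### adjoints -/

/-- every matrix has a (right) adjoint -/
theorem exists_adjoint (hf : RForm σ f) (Φ : Matrix (Fin n) (Fin n) F) :
    ∃ Φ' : Matrix (Fin n) (Fin n) F, ∀ u v, f (Φ *ᵥ u) v = f u (Φ' *ᵥ v) := by
  have hT : IsUnit (gram f).det := hf.sesq.isUnit_det_gram (fun v hv => (hf.nondeg v hv).1)
  set T := gram f with hTdef
  refine ⟨(T⁻¹ * Φᵀ * T).map σ.symm, fun u v => ?_⟩
  rw [hf.sesq.expand, hf.sesq.expand]
  have h1 : (fun j => σ (((T⁻¹ * Φᵀ * T).map σ.symm *ᵥ v) j)) =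
      (T⁻¹ * Φᵀ * T) *ᵥ (fun j => σ (v j)) := by
    have := map_mulVec' (σ : F →+* F) ((T⁻¹ * Φᵀ * T).map σ.symm) v
    have h2 : ((T⁻¹ * Φᵀ * T).map σ.symm).map (σ : F →+* F) = T⁻¹ * Φᵀ * T := by
      ext i j
      show σ (σ.symm ((T⁻¹ * Φᵀ * T) i j)) = _
      exact σ.apply_symm_apply _
    rw [h2] at this
    exact this
  rw [h1, Matrix.mulVec_mulVec, ← Matrix.mul_assoc, ← Matrix.mul_assoc, Matrix.mul_nonsing_inv _ hT,
    Matrix.one_mul, ← Matrix.mulVec_mulVec, mulVec_dotProduct']

/-- the adjoint of an element of the commutant of a group of isometries lies in the commutant -/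
theorem exists_adjoint_comm (hf : RForm σ f) {N : Subgroup (GL (Fin n) F)} (hN : ∀ x ∈ N, Isom f x)
    {φ : (Fin n → F) →ₗ[F] (Fin n → F)} (hφ : Comm N φ) :
    ∃ φ' : (Fin n → F) →ₗ[F] (Fin n → F), Comm N φ' ∧ ∀ u v, f (φ u) v = f u (φ' v) := by
  obtain ⟨Φ', hΦ'⟩ := exists_adjoint hf (LinearMap.toMatrix' φ)
  have hadj : ∀ u v, f (φ u) v = f u (Matrix.toLin' Φ' v) := by
    intro u v
    have := hΦ' u v
    rw [← Matrix.toLin'_apply, Matrix.toLin'_toMatrix'] at this
    rw [this, Matrix.toLin'_apply]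
  refine ⟨Matrix.toLin' Φ', ?_, hadj⟩
  intro x hx v
  apply hf.ext_right
  intro u
  have hxi : x⁻¹ ∈ N := N.inv_mem hx
  calc f u (Matrix.toLin' Φ' (L x v)) = f (φ u) (L x v) := (hadj _ _).symm
    _ = f (L x (L x⁻¹ (φ u))) (L x v) := by rw [L_apply_inv]
    _ = f (L x⁻¹ (φ u)) v := hN x hx _ _
    _ = f (φ (L x⁻¹ u)) v := by rw [hφ x⁻¹ hxi u]
    _ = f (L x⁻¹ u) (Matrix.toLin' Φ' v) := hadj _ _
    _ = f (L x (L x⁻¹ u)) (L x (Matrix.toLin' Φ' v)) := (hN x hx _ _).symm
    _ = f u (L x (Matrix.toLin' Φ' v)) := by rw [L_apply_inv]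

/-- the orthogonal complement of a fully invariant subspace is fully invariant -/
theorem FullyInv.perp (hf : RForm σ f) {N : Subgroup (GL (Fin n) F)} (hN : ∀ x ∈ N, Isom f x)
    {X : Submodule F (Fin n → F)} (hX : FullyInv N X) : FullyInv N (perp hf X) := by
  constructor
  · rintro x hx _ ⟨u, hu, rfl⟩ v hv
    have hxi : x⁻¹ ∈ N := N.inv_mem hx
    have h1 : L x⁻¹ v ∈ X := hX.1 x⁻¹ hxi (Submodule.mem_map_of_mem hv)
    have := hN x hx u (L x⁻¹ v)
    rw [L_apply_inv] at this
    rw [this]
    exact hu _ h1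
  · rintro φ hφ _ ⟨u, hu, rfl⟩ v hv
    obtain ⟨φ', hφ', hadj⟩ := exists_adjoint_comm hf hN hφ
    rw [hadj]
    exact hu _ (hX.2 φ' hφ' (Submodule.mem_map_of_mem hv))

end Cfsg.Agent.Helper5.AschF
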