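import Mathlib
import Cfsg.Prelude.Def_GeometricClasses
import Cfsg.Agent.Lead.AschBase
import Cfsg.Agent.Helper5.AschForm1

/-!
# FORM-CLIFFORD, part 2: the system of homogeneous components and the partner function

`clifford_general'` = `clifford_general` with the minimality of the components among the fully invariant subspaces.
`CompSys H N m D` bundles its first alternative.
-/

set_option autoImplicit false
set_option linter.style.haveILetI false
set_option linter.unusedSectionVars false
set_option linter.unusedVariables false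

namespace Cfsg.Agent.Helper5.AschF

open Cfsg Cfsg.Geo Cfsg.Agent.Lead.Asch Cfsg.Agent.Helper5.Asch
open scoped MatrixGroups Matrix

variable {n : ℕ} {F : Type*} [Field F]

/-- a system of homogeneous components: the first alternative of Clifford's theorem -/
structure CompSys (H N : Subgroup (GL (Fin n) F)) {t : ℕ} (m : ℕ) (D : Fin t → Submodule F (Fin n → F)) :
    Prop where
  decomp : IsMDecomposition m D
  stab : H ≤ decompositionStabilizer D
  fi : ∀ i, FullyInv N (D i)
  min : ∀ i Y, FullyInv N Y → Y ≤ D i → Y = ⊥ ∨ Y = D i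
  trans : ∀ i j, ∃ h ∈ H, (D i).map (L h) = D j

/-- **General Clifford theorem**, with the minimality of the components. -/
theorem clifford_general' [Fintype F] (hn : 0 < n) {H N : Subgroup (GL (Fin n) F)}
    (hH : ActsIrreducibly (matrixSet H)) (hnz : Nzes H N) :
    (∃ (t m : ℕ) (D : Fin t → Submodule F (Fin n → F)), IsMDecomposition m D ∧
      H ≤ decompositionStabilizer D ∧ (∀ i, FullyInv N (D i)) ∧
      (∀ i Y, FullyInv N Y → Y ≤ D i → Y = ⊥ ∨ Y = D i) ∧
      (∀ i j, ∃ h ∈ H, (D i).map (L h) = D j)) ∨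
    (∀ X : Submodule F (Fin n → F), FullyInv N X → X = ⊥ ∨ X = ⊤) := by
  classical
  have htop : (⊤ : Submodule F (Fin n → F)) ≠ ⊥ := by
    intro h
    have h1 : Module.finrank F (⊤ : Submodule F (Fin n → F)) = 0 := by rw [h]; simp
    rw [finrank_top, Module.finrank_fin_fun] at h1
    omega
  -- a minimal non-zero fully invariant subspace
  let 𝒮 : Set (Submodule F (Fin n → F)) := {X | FullyInv N X ∧ X ≠ ⊥}
  have h𝒮 : 𝒮.Nonempty := ⟨⊤, FullyInv.top N, htop⟩
  obtain ⟨U, hU, hUmin⟩ := (Set.toFinite 𝒮).exists_minimal h𝒮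
  have hmin : ∀ Y, FullyInv N Y → Y ≠ ⊥ → Y ≤ U → Y = U := fun Y h1 h2 h3 =>
    le_antisymm h3 (hUmin ⟨h1, h2⟩ h3)
  -- every member of the orbit is minimal fully invariant
  have horb : ∀ A : orb H U, FullyInv N (A : Submodule F (Fin n → F)) ∧
      (A : Submodule F (Fin n → F)) ≠ ⊥ ∧
      ∀ Y, FullyInv N Y → Y ≠ ⊥ → Y ≤ (A : Submodule F (Fin n → F)) → Y = A := by
    rintro ⟨_, g, rfl⟩
    refine ⟨hU.1.map hnz g.2, ?_, ?_⟩
    · intro h0
      apply hU.2
      change U.map (L (g : GL (Fin n) F)) = ⊥ at h0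
      have := congrArg (Submodule.map (L ((g : GL (Fin n) F)⁻¹))) h0
      rwa [map_map_L, inv_mul_cancel, map_L_one, Submodule.map_bot] at this
    · intro Y hY hY0 hYle
      simp only at hYle ⊢
      have h1 : FullyInv N (Y.map (L ((g : GL (Fin n) F)⁻¹))) := hY.map hnz (H.inv_mem g.2)
      have h2 : Y.map (L ((g : GL (Fin n) F)⁻¹)) ≤ U := by
        have := Submodule.map_mono (f := L ((g : GL (Fin n) F)⁻¹)) hYle
        rwa [map_map_L, inv_mul_cancel, map_L_one] at this
      have h3 : Y.map (L ((g : GL (Fin n) F)⁻¹)) ≠ ⊥ := by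
        intro h0
        apply hY0
        have := congrArg (Submodule.map (L (g : GL (Fin n) F))) h0
        rwa [map_map_L, mul_inv_cancel, map_L_one, Submodule.map_bot] at this
      have h4 := hmin _ h1 h3 h2
      have := congrArg (Submodule.map (L (g : GL (Fin n) F))) h4
      rwa [map_map_L, mul_inv_cancel, map_L_one] at this
  -- distinct members meet trivially
  have hdisj : ∀ A B : orb H U, A ≠ B →
      (A : Submodule F (Fin n → F)) ⊓ (B : Submodule F (Fin n → F)) = ⊥ := by
    intro A B hAB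
    by_contra hne
    apply hAB
    apply Subtype.ext
    have h1 := (horb A).2.2 _ ((horb A).1.inf (horb B).1) hne inf_le_left
    have h2 := (horb B).2.2 _ ((horb A).1.inf (horb B).1) hne inf_le_right
    rw [← h1, h2]
  -- independence
  have hind : iSupIndep (fun A : orb H U => (A : Submodule F (Fin n → F))) := by
    apply indep_of_proj
    intro A
    obtain ⟨X', hX', hc⟩ := exists_compl hH hnz hn (horb A).1.1
    obtain ⟨e, he, he1, he2, he3⟩ := exists_proj (horb A).1.1 hX' hc
    refine ⟨e, he1, fun B hB v hv => ?_⟩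
    have h1 : e v ∈ (B : Submodule F (Fin n → F)) :=
      (horb B).1.2 e he (Submodule.mem_map_of_mem hv)
    have h2 : e v ∈ (A : Submodule F (Fin n → F)) ⊓ (B : Submodule F (Fin n → F)) := ⟨he3 v, h1⟩
    rw [hdisj A B (Ne.symm hB), Submodule.mem_bot] at h2
    exact h2
  obtain ⟨t, D, ht0, hcount, hfr, hDind, hDsup, hHD, hDorb, hDtr, ht1⟩ := decomp_of_orb hH hU.2 hind
  by_cases ht : t = 1
  · right
    have hUtop := ht1 ht
    intro X hX
    by_cases hX0 : X = ⊥
    · exact Or.inl hX0
    · right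
      rw [← hUtop]
      exact hmin X hX hX0 (by rw [hUtop]; exact le_top)
  · left
    refine ⟨t, Module.finrank F U, D, ⟨by omega, ?_, hfr, hDind, hDsup⟩, hHD, ?_, ?_, hDtr⟩
    · by_contra h0
      have : Module.finrank F U = 0 := by omega
      exact hU.2 (Submodule.finrank_eq_zero.1 this)
    · intro i
      obtain ⟨h, hh, hi⟩ := hDorb i
      rw [hi]
      exact hU.1.map hnz hh
    · intro i Y hY hYle
      obtain ⟨h, hh, hi⟩ := hDorb i
      by_cases hY0 : Y = ⊥
      · exact Or.inl hY0
      · right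
        rw [hi] at hYle ⊢
        exact (horb ⟨_, ⟨h, hh⟩, rfl⟩).2.2 Y hY hY0 hYle


/-- **General Clifford theorem** in terms of `CompSys`. -/
theorem clifford_compSys [Fintype F] (hn : 0 < n) {H N : Subgroup (GL (Fin n) F)}
    (hH : ActsIrreducibly (matrixSet H)) (hnz : Nzes H N) :
    (∃ (t m : ℕ) (D : Fin t → Submodule F (Fin n → F)), CompSys H N m D) ∨
    (∀ X : Submodule F (Fin n → F), FullyInv N X → X = ⊥ ∨ X = ⊤) := by
  rcases clifford_general' hn hH hnz with ⟨t, m, D, h1, h2, h3, h4, h5⟩ | h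
  · exact Or.inl ⟨t, m, D, ⟨h1, h2, h3, h4, h5⟩⟩
  · exact Or.inr h

end Cfsg.Agent.Helper5.AschF
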