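import Mathlib
import Cfsg.Prelude.Def_GeometricClasses
import Cfsg.Agent.Lead.AschBase
import Cfsg.Agent.Helper5.AschForm2

/-!
# FORM-CLIFFORD, part 3: projections onto the components, the partner function
-/

set_option autoImplicit false
set_option linter.style.haveILetI false
set_option linter.unusedSectionVars false
set_option linter.unusedVariables false

namespace Cfsg.Agent.Helper5.AschF

open Cfsg Cfsg.Geo Cfsg.Agent.Lead.Asch Cfsg.Agent.Helper5.Asch
open scoped MatrixGroups Matrix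

variable {n : ℕ} {F : Type*} [Field F]

namespace CompSys

variable {H N : Subgroup (GL (Fin n) F)} {t m : ℕ} {D : Fin t → Submodule F (Fin n → F)}

theorem ne_bot (hS : CompSys H N m D) (i : Fin t) : D i ≠ ⊥ := by
  intro h
  have h1 := hS.decomp.finrank_eq i
  rw [h, finrank_bot] at h1
  have := hS.decomp.pos
  omega

theorem injective (hS : CompSys H N m D) : Function.Injective D :=
  hS.decomp.indep.injective hS.ne_bot

theorem inv_compl (hS : CompSys H N m D) (j : Fin t) : Inv N (⨆ k, ⨆ (_ : k ≠ j), D k) := by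
  intro x hx
  rw [Submodule.map_iSup]
  apply iSup_le
  intro k
  rw [Submodule.map_iSup]
  apply iSup_le
  intro hk
  exact le_trans ((hS.fi k).1 x hx) (le_iSup₂_of_le k hk le_rfl)

theorem isCompl (hS : CompSys H N m D) (j : Fin t) : IsCompl (D j) (⨆ k, ⨆ (_ : k ≠ j), D k) := by
  refine ⟨hS.decomp.indep j, ?_⟩
  rw [codisjoint_iff, eq_top_iff, ← hS.decomp.iSup_eq_top]
  apply iSup_le
  intro k
  by_cases hk : k = j
  · rw [hk]; exact le_sup_left
  · exact le_trans (le_iSup₂_of_le k hk le_rfl) le_sup_right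

/-- the projection onto a component along the others: in the commutant of `N` -/
theorem exists_proj (hS : CompSys H N m D) (j : Fin t) :
    ∃ e : (Fin n → F) →ₗ[F] (Fin n → F), Comm N e ∧ (∀ v ∈ D j, e v = v) ∧
      ∀ k, k ≠ j → ∀ v ∈ D k, e v = 0 := by
  obtain ⟨e, he, he1, he2, -⟩ :=
    Cfsg.Agent.Helper5.Asch.exists_proj (hS.fi j).1 (hS.inv_compl j) (hS.isCompl j)
  refine ⟨e, he, he1, fun k hk v hv => he2 v ?_⟩
  exact (le_iSup₂_of_le k hk le_rfl : D k ≤ ⨆ k, ⨆ (_ : k ≠ j), D k) hv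

theorem le_or_disjoint (hS : CompSys H N m D) {X : Submodule F (Fin n → F)} (hX : FullyInv N X)
    (j : Fin t) : D j ≤ X ∨ D j ⊓ X = ⊥ := by
  rcases hS.min j (D j ⊓ X) ((hS.fi j).inf hX) inf_le_left with h | h
  · exact Or.inr h
  · left
    rw [← h]
    exact inf_le_right

/-- a fully invariant subspace meeting two distinct components trivially meets their sum trivially -/
theorem inf_sup_eq_bot (hS : CompSys H N m D) {X : Submodule F (Fin n → F)} (hX : FullyInv N X)
    {j k : Fin t} (hjk : j ≠ k) (hj : D j ⊓ X = ⊥) (hk : D k ⊓ X = ⊥) : X ⊓ (D j ⊔ D k) = ⊥ := by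
  rw [eq_bot_iff]
  rintro v ⟨hvX, hv⟩
  obtain ⟨a, ha, b, hb, rfl⟩ := Submodule.mem_sup.1 hv
  obtain ⟨ej, hej, hej1, hej2⟩ := hS.exists_proj j
  obtain ⟨ek, hek, hek1, hek2⟩ := hS.exists_proj k
  have h1 : ej (a + b) = a := by rw [map_add, hej1 a ha, hej2 k hjk.symm b hb, add_zero]
  have h2 : ek (a + b) = b := by rw [map_add, hek2 j hjk a ha, hek1 b hb, zero_add]
  have ha0 : a = 0 := by
    have h3 : a ∈ D j ⊓ X := ⟨ha, by rw [← h1]; exact hX.2 ej hej (Submodule.mem_map_of_mem hvX)⟩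
    rw [hj] at h3
    exact h3
  have hb0 : b = 0 := by
    have h3 : b ∈ D k ⊓ X := ⟨hb, by rw [← h2]; exact hX.2 ek hek (Submodule.mem_map_of_mem hvX)⟩
    rw [hk] at h3
    exact h3
  rw [ha0, hb0, add_zero]
  exact Submodule.zero_mem _

theorem finrank_sup (hS : CompSys H N m D) {j k : Fin t} (hjk : j ≠ k) :
    Module.finrank F (D j ⊔ D k : Submodule F (Fin n → F)) = 2 * m := by
  have hdisj : D j ⊓ D k = ⊥ := (hS.decomp.indep.pairwiseDisjoint hjk).eq_bot
  have := Submodule.finrank_sup_add_finrank_inf_eq (D j) (D k)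
  rw [hdisj, finrank_bot, hS.decomp.finrank_eq, hS.decomp.finrank_eq] at this
  omega

/-- the permutation of the components induced by an element of `H` -/
theorem exists_perm (hS : CompSys H N m D) {h : GL (Fin n) F} (hh : h ∈ H) :
    ∃ π : Equiv.Perm (Fin t), ∀ i, (D i).map (L h) = D (π i) := hS.stab hh

variable {σ : F ≃+* F} {f : (Fin n → F) → (Fin n → F) → F}

theorem exists_unique_partner (hS : CompSys H N m D) (hf : RForm σ f) (hN : ∀ x ∈ N, Isom f x)
    (i : Fin t) :
    ∃ j, ¬ D j ≤ perp hf (D i) ∧ ∀ k, ¬ D k ≤ perp hf (D i) → k = j := by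
  have hP : FullyInv N (perp hf (D i)) := FullyInv.perp hf hN (hS.fi i)
  have hex : ∃ j, ¬ D j ≤ perp hf (D i) := by
    by_contra hcon
    push Not at hcon
    apply perp_ne_top hf (hS.ne_bot i)
    rw [eq_top_iff, ← hS.decomp.iSup_eq_top]
    exact iSup_le hcon
  obtain ⟨j, hj⟩ := hex
  refine ⟨j, hj, fun k hk => ?_⟩
  by_contra hkj
  have hj' : D j ⊓ perp hf (D i) = ⊥ := (hS.le_or_disjoint hP j).resolve_left hj
  have hk' : D k ⊓ perp hf (D i) = ⊥ := (hS.le_or_disjoint hP k).resolve_left hk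
  have h1 := hS.inf_sup_eq_bot hP (Ne.symm hkj) hj' hk'
  have h2 := Submodule.finrank_sup_add_finrank_inf_eq (perp hf (D i)) (D j ⊔ D k)
  rw [h1, finrank_bot, hS.finrank_sup (Ne.symm hkj)] at h2
  have h3 := Submodule.finrank_le (perp hf (D i) ⊔ (D j ⊔ D k))
  rw [Module.finrank_fin_fun] at h3
  have h4 := finrank_perp_ge hf (D i)
  rw [hS.decomp.finrank_eq] at h4
  have := hS.decomp.pos
  omega

/-- **the partner function** -/
theorem exists_partner (hS : CompSys H N m D) (hf : RForm σ f) (hN : ∀ x ∈ N, Isom f x) :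
    ∃ p : Fin t → Fin t, (∀ i, ¬ D (p i) ≤ perp hf (D i)) ∧
      (∀ i k, k ≠ p i → D k ≤ perp hf (D i)) ∧ (∀ i, p (p i) = i) := by
  choose p hp1 hp2 using hS.exists_unique_partner hf hN
  refine ⟨p, hp1, fun i k hk => ?_, fun i => ?_⟩
  · by_contra hcon
    exact hk (hp2 i k hcon)
  · have h1 : ¬ D i ≤ perp hf (D (p i)) := fun h => hp1 i ((le_perp_comm hf).1 h)
    exact (hp2 (p i) i h1).symm

/-- the partner function commutes with the action of `H` -/
theorem partner_equivariant (hS : CompSys H N m D) (hf : RForm σ f) (hH : ∀ x ∈ H, Isom f x)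
    {p : Fin t → Fin t} (hp1 : ∀ i, ¬ D (p i) ≤ perp hf (D i))
    (hp2 : ∀ i k, k ≠ p i → D k ≤ perp hf (D i)) {h : GL (Fin n) F} (hh : h ∈ H)
    {π : Equiv.Perm (Fin t)} (hπ : ∀ i, (D i).map (L h) = D (π i)) (i : Fin t) :
    p (π i) = π (p i) := by
  by_contra hne
  have h1 := hp2 (π i) (π (p i)) (Ne.symm hne)
  rw [← hπ, ← hπ, perp_map hf (hH h hh),
    Submodule.map_le_map_iff_of_injective (L_injective h)] at h1
  exact hp1 i h1

theorem partner_uniform (hS : CompSys H N m D) (hf : RForm σ f) (hH : ∀ x ∈ H, Isom f x)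
    {p : Fin t → Fin t} (hp1 : ∀ i, ¬ D (p i) ≤ perp hf (D i))
    (hp2 : ∀ i k, k ≠ p i → D k ≤ perp hf (D i)) {i : Fin t} (hi : p i = i) (j : Fin t) : p j = j := by
  obtain ⟨h, hh, hmap⟩ := hS.trans i j
  obtain ⟨π, hπ⟩ := hS.exists_perm hh
  have hij : π i = j := hS.injective (by rw [← hπ, hmap])
  rw [← hij, hS.partner_equivariant hf hH hp1 hp2 hh hπ, hi]

end CompSys

end Cfsg.Agent.Helper5.AschF
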