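import Mathlib
import Cfsg.Prelude.Def_GeometricClasses
import Cfsg.Agent.Lead.AschBase
import Cfsg.Agent.Helper5.AschForm3

/-!
# FORM-CLIFFORD, part 4: Clifford's theorem inside the isometry group of a reflexive form

`clifford_form`: `H` irreducible group of isometries of `f`, `N` normalized by `H`.  Then `H` stabilizes a
decomposition into non-degenerate pairwise orthogonal subspaces, or a decomposition into two totally singular
subspaces, or `N` is homogeneous.
-/

set_option autoImplicit false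
set_option linter.style.haveILetI false
set_option linter.unusedSectionVars false
set_option linter.unusedVariables false

namespace Cfsg.Agent.Helper5.AschF

open Cfsg Cfsg.Geo Cfsg.Agent.Lead.Asch Cfsg.Agent.Helper5.Asch
open scoped MatrixGroups Matrix

variable {n : ℕ} {F : Type*} [Field F] {σ : F ≃+* F} {f : (Fin n → F) → (Fin n → F) → F}

/-- an independent orbit of a non-degenerate subspace whose distinct members are orthogonal gives a non-degenerate
decomposition -/
theorem nondeg_decomp_of_orbit [Fintype F] (hf : RForm σ f) {H : Subgroup (GL (Fin n) F)}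
    (hH : ActsIrreducibly (matrixSet H)) (hHf : ∀ x ∈ H, Isom f x)
    {U : Submodule F (Fin n → F)} (hU0 : U ≠ ⊥) (hUtop : U ≠ ⊤)
    (hind : iSupIndep (fun A : orb H U => (A : Submodule F (Fin n → F))))
    (hnd : U ⊓ perp hf U = ⊥)
    (horth : ∀ h ∈ H, U.map (L h) ≠ U → U.map (L h) ≤ perp hf U) :
    ∃ (t m : ℕ) (D : Fin t → Submodule F (Fin n → F)), IsNondegenerateMDecomposition f m D ∧
      H ≤ decompositionStabilizer D ∧ (∀ i, ∃ h ∈ H, D i = U.map (L h)) ∧
      (∀ i j, ∃ h ∈ H, (D i).map (L h) = D j) := by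
  classical
  obtain ⟨t, D, ht0, hcount, hfr, hDind, hDsup, hHD, hDorb, hDtr, ht1⟩ := decomp_of_orb hH hU0 hind
  have hpos : 0 < Module.finrank F U := by
    by_contra h0
    have : Module.finrank F U = 0 := by omega
    exact hU0 (Submodule.finrank_eq_zero.1 this)
  have hDne : ∀ i, D i ≠ ⊥ := by
    intro i h
    have h1 := hfr i
    rw [h, finrank_bot] at h1
    omega
  have hDinj : Function.Injective D := hDind.injective hDne
  refine ⟨t, Module.finrank F U, D, ⟨⟨?_, hpos, hfr, hDind, hDsup⟩, ?_, ?_⟩, hHD, hDorb, hDtr⟩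
  · by_contra h2
    have : t = 1 := by omega
    exact hUtop (ht1 this)
  · intro i
    obtain ⟨h, hh, hi⟩ := hDorb i
    apply isNondegenerateOn_of_inf_perp hf
    rw [hi, perp_map hf (hHf h hh), ← Submodule.map_inf _ (L_injective h), hnd, Submodule.map_bot]
  · intro i j hij
    obtain ⟨hi, hhi, hDi⟩ := hDorb i
    obtain ⟨hj, hhj, hDj⟩ := hDorb j
    have hg : hj⁻¹ * hi ∈ H := H.mul_mem (H.inv_mem hhj) hhi
    have hne : U.map (L (hj⁻¹ * hi)) ≠ U := by
      intro heq
      apply hij
      apply hDinj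
      rw [hDi, hDj]
      have := congrArg (Submodule.map (L hj)) heq
      rwa [map_map_L, mul_inv_cancel_left] at this
    have hle := horth _ hg hne
    rintro u hu v hv
    rw [hDi] at hu
    rw [hDj] at hv
    obtain ⟨a, ha, rfl⟩ := hu
    obtain ⟨b, hb, rfl⟩ := hv
    have h1 := (hHf hj hhj).inv (L hi a) (L hj b)
    rw [L_inv_apply] at h1
    rw [← h1, ← L_mul_apply]
    exact hle (Submodule.mem_map_of_mem ha) b hb

/-- **Clifford's theorem inside the isometry group of a reflexive non-degenerate sesquilinear form.** -/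
theorem clifford_form [Fintype F] (hn : 0 < n) (hf : RForm σ f) {H N : Subgroup (GL (Fin n) F)}
    (hH : ActsIrreducibly (matrixSet H)) (hNH : N ≤ H) (hnz : Nzes H N) (hHf : ∀ x ∈ H, Isom f x) :
    (∃ (t m : ℕ) (D : Fin t → Submodule F (Fin n → F)), IsNondegenerateMDecomposition f m D ∧
      H ≤ decompositionStabilizer D ∧ (∀ i, Inv N (D i)) ∧ (∀ i j, ∃ h ∈ H, (D i).map (L h) = D j)) ∨
    (∃ (m : ℕ) (D : Fin 2 → Submodule F (Fin n → F)), IsMDecomposition m D ∧
      (∀ i, IsTotallySingularFor f (D i)) ∧ H ≤ decompositionStabilizer D ∧ (∀ i, Inv N (D i)) ∧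
      (∀ i j, ∃ h ∈ H, (D i).map (L h) = D j)) ∨
    (∀ X : Submodule F (Fin n → F), FullyInv N X → X = ⊥ ∨ X = ⊤) := by
  classical
  rcases clifford_compSys hn hH hnz with ⟨t, m, D, hS⟩ | h
  swap
  · exact Or.inr (Or.inr h)
  have hN : ∀ x ∈ N, Isom f x := fun x hx => hHf x (hNH hx)
  obtain ⟨p, hp1, hp2, hp3⟩ := hS.exists_partner hf hN
  have ht2 := hS.decomp.two_le
  have hmpos := hS.decomp.pos
  let i₀ : Fin t := ⟨0, by omega⟩
  have hP : ∀ i, FullyInv N (perp hf (D i)) := fun i => FullyInv.perp hf hN (hS.fi i)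
  by_cases h0 : p i₀ = i₀
  · -- the components are non-degenerate
    have hall : ∀ j, p j = j := hS.partner_uniform hf hHf hp1 hp2 h0
    left
    refine ⟨t, m, D, ⟨hS.decomp, fun i => ?_, fun i j hij => ?_⟩, hS.stab, fun i => (hS.fi i).1, hS.trans⟩
    · apply isNondegenerateOn_of_inf_perp hf
      refine (hS.le_or_disjoint (hP i) i).resolve_left ?_
      have := hp1 i
      rwa [hall i] at this
    · have hle : D i ≤ perp hf (D j) := hp2 j i (by rw [hall j]; exact hij)
      exact fun u hu v hv => hle hu v hv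
  -- the components are totally singular
  have hne : ∀ j, p j ≠ j := by
    intro j hj
    exact h0 (hS.partner_uniform hf hHf hp1 hp2 hj i₀)
  have hTI : ∀ j, D j ≤ perp hf (D j) := fun j => hp2 j j (Ne.symm (hne j))
  by_cases ht : t = 2
  · subst ht
    exact Or.inr (Or.inl ⟨m, D, hS.decomp, fun i u hu v hv => hTI i hu v hv, hS.stab,
      fun i => (hS.fi i).1, hS.trans⟩)
  left
  -- the pairs
  let E : Fin t → Submodule F (Fin n → F) := fun j => D j ⊔ D (p j)
  have hEp : ∀ j, E (p j) = E j := by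
    intro j
    show D (p j) ⊔ D (p (p j)) = D j ⊔ D (p j)
    rw [hp3, sup_comm]
  have hEmap : ∀ h ∈ H, ∀ j, ∃ k, (E j).map (L h) = E k := by
    intro h hh j
    obtain ⟨π, hπ⟩ := hS.exists_perm hh
    refine ⟨π j, ?_⟩
    show (D j ⊔ D (p j)).map (L h) = D (π j) ⊔ D (p (π j))
    rw [Submodule.map_sup, hπ, hπ, hS.partner_equivariant hf hHf hp1 hp2 hh hπ]
  have hEne : ∀ k l, E k ≠ E l → l ≠ k ∧ l ≠ p k ∧ p l ≠ k ∧ p l ≠ p k := by
    intro k l hkl
    refine ⟨?_, ?_, ?_, ?_⟩
    · rintro rfl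
      exact hkl rfl
    · rintro rfl
      exact hkl (hEp k).symm
    · intro h
      apply hkl
      rw [← h, hEp]
    · intro h
      apply hkl
      have : l = k := by rw [← hp3 l, h, hp3]
      rw [this]
  let U : Submodule F (Fin n → F) := E i₀
  have hUorb : ∀ A : orb H U, ∃ k, (A : Submodule F (Fin n → F)) = E k := by
    rintro ⟨_, g, rfl⟩
    exact hEmap g g.2 i₀
  have hcount : n = t * m := by
    have := card_mul_eq D hS.decomp.indep hS.decomp.iSup_eq_top m hS.decomp.finrank_eq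
    rwa [Fintype.card_fin] at this
  have hUfr : Module.finrank F U = 2 * m := hS.finrank_sup (Ne.symm (hne i₀))
  have hU0 : U ≠ ⊥ := by
    intro h
    rw [h, finrank_bot] at hUfr
    omega
  have hUtop : U ≠ ⊤ := by
    intro h
    rw [h, finrank_top, Module.finrank_fin_fun, hcount] at hUfr
    have h3 : 3 ≤ t := by omega
    have : 3 * m ≤ t * m := Nat.mul_le_mul_right m h3
    omega
  -- independence of the orbit
  have hind : iSupIndep (fun A : orb H U => (A : Submodule F (Fin n → F))) := by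
    apply indep_of_proj
    intro A
    obtain ⟨k, hk⟩ := hUorb A
    obtain ⟨e1, -, he1, he1'⟩ := hS.exists_proj k
    obtain ⟨e2, -, he2, he2'⟩ := hS.exists_proj (p k)
    refine ⟨e1 + e2, ?_, ?_⟩
    · intro v hv
      rw [hk] at hv
      obtain ⟨a, ha, b, hb, rfl⟩ := Submodule.mem_sup.1 hv
      rw [LinearMap.add_apply, map_add, map_add, he1 a ha, he1' (p k) (hne k) b hb, he2' k (Ne.symm (hne k)) a ha,
        he2 b hb, add_zero, zero_add]
    · intro B hB v hv
      obtain ⟨l, hl⟩ := hUorb B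
      rw [hl] at hv
      have hkl : E k ≠ E l := by
        intro heq
        apply hB
        apply Subtype.ext
        rw [hl, hk, heq]
      obtain ⟨h1, h2, h3, h4⟩ := hEne k l hkl
      obtain ⟨c, hc, d, hd, rfl⟩ := Submodule.mem_sup.1 hv
      rw [LinearMap.add_apply, map_add, map_add, he1' l h1 c hc, he1' (p l) h3 d hd, he2' l h2 c hc,
        he2' (p l) h4 d hd]
      simp
  -- non-degeneracy of `U`
  have hnd : U ⊓ perp hf U = ⊥ := by
    rw [eq_bot_iff]
    rintro v ⟨hvU, hvP⟩
    have hvP' : v ∈ perp hf (D i₀) ⊓ perp hf (D (p i₀)) := by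
      rw [← perp_sup]
      exact hvP
    obtain ⟨a, ha, b, hb, rfl⟩ := Submodule.mem_sup.1 hvU
    have hd1 : D (p i₀) ⊓ perp hf (D i₀) = ⊥ :=
      (hS.le_or_disjoint (hP i₀) (p i₀)).resolve_left (hp1 i₀)
    have hd2 : D i₀ ⊓ perp hf (D (p i₀)) = ⊥ := by
      refine (hS.le_or_disjoint (hP (p i₀)) i₀).resolve_left ?_
      have := hp1 (p i₀)
      rwa [hp3] at this
    have hb0 : b = 0 := by
      have h1 : b ∈ perp hf (D i₀) := by
        have := (perp hf (D i₀)).sub_mem hvP'.1 (hTI i₀ ha)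
        rwa [add_sub_cancel_left] at this
      have h2 : b ∈ D (p i₀) ⊓ perp hf (D i₀) := ⟨hb, h1⟩
      rw [hd1] at h2
      exact h2
    have ha0 : a = 0 := by
      have h1 : a ∈ perp hf (D (p i₀)) := by
        have := (perp hf (D (p i₀))).sub_mem hvP'.2 (hTI (p i₀) hb)
        rwa [add_sub_cancel_right] at this
      have h2 : a ∈ D i₀ ⊓ perp hf (D (p i₀)) := ⟨ha, h1⟩
      rw [hd2] at h2
      exact h2
    rw [ha0, hb0, add_zero]
    exact Submodule.zero_mem _
  -- orthogonality
  have horth : ∀ h ∈ H, U.map (L h) ≠ U → U.map (L h) ≤ perp hf U := by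
    intro h hh hneq
    obtain ⟨k, hk⟩ := hEmap h hh i₀
    rw [hk] at hneq ⊢
    obtain ⟨h1, h2, h3, h4⟩ := hEne i₀ k (Ne.symm hneq)
    show D k ⊔ D (p k) ≤ perp hf (D i₀ ⊔ D (p i₀))
    rw [perp_sup]
    refine sup_le (le_inf ?_ ?_) (le_inf ?_ ?_)
    · exact hp2 i₀ k h2
    · exact hp2 (p i₀) k (by rw [hp3]; exact h1)
    · exact hp2 i₀ (p k) h4
    · exact hp2 (p i₀) (p k) (by rw [hp3]; exact h3)
  obtain ⟨t', m', D', hD', hst', horb', htr'⟩ := nondeg_decomp_of_orbit hf hH hHf hU0 hUtop hind hnd horth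
  refine ⟨t', m', D', hD', hst', fun i => ?_, htr'⟩
  obtain ⟨h, hh, hi⟩ := horb' i
  rw [hi]
  exact Inv.map hnz hh ((hS.fi i₀).1.sup (hS.fi (p i₀)).1)

end Cfsg.Agent.Helper5.AschF
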