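import Mathlib
import Cfsg.Prelude.Def_GeometricClasses
import Cfsg.Agent.Lead.AschBase
import Cfsg.Agent.Lead.AschOBase
import Cfsg.Agent.Helper5.AschU2

/-!
ASCH-PRIME-O piece O4a (`clifford_prime_orth`, exact stub of `notes/lead_aschO_stubs.lean.txt`):
Clifford's theorem in odd prime dimension inside an orthogonal group: the lines are non-degenerate,
pairwise orthogonal and pairwise isometric.
-/

set_option autoImplicit false
set_option linter.style.haveILetI false
set_option linter.unusedSectionVars false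
set_option linter.unusedVariables false

namespace Cfsg.Agent.Helper5.AschO

open Cfsg Cfsg.Geo Cfsg.Agent.Lead.Asch Cfsg.Agent.Lead.AschO Cfsg.Agent.Helper5.Asch
open scoped MatrixGroups Matrix

variable {n : ℕ} {F : Type*} [Field F]

/-- an isometry of `Q` mapping `W` onto `W'` makes them isometric -/
theorem areIsometricFor_of_map {Q : (Fin n → F) → F} {h : GL (Fin n) F} (hh : h ∈ isometryGroup F Q)
    {W W' : Submodule F (Fin n → F)} (hmap : W.map (L h) = W') : AreIsometricFor Q W W' := by
  subst hmap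
  refine ⟨Submodule.equivMapOfInjective (L h) (L_injective h) W, fun w => ?_⟩
  rw [Submodule.coe_equivMapOfInjective_apply]
  exact mem_isometryGroup_iff.1 hh (w : Fin n → F)

theorem clifford_prime_orth [Fintype F] (hn : n.Prime) (hn2 : n ≠ 2) (hodd : Odd (Fintype.card F))
    (Q : (Fin n → F) → F) (hQ : IsNondegenerateQuadraticForm Q)
    {H N : Subgroup (GL (Fin n) F)} (hHI : H ≤ isometryGroup F Q)
    (hH : ActsIrreducibly (matrixSet H)) (hNH : N ≤ H) (hnz : Nzes H N) :
    ((∃ D : Fin n → Submodule F (Fin n → F), IsOrthogonalMDecomposition Q 1 D ∧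
        H ≤ decompositionStabilizer D) ∧ ∀ x ∈ N, ∀ y ∈ N, x * y = y * x) ∨
    N ≤ scalars (Fin n) F ∨ ActsIrreducibly (matrixSet N) := by
  by_cases hN : ActsIrreducibly (matrixSet N)
  · exact Or.inr (Or.inr hN)
  obtain ⟨v, hv0, hv⟩ := exists_eigvec hn hH hnz hN
  rcases clifford_of_eigvec_strong hn hH hnz v hv0 hv with ⟨⟨D, hD, hHD, hwt, htr⟩, hcomm⟩ | h
  · left
    refine ⟨⟨D, ⟨?_, ?_⟩, hHD⟩, hcomm⟩
    · have hB := hQ.polar_bilinear
      refine nondeg_decomp_of_weight_lines (RingHom.id F) hB.add_left hB.smul_left hB.add_right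
        (fun c v x => by rw [hB.smul_right]; rfl) (fun u v h0 => by rw [QuadraticMap.polar_comm]; exact h0)
        hQ.nondegenerate (hn.odd_of_ne_two hn2) (fun h hh u v => ?_) hNH D hD hwt htr
      have hI := mem_isometryGroup_iff.1 (hHI hh)
      show QuadraticMap.polar Q (L h u) (L h v) = QuadraticMap.polar Q u v
      unfold QuadraticMap.polar
      rw [← map_add]
      show Q ((h : Matrix (Fin n) (Fin n) F) *ᵥ (u + v)) - Q ((h : Matrix (Fin n) (Fin n) F) *ᵥ u) -
        Q ((h : Matrix (Fin n) (Fin n) F) *ᵥ v) = _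
      rw [hI, hI, hI]
    · intro i j
      obtain ⟨h, hh, hmap⟩ := htr i j
      exact areIsometricFor_of_map (hHI hh) hmap
  · exact Or.inr (Or.inl h)

end Cfsg.Agent.Helper5.AschO
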