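import Mathlib
import Cfsg.Prelude.Def_GeometricClasses
import Cfsg.Agent.Lead.AschBase
import Cfsg.Agent.Lead.AschOBase
import Cfsg.Agent.Helper3.AschUSubA
import Cfsg.Agent.Helper5.AschU2b
import Cfsg.Agent.Helper5.AschO4a
import Cfsg.Agent.Helper5.AschForm4

/-!
# FORM-CLIFFORD, part 5: the standard forms are `RForm`s; Clifford in the unitary, symplectic and orthogonal groups
-/

set_option autoImplicit false
set_option linter.style.haveILetI false
set_option linter.unusedSectionVars false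
set_option linter.unusedVariables false

namespace Cfsg.Agent.Helper5.AschF

open Cfsg Cfsg.Geo Cfsg.Agent.Lead.Asch Cfsg.Agent.Lead.AschO Cfsg.Agent.Helper5.Asch
open Cfsg.Agent.Helper3.Asch Cfsg.Agent.Helper3.AschU Cfsg.Agent.Helper7.Herm
open scoped MatrixGroups Matrix

variable {n : ℕ} {F : Type*} [Field F]

theorem RForm.of_symplectic {f : (Fin n → F) → (Fin n → F) → F} (hf : IsSymplecticForm f) :
    RForm (RingEquiv.refl F) f where
  sesq := IsSesq.of_bilinear hf.bilinear
  refl := fun u v h => by rw [hf.skew, h, neg_zero]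
  nondeg := hf.nondegenerate

theorem RForm.of_unitary {σ : F ≃+* F} {f : (Fin n → F) → (Fin n → F) → F} (hf : IsUnitaryForm σ f) :
    RForm σ f where
  sesq := IsSesq.of_unitary hf
  refl := fun u v h => by rw [hf.herm, h, map_zero]
  nondeg := hf.nondegenerate

theorem RForm.of_quadratic {Q : (Fin n → F) → F} (hQ : IsNondegenerateQuadraticForm Q) :
    RForm (RingEquiv.refl F) (QuadraticMap.polar Q) where
  sesq := IsSesq.of_bilinear hQ.polar_bilinear
  refl := fun u v h => by rw [QuadraticMap.polar_comm]; exact h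
  nondeg := hQ.nondegenerate

theorem RForm.of_hermForm [Fintype F] {q : ℕ} (hF : Fintype.card F = q ^ 2) :
    RForm (sigq hF) (hermForm n F q) where
  sesq := ⟨fun x y v => hermForm_add_left x y v, fun c x v => hermForm_smul_left c x v,
    fun v x y => hermForm_add_right hF v x y, fun c v x => by rw [hermForm_smul_right, sigq_apply]⟩
  refl := fun u v h => by
    rw [hermForm_swap hF, h, zero_pow]
    have := two_le_q hF
    omega
  nondeg := hermForm_nondegenerate hF

theorem isom_of_fixesForm {f : (Fin n → F) → (Fin n → F) → F} {H : Subgroup (GL (Fin n) F)}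
    (hfix : FixesForm (matrixSet H) f) : ∀ x ∈ H, Isom f x :=
  fun x hx u v => hfix _ (coe_mem_matrixSet hx) u v

theorem isom_of_le_GU {q : ℕ} {H : Subgroup (GL (Fin n) F)} (hHU : H ≤ GU n F q) :
    ∀ x ∈ H, Isom (hermForm n F q) x :=
  fun x hx u v => mem_GU_iff.1 (hHU hx) u v

theorem isom_of_le_isometryGroup {Q : (Fin n → F) → F} {H : Subgroup (GL (Fin n) F)}
    (hHI : H ≤ isometryGroup F Q) : ∀ x ∈ H, Isom (QuadraticMap.polar Q) x := by
  intro h hh u v
  have hI := mem_isometryGroup_iff.1 (hHI hh)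
  show QuadraticMap.polar Q (L h u) (L h v) = QuadraticMap.polar Q u v
  unfold QuadraticMap.polar
  rw [← map_add]
  show Q ((h : Matrix (Fin n) (Fin n) F) *ᵥ (u + v)) - Q ((h : Matrix (Fin n) (Fin n) F) *ᵥ u) -
    Q ((h : Matrix (Fin n) (Fin n) F) *ᵥ v) = _
  rw [hI, hI, hI]

/-- **Clifford's theorem inside `GU_n(q)`.** -/
theorem clifford_unitary [Fintype F] (hn : 0 < n) {q : ℕ} (hF : Fintype.card F = q ^ 2)
    {H N : Subgroup (GL (Fin n) F)} (hHU : H ≤ GU n F q)
    (hH : ActsIrreducibly (matrixSet H)) (hNH : N ≤ H) (hnz : Nzes H N) :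
    (∃ (t m : ℕ) (D : Fin t → Submodule F (Fin n → F)),
      IsNondegenerateMDecomposition (hermForm n F q) m D ∧
      H ≤ decompositionStabilizer D ∧ (∀ i, Inv N (D i)) ∧ (∀ i j, ∃ h ∈ H, (D i).map (L h) = D j)) ∨
    (∃ (m : ℕ) (D : Fin 2 → Submodule F (Fin n → F)), IsMDecomposition m D ∧
      (∀ i, IsTotallySingularFor (hermForm n F q) (D i)) ∧ H ≤ decompositionStabilizer D ∧
      (∀ i, Inv N (D i)) ∧ (∀ i j, ∃ h ∈ H, (D i).map (L h) = D j)) ∨
    (∀ X : Submodule F (Fin n → F), FullyInv N X → X = ⊥ ∨ X = ⊤) :=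
  clifford_form hn (RForm.of_hermForm hF) hH hNH hnz (isom_of_le_GU hHU)

/-- **Clifford's theorem inside the isometry group of a symplectic form.** -/
theorem clifford_symplectic [Fintype F] (hn : 0 < n) {f : (Fin n → F) → (Fin n → F) → F}
    (hf : IsSymplecticForm f) {H N : Subgroup (GL (Fin n) F)} (hfix : FixesForm (matrixSet H) f)
    (hH : ActsIrreducibly (matrixSet H)) (hNH : N ≤ H) (hnz : Nzes H N) :
    (∃ (t m : ℕ) (D : Fin t → Submodule F (Fin n → F)), IsNondegenerateMDecomposition f m D ∧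
      H ≤ decompositionStabilizer D ∧ (∀ i, Inv N (D i)) ∧ (∀ i j, ∃ h ∈ H, (D i).map (L h) = D j)) ∨
    (∃ (m : ℕ) (D : Fin 2 → Submodule F (Fin n → F)), IsMDecomposition m D ∧
      (∀ i, IsTotallySingularFor f (D i)) ∧ H ≤ decompositionStabilizer D ∧
      (∀ i, Inv N (D i)) ∧ (∀ i j, ∃ h ∈ H, (D i).map (L h) = D j)) ∨
    (∀ X : Submodule F (Fin n → F), FullyInv N X → X = ⊥ ∨ X = ⊤) :=
  clifford_form hn (RForm.of_symplectic hf) hH hNH hnz (isom_of_fixesForm hfix)

/-- **Clifford's theorem inside the isometry group of a quadratic form** (the non-degenerate blocks are pairwise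
isometric). -/
theorem clifford_orthogonal [Fintype F] (hn : 0 < n) {Q : (Fin n → F) → F}
    (hQ : IsNondegenerateQuadraticForm Q) {H N : Subgroup (GL (Fin n) F)} (hHI : H ≤ isometryGroup F Q)
    (hH : ActsIrreducibly (matrixSet H)) (hNH : N ≤ H) (hnz : Nzes H N) :
    (∃ (t m : ℕ) (D : Fin t → Submodule F (Fin n → F)), IsOrthogonalMDecomposition Q m D ∧
      H ≤ decompositionStabilizer D ∧ (∀ i, Inv N (D i)) ∧ (∀ i j, ∃ h ∈ H, (D i).map (L h) = D j)) ∨
    (∃ (m : ℕ) (D : Fin 2 → Submodule F (Fin n → F)), IsMDecomposition m D ∧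
      (∀ i, IsTotallySingularFor (QuadraticMap.polar Q) (D i)) ∧ H ≤ decompositionStabilizer D ∧
      (∀ i, Inv N (D i)) ∧ (∀ i j, ∃ h ∈ H, (D i).map (L h) = D j)) ∨
    (∀ X : Submodule F (Fin n → F), FullyInv N X → X = ⊥ ∨ X = ⊤) := by
  rcases clifford_form hn (RForm.of_quadratic hQ) hH hNH hnz (isom_of_le_isometryGroup hHI) with
    ⟨t, m, D, hD, hst, hinv, htr⟩ | h | h
  · left
    refine ⟨t, m, D, ⟨hD, fun i j => ?_⟩, hst, hinv, htr⟩
    obtain ⟨h, hh, hmap⟩ := htr i j
    exact Cfsg.Agent.Helper5.AschO.areIsometricFor_of_map (hHI hh) hmap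
  · exact Or.inr (Or.inl h)
  · exact Or.inr (Or.inr h)

end Cfsg.Agent.Helper5.AschF
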