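import Mathlib
import Cfsg.Prelude.Def_GeometricClasses
import Cfsg.Agent.Lead.AschBase
import Cfsg.Agent.Helper4.AschFieldB
import Cfsg.Agent.Helper5.AschForm1

/-!
# FORM-CLIFFORD, part 6: adjoints; the centre of the commutant of a group of isometries is closed under adjoints

`IsAdj f Φ Φ'`: `f (Φ u) v = f u (Φ' v)`.  Existence of right and left adjoints, uniqueness, anti-multiplicativity;
`ccenter_adjointClosed`: `IsAdjointClosedFor f (ccenter N)`; the Frobenius-fixed subfields of an adjoint-closed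
commutative subalgebra are adjoint-closed.
-/

set_option autoImplicit false
set_option linter.style.haveILetI false
set_option linter.unusedSectionVars false
set_option linter.unusedVariables false

namespace Cfsg.Agent.Helper5.AschF

open Cfsg Cfsg.Geo Cfsg.Agent.Lead.Asch Cfsg.Agent.Helper5.Asch Cfsg.Agent.Helper5.AschU
open Cfsg.Agent.Helper3.Asch Cfsg.Agent.Helper4.AschP
open scoped MatrixGroups Matrix

variable {n : ℕ} {F : Type*} [Field F] {σ : F ≃+* F} {f : (Fin n → F) → (Fin n → F) → F}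

/-- `Φ'` is a right adjoint of `Φ` -/
def IsAdj (f : (Fin n → F) → (Fin n → F) → F) (Φ Φ' : Matrix (Fin n) (Fin n) F) : Prop :=
  ∀ u v, f (Φ *ᵥ u) v = f u (Φ' *ᵥ v)

theorem RForm.ext_left (hf : RForm σ f) {a b : Fin n → F} (h : ∀ v, f a v = f b v) : a = b := by
  by_contra hab
  have hne : a - b ≠ 0 := sub_ne_zero.2 hab
  obtain ⟨x, hx⟩ := (hf.nondeg _ hne).2
  apply hx
  rw [hf.sesq.sub_left, h, sub_self]

theorem mulVec_ext {A B : Matrix (Fin n) (Fin n) F} (h : ∀ v, A *ᵥ v = B *ᵥ v) : A = B := by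
  apply Matrix.toLin'.injective
  apply LinearMap.ext
  intro v
  rw [Matrix.toLin'_apply, Matrix.toLin'_apply, h]

theorem IsAdj.unique (hf : RForm σ f) {Φ A B : Matrix (Fin n) (Fin n) F} (hA : IsAdj f Φ A)
    (hB : IsAdj f Φ B) : A = B := by
  apply mulVec_ext
  intro v
  apply hf.ext_right
  intro u
  rw [← hA, ← hB]

theorem IsAdj.unique_left (hf : RForm σ f) {Φ Ψ A : Matrix (Fin n) (Fin n) F} (hΦ : IsAdj f Φ A)
    (hΨ : IsAdj f Ψ A) : Φ = Ψ := by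
  apply mulVec_ext
  intro u
  apply hf.ext_left
  intro v
  rw [hΦ, hΨ]

theorem IsAdj.mul {Φ Φ' Ψ Ψ' : Matrix (Fin n) (Fin n) F} (h1 : IsAdj f Φ Φ') (h2 : IsAdj f Ψ Ψ') :
    IsAdj f (Φ * Ψ) (Ψ' * Φ') := by
  intro u v
  rw [← Matrix.mulVec_mulVec, ← Matrix.mulVec_mulVec, h1, h2]

theorem IsAdj.one (f : (Fin n → F) → (Fin n → F) → F) : IsAdj f 1 1 := by
  intro u v
  rw [Matrix.one_mulVec, Matrix.one_mulVec]

theorem IsAdj.pow {Φ Φ' : Matrix (Fin n) (Fin n) F} (h : IsAdj f Φ Φ') (j : ℕ) :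
    IsAdj f (Φ ^ j) (Φ' ^ j) := by
  induction j with
  | zero => rw [pow_zero, pow_zero]; exact IsAdj.one f
  | succ j ih =>
    rw [pow_succ, pow_succ']
    exact ih.mul h

theorem exists_radjoint (hf : RForm σ f) (Φ : Matrix (Fin n) (Fin n) F) :
    ∃ Φ' : Matrix (Fin n) (Fin n) F, IsAdj f Φ Φ' := exists_adjoint hf Φ

/-- every matrix is a right adjoint -/
theorem exists_ladjoint (hf : RForm σ f) (Φ : Matrix (Fin n) (Fin n) F) :
    ∃ Φ₀ : Matrix (Fin n) (Fin n) F, IsAdj f Φ₀ Φ := by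
  have hT : IsUnit (gram f).det := hf.sesq.isUnit_det_gram (fun v hv => (hf.nondeg v hv).1)
  set T := gram f with hTdef
  refine ⟨(T * Φ.map σ * T⁻¹)ᵀ, fun u v => ?_⟩
  rw [hf.sesq.expand, hf.sesq.expand, mulVec_dotProduct', Matrix.transpose_transpose, Matrix.mulVec_mulVec,
    Matrix.mul_assoc, Matrix.nonsing_inv_mul _ hT, Matrix.mul_one, ← Matrix.mulVec_mulVec]
  have h1 : (fun j => σ ((Φ *ᵥ v) j)) = Φ.map σ *ᵥ (fun j => σ (v j)) :=
    map_mulVec' (σ : F →+* F) Φ v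
  rw [h1]

/-- the adjoint of a matrix commuting with a group of isometries commutes with it -/
theorem IsAdj.commutes (hf : RForm σ f) {N : Subgroup (GL (Fin n) F)} (hN : ∀ x ∈ N, Isom f x)
    {Φ Φ' : Matrix (Fin n) (Fin n) F} (h : IsAdj f Φ Φ')
    (hΦ : ∀ s ∈ matrixSet N, Φ * s = s * Φ) : ∀ s ∈ matrixSet N, Φ' * s = s * Φ' := by
  rintro _ ⟨x, hx, rfl⟩
  have hxi : x⁻¹ ∈ N := N.inv_mem hx
  have hΦi : Φ * ((x⁻¹ : GL (Fin n) F) : Matrix (Fin n) (Fin n) F) =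
      ((x⁻¹ : GL (Fin n) F) : Matrix (Fin n) (Fin n) F) * Φ := hΦ _ ⟨x⁻¹, hxi, rfl⟩
  apply mulVec_ext
  intro v
  apply hf.ext_right
  intro u
  have e1 : ∀ w, (x : Matrix (Fin n) (Fin n) F) *ᵥ
      (((x⁻¹ : GL (Fin n) F) : Matrix (Fin n) (Fin n) F) *ᵥ w) = w := fun w => L_apply_inv x w
  calc f u ((Φ' * (x : Matrix (Fin n) (Fin n) F)) *ᵥ v)
      = f (Φ *ᵥ u) ((x : Matrix (Fin n) (Fin n) F) *ᵥ v) := by rw [← Matrix.mulVec_mulVec, ← h]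
    _ = f ((x : Matrix (Fin n) (Fin n) F) *ᵥ
          (((x⁻¹ : GL (Fin n) F) : Matrix (Fin n) (Fin n) F) *ᵥ (Φ *ᵥ u)))
          ((x : Matrix (Fin n) (Fin n) F) *ᵥ v) := by rw [e1]
    _ = f (((x⁻¹ : GL (Fin n) F) : Matrix (Fin n) (Fin n) F) *ᵥ (Φ *ᵥ u)) v := hN x hx _ _
    _ = f (Φ *ᵥ (((x⁻¹ : GL (Fin n) F) : Matrix (Fin n) (Fin n) F) *ᵥ u)) v := by
        rw [Matrix.mulVec_mulVec, Matrix.mulVec_mulVec, hΦi]
    _ = f (((x⁻¹ : GL (Fin n) F) : Matrix (Fin n) (Fin n) F) *ᵥ u) (Φ' *ᵥ v) := h _ _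
    _ = f ((x : Matrix (Fin n) (Fin n) F) *ᵥ
          (((x⁻¹ : GL (Fin n) F) : Matrix (Fin n) (Fin n) F) *ᵥ u))
          ((x : Matrix (Fin n) (Fin n) F) *ᵥ (Φ' *ᵥ v)) := (hN x hx _ _).symm
    _ = f u (((x : Matrix (Fin n) (Fin n) F) * Φ') *ᵥ v) := by rw [e1, Matrix.mulVec_mulVec]

/-- the left adjoint of a matrix commuting with a group of isometries commutes with it -/
theorem IsAdj.commutes_left (hf : RForm σ f) {N : Subgroup (GL (Fin n) F)} (hN : ∀ x ∈ N, Isom f x)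
    {Φ Φ' : Matrix (Fin n) (Fin n) F} (h : IsAdj f Φ Φ')
    (hΦ' : ∀ s ∈ matrixSet N, Φ' * s = s * Φ') : ∀ s ∈ matrixSet N, Φ * s = s * Φ := by
  rintro _ ⟨x, hx, rfl⟩
  have hxi : x⁻¹ ∈ N := N.inv_mem hx
  have hΦi : Φ' * ((x⁻¹ : GL (Fin n) F) : Matrix (Fin n) (Fin n) F) =
      ((x⁻¹ : GL (Fin n) F) : Matrix (Fin n) (Fin n) F) * Φ' := hΦ' _ ⟨x⁻¹, hxi, rfl⟩
  apply mulVec_ext
  intro u
  apply hf.ext_left
  intro v
  have e1 : ∀ w, (x : Matrix (Fin n) (Fin n) F) *ᵥ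
      (((x⁻¹ : GL (Fin n) F) : Matrix (Fin n) (Fin n) F) *ᵥ w) = w := fun w => L_apply_inv x w
  calc f ((Φ * (x : Matrix (Fin n) (Fin n) F)) *ᵥ u) v
      = f ((x : Matrix (Fin n) (Fin n) F) *ᵥ u) (Φ' *ᵥ v) := by rw [← Matrix.mulVec_mulVec, h]
    _ = f ((x : Matrix (Fin n) (Fin n) F) *ᵥ u) ((x : Matrix (Fin n) (Fin n) F) *ᵥ
          (((x⁻¹ : GL (Fin n) F) : Matrix (Fin n) (Fin n) F) *ᵥ (Φ' *ᵥ v))) := by rw [e1]
    _ = f u (((x⁻¹ : GL (Fin n) F) : Matrix (Fin n) (Fin n) F) *ᵥ (Φ' *ᵥ v)) := hN x hx _ _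
    _ = f u (Φ' *ᵥ (((x⁻¹ : GL (Fin n) F) : Matrix (Fin n) (Fin n) F) *ᵥ v)) := by
        rw [Matrix.mulVec_mulVec, Matrix.mulVec_mulVec, hΦi]
    _ = f (Φ *ᵥ u) (((x⁻¹ : GL (Fin n) F) : Matrix (Fin n) (Fin n) F) *ᵥ v) := (h _ _).symm
    _ = f ((x : Matrix (Fin n) (Fin n) F) *ᵥ (Φ *ᵥ u)) ((x : Matrix (Fin n) (Fin n) F) *ᵥ
          (((x⁻¹ : GL (Fin n) F) : Matrix (Fin n) (Fin n) F) *ᵥ v)) := (hN x hx _ _).symm
    _ = f (((x : Matrix (Fin n) (Fin n) F) * Φ) *ᵥ u) v := by rw [e1, Matrix.mulVec_mulVec]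

/-- **the centre of the commutant of a group of isometries is closed under adjoints** -/
theorem ccenter_adjointClosed (hf : RForm σ f) {N : Subgroup (GL (Fin n) F)} (hN : ∀ x ∈ N, Isom f x) :
    IsAdjointClosedFor f (ccenter N) := by
  intro k hk
  obtain ⟨hk1, hk2⟩ := mem_ccenter_iff.1 hk
  obtain ⟨k', hk'⟩ := exists_radjoint hf k
  refine ⟨k', mem_ccenter_iff.2 ⟨hk'.commutes hf hN hk1, fun c hc => ?_⟩, hk'⟩
  obtain ⟨c₀, hc₀⟩ := exists_ladjoint hf c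
  have hc₀N := hc₀.commutes_left hf hN hc
  have h1 : IsAdj f (c₀ * k) (k' * c) := hc₀.mul hk'
  have h2 : IsAdj f (k * c₀) (c * k') := hk'.mul hc₀
  rw [hk2 c₀ hc₀N] at h2
  exact h1.unique hf h2

/-- the Frobenius-fixed part of an adjoint-closed commutative subalgebra is adjoint-closed -/
theorem adjointClosed_of_frob (hf : RForm σ f) {K K' : Subalgebra F (Matrix (Fin n) (Fin n) F)}
    (hK : IsAdjointClosedFor f K) (m : ℕ) (hK' : ∀ k, k ∈ K' ↔ k ∈ K ∧ k ^ m = k) :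
    IsAdjointClosedFor f K' := by
  intro k hk
  obtain ⟨hkK, hkm⟩ := (hK' k).1 hk
  obtain ⟨k', hk'K, hk'⟩ := hK k hkK
  refine ⟨k', (hK' k').2 ⟨hk'K, ?_⟩, hk'⟩
  have h1 : IsAdj f (k ^ m) (k' ^ m) := IsAdj.pow hk' m
  rw [hkm] at h1
  exact h1.unique hf hk'

end Cfsg.Agent.Helper5.AschF
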