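import Mathlib
import Cfsg.Prelude.Def_GeometricClasses
import Cfsg.Agent.Lead.AschBase
import Cfsg.Agent.Helper4.AschFieldB
import Cfsg.Agent.Helper5.AschForm6

/-!
# FORM-CLIFFORD, part 7: the C3 exit with a form

`exists_adjointClosed_subfield`: an adjoint-closed field subalgebra of degree `c` contains adjoint-closed field
subalgebras of every degree `r ∣ c`, normalized by the normalizer of the big one.
`field_of_fullyInv_form`: helper4's `field_of_fullyInv` for a group of isometries: the field is adjoint-closed.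
-/

set_option autoImplicit false
set_option linter.style.haveILetI false
set_option linter.unusedSectionVars false
set_option linter.unusedVariables false

namespace Cfsg.Agent.Helper5.AschF

open Cfsg Cfsg.Geo Cfsg.Agent.Lead.Asch Cfsg.Agent.Helper5.Asch
open Cfsg.Agent.Helper3.Asch Cfsg.Agent.Helper4.AschP
open scoped MatrixGroups Matrix

variable {n : ℕ} {F : Type*} [Field F]

/-- helper4's `exists_subfield_of_dvd` with the explicit description of the subfield (copy of his proof). -/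
theorem exists_subfield_of_dvd' [Fintype F] (hn : 0 < n) {c r : ℕ}
    (K : Subalgebra F (Matrix (Fin n) (Fin n) F)) (hK : IsFieldSubalgebra c K) (hr : 0 < r)
    (hrc : r ∣ c) :
    ∃ K' : Subalgebra F (Matrix (Fin n) (Fin n) F), IsFieldSubalgebra r K' ∧ K' ≤ K ∧
      subalgebraNormalizer K ≤ subalgebraNormalizer K' ∧
      ∀ k, k ∈ K' ↔ k ∈ K ∧ k ^ (Fintype.card F ^ r) = k := by
  classical
  haveI : Nonempty (Fin n) := ⟨⟨0, hn⟩⟩
  obtain ⟨K', hK'⟩ := exists_frob_subalgebra hn K hK.comm r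
  obtain ⟨m, hm⟩ : ∃ m, m = Fintype.card F ^ r := ⟨_, rfl⟩
  have hK'orig := hK'
  rw [← hm] at hK'
  have hK'K : K' ≤ K := fun k hk => ((hK' k).1 hk).1
  refine ⟨K', ⟨?_, ?_, ?_⟩, hK'K, ?_, hK'orig⟩
  · intro x hx y hy
    exact hK.comm x (hK'K hx) y (hK'K hy)
  · intro x hx hx0
    obtain ⟨y, hy, hxy⟩ := hK.inv x (hK'K hx) hx0
    refine ⟨y, (hK' y).2 ⟨hy, ?_⟩, hxy⟩
    have hxm : x ^ m = x := ((hK' x).1 hx).2
    have hc : Commute x y := hK.comm x (hK'K hx) y hy
    have h1 : x * y ^ m = 1 := by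
      have h2 : (x * y) ^ m = 1 := by rw [hxy, one_pow]
      rwa [hc.mul_pow, hxm] at h2
    have hyx : y * x = 1 := by rw [← hc.eq]; exact hxy
    calc y ^ m = (y * x) * y ^ m := by rw [hyx, one_mul]
      _ = y * (x * y ^ m) := by rw [mul_assoc]
      _ = y := by rw [h1, mul_one]
  · -- the degree
    letI := Cfsg.Agent.Helper7.FEx.fieldOfSub K hK
    haveI : Finite ↥K := inferInstance
    have hfin : Module.finrank F ↥K = c := hK.finrank_eq
    have hcount := card_frob_fixed (F := F) (K := ↥K) hr (hfin.symm ▸ hrc)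
    rw [← hm] at hcount
    let e : ↥K' ≃ {k : ↥K // k ^ m = k} :=
      { toFun := fun k => ⟨⟨(k : Matrix (Fin n) (Fin n) F), hK'K k.2⟩, by
          apply Subtype.ext
          rw [SubmonoidClass.coe_pow]
          exact ((hK' _).1 k.2).2⟩
        invFun := fun k => ⟨((k : ↥K) : Matrix (Fin n) (Fin n) F), (hK' _).2 ⟨(k : ↥K).2, by
          have h1 := congrArg Subtype.val k.2
          rwa [SubmonoidClass.coe_pow] at h1⟩⟩
        left_inv := fun k => rfl
        right_inv := fun k => rfl }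
    have hcard : Nat.card ↥K' = Fintype.card F ^ r := by
      rw [Nat.card_congr e, hcount, hm]
    haveI : Fintype ↥K' := Fintype.ofFinite _
    have h2 := Module.card_eq_pow_finrank (K := F) (V := ↥K')
    rw [← Nat.card_eq_fintype_card, hcard] at h2
    exact (Nat.pow_right_injective (Fintype.one_lt_card : 1 < Fintype.card F) h2).symm
  · intro g hg
    show ∀ k : Matrix (Fin n) (Fin n) F, k ∈ K' ↔
      (g : Matrix (Fin n) (Fin n) F) * k * ((g⁻¹ : GL (Fin n) F) : Matrix (Fin n) (Fin n) F) ∈ K'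
    intro k
    have hgk : k ∈ K ↔ (g : Matrix (Fin n) (Fin n) F) * k *
        ((g⁻¹ : GL (Fin n) F) : Matrix (Fin n) (Fin n) F) ∈ K := hg k
    rw [hK', hK', ← hgk, Units.conj_pow]
    constructor
    · rintro ⟨h1, h2⟩
      exact ⟨h1, by rw [h2]⟩
    · rintro ⟨h1, h2⟩
      refine ⟨h1, ?_⟩
      have h3 : ((g⁻¹ : GL (Fin n) F) : Matrix (Fin n) (Fin n) F) *
          ((g : Matrix (Fin n) (Fin n) F) * k ^ m *
            ((g⁻¹ : GL (Fin n) F) : Matrix (Fin n) (Fin n) F)) * (g : Matrix (Fin n) (Fin n) F)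
          = ((g⁻¹ : GL (Fin n) F) : Matrix (Fin n) (Fin n) F) *
          ((g : Matrix (Fin n) (Fin n) F) * k *
            ((g⁻¹ : GL (Fin n) F) : Matrix (Fin n) (Fin n) F)) * (g : Matrix (Fin n) (Fin n) F) := by
        rw [h2]
      have e1 : ((g⁻¹ : GL (Fin n) F) : Matrix (Fin n) (Fin n) F) *
          (g : Matrix (Fin n) (Fin n) F) = 1 := Units.inv_mul g
      simpa [mul_assoc, e1, ← mul_assoc ((g⁻¹ : GL (Fin n) F) : Matrix (Fin n) (Fin n) F)] using h3

variable {σ : F ≃+* F} {f : (Fin n → F) → (Fin n → F) → F}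

/-- adjoint-closed subfields of every degree dividing the degree -/
theorem exists_adjointClosed_subfield [Fintype F] (hn : 0 < n) (hf : RForm σ f) {c r : ℕ}
    (K : Subalgebra F (Matrix (Fin n) (Fin n) F)) (hK : IsFieldSubalgebra c K)
    (hKadj : IsAdjointClosedFor f K) (hr : 0 < r) (hrc : r ∣ c) :
    ∃ K' : Subalgebra F (Matrix (Fin n) (Fin n) F), IsFieldSubalgebra r K' ∧ K' ≤ K ∧
      subalgebraNormalizer K ≤ subalgebraNormalizer K' ∧ IsAdjointClosedFor f K' := by
  obtain ⟨K', h1, h2, h3, h4⟩ := exists_subfield_of_dvd' hn K hK hr hrc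
  exact ⟨K', h1, h2, h3, adjointClosed_of_frob hf hKadj _ h4⟩

/-- **the C3 exit with a form**: helper4's `field_of_fullyInv` for a group `N` of isometries of `f`: the field
subalgebra of prime degree is closed under adjoints. -/
theorem field_of_fullyInv_form [Fintype F] (hn : 0 < n) (hf : RForm σ f) {H N : Subgroup (GL (Fin n) F)}
    (hnz : Nzes H N) (hN : ∀ x ∈ N, Isom f x)
    (hhom : ∀ X : Submodule F (Fin n → F), FullyInv N X → X = ⊥ ∨ X = ⊤) :
    (∃ (r : ℕ) (K : Subalgebra F (Matrix (Fin n) (Fin n) F)), r.Prime ∧ r ∣ n ∧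
      IsFieldSubalgebra r K ∧ IsAdjointClosedFor f K ∧ H ≤ subalgebraNormalizer K) ∨
    (∀ M : Matrix (Fin n) (Fin n) F, (∀ s ∈ matrixSet N, M * s = s * M) →
      (∀ c : Matrix (Fin n) (Fin n) F, (∀ s ∈ matrixSet N, c * s = s * c) → M * c = c * M) →
      ∃ a : F, M = a • (1 : Matrix (Fin n) (Fin n) F)) := by
  classical
  haveI : Nonempty (Fin n) := ⟨⟨0, hn⟩⟩
  have hK := ccenter_isFieldSubalgebra (N := N) (fullInvM_of_fullyInv hhom)
  by_cases h1 : Module.finrank F (ccenter N) = 1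
  · right
    intro M hM1 hM2
    have hM : M ∈ ccenter N := mem_ccenter_iff.2 ⟨hM1, hM2⟩
    rw [Subalgebra.finrank_eq_one_iff.1 h1, Algebra.mem_bot] at hM
    obtain ⟨a, ha⟩ := hM
    exact ⟨a, by rw [← ha, Algebra.algebraMap_eq_smul_one]⟩
  · left
    obtain ⟨r, hr, hrd⟩ := Nat.exists_prime_and_dvd h1
    obtain ⟨K', hK', -, hnorm, hadj⟩ :=
      exists_adjointClosed_subfield hn hf (ccenter N) hK (ccenter_adjointClosed hf hN) hr.pos hrd
    refine ⟨r, K', hr, ?_, hK', hadj, (le_normalizer_ccenter hnz).trans hnorm⟩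
    have := Cfsg.Agent.Helper7.FEx.dvd_card hr.pos K' hK'
    rwa [Fintype.card_fin] at this

end Cfsg.Agent.Helper5.AschF
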