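import Mathlib
import Cfsg.Prelude.Def_GeometricClasses
import Cfsg.Agent.Lead.AschBase
import Cfsg.Agent.Helper5.AschForm1
import Cfsg.Agent.Helper5.AschForm8

/-!
# FORM-CLIFFORD, part 9: the C4 exit with a form

`tensor_gram_of_matrix_form`: if `N` (isometries of `f`) has the homogeneous matrix form `x P = P (1 ⊗ ρ x)` with
`ρ` absolutely irreducible, then in the basis `P` the Gram matrix of `f` is a Kronecker product `B ⊗ₖ G` with `G`
a `ρ(N)`-invariant invertible Gram matrix and `B` invertible.  This is `IsTensorFormStructure` up to the choice of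
the forms with Gram matrices `B` and `G`.
-/

set_option autoImplicit false
set_option linter.style.haveILetI false
set_option linter.unusedSectionVars false
set_option linter.unusedVariables false

namespace Cfsg.Agent.Helper5.AschF

open Cfsg Cfsg.Geo Cfsg.Agent.Lead.Asch Cfsg.Agent.Helper5.Asch Cfsg.Agent.Helper5.AschU
open Cfsg.Agent.Helper3.Asch
open scoped MatrixGroups Matrix Kronecker

variable {n : ℕ} {F : Type*} [Field F] {σ : F ≃+* F} {f : (Fin n → F) → (Fin n → F) → F}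

theorem tensor_gram_of_matrix_form (hn : 0 < n) (hf : RForm σ f) {N : Subgroup (GL (Fin n) F)}
    (hN : ∀ x ∈ N, Isom f x) {d e : ℕ} (eqv : Fin n ≃ Fin e × Fin d) (P : GL (Fin n) F)
    (ρ : N → Matrix (Fin d) (Fin d) F)
    (hρ : ∀ x : N, ((x : GL (Fin n) F) : Matrix (Fin n) (Fin n) F) * (P : Matrix (Fin n) (Fin n) F) =
      (P : Matrix (Fin n) (Fin n) F) * ((1 : Matrix (Fin e) (Fin e) F) ⊗ₖ ρ x).submatrix eqv eqv)
    (hρu : ∀ x, IsUnit (ρ x).det) (habs : ActsAbsolutelyIrreducibly (Set.range ρ)) :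
    ∃ (B : Matrix (Fin e) (Fin e) F) (G : Matrix (Fin d) (Fin d) F), IsUnit B.det ∧ IsUnit G.det ∧
      (∀ x : N, (ρ x)ᵀ * G * (ρ x).map σ = G) ∧
      ∀ x y : Fin e × Fin d → F,
        f ((P : Matrix (Fin n) (Fin n) F) *ᵥ (x ∘ eqv)) ((P : Matrix (Fin n) (Fin n) F) *ᵥ (y ∘ eqv)) =
          formOfGram σ (B ⊗ₖ G) x y := by
  classical
  set Pm : Matrix (Fin n) (Fin n) F := (P : Matrix (Fin n) (Fin n) F) with hPm
  have hPinv : ((P⁻¹ : GL (Fin n) F) : Matrix (Fin n) (Fin n) F) * Pm = 1 := Units.inv_mul P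
  -- the transported form
  set f'' : (Fin n → F) → (Fin n → F) → F := fun u v => f (Pm *ᵥ u) (Pm *ᵥ v) with hf''
  have hsesq : IsSesq σ f'' := by
    refine ⟨?_, ?_, ?_, ?_⟩
    · intro x y v
      simp only [hf'', Matrix.mulVec_add, hf.sesq.add_left]
    · intro c x v
      simp only [hf'', Matrix.mulVec_smul, hf.sesq.smul_left]
    · intro v x y
      simp only [hf'', Matrix.mulVec_add, hf.sesq.add_right]
    · intro c v x
      simp only [hf'', Matrix.mulVec_smul, hf.sesq.smul_right]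
  have hPinj : ∀ v : Fin n → F, v ≠ 0 → Pm *ᵥ v ≠ 0 := by
    intro v hv h
    apply hv
    have := congrArg (fun w => ((P⁻¹ : GL (Fin n) F) : Matrix (Fin n) (Fin n) F) *ᵥ w) h
    simpa only [Matrix.mulVec_mulVec, hPinv, Matrix.one_mulVec, Matrix.mulVec_zero] using this
  have hPsurj : ∀ w : Fin n → F, ∃ v, Pm *ᵥ v = w := by
    intro w
    refine ⟨((P⁻¹ : GL (Fin n) F) : Matrix (Fin n) (Fin n) F) *ᵥ w, ?_⟩
    rw [Matrix.mulVec_mulVec, hPm, Units.mul_inv, Matrix.one_mulVec]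
  have hnd'' : ∀ v : Fin n → F, v ≠ 0 → ∃ x, f'' x v ≠ 0 := by
    intro v hv
    obtain ⟨w, hw⟩ := (hf.nondeg _ (hPinj v hv)).1
    obtain ⟨x, rfl⟩ := hPsurj w
    exact ⟨x, hw⟩
  set T'' := gram f'' with hT''
  have hT''det : IsUnit T''.det := hsesq.isUnit_det_gram hnd''
  have hexp : ∀ u v, f'' u v = u ⬝ᵥ (T'' *ᵥ (fun j => σ (v j))) := hsesq.expand
  -- invariance
  have hinv'' : ∀ x : N, (((1 : Matrix (Fin e) (Fin e) F) ⊗ₖ ρ x).submatrix eqv eqv)ᵀ * T'' *
      (((1 : Matrix (Fin e) (Fin e) F) ⊗ₖ ρ x).submatrix eqv eqv).map σ = T'' := by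
    intro x
    set Xn := ((1 : Matrix (Fin e) (Fin e) F) ⊗ₖ ρ x).submatrix eqv eqv with hXn
    apply mat_ext_of_forall
    intro u v
    set w : Fin n → F := fun j => σ.symm (v j) with hw
    have hv : (fun j => σ (w j)) = v := by
      funext j
      exact σ.apply_symm_apply (v j)
    have h1 : f'' (Xn *ᵥ u) (Xn *ᵥ w) = f'' u w := by
      show f (Pm *ᵥ (Xn *ᵥ u)) (Pm *ᵥ (Xn *ᵥ w)) = f (Pm *ᵥ u) (Pm *ᵥ w)
      rw [Matrix.mulVec_mulVec, Matrix.mulVec_mulVec, ← hρ x, ← Matrix.mulVec_mulVec,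
        ← Matrix.mulVec_mulVec]
      exact hN x x.2 _ _
    have hmm : (fun j => σ ((Xn *ᵥ w) j)) = Xn.map σ *ᵥ (fun j => σ (w j)) :=
      map_mulVec' (σ : F →+* F) Xn w
    rw [hexp, hexp, hmm, hv] at h1
    rw [Matrix.mul_assoc, ← Matrix.mulVec_mulVec, ← mulVec_dotProduct', ← Matrix.mulVec_mulVec]
    exact h1
  -- reindex
  set T' : Matrix (Fin e × Fin d) (Fin e × Fin d) F := T''.submatrix eqv.symm eqv.symm with hT'
  have hT''' : T'' = T'.submatrix eqv eqv := by
    rw [hT', Matrix.submatrix_submatrix, Equiv.symm_comp_self, Matrix.submatrix_id_id]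
  have hinv' : ∀ r ∈ Set.range ρ, ((1 : Matrix (Fin e) (Fin e) F) ⊗ₖ r)ᵀ * T' *
      ((1 : Matrix (Fin e) (Fin e) F) ⊗ₖ r).map (σ : F →+* F) = T' := by
    rintro _ ⟨x, rfl⟩
    have h := hinv'' x
    rw [hT''', Matrix.transpose_submatrix, ← Matrix.submatrix_map, Matrix.submatrix_mul_equiv,
      Matrix.submatrix_mul_equiv] at h
    have := congrArg (fun M => M.submatrix eqv.symm eqv.symm) h
    simp only [Matrix.submatrix_submatrix, Equiv.self_comp_symm, Matrix.submatrix_id_id] at this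
    exact this
  have hT'0 : T' ≠ 0 := by
    intro h0
    have h1 : T'' = 0 := by rw [hT''', h0]; rfl
    haveI : Nonempty (Fin n) := ⟨⟨0, hn⟩⟩
    rw [h1, Matrix.det_zero] at hT''det
    exact not_isUnit_zero hT''det
  obtain ⟨B, G, hTBG, hGinv, hGdet⟩ := gram_kronecker (σ : F →+* F) habs
    (by rintro _ ⟨x, rfl⟩; exact hρu x) hT'0 hinv'
  have hdpos : 0 < d := by
    by_contra h0
    have hd0 : d = 0 := by omega
    subst hd0
    have : Fintype.card (Fin n) = Fintype.card (Fin e × Fin 0) := Fintype.card_congr eqv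
    simp at this
    omega
  have hBdet : IsUnit B.det := by
    have h1 : T'.det = T''.det := Matrix.det_submatrix_equiv_self eqv.symm T''
    have h2 : IsUnit T'.det := by rw [h1]; exact hT''det
    rw [hTBG, Matrix.det_kronecker, Fintype.card_fin, Fintype.card_fin] at h2
    have h3 := (IsUnit.mul_iff.1 h2).1
    exact (isUnit_pow_iff hdpos.ne').1 h3
  refine ⟨B, G, hBdet, hGdet, fun x => hGinv _ ⟨x, rfl⟩, fun x y => ?_⟩
  show f'' (x ∘ eqv) (y ∘ eqv) = _
  rw [hexp, ← hTBG]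
  simp only [dotProduct, Matrix.mulVec, formOfGram, Function.comp_apply]
  rw [← Equiv.sum_comp eqv]
  apply Finset.sum_congr rfl
  intro i _
  rw [Finset.mul_sum, ← Equiv.sum_comp eqv]
  apply Finset.sum_congr rfl
  intro j _
  rw [hT', Matrix.submatrix_apply, Equiv.symm_apply_apply, Equiv.symm_apply_apply, mul_assoc]

theorem gramMatrix_formOfGram {k : ℕ} (τ : F →+* F) (G : Matrix (Fin k) (Fin k) F) :
    gramMatrix (formOfGram τ G) = G := by
  classical
  ext a b
  simp only [gramMatrix, formOfGram]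
  rw [Finset.sum_eq_single a]
  · rw [Finset.sum_eq_single b]
    · simp
    · intro c _ hc
      simp [Pi.single_eq_of_ne hc]
    · intro h
      exact absurd (Finset.mem_univ b) h
  · intro c _ hc
    apply Finset.sum_eq_zero
    intro c' _
    simp [Pi.single_eq_of_ne hc]
  · intro h
    exact absurd (Finset.mem_univ a) h

/-- **the C4 exit with a form**, in terms of `IsTensorFormStructure` (the two factor forms are the forms with Gram
matrices `B` and `G`; constant `c = 1`). -/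
theorem tensorFormStructure_of_matrix_form (hn : 0 < n) (hf : RForm σ f) {N : Subgroup (GL (Fin n) F)}
    (hN : ∀ x ∈ N, Isom f x) {d e : ℕ} (eqv : Fin n ≃ Fin e × Fin d) (P : GL (Fin n) F)
    (ρ : N → Matrix (Fin d) (Fin d) F)
    (hρ : ∀ x : N, ((x : GL (Fin n) F) : Matrix (Fin n) (Fin n) F) * (P : Matrix (Fin n) (Fin n) F) =
      (P : Matrix (Fin n) (Fin n) F) * ((1 : Matrix (Fin e) (Fin e) F) ⊗ₖ ρ x).submatrix eqv eqv)
    (hρu : ∀ x, IsUnit (ρ x).det) (habs : ActsAbsolutelyIrreducibly (Set.range ρ)) :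
    ∃ (B : Matrix (Fin e) (Fin e) F) (G : Matrix (Fin d) (Fin d) F), IsUnit B.det ∧ IsUnit G.det ∧
      (∀ x : N, (ρ x)ᵀ * G * (ρ x).map σ = G) ∧
      (∀ x y : Fin e × Fin d → F,
        f ((P : Matrix (Fin n) (Fin n) F) *ᵥ (x ∘ eqv)) ((P : Matrix (Fin n) (Fin n) F) *ᵥ (y ∘ eqv)) =
          formOfGram σ (B ⊗ₖ G) x y) ∧
      IsTensorFormStructure σ f (formOfGram σ B) (formOfGram σ G) eqv P := by
  obtain ⟨B, G, hB, hG, hinv, hform⟩ := tensor_gram_of_matrix_form hn hf hN eqv P ρ hρ hρu habs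
  refine ⟨B, G, hB, hG, hinv, hform, 1, one_ne_zero, fun x y => ?_⟩
  rw [hform, one_mul]
  have h1 := gramMatrix_formOfGram (σ : F →+* F) B
  have h2 := gramMatrix_formOfGram (σ : F →+* F) G
  have h1' : gramMatrix (formOfGram σ B) = B := h1
  have h2' : gramMatrix (formOfGram σ G) = G := h2
  rw [h1', h2']

end Cfsg.Agent.Helper5.AschF
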