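import Mathlib

/-!
An involution of a finite field `F` is `x ↦ x ^ q` with `|F| = q ^ 2`.
-/

set_option autoImplicit false
set_option linter.style.haveILetI false
set_option linter.unusedSectionVars false
set_option linter.unusedVariables false

namespace Cfsg.Agent.Helper5.AschO

variable {F : Type*} [Field F]

theorem exists_q_of_involution [Fintype F] (σ : F ≃+* F) (hne : σ ≠ RingEquiv.refl F)
    (hinv : ∀ a, σ (σ a) = a) : ∃ q : ℕ, Fintype.card F = q ^ 2 ∧ ∀ x, σ x = x ^ q := by
  classical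
  obtain ⟨p, hchar⟩ := CharP.exists F
  haveI := hchar
  haveI : Fact p.Prime := ⟨CharP.char_is_prime F p⟩
  letI : Algebra (ZMod p) F := ZMod.algebra F p
  let σ' : F ≃ₐ[ZMod p] F := AlgEquiv.ofRingEquiv (f := σ) (fun x => by
    have : (σ : F →+* F).comp (algebraMap (ZMod p) F) = algebraMap (ZMod p) F := Subsingleton.elim _ _
    exact congrArg (fun g : ZMod p →+* F => g x) this)
  have hσ' : ∀ x, σ' x = σ x := fun x => rfl
  obtain ⟨⟨j, hj⟩, hjeq⟩ := (FiniteField.bijective_frobeniusAlgEquivOfAlgebraic_pow (ZMod p) F).2 σ'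
  simp only at hjeq
  set φ := FiniteField.frobeniusAlgEquivOfAlgebraic (ZMod p) F with hφ
  have hpow : ∀ (k : ℕ) (x : F), (φ ^ k) x = x ^ (p ^ k) := by
    intro k x
    rw [AlgEquiv.coe_pow, hφ, FiniteField.coe_frobeniusAlgEquivOfAlgebraic_iterate, ZMod.card]
  have hφj : ∀ x, σ x = x ^ (p ^ j) := by
    intro x
    rw [← hσ', ← hjeq, hpow]
  have hord : orderOf φ = Module.finrank (ZMod p) F := FiniteField.orderOf_frobeniusAlgEquivOfAlgebraic (ZMod p) F
  have hσ2 : σ' ^ 2 = 1 := by
    apply AlgEquiv.ext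
    intro x
    rw [pow_two, AlgEquiv.mul_apply, hσ', hσ', hinv]
    rfl
  have hdvd : Module.finrank (ZMod p) F ∣ 2 * j := by
    rw [← hord]
    apply orderOf_dvd_of_pow_eq_one
    rw [mul_comm, pow_mul, hjeq, hσ2]
  have hj0 : j ≠ 0 := by
    intro h0
    apply hne
    apply RingEquiv.ext
    intro x
    rw [hφj, h0, pow_zero, pow_one]
    rfl
  have hm : Module.finrank (ZMod p) F = 2 * j := by
    obtain ⟨c, hc⟩ := hdvd
    have hc0 : c ≠ 0 := by
      rintro rfl
      omega
    have hc2 : c < 2 := by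
      by_contra h
      have : 2 * Module.finrank (ZMod p) F ≤ Module.finrank (ZMod p) F * c := by
        rw [mul_comm]
        exact Nat.mul_le_mul_left _ (by omega)
      omega
    have : c = 1 := by omega
    rw [this, mul_one] at hc
    exact hc.symm
  refine ⟨p ^ j, ?_, hφj⟩
  rw [Module.card_eq_pow_finrank (K := ZMod p) (V := F), ZMod.card, hm, ← pow_mul, mul_comm]

end Cfsg.Agent.Helper5.AschO
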