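import Mathlib
import Cfsg.Prelude.Def_GeometricClasses
import Cfsg.Agent.Lead.AschBase
import Cfsg.Agent.Helper3.AschForms
import Cfsg.Agent.Helper5.AschU5
import Cfsg.Agent.Helper5.AschO9a

/-!
# ASCH-PRIME-O piece O9 (helper5): an absolutely irreducible group fixing a non-degenerate quadratic form and a
non-degenerate unitary form (for any involution `σ` of the finite field `F`) is realisable over a proper subfield
(the fixed field of `σ`).  `realisable_core` is the tail of the proof of U5, for a general matrix `S` with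
`S g = σ(g) S`.
-/

set_option autoImplicit false
set_option linter.unusedVariables false
set_option linter.unusedSectionVars false
set_option linter.style.haveILetI false

namespace Cfsg.Agent.Helper5.AschO

open Cfsg Cfsg.Geo Cfsg.Agent.Lead.Asch Cfsg.Agent.Helper5.AschU
open scoped MatrixGroups Matrix

variable {n : ℕ} {F : Type*} [Field F]

/-- the semilinear descent: an absolutely irreducible group `P` with `S g = σ(g) S` for all `g ∈ P`
(`σ = (· ^ q)` the involution of `F`, `|F| = q ^ 2`, `S` invertible) is realisable over the fixed field of `σ`. -/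
theorem realisable_core [Fintype F] (q : ℕ) (hF : Fintype.card F = q ^ 2) (hn : 1 ≤ n)
    (σ : F →+* F) (hσ : ∀ x, σ x = x ^ q) (ω : F) (hω : σ ω ≠ ω)
    {P : Subgroup (GL (Fin n) F)} (hP : ActsAbsolutelyIrreducibly (matrixSet P))
    (S : Matrix (Fin n) (Fin n) F) (hSdet : IsUnit S.det)
    (hrel : ∀ g ∈ P, S * (g : Matrix (Fin n) (Fin n) F) =
      (g : Matrix (Fin n) (Fin n) F).map σ * S) :
    ∃ F₀ : Subfield F, F₀ ≠ ⊤ ∧ RealisableOver F₀ (matrixSet P) := by
  classical
  have hσ2 : ∀ x, σ (σ x) = x := by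
    intro x
    rw [hσ, hσ, ← pow_mul, ← sq, ← hF, FiniteField.pow_card]
  have hmap2 : ∀ M : Matrix (Fin n) (Fin n) F, (M.map σ).map σ = M := by
    intro M
    ext i j
    simp only [Matrix.map_apply, hσ2]
  have hmapmul : ∀ A B : Matrix (Fin n) (Fin n) F, (A * B).map σ = A.map σ * B.map σ :=
    fun A B => Matrix.map_mul
  have hmapone : (1 : Matrix (Fin n) (Fin n) F).map σ = 1 := Matrix.map_one σ (map_zero σ) (map_one σ)
  -- `Z = σ(S) S` is scalar
  let Z : Matrix (Fin n) (Fin n) F := S.map σ * S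
  have hZcomm : ∀ s ∈ matrixSet P, Z * s = s * Z := by
    intro s hs
    obtain ⟨g, hg, rfl⟩ := mem_matrixSet_iff.1 hs
    have h1 := hrel g hg
    have h2 : S.map σ * (g : Matrix (Fin n) (Fin n) F).map σ =
        (g : Matrix (Fin n) (Fin n) F) * S.map σ := by
      have := congrArg (fun M : Matrix (Fin n) (Fin n) F => M.map σ) h1
      simp only [hmapmul, hmap2] at this
      exact this
    show S.map σ * S * (g : Matrix (Fin n) (Fin n) F) = (g : Matrix (Fin n) (Fin n) F) * (S.map σ * S)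
    rw [Matrix.mul_assoc, h1, ← Matrix.mul_assoc, h2, Matrix.mul_assoc]
  obtain ⟨c, hc⟩ := hP.2 Z hZcomm
  have hZdet : Z.det ≠ 0 := by
    show (S.map σ * S).det ≠ 0
    rw [Matrix.det_mul]
    have h1 : (S.map σ).det = σ S.det := by
      have := RingHom.map_det σ S
      rw [this]
      rfl
    rw [h1]
    exact mul_ne_zero ((map_ne_zero σ).2 hSdet.ne_zero) hSdet.ne_zero
  haveI : Nonempty (Fin n) := ⟨⟨0, hn⟩⟩
  have hc0 : c ≠ 0 := by
    intro h0
    rw [h0, zero_smul] at hc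
    rw [hc, Matrix.det_zero] at hZdet
    exact hZdet rfl
  have hZ' : S * S.map σ = c • (1 : Matrix (Fin n) (Fin n) F) := by
    have h1 : (c⁻¹ • S.map σ) * S = 1 := by
      rw [Matrix.smul_mul]
      show c⁻¹ • Z = 1
      rw [hc, smul_smul, inv_mul_cancel₀ hc0, one_smul]
    have h2 := mul_eq_one_comm.1 h1
    rw [Matrix.mul_smul] at h2
    have := congrArg (fun M : Matrix (Fin n) (Fin n) F => c • M) h2
    simp only [smul_smul, mul_inv_cancel₀ hc0, one_smul] at this
    exact this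
  have hσc : σ c = c := by
    have h1 : Z.map σ = S * S.map σ := by
      show (S.map σ * S).map σ = _
      rw [hmapmul, hmap2]
    have h2 : Z.map σ = σ c • (1 : Matrix (Fin n) (Fin n) F) := by
      rw [hc]
      ext i j
      simp only [Matrix.map_apply, Matrix.smul_apply, smul_eq_mul, map_mul, Matrix.one_apply]
      split_ifs <;> simp
    have h3 := h1.symm.trans h2
    rw [hZ'] at h3
    have h4 := congrFun (congrFun h3 ⟨0, hn⟩) ⟨0, hn⟩
    simpa using h4.symm
  -- the norm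
  obtain ⟨b, hb⟩ := exists_norm_eq hF c (by rw [← hσ, hσc]) hc0
  have hb0 : b ≠ 0 := by
    intro h0
    rw [h0, zero_pow (by omega)] at hb
    exact hc0 hb.symm
  have hbσ : b * σ b = c := by rw [hσ, ← pow_succ', hb]
  let T : Matrix (Fin n) (Fin n) F := b⁻¹ • S
  have hTmap : T.map σ = (σ b)⁻¹ • S.map σ := by
    ext i j
    simp only [T, Matrix.map_apply, Matrix.smul_apply, smul_eq_mul, map_mul, map_inv₀]
  have hT : T.map σ * T = 1 := by
    rw [hTmap]
    show ((σ b)⁻¹ • S.map σ) * (b⁻¹ • S) = 1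
    rw [Matrix.smul_mul, Matrix.mul_smul, smul_smul]
    show ((σ b)⁻¹ * b⁻¹) • Z = 1
    rw [hc, smul_smul, ← hbσ]
    have : (σ b)⁻¹ * b⁻¹ * (b * σ b) = 1 := by
      have hσb : σ b ≠ 0 := (map_ne_zero σ).2 hb0
      field_simp
    rw [this, one_smul]
  have hT' : T * T.map σ = 1 := mul_eq_one_comm.1 hT
  have hTrel : ∀ g ∈ P, T * (g : Matrix (Fin n) (Fin n) F) =
      (g : Matrix (Fin n) (Fin n) F).map σ * T := by
    intro g hg
    show (b⁻¹ • S) * (g : Matrix (Fin n) (Fin n) F) = (g : Matrix (Fin n) (Fin n) F).map σ * (b⁻¹ • S)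
    rw [Matrix.smul_mul, Matrix.mul_smul, hrel g hg]
  -- Hilbert 90
  obtain ⟨C, hC⟩ := exists_descent σ hσ2 ω hω T hT
  have hCC : ((C⁻¹ : GL (Fin n) F) : Matrix (Fin n) (Fin n) F) * (C : Matrix (Fin n) (Fin n) F) = 1 := by
    rw [← Units.val_mul, inv_mul_cancel, Units.val_one]
  have hCC' : (C : Matrix (Fin n) (Fin n) F) * ((C⁻¹ : GL (Fin n) F) : Matrix (Fin n) (Fin n) F) = 1 := by
    rw [← Units.val_mul, mul_inv_cancel, Units.val_one]
  have hCi : ((C⁻¹ : GL (Fin n) F) : Matrix (Fin n) (Fin n) F).map σ =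
      ((C⁻¹ : GL (Fin n) F) : Matrix (Fin n) (Fin n) F) * T.map σ := by
    have h1 : (((C⁻¹ : GL (Fin n) F) : Matrix (Fin n) (Fin n) F) * T.map σ) *
        (C : Matrix (Fin n) (Fin n) F).map σ = 1 := by
      rw [hC, Matrix.mul_assoc, ← Matrix.mul_assoc (T.map σ), hT, Matrix.one_mul, hCC]
    have h2 : (C : Matrix (Fin n) (Fin n) F).map σ *
        ((C⁻¹ : GL (Fin n) F) : Matrix (Fin n) (Fin n) F).map σ = 1 := by
      rw [← hmapmul, hCC', hmapone]
    calc ((C⁻¹ : GL (Fin n) F) : Matrix (Fin n) (Fin n) F).map σ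
        = ((((C⁻¹ : GL (Fin n) F) : Matrix (Fin n) (Fin n) F) * T.map σ) *
            (C : Matrix (Fin n) (Fin n) F).map σ) *
            ((C⁻¹ : GL (Fin n) F) : Matrix (Fin n) (Fin n) F).map σ := by rw [h1, Matrix.one_mul]
      _ = (((C⁻¹ : GL (Fin n) F) : Matrix (Fin n) (Fin n) F) * T.map σ) *
            ((C : Matrix (Fin n) (Fin n) F).map σ *
            ((C⁻¹ : GL (Fin n) F) : Matrix (Fin n) (Fin n) F).map σ) := by
          simp only [Matrix.mul_assoc]
      _ = ((C⁻¹ : GL (Fin n) F) : Matrix (Fin n) (Fin n) F) * T.map σ := by rw [h2, Matrix.mul_one]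
  refine ⟨RingHom.eqLocusField σ (RingHom.id F), ?_, C⁻¹, ?_⟩
  · intro htop
    apply hω
    have hmem : ω ∈ RingHom.eqLocusField σ (RingHom.id F) := by rw [htop]; trivial
    exact hmem
  · intro s hs i j
    obtain ⟨g, hg, rfl⟩ := mem_matrixSet_iff.1 hs
    rw [inv_inv]
    have hfixed : (((C⁻¹ : GL (Fin n) F) : Matrix (Fin n) (Fin n) F) * (g : Matrix (Fin n) (Fin n) F) *
        (C : Matrix (Fin n) (Fin n) F)).map σ =
        ((C⁻¹ : GL (Fin n) F) : Matrix (Fin n) (Fin n) F) * (g : Matrix (Fin n) (Fin n) F) *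
        (C : Matrix (Fin n) (Fin n) F) := by
      rw [hmapmul, hmapmul, hCi, hC]
      calc ((C⁻¹ : GL (Fin n) F) : Matrix (Fin n) (Fin n) F) * T.map σ *
            (g : Matrix (Fin n) (Fin n) F).map σ * (T * (C : Matrix (Fin n) (Fin n) F))
          = ((C⁻¹ : GL (Fin n) F) : Matrix (Fin n) (Fin n) F) * T.map σ *
            ((g : Matrix (Fin n) (Fin n) F).map σ * T) * (C : Matrix (Fin n) (Fin n) F) := by
            simp only [Matrix.mul_assoc]
        _ = ((C⁻¹ : GL (Fin n) F) : Matrix (Fin n) (Fin n) F) * (T.map σ * T) *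
            (g : Matrix (Fin n) (Fin n) F) * (C : Matrix (Fin n) (Fin n) F) := by
            rw [← hTrel g hg]
            simp only [Matrix.mul_assoc]
        _ = _ := by rw [hT, Matrix.mul_one]
    have := congrFun (congrFun hfixed i) j
    rw [Matrix.map_apply] at this
    exact this

/-- **O9** (exact stub): a group fixing a non-degenerate quadratic form and a non-degenerate unitary form is
realisable over a proper subfield. -/
theorem realisable_of_fixes_quad_unitary [Fintype F] (hn : 1 ≤ n)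
    {P : Subgroup (GL (Fin n) F)} (hP : ActsAbsolutelyIrreducibly (matrixSet P))
    (σ : F ≃+* F) (f : (Fin n → F) → (Fin n → F) → F) (hf : IsUnitaryForm σ f)
    (hfix : FixesForm (matrixSet P) f)
    (Q : (Fin n → F) → F) (hQ : IsNondegenerateQuadraticForm Q) (hfixQ : FixesQuadForm (matrixSet P) Q) :
    ∃ F₀ : Subfield F, F₀ ≠ ⊤ ∧ RealisableOver F₀ (matrixSet P) := by
  classical
  obtain ⟨q, hF, hσq⟩ := exists_q_of_involution σ hf.ne_refl hf.involutive
  have hω : ∃ ω, σ ω ≠ ω := by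
    by_contra h
    push Not at h
    exact hf.ne_refl (RingEquiv.ext h)
  obtain ⟨ω, hω⟩ := hω
  let τ : F →+* F := (σ : F →+* F)
  have hτ : ∀ x, τ x = σ x := fun x => rfl
  -- Gram matrices
  have hsesqf := Cfsg.Agent.Helper3.Asch.IsSesq.of_unitary hf
  let T : Matrix (Fin n) (Fin n) F := Cfsg.Agent.Helper3.Asch.gram f
  have hT : ∀ u v, f u v = u ⬝ᵥ (T *ᵥ (fun j => τ (v j))) := hsesqf.expand
  have hTdet : IsUnit T.det := hsesqf.isUnit_det_gram (fun v hv => (hf.nondegenerate v hv).1)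
  have hB : IsBilinearForm (QuadraticMap.polar Q) := hQ.polar_bilinear
  have hsesq := Cfsg.Agent.Helper3.Asch.IsSesq.of_bilinear hB
  let S : Matrix (Fin n) (Fin n) F := Cfsg.Agent.Helper3.Asch.gram (QuadraticMap.polar Q)
  have hS : ∀ u v, QuadraticMap.polar Q u v = u ⬝ᵥ (S *ᵥ v) := by
    intro u v
    have := hsesq.expand u v
    simpa using this
  have hSdet : IsUnit S.det := hsesq.isUnit_det_gram (fun v hv => (hQ.nondegenerate v hv).1)
  have hTi : T⁻¹ * T = 1 := Matrix.nonsing_inv_mul T hTdet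
  have hTi' : T * T⁻¹ = 1 := Matrix.mul_nonsing_inv T hTdet
  refine realisable_core q hF hn τ hσq ω hω hP (T⁻¹ * S) ?_ ?_
  · rw [Matrix.det_mul]
    exact (Matrix.isUnit_nonsing_inv_det T hTdet).mul hSdet
  intro g hg
  set G : Matrix (Fin n) (Fin n) F := (g : Matrix (Fin n) (Fin n) F) with hG
  have hb : Gᵀ * S * G = S := by
    apply mat_ext_of_forall
    intro u v
    rw [← hS, Matrix.mul_assoc, ← Matrix.mulVec_mulVec, ← mulVec_dotProduct', ← Matrix.mulVec_mulVec,
      ← hS]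
    unfold QuadraticMap.polar
    rw [← Matrix.mulVec_add, hfixQ _ (coe_mem_matrixSet hg), hfixQ _ (coe_mem_matrixSet hg),
      hfixQ _ (coe_mem_matrixSet hg)]
  have ha : Gᵀ * T * G.map τ = T := by
    apply mat_ext_of_forall
    intro u v
    set w : Fin n → F := fun j => τ (v j) with hw
    have hv : (fun j => τ (w j)) = v := by
      funext j
      exact hf.involutive (v j)
    have h1 := hfix _ (coe_mem_matrixSet hg) u w
    rw [hT, hT, map_mulVec', hv] at h1
    rw [Matrix.mul_assoc, ← Matrix.mulVec_mulVec, ← mulVec_dotProduct', ← Matrix.mulVec_mulVec]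
    exact h1
  have h1 : (T⁻¹ * Gᵀ * T) * G.map τ = 1 := by
    calc (T⁻¹ * Gᵀ * T) * G.map τ = T⁻¹ * (Gᵀ * T * G.map τ) := by simp only [Matrix.mul_assoc]
      _ = 1 := by rw [ha, hTi]
  have h2 : G.map τ * (T⁻¹ * Gᵀ * T) = 1 := mul_eq_one_comm.1 h1
  have h3 : G.map τ * T⁻¹ * Gᵀ = T⁻¹ := by
    calc G.map τ * T⁻¹ * Gᵀ = (G.map τ * (T⁻¹ * Gᵀ * T)) * T⁻¹ := by
          have h4 : T⁻¹ * Gᵀ * T * T⁻¹ = T⁻¹ * Gᵀ := by
            rw [Matrix.mul_assoc (T⁻¹ * Gᵀ), hTi', Matrix.mul_one]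
          rw [Matrix.mul_assoc (G.map τ) (T⁻¹ * Gᵀ * T), h4, Matrix.mul_assoc]
      _ = T⁻¹ := by rw [h2, Matrix.one_mul]
  calc T⁻¹ * S * G = (G.map τ * T⁻¹ * Gᵀ) * S * G := by rw [h3]
    _ = G.map τ * (T⁻¹ * (Gᵀ * S * G)) := by simp only [Matrix.mul_assoc]
    _ = G.map τ * (T⁻¹ * S) := by rw [hb]

end Cfsg.Agent.Helper5.AschO
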