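import Mathlib
import Cfsg.Prelude.Def_GeometricClasses
import Cfsg.Agent.Lead.AschBase
import Cfsg.Agent.Helper5.AschO9

/-!
# ASCH-COMP-Sp piece `SpPieces.unitary` (helper5): a group fixing a symplectic and a unitary form is realisable over
the fixed field of the involution.  `realisable_of_fixes_bilin_unitary` is O9 for an arbitrary non-degenerate bilinear
form.
-/

set_option autoImplicit false
set_option linter.unusedVariables false
set_option linter.unusedSectionVars false
set_option linter.style.haveILetI false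

namespace Cfsg.Agent.Helper5.AschSp

open Cfsg Cfsg.Geo Cfsg.Agent.Lead.Asch Cfsg.Agent.Helper5.AschU Cfsg.Agent.Helper5.AschO
open scoped MatrixGroups Matrix

variable {n : ℕ} {F : Type*} [Field F]

/-- a group fixing a non-degenerate bilinear form and a non-degenerate unitary form is realisable over a proper
subfield (general form of O9) -/
theorem realisable_of_fixes_bilin_unitary [Fintype F] (hn : 1 ≤ n)
    {P : Subgroup (GL (Fin n) F)} (hP : ActsAbsolutelyIrreducibly (matrixSet P))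
    (σ : F ≃+* F) (f : (Fin n → F) → (Fin n → F) → F) (hf : IsUnitaryForm σ f)
    (hfix : FixesForm (matrixSet P) f)
    (b : (Fin n → F) → (Fin n → F) → F) (hB : IsBilinearForm b) (hbnd : IsNondegenerateForm b)
    (hfixb : FixesForm (matrixSet P) b) :
    ∃ F₀ : Subfield F, F₀ ≠ ⊤ ∧ RealisableOver F₀ (matrixSet P) := by
  classical
  obtain ⟨q, hF, hσq⟩ := exists_q_of_involution σ hf.ne_refl hf.involutive
  have hω : ∃ ω, σ ω ≠ ω := by
    by_contra h
    push Not at h
    exact hf.ne_refl (RingEquiv.ext h)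
  obtain ⟨ω, hω⟩ := hω
  let τ : F →+* F := (σ : F →+* F)
  have hτ : ∀ x, τ x = σ x := fun x => rfl
  -- Gram matrices
  have hsesqf := Cfsg.Agent.Helper3.Asch.IsSesq.of_unitary hf
  let T : Matrix (Fin n) (Fin n) F := Cfsg.Agent.Helper3.Asch.gram f
  have hT : ∀ u v, f u v = u ⬝ᵥ (T *ᵥ (fun j => τ (v j))) := hsesqf.expand
  have hTdet : IsUnit T.det := hsesqf.isUnit_det_gram (fun v hv => (hf.nondegenerate v hv).1)
  have hsesq := Cfsg.Agent.Helper3.Asch.IsSesq.of_bilinear hB
  let S : Matrix (Fin n) (Fin n) F := Cfsg.Agent.Helper3.Asch.gram b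
  have hS : ∀ u v, b u v = u ⬝ᵥ (S *ᵥ v) := by
    intro u v
    have := hsesq.expand u v
    simpa using this
  have hSdet : IsUnit S.det := hsesq.isUnit_det_gram (fun v hv => (hbnd v hv).1)
  have hTi : T⁻¹ * T = 1 := Matrix.nonsing_inv_mul T hTdet
  have hTi' : T * T⁻¹ = 1 := Matrix.mul_nonsing_inv T hTdet
  refine realisable_core q hF hn τ hσq ω hω hP (T⁻¹ * S) ?_ ?_
  · rw [Matrix.det_mul]
    exact (Matrix.isUnit_nonsing_inv_det T hTdet).mul hSdet
  intro g hg
  set G : Matrix (Fin n) (Fin n) F := (g : Matrix (Fin n) (Fin n) F) with hG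
  have hb : Gᵀ * S * G = S := by
    apply mat_ext_of_forall
    intro u v
    rw [← hS, Matrix.mul_assoc, ← Matrix.mulVec_mulVec, ← mulVec_dotProduct', ← Matrix.mulVec_mulVec,
      ← hS]
    exact hfixb _ (coe_mem_matrixSet hg) u v
  have ha : Gᵀ * T * G.map τ = T := by
    apply mat_ext_of_forall
    intro u v
    set w : Fin n → F := fun j => τ (v j) with hw
    have hv : (fun j => τ (w j)) = v := by
      funext j
      exact hf.involutive (v j)
    have h1 := hfix _ (coe_mem_matrixSet hg) u w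
    rw [hT, hT, map_mulVec', hv] at h1
    rw [Matrix.mul_assoc, ← Matrix.mulVec_mulVec, ← mulVec_dotProduct', ← Matrix.mulVec_mulVec]
    exact h1
  have h1 : (T⁻¹ * Gᵀ * T) * G.map τ = 1 := by
    calc (T⁻¹ * Gᵀ * T) * G.map τ = T⁻¹ * (Gᵀ * T * G.map τ) := by simp only [Matrix.mul_assoc]
      _ = 1 := by rw [ha, hTi]
  have h2 : G.map τ * (T⁻¹ * Gᵀ * T) = 1 := mul_eq_one_comm.1 h1
  have h3 : G.map τ * T⁻¹ * Gᵀ = T⁻¹ := by
    calc G.map τ * T⁻¹ * Gᵀ = (G.map τ * (T⁻¹ * Gᵀ * T)) * T⁻¹ := by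
          have h4 : T⁻¹ * Gᵀ * T * T⁻¹ = T⁻¹ * Gᵀ := by
            rw [Matrix.mul_assoc (T⁻¹ * Gᵀ), hTi', Matrix.mul_one]
          rw [Matrix.mul_assoc (G.map τ) (T⁻¹ * Gᵀ * T), h4, Matrix.mul_assoc]
      _ = T⁻¹ := by rw [h2, Matrix.one_mul]
  calc T⁻¹ * S * G = (G.map τ * T⁻¹ * Gᵀ) * S * G := by rw [h3]
    _ = G.map τ * (T⁻¹ * (Gᵀ * S * G)) := by simp only [Matrix.mul_assoc]
    _ = G.map τ * (T⁻¹ * S) := by rw [hb]


/-- **`SpPieces.unitary`** (field shape + `hn : 0 < n`). -/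
theorem unitary [Fintype F] (hn : 0 < n) (f : (Fin n → F) → (Fin n → F) → F) (hf : IsSymplecticForm f)
    (P : Subgroup (GL (Fin n) F)) (hfix : FixesForm (matrixSet P) f)
    (hP : ActsAbsolutelyIrreducibly (matrixSet P))
    (σ : F ≃+* F) (g : (Fin n → F) → (Fin n → F) → F) (hg : IsUnitaryForm σ g)
    (hfixg : FixesForm (matrixSet P) g) :
    ∃ F₀ : Subfield F, F₀ ≠ ⊤ ∧ RealisableOver F₀ (matrixSet P) :=
  realisable_of_fixes_bilin_unitary hn hP σ g hg hfixg f hf.bilinear hf.nondegenerate hfix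

end Cfsg.Agent.Helper5.AschSp
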