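import Mathlib
import Cfsg.Prelude.Def_GeometricClasses

/-!
# Forms given by a Gram matrix

The Prelude's `formOfGram σ G x y = ∑ a b, x a * G a b * σ (y b)` for a ring map `σ`: sesquilinearity, the action of
a matrix (`formOfGram σ G (X u) (X v) = formOfGram σ (Xᵀ G σ(X)) u v`), Hermitian symmetry, non-degeneracy for an
invertible Gram matrix; the resulting `IsUnitaryForm`, `IsSymplecticForm`, `IsSymmetricForm`,
`IsNondegenerateQuadraticForm`.
-/

set_option autoImplicit false
set_option linter.style.haveILetI false
set_option linter.unusedSectionVars false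
set_option linter.unusedVariables false

namespace Cfsg.Agent.Helper5.GramForm

open Cfsg Cfsg.Geo
open scoped Matrix

variable {κ : Type} [Fintype κ] [DecidableEq κ] {F : Type*} [Field F]

theorem formOfGram_eq_dot (σ : F → F) (G : Matrix κ κ F) (x y : κ → F) :
    formOfGram σ G x y = x ⬝ᵥ (G *ᵥ fun b => σ (y b)) := by
  simp only [formOfGram, dotProduct, Matrix.mulVec, Finset.mul_sum, mul_assoc]

theorem formOfGram_add_left (σ : F → F) (G : Matrix κ κ F) (x x' y : κ → F) :
    formOfGram σ G (x + x') y = formOfGram σ G x y + formOfGram σ G x' y := by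
  rw [formOfGram_eq_dot, formOfGram_eq_dot, formOfGram_eq_dot, add_dotProduct]

theorem formOfGram_smul_left (σ : F → F) (G : Matrix κ κ F) (c : F) (x y : κ → F) :
    formOfGram σ G (c • x) y = c * formOfGram σ G x y := by
  rw [formOfGram_eq_dot, formOfGram_eq_dot, smul_dotProduct, smul_eq_mul]

theorem formOfGram_add_right (σ : F →+* F) (G : Matrix κ κ F) (x y y' : κ → F) :
    formOfGram σ G x (y + y') = formOfGram σ G x y + formOfGram σ G x y' := by
  rw [formOfGram_eq_dot, formOfGram_eq_dot, formOfGram_eq_dot]
  have : (fun b => σ ((y + y') b)) = (fun b => σ (y b)) + (fun b => σ (y' b)) := by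
    funext b
    simp
  rw [this, Matrix.mulVec_add, dotProduct_add]

theorem formOfGram_smul_right (σ : F →+* F) (G : Matrix κ κ F) (c : F) (x y : κ → F) :
    formOfGram σ G x (c • y) = σ c * formOfGram σ G x y := by
  rw [formOfGram_eq_dot, formOfGram_eq_dot]
  have : (fun b => σ ((c • y) b)) = σ c • (fun b => σ (y b)) := by
    funext b
    simp
  rw [this, Matrix.mulVec_smul, dotProduct_smul, smul_eq_mul]

theorem map_mulVec (σ : F →+* F) (M : Matrix κ κ F) (v : κ → F) :
    (fun i => σ ((M *ᵥ v) i)) = M.map σ *ᵥ (fun i => σ (v i)) := by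
  funext i
  simp only [Matrix.mulVec, dotProduct, map_sum, map_mul, Matrix.map_apply]

/-- the action of a matrix on the form -/
theorem formOfGram_mulVec (σ : F →+* F) (G X : Matrix κ κ F) (u v : κ → F) :
    formOfGram σ G (X *ᵥ u) (X *ᵥ v) = formOfGram σ (Xᵀ * G * X.map σ) u v := by
  rw [formOfGram_eq_dot, formOfGram_eq_dot, map_mulVec, ← Matrix.mulVec_mulVec, ← Matrix.mulVec_mulVec,
    Matrix.dotProduct_mulVec u Xᵀ, Matrix.vecMul_transpose]

theorem formOfGram_fixes (σ : F →+* F) {G X : Matrix κ κ F} (h : Xᵀ * G * X.map σ = G) (u v : κ → F) :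
    formOfGram σ G (X *ᵥ u) (X *ᵥ v) = formOfGram σ G u v := by
  rw [formOfGram_mulVec, h]

theorem formOfGram_herm (σ : F →+* F) (hσ : ∀ a, σ (σ a) = a) {G : Matrix κ κ F} (hG : (G.map σ)ᵀ = G)
    (u v : κ → F) : formOfGram σ G u v = σ (formOfGram σ G v u) := by
  simp only [formOfGram, map_sum, map_mul, hσ]
  rw [Finset.sum_comm]
  apply Finset.sum_congr rfl
  intro a _
  apply Finset.sum_congr rfl
  intro b _
  have : σ (G a b) = G b a := by
    have := congrFun (congrFun hG b) a
    rw [Matrix.transpose_apply, Matrix.map_apply] at this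
    exact this
  rw [this]
  ring

theorem formOfGram_single (σ : F →+* F) (G : Matrix κ κ F) (a b : κ) :
    formOfGram σ G (Pi.single a 1) (Pi.single b 1) = G a b := by
  rw [formOfGram_eq_dot, single_dotProduct, one_mul]
  have : (fun c => σ ((Pi.single b 1 : κ → F) c)) = Pi.single b 1 := by
    funext c
    by_cases h : c = b
    · subst h; simp
    · simp [h]
  rw [this, Matrix.mulVec_single_one]
  rfl

theorem formOfGram_nondegenerate (σ : F →+* F) {G : Matrix κ κ F} (hG : IsUnit G.det) :
    IsNondegenerateForm (formOfGram σ G) := by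
  intro v hv
  constructor
  · have hw : G *ᵥ (fun b => σ (v b)) ≠ 0 := by
      intro h
      apply hv
      have h1 : G⁻¹ *ᵥ (G *ᵥ (fun b => σ (v b))) = 0 := by rw [h, Matrix.mulVec_zero]
      rw [Matrix.mulVec_mulVec, Matrix.nonsing_inv_mul G hG, Matrix.one_mulVec] at h1
      funext b
      have := congrFun h1 b
      simp only [Pi.zero_apply] at this
      exact (map_eq_zero σ).1 this
    obtain ⟨a, ha⟩ : ∃ a, (G *ᵥ (fun b => σ (v b))) a ≠ 0 := by
      by_contra hcon
      push Not at hcon
      exact hw (funext hcon)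
    refine ⟨Pi.single a 1, ?_⟩
    rw [formOfGram_eq_dot, single_dotProduct, one_mul]
    exact ha
  · have hw : v ᵥ* G ≠ 0 := by
      intro h
      apply hv
      have h1 : (v ᵥ* G) ᵥ* G⁻¹ = 0 := by rw [h, Matrix.zero_vecMul]
      rw [Matrix.vecMul_vecMul, Matrix.mul_nonsing_inv G hG, Matrix.vecMul_one] at h1
      exact h1
    obtain ⟨a, ha⟩ : ∃ a, (v ᵥ* G) a ≠ 0 := by
      by_contra hcon
      push Not at hcon
      exact hw (funext hcon)
    refine ⟨Pi.single a 1, ?_⟩
    rw [formOfGram_eq_dot]
    have : (fun c => σ ((Pi.single a 1 : κ → F) c)) = Pi.single a 1 := by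
      funext c
      by_cases h : c = a
      · subst h; simp
      · simp [h]
    rw [this, Matrix.dotProduct_mulVec, dotProduct_single, mul_one]
    exact ha

/-- an invertible Hermitian Gram matrix gives a unitary form -/
theorem isUnitaryForm_formOfGram (σ : F ≃+* F) (hne : σ ≠ RingEquiv.refl F) (hinv : ∀ a, σ (σ a) = a)
    {G : Matrix κ κ F} (hG : IsUnit G.det) (hH : (G.map σ)ᵀ = G) : IsUnitaryForm σ (formOfGram σ G) where
  ne_refl := hne
  involutive := hinv
  add_left := formOfGram_add_left _ G
  smul_left := formOfGram_smul_left _ G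
  herm := formOfGram_herm (σ : F →+* F) hinv hH
  nondegenerate := formOfGram_nondegenerate (σ : F →+* F) hG

theorem isBilinearForm_formOfGram (G : Matrix κ κ F) : IsBilinearForm (formOfGram id G) where
  add_left := formOfGram_add_left _ G
  smul_left := formOfGram_smul_left _ G
  add_right := formOfGram_add_right (RingHom.id F) G
  smul_right := fun c v x => formOfGram_smul_right (RingHom.id F) G c v x

theorem formOfGram_id_swap (G : Matrix κ κ F) (u v : κ → F) :
    formOfGram id G u v = formOfGram id Gᵀ v u := by
  simp only [formOfGram, id]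
  rw [Finset.sum_comm]
  apply Finset.sum_congr rfl
  intro a _
  apply Finset.sum_congr rfl
  intro b _
  rw [Matrix.transpose_apply]
  ring

theorem formOfGram_neg (σ : F → F) (G : Matrix κ κ F) (u v : κ → F) :
    formOfGram σ (-G) u v = - formOfGram σ G u v := by
  simp only [formOfGram, Matrix.neg_apply, mul_neg, neg_mul, Finset.sum_neg_distrib]

theorem formOfGram_smul (σ : F → F) (c : F) (G : Matrix κ κ F) (u v : κ → F) :
    formOfGram σ (c • G) u v = c * formOfGram σ G u v := by
  simp only [formOfGram, Matrix.smul_apply, smul_eq_mul, Finset.mul_sum]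
  apply Finset.sum_congr rfl
  intro a _
  apply Finset.sum_congr rfl
  intro b _
  ring

/-- an invertible skew-symmetric Gram matrix in odd characteristic gives a symplectic form -/
theorem isSymplecticForm_formOfGram (h2 : (2 : F) ≠ 0) {G : Matrix κ κ F} (hG : IsUnit G.det)
    (hA : Gᵀ = -G) : IsSymplecticForm (formOfGram id G) where
  bilinear := isBilinearForm_formOfGram G
  skew := fun v w => by rw [formOfGram_id_swap, hA, formOfGram_neg]
  alternating := fun v => by
    have h : formOfGram id G v v = - formOfGram id G v v := by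
      conv_lhs => rw [formOfGram_id_swap, hA, formOfGram_neg]
    have h3 : (2 : F) * formOfGram id G v v = 0 := by
      rw [two_mul]
      nth_rewrite 1 [h]
      rw [neg_add_cancel]
    rcases mul_eq_zero.1 h3 with h4 | h4
    · exact absurd h4 h2
    · exact h4
  nondegenerate := formOfGram_nondegenerate (RingHom.id F) hG

/-- an invertible symmetric Gram matrix gives a symmetric form -/
theorem isSymmetricForm_formOfGram {G : Matrix κ κ F} (hG : IsUnit G.det)
    (hS : Gᵀ = G) : IsSymmetricForm (formOfGram id G) where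
  bilinear := isBilinearForm_formOfGram G
  symm := fun v w => by rw [formOfGram_id_swap, hS]
  nondegenerate := formOfGram_nondegenerate (RingHom.id F) hG

/-- an invertible symmetric Gram matrix in odd characteristic gives a non-degenerate quadratic form -/
theorem isNondegenerateQuadraticForm_formOfGram (h2 : (2 : F) ≠ 0) {G : Matrix κ κ F} (hG : IsUnit G.det)
    (hS : Gᵀ = G) : IsNondegenerateQuadraticForm (fun v => formOfGram id G v v) := by
  have hb := isBilinearForm_formOfGram G
  have hsymm : ∀ v w, formOfGram id G v w = formOfGram id G w v := fun v w => by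
    rw [formOfGram_id_swap, hS]
  have hpolar : ∀ v w, QuadraticMap.polar (fun v => formOfGram id G v v) v w = 2 * formOfGram id G v w := by
    intro v w
    unfold QuadraticMap.polar
    show formOfGram id G (v + w) (v + w) - formOfGram id G v v - formOfGram id G w w = _
    rw [hb.add_left, hb.add_right, hb.add_right, hsymm w v]
    ring
  have hpolar' : QuadraticMap.polar (fun v => formOfGram id G v v) = fun v w => 2 * formOfGram id G v w := by
    funext v w
    exact hpolar v w
  refine ⟨fun c v => ?_, ?_, ?_⟩
  · show formOfGram id G (c • v) (c • v) = c ^ 2 * formOfGram id G v v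
    rw [hb.smul_left, hb.smul_right]
    ring
  · rw [hpolar']
    refine ⟨fun x y v => ?_, fun c x v => ?_, fun v x y => ?_, fun c v x => ?_⟩
    · rw [hb.add_left]; ring
    · rw [hb.smul_left]; ring
    · rw [hb.add_right]; ring
    · rw [hb.smul_right]; ring
  · rw [hpolar']
    intro v hv
    obtain ⟨⟨x, hx⟩, ⟨y, hy⟩⟩ := formOfGram_nondegenerate (RingHom.id F) hG v hv
    exact ⟨⟨x, mul_ne_zero h2 hx⟩, ⟨y, mul_ne_zero h2 hy⟩⟩

theorem two_ne_zero_of_odd_card [Fintype F] (hF : Odd (Fintype.card F)) : (2 : F) ≠ 0 := by
  intro h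
  have hchar : ringChar F = 2 := by
    have : ringChar F ∣ 2 := by
      rw [← ringChar.spec]
      exact_mod_cast h
    rcases (Nat.dvd_prime Nat.prime_two).mp this with h1 | h1
    · exact absurd h1 (CharP.ringChar_ne_one)
    · exact h1
  have := FiniteField.even_card_of_char_two hchar
  have := Nat.odd_iff.mp hF
  omega

end Cfsg.Agent.Helper5.GramForm
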