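import Mathlib
import Cfsg.Prelude.Def_Transfer
import Cfsg.Prelude.Def_LocalStructure
import Cfsg.Agent.Helper5.Basic
import Cfsg.Agent.Helper5.Cores
import Cfsg.Agent.Helper5.Misc
import Cfsg.Agent.Helper5.PResidual
import Cfsg.Agent.Helper4.PCore

/-!
Helper lemmas (helper5): `p`-closed groups, `p`-irreducible groups, `O^p`.
-/

set_option autoImplicit false

open scoped commutatorElement

namespace Cfsg.Agent.Helper5

variable {G : Type*} [Group G]

/-- A `p`-subgroup of a `p`-closed normal subgroup lies in `O_p`. -/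
theorem le_pCore_of_le_pClosed_normal [Finite G] {p : ℕ} [Fact p.Prime] (N : Subgroup G) [N.Normal]
    (hN : Cfsg.IsPClosed p ↥N) (Y : Subgroup G) (hY : IsPGroup p ↥Y) (hYN : Y ≤ N) :
    Y ≤ Cfsg.pCore p G := by
  have hY' : IsPGroup p ↥(Y.subgroupOf N) := hY.comap_subtype
  obtain ⟨P, hP⟩ := hY'.exists_le_sylow
  have : (P : Subgroup N).Normal := hN P
  have : (P : Subgroup N).Characteristic := Sylow.characteristic_of_normal P inferInstance
  have hPn : ((P : Subgroup N).map N.subtype).Normal := ConjAct.normal_of_characteristic_of_normal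
  have hPp : IsPGroup p ↥((P : Subgroup N).map N.subtype) := P.2.map _
  refine le_trans ?_ (le_pCore hPn hPp)
  intro y hy
  exact ⟨⟨y, hYN hy⟩, hP (Subgroup.mem_subgroupOf.mpr hy), rfl⟩

/-- If some Sylow `p`-subgroup lies in `O_p(G)`, then `G` is `p`-closed. -/
theorem isPClosed_of_sylow_le_pCore [Finite G] {p : ℕ} [Fact p.Prime] (T : Sylow p G)
    (hT : (T : Subgroup G) ≤ Cfsg.pCore p G) : Cfsg.IsPClosed p G := by
  intro P
  have h1 : Cfsg.pCore p G ≤ P := pCore_le_sylow P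
  have h2 : (P : Subgroup G) = T := T.is_maximal' P.2 (hT.trans h1)
  have h3 : (P : Subgroup G) = Cfsg.pCore p G := le_antisymm (h2 ▸ hT) h1
  rw [h3]
  exact Cfsg.Agent.Helper4.pCore_normal

/-- A `p`-closed group has all its `p`-subgroups in `O_p`. -/
theorem le_pCore_of_isPClosed [Finite G] {p : ℕ} [Fact p.Prime] (hG : Cfsg.IsPClosed p G)
    (Y : Subgroup G) (hY : IsPGroup p ↥Y) : Y ≤ Cfsg.pCore p G := by
  obtain ⟨P, hP⟩ := hY.exists_le_sylow
  exact hP.trans (le_pCore (hG P) P.2)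

/-- If the image of `O^p(G)` under `f` lies in a `p`-group, then `O^p(G) ≤ ker f`. -/
theorem pResidual_le_ker {G' : Type*} [Group G'] [Finite G] {p : ℕ} [Fact p.Prime] (f : G →* G')
    (Y' : Subgroup G') (hY' : IsPGroup p ↥Y') (h : (Cfsg.pResidual p G).map f ≤ Y') :
    Cfsg.pResidual p G ≤ f.ker := by
  unfold Cfsg.pResidual
  rw [Subgroup.closure_le]
  intro g hg
  have hg' : Nat.Coprime (orderOf g) p := hg
  have h1 : f g ∈ Y' := h (Subgroup.mem_map_of_mem f (mem_pResidual_of_coprime hg'))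
  obtain ⟨k, hk⟩ := hY' ⟨f g, h1⟩
  have hk' : (f g) ^ p ^ k = 1 := by
    have := congrArg Subtype.val hk
    simpa using this
  have h2 : (f g) ^ orderOf g = 1 := by rw [← map_pow, pow_orderOf_eq_one, map_one]
  have h3 : (f g) ^ Nat.gcd (orderOf g) (p ^ k) = 1 := pow_gcd_eq_one.mpr ⟨h2, hk'⟩
  rw [Nat.Coprime.pow_right k hg', pow_one] at h3
  exact h3

/-- If `O^p(G) ≤ K Y` with `K` normal and `Y` a `p`-group, then `O^p(G) ≤ K`. -/
theorem pResidual_le_of_le_sup [Finite G] {p : ℕ} [Fact p.Prime] (K : Subgroup G) [K.Normal]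
    (Y : Subgroup G) (hY : IsPGroup p ↥Y) (h : Cfsg.pResidual p G ≤ K ⊔ Y) :
    Cfsg.pResidual p G ≤ K := by
  have h1 := pResidual_le_ker (QuotientGroup.mk' K) (Y.map (QuotientGroup.mk' K)) (hY.map _) (by
    refine (Subgroup.map_mono h).trans ?_
    rw [Subgroup.map_sup]
    apply sup_le
    · rw [Subgroup.map_le_iff_le_comap]
      intro x hx
      rw [Subgroup.mem_comap]
      have : (QuotientGroup.mk' K) x = 1 := by
        rw [QuotientGroup.mk'_apply, QuotientGroup.eq_one_iff]; exact hx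
      rw [this]; exact Subgroup.one_mem _
    · exact le_rfl)
  rwa [QuotientGroup.ker_mk'] at h1

/-- `[A, B]` is normalized by `A`. -/
theorem conj_mem_commutator_left (A B : Subgroup G) (r : G) (hr : r ∈ A) (k : G) (hk : k ∈ ⁅A, B⁆) :
    r * k * r⁻¹ ∈ ⁅A, B⁆ := by
  have h : ⁅A, B⁆ ≤ (⁅A, B⁆).comap (MulAut.conj r).toMonoidHom := by
    rw [Subgroup.commutator_le]
    intro a ha b hb
    rw [Subgroup.mem_comap]
    have h1 : (MulAut.conj r).toMonoidHom ⁅a, b⁆ = ⁅r * a, b⁆ * ⁅r, b⁆⁻¹ := by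
      simp only [MulEquiv.coe_toMonoidHom, MulAut.conj_apply, commutatorElement_def]
      group
    rw [h1]
    exact mul_mem (Subgroup.commutator_mem_commutator (mul_mem hr ha) hb)
      (inv_mem (Subgroup.commutator_mem_commutator hr hb))
  simpa using h hk

/-- A subgroup normalized by two subgroups generating `G` is normal. -/
theorem normal_of_sup_eq_top [Finite G] (X A B : Subgroup G) (hAB : A ⊔ B = ⊤)
    (hA : ∀ a ∈ A, ∀ x ∈ X, a * x * a⁻¹ ∈ X) (hB : ∀ b ∈ B, ∀ x ∈ X, b * x * b⁻¹ ∈ X) : X.Normal := by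
  rw [← Subgroup.normalizer_eq_top_iff, eq_top_iff, ← hAB]
  exact sup_le (le_normalizer_of_conj_mem X A hA) (le_normalizer_of_conj_mem X B hB)

end Cfsg.Agent.Helper5
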