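import Mathlib
import Cfsg.Prelude.Def_Transfer
import Cfsg.Prelude.Def_LocalStructure
import Cfsg.Agent.Helper5.PIrreducible

/-!
Helper lemmas (helper5): `p`-closed subgroups and quotients by normal `p`-subgroups.
-/

set_option autoImplicit false

namespace Cfsg.Agent.Helper5

variable {G : Type*} [Group G]

/-- Intrinsic form of "`N` is `p`-closed" for a subgroup `N` of `G`. -/
def PClosedSub (p : ℕ) (N : Subgroup G) : Prop :=
  ∃ P : Subgroup G, P ≤ N ∧ IsPGroup p ↥P ∧ N ≤ Subgroup.normalizer (P : Set G) ∧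
    ∀ Y : Subgroup G, Y ≤ N → IsPGroup p ↥Y → Y ≤ P

theorem isPClosed_mulEquiv {A B : Type*} [Group A] [Group B] {p : ℕ} [Fact p.Prime] (e : A ≃* B)
    (hA : Cfsg.IsPClosed p A) : Cfsg.IsPClosed p B := by
  intro P
  have hr : (P : Subgroup B) ≤ e.toMonoidHom.range := by
    intro x _; exact ⟨e.symm x, by simp⟩
  have h1 : ((P : Subgroup B).comap e.toMonoidHom).Normal :=
    hA (P.comapOfInjective e.toMonoidHom e.injective hr)
  have h2 := h1.map e.toMonoidHom e.surjective
  rwa [Subgroup.map_comap_eq_self_of_surjective e.surjective] at h2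

theorem pClosedSub_of_isPClosed [Finite G] {p : ℕ} [Fact p.Prime] (N : Subgroup G)
    (h : Cfsg.IsPClosed p ↥N) : PClosedSub p N := by
  refine ⟨(Cfsg.pCore p ↥N).map N.subtype, ?_, (isPGroup_pCore p).map _, ?_, ?_⟩
  · rintro _ ⟨y, -, rfl⟩; exact y.2
  · have hn : (Cfsg.pCore p ↥N).Normal := Cfsg.Agent.Helper4.pCore_normal
    have h1 := Subgroup.le_normalizer_map (H := Cfsg.pCore p ↥N) N.subtype
    rw [Subgroup.normalizer_eq_top, ← MonoidHom.range_eq_map, Subgroup.range_subtype] at h1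
    exact h1
  · intro Y hYN hYp
    have h1 := le_pCore_of_isPClosed h (Y.subgroupOf N) hYp.comap_subtype
    intro y hy
    exact ⟨⟨y, hYN hy⟩, h1 (Subgroup.mem_subgroupOf.mpr hy), rfl⟩

theorem isPClosed_of_pClosedSub [Finite G] {p : ℕ} [Fact p.Prime] (N : Subgroup G)
    (h : PClosedSub p N) : Cfsg.IsPClosed p ↥N := by
  obtain ⟨P, hPN, hPp, hNP, hmax⟩ := h
  intro Q
  have h1 : (Q : Subgroup N).map N.subtype ≤ P := by
    apply hmax _ _ (Q.2.map _)
    rintro _ ⟨y, -, rfl⟩; exact y.2
  have h2 : (Q : Subgroup N) ≤ P.subgroupOf N := by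
    intro y hy
    rw [Subgroup.mem_subgroupOf]
    exact h1 ⟨y, hy, rfl⟩
  have h3 : P.subgroupOf N = Q := Q.is_maximal' hPp.comap_subtype h2
  rw [← h3]
  exact (Subgroup.normal_subgroupOf_iff_le_normalizer hPN).mpr hNP

theorem isPClosed_iff_pClosedSub [Finite G] {p : ℕ} [Fact p.Prime] (N : Subgroup G) :
    Cfsg.IsPClosed p ↥N ↔ PClosedSub p N :=
  ⟨pClosedSub_of_isPClosed N, isPClosed_of_pClosedSub N⟩

theorem isPClosed_iff_pClosedSub_top [Finite G] {p : ℕ} [Fact p.Prime] :
    Cfsg.IsPClosed p G ↔ PClosedSub p (⊤ : Subgroup G) := by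
  rw [← isPClosed_iff_pClosedSub]
  exact ⟨isPClosed_mulEquiv Subgroup.topEquiv.symm, isPClosed_mulEquiv Subgroup.topEquiv⟩

variable {G' : Type*} [Group G']

/-- Image of a `p`-closed subgroup containing the `p`-group kernel is `p`-closed. -/
theorem PClosedSub.map {p : ℕ} [Fact p.Prime] (f : G →* G') (hf : Function.Surjective f)
    (hker : IsPGroup p ↥f.ker) (N : Subgroup G) (hDN : f.ker ≤ N) (h : PClosedSub p N) :
    PClosedSub p (N.map f) := by
  obtain ⟨P, hPN, hPp, hNP, hmax⟩ := h
  refine ⟨P.map f, Subgroup.map_mono hPN, hPp.map _, ?_, ?_⟩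
  · exact (Subgroup.map_mono hNP).trans (Subgroup.le_normalizer_map f)
  · intro Y hY hYp
    have h1 : IsPGroup p ↥(Y.comap f) := hYp.comap_of_ker_isPGroup f hker
    have h2 : Y.comap f ≤ N := by
      refine (Subgroup.comap_mono hY).trans ?_
      rw [Subgroup.comap_map_eq]
      exact sup_le le_rfl hDN
    have h3 := hmax _ h2 h1
    rw [← Subgroup.map_comap_eq_self_of_surjective hf Y]
    exact Subgroup.map_mono h3

/-- If the image of `N` under a map with `p`-group kernel is `p`-closed, so is `N`. -/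
theorem PClosedSub.of_map {p : ℕ} [Fact p.Prime] (f : G →* G')
    (hker : IsPGroup p ↥f.ker) (N : Subgroup G) (h : PClosedSub p (N.map f)) :
    PClosedSub p N := by
  obtain ⟨P, hPN, hPp, hNP, hmax⟩ := h
  refine ⟨P.comap f ⊓ N, inf_le_right, (hPp.comap_of_ker_isPGroup f hker).to_le inf_le_left, ?_, ?_⟩
  · intro n hn
    have h1 : n ∈ Subgroup.normalizer ((P.comap f : Subgroup G) : Set G) := by
      apply Subgroup.le_normalizer_comap f
      rw [Subgroup.mem_comap]
      exact hNP (Subgroup.mem_map_of_mem f hn)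
    rw [Subgroup.mem_normalizer_iff] at h1 ⊢
    intro x
    rw [Subgroup.mem_inf, Subgroup.mem_inf, ← h1 x]
    constructor
    · rintro ⟨hx1, hx2⟩
      exact ⟨hx1, N.mul_mem (N.mul_mem hn hx2) (N.inv_mem hn)⟩
    · rintro ⟨hx1, hx2⟩
      refine ⟨hx1, ?_⟩
      have : x = n⁻¹ * (n * x * n⁻¹) * n := by group
      rw [this]
      exact N.mul_mem (N.mul_mem (N.inv_mem hn) hx2) hn
  · intro Y hYN hYp
    refine le_inf ?_ hYN
    rw [← Subgroup.map_le_iff_le_comap]
    exact hmax _ (Subgroup.map_mono hYN) (hYp.map _)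

/-- `p`-closedness passes to and from the quotient by a normal `p`-subgroup. -/
theorem isPClosed_quotient_iff [Finite G] {p : ℕ} [Fact p.Prime] (D : Subgroup G) [D.Normal]
    (hD : IsPGroup p ↥D) : Cfsg.IsPClosed p G ↔ Cfsg.IsPClosed p (G ⧸ D) := by
  have hker : IsPGroup p ↥(QuotientGroup.mk' D).ker := by rw [QuotientGroup.ker_mk']; exact hD
  have hsurj := QuotientGroup.mk'_surjective D
  rw [isPClosed_iff_pClosedSub_top, isPClosed_iff_pClosedSub_top]
  have htop : (⊤ : Subgroup G).map (QuotientGroup.mk' D) = ⊤ := by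
    rw [← MonoidHom.range_eq_map, MonoidHom.range_eq_top]; exact hsurj
  constructor
  · intro h
    have := PClosedSub.map (QuotientGroup.mk' D) hsurj hker ⊤ le_top h
    rwa [htop] at this
  · intro h
    rw [← htop] at h
    exact PClosedSub.of_map (QuotientGroup.mk' D) hker ⊤ h

/-- `O^p(G/D)` is the image of `O^p(G)`. -/
theorem pResidual_quotient [Finite G] {p : ℕ} [Fact p.Prime] (D : Subgroup G) [D.Normal] :
    Cfsg.pResidual p (G ⧸ D) = (Cfsg.pResidual p G).map (QuotientGroup.mk' D) := by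
  have hsurj := QuotientGroup.mk'_surjective D
  apply le_antisymm
  · have hc : (Cfsg.pResidual p G).Characteristic := pResidual_characteristic (G := G) p
    have hn : (Cfsg.pResidual p G).Normal := inferInstance
    have hRn : ((Cfsg.pResidual p G).map (QuotientGroup.mk' D)).Normal := hn.map _ hsurj
    set Rb := (Cfsg.pResidual p G).map (QuotientGroup.mk' D) with hRb
    have hq : IsPGroup p ↥(⊤ : Subgroup ((G ⧸ D) ⧸ Rb)) := by
      rintro ⟨x, -⟩
      obtain ⟨y, rfl⟩ := QuotientGroup.mk'_surjective Rb x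
      obtain ⟨g, rfl⟩ := hsurj y
      obtain ⟨k, hk⟩ := isPGroup_quotient_pResidual (G := G) p (QuotientGroup.mk g)
      refine ⟨k, ?_⟩
      rw [← QuotientGroup.mk_pow, QuotientGroup.eq_one_iff] at hk
      apply Subtype.ext
      simp only [Subgroup.coe_pow, Subgroup.coe_one]
      rw [← map_pow, ← map_pow, QuotientGroup.mk'_apply (N := Rb), QuotientGroup.eq_one_iff]
      exact Subgroup.mem_map_of_mem _ hk
    have := pResidual_le_ker (QuotientGroup.mk' Rb) ⊤ hq le_top
    rwa [QuotientGroup.ker_mk'] at this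
  · rw [Subgroup.map_le_iff_le_comap]
    unfold Cfsg.pResidual
    rw [Subgroup.closure_le]
    intro g hg
    have hg' : Nat.Coprime (orderOf g) p := hg
    rw [SetLike.mem_coe, Subgroup.mem_comap]
    apply Subgroup.subset_closure
    show Nat.Coprime (orderOf ((QuotientGroup.mk' D) g)) p
    exact Nat.Coprime.coprime_dvd_left (orderOf_map_dvd _ g) hg'

/-- The preimage of `O_p(G/D)` is `O_p(G)`, for a normal `p`-subgroup `D`. -/
theorem comap_pCore_quotient [Finite G] {p : ℕ} [Fact p.Prime] (D : Subgroup G) [D.Normal]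
    (hD : IsPGroup p ↥D) :
    (Cfsg.pCore p (G ⧸ D)).comap (QuotientGroup.mk' D) = Cfsg.pCore p G := by
  have hker : IsPGroup p ↥(QuotientGroup.mk' D).ker := by rw [QuotientGroup.ker_mk']; exact hD
  have hsurj := QuotientGroup.mk'_surjective D
  apply le_antisymm
  · apply le_pCore
    · exact (Cfsg.Agent.Helper4.pCore_normal).comap _
    · exact (isPGroup_pCore p).comap_of_ker_isPGroup _ hker
  · rw [← Subgroup.map_le_iff_le_comap]
    apply le_pCore
    · exact (Cfsg.Agent.Helper4.pCore_normal).map _ hsurj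
    · exact (isPGroup_pCore p).map _

end Cfsg.Agent.Helper5
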