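import Mathlib
import Cfsg.Agent.Helper5.Basic
import Cfsg.Agent.Helper5.Misc

/-!
Helper lemmas (helper5): auxiliary facts used for large subgroups.
-/

set_option autoImplicit false

namespace Cfsg.Agent.Helper5

variable {G : Type*} [Group G]

/-- The normalizer of `Y` normalizes the centralizer of `Y`. -/
theorem conj_mem_centralizer_of_mem_normalizer (Y : Subgroup G) (n : G)
    (hn : n ∈ Subgroup.normalizer (Y : Set G)) (c : G) (hc : c ∈ Subgroup.centralizer (Y : Set G)) :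
    n * c * n⁻¹ ∈ Subgroup.centralizer (Y : Set G) := by
  have hn' := Subgroup.mem_normalizer_iff.mp hn
  rw [Subgroup.mem_centralizer_iff]
  intro t ht
  have ht' : n⁻¹ * t * n ∈ Y := by
    rw [hn' (n⁻¹ * t * n)]
    have : n * (n⁻¹ * t * n) * n⁻¹ = t := by group
    rw [this]; exact ht
  have hy2 := (Subgroup.mem_centralizer_iff.mp hc) _ ht'
  calc t * (n * c * n⁻¹) = n * ((n⁻¹ * t * n) * c) * n⁻¹ := by group
    _ = n * (c * (n⁻¹ * t * n)) * n⁻¹ := by rw [hy2]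
    _ = n * c * n⁻¹ * t := by group

/-- A join of `p`-subgroups of `C`, each normalized by `C`, is a `p`-group. -/
theorem iSup_isPGroup_of_le_normalizer [Finite G] {p : ℕ} [Fact p.Prime] {ι : Type*} (C : Subgroup G)
    (F : ι → Subgroup G) (hFC : ∀ i, F i ≤ C) (hn : ∀ i, C ≤ Subgroup.normalizer (F i : Set G))
    (hp : ∀ i, IsPGroup p ↥(F i)) : IsPGroup p ↥(⨆ i, F i) := by
  have h1 : ∀ i, ((F i).subgroupOf C).Normal := fun i =>
    (Subgroup.normal_subgroupOf_iff_le_normalizer (hFC i)).mpr (hn i)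
  have h2 : IsPGroup p ↥(⨆ i, (F i).subgroupOf C) :=
    Sylow.iSup_of_normal _ (fun i => (hp i).comap_subtype)
  have h3 : (⨆ i, (F i).subgroupOf C).map C.subtype = ⨆ i, F i := by
    rw [Subgroup.map_iSup]
    congr 1; funext i
    exact Subgroup.map_subgroupOf_eq_of_le (hFC i)
  rw [← h3]; exact h2.map _

/-- The subgroup of elements normalizing `R` and commuting with `C` modulo `R`. -/
def commGuard (C R : Subgroup G) : Subgroup G where
  carrier := {x | x ∈ Subgroup.normalizer (R : Set G) ∧ ∀ c ∈ C, x * c * x⁻¹ * c⁻¹ ∈ R}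
  one_mem' := ⟨Subgroup.one_mem _, fun c _ => by simp⟩
  mul_mem' := by
    rintro x y ⟨hx1, hx2⟩ ⟨hy1, hy2⟩
    refine ⟨Subgroup.mul_mem _ hx1 hy1, fun c hc => ?_⟩
    have h1 : x * (y * c * y⁻¹ * c⁻¹) * x⁻¹ ∈ R :=
      (Subgroup.mem_normalizer_iff.mp hx1 _).mp (hy2 c hc)
    have : x * y * c * (x * y)⁻¹ * c⁻¹ = (x * (y * c * y⁻¹ * c⁻¹) * x⁻¹) * (x * c * x⁻¹ * c⁻¹) := by group
    rw [this]
    exact R.mul_mem h1 (hx2 c hc)
  inv_mem' := by
    rintro x ⟨hx1, hx2⟩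
    refine ⟨Subgroup.inv_mem _ hx1, fun c hc => ?_⟩
    have h1 : x⁻¹ * (x * c * x⁻¹ * c⁻¹)⁻¹ * x⁻¹⁻¹ ∈ R :=
      (Subgroup.mem_normalizer_iff.mp (Subgroup.inv_mem _ hx1) _).mp (R.inv_mem (hx2 c hc))
    have : x⁻¹ * c * x⁻¹⁻¹ * c⁻¹ = x⁻¹ * (x * c * x⁻¹ * c⁻¹)⁻¹ * x⁻¹⁻¹ := by group
    rw [this]
    exact h1

theorem mem_commGuard (C R : Subgroup G) (x : G) :
    x ∈ commGuard C R ↔ x ∈ Subgroup.normalizer (R : Set G) ∧ ∀ c ∈ C, x * c * x⁻¹ * c⁻¹ ∈ R := Iff.rfl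

end Cfsg.Agent.Helper5
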