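import Mathlib
import Cfsg.Agent.Helper5.PReduced

/-!
Helper lemmas (helper5): normal closures of `p`-reduced normal subgroups of parabolic subgroups are `p`-reduced.
-/

set_option autoImplicit false

namespace Cfsg.Agent.Helper5

variable {L : Type*} [Group L]

theorem isMulCommutative_inf_centralizer (Q : Subgroup L) :
    IsMulCommutative ↥(Q ⊓ Subgroup.centralizer (Q : Set L)) := by
  apply IsMulCommutative.of_setLike_mul_comm
  intro a ha b hb
  exact ((Subgroup.mem_centralizer_iff.mp hb.2) a ha.1)

/-- The normal closure of a subgroup of exponent `p` inside an abelian normal subgroup is elementary abelian. -/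
theorem isElementaryAbelian_normalClosure {p : ℕ} (Z : Subgroup L) [Z.Normal] [IsMulCommutative ↥Z]
    (X : Subgroup L) (hXZ : X ≤ Z) (hexp : ∀ x ∈ X, x ^ p = 1) :
    Cfsg.IsElementaryAbelian p (Subgroup.normalClosure (X : Set L)) := by
  have hVZ : Subgroup.normalClosure (X : Set L) ≤ Z := Subgroup.normalClosure_le_normal hXZ
  have hc : IsMulCommutative ↥(Subgroup.normalClosure (X : Set L)) := isMulCommutative_of_le hVZ
  refine ⟨hc, ?_⟩
  intro v hv
  unfold Subgroup.normalClosure at hv
  induction hv using Subgroup.closure_induction with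
  | mem y hy =>
    obtain ⟨x, hx, hxy⟩ := Group.mem_conjugatesOfSet_iff.mp hy
    obtain ⟨c, rfl⟩ := isConj_iff.mp hxy
    rw [conj_pow, hexp x hx, mul_one, mul_inv_cancel]
  | one => exact one_pow _
  | mul a b ha hb iha ihb =>
    have hab : Commute a b := setLike_mul_comm (hVZ ha) (hVZ hb)
    rw [hab.mul_pow, iha, ihb, one_mul]
  | inv a _ iha => rw [inv_pow, iha, inv_one]

theorem pRed_normalClosure [Finite L] {p : ℕ} [Fact p.Prime]
    (hchar : Subgroup.centralizer (Cfsg.pCore p L : Set L) ≤ Cfsg.pCore p L) (T : Sylow p L)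
    (R : Subgroup L) (hTR : (T : Subgroup L) ≤ R) (X : Subgroup ↥R) (hX : PRed p X) :
    PRed p (Subgroup.normalClosure ((X.map R.subtype : Subgroup L) : Set L)) := by
  have hQR : Cfsg.pCore p L ≤ R := (pCore_le_sylow T).trans hTR
  have hQ' : (Cfsg.pCore p L).subgroupOf R ≤ Cfsg.pCore p ↥R :=
    le_pCore inferInstance ((isPGroup_pCore p).comap_subtype)
  have hXcen : (Cfsg.pCore p L).subgroupOf R ≤ Subgroup.centralizer (X : Set ↥R) :=
    hQ'.trans hX.pCore_le_centralizer
  have hX'C : X.map R.subtype ≤ Subgroup.centralizer (Cfsg.pCore p L : Set L) := by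
    rintro _ ⟨x, hx, rfl⟩
    rw [Subgroup.mem_centralizer_iff]
    intro q hq
    have hq' : (⟨q, hQR hq⟩ : ↥R) ∈ (Cfsg.pCore p L).subgroupOf R := by
      rw [Subgroup.mem_subgroupOf]; exact hq
    have := (Subgroup.mem_centralizer_iff.mp (hXcen hq')) x hx
    exact (congrArg Subtype.val this).symm
  have hX'Z : X.map R.subtype ≤
      Cfsg.pCore p L ⊓ Subgroup.centralizer (Cfsg.pCore p L : Set L) :=
    le_inf (hX'C.trans hchar) hX'C
  have hexp : ∀ x ∈ X.map R.subtype, x ^ p = 1 := by
    rintro _ ⟨x, hx, rfl⟩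
    rw [← map_pow, hX.2.1.2 x hx, map_one]
  have := isMulCommutative_inf_centralizer (Cfsg.pCore p L)
  have hel := isElementaryAbelian_normalClosure (p := p)
    (Cfsg.pCore p L ⊓ Subgroup.centralizer (Cfsg.pCore p L : Set L)) (X.map R.subtype) hX'Z hexp
  refine ⟨inferInstance, hel, fun D hD hcond => ?_⟩
  have := hD
  have h1 : D ≤ Subgroup.centralizer ((X.map R.subtype : Subgroup L) : Set L) := by
    apply le_of_sylow_inf_le D _ ?_ T ?_
    · intro d hd
      obtain ⟨k, hk⟩ := hcond d hd
      exact ⟨k, Subgroup.centralizer_le Subgroup.subset_normalClosure hk⟩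
    · have hDR : D.subgroupOf R ≤ Subgroup.centralizer (X : Set ↥R) := by
        apply hX.2.2 _ inferInstance
        intro d hd
        obtain ⟨k, hk⟩ := hcond (d : L) hd
        refine ⟨k, ?_⟩
        rw [Subgroup.mem_centralizer_iff]
        intro x hx
        have hxV : (x : L) ∈ Subgroup.normalClosure ((X.map R.subtype : Subgroup L) : Set L) :=
          Subgroup.subset_normalClosure ⟨x, hx, rfl⟩
        have := (Subgroup.mem_centralizer_iff.mp hk) (x : L) hxV
        apply Subtype.ext
        simpa using this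
      intro y hy
      have hyD : (⟨y, hTR hy.1⟩ : ↥R) ∈ D.subgroupOf R := by
        rw [Subgroup.mem_subgroupOf]; exact hy.2
      have h2 := hDR hyD
      rw [Subgroup.mem_centralizer_iff]
      rintro _ ⟨x, hx, rfl⟩
      have := (Subgroup.mem_centralizer_iff.mp h2) x hx
      exact congrArg Subtype.val this
  rw [Subgroup.le_centralizer_iff]
  apply Subgroup.normalClosure_le_normal
  exact Subgroup.le_centralizer_iff.mp h1

end Cfsg.Agent.Helper5
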