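import Mathlib
import Cfsg.Agent.Helper5.PReduced2
import Cfsg.Agent.Helper5.LargeSub

/-!
Helper lemmas (helper5): structure of a group of characteristic `p` relative to its largest `p`-reduced normal
subgroup `Y`: `L = N_L(C_T(Y)) C_L(Y)`, `C_T(Y) = O_p(N_L(C_T(Y)))`, `Y = Ω₁(Z(C_T(Y)))`.
-/

set_option autoImplicit false

namespace Cfsg.Agent.Helper5

variable {L : Type*} [Group L]

theorem mul_pow_mem_of_normal (C : Subgroup L) [C.Normal] (a c : L) (hc : c ∈ C) (n : ℕ)
    (ha : a ^ n ∈ C) : (a * c) ^ n ∈ C := by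
  rw [← QuotientGroup.eq_one_iff] at ha hc ⊢
  rw [QuotientGroup.mk_pow, QuotientGroup.mk_mul, hc, mul_one, ← QuotientGroup.mk_pow]
  exact ha

theorem isElementaryAbelian_omegaOne {p : ℕ} (A : Subgroup L) [IsMulCommutative ↥A] :
    Cfsg.IsElementaryAbelian p (Cfsg.omegaOne p A) := by
  have hle : Cfsg.omegaOne p A ≤ A := by
    unfold Cfsg.omegaOne
    rw [Subgroup.closure_le]
    intro x hx; exact hx.1
  refine ⟨isMulCommutative_of_le hle, ?_⟩
  intro v hv
  unfold Cfsg.omegaOne at hv
  induction hv using Subgroup.closure_induction with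
  | mem y hy => exact hy.2
  | one => exact one_pow _
  | mul a b ha hb iha ihb =>
    have ha' : a ∈ Cfsg.omegaOne p A := ha
    have hb' : b ∈ Cfsg.omegaOne p A := hb
    have hab : Commute a b := setLike_mul_comm (hle ha') (hle hb')
    rw [hab.mul_pow, iha, ihb, one_mul]
  | inv a _ iha => rw [inv_pow, iha, inv_one]

theorem isElementaryAbelian_subgroupOf {p : ℕ} {W : Subgroup L} (R : Subgroup L)
    (hW : Cfsg.IsElementaryAbelian p W) : Cfsg.IsElementaryAbelian p (W.subgroupOf R) := by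
  obtain ⟨hc, he⟩ := hW
  refine ⟨?_, ?_⟩
  · apply IsMulCommutative.of_setLike_mul_comm
    intro a ha b hb
    rw [Subgroup.mem_subgroupOf] at ha hb
    apply Subtype.ext
    rw [Subgroup.coe_mul, Subgroup.coe_mul]
    exact setLike_mul_comm ha hb
  · intro a ha
    rw [Subgroup.mem_subgroupOf] at ha
    apply Subtype.ext
    rw [Subgroup.coe_pow, Subgroup.coe_one]
    exact he _ ha

/-- The normalizer of `A` normalizes `Ω₁(Z(A))`. -/
theorem normalizer_le_normalizer_omegaOne_center [Finite L] (p : ℕ) (A : Subgroup L) :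
    Subgroup.normalizer (A : Set L) ≤
      Subgroup.normalizer ((Cfsg.omegaOne p (A ⊓ Subgroup.centralizer (A : Set L)) : Subgroup L) : Set L) := by
  apply le_normalizer_of_conj_mem
  intro r hr x hx
  have hmap : (Cfsg.omegaOne p (A ⊓ Subgroup.centralizer (A : Set L))).map (MulAut.conj r).toMonoidHom ≤
      Cfsg.omegaOne p (A ⊓ Subgroup.centralizer (A : Set L)) := by
    unfold Cfsg.omegaOne
    rw [MonoidHom.map_closure]
    apply Subgroup.closure_mono
    rintro _ ⟨y, ⟨hy1, hy2⟩, rfl⟩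
    refine ⟨⟨?_, ?_⟩, ?_⟩
    · exact (Subgroup.mem_normalizer_iff.mp hr y).mp hy1.1
    · exact conj_mem_centralizer_of_mem_normalizer A r hr y hy1.2
    · simp only [MulEquiv.coe_toMonoidHom, MulAut.conj_apply]
      rw [conj_pow, hy2, mul_one, mul_inv_cancel]
  exact (map_conj_le_iff _ _ _).mp hmap x hx

theorem pRed_structure [Finite L] {p : ℕ} [Fact p.Prime]
    (hchar : Subgroup.centralizer (Cfsg.pCore p L : Set L) ≤ Cfsg.pCore p L) (T : Sylow p L)
    (Y : Subgroup L) (hY : PRed p Y) (hmax : ∀ V : Subgroup L, PRed p V → V ≤ Y) :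
    (∀ g : L, ∃ a ∈ Subgroup.normalizer (((T : Subgroup L) ⊓ Subgroup.centralizer (Y : Set L) : Subgroup L) : Set L),
      ∃ c ∈ Subgroup.centralizer (Y : Set L), g = a * c) ∧
    (Cfsg.pCore p ↥(Subgroup.normalizer (((T : Subgroup L) ⊓ Subgroup.centralizer (Y : Set L) : Subgroup L) : Set L))).map
      (Subgroup.normalizer (((T : Subgroup L) ⊓ Subgroup.centralizer (Y : Set L) : Subgroup L) : Set L)).subtype =
        (T : Subgroup L) ⊓ Subgroup.centralizer (Y : Set L) ∧
    Y = Cfsg.omegaOne p (((T : Subgroup L) ⊓ Subgroup.centralizer (Y : Set L)) ⊓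
      Subgroup.centralizer ((((T : Subgroup L) ⊓ Subgroup.centralizer (Y : Set L) : Subgroup L)) : Set L)) := by
  classical
  set C := Subgroup.centralizer (Y : Set L) with hC
  have hYn : Y.Normal := hY.1
  have hCn : C.Normal := Subgroup.normal_centralizer
  set TL := (T : Subgroup L) ⊓ C with hTL
  obtain ⟨Q, hQ⟩ := Cfsg.Agent.Helper1.sylow_inf_subnormal p C (Subgroup.Normal.isSubnormal hCn) T
  have hQmap : (Q : Subgroup ↥C).map C.subtype = TL := by
    rw [hQ, Subgroup.subgroupOf_map_subtype]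
  have hfr : Subgroup.normalizer (TL : Set L) ⊔ C = ⊤ := by
    have := Sylow.normalizer_sup_eq_top Q
    rwa [hQmap] at this
  have h_i : ∀ g : L, ∃ a ∈ Subgroup.normalizer (TL : Set L), ∃ c ∈ C, g = a * c := by
    intro g
    have hg : g ∈ Subgroup.normalizer (TL : Set L) ⊔ C := by rw [hfr]; exact Subgroup.mem_top g
    obtain ⟨a, ha, c, hc, rfl⟩ := Subgroup.mem_sup_of_normal_right.mp hg
    exact ⟨a, ha, c, hc, rfl⟩
  set R := Subgroup.normalizer (TL : Set L) with hR
  have hTR : (T : Subgroup L) ≤ R := by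
    apply le_normalizer_of_conj_mem
    intro t ht x hx
    exact ⟨(T : Subgroup L).mul_mem ((T : Subgroup L).mul_mem ht hx.1) ((T : Subgroup L).inv_mem ht),
      hCn.conj_mem x hx.2 t⟩
  have hTLR : TL ≤ R := Subgroup.le_normalizer
  have hTLp : IsPGroup p ↥TL := T.2.to_le inf_le_left
  have hYC : Y ≤ C := by
    have hc : IsMulCommutative ↥Y := hY.2.1.1
    intro y hy
    rw [Subgroup.mem_centralizer_iff]
    intro h hh
    exact setLike_mul_comm hh hy
  have hYTL : Y ≤ TL := le_inf (hY.le_pCore.trans (pCore_le_sylow T)) hYC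
  have hYcTL : Y ≤ Subgroup.centralizer (TL : Set L) :=
    Subgroup.le_centralizer_iff.mp (inf_le_right : TL ≤ C)
  have hYW : Y ≤ Cfsg.omegaOne p (TL ⊓ Subgroup.centralizer (TL : Set L)) := by
    intro y hy
    exact Subgroup.subset_closure ⟨⟨hYTL hy, hYcTL hy⟩, hY.2.1.2 y hy⟩
  -- normality of D ⊔ C
  have hsupn : ∀ D : Subgroup L, R ≤ Subgroup.normalizer (D : Set L) → (D ⊔ C).Normal := by
    intro D hD
    rw [← Subgroup.normalizer_eq_top_iff, eq_top_iff, ← hfr]
    refine sup_le ?_ ?_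
    · refine le_trans ?_ (Subgroup.normalizer_inf_normalizer_le_normalizer_sup D C)
      refine le_inf hD ?_
      rw [Subgroup.normalizer_eq_top]; exact le_top
    · exact le_sup_right.trans Subgroup.le_normalizer
  have hsupC : ∀ D : Subgroup L, R ≤ Subgroup.normalizer (D : Set L) →
      (∀ d ∈ D, ∃ k : ℕ, d ^ p ^ k ∈ C) → D ≤ C := by
    intro D hD hcond
    have hn := hsupn D hD
    have := hY.2.2 (D ⊔ C) hn (by
      intro x hx
      obtain ⟨d, hd, c, hc, rfl⟩ := Subgroup.mem_sup_of_normal_right.mp hx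
      obtain ⟨k, hk⟩ := hcond d hd
      exact ⟨k, mul_pow_mem_of_normal C d c hc _ hk⟩)
    exact le_sup_left.trans this
  -- (ii)
  have h_ii : (Cfsg.pCore p ↥R).map R.subtype = TL := by
    apply le_antisymm
    · have hPT : (Cfsg.pCore p ↥R).map R.subtype ≤ (T : Subgroup L) := by
        have h1 : Cfsg.pCore p ↥R ≤ (T.subtype hTR : Subgroup ↥R) := pCore_le_sylow (T.subtype hTR)
        rw [Sylow.coe_subtype] at h1
        refine (Subgroup.map_mono h1).trans ?_
        rw [Subgroup.subgroupOf_map_subtype]; exact inf_le_left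
      have hPC : (Cfsg.pCore p ↥R).map R.subtype ≤ C := by
        apply hsupC
        · apply le_normalizer_of_conj_mem
          rintro r hr _ ⟨x, hx, rfl⟩
          refine ⟨⟨r, hr⟩ * x * ⟨r, hr⟩⁻¹, (Cfsg.pCore_normal p ↥R).conj_mem x hx _, ?_⟩
          simp
        · rintro _ ⟨x, hx, rfl⟩
          obtain ⟨k, hk⟩ := (isPGroup_pCore (G := ↥R) p) ⟨x, hx⟩
          refine ⟨k, ?_⟩
          have hk' := congrArg Subtype.val hk
          rw [Subgroup.coe_pow, Subgroup.coe_one] at hk'
          have hk'' := congrArg Subtype.val hk'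
          rw [Subgroup.coe_pow, Subgroup.coe_one] at hk''
          rw [Subgroup.coe_subtype, hk'']; exact Subgroup.one_mem _
      exact le_inf hPT hPC
    · have hn : (TL.subgroupOf R).Normal :=
        (Subgroup.normal_subgroupOf_iff_le_normalizer hTLR).mpr le_rfl
      have h1 : TL.subgroupOf R ≤ Cfsg.pCore p ↥R := le_pCore hn hTLp.comap_subtype
      have h2 := Subgroup.map_mono (f := R.subtype) h1
      rwa [Subgroup.map_subgroupOf_eq_of_le hTLR] at h2
  refine ⟨h_i, h_ii, le_antisymm hYW ?_⟩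
  -- (iii) ≥
  set W := Cfsg.omegaOne p (TL ⊓ Subgroup.centralizer (TL : Set L)) with hW
  have hWTL : W ≤ TL ⊓ Subgroup.centralizer (TL : Set L) := by
    rw [hW]; unfold Cfsg.omegaOne
    rw [Subgroup.closure_le]
    intro x hx; exact hx.1
  have hWR : W ≤ R := (hWTL.trans inf_le_left).trans hTLR
  have hRW : R ≤ Subgroup.normalizer (W : Set L) := normalizer_le_normalizer_omegaOne_center p TL
  have hWn : (W.subgroupOf R).Normal := (Subgroup.normal_subgroupOf_iff_le_normalizer hWR).mpr hRW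
  have hcomm := isMulCommutative_inf_centralizer TL
  have hWel : Cfsg.IsElementaryAbelian p W := isElementaryAbelian_omegaOne _
  have hWpred : PRed p (W.subgroupOf R) := by
    refine ⟨hWn, isElementaryAbelian_subgroupOf R hWel, fun D hD hcond => ?_⟩
    have hDLC : D.map R.subtype ≤ C := by
      apply hsupC
      · apply le_normalizer_of_conj_mem
        rintro r hr _ ⟨x, hx, rfl⟩
        refine ⟨⟨r, hr⟩ * x * ⟨r, hr⟩⁻¹, hD.conj_mem x hx _, ?_⟩
        simp
      · rintro _ ⟨x, hx, rfl⟩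
        obtain ⟨k, hk⟩ := hcond x hx
        refine ⟨k, ?_⟩
        rw [Subgroup.mem_centralizer_iff]
        intro y hy
        have hyW : (⟨y, hWR (hYW hy)⟩ : ↥R) ∈ W.subgroupOf R := by
          rw [Subgroup.mem_subgroupOf]; exact hYW hy
        have := (Subgroup.mem_centralizer_iff.mp hk) _ hyW
        have h2 := congrArg Subtype.val this
        simpa using h2
    have := hD
    apply le_of_sylow_inf_le D _ hcond (T.subtype hTR)
    intro x hx
    rw [Sylow.coe_subtype] at hx
    have hxT : (x : L) ∈ (T : Subgroup L) := Subgroup.mem_subgroupOf.mp hx.1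
    have hxC : (x : L) ∈ C := hDLC ⟨x, hx.2, rfl⟩
    have hxTL : (x : L) ∈ TL := ⟨hxT, hxC⟩
    rw [Subgroup.mem_centralizer_iff]
    intro w hw
    rw [SetLike.mem_coe, Subgroup.mem_subgroupOf] at hw
    have := (Subgroup.mem_centralizer_iff.mp (hWTL hw).2) (x : L) hxTL
    apply Subtype.ext
    rw [Subgroup.coe_mul, Subgroup.coe_mul]
    exact this.symm
  have h3 := pRed_normalClosure hchar T R hTR (W.subgroupOf R) hWpred
  rw [Subgroup.map_subgroupOf_eq_of_le hWR] at h3
  exact Subgroup.le_normalClosure.trans (hmax _ h3)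

end Cfsg.Agent.Helper5
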