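import Mathlib
import Cfsg.Prelude.Def_Amalgam
import Cfsg.Agent.Helper5.PReduced3
import Cfsg.Agent.Helper5.SylowSub

/-!
Helper lemmas (helper5): `p`-reduced normal subgroups of a subgroup `L` of an ambient group `H`, in terms of
subgroups of `H`.
-/

set_option autoImplicit false

namespace Cfsg.Agent.Helper5

variable {H : Type*} [Group H]

/-- `V` is a `p`-reduced normal subgroup of the subgroup `L`, in terms of subgroups of the ambient group. -/
def PRedIn (p : ℕ) (L V : Subgroup H) : Prop :=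
  V ≤ L ∧ L ≤ Subgroup.normalizer (V : Set H) ∧ Cfsg.IsElementaryAbelian p V ∧
    ∀ D : Subgroup H, D ≤ L → L ≤ Subgroup.normalizer (D : Set H) →
      (∀ d ∈ D, ∃ k : ℕ, d ^ p ^ k ∈ Subgroup.centralizer (V : Set H)) →
      D ≤ Subgroup.centralizer (V : Set H)

theorem mem_centralizer_map_subtype_iff (L : Subgroup H) (V : Subgroup ↥L) (x : ↥L) :
    (x : H) ∈ Subgroup.centralizer ((V.map L.subtype : Subgroup H) : Set H) ↔
      x ∈ Subgroup.centralizer (V : Set ↥L) := by
  rw [Subgroup.mem_centralizer_iff, Subgroup.mem_centralizer_iff]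
  constructor
  · intro h v hv
    apply Subtype.ext
    rw [Subgroup.coe_mul, Subgroup.coe_mul]
    exact h (v : H) ⟨v, hv, rfl⟩
  · rintro h _ ⟨v, hv, rfl⟩
    have := congrArg Subtype.val (h v hv)
    simpa using this

theorem le_normalizer_map_subtype_of_normal [Finite H] (L : Subgroup H) (D : Subgroup ↥L) (hD : D.Normal) :
    L ≤ Subgroup.normalizer ((D.map L.subtype : Subgroup H) : Set H) := by
  apply le_normalizer_of_conj_mem
  rintro l hl _ ⟨x, hx, rfl⟩
  refine ⟨⟨l, hl⟩ * x * ⟨l, hl⟩⁻¹, hD.conj_mem x hx _, ?_⟩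
  simp

theorem isElementaryAbelian_map_subtype_iff {p : ℕ} (L : Subgroup H) (V : Subgroup ↥L) :
    Cfsg.IsElementaryAbelian p (V.map L.subtype) ↔ Cfsg.IsElementaryAbelian p V := by
  constructor
  · rintro ⟨hc, he⟩
    refine ⟨?_, ?_⟩
    · apply IsMulCommutative.of_setLike_mul_comm
      intro a ha b hb
      apply Subtype.ext
      rw [Subgroup.coe_mul, Subgroup.coe_mul]
      have ha' : (a : H) ∈ V.map L.subtype := ⟨a, ha, rfl⟩
      have hb' : (b : H) ∈ V.map L.subtype := ⟨b, hb, rfl⟩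
      exact setLike_mul_comm ha' hb'
    · intro a ha
      apply Subtype.ext
      rw [Subgroup.coe_pow, Subgroup.coe_one]
      exact he _ ⟨a, ha, rfl⟩
  · rintro ⟨hc, he⟩
    refine ⟨?_, ?_⟩
    · apply IsMulCommutative.of_setLike_mul_comm
      rintro _ ⟨a, ha, rfl⟩ _ ⟨b, hb, rfl⟩
      have := congrArg Subtype.val (setLike_mul_comm ha hb)
      simpa using this
    · rintro _ ⟨a, ha, rfl⟩
      rw [← map_pow, he a ha, map_one]

theorem pRed_iff_pRedIn_map [Finite H] {p : ℕ} (L : Subgroup H) (V : Subgroup ↥L) :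
    PRed p V ↔ PRedIn p L (V.map L.subtype) := by
  have hVL : V.map L.subtype ≤ L := by rintro _ ⟨v, -, rfl⟩; exact v.2
  constructor
  · rintro ⟨hn, hel, hD⟩
    refine ⟨hVL, le_normalizer_map_subtype_of_normal L V hn,
      (isElementaryAbelian_map_subtype_iff L V).mpr hel, ?_⟩
    intro D hDL hLD hcond
    have hDn : (D.subgroupOf L).Normal := (Subgroup.normal_subgroupOf_iff_le_normalizer hDL).mpr hLD
    have h1 := hD (D.subgroupOf L) hDn (by
      intro d hd
      obtain ⟨k, hk⟩ := hcond (d : H) (Subgroup.mem_subgroupOf.mp hd)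
      refine ⟨k, ?_⟩
      rw [← mem_centralizer_map_subtype_iff, Subgroup.coe_pow]
      exact hk)
    intro d hd
    have h2 := h1 (show (⟨d, hDL hd⟩ : ↥L) ∈ D.subgroupOf L from Subgroup.mem_subgroupOf.mpr hd)
    exact (mem_centralizer_map_subtype_iff L V ⟨d, hDL hd⟩).mpr h2
  · rintro ⟨-, hN, hel, hD⟩
    refine ⟨?_, (isElementaryAbelian_map_subtype_iff L V).mp hel, ?_⟩
    · have h1 : ((V.map L.subtype).subgroupOf L).Normal :=
        (Subgroup.normal_subgroupOf_iff_le_normalizer hVL).mpr hN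
      have h2 : (V.map L.subtype).subgroupOf L = V :=
        Subgroup.comap_map_eq_self_of_injective L.subtype_injective V
      rwa [h2] at h1
    · intro D hDn hcond
      have hDL : D.map L.subtype ≤ L := by rintro _ ⟨v, -, rfl⟩; exact v.2
      have h1 := hD (D.map L.subtype) hDL (le_normalizer_map_subtype_of_normal L D hDn) (by
        rintro _ ⟨d, hd, rfl⟩
        obtain ⟨k, hk⟩ := hcond d hd
        refine ⟨k, ?_⟩
        rw [Subgroup.coe_subtype, ← Subgroup.coe_pow, mem_centralizer_map_subtype_iff]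
        exact hk)
      intro d hd
      exact (mem_centralizer_map_subtype_iff L V d).mp (h1 ⟨d, hd, rfl⟩)

theorem pRedIn_largestPReducedOf [Finite H] (p : ℕ) [Fact p.Prime] (L : Subgroup H) :
    PRedIn p L (Cfsg.largestPReducedOf p L) :=
  (pRed_iff_pRedIn_map L _).mp (pRed_largestPReduced p)

theorem PRedIn.le_largestPReducedOf [Finite H] {p : ℕ} [Fact p.Prime] {L V : Subgroup H}
    (h : PRedIn p L V) : V ≤ Cfsg.largestPReducedOf p L := by
  have hV : (V.subgroupOf L).map L.subtype = V := Subgroup.map_subgroupOf_eq_of_le h.1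
  rw [← hV] at h ⊢
  exact Subgroup.map_mono ((pRed_iff_pRedIn_map L _).mpr h).le_largestPReduced

theorem mul_pow_of_mem_normalizer (C : Subgroup H) (d c : H)
    (hd : d ∈ Subgroup.normalizer (C : Set H)) (hc : c ∈ C) (n : ℕ) :
    ∃ c' ∈ C, (d * c) ^ n = d ^ n * c' := by
  induction n with
  | zero => exact ⟨1, C.one_mem, by simp⟩
  | succ n ih =>
    obtain ⟨c', hc', h⟩ := ih
    have hd' : d⁻¹ * c' * d⁻¹⁻¹ ∈ C :=
      (Subgroup.mem_normalizer_iff.mp (Subgroup.inv_mem _ hd) c').mp hc'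
    refine ⟨d⁻¹ * c' * d⁻¹⁻¹ * c, C.mul_mem hd' hc, ?_⟩
    rw [pow_succ, h, pow_succ]
    group

/-- `O_p(L)` centralizes every `p`-reduced normal subgroup of `L` (relative form). -/
theorem PRedIn.pCoreOf_le_centralizer [Finite H] {p : ℕ} [Fact p.Prime] {L V : Subgroup H}
    (h : PRedIn p L V) : Cfsg.pCoreOf p L ≤ Subgroup.centralizer (V : Set H) := by
  have hle : Cfsg.pCoreOf p L ≤ L := by rintro _ ⟨v, -, rfl⟩; exact v.2
  apply h.2.2.2 _ hle (le_normalizer_map_subtype_of_normal L _ (Cfsg.pCore_normal p ↥L))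
  rintro _ ⟨x, hx, rfl⟩
  obtain ⟨k, hk⟩ := (isPGroup_pCore (G := ↥L) p) ⟨x, hx⟩
  refine ⟨k, ?_⟩
  have hk' := congrArg Subtype.val hk
  rw [Subgroup.coe_pow, Subgroup.coe_one] at hk'
  have hk'' := congrArg Subtype.val hk'
  rw [Subgroup.coe_pow, Subgroup.coe_one] at hk''
  rw [Subgroup.coe_subtype, hk'']; exact Subgroup.one_mem _

/-- Transfer of `p`-reducedness between subgroups with the same image modulo the centralizer. -/
theorem PRedIn.transfer [Finite H] {p : ℕ} {M L V : Subgroup H} (h : PRedIn p M V) (hVL : V ≤ L)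
    (hfac : L ⊔ Subgroup.centralizer (V : Set H) = M ⊔ Subgroup.centralizer (V : Set H)) :
    PRedIn p L V := by
  obtain ⟨hVM, hMN, hel, hD⟩ := h
  set C := Subgroup.centralizer (V : Set H) with hC
  have hCN : C ≤ Subgroup.normalizer (V : Set H) := Subgroup.centralizer_le_normalizer _
  have hLN : L ≤ Subgroup.normalizer (V : Set H) := by
    calc L ≤ L ⊔ C := le_sup_left
      _ = M ⊔ C := hfac
      _ ≤ _ := sup_le hMN hCN
  have hNC : Subgroup.normalizer (V : Set H) ≤ Subgroup.normalizer (C : Set H) := by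
    apply le_normalizer_of_conj_mem
    intro n hn c hc
    exact conj_mem_centralizer_of_mem_normalizer V n hn c hc
  refine ⟨hVL, hLN, hel, ?_⟩
  intro D hDL hLD hcond
  have hDNC : D ≤ Subgroup.normalizer (C : Set H) := (hDL.trans hLN).trans hNC
  have hMNC : M ≤ Subgroup.normalizer (C : Set H) := hMN.trans hNC
  have hdecD : ∀ x ∈ D ⊔ C, ∃ d ∈ D, ∃ c ∈ C, d * c = x := by
    intro x hx
    have := Subgroup.coe_mul_of_left_le_normalizer_right D C hDNC
    have hx' : x ∈ ((D ⊔ C : Subgroup H) : Set H) := hx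
    rw [this] at hx'
    obtain ⟨a, ha, b, hb, rfl⟩ := Set.mem_mul.mp hx'
    exact ⟨a, ha, b, hb, rfl⟩
  have hdecM : ∀ x ∈ M ⊔ C, ∃ d ∈ M, ∃ c ∈ C, d * c = x := by
    intro x hx
    have := Subgroup.coe_mul_of_left_le_normalizer_right M C hMNC
    have hx' : x ∈ ((M ⊔ C : Subgroup H) : Set H) := hx
    rw [this] at hx'
    obtain ⟨a, ha, b, hb, rfl⟩ := Set.mem_mul.mp hx'
    exact ⟨a, ha, b, hb, rfl⟩
  have hLDC : L ⊔ C ≤ Subgroup.normalizer ((D ⊔ C : Subgroup H) : Set H) := by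
    refine sup_le ?_ (le_sup_right.trans Subgroup.le_normalizer)
    exact (le_inf hLD (hLN.trans hNC)).trans (Subgroup.normalizer_inf_normalizer_le_normalizer_sup D C)
  have hE : (D ⊔ C) ⊓ M ≤ C := by
    apply hD _ inf_le_right
    · apply le_normalizer_of_conj_mem
      intro m hm x hx
      have hm' : m ∈ Subgroup.normalizer ((D ⊔ C : Subgroup H) : Set H) :=
        hLDC (hfac ▸ (le_sup_left : M ≤ M ⊔ C) hm)
      exact ⟨(Subgroup.mem_normalizer_iff.mp hm' x).mp hx.1, M.mul_mem (M.mul_mem hm hx.2) (M.inv_mem hm)⟩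
    · intro x hx
      obtain ⟨d, hd, c, hc, rfl⟩ := hdecD x hx.1
      obtain ⟨k, hk⟩ := hcond d hd
      obtain ⟨c', hc', he⟩ := mul_pow_of_mem_normalizer C d c (hDNC hd) hc (p ^ k)
      exact ⟨k, by rw [he]; exact C.mul_mem hk hc'⟩
  intro d hd
  have hdMC : d ∈ M ⊔ C := hfac ▸ (le_sup_left : L ≤ L ⊔ C) (hDL hd)
  obtain ⟨m, hm, c, hc, hmc⟩ := hdecM d hdMC
  have hmE : m ∈ (D ⊔ C) ⊓ M := by
    refine ⟨?_, hm⟩
    have : m = d * c⁻¹ := by rw [← hmc]; group
    rw [this]
    exact Subgroup.mul_mem _ (Subgroup.mem_sup_left hd) (Subgroup.mem_sup_right (C.inv_mem hc))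
  rw [← hmc]
  exact C.mul_mem (hE hmE) hc


theorem pCoreOf_le_sylow [Finite H] {p : ℕ} [Fact p.Prime] (T : Sylow p H) {M : Subgroup H}
    (hTM : (T : Subgroup H) ≤ M) : Cfsg.pCoreOf p M ≤ (T : Subgroup H) := by
  have h1 : Cfsg.pCore p ↥M ≤ (T.subtype hTM : Subgroup ↥M) := pCore_le_sylow (T.subtype hTM)
  rw [Sylow.coe_subtype] at h1
  refine (Subgroup.map_mono h1).trans ?_
  rw [Subgroup.subgroupOf_map_subtype]; exact inf_le_left

theorem largestPReducedOf_le_pCoreOf [Finite H] (p : ℕ) [Fact p.Prime] (M : Subgroup H) :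
    Cfsg.largestPReducedOf p M ≤ Cfsg.pCoreOf p M :=
  Subgroup.map_mono (pRed_largestPReduced p).le_pCore

end Cfsg.Agent.Helper5
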