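import Mathlib
import Cfsg.Agent.Helper5.PReducedRel

/-!
Helper lemmas (helper5): the closure of `Ω₁(Z(S))` over Sylow subgroups is `p`-reduced in characteristic `p`;
relative forms; Sylow subgroups of normalized subgroups.
-/

set_option autoImplicit false

namespace Cfsg.Agent.Helper5

variable {H : Type*} [Group H]

theorem map_omegaOne_center {p : ℕ} (L : Subgroup H) (A : Subgroup ↥L) :
    (Cfsg.omegaOne p (A ⊓ Subgroup.centralizer (A : Set ↥L))).map L.subtype =
      Cfsg.omegaOne p (A.map L.subtype ⊓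
        Subgroup.centralizer ((A.map L.subtype : Subgroup H) : Set H)) := by
  unfold Cfsg.omegaOne
  rw [MonoidHom.map_closure]
  congr 1
  ext y
  constructor
  · rintro ⟨x, ⟨⟨hxA, hxC⟩, hxp⟩, rfl⟩
    refine ⟨⟨⟨x, hxA, rfl⟩, (mem_centralizer_map_subtype_iff L A x).mpr hxC⟩, ?_⟩
    rw [Subgroup.coe_subtype, ← Subgroup.coe_pow, hxp, Subgroup.coe_one]
  · rintro ⟨⟨⟨x, hxA, rfl⟩, hyC⟩, hyp⟩
    refine ⟨x, ⟨⟨hxA, (mem_centralizer_map_subtype_iff L A x).mp hyC⟩, ?_⟩, rfl⟩
    apply Subtype.ext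
    rw [Subgroup.coe_pow, Subgroup.coe_one]; exact hyp

theorem IsElementaryAbelian.of_le {p : ℕ} {A B : Subgroup H} (hA : Cfsg.IsElementaryAbelian p A)
    (hBA : B ≤ A) : Cfsg.IsElementaryAbelian p B := by
  obtain ⟨hc, he⟩ := hA
  exact ⟨isMulCommutative_of_le hBA, fun b hb => he b (hBA hb)⟩

/-- The join of `Ω₁(Z(S))` over the Sylow `p`-subgroups `S`. -/
def sylowCenterJoin (p : ℕ) (L : Type*) [Group L] : Subgroup L :=
  ⨆ S : Sylow p L, Cfsg.omegaOne p ((S : Subgroup L) ⊓ Subgroup.centralizer ((S : Subgroup L) : Set L))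

theorem sylowCenterClosure_eq_map {p : ℕ} (L : Subgroup H) :
    Cfsg.sylowCenterClosure p L = (sylowCenterJoin p ↥L).map L.subtype := by
  unfold Cfsg.sylowCenterClosure sylowCenterJoin
  rw [Subgroup.map_iSup]
  exact iSup_congr fun S => (map_omegaOne_center L (S : Subgroup ↥L)).symm

theorem pRed_sylowCenterJoin {L : Type*} [Group L] [Finite L] {p : ℕ} [Fact p.Prime]
    (hchar : Subgroup.centralizer (Cfsg.pCore p L : Set L) ≤ Cfsg.pCore p L) :
    PRed p (sylowCenterJoin p L) := by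
  have hn : (sylowCenterJoin p L).Normal := by
    rw [← Subgroup.normalizer_eq_top_iff, eq_top_iff]
    intro l _
    apply mem_normalizer_of_conj_mem
    have hmap : (sylowCenterJoin p L).map (MulAut.conj l).toMonoidHom ≤ sylowCenterJoin p L := by
      unfold sylowCenterJoin
      rw [Subgroup.map_iSup]
      apply iSup_le
      intro S
      refine le_trans ?_ (le_iSup _ (l • S))
      unfold Cfsg.omegaOne
      rw [MonoidHom.map_closure]
      apply Subgroup.closure_mono
      rintro _ ⟨y, ⟨⟨hyS, hyC⟩, hyp⟩, rfl⟩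
      have hcoe : ((l • S : Sylow p L) : Subgroup L) = (S : Subgroup L).map (MulAut.conj l).toMonoidHom := by
        rw [Sylow.coe_subgroup_smul, map_conj_eq_smul]
      refine ⟨⟨?_, ?_⟩, ?_⟩
      · rw [hcoe]; exact ⟨y, hyS, rfl⟩
      · rw [hcoe]
        show (MulAut.conj l).toMonoidHom y ∈ Subgroup.centralizer
          (((S : Subgroup L).map (MulAut.conj l).toMonoidHom : Subgroup L) : Set L)
        rw [Subgroup.mem_centralizer_iff]
        rintro _ ⟨s, hs, rfl⟩
        have hyC' : y ∈ Subgroup.centralizer ((S : Subgroup L) : Set L) := hyC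
        have := (Subgroup.mem_centralizer_iff.mp hyC') s hs
        simp only [MulEquiv.coe_toMonoidHom, MulAut.conj_apply]
        calc l * s * l⁻¹ * (l * y * l⁻¹) = l * (s * y) * l⁻¹ := by group
          _ = l * (y * s) * l⁻¹ := by rw [this]
          _ = l * y * l⁻¹ * (l * s * l⁻¹) := by group
      · simp only [MulEquiv.coe_toMonoidHom, MulAut.conj_apply]
        rw [conj_pow, hyp, mul_one, mul_inv_cancel]
    intro x hx
    exact (map_conj_le_iff _ _ _).mp hmap x hx
  have hcomm := isMulCommutative_inf_centralizer (Cfsg.pCore p L)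
  have hle : sylowCenterJoin p L ≤
      Cfsg.omegaOne p (Cfsg.pCore p L ⊓ Subgroup.centralizer (Cfsg.pCore p L : Set L)) := by
    unfold sylowCenterJoin
    apply iSup_le
    intro S
    unfold Cfsg.omegaOne
    apply Subgroup.closure_mono
    rintro y ⟨⟨hyS, hyC⟩, hyp⟩
    have hyQ : y ∈ Subgroup.centralizer (Cfsg.pCore p L : Set L) :=
      Subgroup.centralizer_le (by exact_mod_cast pCore_le_sylow S) hyC
    exact ⟨⟨hchar hyQ, hyQ⟩, hyp⟩
  have hel : Cfsg.IsElementaryAbelian p (sylowCenterJoin p L) :=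
    IsElementaryAbelian.of_le (isElementaryAbelian_omegaOne _) hle
  refine ⟨hn, hel, fun D hD hcond => ?_⟩
  have := hD
  rw [Subgroup.le_centralizer_iff]
  unfold sylowCenterJoin
  apply iSup_le
  intro S
  rw [← Subgroup.le_centralizer_iff]
  apply le_of_sylow_inf_le D _ ?_ S ?_
  · intro d hd
    obtain ⟨k, hk⟩ := hcond d hd
    refine ⟨k, Subgroup.centralizer_le ?_ hk⟩
    exact_mod_cast (le_iSup (fun S : Sylow p L => Cfsg.omegaOne p ((S : Subgroup L) ⊓
      Subgroup.centralizer ((S : Subgroup L) : Set L))) S)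
  · have h1 : Cfsg.omegaOne p ((S : Subgroup L) ⊓ Subgroup.centralizer ((S : Subgroup L) : Set L)) ≤
        Subgroup.centralizer ((S : Subgroup L) : Set L) := by
      unfold Cfsg.omegaOne
      rw [Subgroup.closure_le]
      intro x hx; exact hx.1.2
    exact inf_le_left.trans (Subgroup.le_centralizer_iff.mp h1)

theorem pRedIn_sylowCenterClosure [Finite H] {p : ℕ} [Fact p.Prime] (L : Subgroup H)
    (hL : Subgroup.centralizer (Cfsg.pCore p ↥L : Set ↥L) ≤ Cfsg.pCore p ↥L) :
    PRedIn p L (Cfsg.sylowCenterClosure p L) := by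
  rw [sylowCenterClosure_eq_map]
  exact (pRed_iff_pRedIn_map L _).mp (pRed_sylowCenterJoin hL)

/-- `T ∩ C` is a Sylow `p`-subgroup of `C` when `C` is normalized by a subgroup `N ≥ T, C`. -/
theorem sylow_inf_of_le_normalizer [Finite H] {p : ℕ} [Fact p.Prime] (T : Sylow p H) (C N : Subgroup H)
    (hTN : (T : Subgroup H) ≤ N) (hCN : C ≤ N) (hN : N ≤ Subgroup.normalizer (C : Set H)) :
    ∃ P : Sylow p ↥C, (P : Subgroup ↥C) = ((T : Subgroup H) ⊓ C).subgroupOf C := by
  have hp : IsPGroup p ↥(((T : Subgroup H) ⊓ C).subgroupOf C) :=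
    (T.2.to_le inf_le_left).comap_subtype
  refine ⟨⟨((T : Subgroup H) ⊓ C).subgroupOf C, hp, ?_⟩, rfl⟩
  intro Q hQ hle
  have hQp : IsPGroup p ↥(Q.map C.subtype) := hQ.map _
  have hQC : Q.map C.subtype ≤ C := by rintro _ ⟨x, -, rfl⟩; exact x.2
  obtain ⟨k, hk, hconj⟩ := exists_conj_le_sylow_of_le T N hTN (Q.map C.subtype) (hQC.trans hCN) hQp
  have hsub : (Q.map C.subtype).map (MulAut.conj k).toMonoidHom ≤ (T : Subgroup H) ⊓ C := by
    rw [map_conj_le_iff]
    intro x hx
    exact ⟨hconj x hx, (Subgroup.mem_normalizer_iff.mp (hN hk) x).mp (hQC hx)⟩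
  have hcard : Nat.card ↥(Q.map C.subtype) ≤ Nat.card ↥((T : Subgroup H) ⊓ C : Subgroup H) := by
    rw [← card_map_conj' (Q.map C.subtype) k]
    exact Subgroup.card_le_of_le hsub
  have hT₀Q : (T : Subgroup H) ⊓ C ≤ Q.map C.subtype := by
    intro x hx
    exact ⟨⟨x, hx.2⟩, hle (Subgroup.mem_subgroupOf.mpr hx), rfl⟩
  have heq : (T : Subgroup H) ⊓ C = Q.map C.subtype := Subgroup.eq_of_le_of_card_ge hT₀Q hcard
  rw [heq]
  exact (Subgroup.comap_map_eq_self_of_injective C.subtype_injective Q).symm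

theorem largestPReducedOf_eq_omegaOne [Finite H] {p : ℕ} [Fact p.Prime] (T : Sylow p H) (L : Subgroup H)
    (hTL : (T : Subgroup H) ≤ L)
    (hL : Subgroup.centralizer (Cfsg.pCore p ↥L : Set ↥L) ≤ Cfsg.pCore p ↥L) :
    Cfsg.largestPReducedOf p L = Cfsg.omegaOne p
      (((T : Subgroup H) ⊓ Subgroup.centralizer ((Cfsg.largestPReducedOf p L : Subgroup H) : Set H)) ⊓
        Subgroup.centralizer ((((T : Subgroup H) ⊓
          Subgroup.centralizer ((Cfsg.largestPReducedOf p L : Subgroup H) : Set H) : Subgroup H)) : Set H)) := by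
  have h := (pRed_structure hL (T.subtype hTL) (Cfsg.largestPReduced p ↥L) (pRed_largestPReduced p)
    (fun V hV => hV.le_largestPReduced)).2.2
  have hmap : (((T.subtype hTL : Sylow p ↥L) : Subgroup ↥L) ⊓
      Subgroup.centralizer ((Cfsg.largestPReduced p ↥L : Subgroup ↥L) : Set ↥L)).map L.subtype =
      (T : Subgroup H) ⊓ Subgroup.centralizer ((Cfsg.largestPReducedOf p L : Subgroup H) : Set H) := by
    ext y
    constructor
    · rintro ⟨x, ⟨hxT, hxC⟩, rfl⟩
      rw [Sylow.coe_subtype] at hxT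
      exact ⟨Subgroup.mem_subgroupOf.mp hxT, (mem_centralizer_map_subtype_iff L _ x).mpr hxC⟩
    · rintro ⟨hyT, hyC⟩
      refine ⟨⟨y, hTL hyT⟩, ⟨?_, ?_⟩, rfl⟩
      · rw [Sylow.coe_subtype]; exact Subgroup.mem_subgroupOf.mpr hyT
      · exact (mem_centralizer_map_subtype_iff L _ ⟨y, hTL hyT⟩).mp hyC
  conv_lhs => rw [Cfsg.largestPReducedOf, h]
  rw [map_omegaOne_center, hmap]


theorem normalizer_le_normalizer_centralizer [Finite H] (V : Subgroup H) :
    Subgroup.normalizer (V : Set H) ≤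
      Subgroup.normalizer ((Subgroup.centralizer (V : Set H) : Subgroup H) : Set H) := by
  apply le_normalizer_of_conj_mem
  intro n hn c hc
  exact conj_mem_centralizer_of_mem_normalizer V n hn c hc


/-- Relative Frattini argument: `M = N_M(T ∩ C) (M ∩ C)` when `M ≥ T` normalizes `C`. -/
theorem frattini_rel [Finite H] {p : ℕ} [Fact p.Prime] (T : Sylow p H) (M C : Subgroup H)
    (hTM : (T : Subgroup H) ≤ M) (hMC : M ≤ Subgroup.normalizer (C : Set H)) :
    M ≤ (M ⊓ Subgroup.normalizer (((T : Subgroup H) ⊓ C : Subgroup H) : Set H)) ⊔ C := by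
  have hCM : C ⊓ M ≤ M := inf_le_right
  have hn : ((C ⊓ M).subgroupOf M).Normal := by
    rw [Subgroup.normal_subgroupOf_iff_le_normalizer hCM]
    apply le_normalizer_of_conj_mem
    intro m hm x hx
    exact ⟨(Subgroup.mem_normalizer_iff.mp (hMC hm) x).mp hx.1,
      M.mul_mem (M.mul_mem hm hx.2) (M.inv_mem hm)⟩
  obtain ⟨Q, hQ⟩ := Cfsg.Agent.Helper1.sylow_inf_subnormal p ((C ⊓ M).subgroupOf M)
    (Subgroup.Normal.isSubnormal hn) (T.subtype hTM)
  have hfr := Sylow.normalizer_sup_eq_top Q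
  have hQmap : (Q : Subgroup _).map ((C ⊓ M).subgroupOf M).subtype =
      ((T : Subgroup H) ⊓ C).subgroupOf M := by
    rw [hQ, Subgroup.subgroupOf_map_subtype, Sylow.coe_subtype]
    ext x
    simp only [Subgroup.mem_inf, Subgroup.mem_subgroupOf]
    constructor
    · rintro ⟨h1, h2, -⟩; exact ⟨h1, h2⟩
    · rintro ⟨h1, h2⟩; exact ⟨h1, h2, x.2⟩
  rw [hQmap] at hfr
  intro m hm
  have hm' : (⟨m, hm⟩ : ↥M) ∈ Subgroup.normalizer
      ((((T : Subgroup H) ⊓ C).subgroupOf M : Subgroup ↥M) : Set ↥M) ⊔ (C ⊓ M).subgroupOf M := by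
    rw [hfr]; exact Subgroup.mem_top _
  obtain ⟨a, ha, c, hc, hac⟩ := Subgroup.mem_sup_of_normal_right.mp hm'
  have hm_eq : m = (a : H) * (c : H) := by
    have := congrArg Subtype.val hac
    simpa using this.symm
  rw [hm_eq]
  refine Subgroup.mul_mem _ (Subgroup.mem_sup_left ⟨a.2, ?_⟩)
    (Subgroup.mem_sup_right (Subgroup.mem_subgroupOf.mp hc).1)
  apply mem_normalizer_of_conj_mem
  intro x hx
  have hxM : x ∈ M := hTM hx.1
  have h1 : (⟨x, hxM⟩ : ↥M) ∈ ((T : Subgroup H) ⊓ C).subgroupOf M := Subgroup.mem_subgroupOf.mpr hx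
  have h2 := (Subgroup.mem_normalizer_iff.mp ha ⟨x, hxM⟩).mp h1
  exact Subgroup.mem_subgroupOf.mp h2

end Cfsg.Agent.Helper5
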