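import Mathlib
import Cfsg.Prelude.Def_LocalStructure
import Cfsg.Agent.Helper5.LargeSub
import Cfsg.Agent.Helper5.WeaklyClosed
import Cfsg.Agent.Helper5.PGroupCenter
import Cfsg.Agent.Helper5.Cores
import Cfsg.Agent.Helper5.StrongEmb
import Cfsg.Agent.Helper2.SubnormalP
import Cfsg.Agent.Helper4.PCore
import Cfsg.Agent.S2844

/-!
Helper lemmas (helper5): large subgroups, part 2.
-/

set_option autoImplicit false

namespace Cfsg.Agent.Helper5

variable {H : Type*} [Group H]

/-- `C_H(Y) ≤ N_H(Q)` for a nontrivial `p`-subgroup `Y` normalized by the large subgroup `Q`. -/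
theorem large_centralizer_le_normalizer [Finite H] {p : ℕ} [Fact p.Prime] (Q : Subgroup H)
    (hQp : IsPGroup p ↥Q) (hL : Cfsg.IsLarge Q) (Y : Subgroup H) (hYp : IsPGroup p ↥Y) (hY1 : Y ≠ ⊥)
    (hQNY : Q ≤ Subgroup.normalizer (Y : Set H)) :
    Subgroup.centralizer (Y : Set H) ≤ Subgroup.normalizer (Q : Set H) := by
  have hT : IsPGroup p ↥(Q ⊔ Y : Subgroup H) := IsPGroup.to_sup_of_normal_right' hQp hYp hQNY
  obtain ⟨x, hxY, hxo, hxc⟩ := exists_orderOf_eq_prime_central (Q ⊔ Y) Y hT le_sup_right hY1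
    (sup_le hQNY Subgroup.le_normalizer)
  set U := Y ⊓ Subgroup.centralizer (Q : Set H) with hU
  have hxU : x ∈ U := ⟨hxY, by
    show x ∈ Subgroup.centralizer (Q : Set H)
    rw [Subgroup.mem_centralizer_iff]
    intro q hq
    exact hxc q (le_sup_left (a := Q) (b := Y) hq)⟩
  have hU1 : U ≠ ⊥ := by
    intro h
    rw [h, Subgroup.mem_bot] at hxU
    rw [hxU, orderOf_one] at hxo
    exact (Fact.out : p.Prime).one_lt.ne hxo
  have h1 := hL.2 U inf_le_right hU1
  exact ((Subgroup.centralizer_le (inf_le_left : U ≤ Y)).trans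
    (Subgroup.centralizer_le_normalizer _)).trans h1

/-- A subgroup all of whose `p'`-elements are trivial is a `p`-group. -/
theorem isPGroup_of_forall_coprime_eq_one [Finite H] {p : ℕ} [Fact p.Prime] (D : Subgroup H)
    (h : ∀ c ∈ D, (orderOf c).Coprime p → c = 1) : IsPGroup p ↥D := by
  intro d
  obtain ⟨e, m, hm, hdm⟩ := Nat.exists_eq_pow_mul_and_not_dvd (orderOf_pos (d : H)).ne' p
    (Fact.out : p.Prime).one_lt.ne'
  refine ⟨e, ?_⟩
  have h1 : orderOf ((d : H) ^ p ^ e) = m := by
    rw [orderOf_pow, hdm]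
    have hpe : 0 < p ^ e := pow_pos (Fact.out : p.Prime).pos e
    have : Nat.gcd (p ^ e * m) (p ^ e) = p ^ e := Nat.gcd_eq_right (dvd_mul_right _ _)
    rw [this, Nat.mul_div_cancel_left m hpe]
  have h2 : (d : H) ^ p ^ e = 1 := by
    apply h _ (D.pow_mem d.2 _)
    rw [h1]
    exact (((Fact.out : p.Prime).coprime_iff_not_dvd).mpr hm).symm
  apply Subtype.ext
  simpa using h2

/-- Conjugates of large subgroups are large. -/
theorem isLarge_map_conj (Q : Subgroup H) (hL : Cfsg.IsLarge Q) (h : H) :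
    Cfsg.IsLarge (Q.map (MulAut.conj h).toMonoidHom) := by
  have hcent : ∀ (X : Subgroup H) (g x : H), x ∈ Subgroup.centralizer ((X.map (MulAut.conj g).toMonoidHom : Subgroup H) : Set H) →
      g⁻¹ * x * g ∈ Subgroup.centralizer (X : Set H) := by
    intro X g x hx
    rw [Subgroup.mem_centralizer_iff] at hx ⊢
    intro q hq
    have h1 := hx (g * q * g⁻¹) (conj_mem_map_conj X g q hq)
    calc q * (g⁻¹ * x * g) = g⁻¹ * ((g * q * g⁻¹) * x) * g := by group
      _ = g⁻¹ * (x * (g * q * g⁻¹)) * g := by rw [h1]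
      _ = g⁻¹ * x * g * q := by group
  refine ⟨?_, ?_⟩
  · intro x hx
    rw [mem_map_conj_iff]
    exact hL.1 (hcent Q h x hx)
  · intro U hU hU1
    have h1 : U.map (MulAut.conj h⁻¹).toMonoidHom ≤ Subgroup.centralizer (Q : Set H) := by
      rw [map_conj_le_iff]
      intro u hu
      have := hcent Q h u (hU hu)
      simpa using this
    have h4 : (U.map (MulAut.conj h⁻¹).toMonoidHom).map (MulAut.conj h).toMonoidHom = U :=
      map_conj_map_conj_inv U h
    have h2 : U.map (MulAut.conj h⁻¹).toMonoidHom ≠ ⊥ := by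
      intro hbot
      apply hU1
      rw [← h4, hbot, Subgroup.map_bot (MulAut.conj h).toMonoidHom]
    have h3 := hL.2 _ h1 h2
    calc Subgroup.normalizer (U : Set H)
        = Subgroup.normalizer (((U.map (MulAut.conj h⁻¹).toMonoidHom).map (MulAut.conj h).toMonoidHom : Subgroup H) : Set H) := by
          rw [h4]
      _ = (Subgroup.normalizer ((U.map (MulAut.conj h⁻¹).toMonoidHom : Subgroup H) : Set H)).map (MulAut.conj h).toMonoidHom :=
          normalizer_map_conj _ h
      _ ≤ (Subgroup.normalizer (Q : Set H)).map (MulAut.conj h).toMonoidHom := Subgroup.map_mono h3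
      _ = Subgroup.normalizer ((Q.map (MulAut.conj h).toMonoidHom : Subgroup H) : Set H) :=
          (normalizer_map_conj Q h).symm

/-- Key: for `Q` large, `Q ≤ L` and `O_p(L) ≠ 1`, the centralizer `C_H(O_p(L))` is a `p`-group. -/
theorem large_centralizer_pCoreOf_isPGroup [Finite H] {p : ℕ} [Fact p.Prime] (Q : Subgroup H)
    (hQp : IsPGroup p ↥Q) (hL : Cfsg.IsLarge Q) (L : Subgroup H) (hQL : Q ≤ L)
    (hO : Cfsg.pCore p ↥L ≠ ⊥) :
    IsPGroup p ↥(Subgroup.centralizer (((Cfsg.pCore p ↥L).map L.subtype : Subgroup H) : Set H)) := by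
  set Y := (Cfsg.pCore p ↥L).map L.subtype with hY
  have hYp : IsPGroup p ↥Y := (isPGroup_pCore p).map _
  have hY1 : Y ≠ ⊥ := by
    intro h
    apply hO
    rw [hY] at h
    exact (Subgroup.map_eq_bot_iff_of_injective _ (Subgroup.subtype_injective L)).mp h
  have hLNY : L ≤ Subgroup.normalizer (Y : Set H) := by
    have hn : (Cfsg.pCore p ↥L).Normal := Cfsg.Agent.Helper4.pCore_normal
    have h1 := Subgroup.le_normalizer_map (H := Cfsg.pCore p ↥L) L.subtype
    rw [Subgroup.normalizer_eq_top, ← MonoidHom.range_eq_map, Subgroup.range_subtype] at h1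
    exact h1
  set D := Subgroup.centralizer (Y : Set H) with hD
  have hDNQ : D ≤ Subgroup.normalizer (Q : Set H) :=
    large_centralizer_le_normalizer Q hQp hL Y hYp hY1 (hQL.trans hLNY)
  have hLD : ∀ l ∈ L, ∀ c ∈ D, l * c * l⁻¹ ∈ D := fun l hl c hc =>
    conj_mem_centralizer_of_mem_normalizer Y l (hLNY hl) c hc
  -- Q ⊓ D ≤ Y
  have hQ1Y : Q ⊓ D ≤ Y := by
    set A : Subgroup ↥L := (Q ⊓ D).subgroupOf L with hA
    set N1 : Subgroup ↥L := D.subgroupOf L with hN1
    have hN1n : N1.Normal := by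
      constructor
      intro n hn g
      rw [hN1, Subgroup.mem_subgroupOf] at hn ⊢
      have := hLD g g.2 n hn
      simpa using this
    have hAN1 : A ≤ N1 := by
      intro a ha
      rw [hA, Subgroup.mem_subgroupOf] at ha
      rw [hN1, Subgroup.mem_subgroupOf]
      exact ha.2
    have hAn : (A.subgroupOf N1).Normal := by
      constructor
      intro a ha n
      rw [Subgroup.mem_subgroupOf, hA, Subgroup.mem_subgroupOf] at ha ⊢
      have hn : ((n : ↥L) : H) ∈ D := Subgroup.mem_subgroupOf.mp n.2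
      refine ⟨?_, ?_⟩
      · have := (Subgroup.mem_normalizer_iff.mp (hDNQ hn) _).mp ha.1
        simpa using this
      · have := D.mul_mem (D.mul_mem hn ha.2) (D.inv_mem hn)
        simpa using this
    have hAsub : A.IsSubnormal := Subgroup.IsSubnormal.step A N1 hAN1 hN1n.isSubnormal hAn
    have hAp : IsPGroup p ↥A := (hQp.to_le inf_le_left).comap_subtype
    have h1 := Cfsg.Agent.Helper2.isSubnormal_pGroup_le_pCore hAsub hAp
    intro x hx
    exact ⟨⟨x, hQL hx.1⟩, h1 (Subgroup.mem_subgroupOf.mpr hx), rfl⟩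
  apply isPGroup_of_forall_coprime_eq_one
  intro c hcD hcop
  -- c centralizes Q
  have hcQ : c ∈ Subgroup.centralizer (Q : Set H) := by
    rw [Subgroup.mem_centralizer_iff]
    intro q hq
    set z := q⁻¹ * c * q * c⁻¹ with hz
    have hzQ : z ∈ Q := by
      have h1 := (Subgroup.mem_normalizer_iff.mp (hDNQ hcD) q).mp hq
      have : z = q⁻¹ * (c * q * c⁻¹) := by rw [hz]; group
      rw [this]
      exact Q.mul_mem (Q.inv_mem hq) h1
    have hzD : z ∈ D := by
      have h1 := hLD q⁻¹ (L.inv_mem (hQL hq)) c hcD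
      rw [inv_inv] at h1
      exact D.mul_mem h1 (D.inv_mem hcD)
    have hzY : z ∈ Y := hQ1Y ⟨hzQ, hzD⟩
    have hcz : z * c = c * z := (Subgroup.mem_centralizer_iff.mp hcD) z hzY
    have hconj : c * q * c⁻¹ = q * z := by rw [hz]; group
    have hpow : ∀ n : ℕ, c ^ n * q * (c ^ n)⁻¹ = q * z ^ n := by
      intro n
      induction n with
      | zero => simp
      | succ n ih =>
        calc c ^ (n + 1) * q * (c ^ (n + 1))⁻¹ = c * (c ^ n * q * (c ^ n)⁻¹) * c⁻¹ := by
              rw [pow_succ']; group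
          _ = c * (q * z ^ n) * c⁻¹ := by rw [ih]
          _ = (c * q * c⁻¹) * (c * z ^ n * c⁻¹) := by group
          _ = (q * z) * z ^ n := by
              rw [hconj]
              have : c * z ^ n * c⁻¹ = z ^ n := by
                have hc' : Commute c z := hcz.symm
                have := (hc'.pow_right n).eq
                rw [this]; group
              rw [this]
          _ = q * z ^ (n + 1) := by rw [pow_succ']; group
    have h2 := hpow (orderOf c)
    rw [pow_orderOf_eq_one, one_mul, inv_one, mul_one] at h2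
    have h3 : z ^ orderOf c = 1 := by
      have := mul_left_cancel (a := q) (b := 1) (c := z ^ orderOf c) (by rw [mul_one]; exact h2)
      exact this.symm
    obtain ⟨k, hk⟩ := hQp ⟨z, hzQ⟩
    have hk' : z ^ p ^ k = 1 := by
      have := congrArg Subtype.val hk
      simpa using this
    have h4 : z ^ Nat.gcd (orderOf c) (p ^ k) = 1 := pow_gcd_eq_one.mpr ⟨h3, hk'⟩
    rw [Nat.Coprime.pow_right k hcop, pow_one] at h4
    have h5 : c * q * c⁻¹ = q := by rw [hconj, h4, mul_one]
    calc q * c = (c * q * c⁻¹) * c := by rw [h5]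
      _ = c * q := by group
  have hcQ' : c ∈ Q := hL.1 hcQ
  obtain ⟨k, hk⟩ := hQp ⟨c, hcQ'⟩
  have hk' : c ^ p ^ k = 1 := by
    have := congrArg Subtype.val hk
    simpa using this
  have h6 : c ^ Nat.gcd (orderOf c) (p ^ k) = 1 := pow_gcd_eq_one.mpr ⟨pow_orderOf_eq_one c, hk'⟩
  rw [Nat.Coprime.pow_right k hcop, pow_one] at h6
  exact h6

end Cfsg.Agent.Helper5
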