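import Mathlib
import Cfsg.Prelude.Def_Amalgam
import Cfsg.Agent.Helper5.Basic

/-!
Helper lemmas (helper5): the `p`-element closure of a subgroup, a Frattini factorization, and the basic
"no common normal subgroup" argument of the amalgam method.
-/

set_option autoImplicit false

namespace Cfsg.Agent.Helper5

variable {X : Type*} [Group X]

/-- a subgroup all of whose conjugates by elements of a subgroup `K` lie inside it is normalized by `K` -/
theorem le_normalizer_of_map_conj_le (K H : Subgroup X)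
    (h : ∀ k ∈ K, H.map (MulAut.conj k).toMonoidHom ≤ H) : K ≤ Subgroup.normalizer (H : Set X) := by
  intro k hk
  rw [mem_normalizer_iff_map_conj]
  refine le_antisymm (h k hk) ?_
  have h2 := h k⁻¹ (K.inv_mem hk)
  have h3 := Subgroup.map_mono (f := (MulAut.conj k).toMonoidHom) h2
  rwa [map_conj_map_conj, mul_inv_cancel, map_conj_one] at h3

theorem pElementClosure_le (p : ℕ) (A : Subgroup X) : Cfsg.pElementClosure p A ≤ A := by
  unfold Cfsg.pElementClosure
  rw [Subgroup.closure_le]
  intro x hx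
  exact hx.1

theorem le_pElementClosure_of_isPGroup {p : ℕ} [Fact p.Prime] (A T : Subgroup X) (hTA : T ≤ A)
    (hT : IsPGroup p T) : T ≤ Cfsg.pElementClosure p A := by
  intro t ht
  apply Subgroup.subset_closure
  refine ⟨hTA ht, ?_⟩
  obtain ⟨k, hk⟩ := hT ⟨t, ht⟩
  have h1 : t ^ (p ^ k) = 1 := by
    have := congrArg Subtype.val hk
    simpa using this
  obtain ⟨i, _, hi⟩ := (Nat.dvd_prime_pow Fact.out).mp (orderOf_dvd_of_pow_eq_one h1)
  exact ⟨i, hi⟩

/-- conjugation by `g` carries the `p`-element closure of `A` into that of `A^g` -/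
theorem pElementClosure_map_conj_le (p : ℕ) (A : Subgroup X) (g : X) :
    (Cfsg.pElementClosure p A).map (MulAut.conj g).toMonoidHom ≤
      Cfsg.pElementClosure p (A.map (MulAut.conj g).toMonoidHom) := by
  unfold Cfsg.pElementClosure
  rw [MonoidHom.map_closure, Subgroup.closure_le]
  rintro _ ⟨x, ⟨hxA, k, hk⟩, rfl⟩
  apply Subgroup.subset_closure
  refine ⟨Subgroup.mem_map_of_mem _ hxA, k, ?_⟩
  rw [← hk]
  exact orderOf_injective (MulAut.conj g).toMonoidHom (MulAut.conj g).injective x

theorem pElementClosure_map_conj (p : ℕ) (A : Subgroup X) (g : X) :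
    (Cfsg.pElementClosure p A).map (MulAut.conj g).toMonoidHom =
      Cfsg.pElementClosure p (A.map (MulAut.conj g).toMonoidHom) := by
  refine le_antisymm (pElementClosure_map_conj_le p A g) ?_
  have h := pElementClosure_map_conj_le p (A.map (MulAut.conj g).toMonoidHom) g⁻¹
  rw [map_conj_map_conj, inv_mul_cancel, map_conj_one] at h
  have h2 := Subgroup.map_mono (f := (MulAut.conj g).toMonoidHom) h
  rwa [map_conj_map_conj, mul_inv_cancel, map_conj_one] at h2

/-- `A` normalizes its `p`-element closure -/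
theorem le_normalizer_pElementClosure (p : ℕ) (A : Subgroup X) :
    A ≤ Subgroup.normalizer (Cfsg.pElementClosure p A : Set X) := by
  apply le_normalizer_of_map_conj_le
  intro a ha
  rw [pElementClosure_map_conj, map_conj_eq_self_of_mem _ _ ha]

/-- Frattini factorization: `A = O^{p'}(A) N_A(T)` for a Sylow `p`-subgroup `T` of `A`. -/
theorem le_pElementClosure_sup_normalizer {p : ℕ} [Fact p.Prime] (A T : Subgroup X) [Finite A]
    (hTA : T ≤ A) (hTc : Nat.card T = p ^ (Nat.card A).factorization p) :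
    A ≤ Cfsg.pElementClosure p A ⊔ (A ⊓ Subgroup.normalizer (T : Set X)) := by
  classical
  set L := Cfsg.pElementClosure p A with hL
  have hLA : L ≤ A := pElementClosure_le p A
  have hTp : IsPGroup p T := IsPGroup.of_card hTc
  have hTL : T ≤ L := le_pElementClosure_of_isPGroup A T hTA hTp
  haveI hLn : (L.subgroupOf A).Normal :=
    (Subgroup.normal_subgroupOf_iff_le_normalizer hLA).mpr (le_normalizer_pElementClosure p A)
  have hc : Nat.card (T.subgroupOf A) = p ^ (Nat.card A).factorization p := by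
    rw [← hTc]
    exact Nat.card_congr (Subgroup.subgroupOfEquivOfLe hTA).toEquiv
  let P : Sylow p A := Sylow.ofCard (T.subgroupOf A) hc
  have hPL : (P : Subgroup A) ≤ L.subgroupOf A := by
    intro x hx
    exact hTL hx
  have hF : Subgroup.normalizer ((T.subgroupOf A : Subgroup A) : Set A) ⊔ L.subgroupOf A = ⊤ :=
    Sylow.normalizer_sup_eq_top' P hPL
  rw [← Subgroup.subgroupOf_normalizer_eq hTA,
    ← Subgroup.inf_subgroupOf_right (Subgroup.normalizer (T : Set X)) A,
    ← Subgroup.subgroupOf_sup inf_le_right hLA, Subgroup.subgroupOf_eq_top] at hF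
  rw [sup_comm, inf_comm]
  exact hF

/-- the basic argument: no nontrivial subgroup of a common Sylow subgroup is normalized by both
`O^{p'}(A)` and `O^{p'}(B)`, when `N_A(T) = N_B(T)`. -/
theorem eq_bot_of_pElementClosure_le_normalizer {p : ℕ} [Fact p.Prime] (A B T U : Subgroup X)
    [Finite A] [Finite B] (hgen : A ⊔ B = ⊤)
    (hcore : ∀ N : Subgroup X, N ≤ A ⊓ B → N.Normal → N = ⊥)
    (hTA : T ≤ A) (hTB : T ≤ B)
    (hTcA : Nat.card T = p ^ (Nat.card A).factorization p)
    (hTcB : Nat.card T = p ^ (Nat.card B).factorization p)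
    (hN : A ⊓ Subgroup.normalizer (T : Set X) = B ⊓ Subgroup.normalizer (T : Set X))
    (hUT : U ≤ T)
    (hU1 : Cfsg.pElementClosure p A ≤ Subgroup.normalizer (U : Set X))
    (hU2 : Cfsg.pElementClosure p B ≤ Subgroup.normalizer (U : Set X)) : U = ⊥ := by
  classical
  set B₀ := A ⊓ Subgroup.normalizer (T : Set X) with hB₀
  set Us : Subgroup X := ⨆ b : B₀, U.map (MulAut.conj (b : X)).toMonoidHom with hUs
  have hUUs : U ≤ Us := by
    refine le_trans ?_ (le_iSup (fun b : B₀ => U.map (MulAut.conj (b : X)).toMonoidHom) 1)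
    show U ≤ U.map (MulAut.conj (1 : X)).toMonoidHom
    rw [map_conj_one]
  have hUsT : Us ≤ T := by
    rw [hUs]
    refine iSup_le ?_
    intro b
    have hb : (b : X) ∈ Subgroup.normalizer (T : Set X) := b.2.2
    rw [mem_normalizer_iff_map_conj] at hb
    rw [← hb]
    exact Subgroup.map_mono hUT
  have hB₀N : B₀ ≤ Subgroup.normalizer (Us : Set X) := by
    apply le_normalizer_of_map_conj_le
    intro b' hb'
    rw [hUs, Subgroup.map_iSup]
    refine iSup_le ?_
    intro b
    rw [map_conj_map_conj]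
    exact le_iSup (fun b : B₀ => U.map (MulAut.conj (b : X)).toMonoidHom)
      ⟨b' * b, B₀.mul_mem hb' b.2⟩
  -- a subgroup L normalized by all of B₀ and normalizing U normalizes Us
  have hLN : ∀ L : Subgroup X, B₀ ≤ Subgroup.normalizer (L : Set X) →
      L ≤ Subgroup.normalizer (U : Set X) → L ≤ Subgroup.normalizer (Us : Set X) := by
    intro L hBL hLU
    apply le_normalizer_of_map_conj_le
    intro l hl
    rw [hUs, Subgroup.map_iSup]
    refine iSup_le ?_
    intro b
    rw [map_conj_map_conj]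
    have h1 : (b : X)⁻¹ * l * (b : X) ∈ L := by
      have hb := hBL (B₀.inv_mem b.2)
      have := (Subgroup.mem_normalizer_iff.mp hb l).mp hl
      simpa using this
    have h2 := hLU h1
    rw [mem_normalizer_iff_map_conj] at h2
    have h3 : l * (b : X) = (b : X) * ((b : X)⁻¹ * l * (b : X)) := by group
    rw [h3, ← map_conj_map_conj, h2]
    exact le_iSup (fun b : B₀ => U.map (MulAut.conj (b : X)).toMonoidHom) b
  have hAN : A ≤ Subgroup.normalizer (Us : Set X) := by
    refine (le_pElementClosure_sup_normalizer A T hTA hTcA).trans (sup_le ?_ hB₀N)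
    exact hLN _ ((inf_le_left).trans (le_normalizer_pElementClosure p A)) hU1
  have hBN : B ≤ Subgroup.normalizer (Us : Set X) := by
    refine (le_pElementClosure_sup_normalizer B T hTB hTcB).trans (sup_le ?_ ?_)
    · have h' : B₀ ≤ Subgroup.normalizer (Cfsg.pElementClosure p B : Set X) := by
        rw [hN]
        exact (inf_le_left).trans (le_normalizer_pElementClosure p B)
      exact hLN _ h' hU2
    · rw [← hN]; exact hB₀N
  have hnorm : Us.Normal := by
    rw [← Subgroup.normalizer_eq_top_iff, eq_top_iff, ← hgen]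
    exact sup_le hAN hBN
  have hbot := hcore Us (hUsT.trans (le_inf hTA hTB)) hnorm
  rw [eq_bot_iff, ← hbot]
  exact hUUs

end Cfsg.Agent.Helper5

namespace Cfsg.Agent.Helper5

variable {X : Type*} [Group X]

theorem map_conj_inf' (A B : Subgroup X) (g : X) :
    (A ⊓ B).map (MulAut.conj g).toMonoidHom =
      A.map (MulAut.conj g).toMonoidHom ⊓ B.map (MulAut.conj g).toMonoidHom :=
  Subgroup.map_inf _ _ _ (MulAut.conj g).injective

theorem card_map_conj₂ (H : Subgroup X) (g : X) :
    Nat.card ↥(H.map (MulAut.conj g).toMonoidHom) = Nat.card H :=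
  Nat.card_congr (H.equivMapOfInjective _ (MulAut.conj g).injective).toEquiv.symm

theorem finite_map_conj (H : Subgroup X) [Finite H] (g : X) :
    Finite ↥(H.map (MulAut.conj g).toMonoidHom) :=
  Finite.of_equiv _ (H.equivMapOfInjective _ (MulAut.conj g).injective).toEquiv

theorem map_conj_normalizer (H : Subgroup X) (g : X) :
    (Subgroup.normalizer (H : Set X)).map (MulAut.conj g).toMonoidHom =
      Subgroup.normalizer ((H.map (MulAut.conj g).toMonoidHom : Subgroup X) : Set X) :=
  Subgroup.map_equiv_normalizer_eq H (MulAut.conj g)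

theorem charP_factorization_eq {p : ℕ} [Fact p.Prime] (M₁ M₂ : Subgroup X)
    (h : Cfsg.IsCharPAmalgamPair p M₁ M₂) :
    (Nat.card ↥(M₁ ⊓ M₂)).factorization p = (Nat.card M₁).factorization p ∧
    (Nat.card ↥(M₁ ⊓ M₂)).factorization p = (Nat.card M₂).factorization p := by
  classical
  obtain ⟨_, hf1, hf2, _, _, hS, _, _⟩ := h
  have := hf1
  have := hf2
  haveI : Finite ↥(M₁ ⊓ M₂) := Finite.of_injective (Subgroup.inclusion (inf_le_left : M₁ ⊓ M₂ ≤ M₁))
    (Subgroup.inclusion_injective _)
  have hpp : p.Prime := Fact.out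
  obtain ⟨h1, h2⟩ := hS default default default
  rw [Sylow.card_eq_multiplicity, Sylow.card_eq_multiplicity] at h1 h2
  exact ⟨Nat.pow_right_injective hpp.two_le h1, Nat.pow_right_injective hpp.two_le h2⟩

/-- the basic argument at an arbitrary edge `(x M₁, x M₂)` -/
theorem spe_edge_eq_bot {p : ℕ} [Fact p.Prime] (M₁ M₂ : Subgroup X)
    (h : Cfsg.IsSpeAmalgamPair p M₁ M₂) (x : X) (T U : Subgroup X)
    (hT1 : T ≤ M₁.map (MulAut.conj x).toMonoidHom) (hT2 : T ≤ M₂.map (MulAut.conj x).toMonoidHom)
    (hTc : Nat.card T = p ^ (Nat.card ↥(M₁ ⊓ M₂)).factorization p) (hUT : U ≤ T)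
    (hU1 : Cfsg.pElementClosure p (M₁.map (MulAut.conj x).toMonoidHom) ≤
      Subgroup.normalizer (U : Set X))
    (hU2 : Cfsg.pElementClosure p (M₂.map (MulAut.conj x).toMonoidHom) ≤
      Subgroup.normalizer (U : Set X)) : U = ⊥ := by
  classical
  have hfac := charP_factorization_eq M₁ M₂ h.1
  obtain ⟨⟨⟨hgen, _, _, hcore⟩, hf1, hf2, _⟩, hnorm, _, _⟩ := h
  have := hf1
  have := hf2
  haveI : Finite ↥(M₁ ⊓ M₂) := Finite.of_injective (Subgroup.inclusion (inf_le_left : M₁ ⊓ M₂ ≤ M₁))
    (Subgroup.inclusion_injective _)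
  haveI := finite_map_conj M₁ x
  haveI := finite_map_conj M₂ x
  set A := M₁.map (MulAut.conj x).toMonoidHom with hA
  set B := M₂.map (MulAut.conj x).toMonoidHom with hB
  have hAB : A ⊓ B = (M₁ ⊓ M₂).map (MulAut.conj x).toMonoidHom := (map_conj_inf' M₁ M₂ x).symm
  apply eq_bot_of_pElementClosure_le_normalizer (p := p) A B T U
  · rw [hA, hB, ← Subgroup.map_sup, hgen]
    exact Subgroup.map_top_of_surjective _ (MulAut.conj x).surjective
  · intro N hN hNn
    apply hcore N _ hNn
    have h1 : N.map (MulAut.conj x⁻¹).toMonoidHom = N := by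
      rw [← mem_normalizer_iff_map_conj, Subgroup.normalizer_eq_top_iff.mpr hNn]
      exact Subgroup.mem_top _
    rw [← h1]
    have h2 := Subgroup.map_mono (f := (MulAut.conj x⁻¹).toMonoidHom) hN
    rwa [hAB, map_conj_map_conj, inv_mul_cancel, map_conj_one] at h2
  · exact hT1
  · exact hT2
  · rw [hTc, hfac.1, hA, card_map_conj₂]
  · rw [hTc, hfac.2, hB, card_map_conj₂]
  · -- normalizer condition
    set T₀ := T.map (MulAut.conj x⁻¹).toMonoidHom with hT₀
    have hT₀le : T₀ ≤ M₁ ⊓ M₂ := by
      have h2 := Subgroup.map_mono (f := (MulAut.conj x⁻¹).toMonoidHom) (le_inf hT1 hT2)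
      rwa [hAB, map_conj_map_conj, inv_mul_cancel, map_conj_one] at h2
    have hT₀T : T₀.map (MulAut.conj x).toMonoidHom = T := by
      rw [hT₀, map_conj_map_conj, mul_inv_cancel, map_conj_one]
    have hc : Nat.card (T₀.subgroupOf (M₁ ⊓ M₂)) = p ^ (Nat.card ↥(M₁ ⊓ M₂)).factorization p := by
      rw [← hTc, ← card_map_conj₂ T x⁻¹]
      exact Nat.card_congr (Subgroup.subgroupOfEquivOfLe hT₀le).toEquiv
    have hS₀ := hnorm (Sylow.ofCard (T₀.subgroupOf (M₁ ⊓ M₂)) hc)
    rw [Sylow.coe_ofCard, Subgroup.subgroupOf_map_subtype, inf_of_le_left hT₀le] at hS₀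
    have h3 := congrArg (Subgroup.map (MulAut.conj x).toMonoidHom) hS₀.1
    rwa [map_conj_inf', map_conj_inf', map_conj_normalizer, hT₀T] at h3
  · exact hUT
  · exact hU1
  · exact hU2

end Cfsg.Agent.Helper5
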