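import Mathlib
import Cfsg.Prelude.Def_Amalgam
import Cfsg.Agent.Helper5.Basic
import Cfsg.Agent.Helper5.AmalgamBase
import Cfsg.Agent.Helper5.CosetGraph
import Cfsg.Agent.Helper1.StableNormalClosure
import Cfsg.Agent.S2740

/-!
Helper lemmas (helper5): critical pairs on the coset graph.
-/

set_option autoImplicit false

namespace Cfsg.Agent.Helper5

variable {X : Type*} [Group X]

/-- in a connected graph, a vertex at distance `n + 1` has a neighbour at distance `n` -/
theorem exists_adj_dist_eq {V : Type*} (Γ : SimpleGraph V) (hconn : Γ.Connected) (u v : V) (n : ℕ)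
    (h : Γ.dist u v = n + 1) : ∃ w, Γ.Adj u w ∧ Γ.dist w v = n := by
  obtain ⟨q, hq⟩ := hconn.exists_walk_length_eq_dist u v
  rw [h] at hq
  cases q with
  | nil => simp at hq
  | cons hadj q' =>
    rename_i w
    refine ⟨w, hadj, ?_⟩
    have h1 : q'.length = n := by simpa using hq
    have h2 : Γ.dist w v ≤ n := h1 ▸ SimpleGraph.dist_le q'
    have h3 : Γ.dist u v ≤ Γ.dist u w + Γ.dist w v := hconn.dist_triangle
    have h4 : Γ.dist u w = 1 := SimpleGraph.dist_eq_one_iff_adj.mpr hadj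
    omega

/-- `Z_H ≤ H` -/
theorem sylowCenterClosure_le (p : ℕ) (H : Subgroup X) : Cfsg.sylowCenterClosure p H ≤ H := by
  unfold Cfsg.sylowCenterClosure
  refine iSup_le ?_
  intro S
  unfold Cfsg.omegaOne
  rw [Subgroup.closure_le]
  intro x hx
  exact Subgroup.map_subtype_le _ (Subgroup.mem_inf.mp hx.1).1

/-- `H` normalizes `Z_H` -/
theorem le_normalizer_sylowCenterClosure (p : ℕ) [Fact p.Prime] (H : Subgroup X) :
    H ≤ Subgroup.normalizer (Cfsg.sylowCenterClosure p H : Set X) := by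
  apply le_normalizer_of_map_conj_le
  intro h hh
  unfold Cfsg.sylowCenterClosure
  rw [Subgroup.map_iSup]
  refine iSup_le ?_
  intro S
  rw [Cfsg.Agent.Helper1.omegaOne_map_of_injective p _ _ (MulAut.conj h).injective,
    Subgroup.map_inf _ _ _ (MulAut.conj h).injective]
  have h1 : (Subgroup.centralizer (((S : Subgroup H).map H.subtype : Subgroup X) : Set X)).map
      (MulAut.conj h).toMonoidHom = Subgroup.centralizer
        ((((S : Subgroup H).map H.subtype).map (MulAut.conj h).toMonoidHom : Subgroup X) : Set X) :=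
    Cfsg.Agent.Helper1.centralizer_map_equiv (MulAut.conj h) _
  rw [h1]
  have h2 : ((S : Subgroup H).map H.subtype).map (MulAut.conj h).toMonoidHom =
      (((⟨h, hh⟩ : H) • S : Sylow p H) : Subgroup H).map H.subtype := by
    rw [Sylow.coe_subgroup_smul]
    show _ = ((S : Subgroup H).map (MulAut.conj (⟨h, hh⟩ : H)).toMonoidHom).map H.subtype
    rw [Subgroup.map_map, Subgroup.map_map]
    congr 1
  rw [h2]
  exact le_iSup (fun S : Sylow p H => Cfsg.omegaOne p (((S : Subgroup H).map H.subtype) ⊓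
      Subgroup.centralizer (((S : Subgroup H).map H.subtype : Subgroup X) : Set X)))
    ((⟨h, hh⟩ : H) • S)

variable (M₁ M₂ : Subgroup X)

theorem neighbourKernel_le_stabilizer (μ ν : Cfsg.CosetVertex M₁ M₂)
    (h : (Cfsg.cosetGraph M₁ M₂).Adj μ ν) : Cfsg.neighbourKernel μ ≤ MulAction.stabilizer X ν := by
  unfold Cfsg.neighbourKernel
  exact inf_le_right.trans (iInf₂_le ν ((SimpleGraph.mem_neighborSet _ _ _).mpr h))

/-- below the critical distance, `Z_δ` lies in the kernel `G_μ^{(1)}` -/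
theorem vertexZ_le_neighbourKernel_of_lt (p : ℕ) (δ μ : Cfsg.CosetVertex M₁ M₂)
    (h : (Cfsg.cosetGraph M₁ M₂).dist δ μ < Cfsg.criticalDistance p M₁ M₂) :
    Cfsg.vertexZ p δ ≤ Cfsg.neighbourKernel μ := by
  by_contra hcon
  have : Cfsg.criticalDistance p M₁ M₂ ≤ (Cfsg.cosetGraph M₁ M₂).dist δ μ := by
    unfold Cfsg.criticalDistance
    exact Nat.sInf_le ⟨δ, μ, rfl, hcon⟩
  omega

/-- at the critical distance, `Z_δ` stabilizes `μ` -/
theorem vertexZ_le_stabilizer_of_dist_eq (p : ℕ) (hgen : M₁ ⊔ M₂ = ⊤) (δ μ : Cfsg.CosetVertex M₁ M₂)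
    (h : (Cfsg.cosetGraph M₁ M₂).dist δ μ = Cfsg.criticalDistance p M₁ M₂) :
    Cfsg.vertexZ p δ ≤ MulAction.stabilizer X μ := by
  have hconn : (Cfsg.cosetGraph M₁ M₂).Connected := Cfsg.Agent.S2740.result M₁ M₂ hgen
  rcases Nat.eq_zero_or_pos (Cfsg.criticalDistance p M₁ M₂) with hb | hb
  · rw [hb, hconn.dist_eq_zero_iff] at h
    subst h
    exact sylowCenterClosure_le p _
  · obtain ⟨n, hn⟩ := Nat.exists_eq_succ_of_ne_zero hb.ne'
    have h' : (Cfsg.cosetGraph M₁ M₂).dist μ δ = n + 1 := by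
      rw [SimpleGraph.dist_comm, h, hn]
    obtain ⟨w, hadj, hw⟩ := exists_adj_dist_eq _ hconn μ δ n h'
    have h1 : Cfsg.vertexZ p δ ≤ Cfsg.neighbourKernel w := by
      apply vertexZ_le_neighbourKernel_of_lt
      rw [SimpleGraph.dist_comm, hw, hn]
      exact Nat.lt_succ_self n
    exact h1.trans (neighbourKernel_le_stabilizer M₁ M₂ w μ hadj.symm)

end Cfsg.Agent.Helper5

namespace Cfsg.Agent.Helper5

variable {X : Type*} [Group X]

/-- `Ω₁(Z(T))` is equivariant under conjugation -/
theorem omegaCenter_map_conj (p : ℕ) (T : Subgroup X) (g : X) :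
    (Cfsg.omegaOne p (T ⊓ Subgroup.centralizer (T : Set X))).map (MulAut.conj g).toMonoidHom =
      Cfsg.omegaOne p (T.map (MulAut.conj g).toMonoidHom ⊓
        Subgroup.centralizer ((T.map (MulAut.conj g).toMonoidHom : Subgroup X) : Set X)) := by
  rw [Cfsg.Agent.Helper1.omegaOne_map_of_injective p _ _ (MulAut.conj g).injective,
    Subgroup.map_inf _ _ _ (MulAut.conj g).injective]
  have h1 : (Subgroup.centralizer (T : Set X)).map (MulAut.conj g).toMonoidHom =
      Subgroup.centralizer ((T.map (MulAut.conj g).toMonoidHom : Subgroup X) : Set X) :=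
    Cfsg.Agent.Helper1.centralizer_map_equiv (MulAut.conj g) _
  rw [h1]

/-- a subgroup of `H` of full `p`-power order is the image of a Sylow subgroup of `H` -/
theorem exists_sylow_map_eq {p : ℕ} [Fact p.Prime] (H T : Subgroup X) [Finite H] (hTH : T ≤ H)
    (hc : Nat.card T = p ^ (Nat.card H).factorization p) :
    ∃ P : Sylow p H, (P : Subgroup H).map H.subtype = T := by
  have hc' : Nat.card (T.subgroupOf H) = p ^ (Nat.card H).factorization p := by
    rw [← hc]
    exact Nat.card_congr (Subgroup.subgroupOfEquivOfLe hTH).toEquiv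
  refine ⟨Sylow.ofCard (T.subgroupOf H) hc', ?_⟩
  rw [Sylow.coe_ofCard, Subgroup.subgroupOf_map_subtype, inf_of_le_left hTH]

/-- two Sylow subgroups of `H`, viewed in `X`, are conjugate by an element of `H` -/
theorem sylow_map_conj_eq {p : ℕ} [Fact p.Prime] (H : Subgroup X) [Finite H] (P Q : Sylow p H) :
    ∃ g ∈ H, ((P : Subgroup H).map H.subtype).map (MulAut.conj g).toMonoidHom =
      (Q : Subgroup H).map H.subtype := by
  obtain ⟨g, hg⟩ := MulAction.exists_smul_eq H P Q
  refine ⟨(g : X), g.2, ?_⟩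
  rw [← hg, Sylow.coe_subgroup_smul]
  show _ = ((P : Subgroup H).map (MulAut.conj g).toMonoidHom).map H.subtype
  rw [Subgroup.map_map, Subgroup.map_map]
  congr 1

variable (M₁ M₂ : Subgroup X)

/-- the orders at an edge of the coset graph of a characteristic `p` amalgam pair -/
theorem edge_factorization {p : ℕ} [Fact p.Prime] (h : Cfsg.IsCharPAmalgamPair p M₁ M₂)
    (δ μ : Cfsg.CosetVertex M₁ M₂) (hadj : (Cfsg.cosetGraph M₁ M₂).Adj δ μ) :
    Finite ↥(MulAction.stabilizer X δ) ∧ Finite ↥(MulAction.stabilizer X μ) ∧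
    (Nat.card ↥(MulAction.stabilizer X δ ⊓ MulAction.stabilizer X μ)).factorization p =
      (Nat.card ↥(MulAction.stabilizer X δ)).factorization p ∧
    (Nat.card ↥(MulAction.stabilizer X δ ⊓ MulAction.stabilizer X μ)).factorization p =
      (Nat.card ↥(MulAction.stabilizer X μ)).factorization p := by
  have hfac := charP_factorization_eq M₁ M₂ h
  have hf1 : Finite M₁ := h.2.1
  have hf2 : Finite M₂ := h.2.2.1
  rcases (cosetGraph_adj_iff M₁ M₂ δ μ).mp hadj with ⟨x, rfl, rfl⟩ | ⟨x, rfl, rfl⟩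
  · rw [stabilizer_inl, stabilizer_inr, ← map_conj_inf', card_map_conj₂, card_map_conj₂, card_map_conj₂]
    exact ⟨finite_map_conj _ x, finite_map_conj _ x, hfac.1, hfac.2⟩
  · rw [stabilizer_inl, stabilizer_inr, ← map_conj_inf', card_map_conj₂, card_map_conj₂, card_map_conj₂,
      inf_comm]
    exact ⟨finite_map_conj _ x, finite_map_conj _ x, hfac.2, hfac.1⟩

end Cfsg.Agent.Helper5

namespace Cfsg.Agent.Helper5

variable {X : Type*} [Group X] (M₁ M₂ : Subgroup X)

/-- if `Z_α = Ω₁(Z(T))` for a Sylow subgroup `T` of `G_α`, then `Z_α` fixes every neighbour `β` of `α`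
and lies in `Z_β` -/
theorem vertexZ_le_of_eq_omegaCenter {p : ℕ} [Fact p.Prime] (h : Cfsg.IsCharPAmalgamPair p M₁ M₂)
    (α β : Cfsg.CosetVertex M₁ M₂) (hadj : (Cfsg.cosetGraph M₁ M₂).Adj α β)
    (S : Sylow p ↥(MulAction.stabilizer X α)) (T : Subgroup X)
    (hT : T = (S : Subgroup ↥(MulAction.stabilizer X α)).map (MulAction.stabilizer X α).subtype)
    (hZ : Cfsg.vertexZ p α = Cfsg.omegaOne p (T ⊓ Subgroup.centralizer (T : Set X))) :
    Cfsg.vertexZ p α ≤ MulAction.stabilizer X β ∧ Cfsg.vertexZ p α ≤ Cfsg.vertexZ p β := by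
  classical
  obtain ⟨fα, fβ, e1, e2⟩ := edge_factorization M₁ M₂ h α β hadj
  set E := MulAction.stabilizer X α ⊓ MulAction.stabilizer X β with hE
  haveI : Finite ↥E := Finite.of_injective (Subgroup.inclusion (inf_le_left : E ≤ MulAction.stabilizer X α))
    (Subgroup.inclusion_injective _)
  let P₀ : Sylow p ↥E := default
  set T' : Subgroup X := (P₀ : Subgroup ↥E).map E.subtype with hT'
  have hT'E : T' ≤ E := Subgroup.map_subtype_le _
  have hcT' : Nat.card T' = p ^ (Nat.card ↥E).factorization p := by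
    rw [← P₀.card_eq_multiplicity]
    exact Nat.card_congr ((P₀ : Subgroup ↥E).equivMapOfInjective _
      (Subgroup.subtype_injective _)).toEquiv.symm
  obtain ⟨Pα, hPα⟩ := exists_sylow_map_eq (MulAction.stabilizer X α) T' (hT'E.trans inf_le_left)
    (by rw [hcT', e1])
  obtain ⟨Pβ, hPβ⟩ := exists_sylow_map_eq (MulAction.stabilizer X β) T' (hT'E.trans inf_le_right)
    (by rw [hcT', e2])
  obtain ⟨g, hg, hgT⟩ := sylow_map_conj_eq (MulAction.stabilizer X α) S Pα
  rw [← hT, hPα] at hgT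
  have hΩ : Cfsg.omegaOne p (T' ⊓ Subgroup.centralizer (T' : Set X)) = Cfsg.vertexZ p α := by
    rw [← hgT, ← omegaCenter_map_conj, ← hZ]
    have := le_normalizer_sylowCenterClosure p (MulAction.stabilizer X α) hg
    rwa [mem_normalizer_iff_map_conj] at this
  constructor
  · rw [← hΩ]
    unfold Cfsg.omegaOne
    rw [Subgroup.closure_le]
    intro x hx
    exact (hT'E.trans inf_le_right) (Subgroup.mem_inf.mp hx.1).1
  · rw [← hΩ, ← hPβ]
    exact le_iSup (fun S : Sylow p ↥(MulAction.stabilizer X β) =>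
      Cfsg.omegaOne p (((S : Subgroup ↥(MulAction.stabilizer X β)).map
        (MulAction.stabilizer X β).subtype) ⊓
      Subgroup.centralizer (((S : Subgroup ↥(MulAction.stabilizer X β)).map
        (MulAction.stabilizer X β).subtype : Subgroup X) : Set X))) Pβ

end Cfsg.Agent.Helper5
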