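import Mathlib
import Cfsg.Prelude.Def_Amalgam
import Cfsg.Agent.Helper5.CriticalPair
import Cfsg.Agent.Helper5.CharP
import Cfsg.Agent.Helper5.CharP2
import Cfsg.Agent.Helper5.Cores

/-!
Helper lemmas (helper5): vertex stabilizers of a characteristic `p` amalgam pair.
-/

set_option autoImplicit false

namespace Cfsg.Agent.Helper5

variable {X : Type*} [Group X] (M₁ M₂ : Subgroup X)

/-- adjacent vertex stabilizers generate `X` and contain no common nontrivial normal subgroup of `X` -/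
theorem edge_core_free (h : Cfsg.IsAmalgamPair M₁ M₂) (δ μ : Cfsg.CosetVertex M₁ M₂)
    (hadj : (Cfsg.cosetGraph M₁ M₂).Adj δ μ) :
    MulAction.stabilizer X δ ⊔ MulAction.stabilizer X μ = ⊤ ∧
    ∀ N : Subgroup X, N ≤ MulAction.stabilizer X δ ⊓ MulAction.stabilizer X μ → N.Normal → N = ⊥ := by
  obtain ⟨hgen, _, _, hcore⟩ := h
  have key : ∀ x : X, M₁.map (MulAut.conj x).toMonoidHom ⊔ M₂.map (MulAut.conj x).toMonoidHom = ⊤ ∧
      ∀ N : Subgroup X, N ≤ M₁.map (MulAut.conj x).toMonoidHom ⊓ M₂.map (MulAut.conj x).toMonoidHom →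
        N.Normal → N = ⊥ := by
    intro x
    constructor
    · rw [← Subgroup.map_sup, hgen]
      exact Subgroup.map_top_of_surjective _ (MulAut.conj x).surjective
    · intro N hN hNn
      apply hcore N _ hNn
      have h1 : N.map (MulAut.conj x⁻¹).toMonoidHom = N := by
        rw [← mem_normalizer_iff_map_conj, Subgroup.normalizer_eq_top_iff.mpr hNn]
        exact Subgroup.mem_top _
      rw [← h1]
      have h2 := Subgroup.map_mono (f := (MulAut.conj x⁻¹).toMonoidHom) hN
      rwa [← map_conj_inf', map_conj_map_conj, inv_mul_cancel, map_conj_one] at h2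
  rcases (cosetGraph_adj_iff M₁ M₂ δ μ).mp hadj with ⟨x, rfl, rfl⟩ | ⟨x, rfl, rfl⟩
  · rw [stabilizer_inl, stabilizer_inr]
    exact key x
  · rw [stabilizer_inl, stabilizer_inr, sup_comm, inf_comm]
    exact key x

/-- vertex stabilizers have characteristic `p`, in the ambient group -/
theorem vertex_charP {p : ℕ} [Fact p.Prime] (h : Cfsg.IsCharPAmalgamPair p M₁ M₂)
    (δ : Cfsg.CosetVertex M₁ M₂) :
    MulAction.stabilizer X δ ⊓ Subgroup.centralizer (Cfsg.pCoreOf p (MulAction.stabilizer X δ) : Set X) ≤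
      Cfsg.pCoreOf p (MulAction.stabilizer X δ) := by
  have hc1 : HasCharP p ↥M₁ := h.2.2.2.2.2.2.1
  have hc2 : HasCharP p ↥M₂ := h.2.2.2.2.2.2.2
  have hchar : HasCharP p ↥(MulAction.stabilizer X δ) := by
    rcases vertex_cases M₁ M₂ δ with ⟨x, rfl⟩ | ⟨x, rfl⟩
    · rw [stabilizer_inl]
      exact hc1.of_equiv (M₁.equivMapOfInjective _ (MulAut.conj x).injective)
    · rw [stabilizer_inr]
      exact hc2.of_equiv (M₂.equivMapOfInjective _ (MulAut.conj x).injective)
  intro c hc
  obtain ⟨hcA, hcC⟩ := Subgroup.mem_inf.mp hc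
  have h1 : (⟨c, hcA⟩ : ↥(MulAction.stabilizer X δ)) ∈
      Subgroup.centralizer (Cfsg.pCore p ↥(MulAction.stabilizer X δ) : Set ↥(MulAction.stabilizer X δ)) := by
    rw [mem_centralizer_pCore_iff]
    exact hcC
  exact ⟨⟨c, hcA⟩, hchar h1, rfl⟩

theorem omegaOne_mono' (p : ℕ) {H K : Subgroup X} (h : H ≤ K) : Cfsg.omegaOne p H ≤ Cfsg.omegaOne p K := by
  unfold Cfsg.omegaOne
  apply Subgroup.closure_mono
  intro x hx
  exact ⟨h hx.1, hx.2⟩

theorem omegaOne_le' (p : ℕ) (H : Subgroup X) : Cfsg.omegaOne p H ≤ H := by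
  unfold Cfsg.omegaOne
  rw [Subgroup.closure_le]
  intro x hx
  exact hx.1

/-- `Ω₁` of a subgroup normalized by `A` is normalized by `A` -/
theorem le_normalizer_omegaOne (p : ℕ) (A H : Subgroup X) (h : A ≤ Subgroup.normalizer (H : Set X)) :
    A ≤ Subgroup.normalizer (Cfsg.omegaOne p H : Set X) := by
  apply le_normalizer_of_map_conj_le
  intro a ha
  rw [Cfsg.Agent.Helper1.omegaOne_map_of_injective p _ _ (MulAut.conj a).injective]
  have := h ha
  rw [mem_normalizer_iff_map_conj] at this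
  rw [this]

/-- a nontrivial finite `p`-group has nontrivial `Ω₁` -/
theorem omegaOne_ne_bot {p : ℕ} [Fact p.Prime] (H : Subgroup X) [Finite H] (hH : IsPGroup p H)
    (hne : H ≠ ⊥) : Cfsg.omegaOne p H ≠ ⊥ := by
  have hnt : Nontrivial H := (Subgroup.nontrivial_iff_ne_bot H).mpr hne
  obtain ⟨n, hn⟩ := IsPGroup.iff_card.mp hH
  have hn0 : n ≠ 0 := by
    intro h0
    rw [h0, pow_zero] at hn
    have := Finite.one_lt_card_iff_nontrivial.mpr hnt
    omega
  have hdvd : p ∣ Nat.card H := by rw [hn]; exact dvd_pow_self p hn0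
  obtain ⟨g, hg⟩ := exists_prime_orderOf_dvd_card' p hdvd
  intro hbot
  have hmem : (g : X) ∈ Cfsg.omegaOne p H := by
    apply Subgroup.subset_closure
    refine ⟨g.2, ?_⟩
    have : g ^ p = 1 := by rw [← hg]; exact pow_orderOf_eq_one g
    have := congrArg Subtype.val this
    simpa using this
  rw [hbot, Subgroup.mem_bot] at hmem
  have hg1 : g = 1 := Subtype.ext hmem
  rw [hg1, orderOf_one] at hg
  exact (Fact.out : p.Prime).ne_one hg.symm

end Cfsg.Agent.Helper5
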