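import Mathlib
import Cfsg.Prelude.Def_OddOrderLocal

set_option autoImplicit false

/-!
Helper lemmas (helper5): metacyclic groups — index bounds and quotients.
-/

namespace Cfsg.Agent.Helper5.Meta2

variable {X : Type*} [Group X]

/-- generators of a metacyclic group -/
theorem metacyclic_gens (hm : Cfsg.IsMetacyclic X) :
    ∃ a b : X, ∀ x : X, ∃ i j : ℤ, x = b ^ j * a ^ i := by
  obtain ⟨N, hNn, hNc, hQc⟩ := hm
  obtain ⟨a, ha⟩ := hNc.exists_generator
  obtain ⟨b', hb'⟩ := hQc.exists_generator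
  obtain ⟨b, rfl⟩ := QuotientGroup.mk_surjective b'
  refine ⟨(a : X), b, ?_⟩
  intro x
  obtain ⟨j, hj⟩ := Subgroup.mem_zpowers_iff.1 (hb' (x : X ⧸ N))
  have h1 : ((b ^ j : X) : X ⧸ N) = (x : X ⧸ N) := by
    rw [← hj]; rfl
  rw [QuotientGroup.eq] at h1
  obtain ⟨i, hi⟩ := Subgroup.mem_zpowers_iff.1 (ha ⟨_, h1⟩)
  refine ⟨i, j, ?_⟩
  have h2 : ((a ^ i : N) : X) = (b ^ j)⁻¹ * x := by rw [hi]
  rw [Subgroup.coe_zpow] at h2
  rw [h2]; group

/-- In a metacyclic group, a normal subgroup containing all `m`-th powers has index at most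
`m ^ 2`. -/
theorem index_le_sq_of_pow_mem (hm : Cfsg.IsMetacyclic X) (N : Subgroup X) [N.Normal] (m : ℕ)
    (hm0 : 0 < m) (h : ∀ x : X, x ^ m ∈ N) : Nat.card (X ⧸ N) ≤ m ^ 2 := by
  obtain ⟨a, b, hdec⟩ := metacyclic_gens hm
  have hpa : ((a : X ⧸ N)) ^ m = 1 := by
    rw [← QuotientGroup.mk_pow, QuotientGroup.eq_one_iff]
    exact h a
  have hpb : ((b : X ⧸ N)) ^ m = 1 := by
    rw [← QuotientGroup.mk_pow, QuotientGroup.eq_one_iff]
    exact h b
  have hpa' : ((a : X ⧸ N)) ^ (m : ℤ) = 1 := by rw [zpow_natCast]; exact hpa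
  have hpb' : ((b : X ⧸ N)) ^ (m : ℤ) = 1 := by rw [zpow_natCast]; exact hpb
  have hppos : (0 : ℤ) < m := by exact_mod_cast hm0
  let F : Fin m × Fin m → X ⧸ N := fun ij =>
    (b : X ⧸ N) ^ (ij.1 : ℕ) * ((a : X) : X ⧸ N) ^ (ij.2 : ℕ)
  have hF : Function.Surjective F := by
    intro x
    obtain ⟨x, rfl⟩ := QuotientGroup.mk_surjective x
    obtain ⟨i, j, hx⟩ := hdec x
    have hj0 : 0 ≤ j % (m : ℤ) := Int.emod_nonneg _ hppos.ne'
    have hi0 : 0 ≤ i % (m : ℤ) := Int.emod_nonneg _ hppos.ne'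
    have hjlt : j % (m : ℤ) < m := Int.emod_lt_of_pos _ hppos
    have hilt : i % (m : ℤ) < m := Int.emod_lt_of_pos _ hppos
    have hj1 : (j % (m : ℤ)).toNat < m := by omega
    have hi1 : (i % (m : ℤ)).toNat < m := by omega
    refine ⟨(⟨(j % (m : ℤ)).toNat, hj1⟩, ⟨(i % (m : ℤ)).toNat, hi1⟩), ?_⟩
    show (b : X ⧸ N) ^ ((j % (m : ℤ)).toNat) *
      ((a : X) : X ⧸ N) ^ ((i % (m : ℤ)).toNat) = (x : X ⧸ N)
    rw [hx, QuotientGroup.mk_mul, QuotientGroup.mk_zpow, QuotientGroup.mk_zpow,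
      zpow_eq_zpow_emod j hpb', zpow_eq_zpow_emod i hpa', ← zpow_natCast, ← zpow_natCast,
      Int.toNat_of_nonneg hj0, Int.toNat_of_nonneg hi0]
  have h1 := Nat.card_le_card_of_surjective F hF
  rw [Nat.card_prod, Nat.card_fin] at h1
  rw [sq]; exact h1

/-- a group of exponent dividing `m` which is metacyclic has order at most `m ^ 2` -/
theorem card_le_sq_of_pow_eq_one [Finite X] (hm : Cfsg.IsMetacyclic X) (m : ℕ)
    (hm0 : 0 < m) (h : ∀ x : X, x ^ m = 1) : Nat.card X ≤ m ^ 2 := by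
  have h1 := index_le_sq_of_pow_mem hm (⊥ : Subgroup X) m hm0
    (fun x => by rw [h x]; exact Subgroup.one_mem _)
  have h2 : Nat.card (X ⧸ (⊥ : Subgroup X)) = Nat.card X :=
    Nat.card_congr (QuotientGroup.quotientBot (G := X)).toEquiv
  rw [h2] at h1
  exact h1

/-- quotients of metacyclic groups are metacyclic -/
theorem isMetacyclic_quotient (hm : Cfsg.IsMetacyclic X) (M : Subgroup X) [M.Normal] :
    Cfsg.IsMetacyclic (X ⧸ M) := by
  obtain ⟨N, hNn, hNc, hQc⟩ := hm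
  have hsurj := QuotientGroup.mk'_surjective M
  have hN' : (N.map (QuotientGroup.mk' M)).Normal := hNn.map _ hsurj
  refine ⟨N.map (QuotientGroup.mk' M), hN', ?_, ?_⟩
  · exact isCyclic_of_surjective ((QuotientGroup.mk' M).subgroupMap N)
      ((QuotientGroup.mk' M).subgroupMap_surjective N)
  · have hle : N ≤ (N.map (QuotientGroup.mk' M)).comap (QuotientGroup.mk' M) :=
      Subgroup.le_comap_map _ _
    apply isCyclic_of_surjective (QuotientGroup.map N (N.map (QuotientGroup.mk' M))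
      (QuotientGroup.mk' M) hle)
    intro y
    obtain ⟨y, rfl⟩ := QuotientGroup.mk_surjective y
    obtain ⟨x, rfl⟩ := hsurj y
    exact ⟨(x : X ⧸ N), rfl⟩

end Cfsg.Agent.Helper5.Meta2
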