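import Mathlib
import Cfsg.Agent.Helper5.Meta2A
import Cfsg.Agent.Helper4.Q8AutD

set_option autoImplicit false

namespace Cfsg.Agent.Helper5.Meta2

open Cfsg.Agent.Helper4

variable {X : Type*} [Group X]

/-- powers of an automorphism preserve an invariant subgroup -/
theorem pow_mem_iff (N : Subgroup X) (α : MulAut X) (hαN : ∀ n, α n ∈ N ↔ n ∈ N) (k : ℕ) (n : X) :
    (α ^ k) n ∈ N ↔ n ∈ N := by
  induction k with
  | zero => rw [pow_zero, MulAut.one_apply]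
  | succ k ih => rw [pow_succ', MulAut.mul_apply, hαN, ih]

/-- the basic data of an odd-order automorphism acting on a quotient of order at most four -/
theorem v4_data [Finite X] (hP : IsPGroup 2 X) (N : Subgroup X) [N.Normal]
    (hNΦ : N ≤ frattini X) (hcomm : ∀ u v : X, u⁻¹ * v⁻¹ * u * v ∈ N)
    (hidx : Nat.card (X ⧸ N) ≤ 4) (α : MulAut X) (hαN : ∀ n, α n ∈ N ↔ n ∈ N) (r : ℕ)
    (hr : r.Prime) (hr2 : r ≠ 2) (hord : orderOf α = r) :
    N.index = 4 ∧ (∀ u : X, u ^ 2 ∈ N) ∧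
      (∀ u v : X, u ∉ N → v ∉ N → ∃ k : ℕ, v⁻¹ * (α ^ k) u ∈ N) ∧
      ∀ a : X, a ∉ N → a⁻¹ * α a ∉ N := by
  have hF2 : Fact (Nat.Prime 2) := ⟨Nat.prime_two⟩
  obtain ⟨x, hx⟩ := exists_moved_coset hP N hNΦ α r hr hr2 hord
  have hαr : α ^ r = 1 := by rw [← hord]; exact pow_orderOf_eq_one α
  have hodd : Odd r := hr.odd_of_ne_two hr2
  have hxN : x ∉ N := by
    intro h
    exact hx (N.mul_mem (N.inv_mem h) ((hαN x).mpr h))
  have h4 : N.index = 4 := by
    obtain ⟨k, hk⟩ := hP.index N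
    rw [Subgroup.index_eq_card] at hk
    rw [hk] at hidx
    have hk2 : k ≤ 2 := by
      by_contra h
      have := Nat.pow_le_pow_right (n := 2) (by norm_num) (show 3 ≤ k by omega)
      omega
    rw [Subgroup.index_eq_card, hk]
    interval_cases k
    · exfalso
      have h1 : N.index = 1 := by rw [Subgroup.index_eq_card, hk]; norm_num
      rw [Subgroup.index_eq_one] at h1
      rw [h1] at hxN
      exact hxN (Subgroup.mem_top x)
    · exfalso
      have h1 : N.index = 2 := by rw [Subgroup.index_eq_card, hk]; norm_num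
      apply hx
      rw [Subgroup.mul_mem_iff_of_index_two h1, Subgroup.inv_mem_iff, hαN]
    · norm_num
  obtain ⟨h1, h2, h3⟩ := v4_structure N hcomm h4 α hαN r hodd hαr x hx
  refine ⟨h4, h1, h2, ?_⟩
  intro a haN hc
  have hall : ∀ k : ℕ, a⁻¹ * (α ^ k) a ∈ N := by
    intro k
    induction k with
    | zero => rw [pow_zero, MulAut.one_apply, inv_mul_cancel]; exact N.one_mem
    | succ k ih =>
      have e : a⁻¹ * (α ^ (k + 1)) a = (a⁻¹ * (α ^ k) a) * (α ^ k) (a⁻¹ * α a) := by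
        rw [pow_succ, MulAut.mul_apply, map_mul, map_inv]; group
      rw [e]
      exact N.mul_mem ih ((pow_mem_iff N α hαN k _).mpr hc)
  obtain ⟨k, hk⟩ := h2 a x haN hxN
  have hαx : α x ∉ N := fun h => hxN ((hαN x).mp h)
  obtain ⟨k', hk'⟩ := h2 a (α x) haN hαx
  have e1 : x⁻¹ * a ∈ N := by
    have : x⁻¹ * a = (x⁻¹ * (α ^ k) a) * (a⁻¹ * (α ^ k) a)⁻¹ := by group
    rw [this]
    exact N.mul_mem hk (N.inv_mem (hall k))
  have e2 : (α x)⁻¹ * a ∈ N := by
    have : (α x)⁻¹ * a = ((α x)⁻¹ * (α ^ k') a) * (a⁻¹ * (α ^ k') a)⁻¹ := by group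
    rw [this]
    exact N.mul_mem hk' (N.inv_mem (hall k'))
  apply hx
  have : x⁻¹ * α x = (x⁻¹ * a) * ((α x)⁻¹ * a)⁻¹ := by group
  rw [this]
  exact N.mul_mem e1 (N.inv_mem e2)

/-- an invariant subgroup strictly containing `N` is everything -/
theorem inv_sub_eq_top (N : Subgroup X) (α : MulAut X)
    (hT : ∀ u v : X, u ∉ N → v ∉ N → ∃ k : ℕ, v⁻¹ * (α ^ k) u ∈ N)
    (K : Subgroup X) (hNK : N ≤ K) (hαK : ∀ (k : ℕ) (x : X), x ∈ K → (α ^ k) x ∈ K)
    (u : X) (huK : u ∈ K) (huN : u ∉ N) : K = ⊤ := by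
  rw [eq_top_iff]
  intro v _
  by_cases hv : v ∈ N
  · exact hNK hv
  · obtain ⟨k, hk⟩ := hT u v huN hv
    have h1 : (α ^ k) u ∈ K := hαK k u huK
    have h2 : v⁻¹ * (α ^ k) u ∈ K := hNK hk
    have : v = (α ^ k) u * (v⁻¹ * (α ^ k) u)⁻¹ := by group
    rw [this]
    exact K.mul_mem h1 (K.inv_mem h2)

end Cfsg.Agent.Helper5.Meta2
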