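import Mathlib
import Cfsg.Agent.Helper5.Meta2B
import Cfsg.Agent.Helper2.QD1

set_option autoImplicit false

namespace Cfsg.Agent.Helper5.Meta2

open Cfsg.Agent.Helper4

variable {X : Type*} [Group X]

/-- The abelian case: an abelian metacyclic `2`-group with an automorphism of odd prime order is
homocyclic of rank two. -/
theorem abelian_case [Finite X] (hP : IsPGroup 2 X) (hm : Cfsg.IsMetacyclic X)
    (hab : ∀ x y : X, x * y = y * x) (α : MulAut X) (r : ℕ) (hr : r.Prime) (hr2 : r ≠ 2)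
    (hord : orderOf α = r) :
    ∃ n : ℕ, 1 ≤ n ∧ (∀ x : X, x ^ (2 ^ n) = 1) ∧ Nat.card X = (2 ^ n) ^ 2 ∧
      Nonempty (X ≃* Multiplicative (ZMod (2 ^ n)) × Multiplicative (ZMod (2 ^ n))) := by
  have hF2 : Fact (Nat.Prime 2) := ⟨Nat.prime_two⟩
  -- the subgroup of squares
  obtain ⟨Sq, hSq⟩ : ∃ Sq : Subgroup X, ∀ y, y ∈ Sq ↔ ∃ x, x ^ 2 = y := by
    refine ⟨{ carrier := {y | ∃ x, x ^ 2 = y}
              mul_mem' := ?_
              one_mem' := ⟨1, one_pow 2⟩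
              inv_mem' := ?_ }, fun y => Iff.rfl⟩
    · rintro _ _ ⟨x, rfl⟩ ⟨y, rfl⟩
      exact ⟨x * y, (show Commute x y from hab x y).mul_pow 2⟩
    · rintro _ ⟨x, rfl⟩
      exact ⟨x⁻¹, inv_pow x 2⟩
  haveI hSqn : Sq.Normal := ⟨fun n hn g => by
    have : g * n * g⁻¹ = n := by rw [hab g n, mul_assoc, mul_inv_cancel, mul_one]
    rw [this]; exact hn⟩
  have hNΦ : Sq ≤ frattini X := by
    intro y hy
    obtain ⟨x, rfl⟩ := (hSq y).mp hy
    exact pgroup_pow_mem_frattini hP x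
  have hcomm : ∀ u v : X, u⁻¹ * v⁻¹ * u * v ∈ Sq := by
    intro u v
    have : u⁻¹ * v⁻¹ * u * v = 1 := by
      rw [mul_assoc u⁻¹, hab v⁻¹ u]; group
    rw [this]; exact Sq.one_mem
  have hidx : Nat.card (X ⧸ Sq) ≤ 4 := by
    have := index_le_sq_of_pow_mem hm Sq 2 (by norm_num) (fun x => (hSq _).mpr ⟨x, rfl⟩)
    norm_num at this
    exact this
  have hαN : ∀ n, α n ∈ Sq ↔ n ∈ Sq := by
    intro n
    rw [hSq, hSq]
    constructor
    · rintro ⟨x, hx⟩
      exact ⟨α.symm x, by rw [← map_pow, hx, MulEquiv.symm_apply_apply]⟩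
    · rintro ⟨x, hx⟩
      exact ⟨α x, by rw [← map_pow, hx]⟩
  obtain ⟨h4, h1, hT, hmoved⟩ := v4_data hP Sq hNΦ hcomm hidx α hαN r hr hr2 hord
  -- an element of largest order
  obtain ⟨a, ha⟩ := Finite.exists_max (fun x : X => orderOf x)
  obtain ⟨n, hn⟩ := (IsPGroup.iff_orderOf.mp hP) a
  have hexp : ∀ x : X, x ^ (2 ^ n) = 1 := by
    intro x
    obtain ⟨j, hj⟩ := (IsPGroup.iff_orderOf.mp hP) x
    have h := ha x
    rw [hj, hn] at h
    have hjn : j ≤ n := (Nat.pow_le_pow_iff_right (by norm_num)).mp h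
    rw [← orderOf_dvd_iff_pow_eq_one, hj]
    exact pow_dvd_pow 2 hjn
  have hSqtop : Sq ≠ ⊤ := by
    intro h
    rw [h, Subgroup.index_top] at h4
    norm_num at h4
  obtain ⟨x₁, -, hx₁⟩ := SetLike.exists_of_lt (lt_top_iff_ne_top.mpr hSqtop)
  have hn1 : 1 ≤ n := by
    by_contra h
    have h0 : n = 0 := by omega
    have := hexp x₁
    rw [h0, pow_zero, pow_one] at this
    rw [this] at hx₁
    exact hx₁ Sq.one_mem
  have h2n : 2 * 2 ^ (n - 1) = 2 ^ n := by
    rw [← pow_succ']; congr 1; omega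
  -- the kernel of the power map
  obtain ⟨K, hK⟩ : ∃ K : Subgroup X, ∀ y, y ∈ K ↔ y ^ (2 ^ (n - 1)) = 1 := by
    refine ⟨{ carrier := {y | y ^ (2 ^ (n - 1)) = 1}
              mul_mem' := ?_
              one_mem' := one_pow _
              inv_mem' := ?_ }, fun y => Iff.rfl⟩
    · intro x y hx hy
      show (x * y) ^ (2 ^ (n - 1)) = 1
      have hx' : x ^ (2 ^ (n - 1)) = 1 := hx
      have hy' : y ^ (2 ^ (n - 1)) = 1 := hy
      rw [(show Commute x y from hab x y).mul_pow, hx', hy', one_mul]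
    · intro x hx
      show (x⁻¹) ^ (2 ^ (n - 1)) = 1
      have hx' : x ^ (2 ^ (n - 1)) = 1 := hx
      rw [inv_pow, hx', inv_one]
  have hSqK : Sq ≤ K := by
    intro y hy
    obtain ⟨x, rfl⟩ := (hSq y).mp hy
    rw [hK, ← pow_mul, h2n]
    exact hexp x
  have haK : a ∉ K := by
    rw [hK]
    apply pow_ne_one_of_lt_orderOf (by positivity)
    rw [hn]
    exact Nat.pow_lt_pow_right (by norm_num) (by omega)
  have hαK : ∀ (k : ℕ) (x : X), x ∈ K → (α ^ k) x ∈ K := by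
    intro k x hx
    rw [hK] at hx ⊢
    rw [← map_pow, hx, map_one]
  have hKN : ∀ u ∈ K, u ∈ Sq := by
    intro u huK
    by_contra huN
    have := inv_sub_eq_top Sq α hT K hSqK hαK u huK huN
    exact haK (this ▸ Subgroup.mem_top a)
  obtain ⟨b, hb⟩ : ∃ b : X, b = α a := ⟨_, rfl⟩
  have haSq : a ∉ Sq := fun h => haK (hSqK h)
  have hbSq : b ∉ Sq := by rw [hb]; exact fun h => haSq ((hαN a).mp h)
  have hbK : b ∉ K := fun h => hbSq (hKN b h)
  have hcSq : a⁻¹ * b ∉ Sq := by rw [hb]; exact hmoved a haSq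
  have hcK : a⁻¹ * b ∉ K := fun h => hcSq (hKN _ h)
  have ha2 : a ^ 2 ∈ K := hSqK ((hSq _).mpr ⟨a, rfl⟩)
  have hb2 : b ^ 2 ∈ K := hSqK ((hSq _).mpr ⟨b, rfl⟩)
  have habK : a * b ∉ K := by
    intro h
    apply hcK
    have : a⁻¹ * b = (a * b) * (a ^ 2)⁻¹ := by
      rw [hab a b, hab a⁻¹ b, pow_two]; group
    rw [this]
    exact K.mul_mem h (K.inv_mem ha2)
  -- parity
  have hpar : ∀ i j : ℕ, a ^ i * b ^ j ∈ K → Even i ∧ Even j := by
    intro i j hij
    have hi := Nat.div_add_mod i 2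
    have hj := Nat.div_add_mod j 2
    have hP1 : (a ^ 2) ^ (i / 2) ∈ K := K.pow_mem ha2 _
    have hQ1 : (b ^ 2) ^ (j / 2) ∈ K := K.pow_mem hb2 _
    have e : a ^ i * b ^ j = ((a ^ 2) ^ (i / 2) * (b ^ 2) ^ (j / 2)) * (a ^ (i % 2) * b ^ (j % 2)) := by
      conv_lhs => rw [← hi, ← hj, pow_add, pow_add, pow_mul, pow_mul]
      calc (a ^ 2) ^ (i / 2) * a ^ (i % 2) * ((b ^ 2) ^ (j / 2) * b ^ (j % 2))
          = (a ^ 2) ^ (i / 2) * (a ^ (i % 2) * (b ^ 2) ^ (j / 2)) * b ^ (j % 2) := by group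
        _ = (a ^ 2) ^ (i / 2) * ((b ^ 2) ^ (j / 2) * a ^ (i % 2)) * b ^ (j % 2) := by
            rw [hab (a ^ (i % 2))]
        _ = _ := by group
    have h3 : a ^ (i % 2) * b ^ (j % 2) ∈ K := by
      have : a ^ (i % 2) * b ^ (j % 2) =
          ((a ^ 2) ^ (i / 2) * (b ^ 2) ^ (j / 2))⁻¹ * (a ^ i * b ^ j) := by rw [e]; group
      rw [this]
      exact K.mul_mem (K.inv_mem (K.mul_mem hP1 hQ1)) hij
    have hi2 : i % 2 < 2 := Nat.mod_lt _ (by norm_num)
    have hj2 : j % 2 < 2 := Nat.mod_lt _ (by norm_num)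
    rw [Nat.even_iff, Nat.even_iff]
    interval_cases hi' : i % 2 <;> interval_cases hj' : j % 2
    · exact ⟨rfl, rfl⟩
    · exfalso; rw [pow_zero, pow_one, one_mul] at h3; exact hbK h3
    · exfalso; rw [pow_zero, pow_one, mul_one] at h3; exact haK h3
    · exfalso; rw [pow_one, pow_one] at h3; exact habK h3
  -- independence
  have hind : ∀ d : ℕ, d ≤ n → ∀ i j : ℕ, a ^ (2 ^ (n - d) * i) * b ^ (2 ^ (n - d) * j) = 1 →
      2 ^ d ∣ i ∧ 2 ^ d ∣ j := by
    intro d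
    induction d with
    | zero => intro _ i j _; simp
    | succ d ih =>
      intro hd i j hij
      have hy : (a ^ i * b ^ j) ^ (2 ^ (n - (d + 1))) = 1 := by
        rw [(show Commute (a ^ i) (b ^ j) from hab _ _).mul_pow, ← pow_mul, ← pow_mul,
          mul_comm i, mul_comm j]
        exact hij
      have hyK : a ^ i * b ^ j ∈ K := by
        rw [hK]
        have : 2 ^ (n - 1) = 2 ^ (n - (d + 1)) * 2 ^ d := by
          rw [← pow_add]; congr 1; omega
        rw [this, pow_mul, hy, one_pow]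
      obtain ⟨⟨i', hi'⟩, ⟨j', hj'⟩⟩ := hpar i j hyK
      have hs : 2 ^ (n - d) = 2 ^ (n - (d + 1)) * 2 := by
        rw [← pow_succ]; congr 1; omega
      have h5 : a ^ (2 ^ (n - d) * i') * b ^ (2 ^ (n - d) * j') = 1 := by
        rw [hs]
        have e1 : 2 ^ (n - (d + 1)) * 2 * i' = 2 ^ (n - (d + 1)) * i := by rw [hi']; ring
        have e2 : 2 ^ (n - (d + 1)) * 2 * j' = 2 ^ (n - (d + 1)) * j := by rw [hj']; ring
        rw [e1, e2]
        exact hij
      obtain ⟨hdi, hdj⟩ := ih (by omega) i' j' h5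
      constructor
      · rw [hi', pow_succ]
        obtain ⟨q, hq⟩ := hdi
        exact ⟨q, by rw [hq]; ring⟩
      · rw [hj', pow_succ]
        obtain ⟨q, hq⟩ := hdj
        exact ⟨q, by rw [hq]; ring⟩
  have hind' : ∀ i j : ℕ, a ^ i * b ^ j = 1 → 2 ^ n ∣ i ∧ 2 ^ n ∣ j := by
    intro i j hij
    have := hind n le_rfl i j (by rw [Nat.sub_self, pow_zero, one_mul, one_mul]; exact hij)
    exact this
  -- the isomorphism
  haveI : NeZero (2 ^ n) := ⟨by positivity⟩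
  have hob : orderOf b = 2 ^ n := by rw [hb, MulEquiv.orderOf_eq, hn]
  obtain ⟨f, hf⟩ : ∃ f : Multiplicative (ZMod (2 ^ n)) × Multiplicative (ZMod (2 ^ n)) →* X,
      ∀ p, f p = Cfsg.Agent.Helper2.QD.X a (2 ^ n) (Multiplicative.toAdd p.1) *
        Cfsg.Agent.Helper2.QD.X b (2 ^ n) (Multiplicative.toAdd p.2) := by
    refine ⟨{ toFun := fun p => Cfsg.Agent.Helper2.QD.X a (2 ^ n) (Multiplicative.toAdd p.1) *
                Cfsg.Agent.Helper2.QD.X b (2 ^ n) (Multiplicative.toAdd p.2)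
              map_one' := ?_
              map_mul' := ?_ }, fun p => rfl⟩
    · show Cfsg.Agent.Helper2.QD.X a (2 ^ n) 0 * Cfsg.Agent.Helper2.QD.X b (2 ^ n) 0 = 1
      rw [Cfsg.Agent.Helper2.QD.X_zero a _ hn, Cfsg.Agent.Helper2.QD.X_zero b _ hob, one_mul]
    · intro p q
      show Cfsg.Agent.Helper2.QD.X a (2 ^ n) (Multiplicative.toAdd p.1 + Multiplicative.toAdd q.1) *
          Cfsg.Agent.Helper2.QD.X b (2 ^ n) (Multiplicative.toAdd p.2 + Multiplicative.toAdd q.2) = _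
      rw [Cfsg.Agent.Helper2.QD.X_add a _ hn, Cfsg.Agent.Helper2.QD.X_add b _ hob]
      set A1 := Cfsg.Agent.Helper2.QD.X a (2 ^ n) (Multiplicative.toAdd p.1)
      set A2 := Cfsg.Agent.Helper2.QD.X a (2 ^ n) (Multiplicative.toAdd q.1)
      set B1 := Cfsg.Agent.Helper2.QD.X b (2 ^ n) (Multiplicative.toAdd p.2)
      set B2 := Cfsg.Agent.Helper2.QD.X b (2 ^ n) (Multiplicative.toAdd q.2)
      calc A1 * A2 * (B1 * B2) = A1 * (A2 * B1) * B2 := by group
        _ = A1 * (B1 * A2) * B2 := by rw [hab A2 B1]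
        _ = A1 * B1 * (A2 * B2) := by group
  have hfinj : Function.Injective f := by
    rw [injective_iff_map_eq_one]
    intro p hp
    rw [hf] at hp
    unfold Cfsg.Agent.Helper2.QD.X at hp
    obtain ⟨h1', h2'⟩ := hind' _ _ hp
    have e1 : (Multiplicative.toAdd p.1).val = 0 :=
      Nat.eq_zero_of_dvd_of_lt h1' (ZMod.val_lt _)
    have e2 : (Multiplicative.toAdd p.2).val = 0 :=
      Nat.eq_zero_of_dvd_of_lt h2' (ZMod.val_lt _)
    have e1' : Multiplicative.toAdd p.1 = 0 := (ZMod.val_eq_zero _).mp e1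
    have e2' : Multiplicative.toAdd p.2 = 0 := (ZMod.val_eq_zero _).mp e2
    apply Prod.ext
    · exact e1'
    · exact e2'
  have hcardM : Nat.card (Multiplicative (ZMod (2 ^ n)) × Multiplicative (ZMod (2 ^ n))) =
      (2 ^ n) ^ 2 := by
    rw [Nat.card_prod, Nat.card_congr Multiplicative.toAdd, Nat.card_zmod, sq]
  have hle : Nat.card X ≤ (2 ^ n) ^ 2 := card_le_sq_of_pow_eq_one hm (2 ^ n) (by positivity) hexp
  have hge : (2 ^ n) ^ 2 ≤ Nat.card X := by
    rw [← hcardM]; exact Nat.card_le_card_of_injective f hfinj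
  have hcard : Nat.card X = (2 ^ n) ^ 2 := le_antisymm hle hge
  refine ⟨n, hn1, hexp, hcard, ?_⟩
  have hbij : Function.Bijective f := by
    rw [Nat.bijective_iff_injective_and_card]
    exact ⟨hfinj, by rw [hcardM, hcard]⟩
  exact ⟨(MulEquiv.ofBijective f hbij).symm⟩

end Cfsg.Agent.Helper5.Meta2
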