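import Mathlib
import Cfsg.Agent.Helper5.Meta2C
import Cfsg.Agent.Helper1.Class2
import Cfsg.Agent.Helper2.QD7

set_option autoImplicit false

namespace Cfsg.Agent.Helper5.Meta2

open Cfsg.Agent.Helper4

variable {X : Type*} [Group X]

/-- the automorphism induced on the quotient by an invariant normal subgroup inside the Frattini
subgroup -/
theorem induced_aut [Finite X] (hP : IsPGroup 2 X) (N : Subgroup X) [N.Normal]
    (hNΦ : N ≤ frattini X) (α : MulAut X) (hαN : ∀ n, α n ∈ N ↔ n ∈ N) (r : ℕ)
    (hr : r.Prime) (hr2 : r ≠ 2) (hord : orderOf α = r) :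
    ∃ β : MulAut (X ⧸ N), (∀ u : X, β (QuotientGroup.mk u) = QuotientGroup.mk (α u)) ∧
      orderOf β = r := by
  have hFr : Fact (Nat.Prime r) := ⟨hr⟩
  have hmap : N.map (α : X →* X) = N := by
    ext y
    rw [Subgroup.mem_map]
    constructor
    · rintro ⟨x, hx, rfl⟩
      exact (hαN x).mpr hx
    · intro hy
      refine ⟨α.symm y, ?_, ?_⟩
      · rw [← hαN]
        have : α (α.symm y) = y := α.apply_symm_apply y
        rw [this]; exact hy
      · exact α.apply_symm_apply y
  obtain ⟨β, hβ⟩ : ∃ β : MulAut (X ⧸ N), ∀ u : X, β (QuotientGroup.mk u) = QuotientGroup.mk (α u) :=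
    ⟨QuotientGroup.congr N N α hmap, fun u => QuotientGroup.congr_mk N N α _ u⟩
  refine ⟨β, hβ, ?_⟩
  obtain ⟨x, hx⟩ := exists_moved_coset hP N hNΦ α r hr hr2 hord
  have hpow : ∀ (k : ℕ) (u : X), (β ^ k) (QuotientGroup.mk u) = QuotientGroup.mk ((α ^ k) u) := by
    intro k
    induction k with
    | zero => intro u; rw [pow_zero, pow_zero, MulAut.one_apply, MulAut.one_apply]
    | succ k ihk =>
      intro u
      rw [pow_succ', pow_succ', MulAut.mul_apply, MulAut.mul_apply, ihk, hβ]
  have hαr : α ^ r = 1 := by rw [← hord]; exact pow_orderOf_eq_one α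
  have hβr : β ^ r = 1 := by
    ext q
    obtain ⟨u, rfl⟩ := QuotientGroup.mk_surjective q
    rw [hpow, hαr, MulAut.one_apply, MulAut.one_apply]
  have hβ1 : β ≠ 1 := by
    intro h
    have h1 := hβ x
    rw [h, MulAut.one_apply, QuotientGroup.eq] at h1
    exact hx h1
  exact orderOf_eq_prime hβr hβ1

/-- A metacyclic `2`-group with derived subgroup of order two and an automorphism of odd prime
order has abelianization of order four. -/
theorem index_commutator_eq_four {Y : Type*} [Group Y] [Finite Y] (hP : IsPGroup 2 Y)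
    (hm : Cfsg.IsMetacyclic Y) (hD2 : Nat.card (commutator Y) = 2) (β : MulAut Y) (r : ℕ)
    (hr : r.Prime) (hr2 : r ≠ 2) (hord : orderOf β = r) : (commutator Y).index = 4 := by
  have hF2 : Fact (Nat.Prime 2) := ⟨Nat.prime_two⟩
  -- the abelianization
  obtain ⟨γ, hγ, hγord⟩ := induced_aut hP (commutator Y) (commutator_le_frattini hP) β
    (char_mem_iff (commutator Y) β) r hr hr2 hord
  have habA : ∀ x y : Y ⧸ commutator Y, x * y = y * x := by
    intro x y
    obtain ⟨u, rfl⟩ := QuotientGroup.mk_surjective x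
    obtain ⟨v, rfl⟩ := QuotientGroup.mk_surjective y
    rw [← QuotientGroup.mk_mul, ← QuotientGroup.mk_mul, QuotientGroup.eq]
    have : (u * v)⁻¹ * (v * u) = v⁻¹ * u⁻¹ * v * u := by group
    rw [this]
    exact comm_mem_commutator v u
  obtain ⟨n, hn1, hexpA, hcardA, -⟩ := abelian_case (hP.to_quotient (commutator Y))
    (isMetacyclic_quotient hm (commutator Y)) habA γ r hr hr2 hγord
  rw [Subgroup.index_eq_card, hcardA]
  by_cases hn : n = 1
  · rw [hn]; norm_num
  exfalso
  have hn2 : 2 ≤ n := by omega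
  have hcardY : Nat.card Y = (2 ^ n) ^ 2 * 2 := by
    rw [Subgroup.card_eq_card_quotient_mul_card_subgroup (commutator Y), hcardA, hD2]
  have hpowD : ∀ y : Y, y ^ (2 ^ n) ∈ commutator Y := by
    intro y
    have := hexpA (QuotientGroup.mk y)
    rw [← QuotientGroup.mk_pow, QuotientGroup.eq_one_iff] at this
    exact this
  -- the derived subgroup is `{1, z}`
  obtain ⟨z, hz1, hzu⟩ := (Nat.card_eq_two_iff' (1 : commutator Y)).mp hD2
  have hD : ∀ d ∈ commutator Y, d = 1 ∨ d = (z : Y) := by
    intro d hd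
    by_cases h : d = 1
    · left; exact h
    · right
      have := hzu ⟨d, hd⟩ (fun h' => h (congrArg Subtype.val h'))
      exact congrArg Subtype.val this
  have hzY : (z : Y) ≠ 1 := fun h => hz1 (Subtype.ext h)
  have hsqD : ∀ d ∈ commutator Y, d ^ 2 = 1 := by
    intro d hd
    rcases hD d hd with h | h
    · rw [h, one_pow]
    · rcases hD (d ^ 2) (Subgroup.pow_mem _ hd 2) with h' | h'
      · exact h'
      · exfalso
        rw [h, pow_two] at h'
        exact hzY (mul_left_cancel (h'.trans (mul_one _).symm))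
  have hcenD : ∀ d ∈ commutator Y, ∀ w : Y, Commute d w := by
    intro d hd w
    rcases hD d hd with h | h
    · rw [h]; exact Commute.one_left w
    · have hconj : w * d * w⁻¹ ∈ commutator Y :=
        (inferInstance : (commutator Y).Normal).conj_mem d hd w
      rcases hD _ hconj with h' | h'
      · exfalso
        apply hzY
        rw [← h]
        have : d = w⁻¹ * (w * d * w⁻¹) * w := by group
        rw [this, h']; group
      · show d * w = w * d
        rw [h]
        rw [h] at h'
        calc (z : Y) * w = (w * (z : Y) * w⁻¹) * w := by rw [h']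
          _ = w * z := by group
  -- the power map is a homomorphism
  have hchoose : Even ((2 ^ n).choose 2) := by
    rw [Nat.choose_two_right]
    have h2n : 2 ^ n = 2 * 2 ^ (n - 1) := by
      rw [← pow_succ']; congr 1; omega
    have h2n' : 2 ^ (n - 1) = 2 * 2 ^ (n - 2) := by
      rw [← pow_succ']; congr 1; omega
    have : 2 ^ n * (2 ^ n - 1) / 2 = 2 ^ (n - 1) * (2 ^ n - 1) := by
      rw [h2n, mul_assoc, Nat.mul_div_cancel_left _ (by norm_num : 0 < 2)]
    rw [this, h2n', mul_assoc]
    exact even_two_mul _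
  have hmulpow : ∀ x y : Y, (x * y) ^ (2 ^ n) = x ^ (2 ^ n) * y ^ (2 ^ n) := by
    intro x y
    have hc : y * x * y⁻¹ * x⁻¹ ∈ commutator Y := by
      have := comm_mem_commutator y⁻¹ x⁻¹
      rwa [inv_inv, inv_inv] at this
    have hyx : y * x = (y * x * y⁻¹ * x⁻¹) * x * y := by group
    rw [Cfsg.Agent.Helper1.mul_pow_of_central (hcenD _ hc) hyx]
    obtain ⟨k, hk⟩ := hchoose
    rw [hk, ← two_mul, pow_mul, hsqD _ hc, one_pow, mul_one]
  obtain ⟨σ, hσ⟩ : ∃ σ : Y →* Y, ∀ y, σ y = y ^ (2 ^ n) :=
    ⟨{ toFun := fun y => y ^ (2 ^ n), map_one' := one_pow _, map_mul' := hmulpow }, fun y => rfl⟩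
  have hker : ∀ y, y ∈ σ.ker ↔ y ^ (2 ^ n) = 1 := by
    intro y; rw [MonoidHom.mem_ker, hσ]
  have hYle : Nat.card Y ≤ (2 ^ n) ^ 2 := by
    apply card_le_sq_of_pow_eq_one hm (2 ^ n) (by positivity)
    -- the kernel is everything
    by_contra hne
    push Not at hne
    obtain ⟨y₀, hy₀⟩ := hne
    have hktop : σ.ker ≠ ⊤ := by
      intro h
      apply hy₀
      rw [← hker, h]
      exact Subgroup.mem_top y₀
    have hrange : σ.range ≤ commutator Y := by
      rintro _ ⟨y, rfl⟩
      rw [hσ]; exact hpowD y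
    have hidx2 : σ.ker.index = 2 := by
      have h1 : σ.ker.index ≤ 2 := by
        rw [Subgroup.index_ker, ← hD2]
        exact Subgroup.card_le_of_le hrange
      have h2 : σ.ker.index ≠ 1 := fun h => hktop (Subgroup.index_eq_one.mp h)
      have h3 : σ.ker.index ≠ 0 := Subgroup.index_ne_zero_of_finite
      omega
    have hco := Cfsg.Agent.Helper2.QD.isCoatom_of_index_two σ.ker hidx2
    have hΦM : frattini Y ≤ σ.ker := frattini_le_coatom hco
    have hcommΦ : ∀ u v : Y, u⁻¹ * v⁻¹ * u * v ∈ frattini Y := by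
      intro u v
      have := pgroup_commutator_mem_frattini hP u⁻¹ v⁻¹
      rwa [inv_inv, inv_inv] at this
    have hidxΦ : Nat.card (Y ⧸ frattini Y) ≤ 4 := by
      have := index_le_sq_of_pow_mem hm (frattini Y) 2 (by norm_num)
        (fun x => pgroup_pow_mem_frattini hP x)
      norm_num at this
      exact this
    obtain ⟨h4Φ, -, hT, -⟩ := v4_data hP (frattini Y) le_rfl hcommΦ hidxΦ β
      (char_mem_iff (frattini Y) β) r hr hr2 hord
    have hβM : ∀ (k : ℕ) (x : Y), x ∈ σ.ker → (β ^ k) x ∈ σ.ker := by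
      intro k x hx
      rw [hker] at hx ⊢
      rw [← map_pow, hx, map_one]
    have hex : ∃ u ∈ σ.ker, u ∉ frattini Y := by
      by_contra hno
      push Not at hno
      have : σ.ker = frattini Y := le_antisymm hno hΦM
      rw [this, h4Φ] at hidx2
      norm_num at hidx2
    obtain ⟨u, huM, huΦ⟩ := hex
    exact hktop (inv_sub_eq_top (frattini Y) β hT σ.ker hΦM hβM u huM huΦ)
  rw [hcardY] at hYle
  have : 0 < (2 ^ n) ^ 2 := by positivity
  omega

end Cfsg.Agent.Helper5.Meta2
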