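import Mathlib
import Cfsg.Agent.Helper5.Meta2D
import Cfsg.Agent.S4189

set_option autoImplicit false

namespace Cfsg.Agent.Helper5.Meta2

open Cfsg.Agent.Helper4

variable {X : Type*} [Group X]

/-- the derived subgroup of a metacyclic group is cyclic -/
theorem isCyclic_commutator (hm : Cfsg.IsMetacyclic X) : IsCyclic (commutator X) := by
  obtain ⟨N, hNn, hNc, hQc⟩ := hm
  have hle : commutator X ≤ N := by
    rw [commutator_def, Subgroup.commutator_le]
    intro g₁ _ g₂ _
    rw [← QuotientGroup.eq_one_iff, commutatorElement_def]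
    simp only [QuotientGroup.mk_mul, QuotientGroup.mk_inv]
    have hc : ∀ a b : X ⧸ N, a * b = b * a := fun a b => hQc.commGroup.mul_comm a b
    rw [hc (g₁ : X ⧸ N) (g₂ : X ⧸ N)]
    group
  have h1 : IsCyclic ((commutator X).subgroupOf N) := inferInstance
  exact isCyclic_of_surjective (Subgroup.subgroupOfEquivOfLe hle).toMonoidHom
    (Subgroup.subgroupOfEquivOfLe hle).surjective

/-- The nonabelian case: the abelianization has order four. -/
theorem nonabelian_case [Finite X] (hP : IsPGroup 2 X) (hm : Cfsg.IsMetacyclic X)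
    (hna : ¬ ∀ x y : X, x * y = y * x) (α : MulAut X) (r : ℕ) (hr : r.Prime) (hr2 : r ≠ 2)
    (hord : orderOf α = r) : (commutator X).index = 4 := by
  have hF2 : Fact (Nat.Prime 2) := ⟨Nat.prime_two⟩
  have hDc := isCyclic_commutator hm
  obtain ⟨g, hg⟩ := hDc.exists_generator
  have hDz : commutator X = Subgroup.zpowers (g : X) := by
    apply le_antisymm
    · intro x hx
      obtain ⟨k, hk⟩ := Subgroup.mem_zpowers_iff.mp (hg ⟨x, hx⟩)
      rw [Subgroup.mem_zpowers_iff]
      refine ⟨k, ?_⟩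
      have := congrArg Subtype.val hk
      simpa using this
    · rw [Subgroup.zpowers_le]; exact g.2
  have hDne : commutator X ≠ ⊥ := by
    intro h
    apply hna
    intro x y
    have h1 : x⁻¹ * y⁻¹ * x * y ∈ commutator X := comm_mem_commutator x y
    rw [h, Subgroup.mem_bot] at h1
    calc x * y = y * x * (x⁻¹ * y⁻¹ * x * y) := by group
      _ = y * x := by rw [h1, mul_one]
  have hg1 : (g : X) ≠ 1 := by
    intro h
    apply hDne
    rw [hDz, h, Subgroup.zpowers_one_eq_bot]
  have hDcomm : ∀ d ∈ commutator X, ∀ d' ∈ commutator X, Commute d d' := by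
    intro d hd d' hd'
    rw [hDz] at hd hd'
    obtain ⟨i, rfl⟩ := Subgroup.mem_zpowers_iff.mp hd
    obtain ⟨j, rfl⟩ := Subgroup.mem_zpowers_iff.mp hd'
    exact (Commute.refl (g : X)).zpow_zpow i j
  -- squares of the derived subgroup
  obtain ⟨K, hK⟩ : ∃ K : Subgroup X, ∀ y, y ∈ K ↔ ∃ d ∈ commutator X, d ^ 2 = y := by
    refine ⟨{ carrier := {y | ∃ d ∈ commutator X, d ^ 2 = y}
              mul_mem' := ?_
              one_mem' := ⟨1, Subgroup.one_mem _, one_pow 2⟩
              inv_mem' := ?_ }, fun y => Iff.rfl⟩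
    · rintro _ _ ⟨x, hx, rfl⟩ ⟨y, hy, rfl⟩
      exact ⟨x * y, Subgroup.mul_mem _ hx hy, (hDcomm x hx y hy).mul_pow 2⟩
    · rintro _ ⟨x, hx, rfl⟩
      exact ⟨x⁻¹, Subgroup.inv_mem _ hx, inv_pow x 2⟩
  have hKD : K ≤ commutator X := by
    intro y hy
    obtain ⟨d, hd, rfl⟩ := (hK y).mp hy
    exact Subgroup.pow_mem _ hd 2
  haveI hKn : K.Normal := ⟨fun n hn w => by
    obtain ⟨d, hd, rfl⟩ := (hK n).mp hn
    rw [hK]
    refine ⟨w * d * w⁻¹, (inferInstance : (commutator X).Normal).conj_mem d hd w, ?_⟩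
    rw [conj_pow]⟩
  have hαK : ∀ n, α n ∈ K ↔ n ∈ K := by
    intro n
    rw [hK, hK]
    constructor
    · rintro ⟨d, hd, hdn⟩
      refine ⟨α.symm d, ?_, by rw [← map_pow, hdn, MulEquiv.symm_apply_apply]⟩
      rw [← char_mem_iff (commutator X) α]
      have : α (α.symm d) = d := α.apply_symm_apply d
      rw [this]; exact hd
    · rintro ⟨d, hd, hdn⟩
      exact ⟨α d, (char_mem_iff (commutator X) α d).mpr hd, by rw [← map_pow, hdn]⟩
  have hKΦ : K ≤ frattini X := hKD.trans (commutator_le_frattini hP)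
  have hgK : (g : X) ∉ K := by
    intro h
    obtain ⟨d, hd, hdg⟩ := (hK _).mp h
    rw [hDz] at hd
    obtain ⟨k, rfl⟩ := Subgroup.mem_zpowers_iff.mp hd
    have h1 : (g : X) ^ (2 * k - 1) = 1 := by
      rw [zpow_sub, zpow_one, mul_comm 2 k, zpow_mul]
      have : ((g : X) ^ k) ^ (2 : ℤ) = ((g : X) ^ k) ^ 2 := by norm_cast
      rw [this, hdg, mul_inv_cancel]
    obtain ⟨j, hj⟩ := (IsPGroup.iff_orderOf.mp hP) (g : X)
    have hj1 : j ≠ 0 := by
      intro h0
      rw [h0, pow_zero, orderOf_eq_one_iff] at hj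
      exact hg1 hj
    have h2 : ((orderOf (g : X) : ℕ) : ℤ) ∣ 2 * k - 1 := orderOf_dvd_iff_zpow_eq_one.mpr h1
    have h3 : (2 : ℤ) ∣ ((orderOf (g : X) : ℕ) : ℤ) := by
      rw [hj]
      push_cast
      exact dvd_pow_self 2 hj1
    have := h3.trans h2
    omega
  -- the quotient
  obtain ⟨β, hβ, hβord⟩ := induced_aut hP K hKΦ α hαK r hr hr2 hord
  have hmap : (commutator X).map (QuotientGroup.mk' K) = commutator (X ⧸ K) := by
    rw [commutator_def, commutator_def, Subgroup.map_commutator,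
      Subgroup.map_top_of_surjective _ (QuotientGroup.mk'_surjective K)]
  have hD2 : Nat.card (commutator (X ⧸ K)) = 2 := by
    rw [← hmap, hDz, MonoidHom.map_zpowers, Nat.card_zpowers]
    apply orderOf_eq_prime
    · show ((g : X) : X ⧸ K) ^ 2 = 1
      rw [← QuotientGroup.mk_pow, QuotientGroup.eq_one_iff, hK]
      exact ⟨g, g.2, rfl⟩
    · show ((g : X) : X ⧸ K) ≠ 1
      rw [Ne, QuotientGroup.eq_one_iff]
      exact hgK
  have h4 := index_commutator_eq_four (hP.to_quotient K) (isMetacyclic_quotient hm K) hD2 β r hr hr2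
    hβord
  rw [← hmap, Subgroup.index_map_eq _ (QuotientGroup.mk'_surjective K)
    (by rw [QuotientGroup.ker_mk']; exact hKD)] at h4
  exact h4

/-- `S1896`. -/
theorem main [Finite X] (hX : IsPGroup 2 X) (hm : Cfsg.IsMetacyclic X)
    (hA : ¬ IsPGroup 2 (MulAut X)) :
    Nonempty (X ≃* QuaternionGroup 2) ∨
      ∃ n : ℕ, Nonempty (X ≃* Multiplicative (ZMod (2 ^ n)) × Multiplicative (ZMod (2 ^ n))) := by
  obtain ⟨α, r, hr, hr2, hord⟩ := exists_odd_prime_order hA
  by_cases hab : ∀ x y : X, x * y = y * x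
  · right
    obtain ⟨n, -, -, -, hiso⟩ := abelian_case hX hm hab α r hr hr2 hord
    exact ⟨n, hiso⟩
  · left
    have h4 := nonabelian_case hX hm hab α r hr hr2 hord
    apply Cfsg.Agent.S4189.result hX _ h4 hA
    intro hc
    apply hab
    intro x y
    exact hc.is_comm.comm x y

end Cfsg.Agent.Helper5.Meta2
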