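import Mathlib
import Cfsg.Prelude.Def_PLocal
import Cfsg.Agent.Helper5.Basic
import Cfsg.Agent.Helper5.Misc
import Cfsg.Agent.Helper5.ProdCard
import Cfsg.Agent.Helper5.MaxAbelian

/-!
Helper lemmas (helper5): a replacement step for abelian subgroups of largest order
(Thompson / Gillam style): from `B` of largest order, an abelian normal subgroup `D` and an element `x`
with `B` and `xBx⁻¹` normalizing each other and `xBx⁻¹ ≤ BD`, the subgroup
`(B ∩ xBx⁻¹)(BxBx⁻¹ ∩ D)` is again abelian of largest order and meets `D` in a larger subgroup.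
-/

set_option autoImplicit false

namespace Cfsg.Agent.Helper5

open scoped Pointwise

variable {S : Type*} [Group S]

/-- `|QR| |Q ∩ R| = |Q| |R|` when `R` normalizes `Q`. -/
theorem card_sup_mul_card_inf_of_le_normalizer (Q R : Subgroup S)
    (h : R ≤ Subgroup.normalizer (Q : Set S)) :
    Nat.card ↥(Q ⊔ R) * Nat.card ↥(Q ⊓ R) = Nat.card Q * Nat.card R := by
  have hset : ((Q ⊔ R : Subgroup S) : Set S) = (Q : Set S) * (R : Set S) :=
    Subgroup.coe_mul_of_right_le_normalizer_left Q R h
  have hc : Nat.card ↥(Q ⊔ R) = Nat.card ((Q : Set S) * (R : Set S) : Set S) := by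
    rw [← hset]; rfl
  rw [hc]
  exact card_mul_set_mul_card_inf Q R

theorem replace_arith {s w z e h a t : ℕ} (hh : 0 < h) (ht : 0 < t)
    (c1 : s * w = z * e) (c2 : h * z = a * a) (c3 : h * t = a * e) (hwt : w ≤ t) : a ≤ s := by
  have e1 : s * w * h = a * t * h := by
    calc s * w * h = z * e * h := by rw [c1]
      _ = (h * z) * e := by ring
      _ = a * a * e := by rw [c2]
      _ = a * (h * t) := by rw [c3]; ring
      _ = a * t * h := by ring
  have e2 : s * w = a * t := Nat.eq_of_mul_eq_mul_right hh e1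
  have e3 : a * t ≤ s * t := by
    rw [← e2]; exact Nat.mul_le_mul_left s hwt
  exact Nat.le_of_mul_le_mul_right e3 ht

/-- The replacement step. -/
theorem replace_step [Finite S] {B D : Subgroup S} (hB : B ∈ Cfsg.maxAbelianSubgroups S)
    [hDn : D.Normal] (hDc : IsMulCommutative ↥D) (x : S)
    (hx : x ∉ Subgroup.normalizer (B : Set S))
    (h1 : B.map (MulAut.conj x).toMonoidHom ≤ Subgroup.normalizer (B : Set S))
    (h3 : B.map (MulAut.conj x).toMonoidHom ≤ B ⊔ D) :
    ∃ A : Subgroup S, A ∈ Cfsg.maxAbelianSubgroups S ∧ B ⊓ D < A ⊓ D ∧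
      A ≤ B ⊔ B.map (MulAut.conj x).toMonoidHom := by
  classical
  obtain ⟨hBc, hBmax⟩ := hB
  set B' := B.map (MulAut.conj x).toMonoidHom with hB'
  have hB'c : IsMulCommutative ↥B' := by
    rw [hB']; infer_instance
  set H := B ⊔ B' with hH
  have hHN : H ≤ Subgroup.normalizer (B : Set S) := sup_le Subgroup.le_normalizer h1
  have hHZ : H ≤ Subgroup.centralizer ((B ⊓ B' : Subgroup S) : Set S) := by
    apply sup_le
    · intro b hb
      rw [Subgroup.mem_centralizer_iff]
      intro z hz
      exact setLike_mul_comm (show z ∈ B from hz.1) hb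
    · intro b hb
      rw [Subgroup.mem_centralizer_iff]
      intro z hz
      exact setLike_mul_comm (show z ∈ B' from hz.2) hb
  have hZc : IsMulCommutative ↥(B ⊓ B') := isMulCommutative_of_le (inf_le_left : B ⊓ B' ≤ B)
  have hEc : IsMulCommutative ↥(H ⊓ D) := isMulCommutative_of_le (inf_le_right : H ⊓ D ≤ D)
  have hAc : IsMulCommutative ↥((B ⊓ B') ⊔ (H ⊓ D)) :=
    isMulCommutative_sup_of_commute (B ⊓ B') (H ⊓ D) (le_trans inf_le_left hHZ)
  -- cardinalities
  have c1 := card_sup_mul_card_inf_of_le_normalizer (B ⊓ B') (H ⊓ D)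
    (le_trans (le_trans inf_le_left hHZ) (Subgroup.centralizer_le_normalizer _))
  have c2 := card_sup_mul_card_inf_of_le_normalizer B B' h1
  have c3 : Nat.card ↥B' = Nat.card ↥B := card_map_conj' B x
  have hHE : H = B ⊔ (H ⊓ D) := by
    apply le_antisymm
    · intro h hh
      have hh' : h ∈ ((B ⊔ D : Subgroup S) : Set S) := (sup_le le_sup_left h3 : H ≤ B ⊔ D) hh
      rw [Subgroup.mul_normal] at hh'
      obtain ⟨b, hb, d, hd, rfl⟩ := Set.mem_mul.mp hh'
      have hdH : d ∈ H := by
        have : b⁻¹ * (b * d) ∈ H := H.mul_mem (H.inv_mem ((le_sup_left : B ≤ H) hb)) hh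
        rwa [inv_mul_cancel_left] at this
      exact Subgroup.mul_mem _ ((le_sup_left : B ≤ B ⊔ (H ⊓ D)) hb)
        ((le_sup_right : H ⊓ D ≤ B ⊔ (H ⊓ D)) ⟨hdH, hd⟩)
    · exact sup_le le_sup_left inf_le_left
  have c4 := card_sup_mul_card_inf_of_le_normalizer B (H ⊓ D) (le_trans inf_le_left hHN)
  rw [← hHE] at c4
  have hBE : B ⊓ (H ⊓ D) = B ⊓ D := by
    apply le_antisymm
    · exact le_inf inf_le_left (le_trans inf_le_right inf_le_right)
    · exact le_inf inf_le_left (le_inf (le_trans inf_le_left le_sup_left) inf_le_right)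
  rw [hBE] at c4
  have hwt : Nat.card ↥((B ⊓ B') ⊓ (H ⊓ D)) ≤ Nat.card ↥(B ⊓ D) := by
    apply Subgroup.card_le_of_le
    exact le_inf (le_trans inf_le_left inf_le_left) (le_trans inf_le_right inf_le_right)
  rw [c3] at c2
  have hge : Nat.card ↥B ≤ Nat.card ↥((B ⊓ B') ⊔ (H ⊓ D)) :=
    replace_arith (Nat.card_pos) (Nat.card_pos) c1 c2 c4 hwt
  refine ⟨(B ⊓ B') ⊔ (H ⊓ D), ⟨hAc, fun C hC => le_trans (hBmax C hC) hge⟩, ?_, ?_⟩
  · apply lt_of_le_not_ge
    · refine le_inf (le_trans ?_ le_sup_right) inf_le_right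
      exact le_inf (le_trans inf_le_left le_sup_left) inf_le_right
    · intro hle
      apply hx
      have hEB : H ⊓ D ≤ B := by
        refine le_trans ?_ (le_trans hle inf_le_left)
        exact le_inf le_sup_right inf_le_right
      have hHB : H ≤ B := by
        rw [hHE]; exact sup_le le_rfl hEB
      have hB'B : B' ≤ B := le_trans le_sup_right hHB
      apply mem_normalizer_of_conj_mem B x
      intro b hb
      exact hB'B (conj_mem_map_conj B x b hb)
  · exact sup_le (le_trans inf_le_left le_sup_left) inf_le_left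

end Cfsg.Agent.Helper5
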