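import Mathlib
import Cfsg.Prelude.Def_LocalEven
import Cfsg.Prelude.Def_Transfer
import Cfsg.Agent.Helper5.Basic
import Cfsg.Agent.Helper5.PResidual
import Cfsg.Agent.Helper1.SubnormalFamily
import Cfsg.Agent.Helper1.Subnormal
import Cfsg.Agent.Helper1.SylowInt
import Cfsg.Agent.Helper1.Hall
import Cfsg.Agent.Helper5.CharP2
import Cfsg.Agent.Helper5.Replace

/-!
Helper lemmas (helper5): `p`-minimal groups (a Sylow `p`-subgroup is not normal and lies in a unique
maximal subgroup).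
-/

set_option autoImplicit false

namespace Cfsg.Agent.Helper5

variable {P : Type*} [Group P]

/-- In a `p`-minimal group every proper subgroup containing the Sylow subgroup `S` lies in `M`. -/
theorem pMinimal_le_of_sylow_le [Finite P] {p : ℕ} [Fact p.Prime] (hP : Cfsg.IsPMinimal p P)
    (S : Sylow p P) (M : Subgroup P) (hM : IsCoatom M) (hSM : (S : Subgroup P) ≤ M)
    (X : Subgroup P) (hSX : (S : Subgroup P) ≤ X) (hX : X ≠ ⊤) : X ≤ M := by
  obtain ⟨M', hM', hXM'⟩ := (eq_top_or_exists_le_coatom X).resolve_left hX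
  obtain ⟨M₀, _, huniq⟩ := (hP S).2
  have h1 : M' = M₀ := huniq M' ⟨hM', hSX.trans hXM'⟩
  have h2 : M = M₀ := huniq M ⟨hM, hSM⟩
  rw [h2, ← h1]; exact hXM'

/-- A proper subnormal subgroup is normal in a strictly larger subnormal subgroup. -/
theorem exists_lt_isSubnormal_normal {G : Type*} [Group G] {K : Subgroup G} (hK : K.IsSubnormal)
    (hne : K ≠ ⊤) :
    ∃ K₁ : Subgroup G, K < K₁ ∧ K₁.IsSubnormal ∧ K₁ ≤ Subgroup.normalizer (K : Set G) := by
  induction hK with
  | top => exact absurd rfl hne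
  | step H K h_le hSubn hN ih =>
    by_cases hHK : H = K
    · rw [hHK] at hne ⊢
      exact ih hne
    · exact ⟨K, lt_of_le_of_ne h_le hHK, hSubn,
        (Subgroup.normal_subgroupOf_iff_le_normalizer h_le).mp hN⟩

/-- The join of the `S`-conjugates of `N`. -/
def conjJoin (S N : Subgroup P) : Subgroup P :=
  sSup {U | ∃ s ∈ S, U = N.map (MulAut.conj s).toMonoidHom}

theorem le_conjJoin (S N : Subgroup P) : N ≤ conjJoin S N := by
  apply le_sSup
  exact ⟨1, S.one_mem, (map_conj_one N).symm⟩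

theorem conjJoin_map_le (S N : Subgroup P) (t : P) (ht : t ∈ S) :
    (conjJoin S N).map (MulAut.conj t).toMonoidHom ≤ conjJoin S N := by
  rw [Subgroup.map_le_iff_le_comap]
  apply sSup_le
  rintro U ⟨s, hs, rfl⟩
  rw [← Subgroup.map_le_iff_le_comap, map_conj_map_conj]
  exact le_sSup ⟨t * s, S.mul_mem ht hs, rfl⟩

theorem le_normalizer_conjJoin [Finite P] (S N : Subgroup P) :
    S ≤ Subgroup.normalizer ((conjJoin S N : Subgroup P) : Set P) := by
  intro t ht
  apply Subgroup.mem_normalizer_fintype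
  intro n hn
  have h1 := conjJoin_map_le S N t ht
  exact h1 ⟨n, hn, by simp [MulAut.conj_apply]⟩

theorem conjJoin_isSubnormal [Finite P] (S N : Subgroup P) (hN : N.IsSubnormal) :
    (conjJoin S N).IsSubnormal := by
  apply Cfsg.Agent.Helper1.isSubnormal_sSup
  rintro U ⟨s, _, rfl⟩
  exact hN.map (MulAut.conj s).surjective

theorem conjJoin_le (S N M : Subgroup P) (hSM : S ≤ M) (hNM : N ≤ M) : conjJoin S N ≤ M := by
  apply sSup_le
  rintro U ⟨s, hs, rfl⟩
  rintro _ ⟨n, hn, rfl⟩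
  simp only [MulEquiv.coe_toMonoidHom, MulAut.conj_apply]
  exact M.mul_mem (M.mul_mem (hSM hs) (hNM hn)) (M.inv_mem (hSM hs))

/-- If `S` normalizes `K` and `K ⊴ K₁` then `K` is normal in the join of the `S`-conjugates of `K₁`. -/
theorem conjJoin_le_normalizer (S K K₁ : Subgroup P)
    (hSK : S ≤ Subgroup.normalizer (K : Set P)) (hK₁ : K₁ ≤ Subgroup.normalizer (K : Set P)) :
    conjJoin S K₁ ≤ Subgroup.normalizer (K : Set P) := by
  apply sSup_le
  rintro U ⟨s, hs, rfl⟩
  rintro _ ⟨k, hk, rfl⟩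
  simp only [MulEquiv.coe_toMonoidHom, MulAut.conj_apply]
  exact Subgroup.mul_mem _ (Subgroup.mul_mem _ (hSK hs) (hK₁ hk)) (Subgroup.inv_mem _ (hSK hs))

/-- In a `p`-minimal group an `S`-invariant subnormal subgroup contained in `M` lies in the core of
`M`. -/
theorem pMinimal_le_normalCore [Finite P] {p : ℕ} [Fact p.Prime] (hP : Cfsg.IsPMinimal p P)
    (S : Sylow p P) (M : Subgroup P) (hM : IsCoatom M) (hSM : (S : Subgroup P) ≤ M)
    (K : Subgroup P) (hK : K.IsSubnormal)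
    (hSK : (S : Subgroup P) ≤ Subgroup.normalizer (K : Set P)) (hKM : K ≤ M) :
    K ≤ M.normalCore := by
  classical
  let 𝒦 : Set (Subgroup P) :=
    {K' | K'.IsSubnormal ∧ (S : Subgroup P) ≤ Subgroup.normalizer (K' : Set P) ∧ K' ≤ M}
  have hK𝒦 : K ∈ 𝒦 := ⟨hK, hSK, hKM⟩
  obtain ⟨K', hKK', hmax⟩ := (Set.toFinite 𝒦).exists_le_maximal hK𝒦
  obtain ⟨hK'sub, hSK', hK'M⟩ : K' ∈ 𝒦 := hmax.prop
  have hK'top : K' ≠ ⊤ := by
    intro h
    rw [h] at hK'M
    exact hM.1 (top_le_iff.mp hK'M)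
  obtain ⟨K₁, hlt, hK₁sub, hK₁n⟩ := exists_lt_isSubnormal_normal hK'sub hK'top
  set K₂ := conjJoin (S : Subgroup P) K₁ with hK₂
  have hK₂sub : K₂.IsSubnormal := conjJoin_isSubnormal _ _ hK₁sub
  have hSK₂ : (S : Subgroup P) ≤ Subgroup.normalizer (K₂ : Set P) := le_normalizer_conjJoin _ _
  have hK₁K₂ : K₁ ≤ K₂ := le_conjJoin _ _
  have hK₂n : K₂ ≤ Subgroup.normalizer (K' : Set P) := conjJoin_le_normalizer _ _ _ hSK' hK₁n
  have hK₂M : ¬ K₂ ≤ M := by
    intro h
    have h1 : K₂ ∈ 𝒦 := ⟨hK₂sub, hSK₂, h⟩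
    have h2 : K₂ ≤ K' := hmax.2 h1 (hlt.le.trans hK₁K₂)
    exact absurd (lt_of_lt_of_le hlt (hK₁K₂.trans h2)) (lt_irrefl _)
  have htop : K₂ ⊔ (S : Subgroup P) = ⊤ := by
    by_contra hne
    exact hK₂M (le_sup_left.trans (pMinimal_le_of_sylow_le hP S M hM hSM _ le_sup_right hne))
  have hK'n : K'.Normal := by
    rw [← Subgroup.normalizer_eq_top_iff, eq_top_iff, ← htop]
    exact sup_le hK₂n hSK'
  exact hKK'.trans ((Subgroup.normal_le_normalCore).mpr hK'M)


/-- In a `p`-minimal group, `core(M) ∩ S ≤ O_p(P)`. -/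
theorem pMinimal_normalCore_inf_le_pCore [Finite P] {p : ℕ} [Fact p.Prime]
    (hP : Cfsg.IsPMinimal p P) (S : Sylow p P) (M : Subgroup P) (hM : IsCoatom M)
    (hSM : (S : Subgroup P) ≤ M) : M.normalCore ⊓ (S : Subgroup P) ≤ Cfsg.pCore p P := by
  classical
  set F := M.normalCore with hF
  have hFn : F.Normal := Subgroup.normalCore_normal M
  obtain ⟨Q, hQ⟩ := Cfsg.Agent.Helper1.sylow_inf_subnormal p F hFn.isSubnormal S
  have hfr := Sylow.normalizer_sup_eq_top Q
  have hD : (Q : Subgroup ↥F).map F.subtype = F ⊓ (S : Subgroup P) := by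
    rw [hQ, Subgroup.subgroupOf_map_subtype, inf_comm]
  rw [hD] at hfr
  have hSD : (S : Subgroup P) ≤ Subgroup.normalizer ((F ⊓ (S : Subgroup P) : Subgroup P) : Set P) := by
    intro s hs
    apply mem_normalizer_inf
    · rw [Subgroup.normalizer_eq_top_iff.mpr hFn]; exact Subgroup.mem_top s
    · exact Subgroup.le_normalizer hs
  have hDn : (F ⊓ (S : Subgroup P)).Normal := by
    rw [← Subgroup.normalizer_eq_top_iff]
    by_contra hne
    have h1 := pMinimal_le_of_sylow_le hP S M hM hSM _ hSD hne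
    have h2 : (⊤ : Subgroup P) ≤ M := by
      rw [← hfr]
      exact sup_le h1 (Subgroup.normalCore_le M)
    exact hM.1 (top_le_iff.mp h2)
  have hDp : IsPGroup p ↥(F ⊓ (S : Subgroup P)) := S.2.to_le inf_le_right
  exact le_sSup ⟨hDn, hDp⟩

/-- A normal subgroup of `p`-power index contains `O^p`. -/
theorem pResidual_le_of_sup_sylow_eq_top [Finite P] {p : ℕ} [hp : Fact p.Prime] (S : Sylow p P)
    (N : Subgroup P) [hN : N.Normal] (h : N ⊔ (S : Subgroup P) = ⊤) : Cfsg.pResidual p P ≤ N := by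
  have hidx : N.index ∣ Nat.card (S : Subgroup P) := by
    have h1 : N.relIndex (N ⊔ (S : Subgroup P)) = N.relIndex (S : Subgroup P) :=
      Subgroup.relIndex_sup_left _ _
    rw [h, Subgroup.relIndex_top_right] at h1
    rw [h1]
    exact Subgroup.relIndex_dvd_card _ _
  obtain ⟨k, hk⟩ := IsPGroup.iff_card.mp S.2
  rw [hk] at hidx
  unfold Cfsg.pResidual
  rw [Subgroup.closure_le]
  intro g hg
  have hg' : (orderOf g).Coprime p := hg
  have h1 : orderOf (g : P ⧸ N) ∣ orderOf g := by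
    apply orderOf_dvd_of_pow_eq_one
    rw [← QuotientGroup.mk_pow, pow_orderOf_eq_one]
    rfl
  have h2 : orderOf (g : P ⧸ N) ∣ p ^ k := by
    refine dvd_trans ?_ hidx
    rw [Subgroup.index_eq_card]
    exact orderOf_dvd_natCard _
  have h3 : orderOf (g : P ⧸ N) = 1 := by
    have hc : (orderOf g).Coprime (p ^ k) := Nat.Coprime.pow_right k hg'
    exact Nat.eq_one_of_dvd_coprimes hc h1 h2
  rw [orderOf_eq_one_iff] at h3
  exact (QuotientGroup.eq_one_iff g).mp h3

/-- In a `p`-minimal group a normal subgroup contains `O^p(P)` or lies in the core of `M`. -/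
theorem pMinimal_normal_dichotomy [Finite P] {p : ℕ} [Fact p.Prime]
    (hP : Cfsg.IsPMinimal p P) (S : Sylow p P) (M : Subgroup P) (hM : IsCoatom M)
    (hSM : (S : Subgroup P) ≤ M) (N : Subgroup P) (hN : N.Normal) :
    Cfsg.pResidual p P ≤ N ∨ N ≤ M.normalCore := by
  by_cases h : N ⊔ (S : Subgroup P) = ⊤
  · left
    exact pResidual_le_of_sup_sylow_eq_top S N h
  · right
    have h1 := pMinimal_le_of_sylow_le hP S M hM hSM _ le_sup_right h
    exact (Subgroup.normal_le_normalCore).mpr (le_sup_left.trans h1)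

theorem pMinimal_pResidual_not_le [Finite P] {p : ℕ} [Fact p.Prime]
    (S : Sylow p P) (M : Subgroup P) (hM : IsCoatom M)
    (hSM : (S : Subgroup P) ≤ M) : ¬ Cfsg.pResidual p P ≤ M := by
  intro h
  have h1 : (⊤ : Subgroup P) ≤ M := by
    rw [← pResidual_sup_sylow S]
    exact sup_le h hSM
  exact hM.1 (top_le_iff.mp h1)

end Cfsg.Agent.Helper5
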