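import Mathlib
import Cfsg.Prelude.Def_LocalEven
import Cfsg.Agent.Helper5.Basic
import Cfsg.Agent.Helper5.PMinimal

/-!
Helper lemmas (helper5): `p`-minimality from one Sylow subgroup, transport along isomorphisms, and
generation of a `p`-minimal group by the conjugates of a Sylow subgroup.
-/

set_option autoImplicit false

namespace Cfsg.Agent.Helper5

open scoped Pointwise

variable {A : Type*} [Group A]

/-- `p`-minimality may be checked on a single Sylow `p`-subgroup. -/
theorem isPMinimal_of_sylow [Finite A] {p : ℕ} [Fact p.Prime] (S : Sylow p A)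
    (hn : ¬ (S : Subgroup A).Normal)
    (hu : ∃! M : Subgroup A, IsCoatom M ∧ (S : Subgroup A) ≤ M) : Cfsg.IsPMinimal p A := by
  intro T
  obtain ⟨g, hg⟩ := MulAction.exists_smul_eq A S T
  have hT : (T : Subgroup A) = (S : Subgroup A).map (MulAut.conj g).toMonoidHom := by
    rw [← hg, Sylow.coe_subgroup_smul]; rfl
  refine ⟨?_, ?_⟩
  · intro hTn
    apply hn
    have h1 : g⁻¹ • T = T := Sylow.smul_eq_of_normal
    have h2 : g⁻¹ • T = S := by rw [← hg, inv_smul_smul]
    rw [← h2, h1]; exact hTn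
  · obtain ⟨M₀, ⟨hM₀, hSM₀⟩, huniq⟩ := hu
    let f : Subgroup A ≃o Subgroup A := (MulAut.conj g).mapSubgroup
    refine ⟨f M₀, ⟨(f.isCoatom_iff M₀).mpr hM₀, ?_⟩, ?_⟩
    · rw [hT]
      exact Subgroup.map_mono hSM₀
    · rintro M ⟨hM, hTM⟩
      have h1 : IsCoatom (f.symm M) := by
        rw [← f.isCoatom_iff, OrderIso.apply_symm_apply]; exact hM
      have h2 : (S : Subgroup A) ≤ f.symm M := by
        rw [← f.le_iff_le, OrderIso.apply_symm_apply]
        rw [hT] at hTM
        exact hTM
      have h3 := huniq (f.symm M) ⟨h1, h2⟩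
      rw [← h3, OrderIso.apply_symm_apply]

/-- `p`-minimality is invariant under isomorphism. -/
theorem isPMinimal_of_mulEquiv {B : Type*} [Group B] [Finite A] {p : ℕ} [Fact p.Prime] (e : A ≃* B)
    (h : Cfsg.IsPMinimal p A) : Cfsg.IsPMinimal p B := by
  have : Finite B := Finite.of_equiv A e.toEquiv
  intro T
  have hsurj : Function.Surjective e.symm.toMonoidHom := e.symm.surjective
  let T' : Sylow p A := T.mapSurjective hsurj
  have hT' : (T' : Subgroup A) = (T : Subgroup B).map e.symm.toMonoidHom :=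
    Sylow.coe_mapSurjective hsurj T
  obtain ⟨hn, M₀, ⟨hM₀, hSM₀⟩, huniq⟩ := h T'
  let f : Subgroup A ≃o Subgroup B := e.mapSubgroup
  refine ⟨?_, ?_⟩
  · intro hTn
    apply hn
    rw [hT']
    exact hTn.map e.symm.toMonoidHom e.symm.surjective
  · refine ⟨f M₀, ⟨(f.isCoatom_iff M₀).mpr hM₀, ?_⟩, ?_⟩
    · have h1 : f (T' : Subgroup A) ≤ f M₀ := f.monotone hSM₀
      have h2 : f (T' : Subgroup A) = (T : Subgroup B) := by
        rw [hT']
        exact f.apply_symm_apply (T : Subgroup B)
      rw [h2] at h1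
      exact h1
    · rintro M ⟨hM, hTM⟩
      have h1 : IsCoatom (f.symm M) := by
        rw [← f.isCoatom_iff, OrderIso.apply_symm_apply]; exact hM
      have h2 : (T' : Subgroup A) ≤ f.symm M := by
        rw [hT']
        exact f.symm.monotone hTM
      have h3 := huniq (f.symm M) ⟨h1, h2⟩
      rw [← h3, OrderIso.apply_symm_apply]

/-- A `p`-minimal group is generated by the conjugates of a Sylow `p`-subgroup. -/
theorem pMinimal_normalClosure_sylow [Finite A] {p : ℕ} [Fact p.Prime] (hP : Cfsg.IsPMinimal p A)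
    (S : Sylow p A) : Subgroup.normalClosure ((S : Subgroup A) : Set A) = ⊤ := by
  by_contra hne
  obtain ⟨hn, M, ⟨hM, hSM⟩, _⟩ := hP S
  have hSN : (S : Subgroup A) ≤ Subgroup.normalClosure ((S : Subgroup A) : Set A) :=
    Subgroup.le_normalClosure
  have h1 : Subgroup.normalClosure ((S : Subgroup A) : Set A) ≤ M :=
    pMinimal_le_of_sylow_le hP S M hM hSM _ hSN hne
  have h2 : Subgroup.normalizer ((S : Subgroup A) : Set A) ≤ M := by
    apply pMinimal_le_of_sylow_le hP S M hM hSM _ Subgroup.le_normalizer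
    intro htop
    apply hn
    exact Subgroup.normalizer_eq_top_iff.mp htop
  have h3 := Sylow.normalizer_sup_eq_top' S hSN
  apply hM.1
  rw [eq_top_iff, ← h3]
  exact sup_le h2 h1

end Cfsg.Agent.Helper5
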