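import Mathlib
import Cfsg.Prelude.Def_LocalEven
import Cfsg.Prelude.Def_Local
import Cfsg.Agent.Helper5.Basic
import Cfsg.Agent.Helper5.PMinimal
import Cfsg.Agent.Helper5.PMinimal3
import Cfsg.Agent.Helper5.PResidual
import Cfsg.Agent.Helper5.Replace
import Cfsg.Agent.Helper1.Subnormal
import Cfsg.Agent.Helper1.Fitting
import Cfsg.Agent.Helper2.Layer4

/-!
Helper lemmas (helper5): in a `p`-minimal group with `O_p = 1` the core of the maximal subgroup is
nilpotent; the layer and the Fitting subgroup lie in `O^p`.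
-/

set_option autoImplicit false

namespace Cfsg.Agent.Helper5

open Cfsg.Agent.Helper1 Cfsg.Agent.Helper2

variable {P : Type*} [Group P]

/-- If `F` is normal and `N ⊔ F = ⊤`, the index of `N` divides the order of `F`. -/
theorem index_dvd_card_of_sup_eq_top [Finite P] (N F : Subgroup P) [hF : F.Normal]
    (h : F ⊔ N = ⊤) : N.index ∣ Nat.card F := by
  have h1 := card_sup_mul_card_inf_of_le_normalizer F N
    (by rw [Subgroup.normalizer_eq_top]; exact le_top)
  rw [h, Subgroup.card_top] at h1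
  have h2 : Nat.card N * N.index = Nat.card P := Subgroup.card_mul_index N
  have h3 : Nat.card N * (N.index * Nat.card ↥(F ⊓ N)) = Nat.card N * Nat.card F := by
    rw [← mul_assoc, h2, h1, mul_comm]
  have h4 := Nat.eq_of_mul_eq_mul_left Nat.card_pos h3
  exact ⟨_, h4.symm⟩

/-- A subgroup of index prime to `p` contains a Sylow `p`-subgroup. -/
theorem exists_sylow_le_of_not_dvd_index [Finite P] {p : ℕ} [Fact p.Prime] (N : Subgroup P)
    (h : ¬ p ∣ N.index) : ∃ T : Sylow p P, (T : Subgroup P) ≤ N := by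
  obtain ⟨T0⟩ : Nonempty (Sylow p ↥N) := inferInstance
  have hT1p : IsPGroup p ((T0 : Subgroup ↥N).map N.subtype) := T0.2.map _
  have hT1idx : ¬ p ∣ ((T0 : Subgroup ↥N).map N.subtype).index := by
    rw [Subgroup.index_map_subtype]
    intro hd
    rcases (Nat.Prime.dvd_mul (Fact.out : p.Prime)).mp hd with h1 | h1
    · exact T0.not_dvd_index h1
    · exact h h1
  refine ⟨hT1p.toSylow hT1idx, ?_⟩
  rw [IsPGroup.toSylow_coe]
  exact Subgroup.map_subtype_le _

/-- In a `p`-minimal group with `O_p(P) = 1`, the core of the maximal subgroup over `S` is nilpotent. -/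
theorem pMinimal_normalCore_isNilpotent [Finite P] {p : ℕ} [Fact p.Prime]
    (hP : Cfsg.IsPMinimal p P) (hOp : Cfsg.pCore p P = ⊥) (S : Sylow p P) (M : Subgroup P)
    (hM : IsCoatom M) (hSM : (S : Subgroup P) ≤ M) : Group.IsNilpotent ↥M.normalCore := by
  classical
  set F := M.normalCore with hF
  have hFn : F.Normal := Subgroup.normalCore_normal M
  have hFS : F ⊓ (S : Subgroup P) = ⊥ := by
    have := pMinimal_normalCore_inf_le_pCore hP S M hM hSM
    rw [hOp] at this; exact eq_bot_iff.mpr this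
  have hFp' : ¬ p ∣ Nat.card F := by
    obtain ⟨Q, hQ⟩ := sylow_inf_subnormal p F hFn.isSubnormal S
    intro hdvd
    have hQ1 : (Q : Subgroup F) ≠ ⊥ := Q.ne_bot_of_dvd_card hdvd
    apply hQ1
    rw [hQ, eq_bot_iff]
    intro x hx
    have : (x : P) ∈ F ⊓ (S : Subgroup P) := ⟨x.2, hx⟩
    rw [hFS, Subgroup.mem_bot] at this
    rw [Subgroup.mem_bot]; exact Subtype.ext this
  have hFM : F ≤ M := Subgroup.normalCore_le M
  apply ((Group.isNilpotent_of_finite_tfae (G := ↥F)).out 0 3).mpr
  intro q hq Q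
  have hfr := Sylow.normalizer_sup_eq_top Q
  set Q' := (Q : Subgroup ↥F).map F.subtype with hQ'
  set N' := Subgroup.normalizer (Q' : Set P) with hN'
  have hN'top : N' = ⊤ := by
    by_contra hne
    have hidx : ¬ p ∣ N'.index := by
      intro hd
      apply hFp'
      refine dvd_trans hd (index_dvd_card_of_sup_eq_top N' F ?_)
      rw [sup_comm]; exact hfr
    obtain ⟨T, hTN'⟩ := exists_sylow_le_of_not_dvd_index N' hidx
    obtain ⟨hTn, MT, ⟨hMT, hTMT⟩, _⟩ := hP T
    have h1 : N' ≤ MT := pMinimal_le_of_sylow_le hP T MT hMT hTMT N' hTN' hne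
    have h2 : F ≤ MT := by
      rcases pMinimal_normal_dichotomy hP T MT hMT hTMT F hFn with h | h
      · exact absurd (h.trans hFM) (pMinimal_pResidual_not_le S M hM hSM)
      · exact h.trans (Subgroup.normalCore_le MT)
    apply hMT.1
    rw [eq_top_iff, ← hfr]
    exact sup_le h1 h2
  have hQ'n : Q'.Normal := Subgroup.normalizer_eq_top_iff.mp hN'top
  have := hQ'n.comap F.subtype
  rwa [hQ', Subgroup.comap_map_eq_self_of_injective F.subtype_injective] at this

/-- The layer lies in `O^p`. -/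
theorem layer_le_pResidual [Finite P] (p : ℕ) [Fact p.Prime] :
    Cfsg.layer P ≤ Cfsg.pResidual p P := by
  have hle : ∀ n : ℕ, Cfsg.layer P ≤ derivedSeries P n := by
    intro n
    induction n with
    | zero => rw [derivedSeries_zero]; exact le_top
    | succ n ih =>
      rw [derivedSeries_succ, ← layer_perfect (G := P)]
      exact Subgroup.commutator_mono ih ih
  have hpq : IsPGroup p (P ⧸ Cfsg.pResidual p P) := isPGroup_quotient_pResidual p
  have hnil : Group.IsNilpotent (P ⧸ Cfsg.pResidual p P) := hpq.isNilpotent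
  have hsol : Group.IsSolvable (P ⧸ Cfsg.pResidual p P) := inferInstance
  obtain ⟨n, hn⟩ := (Group.isSolvable_def _).mp hsol
  have h1 := map_derivedSeries_le_derivedSeries (QuotientGroup.mk' (Cfsg.pResidual p P)) n
  rw [hn, le_bot_iff] at h1
  refine (hle n).trans ?_
  intro x hx
  have h2 : (QuotientGroup.mk' (Cfsg.pResidual p P)) x ∈ (⊥ : Subgroup (P ⧸ Cfsg.pResidual p P)) := by
    rw [← h1]; exact Subgroup.mem_map_of_mem _ hx
  rwa [Subgroup.mem_bot, QuotientGroup.mk'_apply, QuotientGroup.eq_one_iff] at h2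

/-- If `O_p(P) = 1` the Fitting subgroup has order prime to `p`. -/
theorem fitting_coprime_of_pCore_eq_bot [Finite P] {p : ℕ} [hp : Fact p.Prime]
    (hOp : Cfsg.pCore p P = ⊥) : (Nat.card ↥(Cfsg.fittingSubgroup P)).Coprime p := by
  have hF : Cfsg.fittingSubgroup P =
      (⨆ (r : Nat.Primes) (_ : r ≠ (⟨p, hp.out⟩ : Nat.Primes)), Cfsg.pCore (r : ℕ) P : Subgroup P) := by
    rw [fittingSubgroup_eq_fitJoin]
    unfold fitJoin
    apply le_antisymm
    · apply iSup_le
      intro r
      by_cases hr : r = (⟨p, hp.out⟩ : Nat.Primes)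
      · rw [hr]
        change Cfsg.pCore p P ≤ _
        rw [hOp]; exact bot_le
      · exact le_iSup₂_of_le r hr le_rfl
    · apply iSup₂_le
      intro r _
      exact le_iSup (fun r : Nat.Primes => Cfsg.pCore (r : ℕ) P) r
  have hcop := card_iSup_pCore_ne_coprime (G := P) (⟨p, hp.out⟩ : Nat.Primes)
  rw [← hF] at hcop
  exact hcop

theorem fitting_le_pResidual [Finite P] {p : ℕ} [hp : Fact p.Prime]
    (hOp : Cfsg.pCore p P = ⊥) : Cfsg.fittingSubgroup P ≤ Cfsg.pResidual p P := by
  intro x hx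
  apply mem_pResidual_of_coprime
  have h1 : orderOf (⟨x, hx⟩ : ↥(Cfsg.fittingSubgroup P)) ∣ Nat.card ↥(Cfsg.fittingSubgroup P) :=
    orderOf_dvd_natCard _
  rw [Subgroup.orderOf_mk] at h1
  exact Nat.Coprime.coprime_dvd_left h1 (fitting_coprime_of_pCore_eq_bot hOp)

end Cfsg.Agent.Helper5
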