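import Mathlib

/-!
# Abstract "optimal destabilising functional" argument (Kempf–Rousseau) for Borel–Tits (S2154)

Mathlib only.  `G₀ = B N B` is a finite group with a Bruhat decomposition, `E` a Euclidean space of
functionals, `C` the closed dominant cone, `Uh l` the "depth ≥ 1" set attached to `l`.
Given the formal properties `h1`–`h7`, for every nontrivial subgroup `V` there is a minimal-norm
admissible pair `(g, l)`; every element of `N_{G₀}(V)` then lies in `g B n B g⁻¹` for some `n ∈ N`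
fixing `l`.
-/

set_option autoImplicit false

namespace Cfsg.Agent.Helper5.BTOpt

variable {G : Type*} [Group G] [Finite G]
variable {E : Type*} [NormedAddCommGroup E] [InnerProductSpace ℝ E] [FiniteDimensional ℝ E]

/-- A nonempty closed subset of a finite-dimensional real normed space has a point of minimal norm. -/
theorem h5bt_exists_min_norm {s : Set E} (hs : IsClosed s) (hne : s.Nonempty) :
    ∃ y ∈ s, ∀ z ∈ s, ‖y‖ ≤ ‖z‖ := by
  haveI : ProperSpace E := FiniteDimensional.proper_real E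
  obtain ⟨y, hy, hd⟩ := hs.exists_infDist_eq_dist hne (0 : E)
  refine ⟨y, hy, fun z hz => ?_⟩
  have h := Metric.infDist_le_dist_of_mem (x := (0 : E)) hz
  rw [hd] at h
  simpa [dist_zero_left] using h

/-- Strict convexity in the form used: a midpoint of two vectors of equal norm `r` that still has
norm `≥ r` forces the two vectors to coincide. -/
theorem h5bt_eq_of_midpoint_norm_ge {x y : E} (hxy : ‖y‖ = ‖x‖)
    (hm : ‖x‖ ≤ ‖(1 / 2 : ℝ) • (x + y)‖) : y = x := by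
  have h1 : ‖(1 / 2 : ℝ) • (x + y)‖ = (1 / 2) * ‖x + y‖ := by
    rw [norm_smul]; norm_num
  have h2 : ‖x + y‖ ≤ ‖x‖ + ‖y‖ := norm_add_le x y
  have h3 : ‖x + y‖ = ‖x‖ + ‖y‖ := by
    rw [h1] at hm
    rw [hxy] at h2 ⊢
    linarith
  exact (eq_of_norm_eq_of_norm_add_eq hxy.symm h3).symm

/-- The abstract optimal-functional theorem. -/
theorem h5bt_optimal
    (G₀ B N : Subgroup G) (hB : B ≤ G₀) (hN : N ≤ G₀)
    (hBNB : ∀ g ∈ G₀, ∃ b ∈ B, ∃ n ∈ N, ∃ b' ∈ B, g = b * n * b')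
    (C : Set E) (hC : IsClosed C)
    (Uh : E → Set G) (ρ : G → E → E)
    (hρ : ∀ n ∈ N, ∀ l : E, ‖ρ n l‖ = ‖l‖)
    (h1 : ∀ b ∈ B, ∀ l ∈ C, ∀ u ∈ Uh l, b * u * b⁻¹ ∈ Uh l)
    (h2 : ∀ n ∈ N, ∀ l : E, ∀ u ∈ Uh l, n * u * n⁻¹ ∈ Uh (ρ n l))
    (h3 : ∀ l l' : E, Uh l ∩ Uh l' ⊆ Uh ((1 / 2 : ℝ) • (l + l')))
    (h4 : ∀ m : E, ∃ n ∈ N, ρ n m ∈ C)
    (h5 : ∀ S : Set G, IsClosed {l : E | S ⊆ Uh l})
    (h6 : Uh 0 ⊆ {1})
    (V : Subgroup G) (hV : V ≠ ⊥)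
    (h7 : ∃ g ∈ G₀, ∃ l ∈ C, ∀ v ∈ V, g⁻¹ * v * g ∈ Uh l) :
    ∃ g ∈ G₀, ∃ l ∈ C, l ≠ 0 ∧ (∀ v ∈ V, g⁻¹ * v * g ∈ Uh l) ∧
      ∀ x ∈ Subgroup.normalizer (V : Set G) ⊓ G₀, ∃ b ∈ B, ∃ n ∈ N, ∃ b' ∈ B,
        g⁻¹ * x * g = b * n * b' ∧ ρ n l = l := by
  classical
  -- the set of admissible functionals
  set T : Set E := ⋃ g ∈ (G₀ : Set G),
    (C ∩ {l : E | ((fun v => g⁻¹ * v * g) '' (V : Set G)) ⊆ Uh l}) with hT
  have hTmem : ∀ l : E, l ∈ T ↔ l ∈ C ∧ ∃ g ∈ G₀, ∀ v ∈ V, g⁻¹ * v * g ∈ Uh l := by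
    intro l
    simp only [hT, Set.mem_iUnion, Set.mem_inter_iff, Set.mem_setOf_eq, Set.image_subset_iff,
      exists_prop, SetLike.mem_coe]
    constructor
    · rintro ⟨g, hg, hl, hsub⟩
      exact ⟨hl, g, hg, fun v hv => hsub hv⟩
    · rintro ⟨hl, g, hg, hsub⟩
      exact ⟨g, hg, hl, fun v hv => hsub v hv⟩
  have hTclosed : IsClosed T :=
    (Set.toFinite (G₀ : Set G)).isClosed_biUnion (fun g _ => hC.inter (h5 _))
  have hTne : T.Nonempty := by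
    obtain ⟨g, hg, l, hl, hgl⟩ := h7
    exact ⟨l, (hTmem l).2 ⟨hl, g, hg, hgl⟩⟩
  obtain ⟨l₀, hl₀T, hmin⟩ := h5bt_exists_min_norm hTclosed hTne
  obtain ⟨hl₀C, g, hg, hgl₀⟩ := (hTmem l₀).1 hl₀T
  refine ⟨g, hg, l₀, hl₀C, ?_, hgl₀, ?_⟩
  · -- `l₀ ≠ 0`
    rintro rfl
    apply hV
    rw [Subgroup.eq_bot_iff_forall]
    intro v hv
    have h := h6 (hgl₀ v hv)
    rw [Set.mem_singleton_iff] at h
    have : v = g * (g⁻¹ * v * g) * g⁻¹ := by group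
    rw [this, h]; group
  · rintro x ⟨hxN, hxG⟩
    have hxG' : x ∈ G₀ := hxG
    have hconj : ∀ v ∈ V, x⁻¹ * v * x ∈ V := by
      intro v hv
      have h := (Subgroup.mem_normalizer_iff''.1 hxN) v
      exact h.1 hv
    have hmem : g⁻¹ * x * g ∈ G₀ := G₀.mul_mem (G₀.mul_mem (G₀.inv_mem hg) hxG') hg
    obtain ⟨b, hb, n, hn, b', hb', hx⟩ := hBNB _ hmem
    refine ⟨b, hb, n, hn, b', hb', hx, ?_⟩
    -- the two memberships of `y⁻¹ V y`, `y = g b`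
    have hA : ∀ v ∈ V, (g * b)⁻¹ * v * (g * b) ∈ Uh l₀ := by
      intro v hv
      have h := h1 b⁻¹ (B.inv_mem hb) l₀ hl₀C _ (hgl₀ v hv)
      have e : b⁻¹ * (g⁻¹ * v * g) * b⁻¹⁻¹ = (g * b)⁻¹ * v * (g * b) := by group
      rwa [e] at h
    have hnb : n * b' = b⁻¹ * (g⁻¹ * x * g) := by rw [hx]; group
    have hB' : ∀ v ∈ V, (g * b)⁻¹ * v * (g * b) ∈ Uh (ρ n l₀) := by
      intro v hv
      have hv' := hconj v hv
      have h := h1 b' hb' l₀ hl₀C _ (hgl₀ _ hv')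
      have h' := h2 n hn l₀ _ h
      have e : n * (b' * (g⁻¹ * (x⁻¹ * v * x) * g) * b'⁻¹) * n⁻¹
          = (g * b)⁻¹ * v * (g * b) := by
        have e1 : n * (b' * (g⁻¹ * (x⁻¹ * v * x) * g) * b'⁻¹) * n⁻¹
            = (n * b') * (g⁻¹ * (x⁻¹ * v * x) * g) * (n * b')⁻¹ := by group
        rw [e1, hnb]; group
      rwa [e] at h'
    set m : E := (1 / 2 : ℝ) • (l₀ + ρ n l₀) with hm
    have hM : ∀ v ∈ V, (g * b)⁻¹ * v * (g * b) ∈ Uh m :=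
      fun v hv => h3 l₀ (ρ n l₀) ⟨hA v hv, hB' v hv⟩
    obtain ⟨n', hn', hn'C⟩ := h4 m
    have hmT : ρ n' m ∈ T := by
      refine (hTmem _).2 ⟨hn'C, g * b * n'⁻¹, ?_, ?_⟩
      · exact G₀.mul_mem (G₀.mul_mem hg (hB hb)) (G₀.inv_mem (hN hn'))
      · intro v hv
        have h := h2 n' hn' m _ (hM v hv)
        have e : n' * ((g * b)⁻¹ * v * (g * b)) * n'⁻¹
            = (g * b * n'⁻¹)⁻¹ * v * (g * b * n'⁻¹) := by group
        rwa [e] at h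
    have hle : ‖l₀‖ ≤ ‖m‖ := by
      have := hmin _ hmT
      rwa [hρ n' hn' m] at this
    exact h5bt_eq_of_midpoint_norm_ge (hρ n hn l₀) hle

end Cfsg.Agent.Helper5.BTOpt
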