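import Mathlib
import Cfsg.Prelude.Def_ChevStructure
import Cfsg.Agent.Helper1.BTFilt
import Cfsg.Agent.Helper5.BTOpt4

/-!
# S2154 (Borel–Tits): instantiation of the optimal-functional core for a Chevalley group

`E = EuclideanSpace ℝ (Fin D.nroots)` (real functions on the root indices, standard norm),
`h5bt_wt D l : D.Idx → ℝ` the weight function (`0` on the Cartan part, `l s` on `e_s`),
`Û(l) = btf_USub (h5bt_wt D l)`, `P̂(l) = btf_PSub (h5bt_wt D l)` (helper1's matrix filtrations).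

`h5bt_main` : from the Chevalley-side facts (Bruhat, `B ≤ P̂(l)` for dominant `l`, every monomial
element transports weights, dominant conjugates, one admissible pair) it produces `g`, a dominant
`l ≠ 0` with `g⁻¹ V g ≤ Û(l)` and `g⁻¹ N_G(V) g ≤ P̂(l)`.
-/

set_option autoImplicit false

namespace Cfsg.Agent.Helper5.BTMain

open Cfsg Cfsg.Lie Cfsg.Agent.Helper1.BTFilt Cfsg.Agent.Helper5.BTOpt4
open scoped MatrixGroups

/-- The weight function on the Chevalley basis attached to a real function on the root indices. -/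
def h5bt_wt (D : ChevalleyDatum) (l : EuclideanSpace ℝ (Fin D.nroots)) : D.Idx → ℝ :=
  Sum.elim (fun _ => 0) (fun s => l s)

@[simp] theorem h5bt_wt_inl (D : ChevalleyDatum) (l : EuclideanSpace ℝ (Fin D.nroots))
    (i : Fin D.rank) : h5bt_wt D l (Sum.inl i) = 0 := rfl

@[simp] theorem h5bt_wt_inr (D : ChevalleyDatum) (l : EuclideanSpace ℝ (Fin D.nroots))
    (s : Fin D.nroots) : h5bt_wt D l (Sum.inr s) = l s := rfl

theorem h5bt_wt_zero (D : ChevalleyDatum) :
    h5bt_wt D (0 : EuclideanSpace ℝ (Fin D.nroots)) = fun _ => (0 : ℝ) := by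
  funext a
  cases a <;> simp

theorem h5bt_wt_mid (D : ChevalleyDatum) (l l' : EuclideanSpace ℝ (Fin D.nroots)) :
    h5bt_wt D ((1 / 2 : ℝ) • (l + l')) = fun a => (h5bt_wt D l a + h5bt_wt D l' a) / 2 := by
  funext a
  cases a with
  | inl i => simp
  | inr s => simp; ring

theorem h5bt_continuous_wt (D : ChevalleyDatum) : Continuous (h5bt_wt D) := by
  apply continuous_pi
  intro a
  cases a with
  | inl i => exact continuous_const
  | inr s => exact (EuclideanSpace.proj s).continuous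

variable {D : ChevalleyDatum} {F : Type*} [Field F] [Fintype F]

/-- `n` carries the weight `l` to the weight `σ l`, for every `l` in the domain `LL`. -/
def h5bt_IsTransport (LL : Set (EuclideanSpace ℝ (Fin D.nroots))) (n : GL D.Idx F)
    (σ : EuclideanSpace ℝ (Fin D.nroots) → EuclideanSpace ℝ (Fin D.nroots)) : Prop :=
  (∀ l ∈ LL, σ l ∈ LL) ∧ (∀ l ∈ LL, ‖σ l‖ = ‖l‖) ∧
  (∀ l ∈ LL, ∀ a b, (n : Matrix D.Idx D.Idx F) a b ≠ 0 → h5bt_wt D (σ l) a = h5bt_wt D l b) ∧
  (∀ l ∈ LL, ∀ a b, ((n⁻¹ : GL D.Idx F) : Matrix D.Idx D.Idx F) a b ≠ 0 →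
    h5bt_wt D l a = h5bt_wt D (σ l) b)

theorem h5bt_isTransport_one (LL : Set (EuclideanSpace ℝ (Fin D.nroots))) :
    h5bt_IsTransport LL (1 : GL D.Idx F) id := by
  refine ⟨fun l hl => hl, fun l _ => rfl, ?_, ?_⟩
  · intro l _ a b h
    have : a = b := by
      by_contra hab
      exact h (by simp [Matrix.one_apply_ne hab])
    rw [this]; rfl
  · intro l _ a b h
    have : a = b := by
      by_contra hab
      exact h (by simp [Matrix.one_apply_ne hab])
    rw [this]; rfl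

theorem h5bt_isTransport_mul {LL : Set (EuclideanSpace ℝ (Fin D.nroots))} {n n' : GL D.Idx F}
    {σ σ' : EuclideanSpace ℝ (Fin D.nroots) → EuclideanSpace ℝ (Fin D.nroots)}
    (h : h5bt_IsTransport LL n σ) (h' : h5bt_IsTransport LL n' σ') :
    h5bt_IsTransport LL (n * n') (σ ∘ σ') := by
  obtain ⟨hL, hN, hE, hI⟩ := h
  obtain ⟨hL', hN', hE', hI'⟩ := h'
  refine ⟨fun l hl => hL _ (hL' l hl), fun l hl => ?_, ?_, ?_⟩
  · simp only [Function.comp_apply]
    rw [hN _ (hL' l hl), hN' l hl]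
  · intro l hl a b hab
    have hab' : ((n : Matrix D.Idx D.Idx F) * (n' : Matrix D.Idx D.Idx F)) a b ≠ 0 := by
      simpa using hab
    obtain ⟨c, hac, hcb⟩ := btf_mul_apply_ne_zero hab'
    simp only [Function.comp_apply]
    rw [hE _ (hL' l hl) a c hac, hE' l hl c b hcb]
  · intro l hl a b hab
    have hab' : (((n'⁻¹ : GL D.Idx F) : Matrix D.Idx D.Idx F) *
        ((n⁻¹ : GL D.Idx F) : Matrix D.Idx D.Idx F)) a b ≠ 0 := by
      have e : ((n * n')⁻¹ : GL D.Idx F) = n'⁻¹ * n⁻¹ := mul_inv_rev n n'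
      rw [e] at hab
      simpa using hab
    obtain ⟨c, hac, hcb⟩ := btf_mul_apply_ne_zero hab'
    simp only [Function.comp_apply]
    rw [hI' l hl a c hac, hI _ (hL' l hl) c b hcb]

/-- The instantiated optimal-functional theorem. -/
theorem h5bt_main
    (LL : Submodule ℝ (EuclideanSpace ℝ (Fin D.nroots)))
    (dom : Set (EuclideanSpace ℝ (Fin D.nroots)))
    (hdomLL : dom ⊆ LL) (hdomClosed : IsClosed dom)
    (hBG : D.borelSubgroup F ≤ D.group F) (hNG : D.monomialSubgroup F ≤ D.group F)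
    (hBP : ∀ l ∈ dom, D.borelSubgroup F ≤ btf_PSub (h5bt_wt D l))
    (hBruhat : ∀ g ∈ D.group F, ∃ b ∈ D.borelSubgroup F, ∃ n ∈ D.monomialSubgroup F,
      ∃ b' ∈ D.borelSubgroup F, g = b * n * b')
    (hNT : ∀ n ∈ D.monomialSubgroup F, ∃ σ, h5bt_IsTransport (LL : Set _) n σ)
    (hDomConj : ∀ m ∈ LL, ∃ n ∈ D.monomialSubgroup F, ∃ σ,
      h5bt_IsTransport (LL : Set _) n σ ∧ σ m ∈ dom)
    (V : Subgroup (GL D.Idx F)) (hV : V ≠ ⊥)
    (h7 : ∃ g ∈ D.group F, ∃ l ∈ dom, ∀ v ∈ V, g⁻¹ * v * g ∈ btf_USub (h5bt_wt D l)) :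
    ∃ g ∈ D.group F, ∃ l ∈ dom, l ≠ 0 ∧
      (∀ v ∈ V, g⁻¹ * v * g ∈ (btf_USub (h5bt_wt D l) : Subgroup (GL D.Idx F))) ∧
      ∀ x ∈ Subgroup.normalizer (V : Set (GL D.Idx F)) ⊓ D.group F,
        g⁻¹ * x * g ∈ (btf_PSub (h5bt_wt D l) : Subgroup (GL D.Idx F)) := by
  classical
  set NN : Set (GL D.Idx F × (EuclideanSpace ℝ (Fin D.nroots) → EuclideanSpace ℝ (Fin D.nroots))) :=
    {p | p.1 ∈ D.monomialSubgroup F ∧ h5bt_IsTransport (LL : Set _) p.1 p.2} with hNNdef
  have key := h5bt_optimal_dom (G := GL D.Idx F) (E := EuclideanSpace ℝ (Fin D.nroots))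
    (D.group F) (D.borelSubgroup F) hBG NN
    (fun p hp => hNG hp.1)
    (by
      intro g hg
      obtain ⟨b, hb, n, hn, b', hb', e⟩ := hBruhat g hg
      obtain ⟨σ, hσ⟩ := hNT n hn
      exact ⟨b, hb, (n, σ), ⟨hn, hσ⟩, b', hb', e⟩)
    dom hdomClosed (LL : Set _) hdomLL
    (by
      intro l hl p hp
      exact LL.smul_mem _ (LL.add_mem (hdomLL hl) (hp.2.1 l (hdomLL hl))))
    (fun l => ((btf_USub (h5bt_wt D l) : Subgroup (GL D.Idx F)) : Set (GL D.Idx F)))
    (fun p hp l hl => hp.2.2.1 l hl)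
    (by
      intro b hb l hl u hu
      exact btf_PSub_conj_USub (hBP l hl hb) hu)
    (by
      intro p hp l hl u hu
      exact btf_USub_transport (hp.2.2.2.1 l hl) (hp.2.2.2.2 l hl) hu)
    (by
      intro l _ p _ u hu
      have h := btf_USub_midpoint hu.1 hu.2
      show u ∈ btf_USub (h5bt_wt D ((1 / 2 : ℝ) • (l + p.2 l)))
      rw [h5bt_wt_mid]
      exact h)
    (by
      intro m hm
      obtain ⟨n, hn, σ, hσ, hd⟩ := hDomConj m hm
      exact ⟨(n, σ), ⟨hn, hσ⟩, hd⟩)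
    (by
      intro S
      have hcl := btf_isClosed_U_set (ι := D.Idx) (F := F)
        ((fun g : GL D.Idx F => (g : Matrix D.Idx D.Idx F)) '' S)
      have hpre := hcl.preimage (h5bt_continuous_wt D)
      have heq : {l : EuclideanSpace ℝ (Fin D.nroots) |
            S ⊆ ((btf_USub (h5bt_wt D l) : Subgroup (GL D.Idx F)) : Set (GL D.Idx F))} =
          h5bt_wt D ⁻¹' {φ : D.Idx → ℝ |
            ((fun g : GL D.Idx F => (g : Matrix D.Idx D.Idx F)) '' S) ⊆ btf_U φ} := by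
        ext l
        constructor
        · rintro h m ⟨g, hg, rfl⟩
          exact h hg
        · intro h g hg
          exact h ⟨g, hg, rfl⟩
      rw [heq]
      exact hpre)
    (by
      intro u hu
      have hu' : u ∈ (btf_USub (h5bt_wt D 0) : Subgroup (GL D.Idx F)) := hu
      rw [h5bt_wt_zero, btf_USub_zero] at hu'
      exact Subgroup.mem_bot.1 hu')
    V hV h7
  obtain ⟨g, hg, l, hl, hl0, hVl, hx⟩ := key
  refine ⟨g, hg, l, hl, hl0, hVl, ?_⟩
  intro x hxmem
  obtain ⟨b, hb, p, hp, b', hb', e, hfix⟩ := hx x hxmem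
  rw [e]
  have hbP := hBP l hl hb
  have hb'P := hBP l hl hb'
  have hnP : p.1 ∈ (btf_PSub (h5bt_wt D l) : Subgroup (GL D.Idx F)) := by
    rw [btf_mem_PSub]
    intro a c hac
    have h := hp.2.2.2.1 l (hdomLL hl) a c hac
    rw [hfix] at h
    exact le_of_eq h.symm
  exact Subgroup.mul_mem _ (Subgroup.mul_mem _ hbP hnP) hb'P

end Cfsg.Agent.Helper5.BTMain
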