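import Mathlib
import Cfsg.Agent.Helper5.BTMain
import Cfsg.Agent.Helper8.BTWeylA

/-!
# S2154 (Borel–Tits): glue between the optimisation theorem `h5bt_main` and helper8's Weyl API

`h5bt_ofNat D ψ` turns a function `ψ : ℕ → ℝ` on root indices into a vector of
`EuclideanSpace ℝ (Fin D.nroots)`; `h5bt_LL D` is the submodule of the vectors `ofNat (btw_phi D lam)`,
`h5bt_dom D` its dominant cone.  `h5bt_main_weyl` restates `h5bt_main` with all hypotheses in
helper8's parametrisation (`lam : ℕ → ℝ`, words `w : List ℕ`, `btw_car`, `btw_wact`).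
-/

set_option autoImplicit false

namespace Cfsg.Agent.Helper5.BTGlue

open Cfsg Cfsg.Lie Cfsg.Agent.Helper7.Chev Cfsg.Agent.Helper1.BTFilt Cfsg.Agent.Helper5.BTMain
  Cfsg.Agent.Helper8.BTW
open scoped MatrixGroups

/-- A function on root indices as a vector of the Euclidean space. -/
noncomputable def h5bt_ofNat (D : ChevalleyDatum) (ψ : ℕ → ℝ) : EuclideanSpace ℝ (Fin D.nroots) :=
  WithLp.toLp 2 (fun s : Fin D.nroots => ψ s.val)

/-- A vector of the Euclidean space as a function on root indices (`0` out of range). -/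
noncomputable def h5bt_toNat (D : ChevalleyDatum) (l : EuclideanSpace ℝ (Fin D.nroots)) : ℕ → ℝ :=
  fun k => if h : k < D.nroots then l ⟨k, h⟩ else 0

variable {D : ChevalleyDatum}

@[simp] theorem h5bt_ofNat_apply (ψ : ℕ → ℝ) (s : Fin D.nroots) : h5bt_ofNat D ψ s = ψ s.val := rfl

theorem h5bt_toNat_lt (l : EuclideanSpace ℝ (Fin D.nroots)) {k : ℕ} (h : k < D.nroots) :
    h5bt_toNat D l k = l ⟨k, h⟩ := by
  simp [h5bt_toNat, h]

theorem h5bt_ofNat_toNat (l : EuclideanSpace ℝ (Fin D.nroots)) : h5bt_ofNat D (h5bt_toNat D l) = l := by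
  ext s
  simp [h5bt_toNat_lt l s.isLt]

theorem h5bt_toNat_ofNat (ψ : ℕ → ℝ) {k : ℕ} (h : k < D.nroots) :
    h5bt_toNat D (h5bt_ofNat D ψ) k = ψ k := by
  rw [h5bt_toNat_lt _ h]; rfl

theorem h5bt_ofNat_congr {ψ ψ' : ℕ → ℝ} (h : ∀ s < D.nroots, ψ s = ψ' s) :
    h5bt_ofNat D ψ = h5bt_ofNat D ψ' := by
  ext s
  exact h s.val s.isLt

theorem h5bt_wt_ofNat (ψ : ℕ → ℝ) : h5bt_wt D (h5bt_ofNat D ψ) = btw_wtI D ψ := by
  funext a
  cases a <;> rfl

theorem h5bt_wt_eq (l : EuclideanSpace ℝ (Fin D.nroots)) :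
    h5bt_wt D l = btw_wtI D (h5bt_toNat D l) := by
  conv_lhs => rw [← h5bt_ofNat_toNat l]
  exact h5bt_wt_ofNat _

theorem h5bt_norm_sq_ofNat (ψ : ℕ → ℝ) :
    ‖h5bt_ofNat D ψ‖ ^ 2 = ∑ r ∈ Finset.range D.nroots, (ψ r) ^ 2 := by
  rw [EuclideanSpace.real_norm_sq_eq]
  simp only [h5bt_ofNat_apply]
  exact Fin.sum_univ_eq_sum_range (fun r => (ψ r) ^ 2) D.nroots

theorem h5bt_norm_sq_phi (lam : ℕ → ℝ) : ‖h5bt_ofNat D (btw_phi D lam)‖ ^ 2 = btw_nsq D lam :=
  h5bt_norm_sq_ofNat _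

/-- The submodule of additive functions: the vectors `ofNat (btw_phi D lam)`. -/
noncomputable def h5bt_LL (D : ChevalleyDatum) : Submodule ℝ (EuclideanSpace ℝ (Fin D.nroots)) where
  carrier := {l | ∃ lam : ℕ → ℝ, l = h5bt_ofNat D (btw_phi D lam)}
  add_mem' := by
    rintro _ _ ⟨lam, rfl⟩ ⟨mu, rfl⟩
    refine ⟨fun i => lam i + mu i, ?_⟩
    ext s
    simp only [PiLp.add_apply, h5bt_ofNat_apply]
    exact (btw_phi_add lam mu s.val).symm
  zero_mem' := by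
    refine ⟨fun _ => 0, ?_⟩
    ext s
    simp only [h5bt_ofNat_apply, PiLp.zero_apply]
    exact (btw_phi_zero s.val).symm
  smul_mem' := by
    rintro c _ ⟨lam, rfl⟩
    refine ⟨fun i => c * lam i, ?_⟩
    ext s
    simp only [PiLp.smul_apply, h5bt_ofNat_apply, smul_eq_mul]
    exact (btw_phi_smul c lam s.val).symm

theorem h5bt_mem_LL {l : EuclideanSpace ℝ (Fin D.nroots)} :
    l ∈ h5bt_LL D ↔ ∃ lam : ℕ → ℝ, l = h5bt_ofNat D (btw_phi D lam) := Iff.rfl

/-- The dominant cone. -/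
def h5bt_dom (D : ChevalleyDatum) : Set (EuclideanSpace ℝ (Fin D.nroots)) :=
  {l | l ∈ h5bt_LL D ∧ ∀ i < D.rank, 0 ≤ h5bt_toNat D l (D.simple i)}

theorem h5bt_dom_subset : h5bt_dom D ⊆ (h5bt_LL D : Set _) := fun _ h => h.1

theorem h5bt_continuous_toNat (k : ℕ) :
    Continuous (fun l : EuclideanSpace ℝ (Fin D.nroots) => h5bt_toNat D l k) := by
  by_cases h : k < D.nroots
  · have : (fun l : EuclideanSpace ℝ (Fin D.nroots) => h5bt_toNat D l k) =
        fun l => l ⟨k, h⟩ := by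
      funext l; exact h5bt_toNat_lt l h
    rw [this]
    exact (EuclideanSpace.proj (⟨k, h⟩ : Fin D.nroots)).continuous
  · have : (fun l : EuclideanSpace ℝ (Fin D.nroots) => h5bt_toNat D l k) = fun _ => 0 := by
      funext l; simp [h5bt_toNat, h]
    rw [this]
    exact continuous_const

theorem h5bt_isClosed_dom : IsClosed (h5bt_dom D) := by
  have h1 : IsClosed ((h5bt_LL D : Submodule ℝ (EuclideanSpace ℝ (Fin D.nroots))) :
      Set (EuclideanSpace ℝ (Fin D.nroots))) :=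
    Submodule.closed_of_finiteDimensional (h5bt_LL D)
  have h2 : IsClosed (⋂ i ∈ {i : ℕ | i < D.rank},
      {l : EuclideanSpace ℝ (Fin D.nroots) | 0 ≤ h5bt_toNat D l (D.simple i)}) :=
    isClosed_biInter fun i _ => isClosed_le continuous_const (h5bt_continuous_toNat _)
  have : h5bt_dom D = ((h5bt_LL D : Submodule ℝ (EuclideanSpace ℝ (Fin D.nroots))) :
      Set (EuclideanSpace ℝ (Fin D.nroots))) ∩
      ⋂ i ∈ {i : ℕ | i < D.rank},
        {l : EuclideanSpace ℝ (Fin D.nroots) | 0 ≤ h5bt_toNat D l (D.simple i)} := by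
    ext l
    simp only [h5bt_dom, Set.mem_setOf_eq, Set.mem_inter_iff, Set.mem_iInter, SetLike.mem_coe]
  rw [this]
  exact h1.inter h2

section good

variable (hG : Good2 D)

include hG in
theorem h5bt_car_congr {ψ ψ' : ℕ → ℝ} (h : ∀ s < D.nroots, ψ s = ψ' s) {w : List ℕ}
    (hw : ∀ i ∈ w, i < D.rank) : ∀ s < D.nroots, btw_car D w ψ s = btw_car D w ψ' s := by
  induction w with
  | nil => exact h
  | cons i w ih =>
    intro s hs
    have hi : i < D.rank := hw i List.mem_cons_self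
    have hw' : ∀ j ∈ w, j < D.rank := fun j hj => hw j (List.mem_cons_of_mem _ hj)
    rw [btw_car_cons, btw_car_cons]
    exact ih hw' _ (hG.refl_lt hi hs)

/-- The map induced by a word on vectors. -/
noncomputable def h5bt_sig (D : ChevalleyDatum) (w : List ℕ)
    (l : EuclideanSpace ℝ (Fin D.nroots)) : EuclideanSpace ℝ (Fin D.nroots) :=
  h5bt_ofNat D (btw_car D w (h5bt_toNat D l))

include hG in
theorem h5bt_sig_phi (lam : ℕ → ℝ) {w : List ℕ} (hw : ∀ i ∈ w, i < D.rank) :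
    h5bt_sig D w (h5bt_ofNat D (btw_phi D lam)) = h5bt_ofNat D (btw_phi D (btw_wact D w lam)) := by
  unfold h5bt_sig
  apply h5bt_ofNat_congr
  intro s hs
  rw [btw_phi_wact hG lam hw hs]
  exact h5bt_car_congr hG (fun k hk => h5bt_toNat_ofNat _ hk) hw s hs

include hG in
theorem h5bt_simple_lt {i : ℕ} (hi : i < D.rank) : D.simple i < D.nroots :=
  hG.toGood1.simple_lt hi

end good

variable {F : Type*} [Field F] [Fintype F]

/-- `n` carries every weight `psi` to `btw_car w psi` (helper8's transport shape). -/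
def h5bt_WordTransport (D : ChevalleyDatum) {F : Type*} [Field F] (n : GL D.Idx F) (w : List ℕ) :
    Prop :=
  (∀ psi : ℕ → ℝ, ∀ a b, (n : Matrix D.Idx D.Idx F) a b ≠ 0 →
    btw_wtI D (btw_car D w psi) a = btw_wtI D psi b) ∧
  (∀ psi : ℕ → ℝ, ∀ a b, ((n⁻¹ : GL D.Idx F) : Matrix D.Idx D.Idx F) a b ≠ 0 →
    btw_wtI D psi a = btw_wtI D (btw_car D w psi) b)

theorem h5bt_isTransport_of_word (hG : Good2 D) {n : GL D.Idx F} {w : List ℕ}
    (hw : ∀ i ∈ w, i < D.rank) (h : h5bt_WordTransport D n w) :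
    h5bt_IsTransport ((h5bt_LL D : Submodule ℝ _) : Set _) n (h5bt_sig D w) := by
  refine ⟨?_, ?_, ?_, ?_⟩
  · rintro _ ⟨lam, rfl⟩
    exact ⟨btw_wact D w lam, h5bt_sig_phi hG lam hw⟩
  · rintro _ ⟨lam, rfl⟩
    rw [h5bt_sig_phi hG lam hw]
    have h1 := h5bt_norm_sq_phi (D := D) (btw_wact D w lam)
    have h2 := h5bt_norm_sq_phi (D := D) lam
    rw [btw_nsq_wact hG lam hw, ← h2] at h1
    exact (sq_eq_sq₀ (norm_nonneg _) (norm_nonneg _)).1 h1
  · intro l _ a b hab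
    have := h.1 (h5bt_toNat D l) a b hab
    rw [h5bt_wt_eq l]
    unfold h5bt_sig
    rw [h5bt_wt_ofNat]
    exact this
  · intro l _ a b hab
    have := h.2 (h5bt_toNat D l) a b hab
    rw [h5bt_wt_eq l]
    unfold h5bt_sig
    rw [h5bt_wt_ofNat]
    exact this

/-- `h5bt_main` in helper8's parametrisation. -/
theorem h5bt_main_weyl (hG : Good2 D)
    (hBG : D.borelSubgroup F ≤ D.group F) (hNG : D.monomialSubgroup F ≤ D.group F)
    (hBP : ∀ lam : ℕ → ℝ, (∀ i < D.rank, 0 ≤ btw_phi D lam (D.simple i)) →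
      D.borelSubgroup F ≤ btf_PSub (btw_wtI D (btw_phi D lam)))
    (hBruhat : ∀ g ∈ D.group F, ∃ b ∈ D.borelSubgroup F, ∃ n ∈ D.monomialSubgroup F,
      ∃ b' ∈ D.borelSubgroup F, g = b * n * b')
    (hNT : ∀ n ∈ D.monomialSubgroup F, ∃ w : List ℕ, (∀ i ∈ w, i < D.rank) ∧
      h5bt_WordTransport D n w)
    (hWord : ∀ w : List ℕ, (∀ i ∈ w, i < D.rank) → ∃ n ∈ D.monomialSubgroup F,
      h5bt_WordTransport D n w)
    (hDomW : ∀ lam : ℕ → ℝ, ∃ w : List ℕ, (∀ i ∈ w, i < D.rank) ∧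
      ∀ i < D.rank, 0 ≤ btw_phi D (btw_wact D w lam) (D.simple i))
    (V : Subgroup (GL D.Idx F)) (hV : V ≠ ⊥)
    (h7 : ∃ g ∈ D.group F, ∃ lam : ℕ → ℝ, (∀ i < D.rank, 0 ≤ btw_phi D lam (D.simple i)) ∧
      ∀ v ∈ V, g⁻¹ * v * g ∈ btf_USub (btw_wtI D (btw_phi D lam))) :
    ∃ g ∈ D.group F, ∃ lam : ℕ → ℝ, (∀ i < D.rank, 0 ≤ btw_phi D lam (D.simple i)) ∧
      (∃ r < D.nroots, btw_phi D lam r ≠ 0) ∧
      (∀ v ∈ V, g⁻¹ * v * g ∈ (btf_USub (btw_wtI D (btw_phi D lam)) : Subgroup (GL D.Idx F))) ∧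
      ∀ x ∈ Subgroup.normalizer (V : Set (GL D.Idx F)) ⊓ D.group F,
        g⁻¹ * x * g ∈ (btf_PSub (btw_wtI D (btw_phi D lam)) : Subgroup (GL D.Idx F)) := by
  -- membership in `dom` in terms of parameters
  have hdom_iff : ∀ lam : ℕ → ℝ, h5bt_ofNat D (btw_phi D lam) ∈ h5bt_dom D ↔
      ∀ i < D.rank, 0 ≤ btw_phi D lam (D.simple i) := by
    intro lam
    constructor
    · intro h i hi
      have := h.2 i hi
      rwa [h5bt_toNat_ofNat _ (h5bt_simple_lt hG hi)] at this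
    · intro h
      refine ⟨⟨lam, rfl⟩, fun i hi => ?_⟩
      rw [h5bt_toNat_ofNat _ (h5bt_simple_lt hG hi)]
      exact h i hi
  have key := h5bt_main (D := D) (F := F) (h5bt_LL D) (h5bt_dom D) h5bt_dom_subset
    h5bt_isClosed_dom hBG hNG
    (by
      rintro l ⟨⟨lam, rfl⟩, hl⟩
      rw [h5bt_wt_ofNat]
      exact hBP lam ((hdom_iff lam).1 ⟨⟨lam, rfl⟩, hl⟩))
    hBruhat
    (by
      intro n hn
      obtain ⟨w, hw, hnw⟩ := hNT n hn
      exact ⟨h5bt_sig D w, h5bt_isTransport_of_word hG hw hnw⟩)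
    (by
      rintro _ ⟨lam, rfl⟩
      obtain ⟨w, hw, hdomw⟩ := hDomW lam
      obtain ⟨n, hn, hnw⟩ := hWord w hw
      refine ⟨n, hn, h5bt_sig D w, h5bt_isTransport_of_word hG hw hnw, ?_⟩
      rw [h5bt_sig_phi hG lam hw]
      exact (hdom_iff _).2 hdomw)
    V hV
    (by
      obtain ⟨g, hg, lam, hlam, hv⟩ := h7
      refine ⟨g, hg, h5bt_ofNat D (btw_phi D lam), (hdom_iff lam).2 hlam, ?_⟩
      rw [h5bt_wt_ofNat]
      exact hv)
  obtain ⟨g, hg, l, hl, hl0, hVl, hx⟩ := key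
  obtain ⟨lam, rfl⟩ := hl.1
  refine ⟨g, hg, lam, (hdom_iff lam).1 hl, ?_, ?_, ?_⟩
  · by_contra hcon
    push Not at hcon
    apply hl0
    ext s
    simp only [h5bt_ofNat_apply, PiLp.zero_apply]
    exact hcon s.val s.isLt
  · rw [h5bt_wt_ofNat] at hVl
    exact hVl
  · rw [h5bt_wt_ofNat] at hx
    exact hx

end Cfsg.Agent.Helper5.BTGlue
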