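import Mathlib
import Cfsg.Prelude.Def_LocalStructure
import Cfsg.Agent.Helper5.Basic

/-!
Helper lemmas (helper5): subnormal closure.
-/

set_option autoImplicit false

namespace Cfsg.Agent.Helper5

variable {G : Type*} [Group G]

theorem isSubnormal_sInf_of_finite (s : Set (Subgroup G)) (hs : s.Finite)
    (h : ∀ S ∈ s, S.IsSubnormal) : (sInf s).IsSubnormal := by
  induction s, hs using Set.Finite.induction_on with
  | empty => rw [sInf_empty]; exact Subgroup.IsSubnormal.top
  | insert ha hs ih =>
    rw [sInf_insert]
    exact (h _ (Set.mem_insert _ _)).inf (ih (fun S hS => h S (Set.mem_insert_of_mem _ hS)))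

theorem subnormalClosure_isSubnormal [Finite G] (A : Subgroup G) :
    (Cfsg.subnormalClosure A).IsSubnormal := by
  unfold Cfsg.subnormalClosure
  exact isSubnormal_sInf_of_finite _ (Set.toFinite _) (fun S hS => hS.2)

theorem le_subnormalClosure (A : Subgroup G) : A ≤ Cfsg.subnormalClosure A := by
  unfold Cfsg.subnormalClosure
  exact le_sInf (fun S hS => hS.1)

theorem subnormalClosure_le (A S : Subgroup G) (hAS : A ≤ S) (hS : S.IsSubnormal) :
    Cfsg.subnormalClosure A ≤ S := by
  unfold Cfsg.subnormalClosure
  exact sInf_le ⟨hAS, hS⟩

/-- In a finite nilpotent group every subgroup is subnormal. -/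
theorem isSubnormal_of_isNilpotent [Finite G] [Group.IsNilpotent G] (S : Subgroup G) :
    S.IsSubnormal := by
  have hnc : NormalizerCondition G := Group.normalizerCondition_of_isNilpotent
  -- induction on index
  suffices h : ∀ n : ℕ, ∀ S : Subgroup G, S.index = n → S.IsSubnormal from h _ S rfl
  intro n
  induction n using Nat.strong_induction_on with
  | _ n ih =>
    intro S hS
    by_cases htop : S = ⊤
    · rw [htop]; exact Subgroup.IsSubnormal.top
    · have hlt : S < Subgroup.normalizer (S : Set G) := hnc S (lt_top_iff_ne_top.mpr htop)
      have hidx : (Subgroup.normalizer (S : Set G)).index < n := by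
        rw [← hS]
        have hdvd := Subgroup.index_dvd_of_le hlt.le
        have hpos : 0 < S.index := Nat.pos_of_ne_zero Subgroup.index_ne_zero_of_finite
        rcases Nat.lt_or_ge (Subgroup.normalizer (S : Set G)).index S.index with h | h
        · exact h
        · exfalso
          have heq : (Subgroup.normalizer (S : Set G)).index = S.index :=
            le_antisymm (Nat.le_of_dvd hpos hdvd) h
          have hrel := Subgroup.relIndex_mul_index hlt.le
          rw [heq] at hrel
          have h1 : S.relIndex (Subgroup.normalizer (S : Set G)) = 1 := by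
            have := Nat.eq_of_mul_eq_mul_right hpos (by rw [hrel, one_mul] :
              S.relIndex (Subgroup.normalizer (S : Set G)) * S.index = 1 * S.index)
            exact this
          rw [Subgroup.relIndex_eq_one] at h1
          exact absurd (le_antisymm hlt.le h1) hlt.ne
      have hN := ih _ hidx _ rfl
      exact Subgroup.IsSubnormal.step S _ hlt.le hN Subgroup.normal_in_normalizer

end Cfsg.Agent.Helper5
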