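import Mathlib

/-!
# S0508 (Brauer–Suzuki–Wall, dihedral Sylow 2), Part 1, piece P4 (helper5): the TI property of `K`
from hypothesis (c).  Self-contained (Mathlib only).
-/

set_option autoImplicit false
set_option linter.unusedVariables false
set_option linter.unusedSectionVars false

namespace Cfsg.Agent.Helper2.Bsd

theorem h5p4_orderOf_conj {G : Type*} [Group G] (g z : G) : orderOf (g * z * g⁻¹) = orderOf z := by
  have : g * z * g⁻¹ = (MulAut.conj g) z := by simp [MulAut.conj_apply]
  rw [this, MulEquiv.orderOf_eq]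

/-- an element of even order has a power of order two. -/
theorem h5p4_pow_half {G : Type*} [Group G] [Finite G] (x : G) (m : ℕ) (hm : orderOf x = m + m) :
    orderOf (x ^ m) = 2 := by
  have hpos : 0 < orderOf x := orderOf_pos x
  have hm0 : 0 < m := by omega
  apply orderOf_eq_prime
  · rw [← pow_mul, mul_two, ← hm, pow_orderOf_eq_one]
  · intro h1
    have hd : orderOf x ∣ m := orderOf_dvd_of_pow_eq_one h1
    have := Nat.le_of_dvd hm0 hd
    omega

-- P4 : hTI from (hc)
theorem p4_TI {G : Type*} [Group G] [Finite G] (t : G) (ht : orderOf t = 2) (K O : Subgroup G)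
    (hcomm : ∀ a ∈ K, ∀ b ∈ K, a * b = b * a) (htK : t ∈ K)
    (huniq : ∀ x ∈ K, orderOf x = 2 → x = t)
    (hinvC : ∀ u ∈ Subgroup.centralizer ({t} : Set G), u ∉ K → ∀ x ∈ K, u * x * u⁻¹ = x⁻¹)
    (hodd : ∀ x ∈ K, Odd (orderOf x) → x ∈ O)
    (hc : ∀ Y : Subgroup G, Y ≤ O → Y ≠ ⊥ →
      Subgroup.normalizer (Y : Set G) ≤ Subgroup.centralizer ({t} : Set G)) :
    ∀ g : G, g ∉ Subgroup.centralizer ({t} : Set G) →
      K ⊓ K.map (MulAut.conj g).toMonoidHom = ⊥ := by
  intro g hg
  rw [Subgroup.eq_bot_iff_forall]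
  intro x hx
  rw [Subgroup.mem_inf] at hx
  obtain ⟨hxK, y, hyK, hyx⟩ := hx
  have hyx' : g * y * g⁻¹ = x := by simpa [MulAut.conj_apply] using hyx
  by_contra hx1
  apply hg
  have hgt : g * t * g⁻¹ = t := by
    by_cases hodd' : Odd (orderOf x)
    · -- odd case
      have hxO : x ∈ O := hodd x hxK hodd'
      have hY : Subgroup.zpowers x ≤ O := by rw [Subgroup.zpowers_le]; exact hxO
      have hY1 : Subgroup.zpowers x ≠ ⊥ := by rw [Ne, Subgroup.zpowers_eq_bot]; exact hx1
      have hN := hc _ hY hY1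
      have htg_comm : (g * t * g⁻¹) * x = x * (g * t * g⁻¹) := by
        rw [← hyx']
        have h1 := hcomm t htK y hyK
        calc g * t * g⁻¹ * (g * y * g⁻¹) = g * (t * y) * g⁻¹ := by group
          _ = g * (y * t) * g⁻¹ := by rw [h1]
          _ = g * y * g⁻¹ * (g * t * g⁻¹) := by group
      have htgC : g * t * g⁻¹ ∈ Subgroup.centralizer ((Subgroup.zpowers x : Subgroup G) : Set G) := by
        rw [Subgroup.mem_centralizer_iff]
        intro h hh
        obtain ⟨k, rfl⟩ := Subgroup.mem_zpowers_iff.1 hh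
        have hc' : Commute x (g * t * g⁻¹) := htg_comm.symm
        exact (hc'.zpow_left k).eq
      have htgN : g * t * g⁻¹ ∈ Subgroup.normalizer ((Subgroup.zpowers x : Subgroup G) : Set G) :=
        Subgroup.centralizer_le_normalizer _ htgC
      have htgCt : g * t * g⁻¹ ∈ Subgroup.centralizer ({t} : Set G) := hN htgN
      by_cases htgK : g * t * g⁻¹ ∈ K
      · apply huniq _ htgK
        rw [h5p4_orderOf_conj, ht]
      · exfalso
        have hinvx := hinvC _ htgCt htgK x hxK
        have h1 : (g * t * g⁻¹) * x * (g * t * g⁻¹)⁻¹ = x := by rw [htg_comm]; group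
        rw [h1] at hinvx
        have hx2 : x ^ 2 = 1 := by
          rw [pow_two]
          nth_rewrite 2 [hinvx]
          exact mul_inv_cancel x
        have hd : orderOf x ∣ 2 := orderOf_dvd_of_pow_eq_one hx2
        have h3 : orderOf x = 1 := by
          rcases (Nat.dvd_prime Nat.prime_two).1 hd with h | h
          · exact h
          · rw [h] at hodd'; exact absurd hodd' (by decide)
        exact hx1 (orderOf_eq_one_iff.1 h3)
    · -- even case
      have hev : Even (orderOf x) := Nat.not_odd_iff_even.1 hodd'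
      obtain ⟨m, hm⟩ := hev
      have hz : orderOf (x ^ m) = 2 := h5p4_pow_half x m hm
      have hzt : x ^ m = t := huniq _ (K.pow_mem hxK m) hz
      have hconj : g * y ^ m * g⁻¹ = x ^ m := by rw [← hyx', conj_pow]
      have hy2 : orderOf (y ^ m) = 2 := by rw [← h5p4_orderOf_conj g (y ^ m), hconj, hz]
      have hyt : y ^ m = t := huniq _ (K.pow_mem hyK m) hy2
      calc g * t * g⁻¹ = g * y ^ m * g⁻¹ := by rw [hyt]
        _ = x ^ m := hconj
        _ = t := hzt
  rw [Subgroup.mem_centralizer_iff]
  intro a ha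
  rw [Set.mem_singleton_iff] at ha
  subst ha
  calc a * g = g * a * g⁻¹ * g := by rw [hgt]
    _ = g * a := by group

end Cfsg.Agent.Helper2.Bsd
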