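import Mathlib
import Cfsg.Agent.Lead.BswDefs
import Cfsg.Agent.Lead.Bsw_A1_12

/-!
# S3282 (abstract Brauer–Suzuki–Wall), group side, pieces A13–A20 (helper5): transport from `t` to `z`
-/

set_option autoImplicit false
set_option linter.unusedVariables false
set_option linter.unusedSectionVars false
set_option linter.style.longLine false

namespace Cfsg.Agent.Lead.Bsw
variable {G : Type*} [Group G] [Finite G] {t s : G} {K : Subgroup G}

/-- a conjugate of an involution is an involution -/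
theorem h5_orderOf_conj (g z : G) : orderOf (g * z * g⁻¹) = orderOf z := by
  have : g * z * g⁻¹ = (MulAut.conj g) z := by simp [MulAut.conj_apply]
  rw [this, MulEquiv.orderOf_eq]

theorem h5_mem_map_conj (g x : G) (L : Subgroup G) :
    x ∈ L.map (MulAut.conj g).toMonoidHom ↔ g⁻¹ * x * g ∈ L := by
  constructor
  · rintro ⟨a, ha, rfl⟩
    have : g⁻¹ * ((MulAut.conj g).toMonoidHom a) * g = a := by
      simp [MulAut.conj_apply]; group
    rw [this]; exact ha
  · intro hx
    refine ⟨g⁻¹ * x * g, hx, ?_⟩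
    simp [MulAut.conj_apply]; group

/-- centralizer of a conjugate -/
theorem h5_centralizer_conj (g a : G) :
    Subgroup.centralizer ({g * a * g⁻¹} : Set G) =
      (Subgroup.centralizer ({a} : Set G)).map (MulAut.conj g).toMonoidHom := by
  ext y
  rw [h5_mem_map_conj, Subgroup.mem_centralizer_iff, Subgroup.mem_centralizer_iff]
  constructor
  · intro hy b hb
    rw [Set.mem_singleton_iff] at hb
    subst hb
    have h1 := hy (g * b * g⁻¹) (Set.mem_singleton _)
    have : b * (g⁻¹ * y * g) = g⁻¹ * (g * b * g⁻¹ * y) * g := by group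
    rw [this, h1]; group
  · intro hy b hb
    rw [Set.mem_singleton_iff] at hb
    subst hb
    have h1 := hy a (Set.mem_singleton _)
    have : g * a * g⁻¹ * y = g * (a * (g⁻¹ * y * g)) * g⁻¹ := by group
    rw [this, h1]; group

theorem h5_card_map_conj (g : G) (L : Subgroup G) :
    Nat.card (L.map (MulAut.conj g).toMonoidHom) = Nat.card L :=
  Subgroup.card_map_of_injective (MulAut.conj g).injective

theorem h5_mem_cent_singleton {a b : G} :
    a ∈ Subgroup.centralizer ({b} : Set G) ↔ b * a = a * b := by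
  rw [Subgroup.mem_centralizer_iff]
  constructor
  · intro h; exact h b (Set.mem_singleton b)
  · intro h c hc
    rw [Set.mem_singleton_iff] at hc
    rw [hc]; exact h

-- A13
theorem card_Kz (h : Hyp t K s) {z : G} (hz : orderOf z = 2) : Nat.card (Kz z) = Nat.card K := by
  obtain ⟨g, rfl⟩ := exists_conj_t h hz
  rw [Kz_conj h g, h5_card_map_conj]

-- A14
theorem mem_Kz_self (h : Hyp t K s) {z : G} (hz : orderOf z = 2) : z ∈ Kz z := by
  obtain ⟨g, rfl⟩ := exists_conj_t h hz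
  rw [Kz_conj h g, h5_mem_map_conj]
  have : g⁻¹ * (g * t * g⁻¹) * g = t := by group
  rw [this]; exact h.htK

-- A15
theorem Kz_le_cent (h : Hyp t K s) {z : G} (hz : orderOf z = 2) :
    Kz z ≤ Subgroup.centralizer ({z} : Set G) := by
  obtain ⟨g, rfl⟩ := exists_conj_t h hz
  rw [Kz_conj h g, h5_centralizer_conj]
  exact Subgroup.map_mono h.hKH

-- A16
theorem Kz_comm (h : Hyp t K s) {z : G} (hz : orderOf z = 2) :
    ∀ a ∈ Kz z, ∀ b ∈ Kz z, a * b = b * a := by
  obtain ⟨g, rfl⟩ := exists_conj_t h hz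
  rw [Kz_conj h g]
  intro a ha b hb
  rw [h5_mem_map_conj] at ha hb
  have hc : IsMulCommutative ↥K := h.hKab
  have h1 : (⟨_, ha⟩ : ↥K) * ⟨_, hb⟩ = ⟨_, hb⟩ * ⟨_, ha⟩ := hc.is_comm.comm _ _
  have h2 : (g⁻¹ * a * g) * (g⁻¹ * b * g) = (g⁻¹ * b * g) * (g⁻¹ * a * g) := congrArg Subtype.val h1
  have h3 : a * b = g * ((g⁻¹ * a * g) * (g⁻¹ * b * g)) * g⁻¹ := by group
  rw [h3, h2]; group

-- A17
theorem card_cent_inv (h : Hyp t K s) {z : G} (hz : orderOf z = 2) :
    Nat.card (Subgroup.centralizer ({z} : Set G)) = 2 * Nat.card K := by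
  obtain ⟨g, rfl⟩ := exists_conj_t h hz
  rw [h5_centralizer_conj, h5_card_map_conj, card_cent_t h]

-- A18
theorem inv_of_mem_Kz (h : Hyp t K s) {z x : G} (hz : orderOf z = 2) (hx : x ∈ Kz z)
    (hx2 : orderOf x = 2) : x = z := by
  obtain ⟨g, rfl⟩ := exists_conj_t h hz
  rw [Kz_conj h g, h5_mem_map_conj] at hx
  have ho : orderOf (g⁻¹ * x * g) = 2 := by
    have := h5_orderOf_conj g⁻¹ x
    rw [inv_inv] at this
    rw [this]; exact hx2
  have := inv_of_mem_K h hx ho
  have hx' : x = g * (g⁻¹ * x * g) * g⁻¹ := by group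
  rw [hx', this]

/-- the structure of `C(t) \ K`, in one place -/
theorem h5_cent_t_diff (h : Hyp t K s) {u : G} (hu : u ∈ Subgroup.centralizer ({t} : Set G))
    (huK : u ∉ K) : ∃ x ∈ K, u = x * s := by
  rcases (mem_cent_t h u).1 hu with h1 | h1
  · exact absurd h1 huK
  · exact h1

-- A19  (elements of C(z) outside K_z are involutions inverting K_z)
theorem cent_diff_Kz (h : Hyp t K s) {z u : G} (hz : orderOf z = 2)
    (hu : u ∈ Subgroup.centralizer ({z} : Set G)) (huK : u ∉ Kz z) :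
    orderOf u = 2 ∧ ∀ y ∈ Kz z, u * y * u⁻¹ = y⁻¹ := by
  obtain ⟨g, rfl⟩ := exists_conj_t h hz
  rw [Kz_conj h g] at huK ⊢
  rw [h5_centralizer_conj, h5_mem_map_conj] at hu
  rw [h5_mem_map_conj] at huK
  obtain ⟨x, hxK, hux⟩ := h5_cent_t_diff h hu huK
  have hu' : u = g * (x * s) * g⁻¹ := by rw [← hux]; group
  refine ⟨?_, ?_⟩
  · rw [hu', h5_orderOf_conj]; exact orderOf_mul_s h hxK
  · intro y hy
    rw [h5_mem_map_conj] at hy
    have h1 := mul_s_inverts h hxK hy
    -- (x*s) * (g⁻¹ y g) * (x*s)⁻¹ = (g⁻¹ y g)⁻¹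
    have h2 : u * y * u⁻¹ = g * ((x * s) * (g⁻¹ * y * g) * (x * s)⁻¹) * g⁻¹ := by
      rw [hu']; group
    rw [h2, h1]; group

-- A20  (index 2)
theorem mul_mem_Kz (h : Hyp t K s) {z u v : G} (hz : orderOf z = 2)
    (hu : u ∈ Subgroup.centralizer ({z} : Set G)) (huK : u ∉ Kz z)
    (hv : v ∈ Subgroup.centralizer ({z} : Set G)) (hvK : v ∉ Kz z) : u * v ∈ Kz z := by
  obtain ⟨g, rfl⟩ := exists_conj_t h hz
  rw [Kz_conj h g] at huK hvK ⊢
  rw [h5_centralizer_conj, h5_mem_map_conj] at hu hv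
  rw [h5_mem_map_conj] at huK hvK ⊢
  obtain ⟨x, hxK, hux⟩ := h5_cent_t_diff h hu huK
  obtain ⟨x', hx'K, hvx⟩ := h5_cent_t_diff h hv hvK
  have hs2 : s * s = 1 := by
    have := pow_orderOf_eq_one s; rw [h.hs, pow_two] at this; exact this
  have hsinv : s⁻¹ = s := inv_eq_of_mul_eq_one_left hs2
  have h1 : g⁻¹ * (u * v) * g = (g⁻¹ * u * g) * (g⁻¹ * v * g) := by group
  rw [h1, hux, hvx]
  have h2 : x * s * (x' * s) = x * (s * x' * s⁻¹) := by
    rw [hsinv]; group
  rw [h2, h.hinv x' hx'K]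
  exact K.mul_mem hxK (K.inv_mem hx'K)

end Cfsg.Agent.Lead.Bsw
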