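import Mathlib
import Cfsg.Agent.Lead.BswDefs
import Cfsg.Agent.Lead.Bsw_A1_12
import Cfsg.Agent.Helper5.Bsw_A13_20

/-!
# S3282 (abstract Brauer–Suzuki–Wall), group side, pieces A21–A27 (helper5)
-/

set_option autoImplicit false
set_option linter.unusedVariables false
set_option linter.unusedSectionVars false
set_option linter.style.longLine false

namespace Cfsg.Agent.Lead.Bsw
variable {G : Type*} [Group G] [Finite G] {t s : G} {K : Subgroup G}

-- A21
theorem Kz_inf_Kz (h : Hyp t K s) {z w : G} (hz : orderOf z = 2) (hw : orderOf w = 2) (hzw : z ≠ w) :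
    Kz z ⊓ Kz w = ⊥ := by
  obtain ⟨g, rfl⟩ := exists_conj_t h hz
  obtain ⟨g', rfl⟩ := exists_conj_t h hw
  rw [Kz_conj h g, Kz_conj h g', Subgroup.eq_bot_iff_forall]
  intro x hx
  rw [Subgroup.mem_inf, h5_mem_map_conj, h5_mem_map_conj] at hx
  obtain ⟨hx1, hx2⟩ := hx
  by_contra hne
  apply hzw
  set a := g⁻¹ * x * g with ha
  have ha1 : a ≠ 1 := by
    intro h1
    apply hne
    have : x = g * a * g⁻¹ := by rw [ha]; group
    rw [this, h1]; group
  have hb : (g'⁻¹ * g) * a * (g'⁻¹ * g)⁻¹ ∈ K := by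
    have : (g'⁻¹ * g) * a * (g'⁻¹ * g)⁻¹ = g'⁻¹ * x * g' := by rw [ha]; group
    rw [this]; exact hx2
  have hc := TI_elt h hx1 ha1 hb
  rw [Subgroup.mem_centralizer_iff] at hc
  have hc' := hc t (Set.mem_singleton t)
  -- hc' : t * (g'⁻¹ * g) = g'⁻¹ * g * t
  have : g * t * g⁻¹ = g' * (g'⁻¹ * g * t) * g⁻¹ := by group
  rw [this, ← hc']; group

-- A22
theorem cent_of_mem_Kz (h : Hyp t K s) {z x : G} (hz : orderOf z = 2) (hx : x ∈ Kz z)
    (hx2 : x * x ≠ 1) : Subgroup.centralizer ({x} : Set G) = Kz z := by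
  obtain ⟨g, rfl⟩ := exists_conj_t h hz
  rw [Kz_conj h g] at hx ⊢
  rw [h5_mem_map_conj] at hx
  set a := g⁻¹ * x * g with ha
  have hxa : x = g * a * g⁻¹ := by rw [ha]; group
  have ha2 : a * a ≠ 1 := by
    intro h1
    apply hx2
    rw [hxa]
    have : g * a * g⁻¹ * (g * a * g⁻¹) = g * (a * a) * g⁻¹ := by group
    rw [this, h1]; group
  rw [hxa, h5_centralizer_conj, cent_of_mem_K h hx ha2]

-- A23  (an involution inverting a non-involution of K_z lies in C(z) \ K_z)
theorem inverter_mem_cent (h : Hyp t K s) {z x u : G} (hz : orderOf z = 2) (hx : x ∈ Kz z)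
    (hx2 : x * x ≠ 1) (hu : orderOf u = 2) (hux : u * x * u⁻¹ = x⁻¹) :
    u ∈ Subgroup.centralizer ({z} : Set G) ∧ u ∉ Kz z := by
  have hx1 : x ≠ 1 := by
    intro h1; apply hx2; rw [h1, one_mul]
  have huz : u * z * u⁻¹ = z := by
    by_contra hne
    have hz' : orderOf (u * z * u⁻¹) = 2 := by rw [h5_orderOf_conj]; exact hz
    have hbot := Kz_inf_Kz h hz hz' (Ne.symm hne)
    have hmem2 : x⁻¹ ∈ Kz (u * z * u⁻¹) := by
      rw [← Kz_map_conj, h5_mem_map_conj]
      have : u⁻¹ * x⁻¹ * u = x := by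
        rw [← hux]; group
      rw [this]; exact hx
    have hmem : x⁻¹ ∈ Kz z ⊓ Kz (u * z * u⁻¹) :=
      Subgroup.mem_inf.2 ⟨(Kz z).inv_mem hx, hmem2⟩
    rw [hbot, Subgroup.mem_bot, inv_eq_one] at hmem
    exact hx1 hmem
  refine ⟨?_, ?_⟩
  · rw [Subgroup.mem_centralizer_iff]
    intro b hb
    rw [Set.mem_singleton_iff] at hb
    subst hb
    -- goal : b * u = u * b
    have : u * b = u * b * u⁻¹ * u := by group
    rw [this, huz]
  · intro huK
    have hcomm := Kz_comm h hz u huK x hx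
    apply hx2
    have h1 : u * x * u⁻¹ = x := by rw [hcomm]; group
    rw [h1] at hux
    -- hux : x = x⁻¹
    calc x * x = x * x⁻¹ := by rw [← hux]
      _ = 1 := mul_inv_cancel x

-- A24
theorem normalizer_sub_Kz (h : Hyp t K s) {z : G} (hz : orderOf z = 2) {X : Subgroup G}
    (hX : X ≤ Kz z) (hX1 : X ≠ ⊥) :
    Subgroup.normalizer (X : Set G) = Subgroup.centralizer ({z} : Set G) := by
  apply le_antisymm
  · intro g hg
    rw [Subgroup.mem_normalizer_iff] at hg
    obtain ⟨a, ha⟩ := Subgroup.ne_bot_iff_exists_ne_one.1 hX1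
    obtain ⟨x, hxX, hx1⟩ : ∃ x : G, x ∈ X ∧ x ≠ 1 :=
      ⟨(a : G), a.2, fun h1 => ha (Subtype.ext h1)⟩
    have hgx : g * x * g⁻¹ ∈ X := (hg x).1 hxX
    have hgz : g * z * g⁻¹ = z := by
      by_contra hne
      have hz' : orderOf (g * z * g⁻¹) = 2 := by rw [h5_orderOf_conj]; exact hz
      have hbot := Kz_inf_Kz h hz hz' (Ne.symm hne)
      have hmem2 : g * x * g⁻¹ ∈ Kz (g * z * g⁻¹) := by
        rw [← Kz_map_conj, h5_mem_map_conj]
        have : g⁻¹ * (g * x * g⁻¹) * g = x := by group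
        rw [this]; exact hX hxX
      have hmem : g * x * g⁻¹ ∈ Kz z ⊓ Kz (g * z * g⁻¹) :=
        Subgroup.mem_inf.2 ⟨hX hgx, hmem2⟩
      rw [hbot, Subgroup.mem_bot] at hmem
      apply hx1
      have : x = g⁻¹ * (g * x * g⁻¹) * g := by group
      rw [this, hmem]; group
    rw [Subgroup.mem_centralizer_iff]
    intro b hb
    rw [Set.mem_singleton_iff] at hb
    subst hb
    have : g * b = g * b * g⁻¹ * g := by group
    rw [this, hgz]
  · intro c hc
    rw [Subgroup.mem_normalizer_iff]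
    have hcinv : c⁻¹ ∈ Subgroup.centralizer ({z} : Set G) := Subgroup.inv_mem _ hc
    by_cases hcK : c ∈ Kz z
    · intro y
      constructor
      · intro hy
        have := Kz_comm h hz c hcK y (hX hy)
        have h1 : c * y * c⁻¹ = y := by rw [this]; group
        rw [h1]; exact hy
      · intro hy
        have hyK : c * y * c⁻¹ ∈ Kz z := hX hy
        have := Kz_comm h hz c hcK (c * y * c⁻¹) hyK
        -- c * (c y c⁻¹) = (c y c⁻¹) * c
        have h1 : y = c * y * c⁻¹ := by
          have h2 : c * (c * y * c⁻¹) = c * y := by rw [this]; group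
          have h3 : c * y * c⁻¹ = y := by
            have := mul_left_cancel h2
            exact this
          exact h3.symm
        rw [h1]; exact hy
    · have hcK' : c⁻¹ ∉ Kz z := fun h1 => hcK (by simpa using (Kz z).inv_mem h1)
      obtain ⟨_, hinvc⟩ := cent_diff_Kz h hz hc hcK
      obtain ⟨_, hinvc'⟩ := cent_diff_Kz h hz hcinv hcK'
      intro y
      constructor
      · intro hy
        rw [hinvc y (hX hy)]
        exact X.inv_mem hy
      · intro hy
        have h1 := hinvc' (c * y * c⁻¹) (hX hy)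
        rw [inv_inv] at h1
        have h2 : c⁻¹ * (c * y * c⁻¹) * c = y := by group
        rw [h2] at h1
        rw [h1]
        exact X.inv_mem hy

-- A25  (non-involutions of C(z) lie in K_z)
theorem mem_Kz_of_cent (h : Hyp t K s) {z y : G} (hz : orderOf z = 2)
    (hy : y ∈ Subgroup.centralizer ({z} : Set G)) (hy2 : orderOf y ≠ 2) : y ∈ Kz z := by
  by_contra hyK
  exact hy2 (cent_diff_Kz h hz hy hyK).1

-- A26  (x ∈ K_z, x ≠ 1  ==>  C(x) ≤ C(z))
theorem cent_le_of_mem_Kz (h : Hyp t K s) {z x : G} (hz : orderOf z = 2) (hx : x ∈ Kz z)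
    (hx1 : x ≠ 1) : Subgroup.centralizer ({x} : Set G) ≤ Subgroup.centralizer ({z} : Set G) := by
  intro c hc
  rw [Subgroup.mem_centralizer_iff] at hc
  have hcx := hc x (Set.mem_singleton x)
  -- hcx : x * c = c * x
  have hcz : c * z * c⁻¹ = z := by
    by_contra hne
    have hz' : orderOf (c * z * c⁻¹) = 2 := by rw [h5_orderOf_conj]; exact hz
    have hbot := Kz_inf_Kz h hz hz' (Ne.symm hne)
    have hmem2 : x ∈ Kz (c * z * c⁻¹) := by
      rw [← Kz_map_conj, h5_mem_map_conj]
      have : c⁻¹ * x * c = x := by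
        rw [mul_assoc, hcx]; group
      rw [this]; exact hx
    have hmem : x ∈ Kz z ⊓ Kz (c * z * c⁻¹) := Subgroup.mem_inf.2 ⟨hx, hmem2⟩
    rw [hbot, Subgroup.mem_bot] at hmem
    exact hx1 hmem
  rw [Subgroup.mem_centralizer_iff]
  intro b hb
  rw [Set.mem_singleton_iff] at hb
  subst hb
  have : c * b = c * b * c⁻¹ * c := by group
  rw [this, hcz]

-- A27
theorem card_inv_in_cent (h : Hyp t K s) {z : G} (hz : orderOf z = 2) :
    Nat.card {u : G // orderOf u = 2 ∧ u ∈ Subgroup.centralizer ({z} : Set G)} = Nat.card K + 1 := by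
  classical
  have hset : {u : G | orderOf u = 2 ∧ u ∈ Subgroup.centralizer ({z} : Set G)} =
      insert z (((Subgroup.centralizer ({z} : Set G) : Subgroup G) : Set G) \ ((Kz z : Subgroup G) : Set G)) := by
    ext u
    constructor
    · rintro ⟨hu2, huc⟩
      by_cases huK : u ∈ Kz z
      · exact Set.mem_insert_iff.2 (Or.inl (inv_of_mem_Kz h hz huK hu2))
      · exact Set.mem_insert_iff.2 (Or.inr ⟨huc, huK⟩)
    · intro hu
      rcases Set.mem_insert_iff.1 hu with rfl | ⟨huc, huK⟩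
      · exact ⟨hz, Kz_le_cent h hz (mem_Kz_self h hz)⟩
      · exact ⟨(cent_diff_Kz h hz huc huK).1, huc⟩
  have hzn : z ∉ (((Subgroup.centralizer ({z} : Set G) : Subgroup G) : Set G) \ ((Kz z : Subgroup G) : Set G)) := by
    intro hmem
    exact hmem.2 (mem_Kz_self h hz)
  have hsub : ((Kz z : Subgroup G) : Set G) ⊆ ((Subgroup.centralizer ({z} : Set G) : Subgroup G) : Set G) :=
    fun x hx => Kz_le_cent h hz hx
  have hcardC : (((Subgroup.centralizer ({z} : Set G) : Subgroup G) : Set G)).ncard = 2 * Nat.card K := by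
    rw [← card_cent_inv h hz]; rfl
  have hcardK : ((Kz z : Subgroup G) : Set G).ncard = Nat.card K := by
    rw [← card_Kz h hz]; rfl
  have hdiff := Set.ncard_sdiff hsub (Set.toFinite _)
  change Set.ncard {u : G | orderOf u = 2 ∧ u ∈ Subgroup.centralizer ({z} : Set G)} = _
  rw [hset, Set.ncard_insert_of_notMem hzn (Set.toFinite _), hdiff, hcardC, hcardK]
  omega

end Cfsg.Agent.Lead.Bsw
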