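import Mathlib
import Cfsg.Prelude.Def_IsolatedElements
import Cfsg.Agent.Helper5.Basic
import Cfsg.Agent.Helper5.Misc
import Cfsg.Agent.Helper5.PPrimeCore
import Cfsg.Agent.Helper5.Isolated
import Cfsg.Agent.Helper5.CharP2
import Cfsg.Agent.Helper5.PReducedRel
import Cfsg.Agent.Helper1.Hall
import Cfsg.Agent.Helper1.Fitting2
import Cfsg.Agent.Helper1.Subnormal
import Cfsg.Agent.Helper2.PComp1

/-!
Helper lemmas (helper5): the structure of a minimal counterexample to the `Z*_p` statement.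
-/

set_option autoImplicit false

namespace Cfsg.Agent.Helper5

variable {G : Type*} [Group G]

theorem inZStar_of_central {p : ℕ} (x : G) (h : ∀ g : G, g * x = x * g) : Cfsg.InZStar p x := by
  intro g
  have : g * x * g⁻¹ * x⁻¹ = 1 := by rw [h g]; group
  rw [this]; exact Subgroup.one_mem _

theorem central_of_isolated_of_conj_commute (x : G) (hiso : Cfsg.IsIsolated x)
    (h : ∀ g : G, Commute x (g * x * g⁻¹)) : ∀ g : G, g * x = x * g := by
  intro g
  have h1 := hiso g (h g)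
  calc g * x = (g * x * g⁻¹) * g := by group
    _ = x * g := by rw [h1]

/-- In a minimal counterexample with `O_{p'}(G) = 1`, `x` is central in every proper subnormal subgroup
containing it. -/
theorem central_in_subnormal [Finite G] {p : ℕ} [Fact p.Prime] (hO : Cfsg.pPrimeCore p G = ⊥) (x : G)
    (hmin : ∀ (H : Subgroup G) (hxH : x ∈ H), H ≠ ⊤ → Cfsg.InZStar p (⟨x, hxH⟩ : ↥H))
    (H : Subgroup G) (hH : H.IsSubnormal) (hxH : x ∈ H) (hne : H ≠ ⊤) :
    ∀ h ∈ H, h * x = x * h := by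
  intro h hh
  have h1 := hmin H hxH hne ⟨h, hh⟩
  have h2 : (Cfsg.pPrimeCore p ↥H).map H.subtype ≤ Cfsg.pPrimeCore p G :=
    Cfsg.Agent.Helper2.pPrimeCore_subnormal_le p H hH
  rw [hO] at h2
  have h3 := h2 (Subgroup.mem_map_of_mem H.subtype h1)
  rw [Subgroup.mem_bot] at h3
  have h4 : h * x * h⁻¹ * x⁻¹ = 1 := by simpa using h3
  calc h * x = (h * x * h⁻¹ * x⁻¹) * x * h := by group
    _ = x * h := by rw [h4, one_mul]

theorem map_pPrimeCore_inf_eq_bot [Finite G] {p : ℕ} [Fact p.Prime] (hO : Cfsg.pPrimeCore p G = ⊥)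
    (H N : Subgroup G) [hN : N.Normal] (hNH : N ≤ H) :
    (Cfsg.pPrimeCore p ↥H).map H.subtype ⊓ N = ⊥ := by
  set L := (Cfsg.pPrimeCore p ↥H).map H.subtype ⊓ N with hL
  have hLN : L ≤ N := inf_le_right
  have hn1 : N ≤ Subgroup.normalizer (((Cfsg.pPrimeCore p ↥H).map H.subtype : Subgroup G) : Set G) :=
    le_trans hNH (le_normalizer_map_subtype_of_normal H (Cfsg.pPrimeCore p ↥H) inferInstance)
  have hLn : N ≤ Subgroup.normalizer (L : Set G) := by
    intro n hn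
    exact mem_normalizer_inf _ _ n (hn1 hn) (Subgroup.le_normalizer hn)
  have hLc : (Nat.card ↥L).Coprime p := by
    have h1 : Nat.card ↥L ∣ Nat.card ↥((Cfsg.pPrimeCore p ↥H).map H.subtype) :=
      Subgroup.card_dvd_of_le inf_le_left
    rw [Subgroup.card_map_of_injective H.subtype_injective] at h1
    exact Nat.Coprime.coprime_dvd_left h1 (coprime_card_pPrimeCore p)
  have hL'n : (L.subgroupOf N).Normal := (Subgroup.normal_subgroupOf_iff_le_normalizer hLN).mpr hLn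
  have hL'c : (Nat.card ↥(L.subgroupOf N)).Coprime p := by
    rw [Nat.card_congr (Subgroup.subgroupOfEquivOfLe hLN).toEquiv]
    exact hLc
  have h2 : L.subgroupOf N ≤ Cfsg.pPrimeCore p ↥N := le_pPrimeCore hL'n hL'c
  have h3 : (L.subgroupOf N).map N.subtype = L := by
    rw [Subgroup.subgroupOf_map_subtype]; exact inf_eq_left.mpr hLN
  have h4 : (Cfsg.pPrimeCore p ↥N).map N.subtype ≤ Cfsg.pPrimeCore p G :=
    Cfsg.Agent.Helper2.pPrimeCore_normal_le p N
  rw [hO] at h4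
  rw [eq_bot_iff, ← h3]
  exact le_trans (Subgroup.map_mono h2) h4

/-- If `N ⟨x⟩` is proper (for `N` normal) then `x` centralizes `N`. -/
theorem centralizes_normal_of_sup_ne_top [Finite G] {p : ℕ} [Fact p.Prime]
    (hO : Cfsg.pPrimeCore p G = ⊥) (x : G)
    (hmin : ∀ (H : Subgroup G) (hxH : x ∈ H), H ≠ ⊤ → Cfsg.InZStar p (⟨x, hxH⟩ : ↥H))
    (N : Subgroup G) [hN : N.Normal] (hne : N ⊔ Subgroup.zpowers x ≠ ⊤) :
    ∀ n ∈ N, n * x = x * n := by
  intro n hn
  have hxH : x ∈ N ⊔ Subgroup.zpowers x := Subgroup.mem_sup_right (Subgroup.mem_zpowers x)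
  have hnH : n ∈ N ⊔ Subgroup.zpowers x := Subgroup.mem_sup_left hn
  have h1 := hmin _ hxH hne ⟨n, hnH⟩
  have h2 : n * x * n⁻¹ * x⁻¹ ∈ (Cfsg.pPrimeCore p ↥(N ⊔ Subgroup.zpowers x)).map
      (N ⊔ Subgroup.zpowers x).subtype := ⟨_, h1, by simp⟩
  have h3 : n * x * n⁻¹ * x⁻¹ ∈ N := by
    have : n * x * n⁻¹ * x⁻¹ = n * (x * n⁻¹ * x⁻¹) := by group
    rw [this]
    exact N.mul_mem hn (hN.conj_mem _ (N.inv_mem hn) x)
  have h4 : n * x * n⁻¹ * x⁻¹ ∈ (Cfsg.pPrimeCore p ↥(N ⊔ Subgroup.zpowers x)).map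
      (N ⊔ Subgroup.zpowers x).subtype ⊓ N := ⟨h2, h3⟩
  rw [map_pPrimeCore_inf_eq_bot hO _ N le_sup_left, Subgroup.mem_bot] at h4
  calc n * x = (n * x * n⁻¹ * x⁻¹) * x * n := by group
    _ = x * n := by rw [h4, one_mul]

/-- An abelian minimal normal subgroup of a group with `O_{p'}(G) = 1` is a `p`-group. -/
theorem isPGroup_of_minNormal_abelian [Finite G] {p : ℕ} [Fact p.Prime]
    (hO : Cfsg.pPrimeCore p G = ⊥) (N : Subgroup G) (hN : N.Normal) (hN1 : N ≠ ⊥)
    (hNmin : ∀ B : Subgroup G, B.Normal → B ≤ N → B = ⊥ ∨ B = N)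
    (hab : ∀ a ∈ N, ∀ b ∈ N, a * b = b * a) : IsPGroup p ↥N := by
  classical
  have hnt : Nontrivial ↥N := (Subgroup.nontrivial_iff_ne_bot N).mpr hN1
  have hcard : 1 < Nat.card ↥N := Finite.one_lt_card
  obtain ⟨r, hr, hrdvd⟩ := Nat.exists_prime_and_dvd (ne_of_gt hcard)
  haveI : Fact r.Prime := ⟨hr⟩
  obtain ⟨y, hy⟩ := exists_prime_orderOf_dvd_card' r hrdvd
  let Ω : Subgroup G :=
    { carrier := {n | n ∈ N ∧ n ^ r = 1}
      one_mem' := ⟨N.one_mem, one_pow r⟩
      mul_mem' := by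
        rintro a b ⟨ha, har⟩ ⟨hb, hbr⟩
        refine ⟨N.mul_mem ha hb, ?_⟩
        have hc : Commute a b := hab a ha b hb
        rw [hc.mul_pow, har, hbr, one_mul]
      inv_mem' := by
        rintro a ⟨ha, har⟩
        exact ⟨N.inv_mem ha, by rw [inv_pow, har, inv_one]⟩ }
  have hΩn : Ω.Normal := by
    constructor
    rintro n ⟨hn, hnr⟩ g
    refine ⟨hN.conj_mem n hn g, ?_⟩
    rw [conj_pow, hnr]; group
  have hΩN : Ω ≤ N := fun n hn => hn.1
  have hΩ1 : Ω ≠ ⊥ := by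
    intro h
    have hyΩ : (y : G) ∈ Ω := by
      refine ⟨y.2, ?_⟩
      have : y ^ r = 1 := by rw [← hy]; exact pow_orderOf_eq_one y
      have := congrArg Subtype.val this
      simpa using this
    rw [h, Subgroup.mem_bot] at hyΩ
    have hy1 : y = 1 := Subtype.ext hyΩ
    rw [hy1, orderOf_one] at hy
    exact hr.one_lt.ne hy
  have hΩeq : Ω = N := (hNmin Ω hΩn hΩN).resolve_left hΩ1
  have hexp : ∀ n : ↥N, n ^ r = 1 := by
    intro n
    have : (n : G) ∈ Ω := by rw [hΩeq]; exact n.2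
    apply Subtype.ext
    simpa using this.2
  have hrN : IsPGroup r ↥N := fun n => ⟨1, by rw [pow_one]; exact hexp n⟩
  by_cases hrp : r = p
  · rw [← hrp]; exact hrN
  · exfalso
    obtain ⟨k, hk⟩ := IsPGroup.iff_card.mp hrN
    have hp : p.Prime := Fact.out
    have hcop : (Nat.card ↥N).Coprime p := by
      rw [hk]
      exact Nat.Coprime.pow_left k ((Nat.coprime_primes hr hp).mpr hrp)
    have := le_pPrimeCore hN hcop
    rw [hO] at this
    exact hN1 (eq_bot_iff.mpr this)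

end Cfsg.Agent.Helper5
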