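import Mathlib
import Cfsg.Prelude.Def_IsolatedElements
import Cfsg.Agent.Helper5.ZStarMin

/-!
Helper lemmas (helper5): the structure of a minimal counterexample to the `Z*_p` statement, part 2.
-/

set_option autoImplicit false

namespace Cfsg.Agent.Helper5

variable {G : Type*} [Group G]

/-- Step 1: in a minimal counterexample `O_{p'}(G) = 1`. -/
theorem pPrimeCore_eq_bot_of_minimal [Finite G] {p : ℕ} [Fact p.Prime] (x : G)
    (hnz : ¬ Cfsg.InZStar p x)
    (hquot : ∀ (N : Subgroup G) [N.Normal], N ≠ ⊥ → Cfsg.InZStar p (QuotientGroup.mk x : G ⧸ N)) :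
    Cfsg.pPrimeCore p G = ⊥ := by
  by_contra hne
  apply hnz
  intro g
  have h1 := hquot (Cfsg.pPrimeCore p G) hne (QuotientGroup.mk g)
  rw [Cfsg.Agent.Helper1.pPrimeCore_quotient_pPrimeCore, Subgroup.mem_bot] at h1
  have h2 : ((g * x * g⁻¹ * x⁻¹ : G) : G ⧸ Cfsg.pPrimeCore p G) = 1 := by
    simpa using h1
  exact (QuotientGroup.eq_one_iff _).mp h2

/-- If `O_{p'}(G) = 1` and `N` is a central `p`-subgroup then the preimage of `O_{p'}(G/N)` is `N`. -/
theorem comap_pPrimeCore_quotient_le [Finite G] {p : ℕ} [hp : Fact p.Prime]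
    (hO : Cfsg.pPrimeCore p G = ⊥) (N : Subgroup G) [hN : N.Normal] (hNp : IsPGroup p ↥N)
    (hNc : ∀ n ∈ N, ∀ g : G, n * g = g * n) :
    (Cfsg.pPrimeCore p (G ⧸ N)).comap (QuotientGroup.mk' N) ≤ N := by
  set L := (Cfsg.pPrimeCore p (G ⧸ N)).comap (QuotientGroup.mk' N) with hL
  have hNL : N ≤ L := by
    intro n hn
    rw [hL, Subgroup.mem_comap, QuotientGroup.mk'_apply, (QuotientGroup.eq_one_iff n).2 hn]
    exact Subgroup.one_mem _
  have hLn : L.Normal := by rw [hL]; infer_instance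
  have hcard : Nat.card L = Nat.card (Cfsg.pPrimeCore p (G ⧸ N)) * Nat.card N :=
    Cfsg.Agent.Helper1.card_comap_mk' N _
  set N' := N.subgroupOf L with hN'
  have hN'n : N'.Normal := by rw [hN']; infer_instance
  have hN'card : Nat.card N' = Nat.card N :=
    Nat.card_congr (Subgroup.subgroupOfEquivOfLe hNL).toEquiv
  have hidx : N'.index = Nat.card (Cfsg.pPrimeCore p (G ⧸ N)) := by
    have h1 : Nat.card N' * N'.index = Nat.card L := Subgroup.card_mul_index N'
    rw [hN'card, hcard, mul_comm] at h1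
    have hpos : 0 < Nat.card N := Nat.card_pos
    exact Nat.eq_of_mul_eq_mul_right hpos h1
  have hqc : (Nat.card (Cfsg.pPrimeCore p (G ⧸ N))).Coprime p := coprime_card_pPrimeCore p
  have hcop : (Nat.card N').Coprime N'.index := by
    rw [hN'card, hidx]
    obtain ⟨k, hk⟩ := IsPGroup.iff_card.mp hNp
    rw [hk]
    exact Nat.Coprime.pow_left k hqc.symm
  obtain ⟨H', hH'⟩ := Subgroup.exists_right_complement'_of_coprime hcop
  have hH'card : Nat.card H' = N'.index := by
    have := hH'.symm.index_eq_card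
    exact this.symm
  have hcen : ∀ n ∈ N', ∀ l : ↥L, n * l = l * n := by
    intro n hn l
    apply Subtype.ext
    have := hNc (n : G) (Subgroup.mem_subgroupOf.mp hn) (l : G)
    simpa using this
  have hnorm : Subgroup.normalizer (H' : Set ↥L) = ⊤ := by
    rw [eq_top_iff, ← hH'.sup_eq_top]
    apply sup_le
    · intro n hn
      rw [Subgroup.mem_normalizer_iff]
      intro h
      have : n * h * n⁻¹ = h := by rw [hcen n hn h]; group
      rw [this]
    · exact Subgroup.le_normalizer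
  have hH'n : H'.Normal := Subgroup.normalizer_eq_top_iff.mp hnorm
  have hH'c : (Nat.card H').Coprime p := by rw [hH'card, hidx]; exact hqc
  have h2 : H' ≤ Cfsg.pPrimeCore p ↥L := le_pPrimeCore hH'n hH'c
  have h4 : (Cfsg.pPrimeCore p ↥L).map L.subtype ≤ Cfsg.pPrimeCore p G :=
    Cfsg.Agent.Helper2.pPrimeCore_normal_le p L
  rw [hO] at h4
  have hH'bot : H' = ⊥ := by
    rw [eq_bot_iff]
    intro h hh
    have := h4 (Subgroup.mem_map_of_mem L.subtype (h2 hh))
    rw [Subgroup.mem_bot] at this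
    rw [Subgroup.mem_bot]
    apply Subtype.ext
    simpa using this
  rw [hH'bot] at hH'
  have hN'top : N' = ⊤ := Subgroup.isComplement'_bot_right.mp hH'
  exact Subgroup.subgroupOf_eq_top.mp hN'top


/-- In a minimal counterexample, every minimal normal subgroup `N` satisfies `G = N⟨x⟩`. -/
theorem minNormal_sup_zpowers_eq_top [Finite G] {p : ℕ} [Fact p.Prime] (x : G)
    (hiso : Cfsg.IsIsolated x) (hnz : ¬ Cfsg.InZStar p x)
    (hmin : ∀ (H : Subgroup G) (hxH : x ∈ H), H ≠ ⊤ → Cfsg.InZStar p (⟨x, hxH⟩ : ↥H))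
    (hquot : ∀ (N : Subgroup G) [N.Normal], N ≠ ⊥ → Cfsg.InZStar p (QuotientGroup.mk x : G ⧸ N))
    (N : Subgroup G) [hN : N.Normal] (hN1 : N ≠ ⊥)
    (hNmin : ∀ B : Subgroup G, B.Normal → B ≤ N → B = ⊥ ∨ B = N) :
    N ⊔ Subgroup.zpowers x = ⊤ := by
  have hO := pPrimeCore_eq_bot_of_minimal x hnz hquot
  have hncent : ¬ ∀ g : G, g * x = x * g := fun h => hnz (inZStar_of_central x h)
  by_contra hne
  have hcx := centralizes_normal_of_sup_ne_top hO x hmin N hne
  set C := Subgroup.centralizer (N : Set G) with hC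
  have hCn : C.Normal := by rw [hC]; infer_instance
  have hxC : x ∈ C := by
    rw [hC, Subgroup.mem_centralizer_iff]
    intro n hn
    exact hcx n hn
  by_cases hCtop : C = ⊤
  · -- `N` is central
    have hNc : ∀ n ∈ N, ∀ g : G, n * g = g * n := by
      intro n hn g
      have hg : g ∈ C := by rw [hCtop]; exact Subgroup.mem_top g
      rw [hC, Subgroup.mem_centralizer_iff] at hg
      exact hg n hn
    have hNp : IsPGroup p ↥N :=
      isPGroup_of_minNormal_abelian hO N hN hN1 hNmin (fun a ha b _ => hNc a ha b)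
    have hL := comap_pPrimeCore_quotient_le hO N hNp hNc
    apply hncent
    apply central_of_isolated_of_conj_commute x hiso
    intro g
    have h1 := hquot N hN1 (QuotientGroup.mk g)
    have h2 : g * x * g⁻¹ * x⁻¹ ∈ (Cfsg.pPrimeCore p (G ⧸ N)).comap (QuotientGroup.mk' N) := by
      rw [Subgroup.mem_comap]
      simpa using h1
    have h3 : g * x * g⁻¹ * x⁻¹ ∈ N := hL h2
    have h4 := hNc _ h3 x
    -- `x * (g x g⁻¹) = (g x g⁻¹) * x`
    show x * (g * x * g⁻¹) = g * x * g⁻¹ * x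
    have h5 : g * x * g⁻¹ = (g * x * g⁻¹ * x⁻¹) * x := by group
    rw [h5, ← mul_assoc, ← h4]
  · have hc := central_in_subnormal hO x hmin C hCn.isSubnormal hxC hCtop
    apply hncent
    apply central_of_isolated_of_conj_commute x hiso
    intro g
    exact (hc _ (hCn.conj_mem x hxC g)).symm

/-- In a minimal counterexample, a minimal normal subgroup is not abelian. -/
theorem minNormal_not_abelian [Finite G] {p : ℕ} [Fact p.Prime] (x : G) (hx : orderOf x = p)
    (hiso : Cfsg.IsIsolated x) (hnz : ¬ Cfsg.InZStar p x)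
    (hmin : ∀ (H : Subgroup G) (hxH : x ∈ H), H ≠ ⊤ → Cfsg.InZStar p (⟨x, hxH⟩ : ↥H))
    (hquot : ∀ (N : Subgroup G) [N.Normal], N ≠ ⊥ → Cfsg.InZStar p (QuotientGroup.mk x : G ⧸ N))
    (N : Subgroup G) [hN : N.Normal] (hN1 : N ≠ ⊥)
    (hNmin : ∀ B : Subgroup G, B.Normal → B ≤ N → B = ⊥ ∨ B = N) :
    ¬ ∀ a ∈ N, ∀ b ∈ N, a * b = b * a := by
  intro hab
  have hO := pPrimeCore_eq_bot_of_minimal x hnz hquot
  have hncent : ¬ ∀ g : G, g * x = x * g := fun h => hnz (inZStar_of_central x h)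
  have hNp : IsPGroup p ↥N := isPGroup_of_minNormal_abelian hO N hN hN1 hNmin hab
  have htop := minNormal_sup_zpowers_eq_top x hiso hnz hmin hquot N hN1 hNmin
  have hzp : IsPGroup p ↥(Subgroup.zpowers x) := by
    apply IsPGroup.of_card (n := 1)
    rw [Nat.card_zpowers, hx, pow_one]
  have hG : IsPGroup p ↥(⊤ : Subgroup G) := by
    rw [← htop, sup_comm]
    exact IsPGroup.to_sup_of_normal_right hzp hNp
  apply hncent
  intro g
  exact central_of_isIsolated_in_pgroup ⊤ hG x (Subgroup.mem_top x) hiso g (Subgroup.mem_top g)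

/-- In a minimal counterexample, a minimal normal subgroup `N` is simple: a subgroup `K ≤ N`
normalized by `N` is `1` or `N`. -/
theorem eq_bot_or_eq_of_normal_in_minNormal [Finite G] {p : ℕ} [Fact p.Prime] (x : G)
    (hx : orderOf x = p)
    (hiso : Cfsg.IsIsolated x) (hnz : ¬ Cfsg.InZStar p x)
    (hmin : ∀ (H : Subgroup G) (hxH : x ∈ H), H ≠ ⊤ → Cfsg.InZStar p (⟨x, hxH⟩ : ↥H))
    (hquot : ∀ (N : Subgroup G) [N.Normal], N ≠ ⊥ → Cfsg.InZStar p (QuotientGroup.mk x : G ⧸ N))
    (N : Subgroup G) [hN : N.Normal] (hN1 : N ≠ ⊥)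
    (hNmin : ∀ B : Subgroup G, B.Normal → B ≤ N → B = ⊥ ∨ B = N)
    (K : Subgroup G) (hKN : K ≤ N) (hKn : (K.subgroupOf N).Normal) : K = ⊥ ∨ K = N := by
  have hO := pPrimeCore_eq_bot_of_minimal x hnz hquot
  have htop := minNormal_sup_zpowers_eq_top x hiso hnz hmin hquot N hN1 hNmin
  by_contra hcon
  push Not at hcon
  obtain ⟨hK1, hK2⟩ := hcon
  have hzp : IsPGroup p ↥(Subgroup.zpowers x) := by
    apply IsPGroup.of_card (n := 1)
    rw [Nat.card_zpowers, hx, pow_one]
  obtain ⟨S, hS⟩ := hzp.exists_le_sylow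
  have hxS : x ∈ (S : Subgroup G) := hS (Subgroup.mem_zpowers x)
  have hxc := central_of_isIsolated_in_pgroup (S : Subgroup G) S.2 x hxS hiso
  have hKnorm : ∀ n ∈ N, ∀ k ∈ K, n * k * n⁻¹ ∈ K := by
    intro n hn k hk
    have := hKn.conj_mem ⟨k, hKN hk⟩ (Subgroup.mem_subgroupOf.mpr hk) ⟨n, hn⟩
    exact Subgroup.mem_subgroupOf.mp this
  have hcore : (S : Subgroup G) ⊓ K ≤ K.normalCore := by
    intro s hs
    rw [Subgroup.mem_inf] at hs
    intro g
    have hg : g ∈ ((N ⊔ Subgroup.zpowers x : Subgroup G) : Set G) := by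
      rw [htop]; exact Set.mem_univ g
    rw [Subgroup.normal_mul] at hg
    obtain ⟨n, hn, z, hz, rfl⟩ := Set.mem_mul.mp hg
    have hzs : z * s = s * z := by
      have hzc : z ∈ Subgroup.centralizer ({s} : Set G) := by
        have : Subgroup.zpowers x ≤ Subgroup.centralizer ({s} : Set G) := by
          rw [Subgroup.zpowers_le]
          rw [Subgroup.mem_centralizer_iff]
          intro y hy
          rw [Set.mem_singleton_iff] at hy
          rw [hy]
          exact hxc s hs.1
        exact this hz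
      rw [Subgroup.mem_centralizer_iff] at hzc
      exact (hzc s rfl).symm
    have : n * z * s * (n * z)⁻¹ = n * s * n⁻¹ := by
      have : n * z * s * (n * z)⁻¹ = n * (z * s) * z⁻¹ * n⁻¹ := by group
      rw [this, hzs]; group
    rw [this]
    exact hKnorm n hn s hs.2
  have hcoreN : K.normalCore ≤ N := le_trans (Subgroup.normalCore_le K) hKN
  have hcore0 : K.normalCore = ⊥ := by
    rcases hNmin K.normalCore (Subgroup.normalCore_normal K) hcoreN with h | h
    · exact h
    · exfalso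
      apply hK2
      apply le_antisymm hKN
      rw [← h]; exact Subgroup.normalCore_le K
  rw [hcore0] at hcore
  have hKsub : K.IsSubnormal := Subgroup.IsSubnormal.step K N hKN hN.isSubnormal hKn
  obtain ⟨Q, hQ⟩ := Cfsg.Agent.Helper1.sylow_inf_subnormal p K hKsub S
  have hQbot : (Q : Subgroup ↥K) = ⊥ := by
    rw [hQ, Subgroup.subgroupOf_eq_bot, disjoint_iff]
    exact le_bot_iff.mp hcore
  have hKc : (Nat.card ↥K).Coprime p := by
    have h1 : ¬ p ∣ (Q : Subgroup ↥K).index := Q.not_dvd_index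
    rw [hQbot, Subgroup.index_bot] at h1
    have hp : p.Prime := Fact.out
    exact ((Nat.Prime.coprime_iff_not_dvd hp).mpr h1).symm
  have hK'c : (Nat.card ↥(K.subgroupOf N)).Coprime p := by
    rw [Nat.card_congr (Subgroup.subgroupOfEquivOfLe hKN).toEquiv]
    exact hKc
  have h2 : K.subgroupOf N ≤ Cfsg.pPrimeCore p ↥N := le_pPrimeCore hKn hK'c
  have h3 : (K.subgroupOf N).map N.subtype = K := by
    rw [Subgroup.subgroupOf_map_subtype]; exact inf_eq_left.mpr hKN
  have h4 : (Cfsg.pPrimeCore p ↥N).map N.subtype ≤ Cfsg.pPrimeCore p G :=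
    Cfsg.Agent.Helper2.pPrimeCore_normal_le p N
  rw [hO] at h4
  apply hK1
  rw [eq_bot_iff, ← h3]
  exact le_trans (Subgroup.map_mono h2) h4

end Cfsg.Agent.Helper5
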