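import Mathlib
import Cfsg.Prelude.Def_FischerSpaces
import Cfsg.Agent.Helper1.Fitting
import Cfsg.Agent.Helper2.KleinCore
import Cfsg.Agent.Helper3.S4Pres

set_option autoImplicit false
open Cfsg

namespace Cfsg.Agent.Helper5.ThreeTrans

variable {G : Type*} [Group G]

/-- basic data of a conjugation-closed set of 3-transpositions -/
structure TT (D : Set G) : Prop where
  sq : ∀ d ∈ D, d * d = 1
  conj : ∀ (g : G), ∀ d ∈ D, g * d * g⁻¹ ∈ D
  cube : ∀ d ∈ D, ∀ e ∈ D, ¬ Commute d e → (d * e) ^ 3 = 1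

lemma TT.inv {D : Set G} (h : TT D) {d : G} (hd : d ∈ D) : d⁻¹ = d :=
  inv_eq_of_mul_eq_one_left (h.sq d hd)

lemma tt_of_set {D : Set G} (hD : IsThreeTranspositionSet D)
    (hc : ∀ (g : G), ∀ d ∈ D, g * d * g⁻¹ ∈ D) : TT D := by
  have hsq : ∀ d ∈ D, d * d = 1 := by
    intro d hd
    have := hD.1 d hd
    rw [← pow_two, ← this]; exact pow_orderOf_eq_one d
  refine ⟨hsq, hc, ?_⟩
  intro d hd e he hne
  rcases hD.2 d hd e he with h2 | h3
  · exfalso
    apply hne
    have hdi : d⁻¹ = d := inv_eq_of_mul_eq_one_left (hsq d hd)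
    have hei : e⁻¹ = e := inv_eq_of_mul_eq_one_left (hsq e he)
    have : d * e = (d * e)⁻¹ := by
      rw [eq_inv_iff_mul_eq_one, ← pow_two]; exact h2
    rw [mul_inv_rev, hdi, hei] at this
    exact this
  · exact h3

lemma tt_of_class {D : Set G} (hD : IsThreeTranspositionClass D) : TT D := by
  obtain ⟨hS, ⟨d₀, hd₀, hDeq⟩, _⟩ := hD
  apply tt_of_set hS
  intro g d hd
  rw [hDeq] at hd ⊢
  obtain ⟨c, hc⟩ := isConj_iff.mp hd
  apply isConj_iff.mpr
  refine ⟨g * c, ?_⟩
  rw [← hc]; group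

lemma mul_self_of_commute {a b : G} (h : Commute a b) (ha : a * a = 1) (hb : b * b = 1) :
    (a * b) * (a * b) = 1 := by
  rw [h.symm.mul_mul_mul_comm, ha, hb, one_mul]

/-- same commuting members -/
def SameComm (D : Set G) (d v : G) : Prop := ∀ e ∈ D, Commute v e ↔ Commute d e

lemma SameComm.refl' (D : Set G) (d : G) : SameComm D d d := fun _ _ => Iff.rfl

lemma SameComm.symm' {D : Set G} {d v : G} (h : SameComm D d v) : SameComm D v d :=
  fun e he => (h e he).symm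

lemma SameComm.trans' {D : Set G} {d v w : G} (h : SameComm D d v) (h' : SameComm D v w) :
    SameComm D d w := fun e he => (h' e he).trans (h e he)

lemma commute_conj_iff (g a e : G) : Commute (g * a * g⁻¹) e ↔ Commute a (g⁻¹ * e * g) := by
  have : e = g * (g⁻¹ * e * g) * g⁻¹ := by group
  conv_lhs => rw [this]
  exact SemiconjBy.conj_iff

lemma SameComm.conj' {D : Set G} (hT : TT D) {d v : G} (h : SameComm D d v) (g : G) :
    SameComm D (g * d * g⁻¹) (g * v * g⁻¹) := by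
  intro e he
  rw [commute_conj_iff, commute_conj_iff]
  have : g⁻¹ * e * g ∈ D := by
    have := hT.conj g⁻¹ e he
    rwa [inv_inv] at this
  exact h _ this

lemma SameComm.commute {D : Set G} {d u u' : G} (hd : d ∈ D) (hu' : u' ∈ D)
    (h : SameComm D d u) (h' : SameComm D d u') : Commute u u' := by
  rw [h u' hu']
  exact ((h' d hd).2 (Commute.refl d)).symm

lemma SameComm.commute_base {D : Set G} {d v : G} (hd : d ∈ D) (h : SameComm D d v) :
    Commute d v := ((h d hd).2 (Commute.refl d)).symm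

/-- the `S₄` generated by a path `d — f — v` -/
lemma exists_s4 {D : Set G} (hT : TT D) {d f v : G} (hd : d ∈ D) (hf : f ∈ D) (hv : v ∈ D)
    (hdv : Commute d v) (hdf : ¬ Commute d f) (hfv : ¬ Commute f v) :
    ∃ φ : Equiv.Perm (Fin 4) →* G, φ (Equiv.swap 0 1) = d ∧ φ (Equiv.swap 1 2) = f ∧
      φ (Equiv.swap 2 3) = v := by
  apply Cfsg.Agent.Helper3.S4Pres.exists_hom
  · rw [pow_two]; exact hT.sq d hd
  · rw [pow_two]; exact hT.sq f hf
  · rw [pow_two]; exact hT.sq v hv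
  · exact hT.cube d hd f hf hdf
  · exact hT.cube f hf v hv hfv
  · rw [pow_two]; exact mul_self_of_commute hdv (hT.sq d hd) (hT.sq v hv)

lemma s4_id1 : (Equiv.swap (2 : Fin 4) 3) =
    (Equiv.swap (1 : Fin 4) 2 * (Equiv.swap 0 1 * Equiv.swap 2 3) * (Equiv.swap (1 : Fin 4) 2)⁻¹) *
      Equiv.swap 0 1 *
      (Equiv.swap (1 : Fin 4) 2 * (Equiv.swap 0 1 * Equiv.swap 2 3) * (Equiv.swap (1 : Fin 4) 2)⁻¹)⁻¹ := by
  decide

lemma s4_id2 : (Equiv.swap (1 : Fin 4) 2 * Equiv.swap 0 1 * (Equiv.swap (1 : Fin 4) 2)⁻¹) *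
    Equiv.swap 0 1 * (Equiv.swap (1 : Fin 4) 2 * Equiv.swap 0 1 * (Equiv.swap (1 : Fin 4) 2)⁻¹)⁻¹ =
      Equiv.swap (1 : Fin 4) 2 := by
  decide

lemma s4_id3 : (Equiv.swap (1 : Fin 4) 2 * Equiv.swap 0 1 * (Equiv.swap (1 : Fin 4) 2)⁻¹) *
    Equiv.swap 2 3 * (Equiv.swap (1 : Fin 4) 2 * Equiv.swap 0 1 * (Equiv.swap (1 : Fin 4) 2)⁻¹)⁻¹ =
      (Equiv.swap 0 1 * Equiv.swap 2 3) * Equiv.swap (1 : Fin 4) 2 *
        (Equiv.swap (0 : Fin 4) 1 * Equiv.swap 2 3)⁻¹ := by
  decide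

/-- the product `d * v` of two members with the same commuting members fixes every class -/
lemma sameComm_conj_prod {D : Set G} (hT : TT D) {d v f : G} (hd : d ∈ D) (hv : v ∈ D)
    (hf : f ∈ D) (h : SameComm D d v) :
    SameComm D f ((d * v) * f * (d * v)⁻¹) := by
  by_cases hvd : v = d
  · subst hvd
    rw [hT.sq v hv, one_mul, inv_one, mul_one]
    exact SameComm.refl' D f
  by_cases hdf : Commute d f
  · have hvf : Commute v f := (h f hf).2 hdf
    have : (d * v) * f * (d * v)⁻¹ = f := by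
      rw [mul_inv_eq_iff_eq_mul]
      exact (Commute.mul_left hdf hvf).eq
    rw [this]
    exact SameComm.refl' D f
  · have hvf : ¬ Commute v f := fun hc => hdf ((h f hf).1 hc)
    have hfv : ¬ Commute f v := fun hc => hvf hc.symm
    have hdv : Commute d v := h.commute_base hd
    obtain ⟨φ, h0, h1, h2⟩ := exists_s4 hT hd hf hv hdv hdf hfv
    have e2 := congrArg φ s4_id2
    have e3 := congrArg φ s4_id3
    simp only [map_mul, map_inv, h0, h1, h2] at e2 e3
    have := h.conj' hT (f * d * f⁻¹)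
    rw [e2, e3] at this
    exact this

/-- the key bound on the order of `x * t` for a conjugate `t` of `x = d * v` -/
lemma pow_four_eq_one {D : Set G} (hT : TT D) {d v : G} (hd : d ∈ D) (hv : v ∈ D)
    (h : SameComm D d v) (g : G) :
    ((d * v) * (g * (d * v) * g⁻¹)) ^ 4 = 1 := by
  set x := d * v with hx
  set t := g * x * g⁻¹ with ht
  have hdv : Commute d v := h.commute_base hd
  have hxx : x * x = 1 := by
    rw [hx]; exact mul_self_of_commute hdv (hT.sq d hd) (hT.sq v hv)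
  have htt : t * t = 1 := by
    rw [ht]
    calc g * x * g⁻¹ * (g * x * g⁻¹) = g * (x * x) * g⁻¹ := by group
      _ = 1 := by rw [hxx]; group
  have hti : t⁻¹ = t := inv_eq_of_mul_eq_one_left htt
  -- t = d' * v'
  have ht' : t = (g * d * g⁻¹) * (g * v * g⁻¹) := by rw [ht, hx]; group
  have hd' : g * d * g⁻¹ ∈ D := hT.conj g d hd
  have hv' : g * v * g⁻¹ ∈ D := hT.conj g v hv
  have h' : SameComm D (g * d * g⁻¹) (g * v * g⁻¹) := h.conj' hT g
  have k1 : SameComm D d (t * d * t⁻¹) := by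
    rw [ht']; exact sameComm_conj_prod hT hd' hv' hd h'
  have k2 : SameComm D d (t * v * t⁻¹) := by
    have : SameComm D v (t * v * t⁻¹) := by
      rw [ht']; exact sameComm_conj_prod hT hd' hv' hv h'
    exact h.trans' this
  have m1 : t * d * t⁻¹ ∈ D := hT.conj t d hd
  have m2 : t * v * t⁻¹ ∈ D := hT.conj t v hv
  set u₁ := t * d * t⁻¹ with hu₁
  set u₂ := t * v * t⁻¹ with hu₂
  have hy : t * x * t⁻¹ = u₁ * u₂ := by rw [hu₁, hu₂, hx]; group
  have c0 : SameComm D d d := SameComm.refl' D d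
  have c_d_u1 : Commute d u₁ := SameComm.commute hd m1 c0 k1
  have c_d_u2 : Commute d u₂ := SameComm.commute hd m2 c0 k2
  have c_v_u1 : Commute v u₁ := SameComm.commute hd m1 h k1
  have c_v_u2 : Commute v u₂ := SameComm.commute hd m2 h k2
  have c_u1_u2 : Commute u₁ u₂ := SameComm.commute hd m2 k1 k2
  have hyy : (u₁ * u₂) * (u₁ * u₂) = 1 :=
    mul_self_of_commute c_u1_u2 (hT.sq _ m1) (hT.sq _ m2)
  have cxy : Commute x (u₁ * u₂) := by
    rw [hx]
    exact Commute.mul_left (Commute.mul_right c_d_u1 c_d_u2) (Commute.mul_right c_v_u1 c_v_u2)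
  have h2 : (x * t) ^ 2 = x * (u₁ * u₂) := by
    rw [← hy, pow_two]
    calc x * t * (x * t) = x * (t * x * t) := by group
      _ = x * (t * x * t⁻¹) := by rw [hti]
  calc (x * t) ^ 4 = ((x * t) ^ 2) ^ 2 := by rw [← pow_mul]
    _ = (x * (u₁ * u₂)) ^ 2 := by rw [h2]
    _ = 1 := by
      rw [pow_two]; exact mul_self_of_commute cxy hxx hyy

/-- `d * v` lies in `O₂(G)` -/
lemma prod_mem_pCore [Finite G] {D : Set G} (hT : TT D) {d v : G} (hd : d ∈ D) (hv : v ∈ D)
    (h : SameComm D d v) : d * v ∈ Cfsg.pCore 2 G := by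
  by_contra hnot
  have hdv : Commute d v := h.commute_base hd
  have hxx : (d * v) * (d * v) = 1 := mul_self_of_commute hdv (hT.sq d hd) (hT.sq v hv)
  have hxi : (d * v)⁻¹ = d * v := inv_eq_of_mul_eq_one_left hxx
  obtain ⟨y, hy1, hyodd, hyinv⟩ :=
    Cfsg.Agent.Helper2.exists_odd_inverted_of_not_mem_pCore hxx hnot
  have h4 := pow_four_eq_one hT hd hv h y
  have e : (d * v) * (y * (d * v) * y⁻¹) = (y⁻¹) ^ 2 := by
    calc (d * v) * (y * (d * v) * y⁻¹) = ((d * v) * y * (d * v)⁻¹) * y⁻¹ := by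
          rw [hxi]; group
      _ = y⁻¹ ^ 2 := by rw [hyinv, pow_two]
  rw [e, ← pow_mul, inv_pow, inv_eq_one] at h4
  have hdvd : orderOf y ∣ 8 := orderOf_dvd_of_pow_eq_one h4
  have hcop : Nat.Coprime (orderOf y) 8 := by
    have : Nat.Coprime (orderOf y) 2 := Nat.Coprime.symm (Nat.coprime_two_left.mpr hyodd)
    exact Nat.Coprime.pow_right 3 this
  have : orderOf y = 1 := Nat.Coprime.eq_one_of_dvd hcop hdvd
  exact hy1 (orderOf_eq_one_iff.mp this)

end Cfsg.Agent.Helper5.ThreeTrans
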