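import Mathlib
import Cfsg.Prelude.Def_FischerSpaces
import Cfsg.Agent.Helper5.ThreeTransA

set_option autoImplicit false
open Cfsg

namespace Cfsg.Agent.Helper5.ThreeTrans

variable {G : Type*} [Group G]

/-- a member of a class of size at least two fails to commute with some member -/
lemma exists_not_commute {D : Set G} (hD : IsThreeTranspositionClass D)
    (hD2 : ∃ a ∈ D, ∃ b ∈ D, a ≠ b) {d : G} (hd : d ∈ D) : ∃ f ∈ D, ¬ Commute d f := by
  by_contra hcon
  push Not at hcon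
  obtain ⟨_, ⟨d₀, hd₀, hDeq⟩, hgen⟩ := hD
  have hcen : ∀ g : G, g * d = d * g := by
    intro g
    have hg : g ∈ Subgroup.closure D := by rw [hgen]; trivial
    have hle : Subgroup.closure D ≤ Subgroup.centralizer {d} := by
      rw [Subgroup.closure_le]
      intro f hf
      rw [SetLike.mem_coe, Subgroup.mem_centralizer_iff]
      intro h hh
      rw [Set.mem_singleton_iff] at hh
      rw [hh]
      exact (hcon f hf).eq
    have := hle hg
    rw [Subgroup.mem_centralizer_iff] at this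
    exact (this d rfl).symm
  have hall : ∀ a ∈ D, a = d := by
    intro a ha
    rw [hDeq] at ha hd
    obtain ⟨c, hc⟩ := isConj_iff.mp ha
    obtain ⟨c', hc'⟩ := isConj_iff.mp hd
    have h0 : d₀ = d := by
      have : d₀ = c'⁻¹ * d * c' := by rw [← hc']; group
      rw [this, mul_assoc, ← hcen c', ← mul_assoc, inv_mul_cancel, one_mul]
    rw [← hc, h0, hcen c, mul_assoc, mul_inv_cancel, mul_one]
  obtain ⟨a, ha, b, hb, hab⟩ := hD2
  exact hab ((hall a ha).trans (hall b hb).symm)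

/-- members congruent modulo `O₂(G)` commute with the same members -/
lemma commute_of_congr [Finite G] {D : Set G} (hT : TT D) {a b e : G} (ha : a ∈ D) (hb : b ∈ D)
    (he : e ∈ D) (hab : a⁻¹ * b ∈ Cfsg.pCore 2 G) (hae : Commute a e) : Commute b e := by
  haveI : Fact (Nat.Prime 2) := ⟨Nat.prime_two⟩
  by_contra hne
  have h3 : (b * e) ^ 3 = 1 := hT.cube b hb e he hne
  set N := Cfsg.pCore 2 G with hN
  haveI : N.Normal := Cfsg.Agent.Helper1.pCore_normal 2
  have hmk : (QuotientGroup.mk a : G ⧸ N) = QuotientGroup.mk b := QuotientGroup.eq.mpr hab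
  have h2 : (b * e) ^ 2 ∈ N := by
    rw [← QuotientGroup.eq_one_iff, QuotientGroup.mk_pow, QuotientGroup.mk_mul, ← hmk,
      ← QuotientGroup.mk_mul, ← QuotientGroup.mk_pow, pow_two,
      mul_self_of_commute hae (hT.sq a ha) (hT.sq e he)]
    rfl
  have h1 : b * e ∈ N := by
    have : b * e = ((b * e) ^ 2)⁻¹ := by
      rw [eq_inv_iff_mul_eq_one, ← pow_succ']; exact h3
    rw [this]; exact N.inv_mem h2
  obtain ⟨k, hk⟩ := (Cfsg.Agent.Helper1.pCore_isPGroup (G := G) 2) ⟨b * e, h1⟩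
  have hk' : (b * e) ^ 2 ^ k = 1 := by
    have := congrArg Subtype.val hk
    simpa using this
  have hd1 : orderOf (b * e) ∣ 2 ^ k := orderOf_dvd_of_pow_eq_one hk'
  have hd2 : orderOf (b * e) ∣ 3 := orderOf_dvd_of_pow_eq_one h3
  have hcop : Nat.Coprime (2 ^ k) 3 := Nat.Coprime.pow_left k (by decide)
  have h11 : orderOf (b * e) = 1 := Nat.eq_one_of_dvd_coprimes hcop hd1 hd2
  have hbe : b * e = 1 := orderOf_eq_one_iff.mp h11
  apply hne
  have : b = e := by
    have := mul_eq_one_iff_eq_inv.mp hbe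
    rw [this, hT.inv he]
  rw [this]

theorem main_S5349 [Finite G] {D : Set G} (hD : IsThreeTranspositionClass D)
    (hD2 : ∃ a ∈ D, ∃ b ∈ D, a ≠ b) {d : G} (hd : d ∈ D) :
    {v : G | v ∈ D ∧ ∀ e ∈ D, Commute v e ↔ Commute d e} =
        {v : G | v ∈ D ∧ d⁻¹ * v ∈ Cfsg.pCore 2 G} ∧
      {v : G | v ∈ D ∧ ∀ e ∈ D, Commute v e ↔ Commute d e} =
        {v : G | ∃ g ∈ Cfsg.pCore 2 G, v = g * d * g⁻¹} := by
  have hT := tt_of_class hD
  set N := Cfsg.pCore 2 G with hN
  haveI hNn : N.Normal := Cfsg.Agent.Helper1.pCore_normal 2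
  have hAC : ∀ v, (v ∈ D ∧ ∀ e ∈ D, Commute v e ↔ Commute d e) → ∃ g ∈ N, v = g * d * g⁻¹ := by
    rintro v ⟨hv, hsc⟩
    have hsc' : SameComm D d v := hsc
    by_cases hvd : v = d
    · exact ⟨1, N.one_mem, by rw [hvd]; group⟩
    obtain ⟨f, hf, hdf⟩ := exists_not_commute hD hD2 hd
    have hvf : ¬ Commute v f := fun hc => hdf ((hsc f hf).1 hc)
    have hfv : ¬ Commute f v := fun hc => hvf hc.symm
    have hdv : Commute d v := hsc'.commute_base hd
    obtain ⟨φ, h0, h1, h2⟩ := exists_s4 hT hd hf hv hdv hdf hfv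
    have e1 := congrArg φ s4_id1
    simp only [map_mul, map_inv, h0, h1, h2] at e1
    refine ⟨f * (d * v) * f⁻¹, ?_, e1⟩
    exact hNn.conj_mem _ (prod_mem_pCore hT hd hv hsc') f
  have hCB : ∀ v, (∃ g ∈ N, v = g * d * g⁻¹) → (v ∈ D ∧ d⁻¹ * v ∈ N) := by
    rintro v ⟨g, hg, rfl⟩
    refine ⟨hT.conj g d hd, ?_⟩
    have : d⁻¹ * (g * d * g⁻¹) = (d⁻¹ * g * d⁻¹⁻¹) * g⁻¹ := by group
    rw [this]
    exact N.mul_mem (hNn.conj_mem _ hg _) (N.inv_mem hg)
  have hBA : ∀ v, (v ∈ D ∧ d⁻¹ * v ∈ N) → (v ∈ D ∧ ∀ e ∈ D, Commute v e ↔ Commute d e) := by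
    rintro v ⟨hv, hn⟩
    refine ⟨hv, fun e he => ⟨fun h => ?_, fun h => ?_⟩⟩
    · have hn' : v⁻¹ * d ∈ N := by
        have : v⁻¹ * d = (d⁻¹ * v)⁻¹ := by group
        rw [this]; exact N.inv_mem hn
      exact commute_of_congr hT hv hd he hn' h
    · exact commute_of_congr hT hd hv he hn h
  constructor
  · ext v
    exact ⟨fun h => hCB v (hAC v h), fun h => hBA v h⟩
  · ext v
    exact ⟨fun h => hAC v h, fun h => hBA v (hCB v h)⟩

end Cfsg.Agent.Helper5.ThreeTrans
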