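import Mathlib
import Cfsg.Agent.Helper1.Fo3Defs
import Cfsg.Agent.Helper1.Fo3_F5

set_option autoImplicit false
set_option linter.unusedVariables false
set_option linter.unusedSectionVars false

/-!
# S1615, label F6: the star of `x` is pairwise non-commuting; transport along the class
-/

namespace Cfsg.Agent.Helper1.Fo3

open Cfsg.Agent.Lead.TTW Cfsg.Agent.Lead.TTM

variable {G : Type*} [Group G]

/-- conjugating twice by an involution -/
theorem h5_conj_conj_of_sq {g b : G} (hg : g * g = 1) : g * (g * b * g⁻¹) * g⁻¹ = b := by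
  have hgi : g⁻¹ = g := inv_eq_of_mul_eq_one_left hg
  rw [hgi]
  calc g * (g * b * g) * g = (g * g) * b * (g * g) := by group
    _ = b := by rw [hg, one_mul, mul_one]

/-- a member of the star of `x` conjugates the star of `x` into itself -/
theorem h5_conj_mem_star {D : Set G} (hT : TT3 D) {x g b : G} (hg : g ∈ star D x)
    (hb : b ∈ star D x) : g * b * g⁻¹ ∈ star D x := by
  have hgx : g * x * g⁻¹ = x := by
    have hc : Commute x g := hg.2.2
    have : g * x = x * g := hc.eq.symm
    rw [this, mul_inv_cancel_right]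
  have h1 : g * b * g⁻¹ ∈ star D (g * x * g⁻¹) := by
    rw [mem_star_conj hT]
    have e : g⁻¹ * (g * b * g⁻¹) * g = b := by group
    rw [e]; exact hb
  rwa [hgx] at h1

/-- F6 (D): the star of `x` is pairwise non-commuting -/
theorem star_pairwise {D : Set G} (hT : TT3 D) {x y z w : G} (h : Twin D x y z)
    (hw : w ∈ star D y) (hwz : w ∉ star D z)
    (htr : ∀ a ∈ star D x, ∀ b ∈ star D x, ∃ g ∈ Subgroup.closure (star D x), g * a * g⁻¹ = b) :
    ∀ b ∈ star D x, ∀ c ∈ star D x, b ≠ c → ¬ Commute b c := by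
  classical
  obtain ⟨hxD, hy, hz, hyz, hstar⟩ := h
  have h' : Twin D x y z := ⟨hxD, hy, hz, hyz, hstar⟩
  -- the set `B`
  set B : Set G := {b | b ∈ star D x ∧ (b = y ∨ ¬ Commute y b)} with hB
  -- (1) every member of `B` has the same commuting members inside the star of `x` as `y`
  have h1 : ∀ b ∈ B, star D x ∩ star D b = star D x ∩ star D y := by
    rintro b ⟨hbx, rfl | hb⟩
    · rfl
    · exact (twin_of_not_commute hT h' hw hwz hbx hb).2.2.2.2.symm
  -- members of the star of `x` outside `B` lie in the star of `y`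
  have hout : ∀ c ∈ star D x, c ∉ B → c ∈ star D y := by
    intro c hc hcB
    have hne : c ≠ y := fun e => hcB ⟨hc, Or.inl e⟩
    have hcom : Commute y c := by
      by_contra hn
      exact hcB ⟨hc, Or.inr hn⟩
    exact ⟨hc.1, hne, hcom⟩
  -- members of `B` do not lie in the star of `y`
  have hnot : ∀ b ∈ B, b ∉ star D y := by
    rintro b ⟨hbx, rfl | hb⟩ hby
    · exact hby.2.1 rfl
    · exact hb hby.2.2
  -- (2) `B` is pairwise non-commuting
  have h2 : ∀ b ∈ B, ∀ c ∈ B, b ≠ c → ¬ Commute b c := by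
    intro b hb c hc hne hcom
    have hmem : c ∈ star D x ∩ star D b := ⟨hc.1, hc.1.1, hne.symm, hcom⟩
    rw [h1 b hb] at hmem
    exact hnot c hc hmem.2
  -- (3) conjugation by members of the closure preserves `B`
  have hgen : ∀ g ∈ star D x, ∀ b ∈ B, g * b * g⁻¹ ∈ B := by
    intro g hg b hb
    by_cases hgB : g ∈ B
    · by_cases hgb : g = b
      · subst hgb
        rw [mul_inv_cancel_right]; exact hb
      · have hncom : ¬ Commute g b := h2 g hgB b hb hgb
        have hmem : g * b * g⁻¹ ∈ star D x := h5_conj_mem_star hT hg hb.1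
        by_contra hcon
        have hy' : g * b * g⁻¹ ∈ star D y := hout _ hmem hcon
        have hin : g * b * g⁻¹ ∈ star D x ∩ star D g := by
          rw [h1 g hgB]; exact ⟨hmem, hy'⟩
        have hc : Commute g (g * b * g⁻¹) := hin.2.2.2
        apply hncom
        have e : g * (g * b * g⁻¹) = g * b * g⁻¹ * g := hc.eq
        have e2 : g * b = b * g := by
          calc g * b = g⁻¹ * (g * (g * b * g⁻¹)) * g := by group
            _ = g⁻¹ * (g * b * g⁻¹ * g) * g := by rw [e]
            _ = b * g := by group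
        exact e2
    · -- `g` lies in the common part, so commutes with `b`
      have hgy : g ∈ star D y := hout g hg hgB
      have hin : g ∈ star D x ∩ star D b := by
        rw [h1 b hb]; exact ⟨hg, hgy⟩
      have hc : Commute b g := hin.2.2.2
      have e : g * b * g⁻¹ = b := by
        rw [← hc.eq, mul_inv_cancel_right]
      rw [e]; exact hb
  have hiff : ∀ g ∈ Subgroup.closure (star D x), ∀ b : G, b ∈ B ↔ g * b * g⁻¹ ∈ B := by
    intro g hg
    induction hg using Subgroup.closure_induction with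
    | mem g hg =>
      intro b
      constructor
      · exact hgen g hg b
      · intro hb
        have hsq : g * g = 1 := hT.sq g hg.1
        have := hgen g hg _ hb
        rwa [h5_conj_conj_of_sq hsq] at this
    | one => intro b; simp
    | mul g₁ g₂ _ _ ih₁ ih₂ =>
      intro b
      rw [ih₂ b, ih₁ (g₂ * b * g₂⁻¹)]
      have e : g₁ * (g₂ * b * g₂⁻¹) * g₁⁻¹ = g₁ * g₂ * b * (g₁ * g₂)⁻¹ := by group
      rw [e]
    | inv g _ ih =>
      intro b
      rw [ih (g⁻¹ * b * g⁻¹⁻¹)]
      have e : g * (g⁻¹ * b * g⁻¹⁻¹) * g⁻¹ = b := by group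
      rw [e]
  -- (4) the whole star of `x` lies in `B`
  have hyB : y ∈ B := ⟨hy, Or.inl rfl⟩
  have hall : ∀ c ∈ star D x, c ∈ B := by
    intro c hc
    obtain ⟨g, hg, hgc⟩ := htr y hy c hc
    rw [← hgc]
    exact (hiff g hg y).mp hyB
  intro b hb c hc hne
  exact h2 b (hall b hb) c (hall c hc) hne

/-- F6c: transport along the class -/
theorem triFree_of_star {D : Set G} (hT : TT3 D)
    (hcl : ∀ a ∈ D, ∀ b ∈ D, ∃ g : G, g * a * g⁻¹ = b) {x : G} (hx : x ∈ D)
    (hp : ∀ b ∈ star D x, ∀ c ∈ star D x, b ≠ c → ¬ Commute b c) : TriFree D := by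
  intro a ha b hb c hc hne hcom
  obtain ⟨g, hg⟩ := hcl x hx a ha
  rw [← hg, mem_star_conj hT] at hb hc
  refine hp _ hb _ hc ?_ ?_
  · intro e
    apply hne
    have e1 : g * (g⁻¹ * b * g) * g⁻¹ = b := by group
    have e2 : g * (g⁻¹ * c * g) * g⁻¹ = c := by group
    rw [← e1, ← e2, e]
  · have h1 : b * c = c * b := hcom.eq
    show g⁻¹ * b * g * (g⁻¹ * c * g) = g⁻¹ * c * g * (g⁻¹ * b * g)
    calc g⁻¹ * b * g * (g⁻¹ * c * g) = g⁻¹ * (b * c) * g := by group
      _ = g⁻¹ * (c * b) * g := by rw [h1]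
      _ = g⁻¹ * c * g * (g⁻¹ * b * g) := by group

end Cfsg.Agent.Helper1.Fo3
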