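import Mathlib

/-!
Helper lemmas (helper5): evaluating the transfer homomorphism in two simple situations.
-/

set_option autoImplicit false

namespace Cfsg.Agent.Helper5

open MulAction Subgroup

variable {G : Type*} [Group G] {A : Type*} [CommGroup A]

/-- If every conjugate of a power of `x` lying in `M` is killed by `ϕ`, the transfer kills `x`. -/
theorem transfer_eq_one_of_forall (M : Subgroup G) [M.FiniteIndex] (ϕ : ↥M →* A) (x : G)
    (h : ∀ (k : ℕ) (g : G) (hmem : g⁻¹ * x ^ k * g ∈ M), ϕ ⟨g⁻¹ * x ^ k * g, hmem⟩ = 1) :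
    MonoidHom.transfer ϕ x = 1 := by
  classical
  have : Fintype (Quotient (orbitRel (zpowers x) (G ⧸ M))) :=
    @Fintype.ofFinite _ (by
      have : Finite (G ⧸ M) := Subgroup.finite_quotient_of_finiteIndex
      infer_instance)
  rw [MonoidHom.transfer_eq_prod_quotient_orbitRel_zpowers_quot ϕ x]
  apply Finset.prod_eq_one
  intro q _
  exact h _ _ _

/-- If `x ∈ M` and every conjugate `g⁻¹ x^k g ∈ M` with `g ∉ M` is killed by `ϕ`, then the
transfer of `x` is `ϕ x`. -/
theorem transfer_eq_self_of_forall (M : Subgroup G) [M.FiniteIndex] (ϕ : ↥M →* A) (x : G) (hx : x ∈ M)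
    (h : ∀ (k : ℕ) (g : G), g ∉ M → ∀ (hmem : g⁻¹ * x ^ k * g ∈ M), ϕ ⟨g⁻¹ * x ^ k * g, hmem⟩ = 1) :
    MonoidHom.transfer ϕ x = ϕ ⟨x, hx⟩ := by
  classical
  have : Fintype (Quotient (orbitRel (zpowers x) (G ⧸ M))) :=
    @Fintype.ofFinite _ (by
      have : Finite (G ⧸ M) := Subgroup.finite_quotient_of_finiteIndex
      infer_instance)
  rw [MonoidHom.transfer_eq_prod_quotient_orbitRel_zpowers_quot ϕ x]
  have key : ∀ (k : ℕ) (g : G) (_ : g ∈ M) (hmem : g⁻¹ * x ^ k * g ∈ M), k = 1 →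
      ϕ ⟨g⁻¹ * x ^ k * g, hmem⟩ = ϕ ⟨x, hx⟩ := by
    intro k g hg hmem hk
    subst hk
    have e : (⟨g⁻¹ * x ^ 1 * g, hmem⟩ : ↥M) = (⟨g, hg⟩ : ↥M)⁻¹ * ⟨x, hx⟩ * ⟨g, hg⟩ := by
      apply Subtype.ext
      simp
    rw [e, map_mul, map_mul, map_inv, mul_comm, mul_inv_cancel_left]
  have hfix : x • ((1 : G) : G ⧸ M) = ((1 : G) : G ⧸ M) := by
    rw [MulAction.Quotient.smul_mk, QuotientGroup.eq]
    simpa using hx
  have hfixz : ∀ z ∈ zpowers x, z • ((1 : G) : G ⧸ M) = ((1 : G) : G ⧸ M) := by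
    intro z hz
    have hzM : z ∈ M := (zpowers_le.mpr hx) hz
    rw [MulAction.Quotient.smul_mk, QuotientGroup.eq]
    simpa using hzM
  set q₀ : Quotient (orbitRel (zpowers x) (G ⧸ M)) := Quotient.mk'' (((1 : G) : G ⧸ M)) with hq₀
  have hmem_iff : ∀ q : Quotient (orbitRel (zpowers x) (G ⧸ M)), q.out.out ∈ M → q = q₀ := by
    intro q hq
    have h1 : q.out = ((1 : G) : G ⧸ M) := by
      rw [← QuotientGroup.out_eq' q.out, QuotientGroup.eq]
      simpa using hq
    rw [hq₀, ← h1]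
    exact (Quotient.out_eq' q).symm
  have hout : q₀.out = ((1 : G) : G ⧸ M) := by
    have h1 : q₀.out ∈ MulAction.orbit (zpowers x) (((1 : G) : G ⧸ M)) := by
      have := Quotient.mk_out (s := orbitRel (zpowers x) (G ⧸ M)) (((1 : G) : G ⧸ M))
      exact this
    obtain ⟨⟨z, hz⟩, hz'⟩ := h1
    rw [← hz']
    exact hfixz z hz
  rw [Finset.prod_eq_single q₀]
  · apply key
    · have : ((q₀.out.out : G) : G ⧸ M) = ((1 : G) : G ⧸ M) := by
        rw [QuotientGroup.out_eq', hout]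
      rw [QuotientGroup.eq] at this
      have h2 := M.inv_mem this
      simpa using h2
    · rw [hout, Function.minimalPeriod_eq_one_iff_isFixedPt]
      exact hfix
  · intro q _ hq
    apply h
    intro hmem
    exact hq (hmem_iff q hmem)
  · intro hq
    exact absurd (Finset.mem_univ q₀) hq

end Cfsg.Agent.Helper5
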