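import Mathlib
import Cfsg.Prelude.Def_ConjugacyFunctors

/-!
Helper lemmas (helper5): the K-sequence and the K-infinity subgroups.
-/

set_option autoImplicit false

namespace Cfsg.Agent.Helper5

variable {P : Type*} [Group P]

theorem kLowerStarFamily_anti {Q₁ Q₂ : Subgroup P} (h : Q₁ ≤ Q₂) :
    Cfsg.kLowerStarFamily Q₂ ⊆ Cfsg.kLowerStarFamily Q₁ := by
  rintro B ⟨h1, h2, h3⟩
  exact ⟨h1, le_trans h h2, fun A hA hAQ => h3 A hA (le_trans hAQ h)⟩

theorem kUpperStarFamily_anti {Q₁ Q₂ : Subgroup P} (h : Q₁ ≤ Q₂) :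
    Cfsg.kUpperStarFamily Q₂ ⊆ Cfsg.kUpperStarFamily Q₁ := by
  rintro B ⟨h1, h2⟩
  exact ⟨h1, le_trans (Subgroup.commutator_mono le_rfl h) h2⟩

theorem kSeqOdd_succ (n : ℕ) :
    Cfsg.kSeqOdd P (n + 1) = sSup (Cfsg.kUpperStarFamily (Cfsg.kSeqEven P n)) := rfl

theorem kSeqOdd_zero : Cfsg.kSeqOdd P 0 = ⊤ := rfl

theorem kSeqOdd_succ_le (n : ℕ) : Cfsg.kSeqOdd P (n + 1) ≤ Cfsg.kSeqOdd P n := by
  induction n with
  | zero => rw [kSeqOdd_zero]; exact le_top
  | succ n ih =>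
    rw [kSeqOdd_succ, kSeqOdd_succ]
    apply sSup_le_sSup
    apply kUpperStarFamily_anti
    unfold Cfsg.kSeqEven
    apply sSup_le_sSup
    exact kLowerStarFamily_anti ih

theorem kSeqEven_le_succ (n : ℕ) : Cfsg.kSeqEven P n ≤ Cfsg.kSeqEven P (n + 1) := by
  unfold Cfsg.kSeqEven
  apply sSup_le_sSup
  exact kLowerStarFamily_anti (kSeqOdd_succ_le n)

theorem kSeqOdd_antitone : Antitone (Cfsg.kSeqOdd P) :=
  antitone_nat_of_succ_le kSeqOdd_succ_le

theorem kSeqEven_monotone : Monotone (Cfsg.kSeqEven P) :=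
  monotone_nat_of_le_succ kSeqEven_le_succ

theorem inf_centralizer_eq_of_comm (A : Subgroup P) (hA : IsMulCommutative ↥A) :
    A ⊓ Subgroup.centralizer (A : Set P) = A := by
  apply inf_eq_left.mpr
  intro x hx
  rw [Subgroup.mem_centralizer_iff]
  intro y hy
  exact setLike_mul_comm hy hx

theorem commutator_self_eq_bot_of_comm (A : Subgroup P) (hA : IsMulCommutative ↥A) : ⁅A, A⁆ = ⊥ := by
  rw [Subgroup.commutator_eq_bot_iff_le_centralizer]
  intro x hx
  rw [Subgroup.mem_centralizer_iff]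
  intro y hy
  exact setLike_mul_comm hy hx

theorem mem_classTwo_of_comm (A : Subgroup P) (hA : IsMulCommutative ↥A) :
    A ∈ Cfsg.classTwoSubgroups P := by
  show ⁅A, A⁆ ≤ _
  rw [commutator_self_eq_bot_of_comm A hA]
  exact bot_le

theorem mem_kLowerStarFamily_of_comm_normal (A : Subgroup P) [hn : A.Normal] (hA : IsMulCommutative ↥A)
    (Q : Subgroup P) : A ∈ Cfsg.kLowerStarFamily Q := by
  refine ⟨mem_classTwo_of_comm A hA, ?_, ?_⟩
  · rw [Subgroup.normalizer_eq_top_iff.mpr hn]; exact le_top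
  · intro A' _ _ _ _ _
    rw [inf_centralizer_eq_of_comm A hA]
    exact Subgroup.commutator_le_left A A'

theorem mem_kUpperStarFamily_of_comm_normal (A : Subgroup P) [hn : A.Normal] (hA : IsMulCommutative ↥A)
    (Q : Subgroup P) : A ∈ Cfsg.kUpperStarFamily Q := by
  refine ⟨mem_classTwo_of_comm A hA, ?_⟩
  rw [inf_centralizer_eq_of_comm A hA]
  exact Subgroup.commutator_le_left A Q

theorem le_kSeqEven_of_comm_normal (A : Subgroup P) [A.Normal] (hA : IsMulCommutative ↥A) (n : ℕ) :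
    A ≤ Cfsg.kSeqEven P n :=
  le_sSup (mem_kLowerStarFamily_of_comm_normal A hA _)

theorem le_kSeqOdd_of_comm_normal (A : Subgroup P) [A.Normal] (hA : IsMulCommutative ↥A) (n : ℕ) :
    A ≤ Cfsg.kSeqOdd P n := by
  cases n with
  | zero => rw [kSeqOdd_zero]; exact le_top
  | succ n => rw [kSeqOdd_succ]; exact le_sSup (mem_kUpperStarFamily_of_comm_normal A hA _)

end Cfsg.Agent.Helper5
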