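import Mathlib
import Cfsg.Prelude.Def_ConjugacyFunctors

/-!
Helper lemmas (helper5): Glauberman's K-sequences under an injective homomorphism whose range contains
all terms of nonnegative index: the K-infinity subgroups agree. Only uses that the star families are
antitone in the relative subgroup and are defined by conditions internal to the members.
-/

set_option autoImplicit false

namespace Cfsg.Agent.Helper5.KS

open Subgroup

variable {H P : Type*} [Group H] [Group P] (f : H →* P) (hf : Function.Injective f)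

/-- `B ⊓ C(B)` is carried to the same for the image. -/
theorem map_Z (hf : Function.Injective f) (B : Subgroup H) :
    (B ⊓ centralizer (B : Set H)).map f = B.map f ⊓ centralizer ((B.map f : Subgroup P) : Set P) := by
  ext x
  constructor
  · rintro ⟨y, hy, rfl⟩
    obtain ⟨hyB, hyc⟩ := Subgroup.mem_inf.mp hy
    refine Subgroup.mem_inf.mpr ⟨⟨y, hyB, rfl⟩, ?_⟩
    rw [Subgroup.mem_centralizer_iff]
    rintro _ ⟨b, hb, rfl⟩
    rw [← map_mul, ← map_mul, (Subgroup.mem_centralizer_iff.mp hyc) b hb]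
  · intro hx
    obtain ⟨hxB, hxc⟩ := Subgroup.mem_inf.mp hx
    obtain ⟨y, hyB, rfl⟩ := hxB
    refine ⟨y, Subgroup.mem_inf.mpr ⟨hyB, ?_⟩, rfl⟩
    rw [Subgroup.mem_centralizer_iff]
    intro b hb
    apply hf
    rw [map_mul, map_mul]
    exact (Subgroup.mem_centralizer_iff.mp hxc) (f b) ⟨b, hb, rfl⟩

theorem le_centralizer_map_iff (hf : Function.Injective f) (X Y : Subgroup H) :
    X.map f ≤ centralizer ((Y.map f : Subgroup P) : Set P) ↔ X ≤ centralizer (Y : Set H) := by
  rw [← Subgroup.commutator_eq_bot_iff_le_centralizer, ← Subgroup.commutator_eq_bot_iff_le_centralizer,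
    ← Subgroup.map_commutator, Subgroup.map_eq_bot_iff_of_injective _ hf]

theorem le_normalizer_map_iff (hf : Function.Injective f) (X Y : Subgroup H) :
    X.map f ≤ normalizer ((Y.map f : Subgroup P) : Set P) ↔ X ≤ normalizer (Y : Set H) := by
  rw [Subgroup.le_normalizer_iff_commutator_le_right, Subgroup.le_normalizer_iff_commutator_le_right,
    ← Subgroup.map_commutator, Subgroup.map_le_map_iff_of_injective hf]

theorem mem_classTwo_iff (hf : Function.Injective f) (B : Subgroup H) :
    B.map f ∈ Cfsg.classTwoSubgroups P ↔ B ∈ Cfsg.classTwoSubgroups H := by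
  unfold Cfsg.classTwoSubgroups
  simp only [Set.mem_ofPred_eq]
  rw [← Subgroup.map_commutator, le_centralizer_map_iff f hf]

theorem mem_upper_iff (hf : Function.Injective f) (R B : Subgroup H) :
    B.map f ∈ Cfsg.kUpperStarFamily (R.map f) ↔ B ∈ Cfsg.kUpperStarFamily R := by
  unfold Cfsg.kUpperStarFamily
  simp only [Set.mem_ofPred_eq]
  rw [mem_classTwo_iff f hf, ← Subgroup.map_commutator, ← map_Z f hf,
    Subgroup.map_le_map_iff_of_injective hf]

theorem mem_lower_iff (hf : Function.Injective f) (R B : Subgroup H) :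
    B.map f ∈ Cfsg.kLowerStarFamily (R.map f) ↔ B ∈ Cfsg.kLowerStarFamily R := by
  unfold Cfsg.kLowerStarFamily
  simp only [Set.mem_ofPred_eq]
  rw [mem_classTwo_iff f hf, le_normalizer_map_iff f hf]
  refine and_congr_right fun _ => and_congr_right fun _ => ?_
  constructor
  · intro h A hA hAR hBA h1 h2
    have := h (A.map f) ((mem_classTwo_iff f hf A).mpr hA)
      ((Subgroup.map_le_map_iff_of_injective hf).mpr hAR)
      ((le_normalizer_map_iff f hf B A).mpr hBA)
      (by rw [← Subgroup.map_commutator, ← Subgroup.map_commutator, h1, Subgroup.map_bot])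
      (by rw [← map_Z f hf, ← Subgroup.map_commutator, ← Subgroup.map_commutator, h2, Subgroup.map_bot])
    rwa [← Subgroup.map_commutator, ← map_Z f hf, Subgroup.map_le_map_iff_of_injective hf] at this
  · intro h A' hA' hAR hBA h1 h2
    have hrange : A' ≤ f.range := hAR.trans (Subgroup.map_le_range f R)
    have hA'eq : (A'.comap f).map f = A' := Subgroup.map_comap_eq_self hrange
    set A := A'.comap f with hAdef
    rw [← hA'eq] at hA' hAR hBA h1 h2 ⊢
    have := h A ((mem_classTwo_iff f hf A).mp hA')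
      ((Subgroup.map_le_map_iff_of_injective hf).mp hAR)
      ((le_normalizer_map_iff f hf B A).mp hBA)
      (by
        rw [← Subgroup.map_commutator, ← Subgroup.map_commutator,
          Subgroup.map_eq_bot_iff_of_injective _ hf] at h1
        exact h1)
      (by
        rw [← map_Z f hf, ← Subgroup.map_commutator, ← Subgroup.map_commutator,
          Subgroup.map_eq_bot_iff_of_injective _ hf] at h2
        exact h2)
    rw [← Subgroup.map_commutator, ← map_Z f hf, Subgroup.map_le_map_iff_of_injective hf]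
    exact this

omit f in
theorem lower_anti {R R' : Subgroup P} (h : R ≤ R') :
    Cfsg.kLowerStarFamily R' ⊆ Cfsg.kLowerStarFamily R := by
  intro B hB
  obtain ⟨h1, h2, h3⟩ := hB
  exact ⟨h1, h.trans h2, fun A hA hAR => h3 A hA (hAR.trans h)⟩

omit f in
theorem upper_anti {R R' : Subgroup P} (h : R ≤ R') :
    Cfsg.kUpperStarFamily R' ⊆ Cfsg.kUpperStarFamily R := by
  intro B hB
  obtain ⟨h1, h2⟩ := hB
  exact ⟨h1, (Subgroup.commutator_mono le_rfl h).trans h2⟩

theorem map_sSup_lower_le (hf : Function.Injective f) (R : Subgroup H) :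
    (sSup (Cfsg.kLowerStarFamily R)).map f ≤ sSup (Cfsg.kLowerStarFamily (R.map f)) := by
  rw [Subgroup.map_le_iff_le_comap]
  apply sSup_le
  intro B hB
  rw [← Subgroup.map_le_iff_le_comap]
  exact le_sSup ((mem_lower_iff f hf R B).mpr hB)

theorem map_sSup_upper_le (hf : Function.Injective f) (R : Subgroup H) :
    (sSup (Cfsg.kUpperStarFamily R)).map f ≤ sSup (Cfsg.kUpperStarFamily (R.map f)) := by
  rw [Subgroup.map_le_iff_le_comap]
  apply sSup_le
  intro B hB
  rw [← Subgroup.map_le_iff_le_comap]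
  exact le_sSup ((mem_upper_iff f hf R B).mpr hB)

theorem le_map_sSup_lower (hf : Function.Injective f) (R : Subgroup H) {B' : Subgroup P}
    (hB' : B' ∈ Cfsg.kLowerStarFamily (R.map f)) (hr : B' ≤ f.range) :
    B' ≤ (sSup (Cfsg.kLowerStarFamily R)).map f := by
  have h1 : (B'.comap f).map f = B' := Subgroup.map_comap_eq_self hr
  rw [← h1] at hB' ⊢
  exact Subgroup.map_mono (le_sSup ((mem_lower_iff f hf R _).mp hB'))

theorem le_map_sSup_upper (hf : Function.Injective f) (R : Subgroup H) {B' : Subgroup P}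
    (hB' : B' ∈ Cfsg.kUpperStarFamily (R.map f)) (hr : B' ≤ f.range) :
    B' ≤ (sSup (Cfsg.kUpperStarFamily R)).map f := by
  have h1 : (B'.comap f).map f = B' := Subgroup.map_comap_eq_self hr
  rw [← h1] at hB' ⊢
  exact Subgroup.map_mono (le_sSup ((mem_upper_iff f hf R _).mp hB'))

/-- First comparison: `o n ≤ O n` and `E n ≤ e n`. -/
theorem compare1 (hf : Function.Injective f)
    (hE : ∀ n, Cfsg.kSeqEven P n ≤ f.range) :
    ∀ n, (Cfsg.kSeqOdd H n).map f ≤ Cfsg.kSeqOdd P n ∧
      Cfsg.kSeqEven P n ≤ (Cfsg.kSeqEven H n).map f := by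
  have step : ∀ n, (Cfsg.kSeqOdd H n).map f ≤ Cfsg.kSeqOdd P n →
      Cfsg.kSeqEven P n ≤ (Cfsg.kSeqEven H n).map f := by
    intro n hn
    unfold Cfsg.kSeqEven
    apply sSup_le
    intro B' hB'
    apply le_map_sSup_lower f hf
    · exact lower_anti hn hB'
    · exact (le_sSup hB').trans (hE n)
  intro n
  induction n with
  | zero =>
    have h0 : (Cfsg.kSeqOdd H 0).map f ≤ Cfsg.kSeqOdd P 0 := by
      change _ ≤ (⊤ : Subgroup P)
      exact le_top
    exact ⟨h0, step 0 h0⟩
  | succ n ih =>
    have h1 : (Cfsg.kSeqOdd H (n + 1)).map f ≤ Cfsg.kSeqOdd P (n + 1) := by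
      change (sSup (Cfsg.kUpperStarFamily (sSup (Cfsg.kLowerStarFamily (Cfsg.kSeqOdd H n))))).map f ≤
        sSup (Cfsg.kUpperStarFamily (sSup (Cfsg.kLowerStarFamily (Cfsg.kSeqOdd P n))))
      refine (map_sSup_upper_le f hf _).trans ?_
      apply sSup_le_sSup
      exact upper_anti ih.2
    exact ⟨h1, step (n + 1) h1⟩

/-- Second comparison: `O (n+1) ≤ o n` and `e n ≤ E (n+1)`. -/
theorem compare2 (hf : Function.Injective f)
    (hO : ∀ n, Cfsg.kSeqOdd P (n + 1) ≤ f.range) (htop : (⊤ : Subgroup H).map f = f.range) :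
    ∀ n, Cfsg.kSeqOdd P (n + 1) ≤ (Cfsg.kSeqOdd H n).map f ∧
      (Cfsg.kSeqEven H n).map f ≤ Cfsg.kSeqEven P (n + 1) := by
  have step : ∀ n, Cfsg.kSeqOdd P (n + 1) ≤ (Cfsg.kSeqOdd H n).map f →
      (Cfsg.kSeqEven H n).map f ≤ Cfsg.kSeqEven P (n + 1) := by
    intro n hn
    unfold Cfsg.kSeqEven
    refine (map_sSup_lower_le f hf _).trans ?_
    apply sSup_le_sSup
    exact lower_anti hn
  intro n
  induction n with
  | zero =>
    have h0 : Cfsg.kSeqOdd P (0 + 1) ≤ (Cfsg.kSeqOdd H 0).map f := by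
      change _ ≤ (⊤ : Subgroup H).map f
      rw [htop]
      exact hO 0
    exact ⟨h0, step 0 h0⟩
  | succ n ih =>
    have h1 : Cfsg.kSeqOdd P (n + 1 + 1) ≤ (Cfsg.kSeqOdd H (n + 1)).map f := by
      change sSup (Cfsg.kUpperStarFamily (sSup (Cfsg.kLowerStarFamily (Cfsg.kSeqOdd P (n + 1))))) ≤
        (sSup (Cfsg.kUpperStarFamily (sSup (Cfsg.kLowerStarFamily (Cfsg.kSeqOdd H n))))).map f
      apply sSup_le
      intro B' hB'
      apply le_map_sSup_upper f hf
      · exact upper_anti ih.2 hB'
      · exact (le_sSup hB').trans (hO (n + 1))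
    exact ⟨h1, step (n + 1) h1⟩

theorem kInf_eq (hf : Function.Injective f)
    (hE : ∀ n, Cfsg.kSeqEven P n ≤ f.range) (hO : ∀ n, Cfsg.kSeqOdd P (n + 1) ≤ f.range)
    (htop : (⊤ : Subgroup H).map f = f.range) :
    (Cfsg.kInfLower H).map f = Cfsg.kInfLower P ∧ (Cfsg.kInfUpper H).map f = Cfsg.kInfUpper P := by
  have c1 := compare1 f hf hE
  have c2 := compare2 f hf hO htop
  constructor
  · unfold Cfsg.kInfLower
    rw [Subgroup.map_iSup]
    apply le_antisymm
    · apply iSup_le
      intro n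
      exact (c2 n).2.trans (le_iSup (fun n => Cfsg.kSeqEven P n) (n + 1))
    · apply iSup_le
      intro n
      exact (c1 n).2.trans (le_iSup (fun n => (Cfsg.kSeqEven H n).map f) n)
  · unfold Cfsg.kInfUpper
    rw [Subgroup.map_iInf f hf]
    apply le_antisymm
    · apply le_iInf
      intro n
      exact (iInf_le (fun n => (Cfsg.kSeqOdd H n).map f) n).trans (c1 n).1
    · apply le_iInf
      intro n
      exact (iInf_le (fun n => Cfsg.kSeqOdd P n) (n + 1)).trans (c2 n).1

end Cfsg.Agent.Helper5.KS
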