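import Mathlib
import Cfsg.Agent.Helper5.Basic
import Cfsg.Agent.Helper5.Misc
import Cfsg.Agent.Helper5.PGroupCenter
import Cfsg.Agent.Helper5.MaxAbelian

/-!
Helper lemmas (helper5): existence of self-centralizing normal abelian subgroups in `p`-groups.
-/

set_option autoImplicit false

namespace Cfsg.Agent.Helper5

variable {P : Type*} [Group P]

/-- In a finite `p`-group `P`, an abelian normal subgroup `B` inside a normal subgroup `A` lies in a
normal abelian subgroup `C ≤ A` of `P` with `C_A(C) = C`. -/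
theorem exists_scn_ge [Finite P] {p : ℕ} [Fact p.Prime] (hP : IsPGroup p P)
    (A B : Subgroup P) [hAn : A.Normal] [hBn : B.Normal] (hBA : B ≤ A) (hB : IsMulCommutative ↥B) :
    ∃ C : Subgroup P, C.Normal ∧ IsMulCommutative ↥C ∧ B ≤ C ∧ C ≤ A ∧
      A ⊓ Subgroup.centralizer (C : Set P) = C := by
  classical
  have hfin : {C : Subgroup P | C.Normal ∧ IsMulCommutative ↥C ∧ B ≤ C ∧ C ≤ A}.Finite := Set.toFinite _
  obtain ⟨C, ⟨hCn, hCc, hBC, hCA⟩, hCmax⟩ := Set.Finite.exists_maximal hfin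
    ⟨B, hBn, hB, le_rfl, hBA⟩
  refine ⟨C, hCn, hCc, hBC, hCA, ?_⟩
  have hCle : C ≤ A ⊓ Subgroup.centralizer (C : Set P) := by
    refine le_inf hCA ?_
    intro x hx
    rw [Subgroup.mem_centralizer_iff]
    intro y hy
    exact setLike_mul_comm hy hx
  by_contra hne
  have hlt : C < A ⊓ Subgroup.centralizer (C : Set P) := lt_of_le_of_ne hCle (Ne.symm hne)
  have hCCn : (Subgroup.centralizer (C : Set P)).Normal := Subgroup.normal_centralizer
  have hDn : (A ⊓ Subgroup.centralizer (C : Set P)).Normal := inferInstance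
  -- pass to the quotient by C
  have hQp : IsPGroup p (P ⧸ C) := hP.to_quotient C
  have hDbar1 : (A ⊓ Subgroup.centralizer (C : Set P)).map (QuotientGroup.mk' C) ≠ ⊥ := by
    intro h
    obtain ⟨x, hxD, hxC⟩ := SetLike.exists_of_lt hlt
    apply hxC
    have : (QuotientGroup.mk' C) x ∈ (A ⊓ Subgroup.centralizer (C : Set P)).map (QuotientGroup.mk' C) :=
      Subgroup.mem_map_of_mem _ hxD
    rw [h, Subgroup.mem_bot, QuotientGroup.mk'_apply, QuotientGroup.eq_one_iff] at this
    exact this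
  have hDbarn : ((A ⊓ Subgroup.centralizer (C : Set P)).map (QuotientGroup.mk' C)).Normal :=
    Subgroup.Normal.map hDn _ (QuotientGroup.mk'_surjective C)
  obtain ⟨xb, hxb, hxb1, hxbc⟩ := exists_ne_one_mem_center_of_normal hQp _ hDbar1
  obtain ⟨x, hxD, rfl⟩ := hxb
  have hxC : x ∉ C := by
    intro h
    apply hxb1
    rw [QuotientGroup.mk'_apply, QuotientGroup.eq_one_iff]; exact h
  -- E = C ⊔ ⟨x⟩
  have hxcent : Subgroup.zpowers x ≤ Subgroup.centralizer (C : Set P) := by
    rw [Subgroup.zpowers_le]; exact hxD.2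
  have hEc : IsMulCommutative ↥(C ⊔ Subgroup.zpowers x) := isMulCommutative_sup_of_commute C _ hxcent
  have hconj : ∀ g : P, g * x * g⁻¹ ∈ C ⊔ Subgroup.zpowers x := by
    intro g
    have h1 := hxbc ((QuotientGroup.mk' C) g)
    -- mk g * mk x = mk x * mk g
    have h2 : (QuotientGroup.mk' C) (g * x * g⁻¹) = (QuotientGroup.mk' C) x := by
      rw [map_mul, map_mul, h1, map_inv, mul_inv_cancel_right]
    rw [QuotientGroup.mk'_apply, QuotientGroup.mk'_apply, QuotientGroup.eq] at h2
    -- (g x g⁻¹)⁻¹ * x ∈ C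
    have h3 : g * x * g⁻¹ = x * ((g * x * g⁻¹)⁻¹ * x)⁻¹ := by group
    rw [h3]
    exact Subgroup.mul_mem _ (Subgroup.mem_sup_right (Subgroup.mem_zpowers x))
      (Subgroup.mem_sup_left (C.inv_mem h2))
  have hEn : (C ⊔ Subgroup.zpowers x).Normal := by
    rw [← Subgroup.normalizer_eq_top_iff, eq_top_iff]
    intro g _
    apply mem_normalizer_of_conj_mem
    have hle : (C ⊔ Subgroup.zpowers x).map (MulAut.conj g).toMonoidHom ≤ C ⊔ Subgroup.zpowers x := by
      rw [Subgroup.map_sup, MonoidHom.map_zpowers]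
      apply sup_le
      · rw [map_conj_le_iff]
        intro c hc
        exact Subgroup.mem_sup_left (hCn.conj_mem c hc g)
      · rw [Subgroup.zpowers_le]
        exact hconj g
    exact (map_conj_le_iff _ _ g).mp hle
  have hEA : C ⊔ Subgroup.zpowers x ≤ A := sup_le hCA (by rw [Subgroup.zpowers_le]; exact hxD.1)
  have hEmem : (C ⊔ Subgroup.zpowers x) ∈ {C : Subgroup P | C.Normal ∧ IsMulCommutative ↥C ∧ B ≤ C ∧ C ≤ A} :=
    ⟨hEn, hEc, le_trans hBC le_sup_left, hEA⟩
  have := hCmax hEmem le_sup_left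
  apply hxC
  exact this (Subgroup.mem_sup_right (Subgroup.mem_zpowers x))

end Cfsg.Agent.Helper5
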