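import Mathlib
import Cfsg.Prelude
import Cfsg.Agent.Helper5.Misc
import Cfsg.Agent.Helper5.SylowSub
import Cfsg.Agent.Helper5.ProdCard

/-!
Helper lemmas (helper5): tightly embedded subgroups, the Sylow `2`-subgroup of `N_{K^g}(K)`
(Aschbacher's lemma).
-/

set_option autoImplicit false

namespace Cfsg.Agent.Helper5.TE

open Cfsg Cfsg.Agent.Helper5
open scoped commutatorElement Pointwise

variable {G : Type*} [Group G]

theorem eq_bot_of_two_group_of_odd [Finite G] {X Y : Subgroup G} (hX : IsPGroup 2 X) (hXY : X ≤ Y)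
    (hY : Odd (Nat.card Y)) : X = ⊥ := by
  obtain ⟨n, hn⟩ := IsPGroup.iff_card.mp hX
  have hdvd : Nat.card X ∣ Nat.card Y := Subgroup.card_dvd_of_le hXY
  rw [hn] at hdvd
  rcases Nat.eq_zero_or_pos n with rfl | hpos
  · rw [pow_zero] at hn; exact Subgroup.card_eq_one.mp hn
  · exfalso
    have : 2 ∣ Nat.card Y := dvd_trans (dvd_pow_self 2 hpos.ne') hdvd
    exact (Nat.not_even_iff_odd.mpr hY) (even_iff_two_dvd.mpr this)

theorem card_eq_card_mul_relIndex' {H K : Subgroup G} (h : H ≤ K) :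
    Nat.card K = Nat.card H * H.relIndex K := by
  have h1 : Nat.card ↥(H.subgroupOf K) * (H.subgroupOf K).index = Nat.card ↥K :=
    Subgroup.card_mul_index _
  have h2 : Nat.card ↥(H.subgroupOf K) = Nat.card H :=
    Nat.card_congr (Subgroup.subgroupOfEquivOfLe h).toEquiv
  rw [← h1, h2]
  rfl

/-- The hypotheses of the lemma, for a pair `K₁`, `K₂` (in use `K₂` is a conjugate of `K₁`). -/
structure Hyp (K₁ K₂ T S : Subgroup G) : Prop where
  hcard : Nat.card K₁ = Nat.card K₂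
  hodd : Odd (Nat.card ↥(K₁ ⊓ K₂))
  hTE : ∀ x : G, x ∉ Subgroup.normalizer (K₂ : Set G) →
    Odd (Nat.card ↥(K₂ ⊓ K₂.map (MulAut.conj x).toMonoidHom))
  hTK : T ≤ K₂
  hTN : T ≤ Subgroup.normalizer (K₁ : Set G)
  hT1 : T ≠ ⊥
  hT2 : IsPGroup 2 T
  hTS : T ≤ S
  hS : S ≤ K₁ ⊔ T
  hS2 : IsPGroup 2 S
  hSsyl : ¬ 2 ∣ S.relIndex (K₁ ⊔ T)

variable {K₁ K₂ T S : Subgroup G}

/-- `N(T) ≤ N(K₂)`. -/
theorem Hyp.normalizer_le [Finite G] (h : Hyp K₁ K₂ T S) :
    Subgroup.normalizer (T : Set G) ≤ Subgroup.normalizer (K₂ : Set G) := by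
  intro x hx
  by_contra hxn
  have hodd := h.hTE x hxn
  apply h.hT1
  apply eq_bot_of_two_group_of_odd h.hT2 ?_ hodd
  intro t ht
  refine ⟨h.hTK ht, ?_⟩
  have h1 : x⁻¹ * t * x ∈ T := by
    have := (Subgroup.mem_normalizer_iff.mp (Subgroup.inv_mem _ hx) t).mp ht
    simpa using this
  exact ⟨x⁻¹ * t * x, h.hTK h1, by simp [mul_assoc]⟩

theorem Hyp.inf_eq_bot [Finite G] (h : Hyp K₁ K₂ T S) : T ⊓ K₁ = ⊥ :=
  eq_bot_of_two_group_of_odd (h.hT2.to_le inf_le_left)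
    (le_inf inf_le_right (inf_le_left.trans h.hTK)) h.hodd

theorem Hyp.commutator_eq_bot [Finite G] (h : Hyp K₁ K₂ T S) :
    ⁅T, S ⊓ Subgroup.normalizer (T : Set G) ⊓ K₁⁆ = ⊥ := by
  rw [eq_bot_iff, ← h.inf_eq_bot, Subgroup.commutator_le]
  rintro t ht r ⟨⟨_, hrN⟩, hrK⟩
  constructor
  · have : ⁅t, r⁆ = t * (r * t⁻¹ * r⁻¹) := by rw [commutatorElement_def]; group
    rw [this]
    exact T.mul_mem ht ((Subgroup.mem_normalizer_iff.mp hrN _).mp (T.inv_mem ht))
  · rw [commutatorElement_def]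
    exact K₁.mul_mem ((Subgroup.mem_normalizer_iff.mp (h.hTN ht) _).mp hrK) (K₁.inv_mem hrK)

theorem Hyp.exists_mul (h : Hyp K₁ K₂ T S) {x : G} (hx : x ∈ S) :
    ∃ q ∈ S ⊓ K₁, ∃ t ∈ T, x = q * t := by
  have hx' : x ∈ ((K₁ ⊔ T : Subgroup G) : Set G) := h.hS hx
  rw [Subgroup.coe_mul_of_right_le_normalizer_left K₁ T h.hTN] at hx'
  obtain ⟨q, hq, t, ht, rfl⟩ := Set.mem_mul.mp hx'
  refine ⟨q, ⟨?_, hq⟩, t, ht, rfl⟩
  have : q = q * t * t⁻¹ := by group
  rw [this]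
  exact S.mul_mem hx (S.inv_mem (h.hTS ht))

theorem Hyp.sup_eq (h : Hyp K₁ K₂ T S) :
    T ⊔ (S ⊓ Subgroup.normalizer (T : Set G) ⊓ K₁) = S ⊓ Subgroup.normalizer (T : Set G) := by
  apply le_antisymm
  · exact sup_le (le_inf h.hTS Subgroup.le_normalizer) inf_le_left
  · rintro x ⟨hxS, hxN⟩
    obtain ⟨q, hq, t, ht, rfl⟩ := h.exists_mul hxS
    have hqN : q ∈ Subgroup.normalizer (T : Set G) := by
      have : q = q * t * t⁻¹ := by group
      rw [this]
      exact Subgroup.mul_mem _ hxN (Subgroup.inv_mem _ (Subgroup.le_normalizer ht))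
    exact Subgroup.mul_mem _ (Subgroup.mem_sup_right ⟨⟨hq.1, hqN⟩, hq.2⟩) (Subgroup.mem_sup_left ht)

theorem card_sup_of_inf_eq_bot [Finite G] (A B : Subgroup G)
    (hB : B ≤ Subgroup.normalizer (A : Set G)) (hAB : A ⊓ B = ⊥) :
    Nat.card ↥(A ⊔ B) = Nat.card A * Nat.card B := by
  have h1 := card_mul_set_mul_card_inf A B
  rw [hAB, Subgroup.card_bot, mul_one, ← Subgroup.coe_mul_of_right_le_normalizer_left A B hB] at h1
  exact h1

/-- `S ∩ K₁` is a Sylow `2`-subgroup of `K₁`, in cardinality form. -/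
theorem Hyp.card_eq [Finite G] (h : Hyp K₁ K₂ T S) :
    ∃ m : ℕ, Odd m ∧ Nat.card K₁ = Nat.card ↥(S ⊓ K₁) * m := by
  refine ⟨S.relIndex (K₁ ⊔ T), ?_, ?_⟩
  · rw [← Nat.not_even_iff_odd, even_iff_two_dvd]; exact h.hSsyl
  · have hKT : Nat.card ↥(K₁ ⊔ T) = Nat.card K₁ * Nat.card T :=
      card_sup_of_inf_eq_bot K₁ T h.hTN (by rw [inf_comm]; exact h.inf_eq_bot)
    have hPTeq : (S ⊓ K₁) ⊔ T = S := by
      apply le_antisymm (sup_le inf_le_left h.hTS)
      intro x hx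
      obtain ⟨q, hq, t, ht, rfl⟩ := h.exists_mul hx
      exact Subgroup.mul_mem _ (Subgroup.mem_sup_left hq) (Subgroup.mem_sup_right ht)
    have hPT : Nat.card S = Nat.card ↥(S ⊓ K₁) * Nat.card T := by
      conv_lhs => rw [← hPTeq]
      apply card_sup_of_inf_eq_bot
      · intro t ht
        have h1 : t ∈ Subgroup.normalizer (S : Set G) := Subgroup.le_normalizer (h.hTS ht)
        have h2 := h.hTN ht
        rw [Subgroup.mem_normalizer_iff] at h1 h2 ⊢
        intro n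
        exact ⟨fun hn => ⟨(h1 n).mp hn.1, (h2 n).mp hn.2⟩, fun hn => ⟨(h1 n).mpr hn.1, (h2 n).mpr hn.2⟩⟩
      · rw [eq_bot_iff, ← h.inf_eq_bot]
        exact le_inf inf_le_right (inf_le_left.trans inf_le_right)
    have hS := card_eq_card_mul_relIndex' h.hS
    rw [hKT, hPT] at hS
    have hTpos : 0 < Nat.card T := Nat.card_pos
    have : Nat.card K₁ * Nat.card T = (Nat.card ↥(S ⊓ K₁) * S.relIndex (K₁ ⊔ T)) * Nat.card T := by
      rw [hS]; ring
    exact Nat.eq_of_mul_eq_mul_right hTpos this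

/-- The dichotomy: either `T ⊴ S`, or `T` embeds into `N_{S ∩ K₁}(T)`. -/
theorem Hyp.dichotomy [Finite G] (h : Hyp K₁ K₂ T S) :
    (S ≤ Subgroup.normalizer (T : Set G) ∧ Nat.card T ≤ Nat.card ↥(S ⊓ K₁)) ∨
    ∃ φ : ↥T →* ↥(S ⊓ Subgroup.normalizer (T : Set G) ⊓ K₁), Function.Injective φ := by
  by_cases hSN : S ≤ Subgroup.normalizer (T : Set G)
  · left
    refine ⟨hSN, ?_⟩
    obtain ⟨m, hm, hK⟩ := h.card_eq
    obtain ⟨a, ha⟩ := IsPGroup.iff_card.mp h.hT2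
    have hdvd : Nat.card T ∣ Nat.card K₂ := Subgroup.card_dvd_of_le h.hTK
    rw [← h.hcard, hK] at hdvd
    have hcop : (Nat.card T).Coprime m := by
      rw [ha]; exact Nat.Coprime.pow_left a (Nat.coprime_two_left.mpr hm)
    exact Nat.le_of_dvd Nat.card_pos (hcop.dvd_of_dvd_mul_right hdvd)
  · right
    set M := S ⊓ Subgroup.normalizer (T : Set G) with hM
    set R := S ⊓ Subgroup.normalizer (T : Set G) ⊓ K₁ with hR
    have hMS : M ≤ S := inf_le_left
    have hMne : M ≠ S := fun heq => hSN (by rw [← heq]; exact inf_le_right)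
    obtain ⟨y₀, hy₀S, hy₀N, hy₀M⟩ := exists_mem_normalizer_not_mem (p := 2) S M h.hS2 hMS hMne
    obtain ⟨y, hy, t₀, ht₀, rfl⟩ := h.exists_mul hy₀S
    have hTM : T ≤ M := le_inf h.hTS Subgroup.le_normalizer
    have hyN : y ∈ Subgroup.normalizer (M : Set G) := by
      have : y = (y * t₀) * t₀⁻¹ := by group
      rw [this]
      exact Subgroup.mul_mem _ hy₀N (Subgroup.inv_mem _ (Subgroup.le_normalizer (hTM ht₀)))
    have hyT : y ∉ Subgroup.normalizer (T : Set G) := fun hyT =>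
      hy₀M ⟨hy₀S, Subgroup.mul_mem _ hyT (Subgroup.le_normalizer ht₀)⟩
    have hyK₂ : y ∉ Subgroup.normalizer (K₂ : Set G) := by
      intro hyK
      apply hyT
      apply mem_normalizer_of_conj_mem T y
      intro t ht
      have hc : y * t * y⁻¹ * t⁻¹ ∈ M ⊓ (K₁ ⊓ K₂) := by
        refine ⟨?_, ?_, ?_⟩
        · exact M.mul_mem ((Subgroup.mem_normalizer_iff.mp hyN t).mp (hTM ht)) (M.inv_mem (hTM ht))
        · have : y * t * y⁻¹ * t⁻¹ = y * (t * y⁻¹ * t⁻¹) := by group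
          rw [this]
          exact K₁.mul_mem hy.2 ((Subgroup.mem_normalizer_iff.mp (h.hTN ht) _).mp (K₁.inv_mem hy.2))
        · exact K₂.mul_mem ((Subgroup.mem_normalizer_iff.mp hyK t).mp (h.hTK ht)) (K₂.inv_mem (h.hTK ht))
      have hbot : M ⊓ (K₁ ⊓ K₂) = ⊥ :=
        eq_bot_of_two_group_of_odd (h.hS2.to_le (inf_le_left.trans hMS)) inf_le_right h.hodd
      rw [hbot, Subgroup.mem_bot] at hc
      have : y * t * y⁻¹ = t := by
        calc y * t * y⁻¹ = (y * t * y⁻¹ * t⁻¹) * t := by group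
          _ = t := by rw [hc, one_mul]
      rw [this]; exact ht
    have hodd := h.hTE y hyK₂
    have hTTy : T ⊓ T.map (MulAut.conj y).toMonoidHom = ⊥ :=
      eq_bot_of_two_group_of_odd (h.hT2.to_le inf_le_left)
        (inf_le_inf h.hTK (Subgroup.map_mono h.hTK)) hodd
    have hsup : T ⊔ R = M := h.sup_eq
    have hRN : R ≤ Subgroup.normalizer (T : Set G) := inf_le_left.trans inf_le_right
    have hdec : ∀ t : ↥T, ∃ r : ↥R, ∃ t' ∈ T, t' * (r : G) = y * t * y⁻¹ := by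
      intro t
      have h1 : y * t * y⁻¹ ∈ M := (Subgroup.mem_normalizer_iff.mp hyN t).mp (hTM t.2)
      rw [← hsup] at h1
      have h2 : y * t * y⁻¹ ∈ ((T ⊔ R : Subgroup G) : Set G) := h1
      rw [Subgroup.coe_mul_of_right_le_normalizer_left T R hRN] at h2
      obtain ⟨t', ht', r, hr, heq⟩ := Set.mem_mul.mp h2
      exact ⟨⟨r, hr⟩, t', ht', heq⟩
    have hTR : T ⊓ R = ⊥ := by
      rw [eq_bot_iff, ← h.inf_eq_bot]; exact inf_le_inf_left T inf_le_right
    have huniq : ∀ (t₁ t₂ : G) (r₁ r₂ : ↥R), t₁ ∈ T → t₂ ∈ T →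
        t₁ * (r₁ : G) = t₂ * (r₂ : G) → r₁ = r₂ := by
      intro t₁ t₂ r₁ r₂ h1 h2 heq
      have hmem : t₂⁻¹ * t₁ ∈ T ⊓ R := by
        refine ⟨T.mul_mem (T.inv_mem h2) h1, ?_⟩
        have : t₂⁻¹ * t₁ = (r₂ : G) * (r₁ : G)⁻¹ := by
          have h3 : t₁ = t₂ * r₂ * (r₁ : G)⁻¹ := by rw [← heq]; group
          rw [h3]; group
        rw [this]; exact R.mul_mem r₂.2 (R.inv_mem r₁.2)
      rw [hTR, Subgroup.mem_bot] at hmem
      have h12 : t₁ = t₂ := by
        have : t₁ = t₂ * (t₂⁻¹ * t₁) := by group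
        rw [this, hmem, mul_one]
      rw [h12] at heq
      exact Subtype.ext (mul_left_cancel heq)
    have hcomm : ∀ (t : G) (r : ↥R), t ∈ T → t * (r : G) = (r : G) * t := by
      intro t r ht
      have h1 := Subgroup.commutator_eq_bot_iff_le_centralizer.mp h.commutator_eq_bot
      exact ((Subgroup.mem_centralizer_iff.mp (h1 ht)) r r.2).symm
    let f : ↥T → ↥R := fun t => Classical.choose (hdec t)
    have hf : ∀ t : ↥T, ∃ t' ∈ T, t' * (f t : G) = y * t * y⁻¹ := fun t => Classical.choose_spec (hdec t)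
    have hmul : ∀ a b : ↥T, f (a * b) = f a * f b := by
      intro a b
      obtain ⟨ta, hta, ha⟩ := hf a
      obtain ⟨tb, htb, hb⟩ := hf b
      obtain ⟨tab, htab, hab⟩ := hf (a * b)
      apply huniq tab (ta * tb) _ _ htab (T.mul_mem hta htb)
      rw [hab, Subgroup.coe_mul, Subgroup.coe_mul]
      calc y * ((a : G) * (b : G)) * y⁻¹ = (y * a * y⁻¹) * (y * b * y⁻¹) := by group
        _ = (ta * (f a : G)) * (tb * (f b : G)) := by rw [ha, hb]
        _ = ta * ((f a : G) * tb) * (f b : G) := by group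
        _ = ta * (tb * (f a : G)) * (f b : G) := by rw [hcomm tb (f a) htb]
        _ = ta * tb * ((f a : G) * (f b : G)) := by group
    refine ⟨MonoidHom.mk' f hmul, ?_⟩
    rw [injective_iff_map_eq_one]
    intro t ht
    have ht' : f t = 1 := ht
    obtain ⟨t', ht'T, heq⟩ := hf t
    rw [ht', Subgroup.coe_one, mul_one] at heq
    have hmem : y * t * y⁻¹ ∈ T ⊓ T.map (MulAut.conj y).toMonoidHom :=
      ⟨heq ▸ ht'T, ⟨t, t.2, rfl⟩⟩
    rw [hTTy, Subgroup.mem_bot] at hmem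
    have h1 : (t : G) = 1 := by
      have : (t : G) = y⁻¹ * (y * t * y⁻¹) * y := by group
      rw [this, hmem]; group
    exact Subtype.ext h1

theorem Hyp.card_le [Finite G] (h : Hyp K₁ K₂ T S) :
    Nat.card T ≤ Nat.card ↥(S ⊓ Subgroup.normalizer (T : Set G) ⊓ K₁) := by
  rcases h.dichotomy with ⟨hSN, hle⟩ | ⟨φ, hφ⟩
  · have : S ⊓ Subgroup.normalizer (T : Set G) ⊓ K₁ = S ⊓ K₁ := by
      rw [inf_eq_left.mpr hSN]
    rw [this]; exact hle
  · exact Nat.card_le_card_of_injective φ hφ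

/-- A `p`-subgroup of `B` lies in a Sylow `p`-subgroup of `B`. -/
theorem exists_sylow_relIndex [Finite G] {p : ℕ} [Fact p.Prime] {A B : Subgroup G} (hAB : A ≤ B)
    (hA : IsPGroup p A) :
    ∃ S' : Subgroup G, A ≤ S' ∧ S' ≤ B ∧ IsPGroup p S' ∧ ¬ p ∣ S'.relIndex B := by
  have hA' : IsPGroup p (A.subgroupOf B) := hA.comap_subtype
  obtain ⟨Q, hQ⟩ := hA'.exists_le_sylow
  refine ⟨(Q : Subgroup ↥B).map B.subtype, ?_, ?_, Q.isPGroup'.map _, ?_⟩
  · intro a ha
    exact ⟨⟨a, hAB ha⟩, hQ (Subgroup.mem_subgroupOf.mpr ha), rfl⟩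
  · rintro _ ⟨b, -, rfl⟩; exact b.2
  · have : ((Q : Subgroup ↥B).map B.subtype).subgroupOf B = Q :=
      Subgroup.comap_map_eq_self_of_injective B.subtype_injective _
    unfold Subgroup.relIndex
    rw [this]
    exact Q.not_dvd_index

/-- Two Sylow `p`-subgroups of `K` are isomorphic. -/
theorem nonempty_mulEquiv_of_sylow [Finite G] {p : ℕ} [Fact p.Prime] {K A B : Subgroup G}
    (hA : A ≤ K) (hB : B ≤ K) (hAp : IsPGroup p A) (hBp : IsPGroup p B)
    (hAi : ¬ p ∣ A.relIndex K) (hBi : ¬ p ∣ B.relIndex K) : Nonempty (↥A ≃* ↥B) := by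
  have hA' : IsPGroup p (A.subgroupOf K) := hAp.comap_subtype
  have hB' : IsPGroup p (B.subgroupOf K) := hBp.comap_subtype
  let PA : Sylow p ↥K := hA'.toSylow hAi
  let PB : Sylow p ↥K := hB'.toSylow hBi
  have e : ↥(A.subgroupOf K) ≃* ↥(B.subgroupOf K) := Sylow.equiv PA PB
  exact ⟨(Subgroup.subgroupOfEquivOfLe hA).symm.trans (e.trans (Subgroup.subgroupOfEquivOfLe hB))⟩

theorem conj_comp (g y : G) :
    (MulAut.conj g).toMonoidHom.comp (MulAut.conj y).toMonoidHom = (MulAut.conj (g * y)).toMonoidHom := by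
  ext z
  simp [mul_assoc]

/-- The tight embedding property passes to conjugates. -/
theorem te_conj (Q : Subgroup G)
    (hTE : ∀ x : G, x ∉ Subgroup.normalizer (Q : Set G) →
      Odd (Nat.card ↥(Q ⊓ Q.map (MulAut.conj x).toMonoidHom))) (g : G) :
    ∀ x : G, x ∉ Subgroup.normalizer ((Q.map (MulAut.conj g).toMonoidHom : Subgroup G) : Set G) →
      Odd (Nat.card ↥(Q.map (MulAut.conj g).toMonoidHom ⊓
        (Q.map (MulAut.conj g).toMonoidHom).map (MulAut.conj x).toMonoidHom)) := by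
  intro x hx
  have hy : g⁻¹ * x * g ∉ Subgroup.normalizer (Q : Set G) := by
    intro hy
    apply hx
    rw [← Subgroup.map_equiv_normalizer_eq]
    exact ⟨g⁻¹ * x * g, hy, by simp [mul_assoc]⟩
  have h1 := hTE _ hy
  have h2 : Q.map (MulAut.conj g).toMonoidHom ⊓
      (Q.map (MulAut.conj g).toMonoidHom).map (MulAut.conj x).toMonoidHom =
      (Q ⊓ Q.map (MulAut.conj (g⁻¹ * x * g)).toMonoidHom).map (MulAut.conj g).toMonoidHom := by
    rw [Subgroup.map_inf _ _ _ (MulAut.conj g).injective, Subgroup.map_map, Subgroup.map_map,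
      conj_comp, conj_comp]
    congr 3
    group
  rw [h2, card_map_conj']
  exact h1

end Cfsg.Agent.Helper5.TE
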