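import Mathlib

/-!
# Blackburn project, PIECE E1 (general part): a self-centralizing subgroup of order `p ^ 2`, or a
nonabelian self-centralizing subgroup of order `p ^ 3`, yields an element with centralizer of order
`p ^ 2`, in a finite group whose center has order `p` (and which has a normal subgroup `W` of order
`p ^ 2` with `[W, G] ≤ Z(G)`).
-/

set_option autoImplicit false

namespace Cfsg.Agent.Helper5.MC

open scoped commutatorElement

section general
variable {G : Type*} [Group G] [Finite G] {p : ℕ} [hp : Fact p.Prime]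

/-- squeeze: between a subgroup of order `p ^ k` and one of order `p ^ (k+1)` there is nothing. -/
theorem eq_of_lt_of_le_of_card {H K L : Subgroup G} {k : ℕ} (hH : Nat.card H = p ^ k)
    (hL : Nat.card L = p ^ (k + 1)) (hHK : H < K) (hKL : K ≤ L) : K = L := by
  have hpp := hp.out
  have h1 : Nat.card K ∣ p ^ (k + 1) := hL ▸ Subgroup.card_dvd_of_le hKL
  obtain ⟨j, hj, hKj⟩ := (Nat.dvd_prime_pow hpp).1 h1
  by_cases hjk : j ≤ k
  · exfalso
    have h2 : Nat.card K ≤ Nat.card H := by
      rw [hKj, hH]; exact Nat.pow_le_pow_right hpp.pos hjk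
    have h3 := Subgroup.eq_of_le_of_card_ge hHK.le h2
    exact hHK.ne h3
  · have hj' : j = k + 1 := by omega
    exact Subgroup.eq_of_le_of_card_ge hKL (by rw [hKj, hL, hj'])

omit [Finite G] in
theorem mem_centralizer_singleton {g l : G} :
    l ∈ Subgroup.centralizer ({g} : Set G) ↔ g * l = l * g := by
  simp [Subgroup.mem_centralizer_iff]

/-- centralizer squeeze. -/
theorem commute_of_squeeze {H L : Subgroup G} {k : ℕ} (hH : Nat.card H = p ^ k)
    (hL : Nat.card L = p ^ (k + 1)) (hHL : H ≤ L) {g e : G} (hHg : ∀ h ∈ H, g * h = h * g)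
    (he : e ∈ L) (heH : e ∉ H) (heg : g * e = e * g) : ∀ l ∈ L, g * l = l * g := by
  have h1 : H < L ⊓ Subgroup.centralizer ({g} : Set G) := by
    refine lt_of_le_of_ne (le_inf hHL fun h hh => mem_centralizer_singleton.2 (hHg h hh)) ?_
    intro hcon
    exact heH (hcon ▸ Subgroup.mem_inf.2 ⟨he, mem_centralizer_singleton.2 heg⟩)
  have h2 := eq_of_lt_of_le_of_card hH hL h1 inf_le_left
  intro l hl
  have h3 : l ∈ L ⊓ Subgroup.centralizer ({g} : Set G) := by rw [h2]; exact hl
  exact mem_centralizer_singleton.1 (Subgroup.mem_inf.1 h3).2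

/-- The commutator map `x ↦ ⁅x, y⁆` on a subgroup `X` with central values, the center of order `p`:
either `X` centralizes `y`, or the centralizer of `y` in `X` has index `p` and every central element
is a commutator. -/
theorem comm_dichotomy (hZ : Nat.card (Subgroup.center G) = p) (X : Subgroup G) (y : G)
    (h : ∀ x ∈ X, ⁅x, y⁆ ∈ Subgroup.center G) :
    (∀ x ∈ X, y * x = x * y) ∨
      (Nat.card X = p * Nat.card (X ⊓ Subgroup.centralizer ({y} : Set G) : Subgroup G) ∧
        ∀ z ∈ Subgroup.center G, ∃ x ∈ X, ⁅x, y⁆ = z) := by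
  have hpp := hp.out
  let f : X →* Subgroup.center G := MonoidHom.mk' (fun x => ⟨⁅(x : G), y⁆, h x x.2⟩) (by
    intro a b
    apply Subtype.ext
    show ⁅((a * b : X) : G), y⁆ = ⁅(a : G), y⁆ * ⁅(b : G), y⁆
    have key : ⁅((a : G) * (b : G)), y⁆ = (a : G) * ⁅(b : G), y⁆ * (a : G)⁻¹ * ⁅(a : G), y⁆ := by
      simp only [commutatorElement_def]; group
    have hc : (a : G) * ⁅(b : G), y⁆ = ⁅(b : G), y⁆ * (a : G) :=
      Subgroup.mem_center_iff.1 (h b b.2) a
    have hc2 : ⁅(b : G), y⁆ * ⁅(a : G), y⁆ = ⁅(a : G), y⁆ * ⁅(b : G), y⁆ :=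
      (Subgroup.mem_center_iff.1 (h b b.2) _).symm
    rw [Subgroup.coe_mul, key, hc, mul_inv_cancel_right, hc2])
  have hf : ∀ x : X, ((f x : Subgroup.center G) : G) = ⁅(x : G), y⁆ := fun x => rfl
  have hker : f.ker = (X ⊓ Subgroup.centralizer ({y} : Set G)).subgroupOf X := by
    ext x
    rw [MonoidHom.mem_ker, Subgroup.mem_subgroupOf, Subgroup.mem_inf, mem_centralizer_singleton]
    constructor
    · intro hx
      have h1 : ⁅(x : G), y⁆ = 1 := by rw [← hf, hx]; rfl
      exact ⟨x.2, ((commutatorElement_eq_one_iff_commute.1 h1).eq).symm⟩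
    · rintro ⟨-, hx⟩
      apply Subtype.ext
      rw [hf]
      exact commutatorElement_eq_one_iff_commute.2 hx.symm
  have hcardker : Nat.card f.ker = Nat.card (X ⊓ Subgroup.centralizer ({y} : Set G) : Subgroup G) := by
    rw [hker]
    exact Nat.card_congr (Subgroup.subgroupOfEquivOfLe inf_le_left).toEquiv
  have hcount : Nat.card X = Nat.card f.range * Nat.card f.ker := by
    rw [← Subgroup.index_ker, mul_comm]
    exact (Subgroup.card_mul_index f.ker).symm
  have hdvd : Nat.card f.range ∣ p := hZ ▸ Subgroup.card_subgroup_dvd_card f.range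
  rcases (Nat.dvd_prime hpp).1 hdvd with h1 | h1
  · left
    intro x hx
    have h2 : f.range = ⊥ := Subgroup.card_eq_one.1 h1
    have h3 : f ⟨x, hx⟩ = 1 := by
      have : f ⟨x, hx⟩ ∈ f.range := ⟨_, rfl⟩
      rw [h2] at this
      exact Subgroup.mem_bot.1 this
    have h4 : ⁅x, y⁆ = 1 := by
      have := hf ⟨x, hx⟩
      rw [h3] at this
      exact this.symm
    exact ((commutatorElement_eq_one_iff_commute.1 h4).eq).symm
  · right
    refine ⟨by rw [hcount, h1, hcardker], ?_⟩
    intro z hz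
    have h2 : f.range = ⊤ := (Subgroup.card_eq_iff_eq_top _).1 (by rw [h1, hZ])
    have h3 : (⟨z, hz⟩ : Subgroup.center G) ∈ f.range := h2 ▸ Subgroup.mem_top _
    obtain ⟨x, hx⟩ := h3
    refine ⟨x, x.2, ?_⟩
    rw [← hf, hx]

/-- commutators of a subgroup `H` with `|H : N| = p ^ 2` lie in `N`. -/
theorem comm_mem_of_card_sq {N H : Subgroup G} [N.Normal] (hNH : N ≤ H)
    (hcard : Nat.card H = p ^ 2 * Nat.card N) : ∀ x ∈ H, ∀ y ∈ H, ⁅x, y⁆ ∈ N := by
  have hpp := hp.out
  have h1 : Nat.card (N.subgroupOf H) = Nat.card N :=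
    Nat.card_congr (Subgroup.subgroupOfEquivOfLe hNH).toEquiv
  have h2 : Nat.card (H ⧸ N.subgroupOf H) = p ^ 2 := by
    have h3 := Subgroup.card_eq_card_quotient_mul_card_subgroup (N.subgroupOf H)
    rw [h1, hcard] at h3
    have hpos : 0 < Nat.card N := Nat.card_pos
    exact (Nat.eq_of_mul_eq_mul_right hpos h3).symm
  have h4 : ∀ a b : H ⧸ N.subgroupOf H, a * b = b * a :=
    (IsPGroup.isMulCommutative_of_card_eq_prime_sq h2).is_comm.comm
  intro x hx y hy
  have h5 : ((⁅(⟨x, hx⟩ : H), ⟨y, hy⟩⁆ : H) : H ⧸ N.subgroupOf H) = 1 := by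
    rw [commutatorElement_def]
    simp only [QuotientGroup.mk_mul, QuotientGroup.mk_inv]
    rw [h4 (⟨x, hx⟩ : H) (⟨y, hy⟩ : H)]
    group
  have h6 := (QuotientGroup.eq_one_iff _).1 h5
  rw [Subgroup.mem_subgroupOf] at h6
  simpa [commutatorElement_def] using h6

end general

end Cfsg.Agent.Helper5.MC
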