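import Mathlib
import Cfsg.Agent.Helper5.MCE1a

/-!
# Blackburn project, PIECE E1 (general part, continued)
-/

set_option autoImplicit false

namespace Cfsg.Agent.Helper5.MC

open scoped commutatorElement

section general
variable {G : Type*} [Group G] [Finite G] {p : ℕ} [hp : Fact p.Prime]

omit [Finite G] in
/-- elements of a subgroup of order `p ^ 2` commute. -/
theorem commute_of_card_sq {D : Subgroup G} (hD : Nat.card D = p ^ 2) :
    ∀ x ∈ D, ∀ y ∈ D, x * y = y * x := by
  have h4 : ∀ a b : D, a * b = b * a :=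
    (IsPGroup.isMulCommutative_of_card_eq_prime_sq hD).is_comm.comm
  intro x hx y hy
  have := h4 ⟨x, hx⟩ ⟨y, hy⟩
  exact congrArg Subtype.val this

theorem exists_not_mem_of_card_lt {H K : Subgroup G} (h : Nat.card H < Nat.card K) :
    ∃ x ∈ K, x ∉ H := by
  by_contra hcon
  push Not at hcon
  have : K ≤ H := fun x hx => hcon x hx
  exact absurd (Subgroup.card_le_of_le this) (by omega)

/-- `sq`: a self-centralizing subgroup of order `p ^ 2`. -/
theorem uniform_of_sq_aux (hZ : Nat.card (Subgroup.center G) = p) (A : Subgroup G)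
    (hA : Nat.card A = p ^ 2) (hC : Subgroup.centralizer (A : Set G) ≤ A) :
    ∃ s : G, Nat.card (Subgroup.centralizer ({s} : Set G)) = p ^ 2 := by
  have hpp := hp.out
  have hZA : Subgroup.center G ≤ A := (Subgroup.center_le_centralizer _).trans hC
  have hZ1 : Nat.card (Subgroup.center G) = p ^ 1 := by rw [hZ, pow_one]
  obtain ⟨x, hxA, hxZ⟩ := exists_not_mem_of_card_lt (H := Subgroup.center G) (K := A) (by
    rw [hZ, hA]; nlinarith [hpp.two_le])
  have hAc := commute_of_card_sq hA
  refine ⟨x, ?_⟩
  have : Subgroup.centralizer ({x} : Set G) = A := by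
    apply le_antisymm
    · intro g hg
      have hg' := mem_centralizer_singleton.1 hg
      apply hC
      rw [Subgroup.mem_centralizer_iff]
      intro a ha
      have := commute_of_squeeze hZ1 hA hZA (g := g) (e := x)
        (fun h hh => (Subgroup.mem_center_iff.1 hh g)) hxA hxZ hg'.symm a ha
      exact this.symm
    · intro a ha
      exact mem_centralizer_singleton.2 (hAc x hxA a ha)
  rw [this, hA]

/-- `cube`: a nonabelian self-centralizing subgroup of order `p ^ 3`. -/
theorem uniform_of_cube_aux (hZ : Nat.card (Subgroup.center G) = p) (W : Subgroup G)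
    (hW : Nat.card W = p ^ 2) (hZW : Subgroup.center G ≤ W)
    (hWZ : ∀ w ∈ W, ∀ g : G, ⁅g, w⁆ ∈ Subgroup.center G) (B : Subgroup G)
    (hB : Nat.card B = p ^ 3) (hBna : ¬ IsMulCommutative B)
    (hC : Subgroup.centralizer (B : Set G) ≤ B) :
    ∃ s : G, Nat.card (Subgroup.centralizer ({s} : Set G)) = p ^ 2 := by
  have hpp := hp.out
  have hp2 : 2 ≤ p := hpp.two_le
  have hZ1 : Nat.card (Subgroup.center G) = p ^ 1 := by rw [hZ, pow_one]
  have hZC : Subgroup.center G ≤ Subgroup.centralizer (B : Set G) :=
    Subgroup.center_le_centralizer _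
  have hZB : Subgroup.center G ≤ B := hZC.trans hC
  have hcen : ∀ z ∈ Subgroup.center G, ∀ g : G, g * z = z * g := fun z hz g =>
    Subgroup.mem_center_iff.1 hz g
  -- membership in the centralizer of `B`
  have hmemC : ∀ g : G, (∀ b ∈ B, g * b = b * g) → g ∈ Subgroup.centralizer (B : Set G) := by
    intro g hg
    rw [Subgroup.mem_centralizer_iff]
    intro b hb
    exact (hg b hb).symm
  -- Step 1: `C_G(B) = Z`
  have hY : Subgroup.centralizer (B : Set G) = Subgroup.center G := by
    have h1 : Nat.card (Subgroup.centralizer (B : Set G)) ∣ p ^ 3 := hB ▸ Subgroup.card_dvd_of_le hC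
    obtain ⟨j, hj, hYj⟩ := (Nat.dvd_prime_pow hpp).1 h1
    have hj1 : 1 ≤ j := by
      have h2 := Subgroup.card_le_of_le hZC
      rw [hZ, hYj] at h2
      by_contra hcon
      have : j = 0 := by omega
      rw [this, pow_zero] at h2
      omega
    have hj3 : j ≠ 3 := by
      intro h3
      have h4 : Subgroup.centralizer (B : Set G) = B :=
        Subgroup.eq_of_le_of_card_ge hC (by rw [hYj, hB, h3])
      apply hBna
      refine ⟨⟨fun a b => Subtype.ext ?_⟩⟩
      have h5 : (a : G) ∈ Subgroup.centralizer (B : Set G) := by rw [h4]; exact a.2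
      rw [Subgroup.mem_centralizer_iff] at h5
      exact (h5 b b.2).symm
    have hj2 : j ≠ 2 := by
      intro h2
      rw [h2] at hYj
      obtain ⟨b, hbB, hbY⟩ := exists_not_mem_of_card_lt
        (H := Subgroup.centralizer (B : Set G)) (K := B) (by
          rw [hYj, hB]; exact Nat.pow_lt_pow_right hpp.one_lt (by norm_num))
      apply hbY
      apply hmemC
      have := commute_of_squeeze hYj hB hC (g := b) (e := b)
        (fun h hh => ((Subgroup.mem_centralizer_iff.1 hh) b hbB)) hbB hbY rfl
      exact this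
    have hj1' : j = 1 := by omega
    exact (Subgroup.eq_of_le_of_card_ge hZC (by rw [hYj, hj1', hZ, pow_one])).symm
  have hmemZ : ∀ g : G, (∀ b ∈ B, g * b = b * g) → g ∈ Subgroup.center G := by
    intro g hg
    rw [← hY]
    exact hmemC g hg
  -- Step 2: `B' ≤ Z`
  have hB' : ∀ x ∈ B, ∀ y ∈ B, ⁅x, y⁆ ∈ Subgroup.center G :=
    comm_mem_of_card_sq hZB (by rw [hB, hZ]; ring)
  -- Step 3: `W ≤ B`
  have hWB : W ≤ B := by
    intro a haW
    by_contra haB
    rcases comm_dichotomy hZ B a (fun b _ => hWZ a haW b) with h1 | ⟨h1, -⟩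
    · exact haB (hC (hmemC a h1))
    · set D : Subgroup G := B ⊓ Subgroup.centralizer ({a} : Set G) with hDdef
      have hD : Nat.card D = p ^ 2 := by
        rw [hB] at h1
        have : p * p ^ 2 = p * Nat.card D := by rw [← h1]; ring
        exact (Nat.eq_of_mul_eq_mul_left hpp.pos this).symm
      have hDB : D ≤ B := inf_le_left
      have hDa : ∀ d ∈ D, a * d = d * a := fun d hd =>
        mem_centralizer_singleton.1 (Subgroup.mem_inf.1 hd).2
      have hDc := commute_of_card_sq hD
      obtain ⟨e₂, he₂B, he₂D⟩ := exists_not_mem_of_card_lt (H := D) (K := B) (by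
        rw [hD, hB]; exact Nat.pow_lt_pow_right hpp.one_lt (by norm_num))
      rcases comm_dichotomy hZ D e₂ (fun d hd => hB' d (hDB hd) e₂ he₂B) with h2 | ⟨-, h2⟩
      · -- `D ≤ Z`, impossible
        have hDZ : D ≤ Subgroup.center G := by
          intro d hd
          apply hmemZ
          exact commute_of_squeeze hD hB hDB (g := d) (e := e₂) (fun h hh => hDc d hd h hh) he₂B
            he₂D (h2 d hd).symm
        have := Subgroup.card_le_of_le hDZ
        rw [hD, hZ] at this
        nlinarith
      · have hinv : ⁅a, e₂⁆⁻¹ ∈ Subgroup.center G := by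
          rw [commutatorElement_inv]; exact hWZ a haW e₂
        obtain ⟨d, hdD, hd⟩ := h2 _ hinv
        have hcomm : (a * d) * e₂ = e₂ * (a * d) := by
          have key : ⁅a * d, e₂⁆ = a * ⁅d, e₂⁆ * a⁻¹ * ⁅a, e₂⁆ := by
            simp only [commutatorElement_def]; group
          have hc : a * ⁅d, e₂⁆ = ⁅d, e₂⁆ * a := hcen _ (hB' d (hDB hdD) e₂ he₂B) a
          have h3 : ⁅a * d, e₂⁆ = 1 := by
            rw [key, hc, mul_inv_cancel_right, hd, inv_mul_cancel]
          exact (commutatorElement_eq_one_iff_commute.1 h3).eq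
        have h4 : a * d ∈ Subgroup.centralizer (B : Set G) := by
          apply hmemC
          refine commute_of_squeeze hD hB hDB (g := a * d) (e := e₂) ?_ he₂B he₂D hcomm
          intro h hh
          rw [mul_assoc, hDc d hdD h hh, ← mul_assoc, hDa h hh, mul_assoc]
        have h5 : a * d ∈ B := hC h4
        have h6 : a = (a * d) * d⁻¹ := by group
        rw [h6] at haB
        exact haB (B.mul_mem h5 (B.inv_mem (hDB hdD)))
  -- Step 4
  obtain ⟨x, hxB, hxW⟩ := exists_not_mem_of_card_lt (H := W) (K := B) (by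
    rw [hW, hB]; exact Nat.pow_lt_pow_right hpp.one_lt (by norm_num))
  obtain ⟨w₀, hw₀W, hw₀Z⟩ := exists_not_mem_of_card_lt (H := Subgroup.center G) (K := W) (by
    rw [hZ, hW]; nlinarith)
  have h4a : ∀ g : G, g * x = x * g → g * w₀ = w₀ * g → g ∈ Subgroup.center G := by
    intro g hgx hgw
    apply hmemZ
    have hgW : ∀ w ∈ W, g * w = w * g :=
      commute_of_squeeze hZ1 hW hZW (g := g) (e := w₀) (fun h hh => hcen h hh g) hw₀W hw₀Z hgw
    exact commute_of_squeeze hW hB hWB (g := g) (e := x) hgW hxB hxW hgx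
  refine ⟨x, ?_⟩
  rcases comm_dichotomy hZ (Subgroup.centralizer ({x} : Set G)) w₀
    (fun g _ => hWZ w₀ hw₀W g) with h1 | ⟨h1, -⟩
  · exfalso
    have h2 := h1 x (mem_centralizer_singleton.2 rfl)
    exact hxW (hZW (h4a x rfl h2.symm))
  · have h2 : Subgroup.centralizer ({x} : Set G) ⊓ Subgroup.centralizer ({w₀} : Set G) =
        Subgroup.center G := by
      apply le_antisymm
      · intro g hg
        obtain ⟨hg1, hg2⟩ := Subgroup.mem_inf.1 hg
        exact h4a g (mem_centralizer_singleton.1 hg1).symm (mem_centralizer_singleton.1 hg2).symm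
      · exact le_inf (Subgroup.center_le_centralizer _) (Subgroup.center_le_centralizer _)
    rw [h1, h2, hZ]; ring

end general

end Cfsg.Agent.Helper5.MC
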