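import Mathlib
import Cfsg.Agent.Helper4.MCDefs
import Cfsg.Agent.Helper1.MaxClassNormal
import Cfsg.Agent.Helper5.MCE1b

/-!
# Blackburn project, PIECE E1: a pearl gives a uniform element

Exact stubs `exists_uniform_of_sq`, `exists_uniform_of_cube` of `notes/helper4_MC_stubs.lean.txt`.
-/

set_option autoImplicit false

namespace Cfsg.Agent.Helper5.MC

open scoped commutatorElement
open Cfsg.Agent.Helper4.MC

section E1
variable {G : Type*} [Group G] [Finite G] {p n : ℕ} [Fact p.Prime]

theorem card_center_of_isMC (hG : IsMC p n G) : Nat.card (Subgroup.center G) = p :=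
  (Cfsg.Agent.Helper1.maxClass_center n hG.three_le hG.card hG.cls).1

theorem exists_uniform_of_sq (hG : IsMC p n G) (A : Subgroup G) (hA : Nat.card A = p ^ 2)
    (hC : Subgroup.centralizer (A : Set G) ≤ A) : ∃ s : G, IsUniform p s :=
  uniform_of_sq_aux (card_center_of_isMC hG) A hA hC

/-- the data on `W = γ_{n-2}` used in `cube`. -/
theorem gam_data_of_isMC (hG : IsMC p n G) (hn : 4 ≤ n) :
    Nat.card (gam G (n - 2)) = p ^ 2 ∧ Subgroup.center G ≤ gam G (n - 2) ∧
      ∀ w ∈ gam G (n - 2), ∀ g : G, ⁅g, w⁆ ∈ Subgroup.center G := by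
  have hpp : p.Prime := Fact.out
  have hP : IsPGroup p G := IsPGroup.of_card hG.card
  have hnil : Group.IsNilpotent G := hP.isNilpotent
  have hZ := card_center_of_isMC hG
  have hcard := Cfsg.Agent.Helper1.maxClass_card_lcs n hG.card hG.cls hG.three_le
  have h1 : Nat.card (gam G (n - 2)) = p ^ 2 := by
    have := hcard (n - 2 - 1) (by omega) (by omega)
    rw [this]; congr 1; omega
  have h2 : Nat.card ((⊤ : Subgroup G).lowerCentralSeries (n - 2)) = p := by
    have := hcard (n - 2) (by omega) (by omega)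
    rw [this]
    have : n - 1 - (n - 2) = 1 := by omega
    rw [this, pow_one]
  have h3 : (⊤ : Subgroup G).lowerCentralSeries (n - 2 + 1) = ⊥ := by
    apply Subgroup.lowerCentralSeries_eq_bot_iff_nilpotencyClass_le.2
    rw [hG.cls]; omega
  have h4 : (⊤ : Subgroup G).lowerCentralSeries (n - 2) ≤ Subgroup.center G := by
    intro x hx
    rw [Subgroup.mem_center_iff]
    intro g
    have h5 : ⁅x, g⁆ ∈ (⊤ : Subgroup G).lowerCentralSeries (n - 2 + 1) :=
      Subgroup.commutator_mem_commutator hx (Subgroup.mem_top g)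
    rw [h3, Subgroup.mem_bot] at h5
    exact ((commutatorElement_eq_one_iff_commute.1 h5).eq).symm
  have h6 : (⊤ : Subgroup G).lowerCentralSeries (n - 2) = Subgroup.center G :=
    Subgroup.eq_of_le_of_card_ge h4 (by rw [h2, hZ])
  refine ⟨h1, ?_, ?_⟩
  · rw [← h6]
    exact (⊤ : Subgroup G).lowerCentralSeries_antitone (by omega)
  · intro w hw g
    have h7 : ⁅w, g⁆ ∈ (⊤ : Subgroup G).lowerCentralSeries (n - 2 - 1 + 1) :=
      Subgroup.commutator_mem_commutator hw (Subgroup.mem_top g)
    have h8 : n - 2 - 1 + 1 = n - 2 := by omega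
    rw [h8, h6] at h7
    rw [← commutatorElement_inv]
    exact Subgroup.inv_mem _ h7

theorem exists_uniform_of_cube (hG : IsMC p n G) (hn : 4 ≤ n) (B : Subgroup G)
    (hB : Nat.card B = p ^ 3) (hBna : ¬ IsMulCommutative B)
    (hC : Subgroup.centralizer (B : Set G) ≤ B) : ∃ s : G, IsUniform p s := by
  obtain ⟨h1, h2, h3⟩ := gam_data_of_isMC hG hn
  exact uniform_of_cube_aux (card_center_of_isMC hG) (gam G (n - 2)) h1 h2 h3 B hB hBna hC

end E1

end Cfsg.Agent.Helper5.MC
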