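import Mathlib
import Cfsg.Agent.Helper4.MCBase
import Cfsg.Agent.Helper4.ThreeSubgroups
import Cfsg.Agent.Lead.MCCore

/-!
# Blackburn project, PIECE Per: periodicity of the two-step centralizers, and `K₃ = K₂`

Exact stubs `twoStep_periodic`, `twoStep_three` of `notes/helper4_MC_stubs.lean.txt`.
-/

set_option autoImplicit false

namespace Cfsg.Agent.Helper5.MC

open scoped commutatorElement
open Cfsg.Agent.Helper8.HP (agemo hpMod)
open Cfsg.Agent.Helper4.MC

theorem comm_swap_mem_iff {G : Type*} [Group G] {H : Subgroup G} {a b : G} :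
    ⁅a, b⁆ ∈ H ↔ ⁅b, a⁆ ∈ H := by
  rw [← commutatorElement_inv a b, inv_mem_iff]

section Per
variable {G : Type*} [Group G] [Finite G] {p n : ℕ} [Fact p.Prime]

set_option linter.unusedVariables false in
theorem twoStep_periodic (hG : IsMC p n G) (hn : p + 2 ≤ n) (hP : PowerStr p n G)
    (hA : ∀ i, 2 ≤ i → agemo p (gam G i) ≤ gam G (i + p - 1)) {j : ℕ} (hj : 2 ≤ j)
    (hjn : j + p + 1 ≤ n) : twoStep G (j + p - 1) = twoStep G j := by
  have hpp : p.Prime := Fact.out
  have hp2 := hpp.two_le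
  -- a generator `y` of `γ_j` modulo `γ_{j+1}`
  obtain ⟨y, hy, hy'⟩ := SetLike.exists_of_lt (hG.gam_lt (i := j) (by omega) (by omega))
  -- its `p`-th power generates `γ_{j+p-1}` modulo `γ_{j+p}`
  have hyp := hP j (by omega) (by omega) y (by rw [lev_of_two_le G hj]; exact hy)
    (by rw [lev_of_two_le G (by omega : 2 ≤ j + 1)]; exact hy')
  rw [lev_of_two_le G (by omega : 2 ≤ j + p - 1), lev_of_two_le G (by omega : 2 ≤ j + p)] at hyp
  have hle : twoStep G j ≤ twoStep G (j + p - 1) := by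
    intro g hg
    have hc : ⁅g, y⁆ ∈ gam G (j + 2) := (mem_twoStep j g).1 hg y hy
    have hc' : ⁅y, g⁆ ∈ gam G (j + 2) := comm_swap_mem_iff.1 hc
    have hA1 : agemo p (gam G (2 * j + 1)) ≤ gam G (j + p + 1) :=
      (hA (2 * j + 1) (by omega)).trans (gam_anti (by omega))
    have hcore := Cfsg.Agent.Lead.MC.shift_core hpp hj hy (gam_anti (by omega) hc') hA1
    have hcp : ⁅y, g⁆ ^ p ∈ gam G (j + p + 1) := by
      have := hA (j + 2) (by omega) (Cfsg.Agent.Helper8.HP.pow_mem_agemo p hc')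
      have e : j + 2 + p - 1 = j + p + 1 := by omega
      rwa [e] at this
    have hw : ⁅y ^ p, g⁆ ∈ gam G (j + p + 1) := by
      have e : ⁅y ^ p, g⁆ = ⁅y, g⁆ ^ p * ((⁅y, g⁆ ^ p)⁻¹ * ⁅y ^ p, g⁆) := by group
      rw [e]
      exact (gam G (j + p + 1)).mul_mem hcp hcore
    have hw' : ⁅g, y ^ p⁆ ∈ gam G (j + p - 1 + 2) := by
      have e : j + p - 1 + 2 = j + p + 1 := by omega
      rw [e]
      exact comm_swap_mem_iff.1 hw
    have e2 : j + p - 1 + 1 = j + p := by omega
    exact (hG.mem_twoStep_iff (j := j + p - 1) (by omega) (by omega) hyp.1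
      (by rw [e2]; exact hyp.2) g).2 hw'
  have h1 := hG.card_twoStep (j := j) hj (by omega)
  have h2 := hG.card_twoStep (j := j + p - 1) (by omega) (by omega)
  exact (Subgroup.eq_of_le_of_card_ge hle (by rw [h1, h2])).symm

theorem twoStep_three (hG : IsMC p n G) (hn : 5 ≤ n) : twoStep G 3 = twoStep G 2 := by
  have hN : (gam G 5).Normal := gam_normal 5
  have h3 : ⁅⁅gam G 2, (⊤ : Subgroup G)⁆, twoStep G 2⁆ ≤ gam G 5 := by
    apply Cfsg.Agent.Helper4.three_subgroups_normal
    · -- `⁅⁅⊤, K₂⁆, γ₂⁆ ≤ γ₅`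
      have h4 : ⁅(⊤ : Subgroup G), twoStep G 2⁆ ≤ gam G 2 := by
        have : gam G 2 = ⁅(⊤ : Subgroup G), ⊤⁆ := by
          show (⊤ : Subgroup G).lowerCentralSeries 1 = _
          rw [Subgroup.lowerCentralSeries_succ, Subgroup.lowerCentralSeries_zero]
        rw [this]
        exact Subgroup.commutator_mono le_rfl le_top
      exact (Subgroup.commutator_mono h4 le_rfl).trans (hG.gam_comm_self_le le_rfl)
    · -- `⁅⁅K₂, γ₂⁆, ⊤⁆ ≤ γ₅`
      have h4 : ⁅twoStep G 2, gam G 2⁆ ≤ gam G 4 := by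
        rw [Subgroup.commutator_le]
        intro x hx y hy
        exact (mem_twoStep 2 x).1 hx y hy
      refine (Subgroup.commutator_mono h4 (le_refl ⊤)).trans ?_
      have := gam_comm_le (G := G) (i := 4) (j := 1) (by omega) le_rfl
      exact this
  have hle : twoStep G 2 ≤ twoStep G 3 := by
    intro x hx
    rw [mem_twoStep]
    intro y hy
    have hy3 : y ∈ ⁅gam G 2, (⊤ : Subgroup G)⁆ := by
      have : gam G 3 = ⁅gam G 2, (⊤ : Subgroup G)⁆ := by
        show (⊤ : Subgroup G).lowerCentralSeries 2 = _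
        rw [Subgroup.lowerCentralSeries_succ]
      rw [← this]; exact hy
    have h5 : ⁅y, x⁆ ∈ gam G 5 := h3 (Subgroup.commutator_mem_commutator hy3 hx)
    exact comm_swap_mem_iff.1 h5
  have h1 := hG.card_twoStep (j := 2) le_rfl (by omega)
  have h2 := hG.card_twoStep (j := 3) (by omega) (by omega)
  exact (Subgroup.eq_of_le_of_card_ge hle (by rw [h1, h2])).symm

end Per

end Cfsg.Agent.Helper5.MC
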