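import Mathlib
import Cfsg.Agent.Helper4.MCBase
import Cfsg.Agent.Helper9.MCF
import Cfsg.Agent.Helper5.MCPer
import Cfsg.Agent.Helper5.MCE1a

/-!
# Blackburn project: the group-theoretic core of S5239 for `n ≥ 5` (hypothesis form)

* `twoStep_eq_two_of_three`: for `p = 3` all two-step centralizers coincide (from piece Per);
* `two_gens_of_not_le`: a subgroup `H ≰ K₂` is generated by two elements, when every element
  outside `K₂` is uniform;
* `two_gens_of_le`: a subgroup `H ≤ K₂` is generated by `p - 1` elements (pieces D' and F);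
* `two_gens_three`: all subgroups are 2-generated, `p = 3`.
-/

set_option autoImplicit false

namespace Cfsg.Agent.Helper5.MC

open scoped commutatorElement Pointwise
open Cfsg.Agent.Helper8.HP (agemo)
open Cfsg.Agent.Helper4.MC

section Three
variable {G : Type*} [Group G] [Finite G]

/-- For `p = 3` all two-step centralizers coincide. -/
theorem twoStep_eq_two_of_three {n : ℕ} (hG : IsMC 3 n G) (hn : 5 ≤ n) (hP : PowerStr 3 n G)
    (hA : ∀ i, 2 ≤ i → agemo 3 (gam G i) ≤ gam G (i + 3 - 1)) :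
    ∀ j, 2 ≤ j → j + 2 ≤ n → twoStep G j = twoStep G 2 := by
  intro j
  induction j using Nat.strong_induction_on with
  | _ j ih =>
    intro hj hjn
    rcases Nat.lt_or_ge j 4 with h4 | h4
    · interval_cases j
      · rfl
      · exact twoStep_three hG hn
    · have h1 := twoStep_periodic hG (by omega) hP hA (j := j - 2) (by omega) (by omega)
      have e : j - 2 + 3 - 1 = j := by omega
      rw [e] at h1
      rw [h1]
      exact ih (j - 2) (by omega) (by omega) (by omega)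

variable {p n : ℕ} [hp : Fact p.Prime]

/-- A subgroup not contained in `K₂` is generated by two elements, provided every element outside
`K₂` is uniform. -/
theorem two_gens_of_not_le (hG : IsMC p n G)
    (hU : ∀ s : G, s ∉ twoStep G 2 → IsUniform p s)
    (hN : ∀ s : G, IsUniform p s → ∀ M : Subgroup G, M ≤ gam G 2 → (∀ x ∈ M, ⁅s, x⁆ ∈ M) →
      ∃ j, 2 ≤ j ∧ j ≤ n ∧ M = gam G j)
    (H : Subgroup G) (hH : ¬ H ≤ twoStep G 2) :
    ∃ T : Finset G, T.card ≤ 2 ∧ Subgroup.closure (T : Set G) = H := by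
  classical
  have hpp := hp.out
  have hGp : IsPGroup p G := hG.isPGroup
  have h3 := hG.three_le
  obtain ⟨s, hsH, hsK⟩ := SetLike.not_le_iff_exists.1 hH
  have hs := hU s hsK
  by_cases hHtop : H = ⊤
  · subst hHtop
    exact Cfsg.Agent.Helper9.MC.IsMC.exists_two_gens hG
  have hsg : s ∉ gam G 2 := fun h => hsK (gam_two_le_twoStep le_rfl h)
  have hinv : ∀ K : Subgroup G, s ∈ K → ∀ x ∈ K ⊓ gam G 2, ⁅s, x⁆ ∈ K ⊓ gam G 2 := by
    intro K hsK x hx
    obtain ⟨hxK, hxg⟩ := Subgroup.mem_inf.1 hx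
    refine Subgroup.mem_inf.2 ⟨?_, ?_⟩
    · rw [commutatorElement_def]
      exact K.mul_mem (K.mul_mem (K.mul_mem hsK hxK) (K.inv_mem hsK)) (K.inv_mem hxK)
    · rw [commutatorElement_def]
      exact (gam G 2).mul_mem ((gam_normal 2).conj_mem x hxg s) ((gam G 2).inv_mem hxg)
  obtain ⟨j, hj2, hjn, hM⟩ := hN s hs (H ⊓ gam G 2) inf_le_right (hinv H hsH)
  obtain ⟨x, hxj, hx'⟩ : ∃ x ∈ gam G j, (j < n → x ∉ gam G (j + 1)) := by
    by_cases h : j < n
    · obtain ⟨x, hx, hx'⟩ := SetLike.exists_of_lt (hG.gam_lt (i := j) (by omega) h)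
      exact ⟨x, hx, fun _ => hx'⟩
    · exact ⟨1, one_mem _, fun h' => absurd h' h⟩
  have hxg2 : x ∈ gam G 2 := gam_anti hj2 hxj
  have hxH : x ∈ H := by
    have : x ∈ H ⊓ gam G 2 := by rw [hM]; exact hxj
    exact (Subgroup.mem_inf.1 this).1
  set H₀ : Subgroup G := Subgroup.closure ({s, x} : Set G) with hH₀def
  have hsH₀ : s ∈ H₀ := Subgroup.subset_closure (by simp)
  have hxH₀ : x ∈ H₀ := Subgroup.subset_closure (by simp)
  have hH₀ : H₀ ≤ H := by
    rw [hH₀def, Subgroup.closure_le]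
    rintro z (rfl | rfl)
    · exact hsH
    · exact hxH
  obtain ⟨j₀, hj₀2, hj₀n, hM₀⟩ := hN s hs (H₀ ⊓ gam G 2) inf_le_right (hinv H₀ hsH₀)
  have hMM : H₀ ⊓ gam G 2 = H ⊓ gam G 2 := by
    apply le_antisymm (inf_le_inf_right _ hH₀)
    rw [hM, hM₀]
    by_cases h : j < n
    · have hjj : j₀ ≤ j := by
        by_contra hcon
        have h1 : x ∈ gam G j₀ := by
          rw [← hM₀]; exact Subgroup.mem_inf.2 ⟨hxH₀, hxg2⟩
        exact hx' h (gam_anti (by omega : j + 1 ≤ j₀) h1)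
      exact gam_anti hjj
    · have : j = n := by omega
      rw [this, hG.gam_eq_bot le_rfl]; exact bot_le
  have hcard2 : Nat.card (gam G 2) = p ^ (n - 2) := hG.card_gam_two
  have hlt : ∀ K : Subgroup G, s ∈ K → gam G 2 < K ⊔ gam G 2 := by
    intro K hK
    refine lt_of_le_of_ne le_sup_right ?_
    intro h
    apply hsg
    rw [h]
    exact (le_sup_left : K ≤ K ⊔ gam G 2) hK
  have hne : H ⊔ gam G 2 ≠ ⊤ := by
    intro h
    apply hHtop
    apply frattini_nongenerating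
    have hfr : gam G 2 ≤ frattini G := by
      have h1 := Cfsg.Agent.Helper1.IsPGroup.commutator_le_frattini hGp
      have h2 : gam G 2 = commutator G := by
        show (⊤ : Subgroup G).lowerCentralSeries 1 = _
        rw [Subgroup.top_lowerCentralSeries_one]
      rw [h2]; exact h1
    exact top_le_iff.1 (h ▸ sup_le_sup_left hfr H)
  have hcardsup : Nat.card (H ⊔ gam G 2 : Subgroup G) = p ^ (n - 2 + 1) := by
    obtain ⟨a, ha⟩ := IsPGroup.iff_card.1 (hGp.to_subgroup (H ⊔ gam G 2))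
    have ha1 : n - 2 < a := by
      by_contra hcon
      have h1 : Nat.card (H ⊔ gam G 2 : Subgroup G) ≤ Nat.card (gam G 2) := by
        rw [ha, hcard2]; exact Nat.pow_le_pow_right hpp.pos (by omega)
      have h2 := Subgroup.eq_of_le_of_card_ge (hlt H hsH).le h1
      exact (hlt H hsH).ne h2
    have ha2 : a < n := by
      by_contra hcon
      apply hne
      apply Subgroup.eq_top_of_le_card
      rw [ha, hG.card]
      exact Nat.pow_le_pow_right hpp.pos (by omega)
    rw [ha]; congr 1; omega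
  have hsup : H₀ ⊔ gam G 2 = H ⊔ gam G 2 :=
    eq_of_lt_of_le_of_card hcard2 hcardsup (hlt H₀ hsH₀) (sup_le_sup_right hH₀ _)
  refine ⟨{s, x}, Finset.card_le_two, ?_⟩
  rw [Finset.coe_pair]
  apply le_antisymm hH₀
  intro h hh
  have h1 : h ∈ H₀ ⊔ gam G 2 := by rw [hsup]; exact (le_sup_left : H ≤ H ⊔ gam G 2) hh
  have h2 : h ∈ ((H₀ ⊔ gam G 2 : Subgroup G) : Set G) := h1
  rw [Subgroup.mul_normal] at h2
  obtain ⟨a, ha, c, hc, rfl⟩ := Set.mem_mul.1 h2
  have hcH : c ∈ H := by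
    have : c = a⁻¹ * (a * c) := by group
    rw [this]
    exact H.mul_mem (H.inv_mem (hH₀ ha)) hh
  have hcH₀ : c ∈ H₀ ⊓ gam G 2 := by rw [hMM]; exact Subgroup.mem_inf.2 ⟨hcH, hc⟩
  exact H₀.mul_mem ha (Subgroup.mem_inf.1 hcH₀).1

/-- A subgroup of `K₂` is generated by `p - 1` elements (pieces D' and F). -/
theorem two_gens_of_le (hG : IsMC p n G)
    (hD : ∀ H : Subgroup G, H ≤ lev G 1 → (agemo p H).relIndex H ≤ p ^ (p - 1))
    (H : Subgroup G) (hH : H ≤ twoStep G 2) :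
    ∃ T : Finset G, T.card ≤ p - 1 ∧ Subgroup.closure (T : Set G) = H :=
  Cfsg.Agent.Helper9.MC.exists_gens_of_relIndex_agemo_le hG.isPGroup H
    (hD H (by rw [lev_one]; exact hH))

/-- All subgroups are generated by `max 2 (p - 1)` elements when every element outside `K₂` is
uniform. -/
theorem gens_of_uniform_outside (hG : IsMC p n G)
    (hU : ∀ s : G, s ∉ twoStep G 2 → IsUniform p s)
    (hN : ∀ s : G, IsUniform p s → ∀ M : Subgroup G, M ≤ gam G 2 → (∀ x ∈ M, ⁅s, x⁆ ∈ M) →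
      ∃ j, 2 ≤ j ∧ j ≤ n ∧ M = gam G j)
    (hD : ∀ H : Subgroup G, H ≤ lev G 1 → (agemo p H).relIndex H ≤ p ^ (p - 1))
    (H : Subgroup G) :
    ∃ T : Finset G, T.card ≤ max 2 (p - 1) ∧ Subgroup.closure (T : Set G) = H := by
  by_cases hH : H ≤ twoStep G 2
  · obtain ⟨T, hT, hTH⟩ := two_gens_of_le hG hD H hH
    exact ⟨T, hT.trans (le_max_right _ _), hTH⟩
  · obtain ⟨T, hT, hTH⟩ := two_gens_of_not_le hG hU hN H hH
    exact ⟨T, hT.trans (le_max_left _ _), hTH⟩

end Three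

section ThreeFinal
variable {G : Type*} [Group G] [Finite G] {n : ℕ}

/-- The core of S5239 for `n ≥ 5`, hypothesis form: `hP` is assembly C (`powerStr_of_uniform`),
`hA` is C1 (`agemo_gam_le`), `hB3` is B3 `isUniform_of_not_mem_twoStep`, `hN` is B3
`exists_eq_gam_of_uniform_normalizes`, `hD` is D' `relIndex_agemo_le_of_le_lev_one`. -/
theorem two_gens_three (hG : IsMC 3 n G) (hn : 5 ≤ n) (hP : PowerStr 3 n G)
    (hA : ∀ i, 2 ≤ i → agemo 3 (gam G i) ≤ gam G (i + 3 - 1))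
    (hB3 : ∀ s : G, (∀ j, 2 ≤ j → j + 2 ≤ n → s ∉ twoStep G j) → IsUniform 3 s)
    (hN : ∀ s : G, IsUniform 3 s → ∀ M : Subgroup G, M ≤ gam G 2 → (∀ x ∈ M, ⁅s, x⁆ ∈ M) →
      ∃ j, 2 ≤ j ∧ j ≤ n ∧ M = gam G j)
    (hD : ∀ H : Subgroup G, H ≤ lev G 1 → (agemo 3 H).relIndex H ≤ 3 ^ (3 - 1))
    (H : Subgroup G) :
    ∃ T : Finset G, T.card ≤ 2 ∧ Subgroup.closure (T : Set G) = H := by
  have hK := twoStep_eq_two_of_three hG hn hP hA
  have hU : ∀ s : G, s ∉ twoStep G 2 → IsUniform 3 s := by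
    intro s hs
    apply hB3
    intro j hj hjn
    rw [hK j hj hjn]
    exact hs
  obtain ⟨T, hT, hTH⟩ := gens_of_uniform_outside hG hU hN hD H
  exact ⟨T, by simpa using hT, hTH⟩

end ThreeFinal

end Cfsg.Agent.Helper5.MC
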