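import Mathlib
import Cfsg.Prelude.Def_Characters
import Cfsg.Prelude.Def_BlockLocal
import Cfsg.Prelude.Def_Blocks
import Cfsg.Agent.Helper6.RMcKCnt
import Cfsg.Agent.Helper6.CliffordCorr
import Cfsg.Agent.Helper6.CliffordOrbit
import Cfsg.Agent.Helper6.BlockPart

/-!
# Ambient Clifford theory: conjugacy of constituents, inertia index divides the degree
-/

set_option autoImplicit false
set_option linter.style.haveILetI false
set_option linter.unusedSimpArgs false

namespace Cfsg.Agent.Helper5.RMcK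

open Cfsg.Agent.Helper6 Cfsg.Agent.Helper6.RMcK
open scoped ComplexConjugate

universe u

variable {Γ : Type u} [Group Γ]

/-- the type-form conjugate of a transported function is the transport of the ambient conjugate
by the inverse element -/
theorem conjFun_comp_eq (G K : Subgroup Γ) (hKG : K ≤ G)
    (hnorm : G ≤ Subgroup.normalizer (K : Set Γ)) [hn : (K.subgroupOf G).Normal]
    (τ : K → ℂ) (g : G) :
    Helper6.conjFun (K.subgroupOf G) (τ ∘ (Subgroup.subgroupOfEquivOfLe hKG)) g =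
      (cjc K ((g : Γ)⁻¹) (hnorm (G.inv_mem g.2)) τ) ∘ (Subgroup.subgroupOfEquivOfLe hKG) := by
  funext n
  unfold Helper6.conjFun
  rw [Function.comp_apply, Function.comp_apply, cjc_apply]
  congr 1
  apply Subtype.ext
  rw [coe_nconj]
  simp

/-- membership in the ambient inertia group in type form -/
theorem mem_inertia_iff_conjFun (G K : Subgroup Γ) (hKG : K ≤ G)
    (hnorm : G ≤ Subgroup.normalizer (K : Set Γ)) [hn : (K.subgroupOf G).Normal]
    (τ : K → ℂ) (g : G) :
    (g : Γ) ∈ inertia K τ ↔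
      Helper6.conjFun (K.subgroupOf G) (τ ∘ (Subgroup.subgroupOfEquivOfLe hKG)) g =
        τ ∘ (Subgroup.subgroupOfEquivOfLe hKG) := by
  constructor
  · intro hg
    funext n
    unfold Helper6.conjFun
    rw [Function.comp_apply, Function.comp_apply]
    exact hg.2 _ _ rfl
  · intro hg
    refine ⟨hnorm g.2, ?_⟩
    intro k k' hk
    have h1 := congrFun hg ((Subgroup.subgroupOfEquivOfLe hKG).symm k)
    unfold Helper6.conjFun at h1
    rw [Function.comp_apply, Function.comp_apply, MulEquiv.apply_symm_apply] at h1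
    rw [← h1]
    congr 1
    apply Subtype.ext
    rw [hk]
    rfl

variable [Finite Γ]

/-- **CL1**: the irreducible constituents of the restriction of an irreducible character to a
normal subgroup are conjugate. -/
theorem CL1_clifford_conj (G K : Subgroup Γ) (hKG : K ≤ G)
    (hnorm : G ≤ Subgroup.normalizer (K : Set Γ)) (χ : G → ℂ) (hχ : Cfsg.IsIrrCharacter G χ)
    (τ τ' : Cfsg.IrrCharacter K) (h1 : Ov hKG χ (τ : K → ℂ)) (h2 : Ov hKG χ (τ' : K → ℂ)) :
    ∃ g, ∃ hg : g ∈ G, (τ' : K → ℂ) = cjc K g (hnorm hg) (τ : K → ℂ) := by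
  classical
  haveI := Fintype.ofFinite G
  haveI := Fintype.ofFinite (K.subgroupOf G)
  haveI := Fintype.ofFinite K
  haveI hn : (K.subgroupOf G).Normal :=
    (Subgroup.normal_subgroupOf_iff_le_normalizer hKG).mpr hnorm
  have hτ := irr_subgroupOf hKG τ.2
  have hτ' := irr_subgroupOf hKG τ'.2
  obtain ⟨g, hg⟩ := conj_of_constituents (K.subgroupOf G) χ hχ _ hτ
    (by rw [classInner_subgroupOf' hKG χ (τ : K → ℂ)]; exact h1) _ hτ'
    (by rw [classInner_subgroupOf' hKG χ (τ' : K → ℂ)]; exact h2)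
  rw [conjFun_comp_eq G K hKG hnorm] at hg
  refine ⟨(g : Γ)⁻¹, G.inv_mem g.2, ?_⟩
  exact (Subgroup.subgroupOfEquivOfLe hKG).surjective.injective_comp_right hg

/-- **CL2**: the index of the inertia group divides the degree. -/
theorem CL2_inertia_index_dvd (G K : Subgroup Γ) (hKG : K ≤ G)
    (hnorm : G ≤ Subgroup.normalizer (K : Set Γ)) (χ : G → ℂ) (hχ : Cfsg.IsIrrCharacter G χ)
    (τ : Cfsg.IrrCharacter K) (h1 : Ov hKG χ (τ : K → ℂ)) :
    (G ⊓ inertia K (τ : K → ℂ)).relIndex G ∣ Cfsg.charDegree χ := by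
  classical
  haveI := Fintype.ofFinite G
  haveI := Fintype.ofFinite (K.subgroupOf G)
  haveI := Fintype.ofFinite K
  haveI hn : (K.subgroupOf G).Normal :=
    (Subgroup.normal_subgroupOf_iff_le_normalizer hKG).mpr hnorm
  have hτ := irr_subgroupOf hKG τ.2
  have hne : Cfsg.classInner (fun n : K.subgroupOf G => χ n)
      ((τ : K → ℂ) ∘ (Subgroup.subgroupOfEquivOfLe hKG)) ≠ 0 := by
    rw [classInner_subgroupOf' hKG χ (τ : K → ℂ)]; exact h1
  have hT : ∀ g : G, g ∈ (G ⊓ inertia K (τ : K → ℂ)).subgroupOf G ↔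
      Helper6.conjFun (K.subgroupOf G) ((τ : K → ℂ) ∘ (Subgroup.subgroupOfEquivOfLe hKG)) g =
        (τ : K → ℂ) ∘ (Subgroup.subgroupOfEquivOfLe hKG) := by
    intro g
    rw [Subgroup.mem_subgroupOf, Subgroup.mem_inf,
      ← mem_inertia_iff_conjFun G K hKG hnorm (τ : K → ℂ) g]
    exact ⟨fun h => h.2, fun h => ⟨g.2, h⟩⟩
  have hdeg := clifford_degree (K.subgroupOf G) χ hχ _ hτ hne _ hT
  obtain ⟨f, hf⟩ := classInner_char_char_nat
    (IsCharacter.restrict (K.subgroupOf G) (IsIrrCharacter.isCharacter hχ))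
    (IsIrrCharacter.isCharacter hτ)
  rw [hf] at hdeg
  have h2 := charDegree_cast_of_isCharacter (IsIrrCharacter.isCharacter hχ)
  have h3 := charDegree_cast_of_isCharacter (IsIrrCharacter.isCharacter τ.2)
  have h4 : ((τ : K → ℂ) ∘ (Subgroup.subgroupOfEquivOfLe hKG)) 1 = (τ : K → ℂ) 1 := by
    rw [Function.comp_apply, map_one]
  rw [h4, ← h2, ← h3] at hdeg
  have h5 : Cfsg.charDegree χ =
      f * ((G ⊓ inertia K (τ : K → ℂ)).subgroupOf G).index * Cfsg.charDegree (τ : K → ℂ) := by
    exact_mod_cast hdeg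
  rw [h5]
  exact Dvd.dvd.mul_right (Dvd.intro_left f rfl) _

end Cfsg.Agent.Helper5.RMcK
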