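import Mathlib
import Cfsg.Prelude.Def_Characters
import Cfsg.Prelude.Def_BlockLocal
import Cfsg.Prelude.Def_Blocks
import Cfsg.Agent.Helper5.RMcKClA
import Cfsg.Agent.Helper6.CliffordCorr2
import Cfsg.Agent.Helper6.CliffordUnique
import Cfsg.Agent.Helper6.Degrees
import Cfsg.Agent.Helper6.Induced

/-!
# Ambient Clifford correspondence
-/

set_option autoImplicit false
set_option linter.style.haveILetI false
set_option linter.unusedSimpArgs false

namespace Cfsg.Agent.Helper5.RMcK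

open Cfsg.Agent.Helper6 Cfsg.Agent.Helper6.RMcK
open scoped ComplexConjugate

universe u

variable {Γ : Type u} [Group Γ] [Finite Γ]

/-- the inner product of the restriction to `L` of a function on `T`, in type form inside `G` -/
theorem classInner_restrict_amb (G L T : Subgroup Γ) (hLG : L ≤ G) (hLT : L ≤ T) (hTG : T ≤ G)
    [Fintype (L.subgroupOf G)]
    (hHT : L.subgroupOf G ≤ T.subgroupOf G) (ψ : T → ℂ) (ν : L → ℂ) :
    Cfsg.classInner (fun n : L.subgroupOf G =>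
        (ψ ∘ (Subgroup.subgroupOfEquivOfLe hTG)) ⟨(n : G), hHT n.2⟩)
      (ν ∘ (Subgroup.subgroupOfEquivOfLe hLG)) = ip (res hLT ψ) ν := by
  classical
  haveI := Fintype.ofFinite L
  rw [ip_eq_classInner]
  rw [← classInner_comp_equiv' (Subgroup.subgroupOfEquivOfLe hLG).toEquiv (res hLT ψ) ν]
  rfl

/-- **Ambient Clifford correspondence.** -/
theorem clifford_corr_amb (G L T : Subgroup Γ) (hLG : L ≤ G) (hLT : L ≤ T)
    (hnorm : G ≤ Subgroup.normalizer (L : Set Γ)) (ν : L → ℂ) (hν : Cfsg.IsIrrCharacter L ν)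
    (hT : T = G ⊓ inertia L ν) :
    ∃ Φ : (T → ℂ) → (G → ℂ),
      (∀ ψ : T → ℂ, Cfsg.IsIrrCharacter T ψ → Ov hLT ψ ν →
        Cfsg.IsIrrCharacter G (Φ ψ) ∧ Ov hLG (Φ ψ) ν ∧
          Cfsg.charDegree (Φ ψ) = T.relIndex G * Cfsg.charDegree ψ) ∧
      (∀ ψ₁ ψ₂ : T → ℂ, Cfsg.IsIrrCharacter T ψ₁ → Cfsg.IsIrrCharacter T ψ₂ →
        Ov hLT ψ₁ ν → Ov hLT ψ₂ ν → Φ ψ₁ = Φ ψ₂ → ψ₁ = ψ₂) ∧
      (∀ χ : G → ℂ, Cfsg.IsIrrCharacter G χ → Ov hLG χ ν →
        ∃ ψ : T → ℂ, Cfsg.IsIrrCharacter T ψ ∧ Ov hLT ψ ν ∧ Φ ψ = χ) := by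
  classical
  haveI := Fintype.ofFinite G
  haveI := Fintype.ofFinite (L.subgroupOf G)
  haveI := Fintype.ofFinite (T.subgroupOf G)
  haveI := Fintype.ofFinite L
  haveI hn : (L.subgroupOf G).Normal :=
    (Subgroup.normal_subgroupOf_iff_le_normalizer hLG).mpr hnorm
  have hTG : T ≤ G := by rw [hT]; exact inf_le_left
  set eL := Subgroup.subgroupOfEquivOfLe hLG with heL
  set eT := Subgroup.subgroupOfEquivOfLe hTG with heT
  have hϑ : Cfsg.IsIrrCharacter (L.subgroupOf G) (ν ∘ eL) := irr_subgroupOf hLG hν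
  have hT' : ∀ g : G, g ∈ T.subgroupOf G ↔ Helper6.conjFun (L.subgroupOf G) (ν ∘ eL) g = ν ∘ eL := by
    intro g
    rw [Subgroup.mem_subgroupOf, hT, Subgroup.mem_inf,
      ← mem_inertia_iff_conjFun G L hLG hnorm ν g]
    exact ⟨fun h => h.2, fun h => ⟨g.2, h⟩⟩
  have hHT : L.subgroupOf G ≤ T.subgroupOf G := by
    intro g hg
    rw [Subgroup.mem_subgroupOf] at hg ⊢
    exact hLT hg
  have hin : ∀ ψ : T → ℂ,
      Cfsg.classInner (fun n : L.subgroupOf G => (ψ ∘ eT) ⟨(n : G), hHT n.2⟩) (ν ∘ eL) =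
        ip (res hLT ψ) ν := fun ψ => classInner_restrict_amb G L T hLG hLT hTG hHT ψ ν
  refine ⟨fun ψ => Cfsg.indFun (T.subgroupOf G) (ψ ∘ eT), ?_, ?_, ?_⟩
  · intro ψ hψ hov
    have hψ' : Cfsg.IsIrrCharacter (T.subgroupOf G) (ψ ∘ eT) := IsIrrCharacter.comp_mulEquiv eT hψ
    have hf : Cfsg.classInner (fun n : L.subgroupOf G => (ψ ∘ eT) ⟨(n : G), hHT n.2⟩)
        (ν ∘ eL) ≠ 0 := by
      rw [hin ψ]; exact hov
    obtain ⟨hirr, heq⟩ := clifford_corr_ind_irr (L.subgroupOf G) (ν ∘ eL) hϑ (T.subgroupOf G)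
      hT' hHT (ψ ∘ eT) hψ' hf
    refine ⟨hirr, ?_, ?_⟩
    · show ip (res hLG (Cfsg.indFun (T.subgroupOf G) (ψ ∘ eT))) ν ≠ 0
      rw [← classInner_subgroupOf' hLG (Cfsg.indFun (T.subgroupOf G) (ψ ∘ eT)) ν, ← heq]
      exact hf
    · have h1 := charDegree_cast_of_isCharacter (IsIrrCharacter.isCharacter hirr)
      have h2 := charDegree_cast_of_isCharacter (IsIrrCharacter.isCharacter hψ)
      rw [indFun_apply_one] at h1
      have h3 : (ψ ∘ eT) 1 = ψ 1 := by rw [Function.comp_apply, map_one]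
      rw [h3, ← h2] at h1
      show Cfsg.charDegree (Cfsg.indFun (T.subgroupOf G) (ψ ∘ eT)) =
        (T.subgroupOf G).index * Cfsg.charDegree ψ
      exact_mod_cast h1
  · intro ψ₁ ψ₂ hψ₁ hψ₂ hov₁ hov₂ heq
    have h := clifford_corr_unique (L.subgroupOf G) (ν ∘ eL) hϑ (T.subgroupOf G) hT' hHT
      (ψ₁ ∘ eT) (ψ₂ ∘ eT) (IsIrrCharacter.comp_mulEquiv eT hψ₁)
      (IsIrrCharacter.comp_mulEquiv eT hψ₂)
      (by rw [hin ψ₁]; exact hov₁) (by rw [hin ψ₂]; exact hov₂) heq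
    exact eT.surjective.injective_comp_right h
  · intro χ hχ hov
    have hT'' : ∀ g : G, g ∈ T.subgroupOf G ↔
        ∀ n : L.subgroupOf G,
          (ν ∘ eL) ⟨g * n * g⁻¹, hn.conj_mem (n : G) n.2 g⟩ = (ν ∘ eL) n := by
      intro g
      rw [hT' g]
      constructor
      · intro h n
        exact congrFun h n
      · intro h
        funext n
        exact h n
    obtain ⟨ψ', hψ', hind, hinner⟩ := clifford_correspondence (L.subgroupOf G) (ν ∘ eL) hϑ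
      (T.subgroupOf G) hT'' hHT χ hχ
      (by rw [classInner_subgroupOf' hLG χ ν]; exact hov)
    have hψ : Cfsg.IsIrrCharacter T (ψ' ∘ eT.symm) := IsIrrCharacter.comp_mulEquiv eT.symm hψ'
    have hcomp : (ψ' ∘ eT.symm) ∘ eT = ψ' := by
      funext t
      simp
    refine ⟨ψ' ∘ eT.symm, hψ, ?_, ?_⟩
    · show ip (res hLT (ψ' ∘ eT.symm)) ν ≠ 0
      rw [← hin (ψ' ∘ eT.symm), hcomp, hinner, classInner_subgroupOf' hLG χ ν]
      exact hov
    · show Cfsg.indFun (T.subgroupOf G) ((ψ' ∘ eT.symm) ∘ eT) = χ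
      rw [hcomp]
      exact hind

end Cfsg.Agent.Helper5.RMcK
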