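import Mathlib
import Cfsg.Prelude.Def_Characters
import Cfsg.Prelude.Def_BlockLocal
import Cfsg.Prelude.Def_Blocks
import Cfsg.Agent.Helper5.RMcKClB

/-!
# Ambient Clifford correspondence: counts
-/

set_option autoImplicit false
set_option linter.style.haveILetI false
set_option linter.unusedSimpArgs false

namespace Cfsg.Agent.Helper5.RMcK

open Cfsg.Agent.Helper6 Cfsg.Agent.Helper6.RMcK
open scoped ComplexConjugate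

universe u

variable {Γ : Type u} [Group Γ] [Finite Γ]

/-- **CL3'**: the Clifford correspondence preserves the number of characters over `ν`. -/
theorem CL3'_ocnt_clifford (G L T : Subgroup Γ) (hLG : L ≤ G) (hLT : L ≤ T)
    (hnorm : G ≤ Subgroup.normalizer (L : Set Γ)) (ν : L → ℂ) (hν : Cfsg.IsIrrCharacter L ν)
    (hT : T = G ⊓ inertia L ν) :
    ocnt hLG ν = ocnt hLT ν := by
  obtain ⟨Φ, hfwd, hinj, hsurj⟩ := clifford_corr_amb G L T hLG hLT hnorm ν hν hT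
  unfold ocnt
  symm
  refine Nat.card_congr (Equiv.ofBijective
    (fun ψ : {ψ : Cfsg.IrrCharacter T // Ov hLT (ψ : T → ℂ) ν} =>
      (⟨⟨Φ ψ.1.1, (hfwd ψ.1.1 ψ.1.2 ψ.2).1⟩, (hfwd ψ.1.1 ψ.1.2 ψ.2).2.1⟩ :
        {χ : Cfsg.IrrCharacter G // Ov hLG (χ : G → ℂ) ν})) ⟨?_, ?_⟩)
  · intro ψ₁ ψ₂ h
    have h1 : Φ ψ₁.1.1 = Φ ψ₂.1.1 := congrArg (fun x => x.1.1) h
    exact Subtype.ext (Subtype.ext (hinj _ _ ψ₁.1.2 ψ₂.1.2 ψ₁.2 ψ₂.2 h1))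
  · intro χ
    obtain ⟨ψ, hψ, hov, heq⟩ := hsurj χ.1.1 χ.1.2 χ.2
    exact ⟨⟨⟨ψ, hψ⟩, hov⟩, Subtype.ext (Subtype.ext heq)⟩

/-- **CL3**: the Clifford correspondence preserves the number of `p'`-degree characters over `ν`
when the index of the inertia group is prime to `p`. -/
theorem CL3_pcnt_clifford (p : ℕ) [Fact p.Prime] (G L T : Subgroup Γ) (hLG : L ≤ G) (hLT : L ≤ T)
    (hnorm : G ≤ Subgroup.normalizer (L : Set Γ)) (ν : L → ℂ) (hν : Cfsg.IsIrrCharacter L ν)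
    (hT : T = G ⊓ inertia L ν) (hp : ¬ p ∣ T.relIndex G) :
    pcnt p hLG ν = pcnt p hLT ν := by
  obtain ⟨Φ, hfwd, hinj, hsurj⟩ := clifford_corr_amb G L T hLG hLT hnorm ν hν hT
  have hpp : p.Prime := Fact.out
  have hdeg : ∀ ψ : T → ℂ, Cfsg.IsIrrCharacter T ψ → Ov hLT ψ ν →
      (¬ p ∣ Cfsg.charDegree (Φ ψ) ↔ ¬ p ∣ Cfsg.charDegree ψ) := by
    intro ψ hψ hov
    rw [(hfwd ψ hψ hov).2.2, hpp.dvd_mul]
    constructor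
    · intro h h'
      exact h (Or.inr h')
    · intro h h'
      rcases h' with h' | h'
      · exact hp h'
      · exact h h'
  unfold pcnt
  symm
  refine Nat.card_congr (Equiv.ofBijective
    (fun ψ : {ψ : Cfsg.IrrCharacter T //
        ¬ p ∣ Cfsg.charDegree (ψ : T → ℂ) ∧ Ov hLT (ψ : T → ℂ) ν} =>
      (⟨⟨Φ ψ.1.1, (hfwd ψ.1.1 ψ.1.2 ψ.2.2).1⟩,
        ⟨(hdeg ψ.1.1 ψ.1.2 ψ.2.2).mpr ψ.2.1, (hfwd ψ.1.1 ψ.1.2 ψ.2.2).2.1⟩⟩ :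
        {χ : Cfsg.IrrCharacter G //
          ¬ p ∣ Cfsg.charDegree (χ : G → ℂ) ∧ Ov hLG (χ : G → ℂ) ν})) ⟨?_, ?_⟩)
  · intro ψ₁ ψ₂ h
    have h1 : Φ ψ₁.1.1 = Φ ψ₂.1.1 := congrArg (fun x => x.1.1) h
    exact Subtype.ext (Subtype.ext (hinj _ _ ψ₁.1.2 ψ₂.1.2 ψ₁.2.2 ψ₂.2.2 h1))
  · intro χ
    obtain ⟨ψ, hψ, hov, heq⟩ := hsurj χ.1.1 χ.1.2 χ.2.2
    have hd : ¬ p ∣ Cfsg.charDegree ψ := by
      rw [← hdeg ψ hψ hov, heq]
      exact χ.2.1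
    exact ⟨⟨⟨ψ, hψ⟩, hd, hov⟩, Subtype.ext (Subtype.ext heq)⟩

end Cfsg.Agent.Helper5.RMcK
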