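import Mathlib
import Cfsg.Prelude.Def_Transfer
import Cfsg.Prelude.Def_CaseTheorems
import Cfsg.Prelude.Def_Perm

/-!
# S4025: definitions (the group generated by a linear action and the scalars)
-/

set_option autoImplicit false

namespace Cfsg.Agent.Helper5.Sa

variable {p : ℕ} [Fact p.Prime] {V : Type*} [AddCommGroup V] [Module (ZMod p) V]

/-- all the maps `v ↦ c • ρ₀ x v`, `x : X`, `c` a non-zero scalar -/
def tildeA {X : Type*} [Group X] (ρ₀ : X →* (V ≃ₗ[ZMod p] V)) : Subgroup (V ≃ₗ[ZMod p] V) where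
  carrier := {g | ∃ (x : X) (c : (ZMod p)ˣ), ∀ v, g v = (c : ZMod p) • ρ₀ x v}
  one_mem' := ⟨1, 1, fun v => by simp⟩
  mul_mem' := by
    rintro g g' ⟨x, c, h⟩ ⟨x', c', h'⟩
    refine ⟨x * x', c * c', fun v => ?_⟩
    rw [LinearEquiv.mul_apply, h, h', map_smul, smul_smul, map_mul, LinearEquiv.mul_apply,
      Units.val_mul]
  inv_mem' := by
    rintro g ⟨x, c, h⟩
    refine ⟨x⁻¹, c⁻¹, fun v => ?_⟩
    apply g.injective
    have hone : ∀ w : V, (1 : V ≃ₗ[ZMod p] V) w = w := fun _ => rfl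
    have h1 : g (g⁻¹ v) = v := by
      rw [← LinearEquiv.mul_apply, mul_inv_cancel, hone]
    rw [h1, map_smul, h, smul_smul, ← LinearEquiv.mul_apply, ← map_mul, mul_inv_cancel, map_one,
      hone, ← Units.val_mul, inv_mul_cancel, Units.val_one, one_smul]

theorem mem_tildeA {X : Type*} [Group X] {ρ₀ : X →* (V ≃ₗ[ZMod p] V)} {g : V ≃ₗ[ZMod p] V} :
    g ∈ tildeA ρ₀ ↔ ∃ (x : X) (c : (ZMod p)ˣ), ∀ v, g v = (c : ZMod p) • ρ₀ x v := Iff.rfl

/-- conjugation by `x : X` on the normal subgroup `Q` -/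
def cj {X : Type*} [Group X] (Q : Subgroup X) [hQ : Q.Normal] (x : X) (q : Q) : Q :=
  ⟨x * q * x⁻¹, hQ.conj_mem q q.2 x⟩

@[simp] theorem coe_cj {X : Type*} [Group X] (Q : Subgroup X) [Q.Normal] (x : X) (q : Q) :
    ((cj Q x q : Q) : X) = x * q * x⁻¹ := rfl

end Cfsg.Agent.Helper5.Sa
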