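import Mathlib
import Cfsg.Prelude.Def_AxialAlgebras

set_option autoImplicit false

/-!
Majorana pairs: transport along algebra automorphisms, the eigenspace decomposition of a vector fixed
by the involution, the instances of the fusion law, orthogonality of eigenvectors.
-/

namespace Cfsg.Agent.Helper5.Majorana

open Cfsg.Axial

variable {V : Type*} [AddCommGroup V] [Module ℝ V]

section transport

variable (mul : V →ₗ[ℝ] V →ₗ[ℝ] V) (g : V ≃ₗ[ℝ] V) (hg : ∀ u v : V, g (mul u v) = mul (g u) (g v))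

include hg

theorem eigen_map {a v : V} {c : ℝ} (hv : v ∈ eigen mul a c) : g v ∈ eigen mul (g a) c := by
  unfold eigen at hv ⊢
  rw [Module.End.mem_eigenspace_iff] at hv ⊢
  rw [← hg, hv, map_smul]

theorem symm_mul (u v : V) : g.symm (mul u v) = mul (g.symm u) (g.symm v) := by
  apply g.injective
  rw [hg, LinearEquiv.apply_symm_apply, LinearEquiv.apply_symm_apply, LinearEquiv.apply_symm_apply]

theorem eigenSum_map {a v : V} {S : Set ℝ} (hv : v ∈ eigenSum mul a S) :
    g v ∈ eigenSum mul (g a) S := by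
  have h : (eigenSum mul a S).map (g : V →ₗ[ℝ] V) ≤ eigenSum mul (g a) S := by
    unfold eigenSum
    rw [Submodule.map_iSup]
    apply iSup_mono
    intro c
    rw [Submodule.map_iSup]
    apply iSup_mono
    intro hc
    rintro _ ⟨w, hw, rfl⟩
    exact eigen_map mul g hg hw
  exact h ⟨v, hv, rfl⟩

end transport

theorem isAxis_map (mul : V →ₗ[ℝ] V →ₗ[ℝ] V) (g : V ≃ₗ[ℝ] V)
    (hg : ∀ u v : V, g (mul u v) = mul (g u) (g v)) {law : ℝ → ℝ → Set ℝ} {S : Set ℝ} {a : V}
    (h : IsAxis mul law S a) : IsAxis mul law S (g a) := by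
  obtain ⟨h0, hid, htop, hfus⟩ := h
  have hgs := symm_mul mul g hg
  refine ⟨?_, ?_, ?_, ?_⟩
  · intro h
    apply h0
    have := congrArg g.symm h
    rwa [LinearEquiv.symm_apply_apply, map_zero] at this
  · rw [← hg, hid]
  · rw [eq_top_iff]
    intro v _
    have h1 : g.symm v ∈ eigenSum mul a S := by rw [htop]; trivial
    have h2 := eigenSum_map mul g hg h1
    rwa [LinearEquiv.apply_symm_apply] at h2
  · intro c hc d hd u hu v hv
    have hu' : g.symm u ∈ eigen mul a c := by
      have := eigen_map mul g.symm hgs hu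
      rwa [LinearEquiv.symm_apply_apply] at this
    have hv' : g.symm v ∈ eigen mul a d := by
      have := eigen_map mul g.symm hgs hv
      rwa [LinearEquiv.symm_apply_apply] at this
    have h1 := hfus c hc d hd _ hu' _ hv'
    have h2 := eigenSum_map mul g hg h1
    rwa [hg, LinearEquiv.apply_symm_apply, LinearEquiv.apply_symm_apply] at h2

theorem isPrimitiveAxis_map (mul : V →ₗ[ℝ] V →ₗ[ℝ] V) (g : V ≃ₗ[ℝ] V)
    (hg : ∀ u v : V, g (mul u v) = mul (g u) (g v)) {law : ℝ → ℝ → Set ℝ} {S : Set ℝ} {a : V}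
    (h : IsPrimitiveAxis mul law S a) : IsPrimitiveAxis mul law S (g a) := by
  obtain ⟨hax, hprim⟩ := h
  have hgs := symm_mul mul g hg
  refine ⟨isAxis_map mul g hg hax, ?_⟩
  apply le_antisymm
  · intro v hv
    have hv' : g.symm v ∈ eigen mul a 1 := by
      have := eigen_map mul g.symm hgs hv
      rwa [LinearEquiv.symm_apply_apply] at this
    rw [hprim, Submodule.mem_span_singleton] at hv'
    obtain ⟨r, hr⟩ := hv'
    rw [Submodule.mem_span_singleton]
    refine ⟨r, ?_⟩
    rw [← map_smul, hr, LinearEquiv.apply_symm_apply]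
  · rw [Submodule.span_singleton_le_iff_mem]
    have : a ∈ eigen mul a 1 := by
      rw [hprim]
      exact Submodule.mem_span_singleton_self a
    exact eigen_map mul g hg this

/-- transport of a Majorana pair along an algebra automorphism commuting with the involution -/
theorem pair_map (mul : V →ₗ[ℝ] V →ₗ[ℝ] V) (B : LinearMap.BilinForm ℝ V) (g μ : V ≃ₗ[ℝ] V)
    (hg : ∀ u v : V, g (mul u v) = mul (g u) (g v)) (hc : g * μ = μ * g) {a : V}
    (h : IsMajoranaPair mul B μ a) : IsMajoranaPair mul B μ (g a) := by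
  obtain ⟨hm, hB, hprim, hmiy1, hmiy2⟩ := h
  have hgs := symm_mul mul g hg
  have hcomm : ∀ v, μ (g v) = g (μ v) := by
    intro v
    have := congrArg (fun f : V ≃ₗ[ℝ] V => f v) hc
    simp only [LinearEquiv.mul_apply] at this
    exact this.symm
  refine ⟨hm, hB, isPrimitiveAxis_map mul g hg hprim, ?_, ?_⟩
  · intro v hv
    have hv' : g.symm v ∈ eigenSum mul a {1, 0, 1 / 4} := by
      have := eigenSum_map mul g.symm hgs hv
      rwa [LinearEquiv.symm_apply_apply] at this
    have h1 := hmiy1 _ hv'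
    have h2 : (μ : V →ₗ[ℝ] V) v = μ (g (g.symm v)) := by rw [LinearEquiv.apply_symm_apply]; rfl
    rw [h2, hcomm]
    have h3 : μ (g.symm v) = g.symm v := h1
    rw [h3, LinearEquiv.apply_symm_apply]
  · intro v hv
    have hv' : g.symm v ∈ eigen mul a (1 / 32) := by
      have := eigen_map mul g.symm hgs hv
      rwa [LinearEquiv.symm_apply_apply] at this
    have h1 := hmiy2 _ hv'
    have h2 : (μ : V →ₗ[ℝ] V) v = μ (g (g.symm v)) := by rw [LinearEquiv.apply_symm_apply]; rfl
    rw [h2, hcomm]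
    have h3 : μ (g.symm v) = -(g.symm v) := h1
    rw [h3, map_neg, LinearEquiv.apply_symm_apply]

/-- a vector fixed by a Majorana involution has no `1/32`-component -/
theorem decomp (mul : V →ₗ[ℝ] V →ₗ[ℝ] V) (B : LinearMap.BilinForm ℝ V) {μ : V ≃ₗ[ℝ] V} {a : V}
    (h : IsMajoranaPair mul B μ a) {x : V} (hx : μ x = x) :
    ∃ (l : ℝ) (u v : V), x = l • a + u + v ∧ mul a u = 0 ∧ mul a v = (1 / 4 : ℝ) • v := by
  obtain ⟨hm, hB, ⟨⟨h0, hid, htop, hfus⟩, hprim⟩, hmiy1, hmiy2⟩ := h
  have hxtop : x ∈ eigenSum mul a majoranaSpectrum := by rw [htop]; trivial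
  unfold eigenSum majoranaSpectrum at hxtop
  rw [iSup_insert, iSup_insert, iSup_insert, iSup_singleton] at hxtop
  obtain ⟨w1, hw1, y, hy, rfl⟩ := Submodule.mem_sup.mp hxtop
  obtain ⟨w0, hw0, y', hy', rfl⟩ := Submodule.mem_sup.mp hy
  obtain ⟨wq, hwq, ws, hws, rfl⟩ := Submodule.mem_sup.mp hy'
  have hsub : ∀ c ∈ ({1, 0, 1 / 4} : Set ℝ), eigen mul a c ≤ eigenSum mul a {1, 0, 1 / 4} := by
    intro c hc
    unfold eigenSum
    exact le_iSup₂ (f := fun c (_ : c ∈ ({1, 0, 1 / 4} : Set ℝ)) => eigen mul a c) c hc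
  have f1 : μ w1 = w1 := hmiy1 w1 (hsub 1 (by simp) hw1)
  have f0 : μ w0 = w0 := hmiy1 w0 (hsub 0 (by simp) hw0)
  have fq : μ wq = wq := hmiy1 wq (hsub (1 / 4) (by simp) hwq)
  have fs : μ ws = -ws := hmiy2 ws hws
  rw [map_add, map_add, map_add, f1, f0, fq, fs] at hx
  have hws0 : ws = 0 := by
    have h2 : (2 : ℝ) • ws = 0 := by
      linear_combination (norm := module) (-1 : ℝ) • hx
    rcases smul_eq_zero.mp h2 with h | h
    · exact absurd h (by norm_num)
    · exact h
  rw [hprim, Submodule.mem_span_singleton] at hw1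
  obtain ⟨l, rfl⟩ := hw1
  unfold eigen at hw0 hwq
  rw [Module.End.mem_eigenspace_iff] at hw0 hwq
  refine ⟨l, w0, wq, ?_, ?_, hwq⟩
  · rw [hws0]
    module
  · rw [hw0, zero_smul]

theorem law_zero_zero : monsterLaw (1 / 4 : ℝ) (1 / 32) 0 0 = {0} := by
  unfold monsterLaw
  have h1 : ¬ ((0 : ℝ) = 1 / 32) := by norm_num
  have h2 : ¬ ((0 : ℝ) = 1 / 4) := by norm_num
  rw [if_neg (fun h => h1 h.1), if_neg (fun h => h.elim h1 h1), if_neg (fun h => h2 h.1),
    if_neg (fun h => h.elim h2 h2), if_pos rfl]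

theorem law_zero_quarter : monsterLaw (1 / 4 : ℝ) (1 / 32) 0 (1 / 4) = {1 / 4} := by
  unfold monsterLaw
  have h1 : ¬ ((0 : ℝ) = 1 / 32) := by norm_num
  have h2 : ¬ ((0 : ℝ) = 1 / 4) := by norm_num
  have h3 : ¬ ((1 / 4 : ℝ) = 1 / 32) := by norm_num
  rw [if_neg (fun h => h1 h.1), if_neg (fun h => h.elim h1 h3), if_neg (fun h => h2 h.1),
    if_pos (Or.inr rfl)]

theorem law_quarter_quarter : monsterLaw (1 / 4 : ℝ) (1 / 32) (1 / 4) (1 / 4) = {1, 0} := by
  unfold monsterLaw
  have h1 : ¬ ((1 / 4 : ℝ) = 1 / 32) := by norm_num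
  rw [if_neg (fun h => h1 h.1), if_neg (fun h => h.elim h1 h1), if_pos ⟨rfl, rfl⟩]

theorem zero_mem_spec : (0 : ℝ) ∈ majoranaSpectrum := by unfold majoranaSpectrum; simp
theorem quarter_mem_spec : (1 / 4 : ℝ) ∈ majoranaSpectrum := by unfold majoranaSpectrum; simp

/-- the three instances of the fusion law on the `0`- and `1/4`-eigenspaces -/
theorem fusion (mul : V →ₗ[ℝ] V →ₗ[ℝ] V) (B : LinearMap.BilinForm ℝ V) {μ : V ≃ₗ[ℝ] V} {a : V}
    (h : IsMajoranaPair mul B μ a) {u u' v v' : V} (hu : mul a u = 0) (hu' : mul a u' = 0)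
    (hv : mul a v = (1 / 4 : ℝ) • v) (hv' : mul a v' = (1 / 4 : ℝ) • v') :
    mul a (mul u u') = 0 ∧ mul a (mul u v) = (1 / 4 : ℝ) • mul u v ∧
      ∃ (r : ℝ) (r0 : V), mul v v' = r • a + r0 ∧ mul a r0 = 0 := by
  obtain ⟨hm, hB, ⟨⟨h0, hid, htop, hfus⟩, hprim⟩, hmiy1, hmiy2⟩ := h
  have mu : u ∈ eigen mul a 0 := by
    unfold eigen; rw [Module.End.mem_eigenspace_iff, hu, zero_smul]
  have mu' : u' ∈ eigen mul a 0 := by
    unfold eigen; rw [Module.End.mem_eigenspace_iff, hu', zero_smul]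
  have mv : v ∈ eigen mul a (1 / 4) := by
    unfold eigen; rw [Module.End.mem_eigenspace_iff, hv]
  have mv' : v' ∈ eigen mul a (1 / 4) := by
    unfold eigen; rw [Module.End.mem_eigenspace_iff, hv']
  refine ⟨?_, ?_, ?_⟩
  · have := hfus 0 zero_mem_spec 0 zero_mem_spec u mu u' mu'
    rw [law_zero_zero] at this
    unfold eigenSum at this
    rw [iSup_singleton] at this
    unfold eigen at this
    rw [Module.End.mem_eigenspace_iff, zero_smul] at this
    exact this
  · have := hfus 0 zero_mem_spec (1 / 4) quarter_mem_spec u mu v mv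
    rw [law_zero_quarter] at this
    unfold eigenSum at this
    rw [iSup_singleton] at this
    unfold eigen at this
    rw [Module.End.mem_eigenspace_iff] at this
    exact this
  · have := hfus (1 / 4) quarter_mem_spec (1 / 4) quarter_mem_spec v mv v' mv'
    rw [law_quarter_quarter] at this
    unfold eigenSum at this
    rw [iSup_insert, iSup_singleton] at this
    obtain ⟨w1, hw1, w0, hw0, hsum⟩ := Submodule.mem_sup.mp this
    rw [hprim, Submodule.mem_span_singleton] at hw1
    obtain ⟨r, rfl⟩ := hw1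
    unfold eigen at hw0
    rw [Module.End.mem_eigenspace_iff, zero_smul] at hw0
    exact ⟨r, w0, hsum.symm, hw0⟩

/-- independence of the `1`-, `0`- and `1/4`-eigenspaces -/
theorem indep3 (L : V →ₗ[ℝ] V) {x1 x0 xq : V} (h1 : L x1 = x1) (h0 : L x0 = 0)
    (hq : L xq = (1 / 4 : ℝ) • xq) (hsum : x1 + x0 + xq = 0) : x1 = 0 ∧ x0 = 0 ∧ xq = 0 := by
  have e1 : x1 + (1 / 4 : ℝ) • xq = 0 := by
    have := congrArg L hsum
    rwa [map_add, map_add, h1, h0, hq, map_zero, add_zero] at this
  have e2 : x1 + (1 / 16 : ℝ) • xq = 0 := by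
    have := congrArg L e1
    rw [map_add, map_smul, h1, hq, map_zero, smul_smul] at this
    norm_num at this
    exact this
  have hxq : xq = 0 := by
    have h3 : (3 / 16 : ℝ) • xq = 0 := by
      linear_combination (norm := module) e1 - e2
    rcases smul_eq_zero.mp h3 with h | h
    · exact absurd h (by norm_num)
    · exact h
  have hx1 : x1 = 0 := by
    rw [hxq, smul_zero, add_zero] at e1
    exact e1
  refine ⟨hx1, ?_, hxq⟩
  rw [hx1, hxq, zero_add, add_zero] at hsum
  exact hsum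

/-- eigenvectors for the eigenvalues `0` and `1/4` are orthogonal to the axis -/
theorem orth (mul : V →ₗ[ℝ] V →ₗ[ℝ] V) (B : LinearMap.BilinForm ℝ V)
    (hassoc : ∀ u v w : V, B u (mul v w) = B (mul u v) w) {a : V} (hid : mul a a = a) {u v : V}
    (hu : mul a u = 0) (hv : mul a v = (1 / 4 : ℝ) • v) : B a u = 0 ∧ B a v = 0 := by
  constructor
  · have := hassoc a a u
    rw [hu, hid, map_zero] at this
    exact this.symm
  · have := hassoc a a v
    rw [hv, hid, map_smul, smul_eq_mul] at this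
    linarith

end Cfsg.Agent.Helper5.Majorana
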