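import Mathlib
import Cfsg.Agent.Helper6.ZasDefs
import Cfsg.Agent.Helper6.ZasGDefs
import Cfsg.Agent.S0016
import Cfsg.Agent.Helper2.CyclicSylow2

set_option autoImplicit false

/-!
Helper5: Zassenhaus G-side, piece G4a: Sylow 2-subgroups of a perfect subgroup of order 120 are quaternion of order 8.
-/

namespace Cfsg.Agent.Helper5.ZasG4

open Cfsg.Agent.Helper6.Zas Cfsg.Agent.Helper6.ZasG

/-- a perfect subgroup, as a type, is perfect. -/
theorem commutator_eq_top_of_perfect {G₀ : Type*} [Group G₀] (G : Subgroup G₀) (hperf : ⁅G, G⁆ = G) :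
    commutator ↥G = ⊤ := by
  have h1 := Subgroup.map_subtype_commutator G
  rw [hperf] at h1
  apply Subgroup.map_injective G.subtype_injective
  rw [h1, ← MonoidHom.range_eq_map, Subgroup.range_subtype]

/-- a perfect group has no subgroup of index 2. -/
theorem no_index_two_of_perfect {Γ : Type*} [Group Γ] (hperf : commutator Γ = ⊤) (H : Subgroup Γ)
    (hH : H.index = 2) : False := by
  have hn := Subgroup.normal_of_index_eq_two hH
  have hcomm : IsMulCommutative (Γ ⧸ H) := by
    have hc : Nat.card (Γ ⧸ H) = 2 := hH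
    haveI : Fact (Nat.Prime 2) := ⟨Nat.prime_two⟩
    haveI := isCyclic_of_prime_card hc
    exact ⟨⟨IsCyclic.commGroup.mul_comm⟩⟩
  have h1 := Subgroup.Normal.quotient_commutative_iff_commutator_le.1 hcomm
  rw [hperf, top_le_iff] at h1
  rw [h1, Subgroup.index_top] at hH
  omega

theorem sylow_two_quaternion {G₀ : Type*} [Group G₀] [Finite G₀] (hZ : ZData G₀) (G : Subgroup G₀)
    (hperf : ⁅G, G⁆ = G) (hcard : Nat.card G = 120) (P : Sylow 2 G) :
    Nonempty ((P : Subgroup G) ≃* QuaternionGroup 2) := by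
  haveI : Fact (Nat.Prime 2) := ⟨Nat.prime_two⟩
  have hperf' := commutator_eq_top_of_perfect G hperf
  have hP8 : Nat.card (P : Subgroup G) = 8 := by
    rw [Sylow.card_eq_multiplicity, hcard]
    have : (120 : ℕ).factorization 2 = 3 := by
      have h120 : (120 : ℕ) = 2 ^ 3 * 15 := by norm_num
      rw [h120, Nat.factorization_mul (by norm_num) (by norm_num), Nat.Prime.factorization_pow Nat.prime_two]
      simp
      rw [Nat.factorization_eq_zero_of_not_dvd (by norm_num)]
    rw [this]
    norm_num
  -- unique subgroup of order 2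
  have hinv : ∀ x y : ↥(P : Subgroup G), orderOf x = 2 → orderOf y = 2 → x = y := by
    intro x y hx hy
    apply Subtype.ext
    apply Subtype.ext
    apply hZ.invol
    · rw [Subgroup.orderOf_coe, Subgroup.orderOf_coe]; exact hx
    · rw [Subgroup.orderOf_coe, Subgroup.orderOf_coe]; exact hy
  have hsub : ∀ H K : Subgroup ↥(P : Subgroup G), Nat.card H = 2 → Nat.card K = 2 → H ≤ K := by
    intro H K hH hK x hx
    by_cases hx1 : x = 1
    · rw [hx1]; exact one_mem _
    · have hox : orderOf x = 2 := by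
        have hd : orderOf (⟨x, hx⟩ : ↥H) ∣ Nat.card H := orderOf_dvd_natCard _
        rw [hH, Subgroup.orderOf_mk] at hd
        rcases (Nat.dvd_prime Nat.prime_two).1 hd with h | h
        · exact (hx1 (orderOf_eq_one_iff.1 h)).elim
        · exact h
      obtain ⟨y, hy⟩ := exists_prime_orderOf_dvd_card' (G := ↥K) 2 (by rw [hK])
      have hoy : orderOf (y : ↥(P : Subgroup G)) = 2 := by rw [Subgroup.orderOf_coe]; exact hy
      rw [hinv x y hox hoy]
      exact y.2
  have huniq : ∀ H K : Subgroup ↥(P : Subgroup G), Nat.card H = 2 → Nat.card K = 2 → H = K :=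
    fun H K hH hK => le_antisymm (hsub H K hH hK) (hsub K H hK hH)
  rcases Cfsg.Agent.S0016.result 2 P.isPGroup' huniq with hcyc | ⟨-, n, ⟨e⟩⟩
  · exfalso
    have heven : Even (Nat.card ↥G) := by rw [hcard]; decide
    obtain ⟨H, hH⟩ := Cfsg.Agent.Helper2.exists_index_two_of_cyclic_sylow_two heven P hcyc
    exact no_index_two_of_perfect hperf' H hH
  · have hc : Nat.card (QuaternionGroup (2 ^ n)) = 4 * 2 ^ n := by
      rw [Nat.card_eq_fintype_card, QuaternionGroup.card]
    have h8 : 4 * 2 ^ n = 8 := by rw [← hc, ← Nat.card_congr e.toEquiv, hP8]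
    have hn : n = 1 := by
      have h2 : 2 ^ n = 2 ^ 1 := by omega
      exact Nat.pow_right_injective (le_refl 2) h2
    subst hn
    exact ⟨e⟩

end Cfsg.Agent.Helper5.ZasG4
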