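import Mathlib
import Cfsg.Agent.Helper5.ZasG4A
import Cfsg.Agent.S3378

set_option autoImplicit false

/-!
Helper5: Zassenhaus G-side, piece G4: (M) for a perfect subgroup of order 120.
-/

namespace Cfsg.Agent.Helper5.ZasG4

open Cfsg.Agent.Helper6.Zas Cfsg.Agent.Helper6.ZasG

/-- the order of a double cover. -/
theorem Cover.card {G : Type*} [Group G] {H : Subgroup G} {X : Type*} [Group X] (h : Cover H X) :
    Nat.card H = 2 * Nat.card X := by
  obtain ⟨f, hf, hk⟩ := h
  have h1 := Subgroup.card_eq_card_quotient_mul_card_subgroup f.ker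
  have h2 : Nat.card (↥H ⧸ f.ker) = Nat.card X :=
    Nat.card_congr (QuotientGroup.quotientKerEquivOfSurjective f hf).toEquiv
  rw [h1, h2, hk, mul_comm]

theorem card_alt4 : Nat.card (alternatingGroup (Fin 4)) = 12 := by
  have h := two_mul_card_alternatingGroup (α := Fin 4)
  rw [Fintype.card_perm, Fintype.card_fin] at h
  rw [Nat.card_eq_fintype_card]
  have : Nat.factorial 4 = 24 := rfl
  omega

theorem card_alt5 : Nat.card (alternatingGroup (Fin 5)) = 60 := by
  have h := two_mul_card_alternatingGroup (α := Fin 5)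
  rw [Fintype.card_perm, Fintype.card_fin] at h
  rw [Nat.card_eq_fintype_card]
  have : Nat.factorial 5 = 120 := rfl
  omega

abbrev SL25 := Matrix.SpecialLinearGroup (Fin 2) (ZMod 5)

def mA : SL25 := ⟨!![0, 4; 1, 4], by decide⟩
def mB : SL25 := ⟨!![0, 1; 4, 4], by decide⟩

theorem mA3 : mA ^ 3 = 1 := by decide
theorem mA1 : mA ≠ 1 := by decide
theorem mB3 : mB ^ 3 = 1 := by decide
theorem mB1 : mB ≠ 1 := by decide
theorem mAB : mA * mB ≠ mB * mA := by decide
set_option maxRecDepth 100000 in
theorem mAB24 : (mA * mB) ^ 24 ≠ 1 := by decide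

theorem mprop_of_perfect_120 {G₀ : Type*} [Group G₀] [Finite G₀] (hZ : ZData G₀) (G : Subgroup G₀)
    (hperf : ⁅G, G⁆ = G) (hcard : Nat.card G = 120) : MProp G := by
  haveI : Fact (Nat.Prime 3) := ⟨by norm_num⟩
  have hperf' := commutator_eq_top_of_perfect G hperf
  have hns : ¬ IsSolvable ↥G := by
    intro hs
    haveI : Nontrivial ↥G := by
      rw [← Finite.one_lt_card_iff_nontrivial, hcard]; norm_num
    have := IsSolvable.commutator_lt_top_of_nontrivial (G := ↥G) (hG := hs)
    rw [hperf'] at this
    exact lt_irrefl _ this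
  obtain ⟨e⟩ := Cfsg.Agent.S3378.result.1 ↥G hcard hns
    (fun P => sylow_two_quaternion hZ G hperf hcard P)
  -- the two elements of order 3
  set a : G₀ := ((e.symm mA : ↥G) : G₀) with ha
  set b : G₀ := ((e.symm mB : ↥G) : G₀) with hb
  have hoA : orderOf mA = 3 := orderOf_eq_prime mA3 mA1
  have hoB : orderOf mB = 3 := orderOf_eq_prime mB3 mB1
  have hoa : orderOf a = 3 := by
    rw [ha, Subgroup.orderOf_coe, MulEquiv.orderOf_eq]; exact hoA
  have hob : orderOf b = 3 := by
    rw [hb, Subgroup.orderOf_coe, MulEquiv.orderOf_eq]; exact hoB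
  have haG : a ∈ G := (e.symm mA).2
  have hbG : b ∈ G := (e.symm mB).2
  have hcl : Subgroup.closure {a, b} ≤ threeGen G := by
    unfold threeGen
    apply Subgroup.closure_mono
    intro x hx
    rcases hx with rfl | rfl
    · exact ⟨haG, by rw [← hoa]; exact pow_orderOf_eq_one _⟩
    · exact ⟨hbG, by rw [← hob]; exact pow_orderOf_eq_one _⟩
  have h3G : threeGen G ≤ G := by
    unfold threeGen
    rw [Subgroup.closure_le]
    intro x hx
    exact hx.1
  have hab : a * b = ((e.symm (mA * mB) : ↥G) : G₀) := by
    rw [map_mul]; rfl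
  rcases hZ.f1 a b hoa hob with h | h | h
  · exfalso
    apply mAB
    have h1 : (e.symm mA : ↥G) * e.symm mB = e.symm mB * e.symm mA := by
      apply Subtype.ext
      exact h
    rw [← map_mul, ← map_mul] at h1
    exact e.symm.injective h1
  · exfalso
    have hc := Cover.card h
    rw [card_alt4] at hc
    have habm : a * b ∈ Subgroup.closure {a, b} :=
      mul_mem (Subgroup.subset_closure (by simp)) (Subgroup.subset_closure (by simp))
    have h1 : (⟨a * b, habm⟩ : ↥(Subgroup.closure {a, b})) ^ 24 = 1 := by
      have := pow_card_eq_one' (G := ↥(Subgroup.closure {a, b})) (x := ⟨a * b, habm⟩)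
      rwa [hc] at this
    have h2 : (a * b) ^ 24 = 1 := by
      have := congrArg Subtype.val h1
      simpa using this
    rw [hab] at h2
    apply mAB24
    have h3 : (e.symm (mA * mB)) ^ 24 = 1 := by
      apply Subtype.ext
      simpa using h2
    rw [← map_pow] at h3
    have := e.symm.injective (h3.trans (map_one e.symm).symm)
    exact this
  · right; right; right
    have hc := Cover.card h
    rw [card_alt5] at hc
    have hle : Subgroup.closure {a, b} ≤ G := hcl.trans h3G
    have heq : Subgroup.closure {a, b} = G := by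
      apply Subgroup.eq_of_le_of_card_ge hle
      rw [hc, hcard]
    have h3 : threeGen G = Subgroup.closure {a, b} := by
      apply le_antisymm
      · rw [heq]; exact h3G
      · exact hcl
    rw [h3]
    exact h

end Cfsg.Agent.Helper5.ZasG4
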