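import Mathlib
import Cfsg.Agent.Helper1.ZNFe
import Cfsg.Agent.Helper1.ZNFb
import Cfsg.Agent.Helper1.ZNFc
import Cfsg.Agent.S3378
import Cfsg.Agent.S0016
import Cfsg.Agent.Helper2.CyclicSylow2
import Cfsg.Agent.Helper5.ZasG4A

set_option autoImplicit false
set_option linter.style.haveILetI false

/-!
Helper5: S0689, general group-theoretic lemmas.
-/

namespace Cfsg.Agent.Helper5.Z89

open Cfsg.Agent.Helper1.ZNF

section linear

variable {p : ℕ} [hp : Fact p.Prime] {V : Type*} [AddCommGroup V] [Module (ZMod p) V] [Finite V]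

/-- the automorphism group of a cyclic group is commutative -/
theorem mulAut_comm_of_isCyclic (A : Type*) [Group A] [IsCyclic A] (φ ψ : MulAut A) :
    φ * ψ = ψ * φ := by
  apply (IsCyclic.mulAutMulEquiv A).injective
  rw [map_mul, map_mul, mul_comm]

/-- the kernel of the conjugation action on a normal subgroup is its centralizer -/
theorem ker_conjNormal {G : Type*} [Group G] (N : Subgroup G) [hN : N.Normal] :
    (MulAut.conjNormal : G →* MulAut N).ker = Subgroup.centralizer (N : Set G) := by
  ext g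
  rw [MonoidHom.mem_ker, Subgroup.mem_centralizer_iff]
  constructor
  · intro hg n hn
    have h1 : (MulAut.conjNormal g : MulAut N) ⟨n, hn⟩ = ⟨n, hn⟩ := by rw [hg]; rfl
    have h2 : g * n * g⁻¹ = n := by
      have := congrArg Subtype.val h1
      simpa [MulAut.conjNormal_apply] using this
    calc n * g = (g * n * g⁻¹) * g := by rw [h2]
      _ = g * n := by group
  · intro hg
    ext n
    have h1 := hg n n.2
    simp only [MulAut.conjNormal_apply, MulAut.one_apply]
    rw [← h1, mul_inv_cancel_right]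

/-- A non-solvable linear group has no irreducible cyclic normal subgroup. -/
theorem hI_of_not_solvable (H : Subgroup (V ≃ₗ[ZMod p] V)) (hsolv : ¬ Group.IsSolvable H)
    (A : Subgroup H) (hAn : A.Normal) (hAc : IsCyclic A) :
    ∃ W : Submodule (ZMod p) V, W ≠ ⊥ ∧ W ≠ ⊤ ∧
      ∀ a ∈ A, ∀ v ∈ W, ((a : H) : V ≃ₗ[ZMod p] V) v ∈ W := by
  classical
  by_contra hcon
  push Not at hcon
  apply hsolv
  set S : Set (Module.End (ZMod p) V) :=
    {f | ∃ a ∈ A, f = (((a : H) : V ≃ₗ[ZMod p] V) : V →ₗ[ZMod p] V)} with hS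
  have hirr : ∀ W : Submodule (ZMod p) V, (∀ s ∈ S, ∀ w ∈ W, s w ∈ W) → W = ⊥ ∨ W = ⊤ := by
    intro W hW
    by_contra hne
    push Not at hne
    obtain ⟨a, ha, v, hv, hnot⟩ := hcon W hne.1 hne.2
    exact hnot (hW _ ⟨a, ha, rfl⟩ v hv)
  set C := Subgroup.centralizer (A : Set H) with hC
  have hcoe : ∀ x ∈ C, ∀ s ∈ S,
      s * (((x : H) : V ≃ₗ[ZMod p] V) : V →ₗ[ZMod p] V) =
        (((x : H) : V ≃ₗ[ZMod p] V) : V →ₗ[ZMod p] V) * s := by
    rintro x hx s ⟨a, ha, rfl⟩
    have h1 : a * x = x * a := Subgroup.mem_centralizer_iff.1 hx a ha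
    have h2 := congrArg (fun t : H => ((t : V ≃ₗ[ZMod p] V) : V →ₗ[ZMod p] V)) h1
    exact h2
  have hCcomm : ∀ x y : C, x * y = y * x := by
    intro x y
    have key := comm_centralizer_of_irreducible S hirr
      (((x : H) : V ≃ₗ[ZMod p] V) : V →ₗ[ZMod p] V) (((y : H) : V ≃ₗ[ZMod p] V) : V →ₗ[ZMod p] V)
      (hcoe x x.2) (hcoe y y.2)
    apply Subtype.ext
    apply Subtype.ext
    apply LinearEquiv.toLinearMap_injective
    exact key
  haveI : Group.IsSolvable C := Group.isSolvable_of_comm hCcomm
  haveI : Group.IsSolvable (MulAut A) := Group.isSolvable_of_comm (mulAut_comm_of_isCyclic A)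
  apply Group.isSolvable_of_ker_le_range C.subtype (MulAut.conjNormal : H →* MulAut A)
  rw [ker_conjNormal, Subgroup.range_subtype]

/-- a linear group acting freely has at most one involution -/
theorem invol_unique (H : Subgroup (V ≃ₗ[ZMod p] V))
    (hfree : ∀ (h : H) (v : V), v ≠ 0 → (h : V ≃ₗ[ZMod p] V) v = v → h = 1)
    (s t : H) (hs : orderOf s = 2) (ht : orderOf t = 2) : s = t := by
  have hs1 : s ≠ 1 := by
    intro h; rw [h, orderOf_one] at hs; omega
  have ht1 : t ≠ 1 := by
    intro h; rw [h, orderOf_one] at ht; omega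
  have hss : s * s = 1 := by rw [← pow_two, ← hs, pow_orderOf_eq_one]
  have htt : t * t = 1 := by rw [← pow_two, ← ht, pow_orderOf_eq_one]
  have h1 := invol_eq_neg H.subtype hfree s hs1 hss
  have h2 := invol_eq_neg H.subtype hfree t ht1 htt
  apply Subtype.ext
  apply LinearEquiv.ext
  intro v
  have e1 : (s : V ≃ₗ[ZMod p] V) v = -v := h1 v
  have e2 : (t : V ≃ₗ[ZMod p] V) v = -v := h2 v
  rw [e1, e2]

end linear

section abstract

universe u

/-- a group with a normal `Q₈` whose centralizer is abelian is solvable -/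
theorem solvable_of_normal_q8 {G : Type u} [Group G] [Finite G] (N : Subgroup G) [hN : N.Normal]
    (e : N ≃* QuaternionGroup 2)
    (hC : ∀ x y : Subgroup.centralizer (N : Set G), x * y = y * x) : Group.IsSolvable G := by
  have h1 : Group.IsSolvable (Subgroup.centralizer (N : Set G)) := Group.isSolvable_of_comm hC
  have h24 := index_centralizer_dvd N e
  have hle : (Subgroup.centralizer (N : Set G)).index ≤ 24 := Nat.le_of_dvd (by norm_num) h24
  have h2 : Group.IsSolvable (G ⧸ Subgroup.centralizer (N : Set G)) :=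
    Cfsg.Agent.S3378.solvable_of_card_lt (Subgroup.centralizer (N : Set G)).index (by omega) _ rfl
  exact Cfsg.Agent.S3378.solvable_of_normal G _ h1 h2

/-- Sylow 2-subgroups of a perfect group of order 120 with at most one involution are quaternion. -/
theorem sylow_two_quaternion' {Γ : Type u} [Group Γ] [Finite Γ]
    (hinv0 : ∀ s t : Γ, orderOf s = 2 → orderOf t = 2 → s = t)
    (hperf' : commutator Γ = ⊤) (hcard : Nat.card Γ = 120) (P : Sylow 2 Γ) :
    Nonempty ((P : Subgroup Γ) ≃* QuaternionGroup 2) := by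
  haveI : Fact (Nat.Prime 2) := ⟨Nat.prime_two⟩
  have hP8 : Nat.card (P : Subgroup Γ) = 8 := by
    rw [Sylow.card_eq_multiplicity, hcard]
    have : (120 : ℕ).factorization 2 = 3 := by
      have h120 : (120 : ℕ) = 2 ^ 3 * 15 := by norm_num
      rw [h120, Nat.factorization_mul (by norm_num) (by norm_num), Nat.Prime.factorization_pow Nat.prime_two]
      simp
      rw [Nat.factorization_eq_zero_of_not_dvd (by norm_num)]
    rw [this]
    norm_num
  have hinv : ∀ x y : ↥(P : Subgroup Γ), orderOf x = 2 → orderOf y = 2 → x = y := by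
    intro x y hx hy
    apply Subtype.ext
    apply hinv0
    · rw [Subgroup.orderOf_coe]; exact hx
    · rw [Subgroup.orderOf_coe]; exact hy
  have hsub : ∀ H K : Subgroup ↥(P : Subgroup Γ), Nat.card H = 2 → Nat.card K = 2 → H ≤ K := by
    intro H K hH hK x hx
    by_cases hx1 : x = 1
    · rw [hx1]; exact one_mem _
    · have hox : orderOf x = 2 := by
        have hd : orderOf (⟨x, hx⟩ : ↥H) ∣ Nat.card H := orderOf_dvd_natCard _
        rw [hH, Subgroup.orderOf_mk] at hd
        rcases (Nat.dvd_prime Nat.prime_two).1 hd with h | h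
        · exact (hx1 (orderOf_eq_one_iff.1 h)).elim
        · exact h
      obtain ⟨y, hy⟩ := exists_prime_orderOf_dvd_card' (G := ↥K) 2 (by rw [hK])
      have hoy : orderOf (y : ↥(P : Subgroup Γ)) = 2 := by rw [Subgroup.orderOf_coe]; exact hy
      rw [hinv x y hox hoy]
      exact y.2
  have huniq : ∀ H K : Subgroup ↥(P : Subgroup Γ), Nat.card H = 2 → Nat.card K = 2 → H = K :=
    fun H K hH hK => le_antisymm (hsub H K hH hK) (hsub K H hK hH)
  rcases Cfsg.Agent.S0016.result 2 P.isPGroup' huniq with hcyc | ⟨-, n, ⟨e⟩⟩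
  · exfalso
    have heven : Even (Nat.card Γ) := by rw [hcard]; decide
    obtain ⟨H, hH⟩ := Cfsg.Agent.Helper2.exists_index_two_of_cyclic_sylow_two heven P hcyc
    exact Cfsg.Agent.Helper5.ZasG4.no_index_two_of_perfect hperf' H hH
  · have hc : Nat.card (QuaternionGroup (2 ^ n)) = 4 * 2 ^ n := by
      rw [Nat.card_eq_fintype_card, QuaternionGroup.card]
    have h8 : 4 * 2 ^ n = 8 := by rw [← hc, ← Nat.card_congr e.toEquiv, hP8]
    have hn : n = 1 := by
      have h2 : 2 ^ n = 2 ^ 1 := by omega
      exact Nat.pow_right_injective (le_refl 2) h2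
    subst hn
    exact ⟨e⟩

/-- internal direct products -/
theorem prod_equiv_of_commute {G : Type*} [Group G] [Finite G] (N M : Subgroup G)
    (hcomm : ∀ n ∈ N, ∀ m ∈ M, n * m = m * n) (hdisj : N ⊓ M = ⊥)
    (hcard : Nat.card N * Nat.card M = Nat.card G) : Nonempty (G ≃* N × M) := by
  let f : N × M →* G :=
    { toFun := fun x => (x.1 : G) * (x.2 : G)
      map_one' := by simp
      map_mul' := by
        rintro ⟨n1, m1⟩ ⟨n2, m2⟩
        show ((n1 * n2 : N) : G) * ((m1 * m2 : M) : G) = ((n1 : G) * m1) * ((n2 : G) * m2)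
        rw [Subgroup.coe_mul, Subgroup.coe_mul]
        have h := hcomm n2 n2.2 m1 m1.2
        calc (n1 : G) * n2 * (m1 * m2) = n1 * (n2 * m1) * m2 := by group
          _ = n1 * (m1 * n2) * m2 := by rw [h]
          _ = n1 * m1 * (n2 * m2) := by group }
  have hinj : Function.Injective f := by
    rw [injective_iff_map_eq_one]
    rintro ⟨n, m⟩ h
    have h0 : (n : G) * (m : G) = 1 := h
    have h1 : (n : G) = (m : G)⁻¹ := eq_inv_of_mul_eq_one_left h0
    have h2 : (n : G) ∈ N ⊓ M := Subgroup.mem_inf.2 ⟨n.2, by rw [h1]; exact M.inv_mem m.2⟩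
    rw [hdisj, Subgroup.mem_bot] at h2
    have h3 : (m : G) = 1 := by rw [h2, one_mul] at h0; exact h0
    exact Prod.ext (Subtype.ext h2) (Subtype.ext h3)
  have hbij : Function.Bijective f := by
    rw [Nat.bijective_iff_injective_and_card]
    exact ⟨hinj, by rw [Nat.card_prod, hcard]⟩
  exact ⟨(MulEquiv.ofBijective f hbij).symm⟩

/-- in a group whose abelian subgroups are cyclic, commuting elements of the same prime order
generate the same subgroup -/
theorem mem_zpowers_of_commute {G : Type*} [Group G] [Finite G]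
    (hab : ∀ B : Subgroup G, IsMulCommutative B → IsCyclic B) {a x : G} {r : ℕ} (hr : r.Prime)
    (ha : orderOf a = r) (hx : orderOf x = r) (hc : a * x = x * a) : a ∈ Subgroup.zpowers x := by
  classical
  set B : Subgroup G := Subgroup.closure {a, x} with hB
  have hBc : IsMulCommutative B := by
    apply Subgroup.isMulCommutative_closure
    intro u hu v hv
    simp only [Set.mem_insert_iff, Set.mem_singleton_iff] at hu hv
    rcases hu with rfl | rfl <;> rcases hv with rfl | rfl
    · rfl
    · exact hc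
    · exact hc.symm
    · rfl
  haveI := hab B hBc
  haveI : Fintype B := Fintype.ofFinite _
  have haB : a ∈ B := Subgroup.subset_closure (by simp)
  have hxB : x ∈ B := Subgroup.subset_closure (by simp)
  have hle := IsCyclic.card_pow_eq_one_le (α := B) hr.pos
  set T : Finset B := Finset.univ.filter (fun b : B => b ^ r = 1) with hT
  -- the powers of x
  set X : Subgroup B := Subgroup.zpowers (⟨x, hxB⟩ : B) with hX
  have hXcard : Nat.card X = r := by
    rw [Nat.card_zpowers, Subgroup.orderOf_mk, hx]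
  haveI : Fintype X := Fintype.ofFinite _
  have hXsub : (Finset.univ : Finset X).map ⟨Subtype.val, Subtype.val_injective⟩ ⊆ T := by
    intro b hb
    rw [Finset.mem_map] at hb
    obtain ⟨y, -, rfl⟩ := hb
    rw [hT, Finset.mem_filter]
    refine ⟨Finset.mem_univ _, ?_⟩
    have h1 : (y : B) ^ Nat.card X = 1 := by
      have := pow_card_eq_one' (G := X) (x := y)
      exact_mod_cast congrArg Subtype.val this
    rw [hXcard] at h1
    exact h1
  have hcardX : ((Finset.univ : Finset X).map ⟨Subtype.val, Subtype.val_injective⟩).card = r := by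
    rw [Finset.card_map, Finset.card_univ, ← Nat.card_eq_fintype_card, hXcard]
  have hEq : (Finset.univ : Finset X).map ⟨Subtype.val, Subtype.val_injective⟩ = T := by
    apply Finset.eq_of_subset_of_card_le hXsub
    rw [hcardX]
    exact hle
  have haT : (⟨a, haB⟩ : B) ∈ T := by
    rw [hT, Finset.mem_filter]
    refine ⟨Finset.mem_univ _, ?_⟩
    apply Subtype.ext
    show a ^ r = 1
    rw [← ha, pow_orderOf_eq_one]
  rw [← hEq, Finset.mem_map] at haT
  obtain ⟨y, -, hy⟩ := haT
  have hy2 : (⟨a, haB⟩ : B) ∈ X := by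
    have : (y : B) ∈ X := y.2
    have hy' : (y : B) = ⟨a, haB⟩ := hy
    rwa [hy'] at this
  rw [hX, Subgroup.mem_zpowers_iff] at hy2
  obtain ⟨k, hk⟩ := hy2
  rw [Subgroup.mem_zpowers_iff]
  refine ⟨k, ?_⟩
  have := congrArg Subtype.val hk
  simpa using this

end abstract

end Cfsg.Agent.Helper5.Z89
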