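import Mathlib
import Cfsg.Agent.S0253
import Cfsg.Agent.Helper3.ZasOut
import Cfsg.Agent.Helper1.Card
import Cfsg.Agent.Helper5.ZasG4B
import Cfsg.Agent.Helper5.Z89C

set_option autoImplicit false
set_option linter.style.haveILetI false

/-!
Helper5: S0689, facts about `SL(2,5)` and about a normal copy of it in a group with a unique
involution.
-/

namespace Cfsg.Agent.Helper5.Z89

abbrev SL25 := Matrix.SpecialLinearGroup (Fin 2) (ZMod 5)

theorem card_SL25 : Nat.card SL25 = 120 := Cfsg.Agent.S0253.card_G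

theorem not_solvable_A5 : ¬ Group.IsSolvable (alternatingGroup (Fin 5)) := by
  haveI : IsSimpleGroup (alternatingGroup (Fin 5)) := alternatingGroup.isSimpleGroup (by simp)
  intro hs
  have hc := IsSimpleGroup.comm_iff_isSolvable.mpr hs
  letI : CommGroup (alternatingGroup (Fin 5)) :=
    { (inferInstance : Group (alternatingGroup (Fin 5))) with mul_comm := hc }
  have := IsSimpleGroup.prime_card (α := alternatingGroup (Fin 5))
  rw [Cfsg.Agent.Helper5.ZasG4.card_alt5] at this
  norm_num at this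

theorem not_solvable_SL25 : ¬ Group.IsSolvable SL25 := by
  intro hs
  obtain ⟨e⟩ := Cfsg.Agent.S0253.main
  haveI h1 : Group.IsSolvable (Matrix.ProjectiveSpecialLinearGroup (Fin 2) (ZMod 5)) := by
    unfold Matrix.ProjectiveSpecialLinearGroup
    infer_instance
  exact not_solvable_A5 (Group.isSolvable_of_surjective (f := e.toMonoidHom) e.surjective)

universe u

/-- a non-solvable normal subgroup which is minimal among the non-abelian normal subgroups is
perfect -/
theorem perfect_of_min {G : Type u} [Group G] (N : Subgroup G) [hN : N.Normal]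
    (hns : ¬ Group.IsSolvable N)
    (hNmin : ∀ M : Subgroup G, M.Normal → M ≤ N → ¬ IsMulCommutative M → M = N) :
    ⁅N, N⁆ = N := by
  have hMn : (⁅N, N⁆ : Subgroup G).Normal := Subgroup.commutator_normal N N
  have hMle : ⁅N, N⁆ ≤ N := Subgroup.commutator_le_right N N
  by_cases hM : IsMulCommutative (⁅N, N⁆ : Subgroup G)
  · exfalso
    apply hns
    have hmap := Subgroup.map_subtype_commutator N
    have hK : ∀ x y : commutator ↥N, x * y = y * x := by
      intro x y
      have hx : ((x : N) : G) ∈ (⁅N, N⁆ : Subgroup G) := by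
        rw [← hmap]; exact Subgroup.mem_map_of_mem _ x.2
      have hy : ((y : N) : G) ∈ (⁅N, N⁆ : Subgroup G) := by
        rw [← hmap]; exact Subgroup.mem_map_of_mem _ y.2
      have h := hM.is_comm.comm ⟨_, hx⟩ ⟨_, hy⟩
      apply Subtype.ext
      apply Subtype.ext
      have h' := congrArg Subtype.val h
      exact h'
    have h1 : Group.IsSolvable (commutator ↥N) := Group.isSolvable_of_comm hK
    have h2 : Group.IsSolvable (↥N ⧸ commutator ↥N) := by
      show Group.IsSolvable (Abelianization ↥N)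
      infer_instance
    exact Cfsg.Agent.S3378.solvable_of_normal ↥N (commutator ↥N) h1 h2
  · exact hNmin _ hMn hMle hM

/-- the unique involution is central -/
theorem central_of_invol_unique {G : Type*} [Group G]
    (hinv : ∀ s t : G, orderOf s = 2 → orderOf t = 2 → s = t) (z : G) (hz : orderOf z = 2)
    (g : G) : g * z = z * g := by
  have h1 : orderOf (g * z * g⁻¹) = 2 := by
    have := MulEquiv.orderOf_eq (MulAut.conj g) z
    rw [MulAut.conj_apply] at this
    rw [this, hz]
  have h2 := hinv _ _ h1 hz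
  calc g * z = (g * z * g⁻¹) * g := by group
    _ = z * g := by rw [h2]

/-- group-theoretic data of a normal copy `N` of `SL(2,5)` with `C_G(N) = A`, in a group with a
unique involution. -/
theorem group_data {G : Type u} [Group G] [Finite G]
    (hinv : ∀ s t : G, orderOf s = 2 → orderOf t = 2 → s = t)
    (A N : Subgroup G) [hAn : A.Normal] [hNn : N.Normal]
    (hCN : Subgroup.centralizer (N : Set G) = A) (e : N ≃* SL25) (hperf : ⁅N, N⁆ = N) :
    Nat.card N = 120 ∧ Nat.card (N ⊓ A : Subgroup G) = 2 ∧ 2 ∣ Nat.card A ∧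
      ((N ⊔ A).index = 1 ∨ (N ⊔ A).index = 2) := by
  have hN120 : Nat.card N = 120 := by rw [Nat.card_congr e.toEquiv, card_SL25]
  have hinvN : ∀ s t : N, orderOf s = 2 → orderOf t = 2 → s = t := by
    intro s t hs ht
    apply Subtype.ext
    apply hinv
    · rw [Subgroup.orderOf_coe]; exact hs
    · rw [Subgroup.orderOf_coe]; exact ht
  have hperf' : commutator ↥N = ⊤ := Cfsg.Agent.Helper5.ZasG4.commutator_eq_top_of_perfect N hperf
  have hQ : ∀ P : Sylow 2 N, Nonempty ((P : Subgroup N) ≃* QuaternionGroup 2) :=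
    fun P => sylow_two_quaternion' hinvN hperf' hN120 P
  have hidx := Cfsg.Agent.Helper3.ZasOut.index_le_two_of_normal_120 N hN120 hperf hQ
  rw [hCN] at hidx
  haveI : Fact (Nat.Prime 2) := ⟨Nat.prime_two⟩
  obtain ⟨z, hz⟩ := exists_prime_orderOf_dvd_card' (G := ↥N) 2 (by rw [hN120]; norm_num)
  have hzG : orderOf (z : G) = 2 := by rw [Subgroup.orderOf_coe]; exact hz
  have hzA : (z : G) ∈ A := by
    rw [← hCN, Subgroup.mem_centralizer_iff]
    intro n _
    exact central_of_invol_unique hinv (z : G) hzG n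
  have h2A : 2 ∣ Nat.card A := by
    have h1 : orderOf (⟨(z : G), hzA⟩ : A) = 2 := by rw [Subgroup.orderOf_mk]; exact hzG
    rw [← h1]
    exact orderOf_dvd_natCard _
  -- the intersection
  set Z : Subgroup ↥N := (N ⊓ A).subgroupOf N with hZ
  haveI hZn : Z.Normal := by rw [hZ]; infer_instance
  have hz1 : z ≠ 1 := by
    intro h; rw [h, orderOf_one] at hz; omega
  have hZ0 : Z ≠ ⊥ := by
    intro h0
    have hzZ : z ∈ Z := by
      rw [hZ, Subgroup.mem_subgroupOf]
      exact Subgroup.mem_inf.2 ⟨z.2, hzA⟩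
    rw [h0, Subgroup.mem_bot] at hzZ
    exact hz1 hzZ
  have hZtop : Z ≠ ⊤ := by
    intro htop
    rw [hZ, Subgroup.subgroupOf_eq_top] at htop
    have hNA : N ≤ Subgroup.centralizer (N : Set G) := by rw [hCN]; exact htop.trans inf_le_right
    have hbot : ⁅N, N⁆ = ⊥ := Subgroup.commutator_eq_bot_iff_le_centralizer.2 hNA
    rw [hperf] at hbot
    rw [hbot, Subgroup.card_bot] at hN120
    omega
  have hZ2 : Nat.card Z = 2 :=
    Cfsg.Agent.Helper3.ZasOut.card_normal_eq_two hN120 hperf' Z hZ0 hZtop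
  have hinf2 : Nat.card (N ⊓ A : Subgroup G) = 2 := by
    rw [← hZ2, hZ]
    exact (Nat.card_congr (Subgroup.subgroupOfEquivOfLe (inf_le_left : N ⊓ A ≤ N)).toEquiv).symm
  refine ⟨hN120, hinf2, h2A, ?_⟩
  have h0 := hidx.2
  have h1 := hidx.1
  omega

/-- the structure when `A = Z(N) × C_k` and `G = N A` -/
theorem case_struct {G : Type u} [Group G] [Finite G] (N A : Subgroup G)
    (hAcent : A ≤ Subgroup.centralizer (N : Set G)) (k : ℕ) [hk : Fact k.Prime] (hk2 : k ≠ 2)
    (hNA2 : Nat.card (N ⊓ A : Subgroup G) = 2) (hA : k ∣ Nat.card A)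
    (hG : Nat.card N * k = Nat.card G) (e : N ≃* SL25) :
    Nonempty (G ≃* SL25 × Multiplicative (ZMod k)) := by
  obtain ⟨b, hb⟩ := exists_prime_orderOf_dvd_card' (G := ↥A) k hA
  set M : Subgroup G := Subgroup.zpowers (b : G) with hM
  have hMcard : Nat.card M = k := by
    rw [hM, Nat.card_zpowers, Subgroup.orderOf_coe, hb]
  have hMA : M ≤ A := by
    rw [hM, Subgroup.zpowers_le]; exact b.2
  have hdisj : N ⊓ M = ⊥ := by
    have h1 : Nat.card (N ⊓ M : Subgroup G) ∣ 2 := by
      rw [← hNA2]
      exact Subgroup.card_dvd_of_le (inf_le_inf_left N hMA)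
    have h2 : Nat.card (N ⊓ M : Subgroup G) ∣ k := by
      rw [← hMcard]
      exact Subgroup.card_dvd_of_le inf_le_right
    have h3 : Nat.card (N ⊓ M : Subgroup G) ∣ Nat.gcd 2 k := Nat.dvd_gcd h1 h2
    have h4 : Nat.gcd 2 k = 1 := by
      rw [Nat.coprime_primes Nat.prime_two hk.out |>.2 (Ne.symm hk2)]
    rw [h4, Nat.dvd_one] at h3
    exact Subgroup.card_eq_one.1 h3
  have hcomm : ∀ n ∈ N, ∀ m ∈ M, n * m = m * n := by
    intro n hn m hm
    exact Subgroup.mem_centralizer_iff.1 (hAcent (hMA hm)) n hn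
  obtain ⟨f⟩ := prod_equiv_of_commute N M hcomm hdisj (by rw [hMcard]; exact hG)
  have hcardZ : Nat.card (Multiplicative (ZMod k)) = k := by
    rw [Nat.card_congr Multiplicative.toAdd, Nat.card_zmod]
  have g : M ≃* Multiplicative (ZMod k) := mulEquivOfPrimeCardEq hMcard hcardZ
  exact ⟨f.trans (MulEquiv.prodCongr e g)⟩

end Cfsg.Agent.Helper5.Z89
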