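import Mathlib
import Cfsg.Prelude.Def_Local
import Cfsg.Agent.Helper1.Coprime
import Cfsg.Agent.Helper2.Layer6
import Cfsg.Agent.Helper2.Layer8
import Cfsg.Agent.Helper5.PMinimal4

/-!
Helper lemmas (helper5): commutators of `p`-subgroups with the generalized Fitting subgroup when `O_p = 1`.
-/

set_option autoImplicit false

namespace Cfsg.Agent.Helper5

open Cfsg.Agent.Helper1 Cfsg.Agent.Helper2
open scoped commutatorElement

variable {G : Type*} [Group G]

/-- If `K = [K, A] C_K(A)` then `[K, A, A] = [K, A]`. -/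
theorem comm_comm_eq_of_decomp (A K : Subgroup G)
    (h : ⁅K, A⁆ ⊔ (K ⊓ Subgroup.centralizer (A : Set G)) = K) : ⁅⁅K, A⁆, A⁆ = ⁅K, A⁆ := by
  apply le_antisymm
  · exact Subgroup.le_normalizer_iff_commutator_le_left.1 (Subgroup.normalizer_commutator_ge_right K A)
  · rw [Subgroup.commutator_le]
    intro k hk a ha
    have hk' : k ∈ ⁅K, A⁆ ⊔ (K ⊓ Subgroup.centralizer (A : Set G)) := by rw [h]; exact hk
    have hnorm : K ⊓ Subgroup.centralizer (A : Set G) ≤ Subgroup.normalizer ((⁅K, A⁆ : Subgroup G) : Set G) :=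
      inf_le_left.trans (Subgroup.normalizer_commutator_ge_left K A)
    obtain ⟨n, hn, c, hc, rfl⟩ := mem_sup_of_le_normalizer hnorm hk'
    rw [commutatorElement_mul_left_eq_conj_mul]
    have hca : ⁅c, a⁆ = 1 := by
      rw [commutatorElement_eq_one_iff_mul_comm]
      exact (Subgroup.mem_centralizer_iff.1 hc.2 a ha).symm
    rw [hca, mul_one, mul_inv_cancel, one_mul]
    exact Subgroup.commutator_mem_commutator hn ha

/-- Key lemma: if `O_p(X) = 1` and `Y` is a `p`-subgroup, then `[F*(X), Y] = [F*(X), Y, Y]`. -/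
theorem genFitting_comm_comm [Finite G] {p : ℕ} [Fact p.Prime] (hO : Cfsg.pCore p G = ⊥)
    (Y : Subgroup G) (hY : IsPGroup p ↥Y) :
    ⁅⁅Cfsg.generalizedFittingSubgroup G, Y⁆, Y⁆ = ⁅Cfsg.generalizedFittingSubgroup G, Y⁆ := by
  have hp : p.Prime := Fact.out
  set F := Cfsg.fittingSubgroup G with hF
  set E := Cfsg.layer G with hE
  have hFn : F.Normal := inferInstance
  have hEn : E.Normal := inferInstance
  have hcopF : (Nat.card ↥F).Coprime p := fitting_coprime_of_pCore_eq_bot hO
  have hcop : (Nat.card ↥Y).Coprime (Nat.card ↥F) := by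
    obtain ⟨k, hk⟩ := IsPGroup.iff_card.mp hY
    rw [hk]
    exact Nat.Coprime.pow_left k hcopF.symm
  have hYsolv : Group.IsSolvable ↥Y := by
    have : Group.IsNilpotent ↥Y := hY.isNilpotent
    infer_instance
  have h1 : ⁅⁅F, Y⁆, Y⁆ = ⁅F, Y⁆ := by
    apply coprime_commutator_commutator Y F _ hcop (Or.inl hYsolv)
    rw [Subgroup.normalizer_eq_top]; exact le_top
  have h2 : ⁅⁅E, Y⁆, Y⁆ = ⁅E, Y⁆ := by
    apply comm_comm_eq_of_decomp
    have := (layer_eq_centralizer_sup_commutator (G := G) Y).1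
    rw [sup_comm]
    exact this.symm
  have hGF : Cfsg.generalizedFittingSubgroup G = E ⊔ F := rfl
  apply le_antisymm
  · exact Subgroup.le_normalizer_iff_commutator_le_left.1 (Subgroup.normalizer_commutator_ge_right _ Y)
  · rw [Subgroup.commutator_le]
    intro g hg y hy
    rw [hGF] at hg
    obtain ⟨e, he, f, hf, rfl⟩ := (Subgroup.mem_sup_of_normal_right).mp hg
    rw [commutatorElement_mul_left_eq_conj_mul]
    have hfy : ⁅f, y⁆ ∈ F := by
      have e1 : ⁅f, y⁆ = f * (y * f⁻¹ * y⁻¹) := by rw [commutatorElement_def]; group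
      rw [e1]
      exact F.mul_mem hf (hFn.conj_mem f⁻¹ (F.inv_mem hf) y)
    have hcomm : e * ⁅f, y⁆ * e⁻¹ = ⁅f, y⁆ := by
      rw [layer_commute_fitting he hfy]; group
    rw [hcomm]
    apply Subgroup.mul_mem
    · have : ⁅f, y⁆ ∈ ⁅⁅F, Y⁆, Y⁆ := by
        rw [h1]; exact Subgroup.commutator_mem_commutator hf hy
      exact Subgroup.commutator_mono (Subgroup.commutator_mono (by rw [hGF]; exact le_sup_right) le_rfl) le_rfl this
    · have : ⁅e, y⁆ ∈ ⁅⁅E, Y⁆, Y⁆ := by
        rw [h2]; exact Subgroup.commutator_mem_commutator he hy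
      exact Subgroup.commutator_mono (Subgroup.commutator_mono (by rw [hGF]; exact le_sup_left) le_rfl) le_rfl this

/-- `F*(K) = F*(G) ∩ K` for subnormal `K`. -/
theorem genFitting_inf_subnormal [Finite G] (K : Subgroup G) (hK : K.IsSubnormal) :
    (Cfsg.generalizedFittingSubgroup ↥K).map K.subtype = Cfsg.generalizedFittingSubgroup G ⊓ K := by
  apply le_antisymm
  · apply le_inf
    · unfold Cfsg.generalizedFittingSubgroup
      rw [Subgroup.map_sup]
      exact sup_le_sup (layer_subnormal_le K hK) (fittingSubgroup_subnormal_le K hK)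
    · rintro _ ⟨x, -, rfl⟩
      exact x.2
  · intro s hs
    obtain ⟨hsF, hsK⟩ := Subgroup.mem_inf.mp hs
    obtain ⟨e1, he1, s', hs', rfl⟩ := subnormal_inf_genFitting_decomp K hK hsK hsF
    apply Subgroup.mul_mem
    · exact Subgroup.map_mono layer_le_generalizedFittingSubgroup he1
    · exact Subgroup.map_mono fittingSubgroup_le_generalizedFittingSubgroup (fitting_inf_le K hs')

/-- A subgroup `A = [A, Y]` lies in every subnormal subgroup containing `Y`. -/
theorem le_subnormal_of_comm_eq (A Y : Subgroup G) (hA : ⁅A, Y⁆ = A) (K : Subgroup G) (hK : K.IsSubnormal)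
    (hYK : Y ≤ K) : A ≤ K := by
  induction hK with
  | top => exact le_top
  | step H K h_le hSubn hN ih =>
    have hAK : A ≤ K := ih (hYK.trans h_le)
    have hKH : K ≤ Subgroup.normalizer (H : Set G) :=
      (Subgroup.normal_subgroupOf_iff_le_normalizer h_le).mp hN
    rw [← hA, Subgroup.commutator_le]
    intro a ha y hy
    rw [commutatorElement_def]
    have h1 : a * y * a⁻¹ ∈ H := (Subgroup.mem_normalizer_iff.mp (hKH (hAK ha)) y).mp (hYK hy)
    exact H.mul_mem h1 (H.inv_mem (hYK hy))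

end Cfsg.Agent.Helper5
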