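import Mathlib
import Cfsg.Prelude.Def_Local
import Cfsg.Agent.Helper5.GenFitComm

/-!
Helper lemmas (helper5): a `p`-group acting on a group `N = F(N) E(N)` with `F(N)` a `p'`-group:
`N = [N, Y] C_N(Y)`.
-/

set_option autoImplicit false

namespace Cfsg.Agent.Helper5

open Cfsg.Agent.Helper1 Cfsg.Agent.Helper2
open scoped commutatorElement

variable {G : Type*} [Group G]

/-- `A = F(A) E(A)` with `F(A)` a `p'`-group. -/
def IsFE (p : ℕ) (A : Type*) [Group A] : Prop :=
  Cfsg.fittingSubgroup A ⊔ Cfsg.layer A = ⊤ ∧ (Nat.card ↥(Cfsg.fittingSubgroup A)).Coprime p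

theorem layer_map_equiv_le {A B : Type*} [Group A] [Group B] (e : A ≃* B) :
    (Cfsg.layer A).map e.toMonoidHom ≤ Cfsg.layer B := by
  unfold Cfsg.layer
  rw [(Subgroup.gc_map_comap e.toMonoidHom).l_sSup]
  apply iSup₂_le
  intro K hK
  exact le_sSup (isComponent_map_equiv e hK)

theorem layer_map_equiv {A B : Type*} [Group A] [Group B] (e : A ≃* B) :
    (Cfsg.layer A).map e.toMonoidHom = Cfsg.layer B := by
  apply le_antisymm (layer_map_equiv_le e)
  intro x hx
  have h1 := layer_map_equiv_le e.symm ⟨x, hx, rfl⟩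
  exact ⟨e.symm x, h1, by simp⟩

theorem IsFE.of_equiv {p : ℕ} {A B : Type*} [Group A] [Group B] (e : A ≃* B) (h : IsFE p A) :
    IsFE p B := by
  obtain ⟨h1, h2⟩ := h
  refine ⟨?_, ?_⟩
  · rw [← fittingSubgroup_map_equiv e, ← layer_map_equiv e, ← Subgroup.map_sup, h1]
    rw [← MonoidHom.range_eq_map, MonoidHom.range_eq_top]
    exact e.surjective
  · have e' : ↥(Cfsg.fittingSubgroup A) ≃* ↥((Cfsg.fittingSubgroup A).map e.toMonoidHom) :=
      (Cfsg.fittingSubgroup A).equivMapOfInjective e.toMonoidHom e.injective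
    rw [← fittingSubgroup_map_equiv e, ← Nat.card_congr e'.toEquiv]
    exact h2

/-- A perfect subgroup lies in every normal subgroup with solvable quotient. -/
theorem perfect_le_of_solvable_quotient (K N : Subgroup G) [N.Normal] (hK : ⁅K, K⁆ = K)
    (hs : Group.IsSolvable (G ⧸ N)) : K ≤ N := by
  have h1 : ∀ n : ℕ, K ≤ derivedSeries G n := by
    intro n
    induction n with
    | zero => exact le_top
    | succ n ih =>
      rw [derivedSeries_succ, ← hK]
      exact Subgroup.commutator_mono ih ih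
  obtain ⟨n, hn⟩ := (Group.isSolvable_def (G ⧸ N)).mp hs
  have h2 : (derivedSeries G n).map (QuotientGroup.mk' N) ≤ derivedSeries (G ⧸ N) n :=
    map_derivedSeries_le_derivedSeries _ n
  rw [hn, le_bot_iff] at h2
  intro k hk
  have h3 : (QuotientGroup.mk' N) k ∈ (derivedSeries G n).map (QuotientGroup.mk' N) :=
    ⟨k, h1 n hk, rfl⟩
  rw [h2, Subgroup.mem_bot] at h3
  exact (QuotientGroup.eq_one_iff k).mp h3

/-- Internal version: `N ⊴ G = N U`, `U` a `p`-group, `N = F(N) E(N)` with `F(N)` a `p'`-group. -/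
theorem fe_decomp_internal [Finite G] {p : ℕ} [Fact p.Prime] (N : Subgroup G) [hN : N.Normal]
    (U : Subgroup G) (hU : IsPGroup p ↥U) (hNU : N ⊔ U = ⊤) (hFE : IsFE p ↥N) :
    ⁅N, U⁆ ⊔ (N ⊓ Subgroup.centralizer (U : Set G)) = N := by
  have hcomm_le : ⁅N, U⁆ ≤ N := Subgroup.commutator_le_left _ _
  apply le_antisymm (sup_le hcomm_le inf_le_left)
  set FN := (Cfsg.fittingSubgroup ↥N).map N.subtype with hFN
  set EN := (Cfsg.layer ↥N).map N.subtype with hEN
  have hNeq : N = FN ⊔ EN := by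
    rw [hFN, hEN, ← Subgroup.map_sup, hFE.1, ← MonoidHom.range_eq_map, Subgroup.range_subtype]
  have hFN_le : FN ≤ N := by
    rintro _ ⟨x, -, rfl⟩; exact x.2
  have hFNeq : FN = Cfsg.fittingSubgroup G ⊓ N :=
    le_antisymm (le_inf (fittingSubgroup_normal_le N) hFN_le) (fitting_inf_le N)
  have hFNn : FN.Normal := by rw [hFNeq]; infer_instance
  have hUF : U ≤ Subgroup.normalizer (FN : Set G) := by
    rw [Subgroup.normalizer_eq_top]; exact le_top
  have hcop : (Nat.card ↥U).Coprime (Nat.card ↥FN) := by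
    have e' : ↥(Cfsg.fittingSubgroup ↥N) ≃* ↥FN :=
      (Cfsg.fittingSubgroup ↥N).equivMapOfInjective N.subtype N.subtype_injective
    rw [← Nat.card_congr e'.toEquiv]
    obtain ⟨k, hk⟩ := IsPGroup.iff_card.mp hU
    rw [hk]
    exact Nat.Coprime.pow_left k hFE.2.symm
  have hUsolv : Group.IsSolvable ↥U := by
    have : Group.IsNilpotent ↥U := hU.isNilpotent
    infer_instance
  have hF : ⁅FN, U⁆ ⊔ (FN ⊓ Subgroup.centralizer (U : Set G)) = FN :=
    coprime_commutator_sup_centralizer U FN hUF hcop (Or.inl hUsolv)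
  have hE := (layer_eq_centralizer_sup_commutator (G := G) U).1
  -- the quotient `G / N` is a `p`-group
  have hQp : IsPGroup p (G ⧸ N) := by
    intro g
    obtain ⟨x, rfl⟩ := QuotientGroup.mk'_surjective N g
    have hx : x ∈ N ⊔ U := by rw [hNU]; trivial
    obtain ⟨n, hn, u, hu, rfl⟩ := Subgroup.mem_sup_of_normal_left.mp hx
    obtain ⟨k, hk⟩ := hU ⟨u, hu⟩
    refine ⟨k, ?_⟩
    have h1 : (QuotientGroup.mk' N) (n * u) = (QuotientGroup.mk' N) u := by
      have h0 : (QuotientGroup.mk' N) n = 1 := (QuotientGroup.eq_one_iff n).mpr hn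
      rw [map_mul, h0, one_mul]
    rw [h1, ← map_pow]
    have hk' : u ^ p ^ k = 1 := by simpa using congrArg Subtype.val hk
    rw [hk', map_one]
  have hQs : Group.IsSolvable (G ⧸ N) := by
    have : Group.IsNilpotent (G ⧸ N) := hQp.isNilpotent
    infer_instance
  have hEN_le : Cfsg.layer G ≤ N := by
    apply sSup_le
    intro K hK
    exact perfect_le_of_solvable_quotient K N (component_perfect hK) hQs
  have hENeq : EN = Cfsg.layer G := by
    apply le_antisymm (layer_subnormal_le N hN.isSubnormal)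
    apply sSup_le
    intro K hK
    exact component_le_layer_subnormal N hN.isSubnormal hK
      (perfect_le_of_solvable_quotient K N (component_perfect hK) hQs)
  rw [hENeq] at hNeq
  have hgoal : FN ⊔ Cfsg.layer G ≤ ⁅N, U⁆ ⊔ (N ⊓ Subgroup.centralizer (U : Set G)) := by
    apply sup_le
    · rw [← hF]
      exact sup_le_sup (Subgroup.commutator_mono hFN_le le_rfl) (inf_le_inf_right _ hFN_le)
    · rw [hE, sup_comm]
      exact sup_le_sup (Subgroup.commutator_mono hEN_le le_rfl) (inf_le_inf_right _ hEN_le)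
  intro x hx
  rw [hNeq] at hx
  exact hgoal hx

/-- External version: `Y ≤ N_G(L)` a `p`-subgroup, `L = F(L) E(L)` with `F(L)` a `p'`-group. -/
theorem fe_decomp [Finite G] {p : ℕ} [Fact p.Prime] (L Y : Subgroup G) (hY : IsPGroup p ↥Y)
    (hYL : Y ≤ Subgroup.normalizer (L : Set G)) (hFE : IsFE p ↥L) :
    ⁅L, Y⁆ ⊔ (L ⊓ Subgroup.centralizer (Y : Set G)) = L := by
  have hcomm_le : ⁅L, Y⁆ ≤ L := Subgroup.le_normalizer_iff_commutator_le_left.1 hYL
  apply le_antisymm (sup_le hcomm_le inf_le_left)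
  have hLX : L ≤ L ⊔ Y := le_sup_left
  have hYX : Y ≤ L ⊔ Y := le_sup_right
  have hN : (L.subgroupOf (L ⊔ Y)).Normal :=
    (Subgroup.normal_subgroupOf_iff_le_normalizer hLX).mpr (sup_le Subgroup.le_normalizer hYL)
  have hU : IsPGroup p ↥(Y.subgroupOf (L ⊔ Y)) := hY.comap_subtype
  have hNU : L.subgroupOf (L ⊔ Y) ⊔ Y.subgroupOf (L ⊔ Y) = ⊤ := by
    rw [← Subgroup.subgroupOf_sup hLX hYX, Subgroup.subgroupOf_self]
  have hFE' : IsFE p ↥(L.subgroupOf (L ⊔ Y)) := hFE.of_equiv (Subgroup.subgroupOfEquivOfLe hLX).symm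
  have key := fe_decomp_internal (L.subgroupOf (L ⊔ Y)) (Y.subgroupOf (L ⊔ Y)) hU hNU hFE'
  have hmapN : (L.subgroupOf (L ⊔ Y)).map (L ⊔ Y).subtype = L := by
    rw [Subgroup.subgroupOf_map_subtype, inf_eq_left.mpr hLX]
  have hmapU : (Y.subgroupOf (L ⊔ Y)).map (L ⊔ Y).subtype = Y := by
    rw [Subgroup.subgroupOf_map_subtype, inf_eq_left.mpr hYX]
  have h2 := congrArg (Subgroup.map (L ⊔ Y).subtype) key
  rw [Subgroup.map_sup, Subgroup.map_commutator, hmapN, hmapU] at h2
  have h3 : ((L.subgroupOf (L ⊔ Y)) ⊓ Subgroup.centralizer ((Y.subgroupOf (L ⊔ Y) : Subgroup ↥(L ⊔ Y)) : Set ↥(L ⊔ Y))).map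
      (L ⊔ Y).subtype ≤ L ⊓ Subgroup.centralizer (Y : Set G) := by
    rintro _ ⟨x, hx, rfl⟩
    obtain ⟨hx1, hx2⟩ := Subgroup.mem_inf.mp hx
    apply Subgroup.mem_inf.mpr
    refine ⟨Subgroup.mem_subgroupOf.mp hx1, ?_⟩
    rw [Subgroup.mem_centralizer_iff]
    intro y hy
    have := (Subgroup.mem_centralizer_iff.mp hx2) ⟨y, hYX hy⟩ (Subgroup.mem_subgroupOf.mpr hy)
    exact congrArg Subtype.val this
  intro l hl
  rw [← h2] at hl
  exact (sup_le_sup le_rfl h3) hl

/-- Subnormal subgroups of `F*(H)` are `F E`-groups when `O_p(H) = 1`. -/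
theorem isFE_of_subnormal_le_genFitting [Finite G] {p : ℕ} [Fact p.Prime] (hO : Cfsg.pCore p G = ⊥)
    (S : Subgroup G) (hS : S ≤ Cfsg.generalizedFittingSubgroup G) (hsn : S.IsSubnormal) : IsFE p ↥S := by
  obtain ⟨h1, h2⟩ := subnormal_in_genFitting S hS hsn.subgroupOf
  refine ⟨h2, ?_⟩
  have e' : ↥(Cfsg.fittingSubgroup ↥S) ≃* ↥((Cfsg.fittingSubgroup ↥S).map S.subtype) :=
    (Cfsg.fittingSubgroup ↥S).equivMapOfInjective S.subtype S.subtype_injective
  rw [Nat.card_congr e'.toEquiv, h1]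
  exact Nat.Coprime.coprime_dvd_left (Subgroup.card_dvd_of_le inf_le_left)
    (fitting_coprime_of_pCore_eq_bot hO)

end Cfsg.Agent.Helper5
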