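import Cfsg.Agent.Helper6.SpOA
import Cfsg.Agent.Helper3.TensOmBA

/-!
# S5666: bridge from the closure form of [SEED] to the `Hyp`-form `seed` (helper5)

`seed_of_top`: if the closure-form statement `HTOP` (helper1's `seed_top`, instantiated) holds, then under
`SpO.Hyp t B f₁ f₂ X` a pure transvection root group in `X` forces every symplectic transvection into `X`.
The set of centres is `S = {v | ∀ c, Tv B halt v c ∈ X}`.
-/

set_option autoImplicit false
set_option linter.unusedSectionVars false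
set_option linter.unusedVariables false
set_option linter.style.haveILetI false

namespace Cfsg.Agent.Helper5.TensSpFin

open Module Cfsg.Agent.Helper7.ExtF Cfsg.Agent.Helper8.Tens Cfsg.Agent.Helper6.SpO

variable {F : Type*} [Field F] {U W V : Type*} [AddCommGroup U] [Module F U]
  [AddCommGroup W] [Module F W] [AddCommGroup V] [Module F V]
  {t : U →ₗ[F] W →ₗ[F] V} {B : LinearMap.BilinForm F V} {f₁ : LinearMap.BilinForm F U}
  {f₂ : LinearMap.BilinForm F W} {X : Subgroup (V ≃ₗ[F] V)}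

theorem Tv_zero (halt : ∀ v, B v v = 0) (c : F) : Tv B halt 0 c = 1 := by
  apply LinearEquiv.ext
  intro x
  rw [Tv_apply, smul_zero, add_zero]
  rfl

theorem Tv_smul (halt : ∀ v, B v v = 0) (a : F) (v : V) (c : F) :
    Tv B halt (a • v) c = Tv B halt v (a * a * c) := by
  apply LinearEquiv.ext
  intro x
  rw [Tv_apply, Tv_apply, map_smul, smul_smul, smul_eq_mul]
  congr 2
  ring

/-- conjugating a transvection by an isometry. -/
theorem conj_Tv (halt : ∀ v, B v v = 0) (g : V ≃ₗ[F] V) (hg : ∀ x y, B (g x) (g y) = B x y)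
    (v : V) (c : F) : g * Tv B halt v c * g⁻¹ = Tv B halt (g v) c := by
  apply LinearEquiv.ext
  intro x
  rw [LinearEquiv.mul_apply, LinearEquiv.mul_apply, Tv_apply, Tv_apply, map_add, map_smul]
  have h1 : g (g⁻¹ x) = x := by
    rw [← LinearEquiv.mul_apply, mul_inv_cancel]; rfl
  have h2 : B (g⁻¹ x) v = B x (g v) := by
    rw [← hg (g⁻¹ x) v, h1]
  rw [h1, h2]

/-- the symplectic transvection of `U` as a linear equivalence, an isometry. -/
theorem exists_transvection_equiv (alt₁ : ∀ u, f₁ u u = 0) (e : U) (c : F) :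
    ∃ A : U ≃ₗ[F] U, (∀ u, A u = u + (c * f₁ u e) • e) ∧ ∀ u u', f₁ (A u) (A u') = f₁ u u' := by
  have hlin : (c • f₁.flip e) e = 0 := by
    show c * f₁ e e = 0
    rw [alt₁, mul_zero]
  refine ⟨LinearEquiv.transvection hlin, fun u => ?_, fun u u' => ?_⟩
  · rw [LinearEquiv.transvection.apply]; rfl
  · have hA : ∀ u, LinearEquiv.transvection hlin u = u + (c * f₁ u e) • e := by
      intro u
      rw [LinearEquiv.transvection.apply]; rfl
    rw [hA, hA]
    have hs := Cfsg.Agent.Helper3.TensOm.alt_skew f₁ alt₁ e u'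
    simp only [map_add, map_smul, LinearMap.add_apply, LinearMap.smul_apply, smul_eq_mul, alt₁]
    rw [hs]
    ring

/-- the reflection of `W` as a linear equivalence, an isometry. -/
theorem exists_reflection_equiv (symm₂ : ∀ w w', f₂ w w' = f₂ w' w) {y : W} (hy : f₂ y y ≠ 0) :
    ∃ C : W ≃ₗ[F] W, (∀ w, C w = w - (2 * f₂ w y / f₂ y y) • y) ∧
      ∀ w w', f₂ (C w) (C w') = f₂ w w' := by
  have hinv : Function.Involutive (reflL f₂ y) := by
    intro w
    rw [reflL_apply, reflL_apply]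
    have h1 : f₂ (w - (2 * f₂ w y / f₂ y y) • y) y = - f₂ w y := by
      rw [map_sub, LinearMap.sub_apply, map_smul, LinearMap.smul_apply, smul_eq_mul]
      field_simp
      ring
    rw [h1, sub_sub, ← add_smul]
    have h2 : 2 * f₂ w y / f₂ y y + 2 * -f₂ w y / f₂ y y = 0 := by ring
    rw [h2, zero_smul, sub_zero]
  refine ⟨LinearEquiv.ofInvolutive (reflL f₂ y) hinv, fun w => ?_, fun w w' => ?_⟩
  · show reflL f₂ y w = _
    rw [reflL_apply]
  · show f₂ (reflL f₂ y w) (reflL f₂ y w') = f₂ w w'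
    rw [reflL_apply, reflL_apply]
    simp only [map_sub, map_smul, LinearMap.sub_apply, LinearMap.smul_apply, smul_eq_mul]
    rw [symm₂ y w']
    field_simp
    ring

/-- **bridge**: the closure form of [SEED] gives the `Hyp`-form. -/
theorem seed_of_top (h : Hyp t B f₁ f₂ X)
    (HTOP : ∀ S : Set V, (0 : V) ∈ S → (∀ (a : F), ∀ v ∈ S, a • v ∈ S) →
      (∀ s ∈ S, ∀ x ∈ S, B s x ≠ 0 → s + x ∈ S) →
      (∀ (e : U) (c : F), ∃ g : V →ₗ[F] V,
        (∀ u w, g (t u w) = t (u + (c * f₁ u e) • e) w) ∧ ∀ v ∈ S, g v ∈ S) →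
      (∀ y : W, f₂ y y ≠ 0 → ∃ g : V →ₗ[F] V,
        (∀ u w, g (t u w) = t u (w - (2 * f₂ w y / f₂ y y) • y)) ∧ ∀ v ∈ S, g v ∈ S) →
      ∀ {u₀ : U} {w₀ : W}, u₀ ≠ 0 → w₀ ≠ 0 → t u₀ w₀ ∈ S → ∀ v, v ∈ S)
    (hTv : HasPureTv t B h.altB X) : ∀ (v : V) (c : F), Tv B h.altB v c ∈ X := by
  obtain ⟨u₀, w₀, hu₀, hw₀, hseed⟩ := hTv
  set S : Set V := {v | ∀ c : F, Tv B h.altB v c ∈ X} with hS
  have hinv : ∀ g ∈ X, ∀ v ∈ S, g v ∈ S := by
    intro g hg v hv c
    rw [← conj_Tv h.altB g (h.isom g hg) v c]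
    exact X.mul_mem (X.mul_mem hg (hv c)) (X.inv_mem hg)
  have key := HTOP S (fun c => by rw [Tv_zero]; exact X.one_mem)
    (fun a v hv c => by rw [Tv_smul]; exact hv _)
    (fun s hs x hx hsx c => by
      have hg := hx (B s x)⁻¹
      have e1 : Tv B h.altB x (B s x)⁻¹ s = s + x := by
        rw [Tv_apply, inv_mul_cancel₀ hsx, one_smul]
      have := hinv _ hg s hs c
      rwa [e1] at this)
    (fun e c => by
      obtain ⟨A, hA1, hA2⟩ := exists_transvection_equiv h.alt₁ e c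
      obtain ⟨g, hg, hgt⟩ := movSp h A hA2
      refine ⟨(g : V →ₗ[F] V), fun u w => ?_, fun v hv => hinv g hg v hv⟩
      show g (t u w) = _
      rw [hgt, hA1])
    (fun y hy => by
      obtain ⟨C, hC1, hC2⟩ := exists_reflection_equiv h.symm₂ hy
      obtain ⟨g, hg, hgt⟩ := movO h C hC2
      refine ⟨(g : V →ₗ[F] V), fun u w => ?_, fun v hv => hinv g hg v hv⟩
      show g (t u w) = _
      rw [hgt, hC1])
    hu₀ hw₀ hseed
  intro v c
  exact key v c

end Cfsg.Agent.Helper5.TensSpFin
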