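import Mathlib
import Cfsg.Agent.Helper1.Subnormal
import Cfsg.Agent.Helper1.SubnormalJoin
import Cfsg.Agent.Helper5.Replace

/-!
Helper lemmas (helper5): a Sylow subgroup meets the join of two subnormal subgroups in the join of
its intersections with them. Part 1: the reduction lemmas.
-/

set_option autoImplicit false

namespace Cfsg.Agent.Helper5

universe u

/-- the claim `(A₁ ⊔ A₂) ∩ S ≤ ⟨A₁ ∩ S, A₂ ∩ S⟩`. -/
def SylJoin {G : Type u} [Group G] {p : ℕ} (S : Sylow p G) (A₁ A₂ : Subgroup G) : Prop :=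
  (A₁ ⊔ A₂) ⊓ (S : Subgroup G) ≤ (A₁ ⊓ (S : Subgroup G)) ⊔ (A₂ ⊓ (S : Subgroup G))

theorem SylJoin.symm {G : Type u} [Group G] {p : ℕ} {S : Sylow p G} {A₁ A₂ : Subgroup G}
    (h : SylJoin S A₁ A₂) : SylJoin S A₂ A₁ := by
  unfold SylJoin at *
  rw [sup_comm A₂ A₁, sup_comm (A₂ ⊓ (S : Subgroup G))]
  exact h

/-- the induction hypothesis on the order of the group. -/
def SylJoinBelow (n : ℕ) : Prop :=
  ∀ m < n, ∀ (H : Type u) [Group H] [Finite H], Nat.card H = m → ∀ (p : ℕ) [Fact p.Prime]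
    (S : Sylow p H) (A₁ A₂ : Subgroup H), A₁.IsSubnormal → A₂.IsSubnormal → SylJoin S A₁ A₂

theorem sylJoin_of_proper {n : ℕ} (ih : SylJoinBelow.{u} n)
    {G : Type u} [Group G] [Finite G] (hn : Nat.card G = n) {p : ℕ} [Fact p.Prime] (S : Sylow p G)
    (A₁ A₂ J : Subgroup G) (h₁ : A₁.IsSubnormal) (h₂ : A₂.IsSubnormal) (hJ : J.IsSubnormal)
    (hJtop : J ≠ ⊤) (h₁J : A₁ ≤ J) (h₂J : A₂ ≤ J) : SylJoin S A₁ A₂ := by
  have hlt : Nat.card J < n := by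
    rw [← hn]
    exact lt_of_le_of_ne (Subgroup.card_le_card_group J)
      (fun h => hJtop (Subgroup.eq_top_of_card_eq J h))
  obtain ⟨Q, hQ⟩ := Cfsg.Agent.Helper1.sylow_inf_subnormal p J hJ S
  have key := ih _ hlt J rfl p Q (A₁.subgroupOf J) (A₂.subgroupOf J) h₁.subgroupOf h₂.subgroupOf
  intro x hx
  have hxJ : x ∈ J := (sup_le h₁J h₂J) hx.1
  have h1 : (⟨x, hxJ⟩ : J) ∈ (A₁.subgroupOf J ⊔ A₂.subgroupOf J) ⊓ (Q : Subgroup J) := by
    rw [Subgroup.mem_inf]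
    refine ⟨?_, ?_⟩
    · rw [← Subgroup.subgroupOf_sup h₁J h₂J, Subgroup.mem_subgroupOf]; exact hx.1
    · rw [hQ, Subgroup.mem_subgroupOf]; exact hx.2
  have h2 := key h1
  have h3 : x ∈ ((A₁.subgroupOf J ⊓ (Q : Subgroup J)) ⊔
      (A₂.subgroupOf J ⊓ (Q : Subgroup J))).map J.subtype := ⟨⟨x, hxJ⟩, h2, rfl⟩
  rw [Subgroup.map_sup] at h3
  have hle : ∀ A : Subgroup G,
      (A.subgroupOf J ⊓ (Q : Subgroup J)).map J.subtype ≤ A ⊓ (S : Subgroup G) := by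
    intro A
    rintro _ ⟨y, hy, rfl⟩
    obtain ⟨hy1, hy2⟩ := Subgroup.mem_inf.mp hy
    rw [hQ] at hy2
    exact Subgroup.mem_inf.mpr ⟨Subgroup.mem_subgroupOf.mp hy1, Subgroup.mem_subgroupOf.mp hy2⟩
  have h5 : (A₁.subgroupOf J ⊓ (Q : Subgroup J)).map J.subtype ⊔
      (A₂.subgroupOf J ⊓ (Q : Subgroup J)).map J.subtype ≤
      (A₁ ⊓ (S : Subgroup G)) ⊔ (A₂ ⊓ (S : Subgroup G)) := sup_le_sup (hle A₁) (hle A₂)
  exact h5 h3

theorem sylJoin_of_quotient {n : ℕ} (ih : SylJoinBelow.{u} n)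
    {G : Type u} [Group G] [Finite G] (hn : Nat.card G = n) {p : ℕ} [Fact p.Prime] (S : Sylow p G)
    (A₁ A₂ D : Subgroup G) (h₁ : A₁.IsSubnormal) (h₂ : A₂.IsSubnormal) (hDn : D.Normal)
    (hD : D ≠ ⊥) (hD₁ : D ≤ A₁) (hD₂ : D ≤ A₂) : SylJoin S A₁ A₂ := by
  have hlt : Nat.card (G ⧸ D) < n := by
    rw [← hn, ← Subgroup.card_mul_index D, Subgroup.index_eq_card]
    have h1 : 1 < Nat.card D := by
      rw [Subgroup.one_lt_card_iff_ne_bot]; exact hD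
    have h2 : 0 < Nat.card (G ⧸ D) := Nat.card_pos
    nlinarith
  have hsurj := QuotientGroup.mk'_surjective D
  have hS' : ((S.mapSurjective hsurj : Sylow p (G ⧸ D)) : Subgroup (G ⧸ D)) =
      (S : Subgroup G).map (QuotientGroup.mk' D) := Sylow.coe_mapSurjective hsurj S
  have key := ih _ hlt (G ⧸ D) rfl p (S.mapSurjective hsurj) (A₁.map (QuotientGroup.mk' D))
    (A₂.map (QuotientGroup.mk' D)) (h₁.map hsurj) (h₂.map hsurj)
  have hAS : ∀ A : Subgroup G, D ≤ A →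
      A.map (QuotientGroup.mk' D) ⊓ ((S.mapSurjective hsurj : Sylow p (G ⧸ D)) : Subgroup (G ⧸ D)) ≤
        (A ⊓ (S : Subgroup G)).map (QuotientGroup.mk' D) := by
    intro A hDA y hy
    obtain ⟨⟨a, ha, rfl⟩, hy2⟩ := hy
    rw [hS'] at hy2
    obtain ⟨s, hs, hsa⟩ := hy2
    have h1 : s⁻¹ * a ∈ D := QuotientGroup.eq.mp hsa
    have hsA : s ∈ A := by
      have : s = a * (s⁻¹ * a)⁻¹ := by group
      rw [this]; exact A.mul_mem ha (A.inv_mem (hDA h1))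
    exact ⟨s, ⟨hsA, hs⟩, hsa⟩
  intro x hx
  have h1 : (QuotientGroup.mk' D x) ∈ (A₁.map (QuotientGroup.mk' D) ⊔ A₂.map (QuotientGroup.mk' D)) ⊓
      ((S.mapSurjective hsurj : Sylow p (G ⧸ D)) : Subgroup (G ⧸ D)) := by
    rw [Subgroup.mem_inf]
    refine ⟨?_, ?_⟩
    · rw [← Subgroup.map_sup]; exact Subgroup.mem_map_of_mem _ hx.1
    · rw [hS']; exact Subgroup.mem_map_of_mem _ hx.2
  have h2 := key h1
  have h3 : QuotientGroup.mk' D x ∈
      ((A₁ ⊓ (S : Subgroup G)) ⊔ (A₂ ⊓ (S : Subgroup G))).map (QuotientGroup.mk' D) := by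
    rw [Subgroup.map_sup]
    exact (sup_le_sup (hAS A₁ hD₁) (hAS A₂ hD₂)) h2
  have h4 : x ∈ (((A₁ ⊓ (S : Subgroup G)) ⊔ (A₂ ⊓ (S : Subgroup G))).map
      (QuotientGroup.mk' D)).comap (QuotientGroup.mk' D) := h3
  rw [Subgroup.comap_map_eq, QuotientGroup.ker_mk'] at h4
  obtain ⟨t, ht, d, hd, rfl⟩ := Subgroup.mem_sup_of_normal_right.mp h4
  have hTS : (A₁ ⊓ (S : Subgroup G)) ⊔ (A₂ ⊓ (S : Subgroup G)) ≤ (S : Subgroup G) :=
    sup_le inf_le_right inf_le_right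
  have hdS : d ∈ (S : Subgroup G) := by
    have := (S : Subgroup G).mul_mem ((S : Subgroup G).inv_mem (hTS ht)) hx.2
    simpa using this
  exact Subgroup.mul_mem _ ht ((le_sup_left : A₁ ⊓ (S : Subgroup G) ≤ _) ⟨hD₁ hd, hdS⟩)

theorem card_inf_sylow_of_subnormal {G : Type u} [Group G] [Finite G] {p : ℕ} [Fact p.Prime]
    (S : Sylow p G) (A : Subgroup G) (hA : A.IsSubnormal) :
    Nat.card (A ⊓ (S : Subgroup G) : Subgroup G) = p ^ (Nat.card A).factorization p := by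
  obtain ⟨Q, hQ⟩ := Cfsg.Agent.Helper1.sylow_inf_subnormal p A hA S
  have h1 : Nat.card (Q : Subgroup A) = p ^ (Nat.card A).factorization p := Q.card_eq_multiplicity
  rw [← h1, hQ, inf_comm, ← Subgroup.subgroupOf_map_subtype,
    Subgroup.card_map_of_injective (Subgroup.subtype_injective _)]

theorem sylJoin_of_commute {G : Type u} [Group G] [Finite G] {p : ℕ} [Fact p.Prime]
    (S : Sylow p G) (A₁ A₂ : Subgroup G) (h₁ : A₁.IsSubnormal) (h₂ : A₂.IsSubnormal)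
    (htop : A₁ ⊔ A₂ = ⊤) (hD : A₁ ⊓ A₂ = ⊥) (hc : ∀ a ∈ A₁, ∀ b ∈ A₂, a * b = b * a) :
    (S : Subgroup G) ≤ (A₁ ⊓ (S : Subgroup G)) ⊔ (A₂ ⊓ (S : Subgroup G)) := by
  have hnorm : ∀ X Y : Subgroup G, X ≤ A₁ → Y ≤ A₂ → Y ≤ Subgroup.normalizer (X : Set G) := by
    intro X Y hX hY b hb
    rw [Subgroup.mem_normalizer_iff]
    intro a
    constructor
    · intro ha
      have := hc a (hX ha) b (hY hb)
      rw [← this, mul_inv_cancel_right]; exact ha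
    · intro ha
      have h1 := hc _ (hX ha) b (hY hb)
      have h2 : b * a = b * (b * a * b⁻¹) := by rw [← h1]; group
      rw [mul_left_cancel h2]; exact ha
  have hG : Nat.card G = Nat.card A₁ * Nat.card A₂ := by
    have := card_sup_mul_card_inf_of_le_normalizer A₁ A₂ (hnorm A₁ A₂ le_rfl le_rfl)
    rw [htop, hD, Subgroup.card_bot, mul_one, Subgroup.card_top] at this
    exact this
  have hT : Nat.card ((A₁ ⊓ (S : Subgroup G)) ⊔ (A₂ ⊓ (S : Subgroup G)) : Subgroup G) =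
      Nat.card (A₁ ⊓ (S : Subgroup G) : Subgroup G) *
        Nat.card (A₂ ⊓ (S : Subgroup G) : Subgroup G) := by
    have := card_sup_mul_card_inf_of_le_normalizer (A₁ ⊓ (S : Subgroup G)) (A₂ ⊓ (S : Subgroup G))
      (hnorm _ _ inf_le_left inf_le_left)
    have hbot : (A₁ ⊓ (S : Subgroup G)) ⊓ (A₂ ⊓ (S : Subgroup G)) = ⊥ := by
      rw [eq_bot_iff, ← hD]
      exact le_inf (inf_le_left.trans inf_le_left) (inf_le_right.trans inf_le_left)
    rw [hbot, Subgroup.card_bot, mul_one] at this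
    exact this
  have hTS : (A₁ ⊓ (S : Subgroup G)) ⊔ (A₂ ⊓ (S : Subgroup G)) ≤ (S : Subgroup G) :=
    sup_le inf_le_right inf_le_right
  have hcard : Nat.card (S : Subgroup G) ≤
      Nat.card ((A₁ ⊓ (S : Subgroup G)) ⊔ (A₂ ⊓ (S : Subgroup G)) : Subgroup G) := by
    rw [hT, card_inf_sylow_of_subnormal S A₁ h₁, card_inf_sylow_of_subnormal S A₂ h₂,
      S.card_eq_multiplicity, hG, Nat.factorization_mul Nat.card_pos.ne' Nat.card_pos.ne',
      Finsupp.add_apply, pow_add]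
  exact (Subgroup.eq_of_le_of_card_ge hTS hcard).ge

end Cfsg.Agent.Helper5
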