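import Mathlib
import Cfsg.Agent.Helper5.SubnormalSylow
import Cfsg.Agent.Helper5.Cores
import Cfsg.Agent.Helper1.Coprime
import Cfsg.Agent.Helper1.Fitting
import Cfsg.Agent.Helper2.Component
import Cfsg.Agent.Helper2.Quasisimple
import Cfsg.Agent.Helper2.SubnormalP

/-!
Helper lemmas (helper5): a Sylow subgroup meets the join of two subnormal subgroups in the join of
its intersections with them. Part 2: the extremal argument.
-/

set_option autoImplicit false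

namespace Cfsg.Agent.Helper5

open scoped commutatorElement

universe u

theorem isSubnormal_sup' {G : Type u} [Group G] [Finite G] {A B : Subgroup G}
    (hA : A.IsSubnormal) (hB : B.IsSubnormal) : (A ⊔ B).IsSubnormal :=
  Cfsg.Agent.Helper1.isSubnormal_sup_aux _ G rfl A B hA hB

theorem isQuasisimple_of_simple_nonabelian {X : Type*} [Group X] (hs : IsSimpleGroup X)
    (hna : ¬ IsMulCommutative X) : Cfsg.IsQuasisimple X := by
  have hperf : commutator X = ⊤ :=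
    Cfsg.Agent.Helper2.commutator_eq_top_of_simple_nonabelian hs hna
  have hcen : Subgroup.center X ≠ ⊤ := by
    intro h0
    apply hna
    refine ⟨⟨fun a b => ?_⟩⟩
    have : a ∈ Subgroup.center X := by rw [h0]; trivial
    exact (Subgroup.mem_center_iff.mp this b).symm
  refine ⟨⟨hperf⟩, ?_⟩
  have hnt : Nontrivial (X ⧸ Subgroup.center X) := QuotientGroup.nontrivial_iff.mpr hcen
  exact IsSimpleGroup.isSimpleGroup_of_surjective (QuotientGroup.mk' (Subgroup.center X))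
    (QuotientGroup.mk'_surjective _)

variable {G : Type u} [Group G] [Finite G] {p : ℕ} [Fact p.Prime]

/-- hypotheses of the extremal situation. -/
structure EndHyp (S : Sylow p G) (A₁ A₂ : Subgroup G) : Prop where
  h₁ : A₁.IsSubnormal
  h₂ : A₂.IsSubnormal
  htop : A₁ ⊔ A₂ = ⊤
  hnot : ¬ (S : Subgroup G) ≤ (A₁ ⊓ (S : Subgroup G)) ⊔ (A₂ ⊓ (S : Subgroup G))
  hP1 : ∀ B₁ B₂ J : Subgroup G, B₁.IsSubnormal → B₂.IsSubnormal → J.IsSubnormal → J ≠ ⊤ →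
    B₁ ≤ J → B₂ ≤ J → SylJoin S B₁ B₂
  hIH : ∀ B₁ B₂ : Subgroup G, B₁.IsSubnormal → B₂.IsSubnormal →
    Nat.card A₁ + Nat.card A₂ < Nat.card B₁ + Nat.card B₂ → SylJoin S B₁ B₂

theorem EndHyp.symm {S : Sylow p G} {A₁ A₂ : Subgroup G} (h : EndHyp S A₁ A₂) :
    EndHyp S A₂ A₁ :=
  ⟨h.h₂, h.h₁, by rw [sup_comm]; exact h.htop, by rw [sup_comm]; exact h.hnot, h.hP1,
    fun B₁ B₂ hB₁ hB₂ hlt => h.hIH B₁ B₂ hB₁ hB₂ (by omega)⟩

theorem EndHyp.key {S : Sylow p G} {A₁ A₂ : Subgroup G} (h : EndHyp S A₁ A₂)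
    (B J : Subgroup G) (hB : B.IsSubnormal) (hBA₂ : B ≤ A₂)
    (hJ : J.IsSubnormal) (hJtop : J ≠ ⊤) (hA₁J : A₁ ≤ J) (hBJ : B ≤ J) : B ≤ A₁ := by
  by_contra hBA₁
  apply h.hnot
  have hJ₁ : (A₁ ⊔ B).IsSubnormal := isSubnormal_sup' h.h₁ hB
  have hlt : Nat.card A₁ < Nat.card (A₁ ⊔ B : Subgroup G) := by
    by_contra hle
    push Not at hle
    have := Subgroup.eq_of_le_of_card_ge (le_sup_left : A₁ ≤ A₁ ⊔ B) hle
    apply hBA₁
    rw [this]; exact le_sup_right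
  have h3 := h.hP1 A₁ B J h.h₁ hB hJ hJtop hA₁J hBJ
  have h4 := h.hIH (A₁ ⊔ B) A₂ hJ₁ h.h₂ (by omega)
  unfold SylJoin at h3 h4
  have htop' : (A₁ ⊔ B) ⊔ A₂ = ⊤ := by
    rw [eq_top_iff, ← h.htop]
    exact sup_le (le_sup_left.trans le_sup_left) le_sup_right
  rw [htop', top_inf_eq] at h4
  refine h4.trans (sup_le (h3.trans (sup_le le_sup_left ?_)) le_sup_right)
  exact (inf_le_inf_right _ hBA₂).trans le_sup_right

theorem EndHyp.simple {S : Sylow p G} {A₁ A₂ : Subgroup G} (h : EndHyp S A₁ A₂)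
    (N₁ : Subgroup G) (hN₁ : N₁.Normal) (hN₁top : N₁ ≠ ⊤) (hA₁N₁ : A₁ ≤ N₁)
    (hD : A₁ ⊓ A₂ = ⊥) : IsSimpleGroup ↥A₂ := by
  have hAN : A₂ ⊓ N₁ = ⊥ := by
    rw [eq_bot_iff, ← hD]
    have := h.key (A₂ ⊓ N₁) N₁ (h.h₂.inf hN₁.isSubnormal) inf_le_left hN₁.isSubnormal hN₁top
      hA₁N₁ inf_le_right
    exact le_inf this inf_le_left
  have hA₂ne : A₂ ≠ ⊥ := by
    intro h0
    apply hN₁top
    rw [eq_top_iff, ← h.htop, h0, sup_bot_eq]; exact hA₁N₁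
  have hnt : Nontrivial ↥A₂ := (Subgroup.nontrivial_iff_ne_bot _).mpr hA₂ne
  refine ⟨fun R hR => ?_⟩
  by_cases hRb : R = ⊥
  · left; exact hRb
  right
  have hBle : R.map A₂.subtype ≤ A₂ := by
    rintro _ ⟨r, _, rfl⟩; exact r.2
  have hBsub : (R.map A₂.subtype).subgroupOf A₂ = R :=
    Subgroup.comap_map_eq_self_of_injective A₂.subtype_injective R
  have hB : (R.map A₂.subtype).IsSubnormal :=
    Subgroup.IsSubnormal.trans hBle (by rw [hBsub]; exact hR.isSubnormal) h.h₂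
  have hBne : R.map A₂.subtype ≠ ⊥ := by
    intro h0
    apply hRb
    exact (Subgroup.map_eq_bot_iff_of_injective R A₂.subtype_injective).mp h0
  have hBA₁ : ¬ R.map A₂.subtype ≤ A₁ := by
    intro hle
    apply hBne
    rw [eq_bot_iff, ← hD]; exact le_inf hle hBle
  have htop1 : A₁ ⊔ R.map A₂.subtype = ⊤ := by
    by_contra hne
    exact hBA₁ (h.key _ (A₁ ⊔ R.map A₂.subtype) hB hBle (isSubnormal_sup' h.h₁ hB) hne
      le_sup_left le_sup_right)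
  rw [eq_top_iff]
  intro x _
  have hx : (x : G) ∈ R.map A₂.subtype ⊔ N₁ := by
    have hle : (⊤ : Subgroup G) ≤ R.map A₂.subtype ⊔ N₁ := by
      rw [← htop1]; exact sup_le (hA₁N₁.trans le_sup_right) le_sup_left
    exact hle (Subgroup.mem_top _)
  obtain ⟨b, hb, n, hn, hbn⟩ := Subgroup.mem_sup_of_normal_right.mp hx
  have hn' : n ∈ A₂ ⊓ N₁ := by
    refine Subgroup.mem_inf.mpr ⟨?_, hn⟩
    have : n = b⁻¹ * x := by rw [← hbn]; group
    rw [this]; exact A₂.mul_mem (A₂.inv_mem (hBle hb)) x.2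
  rw [hAN, Subgroup.mem_bot] at hn'
  rw [hn', mul_one] at hbn
  obtain ⟨r, hr, hrb⟩ := hb
  have : r = x := Subtype.ext (hrb.trans hbn)
  rw [← this]; exact hr

theorem EndHyp.false {S : Sylow p G} {A₁ A₂ : Subgroup G} (h : EndHyp S A₁ A₂)
    (hP2 : ∀ B₁ B₂ D : Subgroup G, B₁.IsSubnormal → B₂.IsSubnormal → D.Normal → D ≠ ⊥ →
      D ≤ B₁ → D ≤ B₂ → SylJoin S B₁ B₂) : False := by
  have hA₁top : A₁ ≠ ⊤ := by
    intro h0; apply h.hnot; rw [h0, top_inf_eq]; exact le_sup_left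
  have hA₂top : A₂ ≠ ⊤ := by
    intro h0; apply h.hnot; rw [h0, top_inf_eq]; exact le_sup_right
  obtain ⟨N₁, hN₁, hA₁N₁, hN₁lt⟩ := h.h₁.exists_normal_and_le_and_lt_top_of_ne hA₁top
  obtain ⟨N₂, hN₂, hA₂N₂, hN₂lt⟩ := h.h₂.exists_normal_and_le_and_lt_top_of_ne hA₂top
  have hk₁ : A₂ ⊓ N₁ ≤ A₁ := h.key (A₂ ⊓ N₁) N₁ (h.h₂.inf hN₁.isSubnormal) inf_le_left
    hN₁.isSubnormal hN₁lt.ne hA₁N₁ inf_le_right
  have hk₂ : A₁ ⊓ N₂ ≤ A₂ := h.symm.key (A₁ ⊓ N₂) N₂ (h.h₁.inf hN₂.isSubnormal) inf_le_left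
    hN₂.isSubnormal hN₂lt.ne hA₂N₂ inf_le_right
  have hD₁ : A₁ ⊓ A₂ = A₂ ⊓ N₁ :=
    le_antisymm (le_inf inf_le_right (inf_le_left.trans hA₁N₁)) (le_inf hk₁ inf_le_left)
  have hD₂ : A₁ ⊓ A₂ = A₁ ⊓ N₂ :=
    le_antisymm (le_inf inf_le_left (inf_le_right.trans hA₂N₂)) (le_inf inf_le_left hk₂)
  have hDn : (A₁ ⊓ A₂).Normal := by
    have hle : A₁ ⊔ A₂ ≤ Subgroup.normalizer ((A₁ ⊓ A₂ : Subgroup G) : Set G) := by
      apply sup_le
      · rw [hD₂]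
        exact Cfsg.Agent.Helper1.le_normalizer_inf Subgroup.le_normalizer
          (by rw [Subgroup.normalizer_eq_top]; exact le_top)
      · rw [hD₁]
        exact Cfsg.Agent.Helper1.le_normalizer_inf Subgroup.le_normalizer
          (by rw [Subgroup.normalizer_eq_top]; exact le_top)
    rw [h.htop, top_le_iff] at hle
    exact Subgroup.normalizer_eq_top_iff.mp hle
  have hD : A₁ ⊓ A₂ = ⊥ := by
    by_contra hne
    apply h.hnot
    have := hP2 A₁ A₂ (A₁ ⊓ A₂) h.h₁ h.h₂ hDn hne inf_le_left inf_le_right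
    unfold SylJoin at this
    rwa [h.htop, top_inf_eq] at this
  have hs₂ : IsSimpleGroup ↥A₂ := h.simple N₁ hN₁ hN₁lt.ne hA₁N₁ hD
  have hs₁ : IsSimpleGroup ↥A₁ := h.symm.simple N₂ hN₂ hN₂lt.ne hA₂N₂ (by rw [inf_comm]; exact hD)
  have hA₁ne : A₁ ≠ ⊥ := (Subgroup.nontrivial_iff_ne_bot _).mp hs₁.toNontrivial
  have hA₂ne : A₂ ≠ ⊥ := (Subgroup.nontrivial_iff_ne_bot _).mp hs₂.toNontrivial
  have hcomm : (∀ a ∈ A₁, ∀ b ∈ A₂, a * b = b * a) → False := fun hc =>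
    h.hnot (sylJoin_of_commute S A₁ A₂ h.h₁ h.h₂ h.htop hD hc)
  have hcomm' : ⁅A₁, A₂⁆ = ⊥ → False := by
    intro h0
    apply hcomm
    intro a ha b hb
    have : ⁅a, b⁆ ∈ ⁅A₁, A₂⁆ := Subgroup.commutator_mem_commutator ha hb
    rw [h0, Subgroup.mem_bot, commutatorElement_eq_one_iff_mul_comm] at this
    exact this
  by_cases hc₂ : IsMulCommutative ↥A₂
  swap
  · have hq : Cfsg.IsQuasisimple ↥A₂ := isQuasisimple_of_simple_nonabelian hs₂ hc₂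
    rcases Cfsg.Agent.Helper2.component_le_or_commutator_eq_bot_of_isSubnormal A₂ A₁ ⟨h.h₂, hq⟩
      h.h₁ with hle | hbot
    · apply hA₂ne
      rw [eq_bot_iff, ← hD]; exact le_inf hle le_rfl
    · apply hcomm'
      rw [Subgroup.commutator_comm]; exact hbot
  by_cases hc₁ : IsMulCommutative ↥A₁
  swap
  · have hq : Cfsg.IsQuasisimple ↥A₁ := isQuasisimple_of_simple_nonabelian hs₁ hc₁
    rcases Cfsg.Agent.Helper2.component_le_or_commutator_eq_bot_of_isSubnormal A₁ A₂ ⟨h.h₁, hq⟩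
      h.h₂ with hle | hbot
    · apply hA₁ne
      rw [eq_bot_iff, ← hD]; exact le_inf le_rfl hle
    · exact hcomm' hbot
  have hq₂ : (Nat.card A₂).Prime := (Group.is_simple_iff_prime_card).mp hs₂
  have hq₁ : (Nat.card A₁).Prime := (Group.is_simple_iff_prime_card).mp hs₁
  have hf₁ : Fact (Nat.card A₁).Prime := ⟨hq₁⟩
  have hf₂ : Fact (Nat.card A₂).Prime := ⟨hq₂⟩
  have hp₁ : IsPGroup (Nat.card A₁) ↥A₁ := IsPGroup.of_card (n := 1) (pow_one _).symm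
  have hp₂ : IsPGroup (Nat.card A₂) ↥A₂ := IsPGroup.of_card (n := 1) (pow_one _).symm
  by_cases hrq : Nat.card A₁ = Nat.card A₂
  · by_cases hqp : Nat.card A₂ = p
    · apply h.hnot
      have h1 : A₁ ≤ (S : Subgroup G) := by
        apply Cfsg.Agent.Helper2.isSubnormal_pGroup_le_sylow h.h₁ _ S
        rw [← hqp, ← hrq]; exact hp₁
      have h2 : A₂ ≤ (S : Subgroup G) := by
        apply Cfsg.Agent.Helper2.isSubnormal_pGroup_le_sylow h.h₂ _ S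
        rw [← hqp]; exact hp₂
      rw [inf_eq_left.mpr h1, inf_eq_left.mpr h2, h.htop]; exact le_top
    · apply h.hnot
      obtain ⟨Q⟩ : Nonempty (Sylow (Nat.card A₂) G) := inferInstance
      have h1 : A₁ ≤ (Q : Subgroup G) := by
        apply Cfsg.Agent.Helper2.isSubnormal_pGroup_le_sylow h.h₁ _ Q
        rw [← hrq]; exact hp₁
      have h2 : A₂ ≤ (Q : Subgroup G) :=
        Cfsg.Agent.Helper2.isSubnormal_pGroup_le_sylow h.h₂ hp₂ Q
      have hQtop : (Q : Subgroup G) = ⊤ := by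
        rw [eq_top_iff, ← h.htop]; exact sup_le h1 h2
      have hSbot : (S : Subgroup G) = ⊥ := by
        have hdisj := IsPGroup.disjoint_of_ne p (Nat.card A₂) (Ne.symm hqp) (S : Subgroup G)
          (Q : Subgroup G) S.isPGroup' Q.isPGroup'
        rw [hQtop, disjoint_top] at hdisj
        exact hdisj
      rw [hSbot]; exact bot_le
  · apply hcomm'
    have h1 : A₁ ≤ Cfsg.pCore (Nat.card A₁) G :=
      Cfsg.Agent.Helper2.isSubnormal_pGroup_le_pCore h.h₁ hp₁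
    have h2 : A₂ ≤ Cfsg.pCore (Nat.card A₂) G :=
      Cfsg.Agent.Helper2.isSubnormal_pGroup_le_pCore h.h₂ hp₂
    rw [eq_bot_iff]
    calc ⁅A₁, A₂⁆ ≤ ⁅Cfsg.pCore (Nat.card A₁) G, Cfsg.pCore (Nat.card A₂) G⁆ :=
          Subgroup.commutator_mono h1 h2
      _ ≤ Cfsg.pCore (Nat.card A₁) G ⊓ Cfsg.pCore (Nat.card A₂) G :=
          Subgroup.commutator_le_inf _ _
      _ ≤ ⊥ := (IsPGroup.disjoint_of_ne (Nat.card A₁) (Nat.card A₂) hrq _ _
          (isPGroup_pCore _) (isPGroup_pCore _)).le_bot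

omit [Finite G] [Fact (Nat.Prime p)] in
theorem sylJoin_core [Finite G] [Fact p.Prime] (S : Sylow p G)
    (hP1 : ∀ B₁ B₂ J : Subgroup G, B₁.IsSubnormal → B₂.IsSubnormal → J.IsSubnormal → J ≠ ⊤ →
      B₁ ≤ J → B₂ ≤ J → SylJoin S B₁ B₂)
    (hP2 : ∀ B₁ B₂ D : Subgroup G, B₁.IsSubnormal → B₂.IsSubnormal → D.Normal → D ≠ ⊥ →
      D ≤ B₁ → D ≤ B₂ → SylJoin S B₁ B₂) :
    ∀ (d : ℕ) (A₁ A₂ : Subgroup G), A₁.IsSubnormal → A₂.IsSubnormal →
      2 * Nat.card G - (Nat.card A₁ + Nat.card A₂) = d → SylJoin S A₁ A₂ := by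
  intro d
  induction d using Nat.strong_induction_on with
  | _ d ih =>
    intro A₁ A₂ h₁ h₂ hd
    by_cases hJ : A₁ ⊔ A₂ = ⊤
    · by_contra hnot
      have hnot' : ¬ (S : Subgroup G) ≤ (A₁ ⊓ (S : Subgroup G)) ⊔ (A₂ ⊓ (S : Subgroup G)) := by
        intro h0
        apply hnot
        unfold SylJoin
        rw [hJ, top_inf_eq]; exact h0
      refine EndHyp.false ⟨h₁, h₂, hJ, hnot', hP1, ?_⟩ hP2
      intro B₁ B₂ hB₁ hB₂ hlt
      have hb₁ := Subgroup.card_le_card_group B₁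
      have hb₂ := Subgroup.card_le_card_group B₂
      exact ih (2 * Nat.card G - (Nat.card B₁ + Nat.card B₂)) (by omega) B₁ B₂ hB₁ hB₂ rfl
    · exact hP1 A₁ A₂ (A₁ ⊔ A₂) h₁ h₂ (isSubnormal_sup' h₁ h₂) hJ le_sup_left le_sup_right

theorem sylJoin_aux : ∀ (n : ℕ) (G : Type u) [Group G] [Finite G], Nat.card G = n →
    ∀ (p : ℕ) [Fact p.Prime] (S : Sylow p G) (A₁ A₂ : Subgroup G), A₁.IsSubnormal →
      A₂.IsSubnormal → SylJoin S A₁ A₂ := by
  intro n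
  induction n using Nat.strong_induction_on with
  | _ n ih =>
    intro G _ _ hn p _ S A₁ A₂ h₁ h₂
    have ih' : SylJoinBelow.{u} n := ih
    exact sylJoin_core S
      (fun B₁ B₂ J hB₁ hB₂ hJ hJt h1 h2 => sylJoin_of_proper ih' hn S B₁ B₂ J hB₁ hB₂ hJ hJt h1 h2)
      (fun B₁ B₂ D hB₁ hB₂ hDn hD h1 h2 =>
        sylJoin_of_quotient ih' hn S B₁ B₂ D hB₁ hB₂ hDn hD h1 h2) _ A₁ A₂ h₁ h₂ rfl

/-- A Sylow subgroup meets the join of two subnormal subgroups in the join of the intersections. -/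
theorem sylow_inf_sup_subnormal {G : Type u} [Group G] [Finite G] {p : ℕ} [Fact p.Prime]
    (S : Sylow p G) (A₁ A₂ : Subgroup G) (h₁ : A₁.IsSubnormal) (h₂ : A₂.IsSubnormal) :
    (A₁ ⊔ A₂) ⊓ (S : Subgroup G) = (A₁ ⊓ (S : Subgroup G)) ⊔ (A₂ ⊓ (S : Subgroup G)) :=
  le_antisymm (sylJoin_aux _ G rfl p S A₁ A₂ h₁ h₂)
    (sup_le (inf_le_inf_right _ le_sup_left) (inf_le_inf_right _ le_sup_right))

end Cfsg.Agent.Helper5
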