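import Mathlib
import Cfsg.Prelude.Def_GeometricClasses
import Cfsg.Agent.Lead.AschBase
import Cfsg.Agent.Lead.AschOBase
import Cfsg.Agent.Helper1.AschSpTensA
import Cfsg.Agent.Helper5.AschForm5
import Cfsg.Agent.Helper5.AschForm8
import Cfsg.Agent.Helper5.AschForm9
import Cfsg.Agent.Helper5.AschGramForm
import Cfsg.Agent.Helper8.AschSpTensE
import Cfsg.Agent.Helper8.SpEvenH
import Cfsg.Agent.Helper9.AschCompForms
import Cfsg.Agent.Helper9.AschCompNotSL

/-!
# ASCH-OM, piece M3a `tensor_form_orth`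

The tensor Gram decomposition `B ⊗ G` of the polar form of a quadratic form: `Gᵀ = c G` by uniqueness of the
`ρ(N)`-invariant form, `c = ± 1`, then `Bᵀ = c B`; in characteristic two both factors are alternating because `H`
is irreducible (helper8's `tensor_even_reducible`).
-/

set_option autoImplicit false
set_option linter.style.haveILetI false
set_option linter.unusedSectionVars false
set_option linter.unusedVariables false

namespace Cfsg.Agent.Helper5.AschOm

open Cfsg Cfsg.Geo Cfsg.Agent.Lead.Asch Cfsg.Agent.Lead.AschO Cfsg.Agent.Helper5.AschF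
open Cfsg.Agent.Helper5.GramForm
open scoped MatrixGroups Matrix Kronecker

variable {n : ℕ} {F : Type*} [Field F] [Fintype F]

/-- the sign pattern of the two factors of a symmetric Kronecker product -/
theorem kron_sign_symm {d e : ℕ} (hd : 0 < d) {B : Matrix (Fin e) (Fin e) F} {G : Matrix (Fin d) (Fin d) F}
    {R : Set (Matrix (Fin d) (Fin d) F)} (hR : ActsAbsolutelyIrreducibly R) (hRu : ∀ r ∈ R, IsUnit r.det)
    (hinv : ∀ r ∈ R, rᵀ * G * r = G) (hG : IsUnit G.det)
    (hS : ∀ (a b : Fin e) (i j : Fin d), B a b * G i j = B b a * G j i) :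
    ∃ c : F, (c = 1 ∨ c = -1) ∧ Gᵀ = c • G ∧ Bᵀ = c • B := by
  classical
  haveI : Nonempty (Fin d) := ⟨⟨0, hd⟩⟩
  have hG0 : G ≠ 0 := by
    rintro rfl
    rw [Matrix.det_zero] at hG
    exact not_isUnit_zero hG
  have hmapid : ∀ M : Matrix (Fin d) (Fin d) F, M.map (RingHom.id F) = M := fun M => by
    ext i j
    rfl
  have hG1 : ∀ r ∈ R, GramInv (RingHom.id F) r G := by
    intro r hr
    show rᵀ * G * r.map (RingHom.id F) = G
    rw [hmapid]
    exact hinv r hr
  have hG2 : ∀ r ∈ R, GramInv (RingHom.id F) r Gᵀ := by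
    intro r hr
    show rᵀ * Gᵀ * r.map (RingHom.id F) = Gᵀ
    rw [hmapid]
    have := congrArg Matrix.transpose (hinv r hr)
    rw [Matrix.transpose_mul, Matrix.transpose_mul, Matrix.transpose_transpose, ← mul_assoc] at this
    exact this
  obtain ⟨c, hc⟩ := gram_unique (RingHom.id F) hR hRu hG1 hG2 hG0
  have hcc : c * c = 1 := by
    have h1 : G = (c * c) • G := by
      conv_lhs => rw [← Matrix.transpose_transpose G, hc, Matrix.transpose_smul, hc, smul_smul]
    by_contra hne1
    apply hG0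
    have h3 : (1 - c * c) • G = 0 := by rw [sub_smul, one_smul, ← h1, sub_self]
    rcases smul_eq_zero.1 h3 with h4 | h4
    · exact absurd (sub_eq_zero.1 h4).symm hne1
    · exact h4
  have hc1 : c = 1 ∨ c = -1 := by
    have : (c - 1) * (c + 1) = 0 := by linear_combination hcc
    rcases mul_eq_zero.1 this with h | h
    · left; exact sub_eq_zero.1 h
    · right; exact eq_neg_of_add_eq_zero_left h
  obtain ⟨i0, j0, hij⟩ : ∃ i j, G i j ≠ 0 := by
    by_contra hcon
    push Not at hcon
    apply hG0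
    ext i j
    exact hcon i j
  refine ⟨c, hc1, hc, ?_⟩
  ext a b
  have h1 := hS a b i0 j0
  have h2 : G j0 i0 = c * G i0 j0 := by
    have := congrFun (congrFun hc i0) j0
    rw [Matrix.transpose_apply, Matrix.smul_apply, smul_eq_mul] at this
    exact this
  rw [h2] at h1
  have h3 : B a b = c * B b a := by
    apply mul_right_cancel₀ hij
    rw [h1]
    ring
  rw [Matrix.transpose_apply, Matrix.smul_apply, smul_eq_mul, h3, ← mul_assoc, hcc, one_mul]

/-- M3a -/
theorem tensor_form_orth (hn : 0 < n) (Q : (Fin n → F) → F) (hQ : IsNondegenerateQuadraticForm Q)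
    {H N : Subgroup (GL (Fin n) F)} (hHI : H ≤ isometryGroup F Q) (hirr : ActsIrreducibly (matrixSet H))
    (hNH : N ≤ H) {d e : ℕ} (hd : 2 ≤ d) (he : 2 ≤ e)
    (eqv : Fin n ≃ Fin e × Fin d) (P : GL (Fin n) F) (ρ : N →* GL (Fin d) F)
    (hρ : ∀ x : N, ((x : GL (Fin n) F) : Matrix (Fin n) (Fin n) F) * (P : Matrix (Fin n) (Fin n) F) =
      (P : Matrix (Fin n) (Fin n) F) * ((1 : Matrix (Fin e) (Fin e) F) ⊗ₖ
        ((ρ x : GL (Fin d) F) : Matrix (Fin d) (Fin d) F)).submatrix eqv eqv)
    (habs : ActsAbsolutelyIrreducibly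
      (Set.range fun x : N => ((ρ x : GL (Fin d) F) : Matrix (Fin d) (Fin d) F)))
    (hle : H ≤ tensorProductSubgroup e d eqv P) :
    ∃ (f₁ : (Fin e → F) → (Fin e → F) → F) (f₂ : (Fin d → F) → (Fin d → F) → F),
      ((IsSymplecticForm f₁ ∧ IsSymplecticForm f₂) ∨
        (Odd (Fintype.card F) ∧ IsSymmetricForm f₁ ∧ IsSymmetricForm f₂)) ∧
      IsTensorFormStructure id (QuadraticMap.polar Q) f₁ f₂ eqv P := by
  classical
  have hf := RForm.of_quadratic hQ
  have hN := isom_of_le_isometryGroup (hNH.trans hHI)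
  obtain ⟨B, G, hBu, hGu, hinv, hform, hT⟩ := tensorFormStructure_of_matrix_form hn hf hN eqv P
    (fun x => ((ρ x : GL (Fin d) F) : Matrix (Fin d) (Fin d) F)) hρ
    (fun x => Matrix.isUnits_det_units _) habs
  have hform' : ∀ x y : Fin e × Fin d → F,
      QuadraticMap.polar Q ((P : Matrix (Fin n) (Fin n) F) *ᵥ (x ∘ eqv))
        ((P : Matrix (Fin n) (Fin n) F) *ᵥ (y ∘ eqv)) = formOfGram id (B ⊗ₖ G) x y := hform
  have hT' : IsTensorFormStructure id (QuadraticMap.polar Q) (formOfGram id B) (formOfGram id G) eqv P := hT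
  have hinv' : ∀ r ∈ (Set.range fun x : N => ((ρ x : GL (Fin d) F) : Matrix (Fin d) (Fin d) F)),
      rᵀ * G * r = G := by
    rintro _ ⟨x, rfl⟩
    have h1 := hinv x
    have h2 : (((ρ x : GL (Fin d) F) : Matrix (Fin d) (Fin d) F)).map (RingEquiv.refl F) =
        ((ρ x : GL (Fin d) F) : Matrix (Fin d) (Fin d) F) := by
      ext i j
      rfl
    rw [h2] at h1
    exact h1
  have hRu : ∀ r ∈ (Set.range fun x : N => ((ρ x : GL (Fin d) F) : Matrix (Fin d) (Fin d) F)),
      IsUnit r.det := by
    rintro _ ⟨x, rfl⟩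
    exact Matrix.isUnits_det_units _
  have hS : ∀ (a b : Fin e) (i j : Fin d), B a b * G i j = B b a * G j i := by
    intro a b i j
    have h1 := hform' (Pi.single (a, i) 1) (Pi.single (b, j) 1)
    have h2 := hform' (Pi.single (b, j) 1) (Pi.single (a, i) 1)
    rw [QuadraticMap.polar_comm, h2] at h1
    have e1 : formOfGram id (B ⊗ₖ G) (Pi.single (a, i) 1) (Pi.single (b, j) 1) = (B ⊗ₖ G) (a, i) (b, j) :=
      formOfGram_single (RingHom.id F) (B ⊗ₖ G) (a, i) (b, j)
    have e2 : formOfGram id (B ⊗ₖ G) (Pi.single (b, j) 1) (Pi.single (a, i) 1) = (B ⊗ₖ G) (b, j) (a, i) :=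
      formOfGram_single (RingHom.id F) (B ⊗ₖ G) (b, j) (a, i)
    rw [e1, e2, Matrix.kroneckerMap_apply, Matrix.kroneckerMap_apply] at h1
    exact h1.symm
  obtain ⟨c, hc1, hGc, hBc⟩ := kron_sign_symm (by omega) habs hRu hinv' hGu hS
  by_cases h2 : (2 : F) = 0
  · -- characteristic two
    have hneg1 : (-1 : F) = 1 := by linear_combination (-1 : F) * h2
    have hc : c = 1 := by
      rcases hc1 with h | h
      · exact h
      · rw [h, hneg1]
    rw [hc, one_smul] at hGc hBc
    have hnegM : ∀ {k : ℕ} (M : Matrix (Fin k) (Fin k) F), -M = M := by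
      intro k M
      ext i j
      rw [Matrix.neg_apply]
      linear_combination (-(M i j)) * h2
    have hheven : ¬ Odd (Fintype.card F) := fun ho => two_ne_zero_of_odd_card ho h2
    have hfs := Cfsg.Agent.Helper9.AschCompK.polar_symplectic_of_even hheven Q hQ
    have hfix : FixesForm (matrixSet H) (QuadraticMap.polar Q) := by
      apply Cfsg.Agent.Helper9.AschCompK.fixesForm_polar Q
      rintro _ ⟨h, hh, rfl⟩ v
      exact mem_isometryGroup_iff.1 (hHI hh) v
    have hBd : ∀ a, B a a = 0 := by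
      intro a
      by_contra hne
      exact Cfsg.Agent.Helper8.AschSp.tensor_even_reducible h2 hfs hirr hfix he (by omega) eqv P hle B G hBu hGu
        hform' ⟨a, hne⟩
    have hGd : ∀ i, G i i = 0 := by
      intro i
      by_contra hne
      refine Cfsg.Agent.Helper8.AschSp.tensor_even_reducible h2 hfs hirr hfix hd (by omega)
        (eqv.trans (Equiv.prodComm (Fin e) (Fin d))) P ?_ G B hGu hBu ?_ ⟨i, hne⟩
      · rw [← Cfsg.Agent.Helper9.AschComp.tensorProductSubgroup_swap]
        exact hle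
      · intro x y
        have := hform' (x ∘ Equiv.prodComm (Fin e) (Fin d)) (y ∘ Equiv.prodComm (Fin e) (Fin d))
        rw [Cfsg.Agent.Helper8.SpEven.formOfGram_kron_swap] at this
        exact this
    refine ⟨formOfGram id B, formOfGram id G, Or.inl ⟨?_, ?_⟩, hT'⟩
    · exact Cfsg.Agent.Helper1.AschSp.fog_symplectic (by rw [hBc, hnegM]) hBd hBu
    · exact Cfsg.Agent.Helper1.AschSp.fog_symplectic (by rw [hGc, hnegM]) hGd hGu
  · -- odd characteristic
    have hodd : Odd (Fintype.card F) := by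
      by_contra hno
      apply h2
      have hchar : ringChar F = 2 := by
        apply FiniteField.even_card_iff_char_two.mpr
        rcases Nat.even_or_odd (Fintype.card F) with h | h
        · exact Nat.even_iff.mp h
        · exact absurd h hno
      have h3 := ringChar.Nat.cast_ringChar (R := F)
      rw [hchar] at h3
      exact_mod_cast h3
    rcases hc1 with h1 | h1
    · rw [h1, one_smul] at hGc hBc
      exact ⟨formOfGram id B, formOfGram id G, Or.inr ⟨hodd, Cfsg.Agent.Helper1.AschSp.fog_symmetric hBc hBu,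
        Cfsg.Agent.Helper1.AschSp.fog_symmetric hGc hGu⟩, hT'⟩
    · rw [h1, neg_one_smul] at hGc hBc
      have hdiag : ∀ {k : ℕ} (M : Matrix (Fin k) (Fin k) F), Mᵀ = -M → ∀ a, M a a = 0 := by
        intro k M hM a
        have h3 := congrFun (congrFun hM a) a
        rw [Matrix.transpose_apply, Matrix.neg_apply] at h3
        have h4 : (2 : F) * M a a = 0 := by linear_combination h3
        rcases mul_eq_zero.1 h4 with h5 | h5
        · exact absurd h5 h2
        · exact h5
      exact ⟨formOfGram id B, formOfGram id G, Or.inl ⟨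
        Cfsg.Agent.Helper1.AschSp.fog_symplectic hBc (hdiag B hBc) hBu,
        Cfsg.Agent.Helper1.AschSp.fog_symplectic hGc (hdiag G hGc) hGu⟩, hT'⟩

end Cfsg.Agent.Helper5.AschOm
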