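import Mathlib
import Cfsg.Prelude.Def_GeometricClasses
import Cfsg.Agent.Lead.AschBase
import Cfsg.Agent.Lead.AschOBase
import Cfsg.Agent.Helper7.AschSpT33
import Cfsg.Agent.Helper9.AschCompForms

/-!
# ASCH-OM, piece M3e `tensor_sym_three_small`

Over the field with three elements, `O_3(3) ⊗ O_{n₂}(3)` stabilises a decomposition into three pairwise isometric
non-degenerate `n₂`-spaces (a ternary symmetric form over `F_3` is `± (x² + y² + z²)` and its similarities are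
monomial).  The three-dimensional factor comes first.
-/

set_option autoImplicit false
set_option linter.style.haveILetI false
set_option linter.unusedSectionVars false
set_option linter.unusedVariables false

namespace Cfsg.Agent.Helper5.AschOm

open Cfsg Cfsg.Geo Cfsg.Agent.Lead.Asch Cfsg.Agent.Lead.AschO Cfsg.Agent.Helper7.TensNM
  Cfsg.Agent.Helper7.AschSpT33
open scoped MatrixGroups Matrix Kronecker

variable {n : ℕ} {F : Type*} [Field F]

section blocks

variable {ι : Type} [Fintype ι] [DecidableEq ι] {t : ℕ} {J : Type} [Fintype J] [DecidableEq J]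

/-- the block `blk R l` is a copy of `F^J` -/
def blkEquiv (R : Matrix ι (Fin t × J) F) (R' : Matrix (Fin t × J) ι F) (h1 : R * R' = 1) (h2 : R' * R = 1)
    (l : Fin t) : (J → F) ≃ₗ[F] blk R l :=
  (suppEquiv (F := F) (J := J) l).trans ((cEquiv R R' h1 h2).submoduleMap (supp F J l))

theorem blkEquiv_apply (R : Matrix ι (Fin t × J) F) (R' : Matrix (Fin t × J) ι F) (h1 : R * R' = 1)
    (h2 : R' * R = 1) (l : Fin t) (y : J → F) :
    ((blkEquiv R R' h1 h2 l y : blk R l) : ι → F) = R *ᵥ pt (ev F l) y := rfl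

/-- the blocks of a frame are pairwise isometric for a quadratic form whose polar form is the form of the frame
(`2 ≠ 0`) -/
theorem blk_isometric {R : Matrix ι (Fin t × J) F} {R' : Matrix (Fin t × J) ι F} {σ : F →+* F}
    {Q : (ι → F) → F} {G₂ : Matrix J J F} {c : F} (h : Frame R R' σ (QuadraticMap.polar Q) G₂ c)
    (h2 : (2 : F) ≠ 0) (hpol : ∀ v, QuadraticMap.polar Q v v = 2 * Q v) (i j : Fin t) :
    AreIsometricFor Q (blk R i) (blk R j) := by
  refine ⟨(blkEquiv R R' h.RR' h.R'R i).symm.trans (blkEquiv R R' h.RR' h.R'R j), ?_⟩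
  intro w
  obtain ⟨y, rfl⟩ := (blkEquiv R R' h.RR' h.R'R i).surjective w
  rw [LinearEquiv.trans_apply, LinearEquiv.symm_apply_apply, blkEquiv_apply, blkEquiv_apply]
  have hi := h.form_ev i i y y
  have hj := h.form_ev j j y y
  rw [if_pos rfl, hpol] at hi hj
  have h3 : (2 : F) * Q (R *ᵥ pt (ev F j) y) = 2 * Q (R *ᵥ pt (ev F i) y) := by rw [hi, hj]
  exact mul_left_cancel₀ h2 h3

end blocks

/-- M3e -/
theorem tensor_sym_three_small [Fintype F] (hq : Fintype.card F = 3) (Q : (Fin n → F) → F)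
    (hQ : IsNondegenerateQuadraticForm Q) {H : Subgroup (GL (Fin n) F)} (hHI : H ≤ isometryGroup F Q)
    {n₂ : ℕ} (hn₂ : 0 < n₂) (e : Fin n ≃ Fin 3 × Fin n₂) (P : GL (Fin n) F)
    (f₁ : (Fin 3 → F) → (Fin 3 → F) → F) (f₂ : (Fin n₂ → F) → (Fin n₂ → F) → F)
    (h₁ : IsSymmetricForm f₁) (h₂ : IsSymmetricForm f₂)
    (hT : IsTensorFormStructure id (QuadraticMap.polar Q) f₁ f₂ e P)
    (hle : H ≤ tensorProductSubgroup 3 n₂ e P) :
    ∃ D : Fin 3 → Submodule F (Fin n → F), IsOrthogonalMDecomposition Q n₂ D ∧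
      H ≤ decompositionStabilizer D := by
  classical
  have h2 : (2 : F) ≠ 0 := by
    rw [two_eq_neg_one hq]
    exact neg_ne_zero.mpr one_ne_zero
  have hpol : ∀ v, QuadraticMap.polar Q v v = 2 * Q v := by
    intro v
    unfold QuadraticMap.polar
    have h3 : v + v = (2 : F) • v := (two_smul F v).symm
    rw [h3, hQ.smul]
    ring
  obtain ⟨c, hc, hform⟩ := hT
  obtain ⟨U, U', ε, hU, hU', hε, hG⟩ := frame_F3 hq (gramMatrix f₁) (gram_transpose h₁.symm)
    (gram_nondegenerate h₁.bilinear h₁.nondegenerate)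
  have hf : ∀ (u u' : Fin 3 → F) (y y' : Fin n₂ → F),
      QuadraticMap.polar Q (Rm e P *ᵥ pt u y) (Rm e P *ᵥ pt u' y') =
        c * (formOfGram (RingHom.id F) (gramMatrix f₁) u u' * formOfGram (RingHom.id F) (gramMatrix f₂) y y') := by
    intro u u' y y'
    rw [← mulVec_comp, ← mulVec_comp, hform]
    have h1 := formOfGram_pt (RingHom.id F) (gramMatrix f₁) (gramMatrix f₂) u u' y y'
    exact congrArg (fun z => c * z) h1
  have hgram : ∀ y y' : Fin n₂ → F, formOfGram (RingHom.id F) (gramMatrix f₂) y y' = f₂ y y' :=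
    fun y y' => (form_eq_gram h₂.bilinear y y').symm
  let y₀ : Fin n₂ → F := Pi.single ⟨0, hn₂⟩ 1
  have hy₀ : y₀ ≠ 0 := by
    intro h
    have := congrFun h ⟨0, hn₂⟩
    simp only [y₀, Pi.single_eq_same, Pi.zero_apply] at this
    exact one_ne_zero this
  obtain ⟨x₀, hx₀⟩ := (h₂.nondegenerate y₀ hy₀).1
  have hnz : ∃ y y', formOfGram (RingHom.id F) (gramMatrix f₂) y y' ≠ 0 := ⟨x₀, y₀, by rw [hgram]; exact hx₀⟩
  have hG' : Uᵀ * gramMatrix f₁ * U.map (RingHom.id F) = ε • (1 : Matrix (Fin 3) (Fin 3) F) := by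
    have : U.map (RingHom.id F) = U := by
      ext i j; rfl
    rw [this]
    exact hG
  have hFr := frame_of (Rm_mul_Rm' e P) (Rm'_mul_Rm e P) hc hf hU hU' hε hG' hnz
  obtain ⟨R, hR⟩ : ∃ R, R = Rm e P * (U ⊗ₖ (1 : Matrix (Fin n₂) (Fin n₂) F)) := ⟨_, rfl⟩
  obtain ⟨R', hR'⟩ : ∃ R', R' = (U' ⊗ₖ (1 : Matrix (Fin n₂) (Fin n₂) F)) * Rm' e P := ⟨_, rfl⟩
  rw [← hR, ← hR'] at hFr
  have hrep : ∀ g ∈ tensorProductSubgroup 3 n₂ e P, ∃ (B : Matrix (Fin 3) (Fin 3) F) (a : GL (Fin n₂) F),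
      (g : Matrix (Fin n) (Fin n) F) = R * (B ⊗ₖ (a : Matrix (Fin n₂) (Fin n₂) F)) * R' := by
    intro g hg
    obtain ⟨b, a, hab⟩ := mem_tensor hg
    refine ⟨U' * (b : Matrix (Fin 3) (Fin 3) F) * U, a, ?_⟩
    rw [hR, hR']
    exact conj_of hU hab
  have hcard : Fintype.card (Fin n₂) = n₂ := Fintype.card_fin n₂
  have hfix : FixesForm (matrixSet H) (QuadraticMap.polar Q) := by
    apply Cfsg.Agent.Helper9.AschCompK.fixesForm_polar Q
    rintro _ ⟨g, hg, rfl⟩ v
    exact mem_isometryGroup_iff.1 (hHI hg) v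
  refine ⟨blk R, ⟨?_, ?_⟩, ?_⟩
  · have h := blk_nondeg hFr (by norm_num) (by rw [hcard]; exact hn₂) (by
      intro y hy
      obtain ⟨⟨y₁, h₁'⟩, ⟨y₂, h₂'⟩⟩ := h₂.nondegenerate y hy
      exact ⟨⟨y₁, by rw [hgram]; exact h₁'⟩, ⟨y₂, by rw [hgram]; exact h₂'⟩⟩)
    rwa [hcard] at h
  · exact blk_isometric hFr h2 hpol
  · intro g hg
    obtain ⟨B, a, hgR⟩ := hrep g (hle hg)
    refine hFr.stab (mono_F3 hq) (A := (a : Matrix (Fin n₂) (Fin n₂) F))
      (A' := ((a⁻¹ : GL (Fin n₂) F) : Matrix (Fin n₂) (Fin n₂) F)) ?_ hgR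
      (fun x y => hfix _ ⟨g, hg, rfl⟩ x y)
    rw [← Units.val_mul, mul_inv_cancel, Units.val_one]

end Cfsg.Agent.Helper5.AschOm
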