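import Mathlib
import Cfsg.Agent.Lead.BswDefs
import Cfsg.Agent.Lead.Bsw_A1_12
import Cfsg.Agent.Helper7.Bsw_B1_9
import Cfsg.Agent.Helper9.Bsw_B10_17
import Cfsg.Agent.Helper5.Bsw_A21_27

/-!
# S3282 (abstract Brauer–Suzuki–Wall), group side, pieces B18–B23 (helper5)
-/

set_option autoImplicit false
set_option linter.unusedVariables false
set_option linter.unusedSectionVars false
set_option linter.style.longLine false
set_option linter.style.haveILetI false

namespace Cfsg.Agent.Lead.Bsw
variable {G : Type*} [Group G] [Finite G] {t s : G} {K : Subgroup G}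

/-- no involution in a subgroup of odd order -/
theorem h5_no_inv_of_odd {A : Subgroup G} (hA : Odd (Nat.card A)) {v : G} (hv : orderOf v = 2) :
    v ∉ A := by
  intro hvA
  have h1 : orderOf (⟨v, hvA⟩ : ↥A) = 2 := by
    rw [← hv]; exact Subgroup.orderOf_mk v hvA
  have h2 : orderOf (⟨v, hvA⟩ : ↥A) ∣ Nat.card A := orderOf_dvd_natCard _
  rw [h1] at h2
  obtain ⟨m, hm⟩ := hA
  omega

-- B18 : TI
theorem torus_TI (h : Hyp t K s) {y g : G} (hy : IsTorusElt y)
    (hne : Subgroup.centralizer ({y} : Set G) ⊓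
      (Subgroup.centralizer ({y} : Set G)).map (MulAut.conj g).toMonoidHom ≠ ⊥) :
    (Subgroup.centralizer ({y} : Set G)).map (MulAut.conj g).toMonoidHom =
      Subgroup.centralizer ({y} : Set G) := by
  obtain ⟨a, ha⟩ := Subgroup.ne_bot_iff_exists_ne_one.1 hne
  have haG : (a : G) ≠ 1 := fun h1 => ha (Subtype.ext h1)
  have hmem := a.2
  rw [Subgroup.mem_inf, h5_mem_map_conj] at hmem
  obtain ⟨h1, h2⟩ := hmem
  set b := g⁻¹ * (a : G) * g with hb
  have hab : (a : G) = g * b * g⁻¹ := by rw [hb]; group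
  have hb1 : b ≠ 1 := by
    intro hb1
    apply haG
    rw [hab, hb1]; group
  have hCa := (torus_cent h hy h1 haG).1
  have hCb := (torus_cent h hy h2 hb1).1
  calc (Subgroup.centralizer ({y} : Set G)).map (MulAut.conj g).toMonoidHom
      = (Subgroup.centralizer ({b} : Set G)).map (MulAut.conj g).toMonoidHom := by rw [hCb]
    _ = Subgroup.centralizer ({g * b * g⁻¹} : Set G) := (h5_centralizer_conj g b).symm
    _ = Subgroup.centralizer ({(a : G)} : Set G) := by rw [← hab]
    _ = Subgroup.centralizer ({y} : Set G) := hCa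

theorem h5_mem_normalizer_of_map_eq {A : Subgroup G} {g : G}
    (hg : A.map (MulAut.conj g).toMonoidHom = A) : g ∈ Subgroup.normalizer (A : Set G) := by
  rw [Subgroup.mem_normalizer_iff]
  intro x
  constructor
  · intro hx
    rw [← hg, h5_mem_map_conj]
    have : g⁻¹ * (g * x * g⁻¹) * g = x := by group
    rw [this]; exact hx
  · intro hx
    rw [← hg, h5_mem_map_conj] at hx
    have : g⁻¹ * (g * x * g⁻¹) * g = x := by group
    rw [this] at hx; exact hx

-- B19
theorem torus_normalizer_sub (h : Hyp t K s) {y : G} (hy : IsTorusElt y) {X : Subgroup G}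
    (hX : X ≤ Subgroup.centralizer ({y} : Set G)) (hX1 : X ≠ ⊥) :
    Subgroup.normalizer (X : Set G) ≤
      Subgroup.normalizer ((Subgroup.centralizer ({y} : Set G) : Subgroup G) : Set G) := by
  intro g hg
  rw [Subgroup.mem_normalizer_iff] at hg
  obtain ⟨a, ha⟩ := Subgroup.ne_bot_iff_exists_ne_one.1 hX1
  have haG : (a : G) ≠ 1 := fun h1 => ha (Subtype.ext h1)
  have hgx : g * (a : G) * g⁻¹ ∈ X := (hg a).1 a.2
  apply h5_mem_normalizer_of_map_eq
  apply torus_TI h hy
  intro hbot
  have hmem : g * (a : G) * g⁻¹ ∈ Subgroup.centralizer ({y} : Set G) ⊓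
      (Subgroup.centralizer ({y} : Set G)).map (MulAut.conj g).toMonoidHom := by
    rw [Subgroup.mem_inf, h5_mem_map_conj]
    refine ⟨hX hgx, ?_⟩
    have : g⁻¹ * (g * (a : G) * g⁻¹) * g = a := by group
    rw [this]; exact hX a.2
  rw [hbot, Subgroup.mem_bot] at hmem
  apply haG
  have : (a : G) = g⁻¹ * (g * (a : G) * g⁻¹) * g := by group
  rw [this, hmem]; group

theorem h5_orderOf_mul_comm_inv {u v : G} (hu : orderOf u = 2) (hv : orderOf v = 2) (hvu : v ≠ u)
    (hcomm : u * v = v * u) : orderOf (u * v) = 2 := by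
  have hu2 : u * u = 1 := by
    have := pow_orderOf_eq_one u; rw [hu, pow_two] at this; exact this
  have hv2 : v * v = 1 := by
    have := pow_orderOf_eq_one v; rw [hv, pow_two] at this; exact this
  apply orderOf_eq_prime
  · rw [pow_two]
    calc u * v * (u * v) = u * (v * u) * v := by group
      _ = u * (u * v) * v := by rw [hcomm]
      _ = (u * u) * (v * v) := by group
      _ = 1 := by rw [hu2, hv2, one_mul]
  · intro h1
    apply hvu
    -- u * v = 1 → v = u⁻¹ = u
    have : v = u⁻¹ := (eq_inv_of_mul_eq_one_right h1)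
    rw [this]
    exact inv_eq_of_mul_eq_one_left hu2

-- B20 : the involutions commuting with an involution of N(A) (other than itself) are outside N(A)
theorem torus_commuting_inv (h : Hyp t K s) {y u v : G} (hy : IsTorusElt y) (hu : orderOf u = 2)
    (huN : u ∈ Subgroup.normalizer ((Subgroup.centralizer ({y} : Set G) : Subgroup G) : Set G))
    (hv : orderOf v = 2) (hvu : v ≠ u) (hcomm : u * v = v * u) :
    v ∉ Subgroup.normalizer ((Subgroup.centralizer ({y} : Set G) : Subgroup G) : Set G) := by
  intro hvN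
  have h1 := torus_mul_inv h hy hu hv huN hvN
  exact h5_no_inv_of_odd hy.2.2 (h5_orderOf_mul_comm_inv hu hv hvu hcomm) h1

-- B21 : an involution cannot commute with two different involutions of N(A)
theorem torus_commuting_inv' (h : Hyp t K s) {y u u' v : G} (hy : IsTorusElt y) (hu : orderOf u = 2)
    (hu' : orderOf u' = 2) (huu' : u ≠ u')
    (huN : u ∈ Subgroup.normalizer ((Subgroup.centralizer ({y} : Set G) : Subgroup G) : Set G))
    (hu'N : u' ∈ Subgroup.normalizer ((Subgroup.centralizer ({y} : Set G) : Subgroup G) : Set G))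
    (hv : orderOf v = 2) (h1 : u * v = v * u) (h2 : u' * v = v * u') : False := by
  have ha := torus_mul_inv h hy hu hu' huN hu'N
  have hu'2 : u' * u' = 1 := by
    have := pow_orderOf_eq_one u'; rw [hu', pow_two] at this; exact this
  have ha1 : u * u' ≠ 1 := by
    intro h0
    apply huu'
    have : u = u'⁻¹ := eq_inv_of_mul_eq_one_left h0
    rw [this]
    exact inv_eq_of_mul_eq_one_left hu'2
  have hC := (torus_cent h hy ha ha1).1
  have hvC : v ∈ Subgroup.centralizer ({u * u'} : Set G) := by
    rw [Subgroup.mem_centralizer_iff]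
    intro b hb
    rw [Set.mem_singleton_iff] at hb
    subst hb
    calc u * u' * v = u * (u' * v) := by group
      _ = u * (v * u') := by rw [h2]
      _ = (u * v) * u' := by group
      _ = (v * u) * u' := by rw [h1]
      _ = v * (u * u') := by group
  rw [hC] at hvC
  exact h5_no_inv_of_odd hy.2.2 hv hvC

-- B22 : the "coset bound"  |A| (k+1) ≤ n
theorem coset_bound (h : Hyp t K s) {y : G} (hy : IsTorusElt y) :
    Nat.card (Subgroup.centralizer ({y} : Set G)) * (Nat.card K + 1) ≤ nInv G := by
  classical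
  haveI : Fintype G := Fintype.ofFinite G
  let N := Subgroup.normalizer ((Subgroup.centralizer ({y} : Set G) : Subgroup G) : Set G)
  let U := {u : G // orderOf u = 2 ∧ u ∈ N}
  let S : U → Type _ := fun u => {v : G // orderOf v = 2 ∧ v ∈ Subgroup.centralizer ({(u : G)} : Set G)}
  let Φ : (Σ u : U, S u) → {v : G // orderOf v = 2} := fun p => ⟨p.2.1, p.2.2.1⟩
  have hΦ : Function.Injective Φ := by
    rintro ⟨u, v⟩ ⟨u', v'⟩ hEq
    have hv : (v : G) = (v' : G) := congrArg Subtype.val hEq
    have huu : u = u' := by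
      by_contra hne
      have hne' : (u : G) ≠ (u' : G) := fun h0 => hne (Subtype.ext h0)
      have c1 := v.2.2
      have c2 := v'.2.2
      rw [Subgroup.mem_centralizer_iff] at c1 c2
      have e1 : (u : G) * (v : G) = (v : G) * (u : G) := c1 _ (Set.mem_singleton _)
      have e2 : (u' : G) * (v : G) = (v : G) * (u' : G) := by
        rw [hv]; exact c2 _ (Set.mem_singleton _)
      exact torus_commuting_inv' h hy u.2.1 u'.2.1 hne' u.2.2 u'.2.2 v.2.1 e1 e2
    subst huu
    have : v = v' := Subtype.ext hv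
    rw [this]
  have h1 : Nat.card (Σ u : U, S u) ≤ Nat.card {v : G // orderOf v = 2} :=
    Nat.card_le_card_of_injective Φ hΦ
  have h2 : Nat.card (Σ u : U, S u) = ∑ u : U, Nat.card (S u) := Nat.card_sigma
  have h3 : ∀ u : U, Nat.card (S u) = Nat.card K + 1 := fun u => card_inv_in_cent h u.2.1
  have h4 : Nat.card U = Nat.card (Subgroup.centralizer ({y} : Set G)) := torus_card_inv h hy
  rw [nInv_def]
  rw [h2] at h1
  simp only [h3, Finset.sum_const, Finset.card_univ, smul_eq_mul] at h1
  rw [← Nat.card_eq_fintype_card, h4] at h1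
  exact h1

-- B23 : odd card, at least 3
theorem torus_card_ge (h : Hyp t K s) {y : G} (hy : IsTorusElt y) :
    3 ≤ Nat.card (Subgroup.centralizer ({y} : Set G)) := by
  obtain ⟨hy1, _, hodd⟩ := hy
  have hyC : y ∈ Subgroup.centralizer ({y} : Set G) := by
    rw [Subgroup.mem_centralizer_iff]
    intro b hb
    rw [Set.mem_singleton_iff] at hb
    rw [hb]
  have hnt : Nontrivial (Subgroup.centralizer ({y} : Set G)) :=
    ⟨⟨⟨y, hyC⟩, 1, fun h0 => hy1 (congrArg Subtype.val h0)⟩⟩
  have h2 : 1 < Nat.card (Subgroup.centralizer ({y} : Set G)) := Finite.one_lt_card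
  obtain ⟨m, hm⟩ := hodd
  omega

end Cfsg.Agent.Lead.Bsw
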