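import Mathlib

/-!
Helper lemmas (helper5): counting in groups of class two whose centre has order 2
(towards counting elements of order 4 in extraspecial 2-groups).
-/

set_option autoImplicit false

namespace Cfsg.Agent.Helper5

open scoped BigOperators

/-- Double counting for a relation between two finite types. -/
theorem sum_card_rel_comm {α β : Type*} [Fintype α] [Fintype β] (R : α → β → Prop) :
    ∑ a : α, Nat.card {b : β // R a b} = ∑ b : β, Nat.card {a : α // R a b} := by
  classical
  have h1 : Nat.card {p : α × β // R p.1 p.2} = ∑ a : α, Nat.card {b : β // R a b} := by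
    rw [Nat.card_congr (Equiv.subtypeProdEquivSigmaSubtype R), Nat.card_sigma]
  have h2 : Nat.card {p : β × α // R p.2 p.1} = ∑ b : β, Nat.card {a : α // R a b} := by
    rw [Nat.card_congr (Equiv.subtypeProdEquivSigmaSubtype (fun b a => R a b)), Nat.card_sigma]
  have h3 : Nat.card {p : α × β // R p.1 p.2} = Nat.card {p : β × α // R p.2 p.1} := by
    apply Nat.card_congr
    exact (Equiv.prodComm α β).subtypeEquiv (fun p => Iff.rfl)
  rw [← h1, ← h2, h3]

/-- Sum of an indicator. -/
theorem sum_ite_const {α : Type*} [Fintype α] (P : α → Prop) [DecidablePred P] (c : ℕ) :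
    ∑ x : α, (if P x then c else 0) = Nat.card {x : α // P x} * c := by
  classical
  rw [Finset.sum_ite, Finset.sum_const, Finset.sum_const_zero, add_zero, smul_eq_mul,
    Nat.card_eq_fintype_card, Fintype.card_subtype]

/-- If `2 * f x = c + (if P x then c else 0)` for all `x`, then `2 * ∑ f = |α| c + |P| c`. -/
theorem two_mul_sum_of_forall {α : Type*} [Fintype α] (P : α → Prop) [DecidablePred P] (c : ℕ)
    (f : α → ℕ) (hf : ∀ x, 2 * f x = c + (if P x then c else 0)) :
    2 * ∑ x : α, f x = Nat.card α * c + Nat.card {x : α // P x} * c := by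
  classical
  rw [Finset.mul_sum]
  rw [Finset.sum_congr rfl (fun x _ => hf x), Finset.sum_add_distrib, sum_ite_const,
    Finset.sum_const, Finset.card_univ, smul_eq_mul]
  simp only [Nat.card_eq_fintype_card]

variable {E : Type*} [Group E]

/-- The map `a ↦ x⁻¹ a x a⁻¹` as a homomorphism, when these commutators are central. -/
def commL (hcen : ∀ x a : E, x⁻¹ * a * x * a⁻¹ ∈ Subgroup.center E) (x : E) : E →* E where
  toFun a := x⁻¹ * a * x * a⁻¹
  map_one' := by group
  map_mul' a b := by
    have h1 := Subgroup.mem_center_iff.mp (hcen x b) a⁻¹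
    calc x⁻¹ * (a * b) * x * (a * b)⁻¹ = x⁻¹ * a * x * ((x⁻¹ * b * x * b⁻¹) * a⁻¹) := by group
      _ = x⁻¹ * a * x * (a⁻¹ * (x⁻¹ * b * x * b⁻¹)) := by rw [h1]
      _ = (x⁻¹ * a * x * a⁻¹) * (x⁻¹ * b * x * b⁻¹) := by group

theorem commL_apply (hcen : ∀ x a : E, x⁻¹ * a * x * a⁻¹ ∈ Subgroup.center E) (x a : E) :
    commL hcen x a = x⁻¹ * a * x * a⁻¹ := rfl

theorem commL_eq_one_iff (hcen : ∀ x a : E, x⁻¹ * a * x * a⁻¹ ∈ Subgroup.center E) (x a : E) :
    commL hcen x a = 1 ↔ a * x = x * a := by
  rw [commL_apply]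
  constructor
  · intro h
    calc a * x = x * (x⁻¹ * a * x * a⁻¹) * a := by group
      _ = x * a := by rw [h, mul_one]
  · intro h
    calc x⁻¹ * a * x * a⁻¹ = x⁻¹ * (a * x) * a⁻¹ := by group
      _ = 1 := by rw [h]; group

/-- A homomorphism into a central subgroup of order 2: trivial, or the kernel has index 2 and all
fibres over central elements have the size of the kernel. -/
theorem hom_to_center_dichotomy {H : Type*} [Group H] [Finite H] [Finite E]
    (hZ : Nat.card (Subgroup.center E) = 2) (φ : H →* E) (hφ : ∀ h, φ h ∈ Subgroup.center E) :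
    (∀ h, φ h = 1) ∨ (Nat.card H = 2 * Nat.card φ.ker ∧
      ∀ z ∈ Subgroup.center E, Nat.card {a : H // φ a = z} = Nat.card φ.ker) := by
  by_cases htriv : ∀ h, φ h = 1
  · exact Or.inl htriv
  right
  push Not at htriv
  obtain ⟨h₀, hh₀⟩ := htriv
  have hle : φ.range ≤ Subgroup.center E := by
    rintro _ ⟨h, rfl⟩; exact hφ h
  have hdvd : Nat.card φ.range ∣ 2 := by rw [← hZ]; exact Subgroup.card_dvd_of_le hle
  have hne1 : Nat.card φ.range ≠ 1 := by
    intro h1
    have := Subgroup.card_eq_one.mp h1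
    apply hh₀
    have hm : φ h₀ ∈ φ.range := ⟨h₀, rfl⟩
    rw [this, Subgroup.mem_bot] at hm
    exact hm
  have h2 : Nat.card φ.range = 2 := by
    rcases (Nat.dvd_prime Nat.prime_two).mp hdvd with h | h
    · exact absurd h hne1
    · exact h
  have hrange : φ.range = Subgroup.center E :=
    Subgroup.eq_of_le_of_card_ge hle (by rw [h2, hZ])
  constructor
  · have := Subgroup.card_mul_index φ.ker
    rw [Subgroup.index_ker, h2] at this
    omega
  · intro z hz
    rw [← hrange] at hz
    obtain ⟨h₁, rfl⟩ := hz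
    apply Nat.card_congr
    refine ⟨fun a => ⟨a.1 * h₁⁻¹, ?_⟩, fun k => ⟨k.1 * h₁, ?_⟩, ?_, ?_⟩
    · rw [MonoidHom.mem_ker, map_mul, map_inv, a.2, mul_inv_cancel]
    · rw [map_mul, MonoidHom.mem_ker.mp k.2, one_mul]
    · intro a; apply Subtype.ext; simp
    · intro k; apply Subtype.ext; simp

end Cfsg.Agent.Helper5
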