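import Mathlib
import Cfsg.Prelude.Def_Transfer
import Cfsg.Agent.Helper5.ClassTwoCount
import Cfsg.Agent.Helper1.PGroup

/-!
Helper lemmas (helper5): counting involutions and elements of order 4 in extraspecial 2-groups of
plus type.
-/

set_option autoImplicit false

namespace Cfsg.Agent.Helper5

open scoped BigOperators commutatorElement

variable {E : Type*} [Group E]

theorem extraspecial_comm_central {p : ℕ} (hE : Cfsg.IsExtraspecial p E) :
    ∀ x a : E, x⁻¹ * a * x * a⁻¹ ∈ Subgroup.center E := by
  intro x a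
  rw [← hE.1.2.2]
  have : x⁻¹ * a * x * a⁻¹ = ⁅x⁻¹, a⁆ := by rw [commutatorElement_def]; group
  rw [this, commutator_def]
  exact Subgroup.commutator_mem_commutator (Subgroup.mem_top _) (Subgroup.mem_top _)

theorem extraspecial_two_sq_mem_center [Finite E] (hE : Cfsg.IsExtraspecial 2 E) (x : E) :
    x ^ 2 ∈ Subgroup.center E := by
  rw [← hE.1.2.1]
  have : Fact (Nat.Prime 2) := ⟨Nat.prime_two⟩
  exact Cfsg.Agent.Helper1.IsPGroup.pow_mem_frattini hE.1.1 x

/-- In a finite group of class two with centre of order 2: `|C_E(A)| |A| = |A ∩ Z(E)| |E|`. -/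
theorem card_centralizer_mul_card [Finite E]
    (hcen : ∀ x a : E, x⁻¹ * a * x * a⁻¹ ∈ Subgroup.center E)
    (hZ : Nat.card (Subgroup.center E) = 2) (A : Subgroup E) :
    Nat.card (Subgroup.centralizer (A : Set E)) * Nat.card A =
      Nat.card {a : A // (a : E) ∈ Subgroup.center E} * Nat.card E := by
  classical
  have : Fintype E := Fintype.ofFinite E
  have : Fintype ↥A := Fintype.ofFinite ↥A
  have key := sum_card_rel_comm (fun (a : ↥A) (u : E) => (a : E) * u = u * a)
  have hL : 2 * ∑ a : ↥A, Nat.card {u : E // (a : E) * u = u * a} =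
      Nat.card ↥A * Nat.card E + Nat.card {a : ↥A // (a : E) ∈ Subgroup.center E} * Nat.card E := by
    apply two_mul_sum_of_forall (fun a : ↥A => (a : E) ∈ Subgroup.center E)
    intro a
    have hker : Nat.card {u : E // (a : E) * u = u * a} = Nat.card (commL hcen (a : E)).ker := by
      apply Nat.card_congr
      refine Equiv.subtypeEquiv (Equiv.refl E) ?_
      intro u
      rw [Equiv.refl_apply, MonoidHom.mem_ker, commL_eq_one_iff]
      exact eq_comm
    rw [hker]
    rcases hom_to_center_dichotomy hZ (commL hcen (a : E)) (fun u => hcen _ _) with h | ⟨h, -⟩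
    · have hac : (a : E) ∈ Subgroup.center E := by
        rw [Subgroup.mem_center_iff]; intro g
        exact (commL_eq_one_iff hcen (a : E) g).mp (h g)
      have hk : (commL hcen (a : E)).ker = ⊤ := by
        ext u; simp [MonoidHom.mem_ker, h u]
      rw [if_pos hac, hk, Subgroup.card_top]; ring
    · have hac : (a : E) ∉ Subgroup.center E := by
        intro hac
        have hk : (commL hcen (a : E)).ker = ⊤ := by
          ext u
          rw [MonoidHom.mem_ker, commL_eq_one_iff]
          simp only [Subgroup.mem_top, iff_true]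
          exact Subgroup.mem_center_iff.mp hac u
        rw [hk, Subgroup.card_top] at h
        have : 0 < Nat.card E := Nat.card_pos
        omega
      rw [if_neg hac, ← h]; ring
  have hR : 2 * ∑ u : E, Nat.card {a : ↥A // (a : E) * u = u * a} =
      Nat.card E * Nat.card ↥A +
        Nat.card {u : E // u ∈ Subgroup.centralizer (A : Set E)} * Nat.card ↥A := by
    apply two_mul_sum_of_forall (fun u : E => u ∈ Subgroup.centralizer (A : Set E))
    intro u
    set φ : ↥A →* E := (commL hcen u).comp A.subtype with hφ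
    have hker : Nat.card {a : ↥A // (a : E) * u = u * a} = Nat.card φ.ker := by
      apply Nat.card_congr
      refine Equiv.subtypeEquiv (Equiv.refl _) ?_
      intro a
      rw [Equiv.refl_apply, MonoidHom.mem_ker, hφ, MonoidHom.comp_apply, Subgroup.coe_subtype,
        commL_eq_one_iff]
    rw [hker]
    rcases hom_to_center_dichotomy hZ φ (fun a => hcen _ _) with h | ⟨h, -⟩
    · have huc : u ∈ Subgroup.centralizer (A : Set E) := by
        rw [Subgroup.mem_centralizer_iff]
        intro a ha
        exact (commL_eq_one_iff hcen u a).mp (h ⟨a, ha⟩)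
      have hk : φ.ker = ⊤ := by
        ext a; simp [MonoidHom.mem_ker, h a]
      rw [if_pos huc, hk, Subgroup.card_top]; ring
    · have huc : u ∉ Subgroup.centralizer (A : Set E) := by
        intro huc
        have hk : φ.ker = ⊤ := by
          ext a
          rw [MonoidHom.mem_ker, hφ, MonoidHom.comp_apply, Subgroup.coe_subtype, commL_eq_one_iff]
          simp only [Subgroup.mem_top, iff_true]
          exact Subgroup.mem_centralizer_iff.mp huc a a.2
        rw [hk, Subgroup.card_top] at h
        have : 0 < Nat.card ↥A := Nat.card_pos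
        omega
      rw [if_neg huc, ← h]; ring
  rw [key] at hL
  rw [hL] at hR
  have hCc : Nat.card {u : E // u ∈ Subgroup.centralizer (A : Set E)} =
      Nat.card (Subgroup.centralizer (A : Set E)) := rfl
  rw [hCc] at hR
  nlinarith [hR]

/-- In an extraspecial 2-group of order `2^(2m+1)`, an elementary abelian subgroup of order `2^(m+1)`
is self-centralizing. -/
theorem centralizer_eq_of_card [Finite E] (m : ℕ) (hE : Cfsg.IsExtraspecial 2 E)
    (hcard : Nat.card E = 2 ^ (2 * m + 1)) (A : Subgroup E) (hA : Cfsg.IsElementaryAbelian 2 A)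
    (hAc : Nat.card A = 2 ^ (m + 1)) : Subgroup.centralizer (A : Set E) = A := by
  have hcen := extraspecial_comm_central hE
  have hZ := hE.2
  have hle : A ≤ Subgroup.centralizer (A : Set E) := by
    intro a ha
    rw [Subgroup.mem_centralizer_iff]
    intro b hb
    have := hA.1.is_comm.comm ⟨b, hb⟩ ⟨a, ha⟩
    exact congrArg Subtype.val this
  have h1 := card_centralizer_mul_card hcen hZ A
  have hn : Nat.card {a : A // (a : E) ∈ Subgroup.center E} ≤ 2 := by
    rw [← hZ]
    apply Nat.card_le_card_of_injective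
      (fun a : {a : A // (a : E) ∈ Subgroup.center E} => (⟨(a.1 : E), a.2⟩ : Subgroup.center E))
    intro a b hab
    apply Subtype.ext
    apply Subtype.ext
    simpa using congrArg Subtype.val hab
  have h2 : Nat.card (Subgroup.centralizer (A : Set E)) * 2 ^ (m + 1) ≤ 2 ^ (m + 1) * 2 ^ (m + 1) := by
    rw [← hAc, h1, hcard, hAc]
    calc Nat.card {a : A // (a : E) ∈ Subgroup.center E} * 2 ^ (2 * m + 1)
        ≤ 2 * 2 ^ (2 * m + 1) := Nat.mul_le_mul_right _ hn
      _ = 2 ^ (m + 1) * 2 ^ (m + 1) := by ring
  have h3 : Nat.card (Subgroup.centralizer (A : Set E)) ≤ 2 ^ (m + 1) :=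
    Nat.le_of_mul_le_mul_right h2 (by positivity)
  exact (Subgroup.eq_of_le_of_card_ge hle (by rw [hAc]; exact h3)).symm

/-- The number of solutions of `x² = 1` in an extraspecial 2-group of order `2^(2m+1)` of plus type. -/
theorem card_sq_eq_one [Finite E] (m : ℕ) (hE : Cfsg.IsExtraspecial 2 E)
    (hcard : Nat.card E = 2 ^ (2 * m + 1)) (A : Subgroup E) (hA : Cfsg.IsElementaryAbelian 2 A)
    (hAc : Nat.card A = 2 ^ (m + 1)) : Nat.card {x : E // x ^ 2 = 1} = 2 ^ (2 * m) + 2 ^ m := by
  classical
  have hcen := extraspecial_comm_central hE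
  have hZ := hE.2
  have hCA := centralizer_eq_of_card m hE hcard A hA hAc
  have : Fintype E := Fintype.ofFinite E
  have : Fintype ↥A := Fintype.ofFinite ↥A
  have key := sum_card_rel_comm (fun (x : E) (a : ↥A) => (x * (a : E)) ^ 2 = 1)
  have hR : ∑ a : ↥A, Nat.card {x : E // (x * (a : E)) ^ 2 = 1} =
      Nat.card ↥A * Nat.card {x : E // x ^ 2 = 1} := by
    have : ∀ a : ↥A, Nat.card {x : E // (x * (a : E)) ^ 2 = 1} = Nat.card {x : E // x ^ 2 = 1} := by
      intro a
      apply Nat.card_congr
      exact Equiv.subtypeEquiv (Equiv.mulRight (a : E)) (fun x => by simp)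
    rw [Finset.sum_congr rfl (fun a _ => this a), Finset.sum_const, Finset.card_univ, smul_eq_mul]
    simp only [Nat.card_eq_fintype_card]
  have hL : 2 * ∑ x : E, Nat.card {a : ↥A // (x * (a : E)) ^ 2 = 1} =
      Nat.card E * Nat.card ↥A + Nat.card {x : E // x ∈ A} * Nat.card ↥A := by
    apply two_mul_sum_of_forall (fun x : E => x ∈ A)
    intro x
    by_cases hxA : x ∈ A
    · rw [if_pos hxA]
      have : Nat.card {a : ↥A // (x * (a : E)) ^ 2 = 1} = Nat.card ↥A := by
        apply Nat.card_congr
        exact Equiv.subtypeUnivEquiv (fun a => hA.2 _ (A.mul_mem hxA a.2))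
      rw [this]; ring
    · rw [if_neg hxA]
      set φ : ↥A →* E := (commL hcen x).comp A.subtype with hφ
      have hsq : ∀ a : ↥A, (x * (a : E)) ^ 2 = x ^ 2 * φ a := by
        intro a
        have ha2 : (a : E) ^ 2 = 1 := hA.2 _ a.2
        have h1 : (x * (a : E)) ^ 2 = x ^ 2 * (x⁻¹ * (a : E) * x * (a : E)⁻¹) * (a : E) ^ 2 := by
          rw [pow_two, pow_two, pow_two]; group
        rw [h1, ha2, mul_one]
        rfl
      rcases hom_to_center_dichotomy hZ φ (fun a => hcen _ _) with h | ⟨h, hfib⟩
      · exfalso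
        apply hxA
        rw [← hCA, Subgroup.mem_centralizer_iff]
        intro a ha
        exact (commL_eq_one_iff hcen x a).mp (h ⟨a, ha⟩)
      · have hz : (x ^ 2)⁻¹ ∈ Subgroup.center E :=
          Subgroup.inv_mem _ (extraspecial_two_sq_mem_center hE x)
        have h2 := hfib _ hz
        have h3 : Nat.card {a : ↥A // (x * (a : E)) ^ 2 = 1} = Nat.card {a : ↥A // φ a = (x ^ 2)⁻¹} := by
          apply Nat.card_congr
          refine Equiv.subtypeEquiv (Equiv.refl _) ?_
          intro a
          rw [Equiv.refl_apply, hsq a]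
          constructor
          · intro h4
            exact eq_inv_of_mul_eq_one_right h4
          · intro h4
            rw [h4, mul_inv_cancel]
        rw [h3, h2, ← h]; ring
  rw [key, hR] at hL
  have hAE : Nat.card {x : E // x ∈ A} = Nat.card ↥A := rfl
  rw [hAE] at hL
  have hpos : 0 < Nat.card ↥A := Nat.card_pos
  have h5 : 2 * Nat.card {x : E // x ^ 2 = 1} = Nat.card E + Nat.card ↥A := by
    have : Nat.card ↥A * (2 * Nat.card {x : E // x ^ 2 = 1}) =
        Nat.card ↥A * (Nat.card E + Nat.card ↥A) := by nlinarith [hL]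
    exact Nat.eq_of_mul_eq_mul_left hpos this
  rw [hcard, hAc] at h5
  have h6 : 2 ^ (2 * m + 1) + 2 ^ (m + 1) = 2 * (2 ^ (2 * m) + 2 ^ m) := by ring
  omega

end Cfsg.Agent.Helper5
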