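import Mathlib

/-!
# Packed linear algebra modulo `p`

Vectors of length `n` over `ZMod p` are packed into one natural number with digits in base `B`,
matrices are lists of packed columns.  The product of a matrix and a vector is computed with a few
operations on big natural numbers, which the kernel evaluates quickly, and is proved to agree with
`Matrix.mulVec`.  This gives a fast certified check that a word in given matrices is the identity.
-/

set_option autoImplicit false

namespace Cfsg.Agent.Helper5.PackLA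

open Finset

section defs
variable (B p : ℕ)

/-- the digit number `i` in base `B`. -/
def dig (N i : ℕ) : ℕ := N / B ^ i % B

/-- `acc + Σ_j digit_j(N) * col_j`, consuming the digits of `N` along the list of columns. -/
def dotN : List ℕ → ℕ → ℕ → ℕ
  | [], _, acc => acc
  | c :: cs, N, acc => dotN cs (N / B) (acc + N % B * c)

/-- reduce the first `n` digits modulo `p` and drop the others. -/
def repack : ℕ → ℕ → ℕ
  | 0, _ => 0
  | n + 1, S => S % B % p + B * repack n (S / B)

/-- the packed product of a matrix (list of packed columns) and a packed vector. -/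
def mulVecN (n : ℕ) (cols : List ℕ) (N : ℕ) : ℕ := repack B p n (dotN B cols N 0)

/-- the action of a word in the matrices `cols c` on a packed vector (the last letter first). -/
def actN (n : ℕ) (cols : ℕ → List ℕ) : List ℕ → ℕ → ℕ
  | [], N => N
  | c :: w, N => mulVecN B p n (cols c) (actN n cols w N)

/-- the vector over `ZMod p` of a packed vector. -/
def vecOf (n : ℕ) (N : ℕ) : Fin n → ZMod p := fun i => (dig B N i : ZMod p)

/-- the matrix over `ZMod p` of a list of packed columns. -/
def matOf (n : ℕ) (cols : List ℕ) : Matrix (Fin n) (Fin n) (ZMod p) :=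
  fun i j => (dig B (cols.getD j 0) i : ZMod p)

/-- the columns are well formed: there are `n` of them, with digits below `p`. -/
def ColsOK (n : ℕ) (cols : List ℕ) : Prop :=
  cols.length = n ∧ ∀ j, j < n → ∀ i, i < n → dig B (cols.getD j 0) i < p

/-- a packed vector has digits below `p`. -/
def Small (n : ℕ) (N : ℕ) : Prop := ∀ j, j < n → dig B N j < p

end defs

section lemmas
variable {B p : ℕ}

theorem dotN_eq : ∀ (cols : List ℕ) (N acc : ℕ),
    dotN B cols N acc = acc + ∑ j ∈ range cols.length, dig B N j * cols.getD j 0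
  | [], N, acc => by simp [dotN]
  | c :: cs, N, acc => by
    rw [dotN, dotN_eq cs (N / B) (acc + N % B * c), List.length_cons, Finset.sum_range_succ']
    have h0 : dig B N 0 * (c :: cs).getD 0 0 = N % B * c := by
      simp [dig]
    have h1 : ∀ j, dig B N (j + 1) * (c :: cs).getD (j + 1) 0 = dig B (N / B) j * cs.getD j 0 := by
      intro j
      have : dig B N (j + 1) = dig B (N / B) j := by
        unfold dig
        rw [pow_succ', Nat.div_div_eq_div_mul]
      rw [this]
      simp
    rw [h0, Finset.sum_congr rfl (fun j _ => h1 j)]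
    ring

theorem dig_succ (N i : ℕ) : dig B N (i + 1) = dig B (N / B) i := by
  unfold dig
  rw [pow_succ', Nat.div_div_eq_div_mul]

theorem dig_repack (hB : 0 < B) : ∀ (n S i : ℕ), i < n →
    dig B (repack B p n S) i = dig B S i % p
  | 0, _, _, h => absurd h (Nat.not_lt_zero _)
  | n + 1, S, 0, _ => by
    have hd : S % B % p < B := lt_of_le_of_lt (Nat.mod_le _ _) (Nat.mod_lt _ hB)
    simp only [repack, dig, pow_zero, Nat.div_one]
    rw [Nat.add_mul_mod_self_left, Nat.mod_eq_of_lt hd]
  | n + 1, S, i + 1, h => by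
    have hd : S % B % p < B := lt_of_le_of_lt (Nat.mod_le _ _) (Nat.mod_lt _ hB)
    rw [dig_succ, dig_succ]
    have : repack B p (n + 1) S / B = repack B p n (S / B) := by
      rw [repack, Nat.add_mul_div_left _ _ hB, Nat.div_eq_of_lt hd, zero_add]
    rw [this]
    exact dig_repack hB n (S / B) i (Nat.lt_of_succ_lt_succ h)

theorem sum_div_pow (hB : 0 < B) (f X : ℕ → ℕ) (m : ℕ) : ∀ i,
    (∀ i', i' < i → ∑ j ∈ range m, f j * dig B (X j) i' < B) →
      (∑ j ∈ range m, f j * X j) / B ^ i = ∑ j ∈ range m, f j * (X j / B ^ i)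
  | 0, _ => by simp
  | i + 1, h => by
    have ih := sum_div_pow hB f X m i (fun i' hi' => h i' (Nat.lt_succ_of_lt hi'))
    have hb := h i (Nat.lt_succ_self i)
    rw [pow_succ, ← Nat.div_div_eq_div_mul, ih]
    have hsplit : ∑ j ∈ range m, f j * (X j / B ^ i)
        = ∑ j ∈ range m, f j * dig B (X j) i + B * ∑ j ∈ range m, f j * (X j / (B ^ i * B)) := by
      rw [Finset.mul_sum, ← Finset.sum_add_distrib]
      apply Finset.sum_congr rfl
      intro j _
      have := Nat.div_add_mod (X j / B ^ i) B
      rw [Nat.div_div_eq_div_mul] at this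
      unfold dig
      nth_rewrite 1 [← this]
      ring
    rw [hsplit, Nat.add_mul_div_left _ _ hB, Nat.div_eq_of_lt hb, zero_add]

theorem dig_sum (hB : 0 < B) (f X : ℕ → ℕ) (m i : ℕ)
    (h : ∀ i', i' ≤ i → ∑ j ∈ range m, f j * dig B (X j) i' < B) :
    dig B (∑ j ∈ range m, f j * X j) i = ∑ j ∈ range m, f j * dig B (X j) i := by
  have h1 := sum_div_pow hB f X m i (fun i' hi' => h i' (le_of_lt hi'))
  have hb := h i le_rfl
  unfold dig at hb ⊢
  rw [h1]
  have hsplit : ∑ j ∈ range m, f j * (X j / B ^ i)
      = ∑ j ∈ range m, f j * (X j / B ^ i % B) + B * ∑ j ∈ range m, f j * (X j / B ^ i / B) := by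
    rw [Finset.mul_sum, ← Finset.sum_add_distrib]
    apply Finset.sum_congr rfl
    intro j _
    have := Nat.div_add_mod (X j / B ^ i) B
    nth_rewrite 1 [← this]
    ring
  rw [hsplit, Nat.add_mul_mod_self_left, Nat.mod_eq_of_lt hb]

theorem mulVecN_small (hB : 0 < B) (hp : 0 < p) (n : ℕ) (cols : List ℕ) (N : ℕ) :
    Small B p n (mulVecN B p n cols N) := by
  intro j hj
  unfold mulVecN
  rw [dig_repack hB n _ j hj]
  exact Nat.mod_lt _ hp

theorem mulVecN_spec (hB : 0 < B) {n : ℕ} (hn : n * (p * p) < B) [NeZero p] (cols : List ℕ)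
    (hc : ColsOK B p n cols) (N : ℕ) (hN : Small B p n N) :
    vecOf B p n (mulVecN B p n cols N) = (matOf B p n cols).mulVec (vecOf B p n N) := by
  funext i
  have hbound : ∀ i', i' < n → ∑ j ∈ range n, dig B N j * dig B (cols.getD j 0) i' < B := by
    intro i' hi'
    refine lt_of_le_of_lt ?_ hn
    calc ∑ j ∈ range n, dig B N j * dig B (cols.getD j 0) i'
        ≤ ∑ _j ∈ range n, p * p := by
          apply Finset.sum_le_sum
          intro j hj
          have hj' := Finset.mem_range.mp hj
          exact Nat.mul_le_mul (le_of_lt (hN j hj')) (le_of_lt (hc.2 j hj' i' hi'))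
      _ = n * (p * p) := by rw [Finset.sum_const, Finset.card_range, smul_eq_mul]
  show ((dig B (mulVecN B p n cols N) i : ℕ) : ZMod p) = _
  unfold mulVecN
  rw [dig_repack hB n _ i i.isLt, ZMod.natCast_mod, dotN_eq, zero_add, hc.1,
    dig_sum hB _ _ n i (fun i' hi' => hbound i' (lt_of_le_of_lt hi' i.isLt))]
  rw [Matrix.mulVec, dotProduct, Nat.cast_sum,
    Finset.sum_range (fun j => ((dig B N j * dig B (cols.getD j 0) i : ℕ) : ZMod p))]
  apply Finset.sum_congr rfl
  intro j _
  rw [Nat.cast_mul, mul_comm]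
  rfl

theorem actN_spec (hB : 0 < B) {n : ℕ} (hn : n * (p * p) < B) [NeZero p] (cols : ℕ → List ℕ) :
    ∀ (w : List ℕ), (∀ c ∈ w, ColsOK B p n (cols c)) → ∀ N, Small B p n N →
      Small B p n (actN B p n cols w N) ∧
      vecOf B p n (actN B p n cols w N)
        = ((w.map (fun c => matOf B p n (cols c))).prod).mulVec (vecOf B p n N)
  | [], _, N, hN => by
    refine ⟨hN, ?_⟩
    simp [actN]
  | c :: w, hw, N, hN => by
    obtain ⟨h1, h2⟩ := actN_spec hB hn cols w (fun c hc => hw c (List.mem_cons_of_mem _ hc)) N hN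
    refine ⟨mulVecN_small hB (Nat.pos_of_ne_zero (NeZero.ne p)) n _ _, ?_⟩
    show vecOf B p n (mulVecN B p n (cols c) (actN B p n cols w N)) = _
    rw [mulVecN_spec hB hn (cols c) (hw c List.mem_cons_self) _ h1, h2, List.map_cons,
      List.prod_cons, Matrix.mulVec_mulVec]

theorem dig_pow (hB : 1 < B) (j i : ℕ) : dig B (B ^ j) i = if i = j then 1 else 0 := by
  unfold dig
  rcases lt_trichotomy i j with h | h | h
  · rw [if_neg (ne_of_lt h), Nat.pow_div (le_of_lt h) (by omega)]
    obtain ⟨k, hk⟩ : ∃ k, j - i = k + 1 := ⟨j - i - 1, by omega⟩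
    rw [hk, pow_succ, Nat.mul_mod_left]
  · subst h
    rw [if_pos rfl, Nat.div_self (Nat.pow_pos (by omega)), Nat.mod_eq_of_lt hB]
  · rw [if_neg (ne_of_gt h), Nat.div_eq_of_lt (Nat.pow_lt_pow_right hB h), Nat.zero_mod]

theorem vecOf_pow (hB : 1 < B) {n : ℕ} (j : Fin n) :
    vecOf B p n (B ^ j.val) = Pi.single j 1 := by
  funext i
  show ((dig B (B ^ j.val) i : ℕ) : ZMod p) = _
  rw [dig_pow hB, Pi.single_apply]
  by_cases h : i = j
  · rw [if_pos h, if_pos (congrArg Fin.val h), Nat.cast_one]
  · rw [if_neg h, if_neg (fun h' => h (Fin.ext h')), Nat.cast_zero]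

theorem small_pow (hB : 1 < B) (hp : 1 < p) (n j : ℕ) : Small B p n (B ^ j) := by
  intro i _
  rw [dig_pow hB]
  split_ifs <;> omega

theorem eq_one_of_fix {n : ℕ} {R : Type*} [CommRing R] (M : Matrix (Fin n) (Fin n) R)
    (h : ∀ j, M.mulVec (Pi.single j 1) = Pi.single j 1) : M = 1 := by
  ext i j
  have := congrFun (h j) i
  rw [Matrix.mulVec_single_one] at this
  rw [Matrix.one_apply, ← Pi.single_apply]
  exact this

/-- **a word in the matrices is the identity if it fixes the packed basis vectors.** -/
theorem prod_eq_one_of_check (hB : 1 < B) (hp : 1 < p) {n : ℕ} (hn : n * (p * p) < B)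
    (cols : ℕ → List ℕ) (w : List ℕ) (hw : ∀ c ∈ w, ColsOK B p n (cols c))
    (h : ∀ j, j < n → actN B p n cols w (B ^ j) = B ^ j) :
    (w.map (fun c => matOf B p n (cols c))).prod = 1 := by
  have : NeZero p := ⟨by omega⟩
  apply eq_one_of_fix
  intro j
  have h1 := (actN_spec (by omega) hn cols w hw (B ^ j.val) (small_pow hB hp n j.val)).2
  rw [h j.val j.isLt, vecOf_pow hB] at h1
  exact h1.symm

end lemmas

end Cfsg.Agent.Helper5.PackLA
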