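import Mathlib
import Cfsg.Agent.Helper5.PackLA

/-!
# Packed linear algebra modulo `p`: packed vectors are determined by their vectors

Also: a subgroup generated by elements which map a finite family of points into itself acts on
the family by permutations.
-/

set_option autoImplicit false

namespace Cfsg.Agent.Helper5.PackLA

theorem eq_of_dig_eq {B : ℕ} (hB : 0 < B) : ∀ (n N M : ℕ), N < B ^ n → M < B ^ n →
    (∀ i, i < n → dig B N i = dig B M i) → N = M
  | 0, N, M, hN, hM, _ => by
    rw [pow_zero] at hN hM
    omega
  | n + 1, N, M, hN, hM, h => by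
    have h0 := h 0 (Nat.succ_pos n)
    have hN' : N / B < B ^ n := by
      rw [Nat.div_lt_iff_lt_mul hB]
      rwa [pow_succ] at hN
    have hM' : M / B < B ^ n := by
      rw [Nat.div_lt_iff_lt_mul hB]
      rwa [pow_succ] at hM
    have ih := eq_of_dig_eq hB n (N / B) (M / B) hN' hM' (fun i hi => by
      rw [← dig_succ, ← dig_succ]
      exact h (i + 1) (by omega))
    have e0 : N % B = M % B := by
      unfold dig at h0
      rwa [pow_zero, Nat.div_one, Nat.div_one] at h0
    calc N = N % B + B * (N / B) := (Nat.mod_add_div N B).symm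
      _ = M % B + B * (M / B) := by rw [e0, ih]
      _ = M := Nat.mod_add_div M B

theorem vecOf_inj {B p n : ℕ} (hB : 0 < B) {N M : ℕ} (hN : N < B ^ n) (hM : M < B ^ n)
    (sN : Small B p n N) (sM : Small B p n M) (h : vecOf B p n N = vecOf B p n M) : N = M := by
  apply eq_of_dig_eq hB n N M hN hM
  intro i hi
  have h1 := congrFun h ⟨i, hi⟩
  have h2 : ((dig B N i : ℕ) : ZMod p) = ((dig B M i : ℕ) : ZMod p) := h1
  have h3 := (ZMod.natCast_eq_natCast_iff' _ _ _).mp h2
  rwa [Nat.mod_eq_of_lt (sN i hi), Nat.mod_eq_of_lt (sM i hi)] at h3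

end Cfsg.Agent.Helper5.PackLA

namespace Cfsg.Agent.Helper5.PermHom

variable {G α : Type*} [Group G]

/-- the elements mapping every point of a finite injective family to a point of the family. -/
theorem maps_of_closure (act : G →* Equiv.Perm α) {N : ℕ} (dec : Fin N → α)
    (hinj : Function.Injective dec) (gens : Set G)
    (hgen : ∀ g ∈ gens, ∀ v, ∃ w, act g (dec v) = dec w) :
    ∀ h ∈ Subgroup.closure gens, ∀ v, ∃ w, act h (dec v) = dec w := by
  intro h hh
  induction hh using Subgroup.closure_induction with
  | mem g hg => exact hgen g hg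
  | one =>
    intro v
    exact ⟨v, by rw [map_one]; rfl⟩
  | mul x y _ _ hx hy =>
    intro v
    obtain ⟨w, hw⟩ := hy v
    obtain ⟨u, hu⟩ := hx w
    exact ⟨u, by rw [map_mul, Equiv.Perm.mul_apply, hw, hu]⟩
  | inv x _ hx =>
    intro v
    choose f hf using hx
    have hfi : Function.Injective f := by
      intro a b hab
      apply hinj
      apply (act x).injective
      rw [hf a, hf b, hab]
    obtain ⟨u, hu⟩ := (Finite.injective_iff_surjective.mp hfi) v
    refine ⟨u, ?_⟩
    rw [map_inv, Equiv.Perm.inv_eq_iff_eq, hf u, hu]

/-- **the permutation representation on a finite family of points** of a subgroup generated by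
elements mapping the family into itself. -/
theorem exists_permHom (act : G →* Equiv.Perm α) {N : ℕ} (dec : Fin N → α)
    (hinj : Function.Injective dec) (gens : Set G)
    (hgen : ∀ g ∈ gens, ∀ v, ∃ w, act g (dec v) = dec w) :
    ∃ ρ : Subgroup.closure gens →* Equiv.Perm (Fin N),
      ∀ (h : Subgroup.closure gens) (v : Fin N), dec (ρ h v) = act h.1 (dec v) := by
  have hall := maps_of_closure act dec hinj gens hgen
  choose F hF using fun (h : Subgroup.closure gens) => hall h.1 h.2
  have hFmul : ∀ (h k : Subgroup.closure gens) (v : Fin N), F (h * k) v = F h (F k v) := by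
    intro h k v
    apply hinj
    rw [← hF (h * k) v, ← hF h (F k v), ← hF k v]
    show act (h.1 * k.1) (dec v) = _
    rw [map_mul, Equiv.Perm.mul_apply]
  have hFone : ∀ v : Fin N, F 1 v = v := by
    intro v
    apply hinj
    rw [← hF 1 v]
    show act 1 (dec v) = _
    rw [map_one]
    rfl
  refine ⟨
    { toFun := fun h =>
        { toFun := F h
          invFun := F h⁻¹
          left_inv := fun v => by rw [← hFmul, inv_mul_cancel, hFone]
          right_inv := fun v => by rw [← hFmul, mul_inv_cancel, hFone] }
      map_one' := by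
        apply Equiv.ext
        intro v
        exact hFone v
      map_mul' := by
        intro h k
        apply Equiv.ext
        intro v
        exact hFmul h k v }, ?_⟩
  intro h v
  exact (hF h v).symm

end Cfsg.Agent.Helper5.PermHom
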