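import Mathlib
import Cfsg.Agent.Helper5.StemPB
import Cfsg.Agent.Helper5.LPC

/-!
# Generation of a permutation group by a stabiliser chain

`closure_eq_top_of_chain`: elements `g i` of a finite permutation group `K` on `Fin n` generate it
if a stabiliser chain in the words in the `g i` certifies at least `|K|` elements.
-/

set_option autoImplicit false

namespace Cfsg.Agent.Helper5.StemP

open Cfsg.Agent.Helper5.LP Cfsg.Agent.Helper5.TC Cfsg.Agent.Helper5.TCI

theorem map_lval {A B : Type*} [Group A] [Group B] (f : A →* B) (x : ℕ → A) (c : ℕ) :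
    f (lval x c) = lval (fun i => f (x i)) c := by
  unfold lval
  split_ifs
  · rfl
  · rw [map_inv]

/-- a table function from a list of rows. -/
def tabFun (tab : List (List ℕ)) (c v : ℕ) : ℕ := (tab.getD c []).getD v 0

theorem closure_eq_top_of_chain {n : ℕ} (K : Subgroup (Equiv.Perm (Fin n))) (d : ℕ)
    (g : ℕ → K) (T : ℕ → ℕ → ℕ)
    (hT : ∀ c, c < 2 * d → ∀ v : Fin n, (((lval g c : K) : Equiv.Perm (Fin n)) v).val = T c v.val)
    (levels : List Level) (hchain : chainOK T (2 * d) n [] levels = true)
    (hcard : Nat.card K ≤ chainProd levels) :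
    Subgroup.closure {y | ∃ i, i < d ∧ y = g i} = ⊤ := by
  classical
  set H : Subgroup K := Subgroup.closure {y | ∃ i, i < d ∧ y = g i} with hH
  -- the generators inside `H`
  have hmem : ∀ i, ∃ y : H, i < d → (y : K) = g i := by
    intro i
    by_cases hi : i < d
    · exact ⟨⟨g i, Subgroup.subset_closure ⟨i, hi, rfl⟩⟩, fun _ => rfl⟩
    · exact ⟨1, fun h => absurd h hi⟩
  choose gH hgH using hmem
  let ρ : H →* Equiv.Perm (Fin n) := K.subtype.comp H.subtype
  let e : List ℕ → H := fun l => (l.map (lval gH)).prod
  have hval : ∀ c, c < 2 * d → ρ (lval gH c) = ((lval g c : K) : Equiv.Perm (Fin n)) := by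
    intro c hc
    have hi : c / 2 < d := by omega
    change ((lval gH c : H) : K).1 = _
    congr 1
    unfold lval
    split_ifs
    · exact hgH _ hi
    · rw [Subgroup.coe_inv, hgH _ hi]
  have hA : ActsOn ρ e (2 * d) T := by
    constructor
    intro l
    induction l with
    | nil =>
      intro _ v
      change (ρ 1 v).val = v.val
      rw [map_one]
      rfl
    | cons c l ih =>
      intro hl v
      have hc : c < 2 * d := hl c List.mem_cons_self
      have hl' : ∀ c' ∈ l, c' < 2 * d := fun c' hc' => hl c' (List.mem_cons_of_mem _ hc')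
      change (ρ ((List.map (lval gH) (c :: l)).prod) v).val = T c (actL T l v.val)
      rw [List.map_cons, List.prod_cons, map_mul, Equiv.Perm.mul_apply, hval c hc, hT c hc,
        ← ih hl' v]
  have h1 := chain_lower hA levels [] hchain
  have hfinK : Finite K := inferInstance
  have h2 : Nat.card (ρ.range ⊓ fixSub n [] : Subgroup (Equiv.Perm (Fin n))) ≤ Nat.card ρ.range :=
    Subgroup.card_le_of_le inf_le_left
  have h3 : Nat.card ρ.range ≤ Nat.card H :=
    Nat.card_le_card_of_surjective ρ.rangeRestrict ρ.rangeRestrict_surjective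
  have h4 : Nat.card H ≤ Nat.card K := Subgroup.card_le_card_group H
  exact Subgroup.eq_top_of_card_eq H (by omega)

end Cfsg.Agent.Helper5.StemP
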