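import Mathlib
import Cfsg.Agent.Helper5.G23Dat
import Cfsg.Agent.Helper5.G23DatP
import Cfsg.Agent.Helper5.PackLC
import Cfsg.Agent.Helper5.StemPF

/-!
# Checks for `G₂(3)`, in packed linear algebra

The identities between words in the packed matrices of `Ree3Dat` (root elements) and `G23Dat`
(letters `82 + c`), checked on the packed basis vectors; the orbit of 728 packed vectors and the
action on it (`G23DatP`); the stabiliser chains.
-/

set_option autoImplicit false

namespace Cfsg.Agent.Helper5.G23

open Cfsg.Agent.Helper5.PackLA Cfsg.Agent.Helper5.LP Cfsg.Agent.Helper5.StemP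
  Cfsg.Agent.Helper5.TC Cfsg.Agent.Helper5.TCI

/-- all letters: `0, …, 81` those of `Ree3Dat`, `82 + c` the six letters. -/
def cols3 (x : ℕ) : List ℕ := if x < 82 then Ree3.cols x else colsL (x - 82)

instance (B p n : ℕ) (cols : List ℕ) : Decidable (ColsOK B p n cols) := by
  unfold ColsOK; infer_instance

instance (B p n N : ℕ) : Decidable (PackLA.Small B p n N) := by
  unfold PackLA.Small; infer_instance

/-- two words act in the same way on the packed basis vectors. -/
def Chk3 (w₁ w₂ : List ℕ) : Prop :=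
  ∀ j, j < 14 → actN 128 3 14 cols3 w₁ (128 ^ j) = actN 128 3 14 cols3 w₂ (128 ^ j)

instance (w₁ w₂ : List ℕ) : Decidable (Chk3 w₁ w₂) := by
  unfold Chk3; infer_instance

/-- the inverse of a root letter. -/
def rinv (x : ℕ) : ℕ := if (x - 57) % 2 = 0 then x + 1 else x - 1

set_option maxRecDepth 100000 in
theorem cols3_ok : ∀ c, c < 88 → ColsOK 128 3 14 (cols3 c) := by decide +kernel

set_option maxRecDepth 100000 in
theorem chk_word : ∀ c, c < 6 → Chk3 [82 + c] (wordL c) := by decide +kernel

set_option maxRecDepth 100000 in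
theorem wordL_lt : ∀ c, c < 6 → ∀ x ∈ wordL c, 57 ≤ x ∧ x < 81 := by decide +kernel

set_option maxRecDepth 100000 in
theorem chk_rinv : ∀ x, 57 ≤ x → x < 81 → Chk3 [x, rinv x] [] ∧ Chk3 [rinv x, x] [] := by
  decide +kernel

set_option maxRecDepth 100000 in
theorem chk_linv : Chk3 [82, 83] [] ∧ Chk3 [83, 82] [] ∧ Chk3 [84, 85] [] ∧ Chk3 [85, 84] [] ∧
    Chk3 [86, 87] [] ∧ Chk3 [87, 86] [] := by decide +kernel

set_option maxRecDepth 100000 in
theorem chk_rels : ∀ r ∈ CC, Chk3 (r.map (· + 82)) [] := by decide +kernel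

set_option maxRecDepth 100000 in
theorem chk_pow : Chk3 (List.replicate 7 82) [] ∧ Chk3 (List.replicate 7 84) [] ∧
    Chk3 (List.replicate 13 86) [] := by decide +kernel

set_option maxRecDepth 100000 in
theorem chk_ne : ¬ Chk3 [82] [] := by decide +kernel

set_option maxRecDepth 100000 in
theorem chk_id : Chk3 [81] [] := by decide +kernel

/-! ### the orbit -/

/-- a field of `w` bits of a numeral. -/
def lk (w D n : ℕ) : ℕ := Nat.mod (Nat.shiftRight D (Nat.mul w n)) (Nat.pow 2 w)

/-- the packed vectors of the orbit. -/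
def pt (v : ℕ) : ℕ := lk 98 ptsP v

/-- the action of the six letters on the orbit. -/
def tabF (c v : ℕ) : ℕ := lk 10 (tabP c) v

/-- the action of the root letters `57, …, 81` on the orbit. -/
def tabRF (x v : ℕ) : ℕ := lk 10 (tabRP x) v

theorem pt_lt (v : ℕ) : pt v < 128 ^ 14 := by
  have e : (128 : ℕ) ^ 14 = 2 ^ 98 := by norm_num
  rw [e]
  exact Nat.mod_lt _ (Nat.two_pow_pos 98)

set_option maxRecDepth 100000 in
theorem pt_small_chk : (List.range 728).all
    (fun v => decide (PackLA.Small 128 3 14 (pt v))) = true := by decide +kernel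

set_option maxRecDepth 100000 in
theorem pt_inj_chk : (List.range 728).all
    (fun v => (List.range v).all (fun w => !(Nat.beq (pt v) (pt w)))) = true := by decide +kernel

set_option maxRecDepth 100000 in
theorem tabR_chk : (List.range 25).all (fun x => (List.range 728).all (fun v =>
    Nat.beq (mulVecN 128 3 14 (Ree3.cols (57 + x)) (pt v)) (pt (tabRF x v)) &&
      Nat.blt (tabRF x v) 728)) = true := by decide +kernel

set_option maxRecDepth 100000 in
theorem tab_chk : (List.range 6).all (fun c => (List.range 728).all (fun v =>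
    Nat.beq (mulVecN 128 3 14 (colsL c) (pt v)) (pt (tabF c v)) &&
      Nat.blt (tabF c v) 728)) = true := by decide +kernel

theorem pt_ok : ∀ v, v < 728 → pt v < 128 ^ 14 ∧ PackLA.Small 128 3 14 (pt v) := by
  intro v hv
  refine ⟨pt_lt v, ?_⟩
  have h := List.all_eq_true.mp pt_small_chk v (List.mem_range.mpr hv)
  exact of_decide_eq_true h

theorem pt_inj : ∀ v w, v < 728 → w < 728 → pt v = pt w → v = w := by
  have key : ∀ v w, v < 728 → w < v → pt v ≠ pt w := by
    intro v w hv hw
    have h1 := List.all_eq_true.mp pt_inj_chk v (List.mem_range.mpr hv)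
    have h2 := List.all_eq_true.mp h1 w (List.mem_range.mpr hw)
    rw [Bool.not_eq_true'] at h2
    exact Nat.ne_of_beq_eq_false h2
  intro v w hv hw h
  rcases Nat.lt_trichotomy v w with h1 | h1 | h1
  · exact absurd h.symm (key w v hw h1)
  · exact h1
  · exact absurd h (key v w hv h1)

theorem tabR_spec : ∀ x, x < 25 → ∀ v, v < 728 →
    mulVecN 128 3 14 (Ree3.cols (57 + x)) (pt v) = pt (tabRF x v) ∧ tabRF x v < 728 := by
  intro x hx v hv
  have h1 := List.all_eq_true.mp tabR_chk x (List.mem_range.mpr hx)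
  have h2 := List.all_eq_true.mp h1 v (List.mem_range.mpr hv)
  rw [Bool.and_eq_true, Nat.blt_eq] at h2
  exact ⟨Nat.eq_of_beq_eq_true h2.1, h2.2⟩

theorem tab_spec : ∀ c, c < 6 → ∀ v, v < 728 →
    mulVecN 128 3 14 (colsL c) (pt v) = pt (tabF c v) ∧ tabF c v < 728 := by
  intro c hc v hv
  have h1 := List.all_eq_true.mp tab_chk c (List.mem_range.mpr hc)
  have h2 := List.all_eq_true.mp h1 v (List.mem_range.mpr hv)
  rw [Bool.and_eq_true, Nat.blt_eq] at h2
  exact ⟨Nat.eq_of_beq_eq_true h2.1, h2.2⟩

/-! ### the stabiliser chains -/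

set_option maxRecDepth 100000 in
theorem chainG_ok : chainOK tabF (2 * 3) 728 [] levelGs = true := by decide +kernel

theorem chainG_prod : chainProd levelGs = 4245696 := by decide +kernel

set_option maxRecDepth 100000 in
theorem chainU_ok : chainOK tabF (2 * 2) 728 [] levelUs = true := by decide +kernel

theorem chainU_prod : chainProd levelUs = 6048 := by decide +kernel

theorem CC_lt : ∀ r ∈ CC, ∀ c ∈ r, c < 2 * 3 := by decide

theorem CU_lt : ∀ r ∈ CU, ∀ c ∈ r, c < 2 * 2 := by decide

theorem CU_sub : ∀ r ∈ CU, r ∈ CC := by decide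

end Cfsg.Agent.Helper5.G23
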