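import Mathlib
import Cfsg.Agent.Helper5.G23Chk

/-!
# generated: the root elements of `G₂(3)` as words in the three generators

For every root letter `x` (`57 ≤ x < 81`) a word in the letters `a, a⁻¹, b, b⁻¹, c, c⁻¹`
(numbered `0, …, 5`) with the same matrix, checked on the packed basis vectors.
-/

set_option autoImplicit false

namespace Cfsg.Agent.Helper5.G23

/-- the root letters as words in the six letters; the empty word for the letter `81`. -/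
def rootW : ℕ → List ℕ
  | 57 => [4, 2, 1, 4, 0, 0, 5, 0, 0, 0]
  | 58 => [5, 2, 5, 1, 3, 4, 4, 1, 5, 5]
  | 59 => [1, 3, 1, 3, 3, 0, 0, 2, 2]
  | 60 => [3, 1, 1, 5, 3, 0, 4, 2, 0]
  | 61 => [1, 2, 0, 3, 1, 3, 4, 4, 3]
  | 62 => [2, 5, 5, 2, 0, 2, 1, 3, 0]
  | 63 => [1, 5, 2, 2, 2, 0, 0, 5, 5]
  | 64 => [4, 4, 1, 1, 3, 3, 3, 4, 0]
  | 65 => [4, 0, 4, 4, 3, 4, 2, 4]
  | 66 => [5, 3, 5, 2, 5, 5, 1, 5]
  | 67 => [3, 0, 4, 0, 0, 3, 3, 3]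
  | 68 => [2, 2, 2, 1, 1, 5, 1, 2]
  | 69 => [2, 0, 4, 3, 5, 1, 3, 1, 5]
  | 70 => [4, 0, 2, 0, 4, 2, 5, 1, 3]
  | 71 => [4, 0, 0, 2, 2, 0, 5, 2, 4, 1]
  | 72 => [4, 4, 2, 2, 5, 3, 5, 5, 2, 0]
  | 73 => [4, 2, 1, 4, 0, 5, 3, 3, 0]
  | 74 => [1, 2, 2, 4, 1, 5, 0, 3, 5]
  | 75 => [2, 0, 0, 4, 1, 2, 0, 0, 4]
  | 76 => [5, 1, 1, 3, 0, 5, 1, 1, 3]
  | 77 => [1, 1, 1, 2, 1, 3, 0, 0, 3]
  | 78 => [2, 1, 1, 2, 0, 3, 0, 0, 0]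
  | 79 => [3, 3, 1, 4, 0, 3, 1, 2, 1]
  | 80 => [0, 3, 0, 2, 1, 5, 0, 2, 2]
  | _ => []

set_option maxRecDepth 100000 in
theorem chk_root : ∀ x, 57 ≤ x → x < 82 → Chk3 [x] ((rootW x).map (· + 82)) := by decide +kernel

set_option maxRecDepth 100000 in
theorem rootW_lt : ∀ x, 57 ≤ x → x < 82 → ∀ c ∈ rootW x, c < 6 := by decide +kernel

end Cfsg.Agent.Helper5.G23
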