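import Mathlib
import Cfsg.Agent.Helper5.PackLA

/-!
# Packed linear algebra modulo `p`: equality of two words

Two words in packed matrices have the same product if they act in the same way on the packed basis
vectors.
-/

set_option autoImplicit false

namespace Cfsg.Agent.Helper5.PackLA

variable {B p : ℕ}

theorem eq_of_mulVec_single {n : ℕ} {R : Type*} [CommRing R] (M₁ M₂ : Matrix (Fin n) (Fin n) R)
    (h : ∀ j, M₁.mulVec (Pi.single j 1) = M₂.mulVec (Pi.single j 1)) : M₁ = M₂ := by
  ext i j
  have := congrFun (h j) i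
  rw [Matrix.mulVec_single_one, Matrix.mulVec_single_one] at this
  exact this

/-- **two words in the matrices have the same product if they agree on the packed basis
vectors.** -/
theorem prod_eq_prod_of_check (hB : 1 < B) (hp : 1 < p) {n : ℕ} (hn : n * (p * p) < B)
    (cols : ℕ → List ℕ) (w₁ w₂ : List ℕ) (hw₁ : ∀ c ∈ w₁, ColsOK B p n (cols c))
    (hw₂ : ∀ c ∈ w₂, ColsOK B p n (cols c))
    (h : ∀ j, j < n → actN B p n cols w₁ (B ^ j) = actN B p n cols w₂ (B ^ j)) :
    (w₁.map (fun c => matOf B p n (cols c))).prod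
      = (w₂.map (fun c => matOf B p n (cols c))).prod := by
  have : NeZero p := ⟨by omega⟩
  apply eq_of_mulVec_single
  intro j
  have h1 := (actN_spec (by omega) hn cols w₁ hw₁ (B ^ j.val) (small_pow hB hp n j.val)).2
  have h2 := (actN_spec (by omega) hn cols w₂ hw₂ (B ^ j.val) (small_pow hB hp n j.val)).2
  rw [h j.val j.isLt, vecOf_pow hB] at h1
  rw [vecOf_pow hB] at h2
  rw [← h1, ← h2]

end Cfsg.Agent.Helper5.PackLA
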