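import Cfsg.Agent.Helper5.TC2A

/-! generated coset table (generator 1): L28BTC -/

set_option autoImplicit false
set_option Elab.async false

namespace Cfsg.Agent.Helper5.L28BTC
open Cfsg.Agent.Helper5.TC

def ct1_0 : ℕ := 0xf90000f80000f70000f60000fb0000fa0000e40000f50000e10000f30000e00000f10000de0000db0000ee0000da0000ec0000d70000ea0000df0000d30000d20000d90000f40000e50000d60000f20000f00000d50000dd0000ef0000e60000ed0000eb0000e30000e20000e90000d80000e80000e70000d40000dc00009c0000d100009b0000cf00009a0000cd0000990000cb0000980000c90000970000c70000960000c50000950000c30000940000c10000930000bf0000920000bd0000910000bb00009000008e0000b800008d0000b600008c0000b400008b0000b200008a0000b00000890000ae0000880000ac0000870000aa0000860000a80000850000a60000840000a40000830000a20000820000a000008100009e0000d00000ce0000cc0000ca0000c80000c60000c40000c20000c00000be0000bc0000ba00008f0000b90000b70000b50000b30000b10000af0000ad0000ab0000a90000a70000a50000a30000a100009f00009d00005c00008000005b00007e00005a00007c00005900007a00005800007800005700007600005600007400005500007200005400007000005300006e00005200006c00005100006a00005000006800004f00006600004e00006400004d00006200004c00006000004b00005e00007f00007d00007b00007900007700007500007300007100006f00006d00006b00006900006700006500006300006100005f00005d00003400004a00003300004800003200004600003100004400003000004200002f00004000002e00003e00002d00003c00002c00003a00002b00003800002a00003600004900004700004500004300004100003f00003d00003b00003900003700003500001b00002900001a00002700001900002500001800002300001700002100001600001f00001500001d00002800002600002400002200002000001e00001c00000c00001400000b00001200000a00001000000900000e00001300001100000f00000d000004000008000003000006000007000005000000000002000001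
def ctSel1 (c : ℕ) : ℕ := ct1_0
def ct1F (v : ℕ) : ℕ := Nat.rec (motive := fun _ => ℕ) 0 (fun c _ => Nat.mod (Nat.shiftRight (ctSel1 c) (Nat.mul 24 (Nat.mod v 682))) 16777216) (Nat.add (Nat.div v 682) 1)

end Cfsg.Agent.Helper5.L28BTC
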