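import Cfsg.Agent.Helper5.TC2A

/-! generated coset table (generator 2): L28BTC -/

set_option autoImplicit false
set_option Elab.async false

namespace Cfsg.Agent.Helper5.L28BTC
open Cfsg.Agent.Helper5.TC

def ct2_0 : ℕ := 0xf70000f60000fb0000fa0000f90000f80000f40000e40000f20000e10000f00000e00000dd0000ed0000db0000eb0000da0000e90000d70000d50000d40000dc0000e30000f50000d90000d80000f30000f10000e80000ef0000de0000d20000ee0000ec0000e50000d60000ea0000e20000df0000d30000e70000e60000d000009c0000ce00009b0000cc00009a0000ca0000990000c80000980000c60000970000c40000960000c20000950000c00000940000be0000930000bc0000920000ba00009100008f0000b700008e0000b500008d0000b300008c0000b100008b0000af00008a0000ad0000890000ab0000880000a90000870000a70000860000a50000850000a30000840000a100008300009f00008200009d0000810000d10000cf0000cd0000cb0000c90000c70000c50000c30000c10000bf0000bd0000bb0000b90000900000b80000b60000b40000b20000b00000ae0000ac0000aa0000a80000a60000a40000a20000a000009e00007f00005c00007d00005b00007b00005a00007900005900007700005800007500005700007300005600007100005500006f00005400006d00005300006b00005200006900005100006700005000006500004f00006300004e00006100004d00005f00004c00005d00004b00008000007e00007c00007a00007800007600007400007200007000006e00006c00006a00006800006600006400006200006000005e00004900003400004700003300004500003200004300003100004100003000003f00002f00003d00002e00003b00002d00003900002c00003700002b00003500002a00004a00004800004600004400004200004000003e00003c00003a00003800003600002800001b00002600001a00002400001900002200001800002000001700001e00001600001c00001500002900002700002500002300002100001f00001d00001300000c00001100000b00000f00000a00000d00000900001400001200001000000e000007000004000005000003000008000006000001000000000002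
def ctSel2 (c : ℕ) : ℕ := ct2_0
def ct2F (v : ℕ) : ℕ := Nat.rec (motive := fun _ => ℕ) 0 (fun c _ => Nat.mod (Nat.shiftRight (ctSel2 c) (Nat.mul 24 (Nat.mod v 682))) 16777216) (Nat.add (Nat.div v 682) 1)

end Cfsg.Agent.Helper5.L28BTC
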