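import Mathlib
import Cfsg.Agent.Helper5.LPE

/-!
# The base of the upper bound when only the first generator is known to be an involution
-/

set_option autoImplicit false

namespace Cfsg.Agent.Helper5.LP

open Cfsg.Agent.Helper5.TC Cfsg.Agent.Helper5.TCI

section
variable {k : ℕ} {R : List (List ℕ)}

/-- **The base of the upper bound**: the index of the subgroup generated by the first generator,
an involution. -/
theorem card_le_base0 (hinv : [0, 0] ∈ R) {N : ℕ} (hN : 0 < N)
    (hidx : (para k R 1).index = N) :
    Finite (LPG k R) ∧ Nat.card (LPG k R) ≤ N * 2 := by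
  have hpara : para k R 1 = Subgroup.zpowers (ev k R [0]) := by
    unfold para
    rw [Subgroup.zpowers_eq_closure]
    congr 1
    ext x
    constructor
    · rintro ⟨s, hs, rfl⟩
      obtain ⟨c, hc, rfl⟩ := mem_letterWords.mp hs
      have : c = 0 := by omega
      rw [this]
      exact Set.mem_singleton _
    · intro hx
      rw [Set.mem_singleton_iff] at hx
      exact ⟨[0], mem_letterWords.mpr ⟨0, by norm_num, rfl⟩, hx⟩
  have hord : orderOf (ev k R [0]) ∣ 2 := by
    apply orderOf_dvd_of_pow_eq_one
    rw [pow_two, ← ev_append]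
    exact ev_rel hinv
  have hpos : 0 < orderOf (ev k R [0]) := Nat.pos_of_dvd_of_pos hord (by norm_num)
  have hle : orderOf (ev k R [0]) ≤ 2 := Nat.le_of_dvd (by norm_num) hord
  have hmul := Subgroup.card_mul_index (para k R 1)
  rw [hidx, hpara, Nat.card_zpowers] at hmul
  have hne : Nat.card (LPG k R) ≠ 0 := by
    rw [← hmul]
    exact Nat.mul_ne_zero hpos.ne' hN.ne'
  refine ⟨Nat.finite_of_card_ne_zero hne, ?_⟩
  rw [← hmul, mul_comm]
  exact Nat.mul_le_mul_left N hle

end

end Cfsg.Agent.Helper5.LP
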