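import Mathlib
import Cfsg.Agent.Helper5.LPUB
import Cfsg.Agent.Helper5.L28TTCSum

/-! generated: primitivity data for the action of the L28 group on 9 points -/

set_option autoImplicit false

namespace Cfsg.Agent.Helper5.L28LP

open Cfsg.Agent.Helper5.TC Cfsg.Agent.Helper5.TCI Cfsg.Agent.Helper5.LP

/-- generators of the point stabiliser. -/
def Hgens : List (List ℕ) := [[0, 1], [1, 0, 2, 0, 1, 0, 2]]

set_option maxRecDepth 1000000 in
/-- an orbit tree. -/
def prim0A : List (ℕ × ℕ) := [(1, 0), (1, 1), (3, 0), (3, 1), (4, 1), (6, 0), (8, 0)]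

set_option maxRecDepth 1000000 in
/-- an orbit tree. -/
def prim0B : List (ℕ × ℕ) := [(0, 2), (1, 0), (1, 1), (3, 0), (3, 1), (3, 2), (7, 2), (6, 2)]

/-- primitivity data for one orbit of the point stabiliser. -/
def prim0 : ℕ × List ℕ × List (ℕ × ℕ) × List (ℕ × ℕ) := (1, [0], prim0A, prim0B)

/-- the primitivity data. -/
def prim : PrimData := [prim0]

set_option maxRecDepth 1000000 in
theorem prim_ok : primOK L28TTC.ctF 3 9 Hgens prim = true := primOK_of_F (by decide +kernel)

end Cfsg.Agent.Helper5.L28LP
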