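import Mathlib
import Cfsg.Prelude.Def_LieTwisted
import Cfsg.Agent.Helper5.Ree3Dat
import Cfsg.Agent.Helper5.L28LPD

/-!
# Checks for `²G₂(3)′`, in packed linear algebra

The identities between words in the packed matrices of `Ree3Dat`, checked on the packed basis
vectors: the relators of `PSL₂(8)`, the expressions of the generators of `²G₂(3)` by root elements,
and the word certificates showing that the group generated by the letters `54, 55, 56` is normal
in `²G₂(3)` with cyclic quotient.
-/

set_option autoImplicit false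

namespace Cfsg.Agent.Helper5.Ree3

open Cfsg.Agent.Helper5.PackLA
open Cfsg.Agent.Helper5.L28LP (R3)

instance (B p n : ℕ) (cols : List ℕ) : Decidable (ColsOK B p n cols) := by
  unfold ColsOK; infer_instance

/-- two words act in the same way on the packed basis vectors. -/
def Chk (w₁ w₂ : List ℕ) : Prop :=
  ∀ j, j < 14 → actN 128 3 14 cols w₁ (128 ^ j) = actN 128 3 14 cols w₂ (128 ^ j)

instance (w₁ w₂ : List ℕ) : Decidable (Chk w₁ w₂) := by
  unfold Chk; infer_instance

set_option maxRecDepth 100000 in
theorem cols_ok : ∀ c, c < 82 → ColsOK 128 3 14 (cols c) := by decide +kernel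

set_option maxRecDepth 100000 in
theorem chk_rels : ∀ l ∈ R3, Chk (l.map (· + 54)) [] := by decide +kernel

set_option maxRecDepth 100000 in
theorem chk_xword : ∀ c, c < 3 → Chk [54 + c] (xword c) := by decide +kernel

set_option maxRecDepth 100000 in
theorem chk_winv : ∀ s, s < 54 → Chk [s, winv s] [] ∧ Chk [winv s, s] [] := by
  decide +kernel

set_option maxRecDepth 100000 in
theorem chk_inv : Chk [54, 54] [] ∧ Chk [55, 56] [] ∧ Chk [56, 55] [] ∧ Chk [3, 6] [] ∧
    Chk [6, 3] [] ∧ Chk [3, 3] [6] ∧ Chk [81] [] := by decide +kernel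

set_option maxRecDepth 100000 in
theorem chk_cert : ∀ s, s < 54 →
    Chk (s :: List.replicate (ipow s) 3) ((mword s).map (· + 54)) := by decide +kernel

set_option maxRecDepth 100000 in
theorem chk_conj : ∀ c, c < 3 → Chk [3, 54 + c, 6] ((cword c).map (· + 54)) := by decide +kernel

set_option maxRecDepth 100000 in
theorem chk_wordU : ∀ t u v : ZMod 3,
    Chk ((Cfsg.Lie.reeWordU 1 t u v).map fun p => xidx p.1 p.2)
      [9 * t.val + 3 * u.val + v.val] := by decide +kernel

set_option maxRecDepth 100000 in
theorem chk_wordV : ∀ t u v : ZMod 3,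
    Chk ((Cfsg.Lie.reeWordV 1 t u v).map fun p => xidx p.1 p.2)
      [27 + 9 * t.val + 3 * u.val + v.val] := by decide +kernel

theorem mword_lt : ∀ s, s < 54 → ∀ c ∈ mword s, c < 3 := by decide +kernel

theorem cword_lt : ∀ c, c < 3 → ∀ d ∈ cword c, d < 3 := by decide +kernel

theorem ipow_lt : ∀ s, s < 54 → ipow s < 3 := by decide +kernel

theorem xword_lt : ∀ c, c < 3 → ∀ r ∈ xword c, r < 54 := by decide +kernel

theorem winv_lt : ∀ s, s < 54 → winv s < 54 := by decide +kernel

end Cfsg.Agent.Helper5.Ree3
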