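import Mathlib
import Cfsg.Prelude.Def_LieTwisted
import Cfsg.Agent.Helper5.Ree3Chk

/-!
# Matrices for `²G₂(3)′`

The identities checked in `Ree3Chk`, as identities between `14 × 14` matrices over the field with
three elements, and the comparison of these matrices with the generators of the Ree group
`²G₂(3)` of the frozen definitions.
-/

set_option autoImplicit false

namespace Cfsg.Agent.Helper5.Ree3

open Cfsg.Agent.Helper5.PackLA Cfsg.Agent.Helper5.LP
open Cfsg.Agent.Helper5.L28LP (R3 lettersA)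

/-- the field with three elements. -/
abbrev F3 : Type := ZMod 3

/-- the matrix of a letter. -/
def MAT (c : ℕ) : Matrix (Fin 14) (Fin 14) F3 := matOf 128 3 14 (cols c)

theorem prod_eq_of_chk (w₁ w₂ : List ℕ) (h1 : ∀ c ∈ w₁, c < 82) (h2 : ∀ c ∈ w₂, c < 82)
    (h : Chk w₁ w₂) : (w₁.map MAT).prod = (w₂.map MAT).prod :=
  prod_eq_prod_of_check (B := 128) (p := 3) (n := 14) (by norm_num) (by norm_num) (by norm_num)
    cols w₁ w₂ (fun c hc => cols_ok c (h1 c hc)) (fun c hc => cols_ok c (h2 c hc)) h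

/-- the image of a letter of the presentation. -/
def MM (c : ℕ) : Matrix (Fin 14) (Fin 14) F3 := MAT (54 + c)

/-- the image of the inverse of a letter of the presentation. -/
def MMi : ℕ → Matrix (Fin 14) (Fin 14) F3
  | 1 => MM 2
  | 2 => MM 1
  | c => MM c

theorem map_MM (l : List ℕ) : l.map MM = (l.map (· + 54)).map MAT := by
  rw [List.map_map]
  apply List.map_congr_left
  intro c _
  show MAT (54 + c) = MAT (c + 54)
  rw [add_comm]

theorem shift_lt (l : List ℕ) (hl : ∀ c ∈ l, c < 3) : ∀ c ∈ l.map (· + 54), c < 82 := by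
  intro c hc
  obtain ⟨d, hd, rfl⟩ := List.mem_map.mp hc
  have := hl d hd
  show d + 54 < 82
  omega

theorem MM_rels : ∀ l ∈ R3, (l.map MM).prod = 1 := by
  intro l hl
  rw [map_MM, prod_eq_of_chk _ [] (shift_lt l (lettersA l hl)) (by simp) (chk_rels l hl)]
  rfl

theorem MM_inv_lt (c : ℕ) (hc : c < 3) : MM c * MMi c = 1 ∧ MMi c * MM c = 1 := by
  obtain ⟨h0, h1, h2, -⟩ := chk_inv
  have e0 := prod_eq_of_chk [54, 54] [] (by decide) (by simp) h0
  have e1 := prod_eq_of_chk [55, 56] [] (by decide) (by simp) h1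
  have e2 := prod_eq_of_chk [56, 55] [] (by decide) (by simp) h2
  simp only [List.map_cons, List.map_nil, List.prod_cons, List.prod_nil, mul_one] at e0 e1 e2
  interval_cases c
  · exact ⟨e0, e0⟩
  · exact ⟨e1, e2⟩
  · exact ⟨e2, e1⟩

theorem MAT_inv (s : ℕ) (hs : s < 54) : MAT s * MAT (winv s) = 1 ∧ MAT (winv s) * MAT s = 1 := by
  obtain ⟨h1, h2⟩ := chk_winv s hs
  have hw := winv_lt s hs
  have e1 := prod_eq_of_chk [s, winv s] [] (by
    intro c hc
    simp only [List.mem_cons, List.not_mem_nil, or_false] at hc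
    rcases hc with rfl | rfl <;> omega) (by simp) h1
  have e2 := prod_eq_of_chk [winv s, s] [] (by
    intro c hc
    simp only [List.mem_cons, List.not_mem_nil, or_false] at hc
    rcases hc with rfl | rfl <;> omega) (by simp) h2
  simp only [List.map_cons, List.map_nil, List.prod_cons, List.prod_nil, mul_one] at e1 e2
  exact ⟨e1, e2⟩

theorem MM_eq (c : ℕ) (hc : c < 3) : MM c = ((xword c).map MAT).prod := by
  have e := prod_eq_of_chk [54 + c] (xword c) (by
    intro d hd
    simp only [List.mem_cons, List.not_mem_nil, or_false] at hd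
    omega) (fun r hr => lt_trans (xword_lt c hc r hr) (by norm_num)) (chk_xword c hc)
  show MAT (54 + c) = _
  simpa using e

theorem X0_cube : MAT 3 * MAT 3 = MAT 6 ∧ MAT 3 * MAT 6 = 1 ∧ MAT 6 * MAT 3 = 1 := by
  obtain ⟨-, -, -, h3, h4, h5, -⟩ := chk_inv
  have e3 := prod_eq_of_chk [3, 6] [] (by decide) (by simp) h3
  have e4 := prod_eq_of_chk [6, 3] [] (by decide) (by simp) h4
  have e5 := prod_eq_of_chk [3, 3] [6] (by decide) (by decide) h5
  simp only [List.map_cons, List.map_nil, List.prod_cons, List.prod_nil, mul_one] at e3 e4 e5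
  exact ⟨e5, e3, e4⟩

theorem MAT_one : MAT 81 = 1 := by
  obtain ⟨-, -, -, -, -, -, h6⟩ := chk_inv
  have e6 := prod_eq_of_chk [81] [] (by decide) (by simp) h6
  simpa using e6

theorem MAT_cert (s : ℕ) (hs : s < 54) :
    MAT s * MAT 3 ^ ipow s = ((mword s).map MM).prod := by
  have e := prod_eq_of_chk (s :: List.replicate (ipow s) 3) ((mword s).map (· + 54)) (by
    intro c hc
    rcases List.mem_cons.mp hc with rfl | hc
    · omega
    · rw [List.eq_of_mem_replicate hc]
      norm_num) (shift_lt _ (mword_lt s hs)) (chk_cert s hs)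
  rw [map_MM, ← e, List.map_cons, List.prod_cons, List.map_replicate, List.prod_replicate]

theorem conj_cert (c : ℕ) (hc : c < 3) : MAT 3 * MM c * MAT 6 = ((cword c).map MM).prod := by
  have e := prod_eq_of_chk [3, 54 + c, 6] ((cword c).map (· + 54)) (by
    intro d hd
    simp only [List.mem_cons, List.not_mem_nil, or_false] at hd
    omega) (shift_lt _ (cword_lt c hc)) (chk_conj c hc)
  rw [map_MM, ← e]
  simp only [List.map_cons, List.map_nil, List.prod_cons, List.prod_nil, mul_one]
  rw [mul_assoc]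
  rfl

theorem MM_ne : MM 0 ≠ 1 := by
  intro h
  have h1 := congrFun (congrFun h 0) 0
  revert h1
  decide +kernel

/-! ### comparison with the frozen definitions -/

/-- the coordinates of the Chevalley datum of type `G₂`. -/
abbrev I14 : Type := Cfsg.Lie.chevG2.Idx

/-- the numbering of the coordinates: `h₁, h₂; e_r`. -/
def e14f : Fin 14 → I14 :=
  fun i => if h : i.val < 2 then .inl ⟨i.val, h⟩ else .inr ⟨i.val - 2, by
    have := i.isLt
    show i.val - 2 < 12
    omega⟩

/-- the inverse numbering. -/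
def e14g : I14 → Fin 14
  | .inl i => ⟨i.val, by
    have : i.val < 2 := i.isLt
    omega⟩
  | .inr i => ⟨i.val + 2, by
    have : i.val < 12 := i.isLt
    omega⟩

/-- the numbering of the coordinates as an equivalence. -/
def e14 : Fin 14 ≃ I14 := ⟨e14f, e14g, by decide, by decide⟩

set_option maxRecDepth 100000 in
theorem xMat_eq : ∀ (r : Fin Cfsg.Lie.chevG2.nroots) (t : F3),
    Cfsg.Lie.chevG2.xMat F3 r t
      = ((MAT (xidx r.val t)).submatrix e14.symm e14.symm : Matrix I14 I14 F3) := by
  decide +kernel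

theorem wordMat_eq : ∀ (w : List (ℕ × F3)), (∀ p ∈ w, p.1 < 12) →
    Cfsg.Lie.chevG2.wordMat F3 w
      = (((w.map fun p => xidx p.1 p.2).map MAT).prod.submatrix e14.symm e14.symm :
        Matrix I14 I14 F3)
  | [], _ => by
    show (1 : Matrix I14 I14 F3) = _
    rw [List.map_nil, List.map_nil, List.prod_nil, Matrix.submatrix_one_equiv]
  | p :: w, hw => by
    have ih := wordMat_eq w (fun q hq => hw q (List.mem_cons_of_mem _ hq))
    have hp : p.1 < Cfsg.Lie.chevG2.nroots := hw p List.mem_cons_self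
    have h1 : Cfsg.Lie.chevG2.wordMat F3 (p :: w)
        = Cfsg.Lie.chevG2.x F3 p.1 p.2 * Cfsg.Lie.chevG2.wordMat F3 w := by
      unfold Cfsg.Lie.ChevalleyDatum.wordMat
      rw [List.map_cons, List.prod_cons]
    have h2 : Cfsg.Lie.chevG2.x F3 p.1 p.2 = Cfsg.Lie.chevG2.xMat F3 ⟨p.1, hp⟩ p.2 := by
      unfold Cfsg.Lie.ChevalleyDatum.x
      rw [dif_pos hp]
    rw [h1, h2, ih, xMat_eq, List.map_cons, List.map_cons, List.prod_cons,
      Matrix.submatrix_mul_equiv]

theorem wordU_roots : ∀ t u v : F3, ∀ p ∈ Cfsg.Lie.reeWordU 1 t u v, p.1 < 12 := by decide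

theorem wordV_roots : ∀ t u v : F3, ∀ p ∈ Cfsg.Lie.reeWordV 1 t u v, p.1 < 12 := by decide

theorem wordU_letters : ∀ t u v : F3,
    ∀ c ∈ (Cfsg.Lie.reeWordU 1 t u v).map fun p => xidx p.1 p.2, c < 82 := by decide

theorem wordV_letters : ∀ t u v : F3,
    ∀ c ∈ (Cfsg.Lie.reeWordV 1 t u v).map fun p => xidx p.1 p.2, c < 82 := by decide

theorem idx_lt (t u v : F3) : 9 * t.val + 3 * u.val + v.val < 27 := by
  have h1 : t.val < 3 := ZMod.val_lt t
  have h2 : u.val < 3 := ZMod.val_lt u
  have h3 : v.val < 3 := ZMod.val_lt v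
  omega

theorem wordU_eq (t u v : F3) :
    Cfsg.Lie.chevG2.wordMat F3 (Cfsg.Lie.reeWordU 1 t u v)
      = ((MAT (9 * t.val + 3 * u.val + v.val)).submatrix e14.symm e14.symm :
        Matrix I14 I14 F3) := by
  rw [wordMat_eq _ (wordU_roots t u v),
    prod_eq_of_chk _ [9 * t.val + 3 * u.val + v.val] (wordU_letters t u v) (by
      intro c hc
      have := idx_lt t u v
      simp only [List.mem_cons, List.not_mem_nil, or_false] at hc
      omega) (chk_wordU t u v)]
  simp

theorem wordV_eq (t u v : F3) :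
    Cfsg.Lie.chevG2.wordMat F3 (Cfsg.Lie.reeWordV 1 t u v)
      = ((MAT (27 + 9 * t.val + 3 * u.val + v.val)).submatrix e14.symm e14.symm :
        Matrix I14 I14 F3) := by
  rw [wordMat_eq _ (wordV_roots t u v),
    prod_eq_of_chk _ [27 + 9 * t.val + 3 * u.val + v.val] (wordV_letters t u v) (by
      intro c hc
      have := idx_lt t u v
      simp only [List.mem_cons, List.not_mem_nil, or_false] at hc
      omega) (chk_wordV t u v)]
  simp

end Cfsg.Agent.Helper5.Ree3
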