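import Mathlib
import Cfsg.Prelude.Def_ChevG2
import Cfsg.Agent.Helper5.G23Chk
import Cfsg.Agent.Helper5.Ree3Mat
import Cfsg.Agent.Helper5.PackLB
import Cfsg.Agent.Helper5.G23ChkW

/-!
# Generators of `G₂(3)`

Three elements `a, b, c` of orders 7, 7, 13 of the Chevalley group of type `G₂` over the integers
modulo 3, as products of root elements; their relators; the permutation representation of the
group on an orbit of 728 vectors; stabiliser chains: `a, b, c` generate the group, and words in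
`a, b` spell at least 6048 elements.
-/

set_option autoImplicit false

namespace Cfsg.Agent.Helper5.G23

open Cfsg.Agent.Helper5.PackLA Cfsg.Agent.Helper5.LP Cfsg.Agent.Helper5.StemP
  Cfsg.Agent.Helper5.TC Cfsg.Agent.Helper5.TCI Cfsg.Agent.Helper5.PermHom Matrix
open Cfsg.Agent.Helper5.Ree3 (F3 I14 e14 MAT xidx)

/-! ### matrices -/

/-- the matrix of a letter. -/
def MAT3 (x : ℕ) : Matrix (Fin 14) (Fin 14) F3 := matOf 128 3 14 (cols3 x)

theorem cols3_lt {x : ℕ} (hx : x < 82) : cols3 x = Ree3.cols x := by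
  unfold cols3
  rw [if_pos hx]

theorem cols3_ge (c : ℕ) : cols3 (82 + c) = colsL c := by
  unfold cols3
  rw [if_neg (by omega), Nat.add_sub_cancel_left]

theorem MAT3_lt {x : ℕ} (hx : x < 82) : MAT3 x = MAT x := by
  unfold MAT3 MAT
  rw [cols3_lt hx]

theorem prod_eq_of_chk3 (w₁ w₂ : List ℕ) (h1 : ∀ c ∈ w₁, c < 88) (h2 : ∀ c ∈ w₂, c < 88)
    (h : Chk3 w₁ w₂) : (w₁.map MAT3).prod = (w₂.map MAT3).prod :=
  prod_eq_prod_of_check (B := 128) (p := 3) (n := 14) (by norm_num) (by norm_num) (by norm_num)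
    cols3 w₁ w₂ (fun c hc => cols3_ok c (h1 c hc)) (fun c hc => cols3_ok c (h2 c hc)) h

theorem mul_eq_one_of_chk {x y : ℕ} (hx : x < 88) (hy : y < 88) (h : Chk3 [x, y] []) :
    MAT3 x * MAT3 y = 1 := by
  have e := prod_eq_of_chk3 [x, y] [] (by
    intro c hc
    simp only [List.mem_cons, List.not_mem_nil, or_false] at hc
    rcases hc with rfl | rfl <;> assumption) (by simp) h
  simpa using e

theorem rinv_lt {x : ℕ} (h1 : 57 ≤ x) (h2 : x < 81) : rinv x < 88 := by
  unfold rinv
  split_ifs <;> omega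

theorem MAT3_rinv {x : ℕ} (h1 : 57 ≤ x) (h2 : x < 81) :
    MAT3 x * MAT3 (rinv x) = 1 ∧ MAT3 (rinv x) * MAT3 x = 1 := by
  obtain ⟨c1, c2⟩ := chk_rinv x h1 h2
  exact ⟨mul_eq_one_of_chk (by omega) (rinv_lt h1 h2) c1,
    mul_eq_one_of_chk (rinv_lt h1 h2) (by omega) c2⟩

/-- the root letters as units. -/
def RU (x : ℕ) : (Matrix (Fin 14) (Fin 14) F3)ˣ :=
  if h : 57 ≤ x ∧ x < 81 then
    ⟨MAT3 x, MAT3 (rinv x), (MAT3_rinv h.1 h.2).1, (MAT3_rinv h.1 h.2).2⟩
  else 1

theorem RU_val {x : ℕ} (h1 : 57 ≤ x) (h2 : x < 81) : (RU x).val = MAT3 x := by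
  unfold RU
  rw [dif_pos ⟨h1, h2⟩]

/-- the inverse of a letter. -/
def linv6 (c : ℕ) : ℕ := if c % 2 = 0 then c + 1 else c - 1

theorem linv6_lt {c : ℕ} (hc : c < 6) : linv6 c < 6 := by
  unfold linv6
  split_ifs <;> omega

theorem linv6_linv6 {c : ℕ} (hc : c < 6) : linv6 (linv6 c) = c := by
  interval_cases c <;> rfl

theorem MAT3_linv {c : ℕ} (hc : c < 6) :
    MAT3 (82 + c) * MAT3 (82 + linv6 c) = 1 ∧ MAT3 (82 + linv6 c) * MAT3 (82 + c) = 1 := by
  obtain ⟨h0, h1, h2, h3, h4, h5⟩ := chk_linv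
  interval_cases c
  · exact ⟨mul_eq_one_of_chk (by decide) (by decide) h0,
      mul_eq_one_of_chk (by decide) (by decide) h1⟩
  · exact ⟨mul_eq_one_of_chk (by decide) (by decide) h1,
      mul_eq_one_of_chk (by decide) (by decide) h0⟩
  · exact ⟨mul_eq_one_of_chk (by decide) (by decide) h2,
      mul_eq_one_of_chk (by decide) (by decide) h3⟩
  · exact ⟨mul_eq_one_of_chk (by decide) (by decide) h3,
      mul_eq_one_of_chk (by decide) (by decide) h2⟩
  · exact ⟨mul_eq_one_of_chk (by decide) (by decide) h4,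
      mul_eq_one_of_chk (by decide) (by decide) h5⟩
  · exact ⟨mul_eq_one_of_chk (by decide) (by decide) h5,
      mul_eq_one_of_chk (by decide) (by decide) h4⟩

/-- the letters as units. -/
def LU (c : ℕ) : (Matrix (Fin 14) (Fin 14) F3)ˣ :=
  if h : c < 6 then
    ⟨MAT3 (82 + c), MAT3 (82 + linv6 c), (MAT3_linv h).1, (MAT3_linv h).2⟩
  else 1

theorem LU_val {c : ℕ} (hc : c < 6) : (LU c).val = MAT3 (82 + c) := by
  unfold LU
  rw [dif_pos hc]

theorem LU_inv_val {c : ℕ} (hc : c < 6) : ((LU c)⁻¹).val = MAT3 (82 + linv6 c) := by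
  unfold LU
  rw [dif_pos hc]
  rfl

theorem LU_linv {c : ℕ} (hc : c < 6) : LU (linv6 c) = (LU c)⁻¹ := by
  apply Units.ext
  rw [LU_val (linv6_lt hc), LU_inv_val hc]

theorem LU_prod_val : ∀ l : List ℕ, (∀ c ∈ l, c < 6) →
    ((l.map LU).prod : (Matrix (Fin 14) (Fin 14) F3)ˣ).val = ((l.map (· + 82)).map MAT3).prod
  | [], _ => rfl
  | c :: l, h => by
    rw [List.map_cons, List.prod_cons, Units.val_mul, LU_val (h c List.mem_cons_self),
      LU_prod_val l (fun c hc => h c (List.mem_cons_of_mem _ hc)), List.map_cons, List.map_cons,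
      List.prod_cons, add_comm]

theorem RU_prod_val : ∀ l : List ℕ, (∀ x ∈ l, 57 ≤ x ∧ x < 81) →
    ((l.map RU).prod : (Matrix (Fin 14) (Fin 14) F3)ˣ).val = (l.map MAT3).prod
  | [], _ => rfl
  | x :: l, h => by
    rw [List.map_cons, List.prod_cons, Units.val_mul,
      RU_val (h x List.mem_cons_self).1 (h x List.mem_cons_self).2,
      RU_prod_val l (fun c hc => h c (List.mem_cons_of_mem _ hc)), List.map_cons, List.prod_cons]

theorem shift_lt (l : List ℕ) (hl : ∀ c ∈ l, c < 6) : ∀ c ∈ l.map (· + 82), c < 88 := by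
  intro c hc
  obtain ⟨d, hd, rfl⟩ := List.mem_map.mp hc
  have := hl d hd
  show d + 82 < 88
  omega

theorem LU_eq_prod (c : ℕ) (hc : c < 6) : LU c = ((wordL c).map RU).prod := by
  apply Units.ext
  rw [LU_val hc, RU_prod_val _ (wordL_lt c hc)]
  have e := prod_eq_of_chk3 [82 + c] (wordL c) (by
    intro d hd
    simp only [List.mem_cons, List.not_mem_nil, or_false] at hd
    omega) (fun x hx => by have := (wordL_lt c hc x hx).2; omega) (chk_word c hc)
  simpa using e

/-! ### the Chevalley group -/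

/-- transport of invertible matrices along the numbering of the coordinates. -/
def reGL : (Matrix (Fin 14) (Fin 14) F3)ˣ ≃* Matrix.GeneralLinearGroup I14 F3 :=
  Units.mapEquiv (Matrix.reindexAlgEquiv F3 F3 e14).toMulEquiv

theorem reGL_val (u : (Matrix (Fin 14) (Fin 14) F3)ˣ) :
    ((reGL u : Matrix.GeneralLinearGroup I14 F3) : Matrix I14 I14 F3)
      = (u : Matrix (Fin 14) (Fin 14) F3).submatrix e14.symm e14.symm := rfl

/-- the Chevalley group of type `G₂` over the integers modulo 3. -/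
abbrev GG : Subgroup (Matrix.GeneralLinearGroup I14 F3) := Cfsg.Lie.chevG2.group F3

theorem xidx_eq : ∀ x, x < 81 → 57 ≤ x →
    xidx ((x - 57) / 2) ((((x - 57) % 2 + 1 : ℕ)) : F3) = x := by decide

theorem reGL_RU_mem (x : ℕ) (h1 : 57 ≤ x) (h2 : x < 81) : reGL (RU x) ∈ GG := by
  apply Subgroup.subset_closure
  refine ⟨⟨(x - 57) / 2, by
    show (x - 57) / 2 < 12
    omega⟩, ((((x - 57) % 2 + 1 : ℕ)) : F3), ?_⟩
  rw [Ree3.xMat_eq, reGL_val, RU_val h1 h2, MAT3_lt (by omega)]
  show _ = (MAT (xidx ((x - 57) / 2) ((((x - 57) % 2 + 1 : ℕ)) : F3))).submatrix _ _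
  rw [xidx_eq x h2 h1]

theorem reGL_LU_mem (c : ℕ) : reGL (LU c) ∈ GG := by
  by_cases hc : c < 6
  · rw [LU_eq_prod c hc, map_list_prod]
    apply Subgroup.list_prod_mem
    intro y hy
    rw [List.map_map] at hy
    obtain ⟨x, hx, rfl⟩ := List.mem_map.mp hy
    exact reGL_RU_mem x (wordL_lt c hc x hx).1 (wordL_lt c hc x hx).2
  · unfold LU
    rw [dif_neg hc, map_one]
    exact one_mem _

/-- the letters in the Chevalley group. -/
def LG (c : ℕ) : GG := ⟨reGL (LU c), reGL_LU_mem c⟩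

/-- the generators. -/
def g (i : ℕ) : GG := LG (2 * i)

/-- the orders. -/
def mm (i : ℕ) : ℕ := if i = 2 then 13 else 7

theorem LG_linv {c : ℕ} (hc : c < 6) : LG (linv6 c) = (LG c)⁻¹ := by
  apply Subtype.ext
  show reGL (LU (linv6 c)) = (reGL (LU c))⁻¹
  rw [LU_linv hc, map_inv]

theorem lval_LG : ∀ c, c < 6 → lval g c = LG c := by
  intro c hc
  interval_cases c
  · rfl
  · exact (LG_linv (c := 0) (by norm_num)).symm
  · rfl
  · exact (LG_linv (c := 2) (by norm_num)).symm
  · rfl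
  · exact (LG_linv (c := 4) (by norm_num)).symm

theorem word_val : ∀ l : List ℕ, (∀ c ∈ l, c < 6) →
    (((l.map (lval g)).prod : GG) : Matrix.GeneralLinearGroup I14 F3) = reGL ((l.map LU).prod)
  | [], _ => by
    rw [List.map_nil, List.prod_nil, List.map_nil, List.prod_nil, map_one]
    rfl
  | c :: l, h => by
    rw [List.map_cons, List.prod_cons, Subgroup.coe_mul,
      word_val l (fun c hc => h c (List.mem_cons_of_mem _ hc)), lval_LG c (h c List.mem_cons_self),
      List.map_cons, List.prod_cons, map_mul]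
    rfl

theorem word_eq_one (l : List ℕ) (hl : ∀ c ∈ l, c < 6) (h : Chk3 (l.map (· + 82)) []) :
    (l.map (lval g)).prod = 1 := by
  apply Subtype.ext
  rw [word_val l hl]
  have h1 : (l.map LU).prod = 1 := by
    apply Units.ext
    rw [LU_prod_val l hl, prod_eq_of_chk3 _ [] (shift_lt l hl) (by simp) h]
    rfl
  rw [h1, map_one]
  rfl

theorem CC_rel : ∀ r ∈ CC, (r.map (lval g)).prod = 1 := fun r hr =>
  word_eq_one r (CC_lt r hr) (chk_rels r hr)

theorem pow_eq_one {i n : ℕ} (hi : i < 3) (h : Chk3 (List.replicate n (82 + 2 * i)) []) :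
    g i ^ n = 1 := by
  have h1 : ((List.replicate n (2 * i)).map (lval g)).prod = 1 := by
    apply word_eq_one
    · intro c hc
      rw [List.eq_of_mem_replicate hc]
      omega
    · rw [List.map_replicate]
      rw [show 2 * i + 82 = 82 + 2 * i from add_comm _ _]
      exact h
  rw [List.map_replicate, List.prod_replicate] at h1
  have h2 : lval g (2 * i) = g i := by
    unfold lval
    rw [if_pos (by omega), Nat.mul_div_cancel_left _ (by norm_num : 0 < 2)]
  rwa [h2] at h1

theorem g_pow : ∀ i, i < 3 → g i ^ mm i = 1 := by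
  intro i hi
  interval_cases i
  · exact pow_eq_one (by norm_num) chk_pow.1
  · exact pow_eq_one (by norm_num) chk_pow.2.1
  · exact pow_eq_one (by norm_num) chk_pow.2.2

theorem g0_ne : g 0 ≠ 1 := by
  intro h
  have h1 : ((g 0 : GG) : Matrix.GeneralLinearGroup I14 F3) = 1 := congrArg Subtype.val h
  have h2 : reGL (LU 0) = 1 := h1
  have h3 : LU 0 = 1 := by
    have := congrArg reGL.symm h2
    rwa [MulEquiv.symm_apply_apply, map_one] at this
  have h4 : MAT3 82 = 1 := by
    have := congrArg Units.val h3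
    rwa [LU_val (by norm_num)] at this
  apply chk_ne
  intro j hj
  have hw : ∀ c ∈ [82], ColsOK 128 3 14 (cols3 c) := by
    intro c hc
    rw [List.mem_singleton] at hc
    subst hc
    exact cols3_ok 82 (by norm_num)
  have h5 := (actN_spec (B := 128) (p := 3) (n := 14) (by norm_num) (by norm_num) cols3 [82] hw
    (128 ^ j) (small_pow (by norm_num) (by norm_num) 14 j))
  have h6 : vecOf 128 3 14 (actN 128 3 14 cols3 [82] (128 ^ j)) = vecOf 128 3 14 (128 ^ j) := by
    rw [h5.2]
    simp only [List.map_cons, List.map_nil, List.prod_cons, List.prod_nil, mul_one]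
    show (MAT3 82).mulVec _ = _
    rw [h4, Matrix.one_mulVec]
  have hlt : 128 ^ j < 128 ^ 14 := Nat.pow_lt_pow_right (by norm_num) hj
  have hlt2 : actN 128 3 14 cols3 [82] (128 ^ j) < 128 ^ 14 := by
    revert j
    decide +kernel
  exact vecOf_inj (by norm_num) hlt2 hlt h5.1 (small_pow (by norm_num) (by norm_num) 14 j) h6

theorem order_g0 : orderOf (g 0) = 7 := by
  have : Fact (Nat.Prime 7) := ⟨by norm_num⟩
  have h7 : g 0 ^ 7 = 1 := g_pow 0 (by norm_num)
  exact orderOf_eq_prime h7 g0_ne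

/-! ### the action on the orbit -/

/-- the action of the invertible matrices on the vectors. -/
def glPerm : Matrix.GeneralLinearGroup I14 F3 →* Equiv.Perm (I14 → F3) where
  toFun x :=
    { toFun := fun v => (x : Matrix I14 I14 F3) *ᵥ v
      invFun := fun v => ((x⁻¹ : Matrix.GeneralLinearGroup I14 F3) : Matrix I14 I14 F3) *ᵥ v
      left_inv := by
        intro v
        show ((x⁻¹ : Matrix.GeneralLinearGroup I14 F3) : Matrix I14 I14 F3) *ᵥ
          ((x : Matrix I14 I14 F3) *ᵥ v) = v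
        rw [Matrix.mulVec_mulVec, Units.inv_mul, Matrix.one_mulVec]
      right_inv := by
        intro v
        show (x : Matrix I14 I14 F3) *ᵥ
          (((x⁻¹ : Matrix.GeneralLinearGroup I14 F3) : Matrix I14 I14 F3) *ᵥ v) = v
        rw [Matrix.mulVec_mulVec, Units.mul_inv, Matrix.one_mulVec] }
  map_one' := by
    apply Equiv.ext
    intro v
    show ((1 : Matrix.GeneralLinearGroup I14 F3) : Matrix I14 I14 F3) *ᵥ v = v
    rw [Units.val_one, Matrix.one_mulVec]
  map_mul' x y := by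
    apply Equiv.ext
    intro v
    show ((x * y : Matrix.GeneralLinearGroup I14 F3) : Matrix I14 I14 F3) *ᵥ v =
      (x : Matrix I14 I14 F3) *ᵥ ((y : Matrix I14 I14 F3) *ᵥ v)
    rw [Matrix.mulVec_mulVec, Units.val_mul]

theorem glPerm_apply (x : Matrix.GeneralLinearGroup I14 F3) (v : I14 → F3) :
    glPerm x v = (x : Matrix I14 I14 F3) *ᵥ v := rfl

/-- the vectors of the orbit. -/
def dec (v : Fin 728) : I14 → F3 := fun i => vecOf 128 3 14 (pt v.val) (e14.symm i)

theorem dec_injective : Function.Injective dec := by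
  intro v w h
  have h1 : vecOf 128 3 14 (pt v.val) = vecOf 128 3 14 (pt w.val) := by
    funext i
    have := congrFun h (e14 i)
    unfold dec at this
    rwa [Equiv.symm_apply_apply] at this
  have h2 := vecOf_inj (by norm_num) (pt_ok v.val v.isLt).1 (pt_ok w.val w.isLt).1
    (pt_ok v.val v.isLt).2 (pt_ok w.val w.isLt).2 h1
  exact Fin.ext (pt_inj v.val w.val v.isLt w.isLt h2)

theorem act_dec (cols : List ℕ) (hc : ColsOK 128 3 14 cols)
    (x : Matrix.GeneralLinearGroup I14 F3)
    (hx : (x : Matrix I14 I14 F3) = (matOf 128 3 14 cols).submatrix e14.symm e14.symm)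
    (v : Fin 728) (w : ℕ) (hw : w < 728)
    (h : mulVecN 128 3 14 cols (pt v.val) = pt w) :
    glPerm x (dec v) = dec ⟨w, hw⟩ := by
  rw [glPerm_apply, hx, Matrix.submatrix_mulVec_equiv]
  funext i
  show ((matOf 128 3 14 cols) *ᵥ (dec v ∘ e14.symm.symm)) (e14.symm i) = _
  have e1 : dec v ∘ e14.symm.symm = vecOf 128 3 14 (pt v.val) := by
    funext j
    show vecOf 128 3 14 (pt v.val) (e14.symm (e14 j)) = _
    rw [Equiv.symm_apply_apply]
  rw [e1, ← mulVecN_spec (by norm_num) (by norm_num) cols hc _ (pt_ok v.val v.isLt).2, h]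
  rfl

theorem xidx_range (r : ℕ) (hr : r < 12) (t : F3) : 57 ≤ xidx r t ∧ xidx r t < 82 := by
  unfold Ree3.xidx
  have := ZMod.val_lt t
  split_ifs <;> omega

theorem hgen : ∀ x ∈ {x : Matrix.GeneralLinearGroup I14 F3 |
      ∃ (r : Fin Cfsg.Lie.chevG2.nroots) (t : F3),
        (x : Matrix Cfsg.Lie.chevG2.Idx Cfsg.Lie.chevG2.Idx F3) = Cfsg.Lie.chevG2.xMat F3 r t},
    ∀ v, ∃ w, glPerm x (dec v) = dec w := by
  rintro x ⟨r, t, hx⟩ v
  rw [Ree3.xMat_eq] at hx
  obtain ⟨h1, h2⟩ := xidx_range r.val r.isLt t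
  obtain ⟨h3, h4⟩ := tabR_spec (xidx r.val t - 57) (by omega) v.val v.isLt
  have e : 57 + (xidx r.val t - 57) = xidx r.val t := by omega
  rw [e] at h3
  exact ⟨⟨_, h4⟩, act_dec (Ree3.cols (xidx r.val t)) (Ree3.cols_ok _ h2) x hx v _ h4 h3⟩

/-- the permutation representation on the orbit. -/
noncomputable def rho : GG →* Equiv.Perm (Fin 728) :=
  Classical.choose (exists_permHom glPerm dec dec_injective _ hgen)

theorem rho_spec (h : GG) (v : Fin 728) :
    dec (rho h v) = glPerm (h : Matrix.GeneralLinearGroup I14 F3) (dec v) :=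
  Classical.choose_spec (exists_permHom glPerm dec dec_injective _ hgen) h v

theorem rho_LG (c : ℕ) (hc : c < 6) (v : Fin 728) : (rho (LG c) v).val = tabF c v.val := by
  obtain ⟨h1, h2⟩ := tab_spec c hc v.val v.isLt
  have h3 : dec (rho (LG c) v) = dec ⟨tabF c v.val, h2⟩ := by
    rw [rho_spec]
    refine act_dec (cols3 (82 + c)) (cols3_ok _ (by omega)) (reGL (LU c)) ?_ v _ h2 ?_
    · rw [reGL_val, LU_val hc]
      rfl
    · rw [cols3_ge]
      exact h1
  rw [dec_injective h3]

theorem rho_word : ∀ l : List ℕ, (∀ c ∈ l, c < 6) → ∀ v : Fin 728,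
    (rho ((l.map (lval g)).prod) v).val = actL tabF l v.val
  | [], _, v => by
    rw [List.map_nil, List.prod_nil, map_one]
    rfl
  | c :: l, h, v => by
    rw [List.map_cons, List.prod_cons, map_mul, Equiv.Perm.mul_apply,
      lval_LG c (h c List.mem_cons_self), rho_LG c (h c List.mem_cons_self),
      rho_word l (fun c hc => h c (List.mem_cons_of_mem _ hc)) v]
    rfl

/-! ### the order -/

instance finGG : Finite GG := inferInstance

/-! ### stabiliser chains -/

/-- a group whose words act on a table as prescribed by a homomorphism to `G₂(3)`. -/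
theorem actsOn_of_hom {P : Type*} [Group P] (π : P →* GG) (e : List ℕ → P) (k : ℕ) (hk : k ≤ 6)
    (he : ∀ l : List ℕ, (∀ c ∈ l, c < k) → π (e l) = (l.map (lval g)).prod) :
    ActsOn (rho.comp π) e k tabF := by
  constructor
  intro l hl v
  rw [MonoidHom.comp_apply, he l hl]
  exact rho_word l (fun c hc => lt_of_lt_of_le (hl c hc) hk) v

/-- the order of the group is at least `4245696`. -/
theorem card_GG_ge : 4245696 ≤ Nat.card GG := by
  have hA : ActsOn (rho.comp (MonoidHom.id GG)) (fun l => (l.map (lval g)).prod) (2 * 3)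
      tabF :=
    actsOn_of_hom (MonoidHom.id GG) _ (2 * 3) (by norm_num) (fun l _ => rfl)
  have h1 := card_ge_of_chain hA levelGs chainG_ok
  rwa [chainG_prod] at h1

/-! ### generation -/

theorem MAT3_root (x : ℕ) (h1 : 57 ≤ x) (h2 : x < 82) :
    (((rootW x).map (· + 82)).map MAT3).prod = MAT3 x := by
  have e := prod_eq_of_chk3 [x] ((rootW x).map (· + 82)) (by
    intro c hc
    rw [List.mem_singleton] at hc
    omega) (shift_lt _ (rootW_lt x h1 h2)) (chk_root x h1 h2)
  rw [List.map_cons, List.map_nil, List.prod_cons, List.prod_nil, mul_one] at e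
  exact e.symm

theorem word_mem (l : List ℕ) (hl : ∀ c ∈ l, c < 6) :
    (l.map (lval g)).prod ∈ Subgroup.closure {y : GG | ∃ i, i < 3 ∧ y = g i} := by
  apply Subgroup.list_prod_mem
  intro y hy
  obtain ⟨c, hc, rfl⟩ := List.mem_map.mp hy
  have hi : c / 2 < 3 := by have := hl c hc; omega
  unfold lval
  split_ifs
  · exact Subgroup.subset_closure ⟨c / 2, hi, rfl⟩
  · exact inv_mem (Subgroup.subset_closure ⟨c / 2, hi, rfl⟩)

theorem root_mem (x : ℕ) (h1 : 57 ≤ x) (h2 : x < 82) (y : Matrix.GeneralLinearGroup I14 F3)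
    (hy : (y : Matrix I14 I14 F3) = (MAT x).submatrix e14.symm e14.symm) :
    ∃ h ∈ Subgroup.closure {y : GG | ∃ i, i < 3 ∧ y = g i},
      ((h : GG) : Matrix.GeneralLinearGroup I14 F3) = y := by
  refine ⟨((rootW x).map (lval g)).prod, word_mem _ (rootW_lt x h1 h2), ?_⟩
  apply Units.ext
  rw [word_val _ (rootW_lt x h1 h2), reGL_val, LU_prod_val _ (rootW_lt x h1 h2),
    MAT3_root x h1 h2, hy, MAT3_lt h2]

/-- the three generators generate the group. -/
theorem g_closure : Subgroup.closure {y : GG | ∃ i, i < 3 ∧ y = g i} = ⊤ := by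
  rw [eq_top_iff]
  rintro ⟨x, hx⟩ -
  have hle : GG ≤ (Subgroup.closure {y : GG | ∃ i, i < 3 ∧ y = g i}).map GG.subtype := by
    show Subgroup.closure _ ≤ _
    rw [Subgroup.closure_le]
    rintro y ⟨r, t, hy⟩
    rw [Ree3.xMat_eq] at hy
    obtain ⟨h1, h2⟩ := xidx_range r.val r.isLt t
    exact root_mem _ h1 h2 y hy
  obtain ⟨h, hh, e⟩ := hle hx
  have e2 : h = ⟨x, hx⟩ := Subtype.ext e
  rwa [e2] at hh

end Cfsg.Agent.Helper5.G23
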