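import Cfsg.Agent.Helper5.G23MDDat

/-! generated permutation model of a central extension, checks: G23MD -/

set_option autoImplicit false
set_option Elab.async false
set_option maxRecDepth 1000000

namespace Cfsg.Agent.Helper5.G23MD
open Cfsg.Agent.Helper5.TC Cfsg.Agent.Helper5.TCI Cfsg.Agent.Helper5.LP

theorem relc_31_0 : fixPtsF W_31 2106 0 = true := by decide +kernel

end Cfsg.Agent.Helper5.G23MD
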