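import Cfsg.Agent.Helper5.G23MDDat

/-! generated permutation model of a central extension, checks: G23MD -/

set_option autoImplicit false
set_option Elab.async false
set_option maxRecDepth 1000000

namespace Cfsg.Agent.Helper5.G23MD
open Cfsg.Agent.Helper5.TC Cfsg.Agent.Helper5.TCI Cfsg.Agent.Helper5.LP

theorem relc_15_0 : fixPtsF W_15 2106 0 = true := by decide +kernel

theorem relc_17_0 : fixPtsF W_17 2106 0 = true := by decide +kernel

theorem relc_14_0 : fixPtsF W_14 2106 0 = true := by decide +kernel

theorem relc_10_0 : fixPtsF W_10 2106 0 = true := by decide +kernel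

theorem relc_24_0 : fixPtsF W_24 2106 0 = true := by decide +kernel

theorem relc_26_0 : fixPtsF W_26 2106 0 = true := by decide +kernel

theorem relc_22_0 : fixPtsF W_22 2106 0 = true := by decide +kernel

theorem relc_18_0 : fixPtsF W_18 2106 0 = true := by decide +kernel

theorem relc_19_0 : fixPtsF W_19 2106 0 = true := by decide +kernel

theorem relc_2_0 : fixPtsF W_2 2106 0 = true := by decide +kernel

theorem inv_2 : invRowFI mT 2106 2 3 2106 0 = true := by decide +kernel

theorem inv_4 : invRowFI mT 2106 4 5 2106 0 = true := by decide +kernel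

theorem relc_1_0 : fixPtsF W_1 2106 0 = true := by decide +kernel

theorem relc_6_0 : fixPtsF W_6 2106 0 = true := by decide +kernel

end Cfsg.Agent.Helper5.G23MD
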