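import Cfsg.Agent.Helper5.G23MDDat

/-! generated permutation model of a central extension, checks: G23MD -/

set_option autoImplicit false
set_option Elab.async false
set_option maxRecDepth 1000000

namespace Cfsg.Agent.Helper5.G23MD
open Cfsg.Agent.Helper5.TC Cfsg.Agent.Helper5.TCI Cfsg.Agent.Helper5.LP

theorem relc_16_0 : fixPtsF W_16 2106 0 = true := by decide +kernel

theorem relc_12_0 : fixPtsF W_12 2106 0 = true := by decide +kernel

theorem relc_13_0 : fixPtsF W_13 2106 0 = true := by decide +kernel

theorem relc_9_0 : fixPtsF W_9 2106 0 = true := by decide +kernel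

theorem relc_11_0 : fixPtsF W_11 2106 0 = true := by decide +kernel

theorem relc_25_0 : fixPtsF W_25 2106 0 = true := by decide +kernel

theorem relc_21_0 : fixPtsF W_21 2106 0 = true := by decide +kernel

theorem relc_23_0 : fixPtsF W_23 2106 0 = true := by decide +kernel

theorem relc_20_0 : fixPtsF W_20 2106 0 = true := by decide +kernel

theorem relc_5_0 : fixPtsF W_5 2106 0 = true := by decide +kernel

theorem inv_5 : invRowFI mT 2106 5 4 2106 0 = true := by decide +kernel

theorem relc_3_0 : fixPtsF W_3 2106 0 = true := by decide +kernel

theorem relc_7_0 : fixPtsF W_7 2106 0 = true := by decide +kernel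

end Cfsg.Agent.Helper5.G23MD
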