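import Mathlib
import Cfsg.Agent.Helper5.LTCG
import Cfsg.Agent.Helper5.LPI

/-!
# Permutation models of central extensions from labelled coset tables
-/

set_option autoImplicit false

namespace Cfsg.Agent.Helper5.LTC

open Cfsg.Agent.Helper5.LP

/-- the table of the extension by `ZMod a` of a table on `N0` points: the entry `(n, x)` of the
packed array `t0` (16 bits) holds the target and the shift. -/
def covT (t0 N0 a : ℕ) (x v : ℕ) : ℕ :=
  frc v fun v' =>
  frc (lkw 16 t0 (Nat.add (Nat.mul 4 (Nat.mod v' N0)) x)) fun e =>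
  Nat.add (Nat.mod e N0) (Nat.mul N0 (Nat.mod (Nat.add (Nat.div v' N0) (Nat.div e N0)) a))

/-- entry `i` (16 bits) of a two-level chunked array: groups of 16 chunks of 256 entries. -/
def lk2 (T : List (List ℕ)) (i : ℕ) : ℕ :=
  lkw 16 ((T.getD (Nat.div i 4096) []).getD (Nat.mod (Nat.div i 256) 16) 0) (Nat.mod i 256)

/-- the same as `covT` for a chunked array. -/
def covT2 (t0 : List (List ℕ)) (N0 a : ℕ) (x v : ℕ) : ℕ :=
  frc v fun v' =>
  frc (lk2 t0 (Nat.add (Nat.mul 4 (Nat.mod v' N0)) x)) fun e =>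
  Nat.add (Nat.mod e N0) (Nat.mul N0 (Nat.mod (Nat.add (Nat.div v' N0) (Nat.div e N0)) a))

/-- letter `x` acts on the points `lo, …, lo + cnt - 1` with inverse letter `X`. -/
def invRow (T : ℕ → ℕ → ℕ) (N x X : ℕ) : ℕ → ℕ → Bool
  | 0, _ => true
  | cnt + 1, v => frc v fun v' =>
    frc (T x v') (fun w => Nat.blt w N && Nat.beq (T X w) v') && invRow T N x X cnt (Nat.succ v')

theorem invRow_spec (T : ℕ → ℕ → ℕ) (N x X : ℕ) : ∀ (cnt lo : ℕ), invRow T N x X cnt lo = true →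
    ∀ v, lo ≤ v → v < lo + cnt → T x v < N ∧ T X (T x v) = v
  | 0, lo, _, v, h1, h2 => by omega
  | cnt + 1, lo, h, v, h1, h2 => by
    unfold invRow at h
    rw [frc_eq, frc_eq, Bool.and_eq_true, Bool.and_eq_true] at h
    rcases Nat.eq_or_lt_of_le h1 with rfl | h1
    · have h3 := h.1.1
      rw [Nat.blt_eq] at h3
      exact ⟨h3, Nat.eq_of_beq_eq_true h.1.2⟩
    · exact invRow_spec T N x X cnt (lo + 1) h.2 v h1 (by omega)

/-- the word fixes the points `lo, …, lo + cnt - 1`. -/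
def fixRow (T : ℕ → ℕ → ℕ) (l : List ℕ) : ℕ → ℕ → Bool
  | 0, _ => true
  | cnt + 1, v => frc v fun v' => Nat.beq (actL T l v') v' && fixRow T l cnt (Nat.succ v')

theorem fixRow_spec (T : ℕ → ℕ → ℕ) (l : List ℕ) : ∀ (cnt lo : ℕ), fixRow T l cnt lo = true →
    ∀ v, lo ≤ v → v < lo + cnt → actL T l v = v
  | 0, lo, _, v, h1, h2 => by omega
  | cnt + 1, lo, h, v, h1, h2 => by
    unfold fixRow at h
    rw [frc_eq, Bool.and_eq_true] at h
    rcases Nat.eq_or_lt_of_le h1 with rfl | h1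
    · exact Nat.eq_of_beq_eq_true h.1
    · exact fixRow_spec T l cnt (lo + 1) h.2 v h1 (by omega)

/-- all the words fix the points `lo, …, lo + cnt - 1`. -/
def fixAll (T : ℕ → ℕ → ℕ) : List (List ℕ) → ℕ → ℕ → Bool
  | [], _, _ => true
  | l :: ls, cnt, lo => fixRow T l cnt lo && fixAll T ls cnt lo

theorem fixAll_spec (T : ℕ → ℕ → ℕ) : ∀ (R : List (List ℕ)) (cnt lo : ℕ),
    fixAll T R cnt lo = true → ∀ l ∈ R, ∀ v, lo ≤ v → v < lo + cnt → actL T l v = v
  | [], _, _, _, l, hl => by simp at hl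
  | r :: rs, cnt, lo, h, l, hl => by
    unfold fixAll at h
    rw [Bool.and_eq_true] at h
    rcases List.mem_cons.mp hl with rfl | hl
    · exact fixRow_spec T l cnt lo h.1
    · exact fixAll_spec T rs cnt lo h.2 l hl

theorem relsFix_step (T : ℕ → ℕ → ℕ) (R : List (List ℕ)) {lo : ℕ}
    (h : ∀ l ∈ R, ∀ v, v < lo → actL T l v = v) (cnt : ℕ) (hc : fixAll T R cnt lo = true) :
    ∀ l ∈ R, ∀ v, v < lo + cnt → actL T l v = v := by
  intro l hl v hv
  by_cases h1 : v < lo
  · exact h l hl v h1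
  · exact fixAll_spec T R cnt lo hc l hl v (by omega) hv

/-- the four letters act on the points `lo, …, lo + cnt - 1` with inverse letters. -/
def invAll4 (T : ℕ → ℕ → ℕ) (N cnt lo : ℕ) : Bool :=
  invRow T N 0 1 cnt lo && invRow T N 1 0 cnt lo && invRow T N 2 3 cnt lo && invRow T N 3 2 cnt lo

theorem tableOK_step4 (T : ℕ → ℕ → ℕ) (N : ℕ) {lo : ℕ}
    (h : ∀ x, x < 2 * 2 → ∀ v, v < lo → T x v < N ∧ T (StemP.linv x) (T x v) = v) (cnt : ℕ)
    (hc : invAll4 T N cnt lo = true) :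
    ∀ x, x < 2 * 2 → ∀ v, v < lo + cnt → T x v < N ∧ T (StemP.linv x) (T x v) = v := by
  intro x hx v hv
  by_cases h1 : v < lo
  · exact h x hx v h1
  · unfold invAll4 at hc
    rw [Bool.and_eq_true, Bool.and_eq_true, Bool.and_eq_true] at hc
    obtain ⟨⟨⟨h0, h1'⟩, h2⟩, h3⟩ := hc
    interval_cases x
    · exact invRow_spec T N 0 1 cnt lo h0 v (by omega) hv
    · exact invRow_spec T N 1 0 cnt lo h1' v (by omega) hv
    · exact invRow_spec T N 2 3 cnt lo h2 v (by omega) hv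
    · exact invRow_spec T N 3 2 cnt lo h3 v (by omega) hv

theorem linv_linv (x : ℕ) : StemP.linv (StemP.linv x) = x := by
  unfold StemP.linv
  split_ifs <;> omega

end Cfsg.Agent.Helper5.LTC
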