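import Mathlib
import Cfsg.Agent.Helper5.PMinimal

/-!
Helper lemmas (helper5): `p`-minimal groups, part 2: if `O^p(P)` is `p`-closed then `|P|` has at most
two prime divisors.
-/

set_option autoImplicit false

namespace Cfsg.Agent.Helper5

variable {P : Type*} [Group P]

/-- A subgroup containing a Sylow `q`-subgroup for every prime `q` is the whole group. -/
theorem eq_top_of_forall_sylow_le [Finite P] (H : Subgroup P)
    (h : ∀ q : ℕ, q.Prime → ∃ Q : Subgroup P, Q ≤ H ∧ ¬ q ∣ Q.index) : H = ⊤ := by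
  rw [← Subgroup.index_eq_one]
  by_contra hne
  obtain ⟨q, hq, hqd⟩ := Nat.exists_prime_and_dvd hne
  obtain ⟨Q, hQH, hQ⟩ := h q hq
  exact hQ (dvd_trans hqd (Subgroup.index_dvd_of_le hQH))

theorem normal_pgroup_le_sylow [Finite P] {p : ℕ} [Fact p.Prime] (S : Sylow p P) (T : Subgroup P)
    [T.Normal] (hT : IsPGroup p T) : T ≤ (S : Subgroup P) := by
  have h1 : IsPGroup p ↥(T ⊔ (S : Subgroup P)) := hT.to_sup_of_normal_left S.2
  have h2 := S.is_maximal' h1 le_sup_right
  rw [← h2]; exact le_sup_left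

theorem pMinimal_primeFactors_card_le_two [Finite P] {p : ℕ} [hp : Fact p.Prime]
    (hP : Cfsg.IsPMinimal p P) (S : Sylow p P) (M : Subgroup P) (hM : IsCoatom M)
    (hSM : (S : Subgroup P) ≤ M)
    (h2 : ∀ T : Sylow p ↥(Cfsg.pResidual p P), (T : Subgroup ↥(Cfsg.pResidual p P)).Normal) :
    (Nat.card P).primeFactors.card ≤ 2 := by
  classical
  set R := Cfsg.pResidual p P with hR
  have hRn : R.Normal := pResidual_normal p
  obtain ⟨T⟩ : Nonempty (Sylow p ↥R) := inferInstance
  have hTn : (T : Subgroup ↥R).Normal := h2 T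
  have hTchar : (T : Subgroup ↥R).Characteristic := Sylow.characteristic_of_normal T hTn
  set T₀ := (T : Subgroup ↥R).map R.subtype with hT₀
  have hT₀n : T₀.Normal := ConjAct.normal_of_characteristic_of_normal
  have hT₀R : T₀ ≤ R := Subgroup.map_subtype_le _
  have hT₀p : IsPGroup p ↥T₀ := T.2.map _
  have hT₀S : T₀ ≤ (S : Subgroup P) := normal_pgroup_le_sylow S T₀ hT₀p
  have hπs : Function.Surjective (QuotientGroup.mk' T₀) := QuotientGroup.mk'_surjective T₀
  set Sb := (S : Subgroup P).map (QuotientGroup.mk' T₀) with hSb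
  set Rb := R.map (QuotientGroup.mk' T₀) with hRb
  have hRbn : Rb.Normal := Subgroup.Normal.map hRn _ hπs
  have hcardRb : Nat.card Rb * Nat.card T₀ = Nat.card R :=
    Cfsg.Agent.Helper1.card_map_mk'_mul_card T₀ R hT₀R
  have hcardT₀ : Nat.card T₀ = p ^ (Nat.card R).factorization p := by
    rw [hT₀, Subgroup.card_map_of_injective R.subtype_injective, T.card_eq_multiplicity]
  have hRbcop : (Nat.card Rb).Coprime p := by
    have h1 : Nat.card Rb = Nat.card R / p ^ (Nat.card R).factorization p := by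
      rw [← hcardRb, hcardT₀]
      have hpos : 0 < p ^ (Nat.card R).factorization p := pow_pos hp.out.pos _
      have h3 : (Nat.card ↥Rb * p ^ (Nat.card ↥R).factorization p).factorization p =
          (Nat.card R).factorization p := by rw [← hcardT₀, hcardRb]
      rw [h3, Nat.mul_div_cancel _ hpos]
    rw [h1]
    exact (Nat.coprime_ordCompl hp.out Nat.card_pos.ne').symm
  have hSbp : IsPGroup p ↥Sb := S.2.map _
  have hcop : (Nat.card Sb).Coprime (Nat.card Rb) := by
    obtain ⟨k, hk⟩ := IsPGroup.iff_card.mp hSbp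
    rw [hk]; exact Nat.Coprime.pow_left k hRbcop.symm
  have hSbN : Sb ≤ Subgroup.normalizer (Rb : Set (P ⧸ T₀)) := by
    rw [Subgroup.normalizer_eq_top_iff.mpr hRbn]; exact le_top
  have hsolv : Group.IsSolvable ↥Sb := by
    have := hSbp.isNilpotent
    infer_instance
  obtain ⟨nR, hnR⟩ := index_pResidual (G := P) p
  -- the invariant Sylow subgroups
  have key : ∀ q : ℕ, q.Prime → q ≠ p → ∃ Qb : Subgroup (P ⧸ T₀),
      Sb ≤ Subgroup.normalizer (Qb : Set (P ⧸ T₀)) ∧ IsPGroup q ↥Qb ∧ ¬ q ∣ Qb.index := by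
    intro q hq hqp
    have : Fact q.Prime := ⟨hq⟩
    obtain ⟨Qb, hQb⟩ := Cfsg.Agent.Helper1.exists_invariant_sylow (p := q) Sb Rb hSbN hcop
      (Or.inl hsolv)
    refine ⟨(Qb : Subgroup ↥Rb).map Rb.subtype, hQb, Qb.2.map _, ?_⟩
    rw [Subgroup.index_map_subtype]
    intro hdvd
    rcases (Nat.Prime.dvd_mul hq).mp hdvd with h | h
    · exact Qb.not_dvd_index h
    · have h3 : Rb.index ∣ R.index := Subgroup.index_map_dvd R hπs
      rw [hnR] at h3
      have h4 := hq.dvd_of_dvd_pow (dvd_trans h h3)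
      exact hqp ((Nat.prime_dvd_prime_iff_eq hq hp.out).mp h4)
  by_cases hcase : ∃ q : ℕ, q.Prime ∧ q ≠ p ∧ ∃ Qb : Subgroup (P ⧸ T₀),
      Sb ≤ Subgroup.normalizer (Qb : Set (P ⧸ T₀)) ∧ IsPGroup q ↥Qb ∧ Qb ⊔ Sb = ⊤
  · -- `|P|` is a `{p, q}`-number
    obtain ⟨q, hq, hqp, Qb, hQbN, hQbq, htop⟩ := hcase
    have : Fact q.Prime := ⟨hq⟩
    have hdvd : Nat.card (P ⧸ T₀) ∣ Nat.card Qb * Nat.card Sb := by
      have h1 := card_sup_mul_card_inf_of_le_normalizer Qb Sb hQbN
      rw [htop, Subgroup.card_top] at h1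
      exact Dvd.intro _ h1
    obtain ⟨a, ha⟩ := IsPGroup.iff_card.mp hQbq
    obtain ⟨b, hb⟩ := IsPGroup.iff_card.mp hSbp
    obtain ⟨c, hc⟩ := IsPGroup.iff_card.mp hT₀p
    have hcardP : Nat.card P = Nat.card (P ⧸ T₀) * Nat.card T₀ :=
      Subgroup.card_eq_card_quotient_mul_card_subgroup T₀
    have hsub : (Nat.card P).primeFactors ⊆ {p, q} := by
      intro r hr
      rw [Nat.mem_primeFactors] at hr
      obtain ⟨hrp, hrd, -⟩ := hr
      rw [hcardP] at hrd
      rw [Finset.mem_insert, Finset.mem_singleton]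
      rcases (Nat.Prime.dvd_mul hrp).mp hrd with h | h
      · have h3 := dvd_trans h hdvd
        rw [ha, hb] at h3
        rcases (Nat.Prime.dvd_mul hrp).mp h3 with h4 | h4
        · right
          exact (Nat.prime_dvd_prime_iff_eq hrp hq).mp (hrp.dvd_of_dvd_pow h4)
        · left
          exact (Nat.prime_dvd_prime_iff_eq hrp hp.out).mp (hrp.dvd_of_dvd_pow h4)
      · left
        rw [hc] at h
        exact (Nat.prime_dvd_prime_iff_eq hrp hp.out).mp (hrp.dvd_of_dvd_pow h)
    exact (Finset.card_le_card hsub).trans Finset.card_le_two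
  · -- otherwise `M` contains everything
    exfalso
    push Not at hcase
    have hMb : M.map (QuotientGroup.mk' T₀) = ⊤ := by
      apply eq_top_of_forall_sylow_le
      intro q hq
      by_cases hqp : q = p
      · subst hqp
        refine ⟨Sb, Subgroup.map_mono hSM, ?_⟩
        have := (S.mapSurjective hπs).not_dvd_index
        rw [Sylow.coe_mapSurjective] at this
        exact this
      · obtain ⟨Qb, hQbN, hQbq, hQbi⟩ := key q hq hqp
        refine ⟨Qb, ?_, hQbi⟩
        have hne : Qb ⊔ Sb ≠ ⊤ := hcase q hq hqp Qb hQbN hQbq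
        -- pull back to `P`
        have hne' : (Qb ⊔ Sb).comap (QuotientGroup.mk' T₀) ≠ ⊤ := by
          intro h
          apply hne
          rw [← Subgroup.map_comap_eq_self_of_surjective hπs (Qb ⊔ Sb), h, ← MonoidHom.range_eq_map,
            MonoidHom.range_eq_top.mpr hπs]
        have hS' : (S : Subgroup P) ≤ (Qb ⊔ Sb).comap (QuotientGroup.mk' T₀) := by
          intro s hs
          rw [Subgroup.mem_comap]
          exact Subgroup.mem_sup_right (Subgroup.mem_map_of_mem _ hs)
        have hle := pMinimal_le_of_sylow_le hP S M hM hSM _ hS' hne'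
        have h3 : Qb ⊔ Sb ≤ M.map (QuotientGroup.mk' T₀) := by
          rw [← Subgroup.map_comap_eq_self_of_surjective hπs (Qb ⊔ Sb)]
          exact Subgroup.map_mono hle
        exact le_sup_left.trans h3
    have hMtop : M = ⊤ := by
      have h3 : (M.map (QuotientGroup.mk' T₀)).comap (QuotientGroup.mk' T₀) = M ⊔ T₀ := by
        rw [Subgroup.comap_map_eq, QuotientGroup.ker_mk']
      rw [hMb, Subgroup.comap_top] at h3
      have h4 : M ⊔ T₀ = M := sup_eq_left.mpr (hT₀S.trans hSM)
      rw [← h4, ← h3]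
    exact hM.1 hMtop

end Cfsg.Agent.Helper5
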