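import Mathlib
import Cfsg.Agent.Helper5.StemPK

/-!
# The kernel of a stem extension and three quotients

`card_ker_le_mul3`: the order of the kernel of a stem extension is at most the product of the orders
of the kernels of three quotients.
-/

set_option autoImplicit false

namespace Cfsg.Agent.Helper5.StemP

universe u v

variable {Γ : Type u} {G : Type v} [Group Γ] [Group G]

theorem card_ker_le_mul3 [Finite Γ] (σ : Γ →* G) (hc : σ.ker ≤ Subgroup.center Γ) (t1 t2 t3 : ℕ)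
    (h : ∀ z ∈ σ.ker, z ^ Nat.gcd (Nat.gcd t1 t2) t3 = 1 → z = 1) :
    Nat.card σ.ker ≤ Nat.card (qmap σ hc t1).ker * Nat.card (qmap σ hc t2).ker *
      Nat.card (qmap σ hc t3).ker := by
  rw [← Nat.card_prod, ← Nat.card_prod]
  apply Nat.card_le_card_of_injective
    (fun z : σ.ker => (((⟨QuotientGroup.mk z.1, z.2⟩ : (qmap σ hc t1).ker),
      (⟨QuotientGroup.mk z.1, z.2⟩ : (qmap σ hc t2).ker)),
      (⟨QuotientGroup.mk z.1, z.2⟩ : (qmap σ hc t3).ker)))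
  intro a b hab
  have h1 : (QuotientGroup.mk a.1 : Γ ⧸ torPart σ hc t1) = QuotientGroup.mk b.1 :=
    congrArg (fun p => (p.1.1 : Γ ⧸ torPart σ hc t1)) hab
  have h2 : (QuotientGroup.mk a.1 : Γ ⧸ torPart σ hc t2) = QuotientGroup.mk b.1 :=
    congrArg (fun p => (p.1.2 : Γ ⧸ torPart σ hc t2)) hab
  have h3 : (QuotientGroup.mk a.1 : Γ ⧸ torPart σ hc t3) = QuotientGroup.mk b.1 :=
    congrArg (fun p => (p.2 : Γ ⧸ torPart σ hc t3)) hab
  rw [QuotientGroup.eq] at h1 h2 h3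
  have h4 : (a.1⁻¹ * b.1) ^ Nat.gcd t1 t2 = 1 := pow_gcd_eq_one.mpr ⟨h1.2, h2.2⟩
  have h5 : (a.1⁻¹ * b.1) ^ Nat.gcd (Nat.gcd t1 t2) t3 = 1 := pow_gcd_eq_one.mpr ⟨h4, h3.2⟩
  have h6 := h _ h1.1 h5
  apply Subtype.ext
  exact inv_mul_eq_one.mp h6

end Cfsg.Agent.Helper5.StemP
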