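import Mathlib
import Cfsg.Prelude.Def_GeometricClasses
import Cfsg.Agent.Helper3.AschUSubA
import Cfsg.Agent.Helper5.AschGramForm
import Cfsg.Agent.Helper6.AschGenT3
import Cfsg.Agent.Helper8.SLUa

/-!
# Unitary tensor decompositions with two equal factors (piece U-T3)

Two non-degenerate unitary forms of the same dimension over the field with `q ^ 2` elements are isometric; hence a
tensor decomposition `f ≃ f₁ ⊗ f₂` of a unitary form with `dim f₁ = dim f₂ = k` is a tensor-square decomposition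
`f ≃ f₁ ⊗ f₁`, and the tensor product subgroup lies in the tensor-wreath subgroup `GL_k ≀ S_2` of the new structure.
-/

set_option autoImplicit false
set_option linter.style.haveILetI false
set_option linter.unusedSectionVars false
set_option linter.unusedVariables false

namespace Cfsg.Agent.Helper5.AschCU

open Cfsg Cfsg.Geo Cfsg.Agent.Helper5.GramForm Cfsg.Agent.Helper6.AschGen Cfsg.Agent.Helper9.AschComp
  Cfsg.Agent.Helper3.AschU
open scoped MatrixGroups Matrix Kronecker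

variable {n : ℕ} {F : Type*} [Field F]

/-- the Kronecker product of two invertible matrices, as an invertible matrix -/
def kronGL {n₁ n₂ : ℕ} (a : GL (Fin n₁) F) (b : GL (Fin n₂) F) : GL (Fin n₁ × Fin n₂) F where
  val := (a : Matrix (Fin n₁) (Fin n₁) F) ⊗ₖ (b : Matrix (Fin n₂) (Fin n₂) F)
  inv := ((a⁻¹ : GL (Fin n₁) F) : Matrix (Fin n₁) (Fin n₁) F) ⊗ₖ ((b⁻¹ : GL (Fin n₂) F) : Matrix (Fin n₂) (Fin n₂) F)
  val_inv := by
    rw [← Matrix.mul_kronecker_mul, ← Units.val_mul, ← Units.val_mul, mul_inv_cancel, mul_inv_cancel,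
      Units.val_one, Units.val_one, Matrix.one_kronecker_one]
  inv_val := by
    rw [← Matrix.mul_kronecker_mul, ← Units.val_mul, ← Units.val_mul, inv_mul_cancel, inv_mul_cancel,
      Units.val_one, Units.val_one, Matrix.one_kronecker_one]

theorem kronGL_val {n₁ n₂ : ℕ} (a : GL (Fin n₁) F) (b : GL (Fin n₂) F) :
    ((kronGL a b : GL (Fin n₁ × Fin n₂) F) : Matrix (Fin n₁ × Fin n₂) (Fin n₁ × Fin n₂) F) =
      (a : Matrix (Fin n₁) (Fin n₁) F) ⊗ₖ (b : Matrix (Fin n₂) (Fin n₂) F) := rfl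

theorem kronGL_mem {n₁ n₂ : ℕ} (a : GL (Fin n₁) F) (b : GL (Fin n₂) F) :
    kronGL a b ∈ kroneckerSubgroup n₁ n₂ F := ⟨a, b, rfl⟩

/-- a reindexed matrix acts on reindexed vectors -/
theorem glReindex_mulVec {ι κ : Type} [Fintype ι] [DecidableEq ι] [Fintype κ] [DecidableEq κ] (e : ι ≃ κ)
    (g : GL κ F) (z : κ → F) :
    ((glReindex e.symm g : GL ι F) : Matrix ι ι F) *ᵥ (z ∘ e) = ((g : Matrix κ κ F) *ᵥ z) ∘ e := by
  ext i
  simp only [Matrix.mulVec, dotProduct, Function.comp_apply]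
  refine Eq.trans ?_ (Equiv.sum_comp e (fun k => (g : Matrix κ κ F) (e i) k * z k))
  apply Finset.sum_congr rfl
  intro j _
  rw [glReindex_apply, Equiv.symm_symm]

theorem kron_map {I J : Type} [Fintype I] [Fintype J] (σ : F →+* F) (X₁ : Matrix I I F) (X₂ : Matrix J J F) :
    (X₁ ⊗ₖ X₂).map σ = X₁.map σ ⊗ₖ X₂.map σ := by
  ext ⟨i, j⟩ ⟨i', j'⟩
  simp only [Matrix.map_apply, Matrix.kroneckerMap_apply, map_mul]

/-- congruence of a Kronecker product by a Kronecker product -/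
theorem kron_gram_conj {I J : Type} [Fintype I] [Fintype J] [DecidableEq I] [DecidableEq J] (σ : F →+* F)
    (X₁ G₁ : Matrix I I F) (X₂ G₂ : Matrix J J F) :
    (X₁ ⊗ₖ X₂)ᵀ * (G₁ ⊗ₖ G₂) * (X₁ ⊗ₖ X₂).map σ = (X₁ᵀ * G₁ * X₁.map σ) ⊗ₖ (X₂ᵀ * G₂ * X₂.map σ) := by
  rw [kron_map, ← Matrix.kroneckerMap_transpose, Matrix.mul_kronecker_mul, Matrix.mul_kronecker_mul]

section unitary

variable [Fintype F]

/-- two non-degenerate unitary forms of the same dimension are isometric -/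
theorem exists_isometry_unitary (q : ℕ) (hF : Fintype.card F = q ^ 2) {k : ℕ}
    {f₁ f₂ : (Fin k → F) → (Fin k → F) → F} (h₁ : IsUnitaryFormPow q f₁) (h₂ : IsUnitaryFormPow q f₂) :
    ∃ a : GL (Fin k) F, (a : Matrix (Fin k) (Fin k) F)ᵀ * gramMatrix f₂ *
      (a : Matrix (Fin k) (Fin k) F).map (sigq hF : F →+* F) = gramMatrix f₁ := by
  haveI : Fact (Fintype.card F = q ^ 2) := ⟨hF⟩
  obtain ⟨P₁, hP₁⟩ := Cfsg.Agent.Helper8.HermReg.exists_herm_factor_gen (q := q) (gramMatrix f₁)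
    (fun i j => Cfsg.Agent.Helper8.SLU.gram_herm h₁ i j) (Cfsg.Agent.Helper8.SLU.gram_det_ne_zero h₁)
  obtain ⟨P₂, hP₂⟩ := Cfsg.Agent.Helper8.HermReg.exists_herm_factor_gen (q := q) (gramMatrix f₂)
    (fun i j => Cfsg.Agent.Helper8.SLU.gram_herm h₂ i j) (Cfsg.Agent.Helper8.SLU.gram_det_ne_zero h₂)
  have hm : ∀ M : Matrix (Fin k) (Fin k) F, M.map (· ^ q) = M.map (sigq hF : F →+* F) := fun M => rfl
  rw [hm] at hP₁ hP₂
  have hd₁ : P₁.det ≠ 0 := by
    intro h0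
    apply Cfsg.Agent.Helper8.SLU.gram_det_ne_zero h₁
    rw [← hP₁, Matrix.det_mul, Matrix.det_transpose, h0, zero_mul]
  have hd₂ : P₂.det ≠ 0 := by
    intro h0
    apply Cfsg.Agent.Helper8.SLU.gram_det_ne_zero h₂
    rw [← hP₂, Matrix.det_mul, Matrix.det_transpose, h0, zero_mul]
  have hu₂ : IsUnit P₂.det := isUnit_iff_ne_zero.mpr hd₂
  have h1 : P₂ * P₂⁻¹ = 1 := Matrix.mul_nonsing_inv P₂ hu₂
  have h2 : P₂⁻¹ * P₂ = 1 := Matrix.nonsing_inv_mul P₂ hu₂
  obtain ⟨Y, hY⟩ : ∃ Y, Y = P₂⁻¹ := ⟨_, rfl⟩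
  rw [← hY] at h1 h2
  have hdA : (Y * P₁).det ≠ 0 := by
    rw [Matrix.det_mul]
    refine mul_ne_zero ?_ hd₁
    intro h0
    have := congrArg Matrix.det h1
    rw [Matrix.det_mul, h0, mul_zero, Matrix.det_one] at this
    exact zero_ne_one this
  refine ⟨Matrix.GeneralLinearGroup.mkOfDetNeZero (Y * P₁) hdA, ?_⟩
  show (Y * P₁)ᵀ * gramMatrix f₂ * (Y * P₁).map (sigq hF : F →+* F) = gramMatrix f₁
  have t1 : Yᵀ * P₂ᵀ = 1 := by rw [← Matrix.transpose_mul, h1, Matrix.transpose_one]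
  have s1 : P₂.map (sigq hF : F →+* F) * Y.map (sigq hF : F →+* F) = 1 := by
    rw [← Matrix.map_mul, h1, Matrix.map_one _ (map_zero _) (map_one _)]
  rw [Matrix.transpose_mul, Matrix.map_mul, ← hP₂, ← hP₁]
  calc P₁ᵀ * Yᵀ * (P₂ᵀ * P₂.map (sigq hF : F →+* F)) * (Y.map (sigq hF : F →+* F) * P₁.map (sigq hF : F →+* F))
      = P₁ᵀ * (Yᵀ * P₂ᵀ) * (P₂.map (sigq hF : F →+* F) * Y.map (sigq hF : F →+* F)) *
          P₁.map (sigq hF : F →+* F) := by simp only [Matrix.mul_assoc]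
    _ = P₁ᵀ * P₁.map (sigq hF : F →+* F) := by rw [t1, s1, Matrix.mul_one, Matrix.mul_one]

/-- **U-T3**: a unitary tensor decomposition with two factors of the same dimension is a tensor-square decomposition -/
theorem tensorSquare_of_tensor_unitary (q : ℕ) (hF : Fintype.card F = q ^ 2) {k : ℕ}
    (f : (Fin n → F) → (Fin n → F) → F) (e : Fin n ≃ Fin k × Fin k) (P : GL (Fin n) F)
    (f₁ f₂ : (Fin k → F) → (Fin k → F) → F) (h₁ : IsUnitaryFormPow q f₁) (h₂ : IsUnitaryFormPow q f₂)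
    (hT : IsTensorFormStructure (fun x : F => x ^ q) f f₁ f₂ e P) :
    ∃ (e' : Fin n ≃ (Fin 2 → Fin k)) (P' : GL (Fin n) F),
      IsTensorPowerFormStructure (fun x : F => x ^ q) f f₁ e' P' ∧
      tensorProductSubgroup k k e P ≤ tensorWreathSubgroup k 2 e' P' := by
  classical
  obtain ⟨a, ha⟩ := exists_isometry_unitary q hF h₁ h₂
  obtain ⟨c, hc, hform⟩ := hT
  obtain ⟨K₀, hK₀⟩ : ∃ K₀ : GL (Fin k × Fin k) F, K₀ = kronGL 1 a := ⟨_, rfl⟩
  have hK₀v : (K₀ : Matrix (Fin k × Fin k) (Fin k × Fin k) F) =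
      (1 : Matrix (Fin k) (Fin k) F) ⊗ₖ (a : Matrix (Fin k) (Fin k) F) := by
    rw [hK₀, kronGL_val, Units.val_one]
  have hK₀m : K₀ ∈ kroneckerSubgroup k k F := by rw [hK₀]; exact kronGL_mem 1 a
  refine ⟨e.trans (pairEquiv k), P * glReindex e.symm K₀, ⟨c, hc, ?_⟩, ?_⟩
  · intro x y
    have hx : ∀ x : (Fin 2 → Fin k) → F,
        ((P * glReindex e.symm K₀ : GL (Fin n) F) : Matrix (Fin n) (Fin n) F) *ᵥ (x ∘ (e.trans (pairEquiv k))) =
          (P : Matrix (Fin n) (Fin n) F) *ᵥ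
            (((K₀ : Matrix (Fin k × Fin k) (Fin k × Fin k) F) *ᵥ (x ∘ pairEquiv k)) ∘ e) := by
      intro x
      rw [Units.val_mul, ← Matrix.mulVec_mulVec]
      congr 1
      exact glReindex_mulVec e K₀ (x ∘ pairEquiv k)
    rw [hx, hx, hform]
    congr 1
    have h3 := formOfGram_mulVec (sigq hF : F →+* F) (gramMatrix f₁ ⊗ₖ gramMatrix f₂)
      (K₀ : Matrix (Fin k × Fin k) (Fin k × Fin k) F) (x ∘ pairEquiv k) (y ∘ pairEquiv k)
    rw [hK₀v, kron_gram_conj, ha, Matrix.transpose_one, Matrix.one_mul,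
      Matrix.map_one _ (map_zero _) (map_one _), Matrix.mul_one] at h3
    rw [hK₀v]
    refine Eq.trans h3 ?_
    unfold formOfGram
    rw [← Equiv.sum_comp (pairEquiv k)]
    apply Finset.sum_congr rfl
    intro p _
    rw [← Equiv.sum_comp (pairEquiv k)]
    apply Finset.sum_congr rfl
    intro p' _
    rw [Fin.prod_univ_two, Matrix.kroneckerMap_apply]
    rfl
  · intro g hg
    unfold tensorProductSubgroup at hg
    rw [Subgroup.mem_map] at hg
    obtain ⟨g', hg', rfl⟩ := hg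
    rw [Subgroup.mem_map] at hg'
    obtain ⟨κ, hκ, rfl⟩ := hg'
    unfold tensorWreathSubgroup
    rw [Subgroup.mem_map]
    refine ⟨glReindex e.symm (K₀⁻¹ * κ * K₀), ?_, ?_⟩
    · rw [Subgroup.mem_map]
      refine ⟨glReindex (pairEquiv k) (K₀⁻¹ * κ * K₀), reindex_kronecker_mem k
        ((kroneckerSubgroup k k F).mul_mem ((kroneckerSubgroup k k F).mul_mem
          ((kroneckerSubgroup k k F).inv_mem hK₀m) hκ) hK₀m), ?_⟩
      show glReindex (e.trans (pairEquiv k)).symm (glReindex (pairEquiv k) (K₀⁻¹ * κ * K₀)) =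
        glReindex e.symm (K₀⁻¹ * κ * K₀)
      apply Units.ext
      ext i j
      rw [glReindex_apply, glReindex_apply, glReindex_apply]
      simp
    · show P * glReindex e.symm K₀ * glReindex e.symm (K₀⁻¹ * κ * K₀) * (P * glReindex e.symm K₀)⁻¹ =
        P * glReindex e.symm κ * P⁻¹
      rw [map_mul, map_mul, map_inv]
      group

end unitary

end Cfsg.Agent.Helper5.AschCU

namespace Cfsg.Agent.Helper5.AschPPU

open Cfsg Cfsg.Geo
open scoped MatrixGroups Matrix Kronecker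

variable {F : Type*} [Field F]

/-- **W2** of ASCH-PP-U (exact stub of `notes/helper9_aschPPU_stubs.lean.txt`) -/
theorem tensor_equal_to_power [Fintype F] {n : ℕ} (q : ℕ) (hF : Fintype.card F = q ^ 2) (k : ℕ) (hk : 1 ≤ k)
    (e : Fin n ≃ Fin k × Fin k) (P : GL (Fin n) F) (f₁ f₂ : (Fin k → F) → (Fin k → F) → F)
    (h₁ : IsUnitaryFormPow q f₁) (h₂ : IsUnitaryFormPow q f₂)
    (hT : IsTensorFormStructure (fun x : F => x ^ q) (hermForm n F q) f₁ f₂ e P) :
    ∃ (e' : Fin n ≃ (Fin 2 → Fin k)) (P' : GL (Fin n) F),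
      IsTensorPowerFormStructure (fun x : F => x ^ q) (hermForm n F q) f₁ e' P' ∧
      tensorProductSubgroup k k e P ≤ tensorWreathSubgroup k 2 e' P' :=
  Cfsg.Agent.Helper5.AschCU.tensorSquare_of_tensor_unitary q hF _ e P f₁ f₂ h₁ h₂ hT

end Cfsg.Agent.Helper5.AschPPU
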