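import Mathlib
import Cfsg.Prelude.Def_GeometricClasses
import Cfsg.Agent.Lead.AschBase
import Cfsg.Agent.Helper3.AschUSubC
import Cfsg.Agent.Helper5.AschU2b
import Cfsg.Agent.Helper5.AschPPG3b
import Cfsg.Agent.Helper6.AschCompSym
import Cfsg.Agent.Helper6.AschGenMain
import Cfsg.Agent.Helper9.AschC6Base
import Cfsg.Agent.Helper9.AschC6StrB
import Cfsg.Agent.Helper9.AschC6Intertwine
import Cfsg.Agent.Helper9.AschC6Field

/-!
# The symplectic-type case inside the unitary group (class 6 of `InUnitaryPartialClass`)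

`symplectic_type_case_unitary`: in the situation `C6Hyp n F H N` with `N ≤ GU_n(q)`: either `F` is the minimal field
for the centre of `N` and `N` itself is the class-6 datum (its normaliser contains `H`), or `N` can be written over a
proper subfield and helper3's `subfield_unitary_gen` gives a class-5 exit with the form.
-/

set_option autoImplicit false
set_option linter.style.haveILetI false
set_option linter.unusedSectionVars false
set_option linter.unusedVariables false

namespace Cfsg.Agent.Helper5.AschCU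

open Cfsg Cfsg.Geo Cfsg.Agent.Lead.Asch Cfsg.Agent.Helper6.AschComp Cfsg.Agent.Helper9.AschC6
open scoped MatrixGroups Matrix

variable {n : ℕ} {F : Type*} [Field F]

theorem le_similarityGroup_of_le_GU {q : ℕ} {N : Subgroup (GL (Fin n) F)} (hNU : N ≤ GU n F q) :
    N ≤ similarityGroup (hermForm n F q) := by
  intro x hx
  show ∃ c : Fˣ, ∀ u v, hermForm n F q ((x : Matrix (Fin n) (Fin n) F) *ᵥ u)
    ((x : Matrix (Fin n) (Fin n) F) *ᵥ v) = (c : F) * hermForm n F q u v
  exact ⟨1, fun u v => by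
    rw [Units.val_one, one_mul]
    exact Cfsg.Agent.Helper5.Asch.mem_GU_iff.1 (hNU hx) u v⟩

theorem even_of_card_eq_sq {p e q : ℕ} (hp : p.Prime) (h : p ^ e = q ^ 2) : Even e := by
  have hq : q ∣ p ^ e := by
    rw [h]
    exact dvd_pow_self q (by norm_num)
  obtain ⟨j, -, hj⟩ := (Nat.dvd_prime_pow hp).1 hq
  rw [hj, ← pow_mul] at h
  have := Nat.pow_right_injective hp.two_le h
  exact ⟨j, by omega⟩

theorem symplectic_type_case_unitary [Fintype F] (hn : 3 ≤ n) (q : ℕ) (hF : Fintype.card F = q ^ 2)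
    {H N : Subgroup (GL (Fin n) F)} (h : C6Hyp n F H N) (hNU : N ≤ GU n F q) :
    (∃ (r p e k : ℕ), IsSymplecticTypeGroup r N ∧ ActsAbsolutelyIrreducibly (matrixSet N) ∧
      N ≤ similarityGroup (hermForm n F q) ∧ r ≠ p ∧
      IsMinimalFieldFor (Nat.card (Subgroup.center N)) p e F ∧
      ((Odd r ∧ Nat.card (Subgroup.center N) = r ∧ 1 ≤ k ∧ Nat.card N = r ^ (1 + 2 * k)) ∨
       (r = 2 ∧ e = 2 ∧ Nat.card (Subgroup.center N) = 4 ∧ Nat.card N = 2 ^ (2 + 2 * k))) ∧
      n = r ^ k ∧ H ≤ subgroupNormalizer N) ∨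
    ((∃ (F₁ : Subfield F) (r : ℕ) (Pm : GL (Fin n) F), r.Prime ∧ Odd r ∧
      Fintype.card F = Nat.card F₁ ^ r ∧ IsFormRationalStructure (hermForm n F q) F₁ 1 Pm ∧
      H ≤ subfieldSubgroup F₁ Pm) ∨
    (∃ (F₁ : Subfield F) (Pm : GL (Fin n) F) (ζ : F), Fintype.card F = Nat.card F₁ ^ 2 ∧ ζ ≠ 0 ∧
      ζ + ζ ^ q = 0 ∧ IsFormRationalStructure (hermForm n F q) F₁ ζ Pm ∧
      (∀ u : Fin n → F, (∀ i, u i ∈ F₁) → hermForm n F q ((Pm : Matrix (Fin n) (Fin n) F) *ᵥ u)
        ((Pm : Matrix (Fin n) (Fin n) F) *ᵥ u) = 0) ∧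
      H ≤ subfieldSubgroup F₁ Pm) ∨
    (Odd q ∧ ∃ (F₁ : Subfield F) (Pm : GL (Fin n) F), Fintype.card F = Nat.card F₁ ^ 2 ∧
      IsFormRationalStructure (hermForm n F q) F₁ 1 Pm ∧ H ≤ subfieldSubgroup F₁ Pm)) := by
  classical
  have hn0 : 0 < n := by omega
  haveI : NeZero n := ⟨by omega⟩
  haveI : Finite (GL (Fin n) F) := inferInstance
  obtain ⟨r, a, z, hs⟩ := c6_structure (by omega) h
  have hsym : SymC n F N := ⟨hn0, h.abs, h.comm⟩
  have hscal : ∀ x : N, (x : GL (Fin n) F) ∈ scalars (Fin n) F →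
      ∃ c : Fˣ, (x : GL (Fin n) F) = sc n F c ∧ c ^ z = 1 := by
    intro x hx
    rw [scalars_eq_range] at hx
    obtain ⟨c, hc⟩ := hx
    refine ⟨c, hc.symm, hs.scalar_pow c ?_⟩
    rw [hc]
    exact x.2
  rcases field_cases z hs.z_dvd with ⟨τ, q₁, m, hm, hq, hzq, hτ⟩ | ⟨p, e, hmin⟩
  · -- not the minimal field: subfield exit with the form
    right
    have hq1 : 2 ≤ q₁ := (Cfsg.Agent.Helper5.AschPP.two_le_of_card hq).1
    set ρ : N →* GL (Fin n) F := (Matrix.GeneralLinearGroup.map τ).comp N.subtype with hρdef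
    have hρ : ∀ x : N, (x : GL (Fin n) F) ∈ scalars (Fin n) F → ρ x = x := by
      intro x hx
      obtain ⟨c, hxc, hcz⟩ := hscal x hx
      apply Units.ext
      show ((x : GL (Fin n) F) : Matrix (Fin n) (Fin n) F).map τ = _
      rw [hxc, sc_val]
      ext i j
      rw [Matrix.map_apply, Matrix.smul_apply, Matrix.one_apply, smul_eq_mul, map_mul, hτ,
        scalar_fixed_of_pow hzq (by omega) hcz]
      split_ifs <;> simp
    obtain ⟨J, hJ⟩ := exists_intertwiner hsym ρ hρ
    set F₁ : Subfield F := RingHom.eqLocusField τ (RingHom.id F) with hF₁def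
    have hF₁ : ∀ x, x ∈ F₁ ↔ x ^ q₁ = x := by
      intro x
      show τ x = x ↔ _
      rw [hτ]
    have hreal : RealisableOver F₁ (matrixSet N) :=
      Cfsg.Agent.Helper5.AschPP.realisable_of_twist hq τ hτ h.abs J (fun x hx => hJ ⟨x, hx⟩) F₁ hF₁
    have h0 : F₁ ≠ ⊤ := by
      intro htop
      have hall : ∀ x : F, x ^ q₁ = x := fun x => (hF₁ x).1 (by rw [htop]; trivial)
      have hdeg : (Polynomial.X ^ q₁ - Polynomial.X : Polynomial F).natDegree = q₁ :=
        FiniteField.X_pow_card_sub_X_natDegree_eq F (by omega)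
      have hne : (Polynomial.X ^ q₁ - Polynomial.X : Polynomial F) ≠ 0 := by
        intro h'
        rw [h', Polynomial.natDegree_zero] at hdeg
        omega
      have hsub : (Finset.univ : Finset F) ⊆
          (Polynomial.X ^ q₁ - Polynomial.X : Polynomial F).roots.toFinset := by
        intro x _
        rw [Multiset.mem_toFinset, Polynomial.mem_roots hne]
        simp [hall x]
      have h1 := Finset.card_le_card hsub
      have h2 : (Polynomial.X ^ q₁ - Polynomial.X : Polynomial F).roots.toFinset.card ≤ q₁ := by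
        calc _ ≤ Multiset.card (Polynomial.X ^ q₁ - Polynomial.X : Polynomial F).roots :=
              Multiset.toFinset_card_le _
          _ ≤ (Polynomial.X ^ q₁ - Polynomial.X : Polynomial F).natDegree := Polynomial.card_roots' _
          _ = q₁ := hdeg
      rw [Finset.card_univ, hq] at h1
      have h3 : q₁ ^ 2 ≤ q₁ ^ m := Nat.pow_le_pow_right (by omega) hm
      nlinarith
    exact Cfsg.Agent.Helper3.AschU.subfield_unitary_gen (by omega) q hF hNU h.nzes h.abs F₁ h0 hreal
  · -- the minimal field: class 6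
    left
    obtain ⟨hp, hchar, hcard, hzdvd, hmind⟩ := hmin
    have hmin' : IsMinimalFieldFor z p e F := ⟨hp, hchar, hcard, hzdvd, hmind⟩
    have heven : Even e := even_of_card_eq_sq hp (by rw [← hcard, hF])
    have hepos : 0 < e := by
      rcases Nat.eq_zero_or_pos e with h0 | h0
      · rw [h0, pow_zero] at hcard
        have := Fintype.one_lt_card (α := F)
        omega
      · exact h0
    have he2 : 2 ≤ e := by
      obtain ⟨j, hj⟩ := heven
      omega
    have h1pe : 1 ≤ p ^ e := Nat.one_le_pow _ _ hp.pos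
    -- `z = 2` is impossible
    have hz2 : z ≠ 2 := by
      intro hz
      rw [hz] at hzdvd
      have hpodd : p % 2 = 1 := by
        rcases Nat.even_or_odd p with hpe | hpo
        · exfalso
          have h2 : 2 ∣ p ^ e := dvd_pow hpe.two_dvd (by omega)
          omega
        · exact Nat.odd_iff.1 hpo
      apply hmind 1 (by norm_num) (by omega)
      rw [hz, pow_one]
      omega
    have hrp : r ≠ p := by
      rintro rfl
      have hrz : r ∣ z := by
        rcases hs.z_cases with ⟨-, hz⟩ | ⟨hr2, hz⟩ | ⟨hr2, hz⟩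
        · rw [hz]
        · rw [hz, hr2]
        · rw [hz, hr2]; norm_num
      have h1 : r ∣ r ^ e - 1 := hrz.trans hzdvd
      have h2 : r ∣ r ^ e := dvd_pow_self r (by omega)
      have h4 : r ∣ 1 := by
        have := (Nat.dvd_sub h2 h1)
        rwa [Nat.sub_sub_self h1pe] at this
      exact hs.prime.one_lt.ne' (Nat.dvd_one.1 h4)
    refine ⟨r, p, e, a, ⟨hs.prime, hs.pgroup, hs.cyc, hs.exponent⟩, h.abs, le_similarityGroup_of_le_GU hNU, hrp,
      by rw [hs.card_center]; exact hmin', ?_, hs.dim,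
      Cfsg.Agent.Helper6.AschGen.le_subgroupNormalizer_of_nzes h.nzes⟩
    rcases hs.z_cases with ⟨hr2, hz⟩ | ⟨hr2, hz⟩ | ⟨hr2, hz⟩
    · left
      refine ⟨hs.prime.odd_of_ne_two hr2, by rw [hs.card_center, hz], hs.pos, ?_⟩
      rw [hs.card, hz, pow_add, pow_one]
    · exact absurd hz hz2
    · right
      have he2' : e = 2 := by
        by_contra hne
        have h3 : 2 < e := by omega
        have hpodd : p % 2 = 1 := by
          rcases Nat.even_or_odd p with hpe | hpo
          · exfalso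
            rw [hz] at hzdvd
            have h2 : 2 ∣ p ^ e := dvd_pow hpe.two_dvd (by omega)
            have h4 : 2 ∣ p ^ e - 1 := (by norm_num : 2 ∣ 4).trans hzdvd
            omega
          · exact Nat.odd_iff.1 hpo
        have h2 : 4 ∣ p ^ 2 - 1 := by
          have hmod : p % 4 = 1 ∨ p % 4 = 3 := by omega
          have h3 : p ^ 2 % 4 = 1 := by
            rcases hmod with h | h <;> simp [pow_two, Nat.mul_mod, h]
          omega
        exact hmind 2 (by norm_num) h3 (by rw [hz]; exact h2)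
      refine ⟨hr2, he2', by rw [hs.card_center, hz], ?_⟩
      rw [hs.card, hz, hr2, pow_add]
      norm_num

end Cfsg.Agent.Helper5.AschCU
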