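import Mathlib
import Cfsg.Prelude.Def_GeometricClasses
import Cfsg.Agent.Helper5.AschForm5
import Cfsg.Agent.Helper5.AschForm7
import Cfsg.Agent.Helper5.AschO9a
import Cfsg.Agent.Helper7.FExA

/-!
# ASCH-COMP-U, piece V2b: the C3 exit inside `GU_n(q)`

An adjoint-closed field subalgebra for the Hermitian form has odd degree (the adjoint is an involution of the
field `K` inducing `x ↦ x ^ q` on the scalars), so the field subalgebra of prime degree `r` produced by
`field_of_fullyInv_form` has `r` odd.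
-/

set_option autoImplicit false
set_option linter.style.haveILetI false
set_option linter.unusedSectionVars false
set_option linter.unusedVariables false

namespace Cfsg.Agent.Helper5.AschCU

open Cfsg Cfsg.Geo Cfsg.Agent.Lead.Asch Cfsg.Agent.Helper5.AschF
open Cfsg.Agent.Helper3.AschU Cfsg.Agent.Helper7.Herm
open scoped MatrixGroups Matrix

variable {n : ℕ} {F : Type*} [Field F] [Fintype F]

theorem isAdj_symm_herm {q : ℕ} (hF : Fintype.card F = q ^ 2) {k k' : Matrix (Fin n) (Fin n) F}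
    (h : IsAdj (hermForm n F q) k k') : IsAdj (hermForm n F q) k' k := by
  intro u v
  rw [hermForm_swap hF, ← h, ← hermForm_swap hF]

theorem card_fieldSubalgebra {c : ℕ} (K : Subalgebra F (Matrix (Fin n) (Fin n) F))
    (hK : IsFieldSubalgebra c K) : Nat.card K = Fintype.card F ^ c := by
  classical
  haveI : Fintype K := Fintype.ofFinite K
  rw [Nat.card_eq_fintype_card, Module.card_eq_pow_finrank (K := F) (V := K), hK.finrank_eq]

/-- an adjoint-closed field subalgebra for the Hermitian form has odd degree -/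
theorem odd_of_adjointClosed_herm (hn : 0 < n) {q : ℕ} (hF : Fintype.card F = q ^ 2) {c : ℕ}
    (K : Subalgebra F (Matrix (Fin n) (Fin n) F)) (hK : IsFieldSubalgebra c K)
    (hadj : IsAdjointClosedFor (hermForm n F q) K) : Odd c := by
  classical
  haveI : Nonempty (Fin n) := ⟨⟨0, hn⟩⟩
  have hf := RForm.of_hermForm (n := n) hF
  have hcardK := card_fieldSubalgebra K hK
  choose! adj hadjK hadjA using hadj
  let α₀ : K → K := fun k => ⟨adj k, hadjK k k.2⟩
  have hα₀ : ∀ k : K, IsAdj (hermForm n F q) (k : Matrix (Fin n) (Fin n) F)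
      (α₀ k : Matrix (Fin n) (Fin n) F) := fun k => hadjA k k.2
  have hinv : ∀ k : K, α₀ (α₀ k) = k := by
    intro k
    apply Subtype.ext
    exact IsAdj.unique hf (hα₀ (α₀ k)) (isAdj_symm_herm hF (hα₀ k))
  have hmul : ∀ k l : K, α₀ (k * l) = α₀ k * α₀ l := by
    intro k l
    apply Subtype.ext
    have h1 : IsAdj (hermForm n F q) ((k * l : K) : Matrix (Fin n) (Fin n) F)
        ((α₀ l : Matrix (Fin n) (Fin n) F) * (α₀ k : Matrix (Fin n) (Fin n) F)) := by
      rw [Subalgebra.coe_mul]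
      exact (hα₀ k).mul (hα₀ l)
    rw [IsAdj.unique hf (hα₀ (k * l)) h1, Subalgebra.coe_mul]
    exact hK.comm _ (α₀ l).2 _ (α₀ k).2
  have hadd : ∀ k l : K, α₀ (k + l) = α₀ k + α₀ l := by
    intro k l
    apply Subtype.ext
    have h1 : IsAdj (hermForm n F q) ((k + l : K) : Matrix (Fin n) (Fin n) F)
        ((α₀ k : Matrix (Fin n) (Fin n) F) + (α₀ l : Matrix (Fin n) (Fin n) F)) := by
      intro u v
      rw [Subalgebra.coe_add, Matrix.add_mulVec, Matrix.add_mulVec, hf.sesq.add_left, hf.sesq.add_right,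
        hα₀ k u v, hα₀ l u v]
    rw [IsAdj.unique hf (hα₀ (k + l)) h1, Subalgebra.coe_add]
  have hscal : ∀ a : F, (α₀ (algebraMap F K a) : Matrix (Fin n) (Fin n) F) =
      (a ^ q) • (1 : Matrix (Fin n) (Fin n) F) := by
    intro a
    have h1 : IsAdj (hermForm n F q) ((algebraMap F K a : K) : Matrix (Fin n) (Fin n) F)
        ((a ^ q) • (1 : Matrix (Fin n) (Fin n) F)) := by
      intro u v
      have h2 : ((algebraMap F K a : K) : Matrix (Fin n) (Fin n) F) = a • (1 : Matrix (Fin n) (Fin n) F) := by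
        rw [Subalgebra.coe_algebraMap, Algebra.algebraMap_eq_smul_one]
      rw [h2, Matrix.smul_mulVec, Matrix.one_mulVec, Matrix.smul_mulVec, Matrix.one_mulVec,
        hermForm_smul_left, hermForm_smul_right, ← pow_mul, ← pow_two, ← hF, FiniteField.pow_card]
    exact IsAdj.unique hf (hα₀ _) h1
  have hcoe_pow : ∀ (k : K) (j : ℕ), ((k ^ j : K) : Matrix (Fin n) (Fin n) F) =
      (k : Matrix (Fin n) (Fin n) F) ^ j := fun k j => Subalgebra.coe_pow K k j
  have h00 : ∀ a b : F, a • (1 : Matrix (Fin n) (Fin n) F) = b • (1 : Matrix (Fin n) (Fin n) F) → a = b := by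
    intro a b h
    have := congrFun (congrFun h ⟨0, hn⟩) ⟨0, hn⟩
    simpa using this
  -- now the field structure
  letI : Field K := Cfsg.Agent.Helper7.FEx.fieldOfSub K hK
  haveI : Fintype K := Fintype.ofFinite K
  let α : K ≃+* K :=
    { toFun := α₀, invFun := α₀, left_inv := hinv, right_inv := hinv, map_mul' := hmul, map_add' := hadd }
  have hαapp : ∀ k, α k = α₀ k := fun k => rfl
  have hne : α ≠ RingEquiv.refl K := by
    intro h
    obtain ⟨a, ha⟩ := exists_pow_q_ne hF
    apply ha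
    have h2 : ((α (algebraMap F K a) : K) : Matrix (Fin n) (Fin n) F) = (algebraMap F K a : K) := by
      rw [h]; rfl
    rw [hαapp, hscal, Subalgebra.coe_algebraMap, Algebra.algebraMap_eq_smul_one] at h2
    exact h00 _ _ h2
  obtain ⟨Q, hQ, hαQ⟩ := Cfsg.Agent.Helper5.AschO.exists_q_of_involution α hne (fun k => hinv k)
  have hQc : Q = q ^ c := by
    have h1 : Q ^ 2 = (q ^ c) ^ 2 := by
      rw [← hQ, ← Nat.card_eq_fintype_card, hcardK, hF, ← pow_mul, ← pow_mul, mul_comm]
    exact Nat.pow_left_injective (by norm_num : (2 : ℕ) ≠ 0) h1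
  have hpow : ∀ a : F, a ^ (q ^ c) = a ^ q := by
    intro a
    have h1 := hαQ (algebraMap F K a)
    have h2 : ((α (algebraMap F K a) : K) : Matrix (Fin n) (Fin n) F) = (a ^ q) • 1 := hscal a
    rw [h1] at h2
    have h3 : (((algebraMap F K a) ^ Q : K) : Matrix (Fin n) (Fin n) F) =
        ((algebraMap F K a : K) : Matrix (Fin n) (Fin n) F) ^ Q := hcoe_pow _ _
    rw [h3, Subalgebra.coe_algebraMap, Algebra.algebraMap_eq_smul_one, smul_pow, one_pow, hQc] at h2
    exact h00 _ _ h2
  by_contra hodd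
  rw [Nat.not_odd_iff_even] at hodd
  obtain ⟨m, hm⟩ := hodd
  obtain ⟨a, ha⟩ := exists_pow_q_ne hF
  apply ha
  rw [← hpow a, hm, ← two_mul, pow_mul, ← hF, FiniteField.pow_card_pow]

/-- **V2b**: the C3 exit inside `GU_n(q)`, with `r` odd -/
theorem field_exit_unitary (hn : 0 < n) (q : ℕ) (hF : Fintype.card F = q ^ 2)
    {H N : Subgroup (GL (Fin n) F)} (hNI : N ≤ GU n F q) (hnz : Nzes H N)
    (hhom : ∀ X : Submodule F (Fin n → F), Cfsg.Agent.Helper5.Asch.FullyInv N X → X = ⊥ ∨ X = ⊤) :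
    (∃ (r : ℕ) (K : Subalgebra F (Matrix (Fin n) (Fin n) F)), r.Prime ∧ Odd r ∧ r ∣ n ∧ IsFieldSubalgebra r K ∧
      IsAdjointClosedFor (hermForm n F q) K ∧ H ≤ subalgebraNormalizer K) ∨
    (∀ M : Matrix (Fin n) (Fin n) F, (∀ s ∈ matrixSet N, M * s = s * M) →
      (∀ c : Matrix (Fin n) (Fin n) F, (∀ s ∈ matrixSet N, c * s = s * c) → M * c = c * M) →
      ∃ a : F, M = a • (1 : Matrix (Fin n) (Fin n) F)) := by
  rcases field_of_fullyInv_form hn (RForm.of_hermForm hF) hnz (isom_of_le_GU hNI) hhom with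
    ⟨r, K, hr, hrn, hK, hadj, hHK⟩ | hct
  · exact Or.inl ⟨r, K, hr, odd_of_adjointClosed_herm hn hF K hK hadj, hrn, hK, hadj, hHK⟩
  · exact Or.inr hct

end Cfsg.Agent.Helper5.AschCU
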