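import Mathlib
import Cfsg.Prelude.Def_Spor_Fi23
import Cfsg.Prelude.Def_Sporadic
import Cfsg.Agent.Helper5.LPCox
import Cfsg.Agent.Helper5.Fi23LPD

/-!
# The presented group Fi23 is simple of order 4089470473293004800
-/

set_option autoImplicit false

namespace Cfsg.Agent.Helper5.Fi23LP

open Cfsg.Agent.Helper5.LP Cfsg.Spor

/-- numbering of the generators. -/
def idx : Fi23.Gen → ℕ
  | .b => 0
  | .c => 1
  | .d => 2
  | .e => 3
  | .h => 4
  | .i => 5
  | .f => 6
  | .g => 7
  | .a => 8
  | .j => 9

/-- the generator with a given number. -/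
def gen : ℕ → Fi23.Gen
  | 0 => .b
  | 1 => .c
  | 2 => .d
  | 3 => .e
  | 4 => .h
  | 5 => .i
  | 6 => .f
  | 7 => .g
  | 8 => .a
  | _ => .j

theorem spor_equiv : Nonempty (Fi23 ≃* LPG 10 R10) :=
  cox_equiv Fi23.edges Fi23.extra 10 R10 idx gen (by intro x; cases x <;> rfl)
    (by intro x; cases x <;> decide) (by intro c hc; interval_cases c <;> rfl)
    (by intro x; cases x <;> decide) lettersA (by decide +kernel) (by decide +kernel)
    (by decide +kernel) (by decide +kernel)

/-- **The presented group is simple of order 4089470473293004800.** -/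
theorem spor_is : Cfsg.IsFi23 Fi23 :=
  cox_simple_card Fi23.edges Fi23.extra 10 R10 spor_equiv simple_card

end Cfsg.Agent.Helper5.Fi23LP
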