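import Mathlib
import Cfsg.Prelude.Def_Spor_Fi23
import Cfsg.Prelude.Def_Spor_Fi22
import Cfsg.Prelude.Def_SporadicB
import Cfsg.Agent.Helper5.Fi23DCA
import Cfsg.Agent.Helper5.Fi23Iso
import Cfsg.Agent.Helper5.Fi22vIso

/-!
# The subgroup `⟨a, …, i⟩` of the presented group `Fi23` is a non-split double cover of `Fi22`
-/

set_option autoImplicit false

namespace Cfsg.Agent.Helper5.Fi23DC

open Cfsg.Agent.Helper5.LP Cfsg.Agent.Helper5.TC Cfsg.Agent.Helper5.TCI Cfsg.Spor
open Cfsg.Agent.Helper5.Fi23LP (R9 R10)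

theorem tabOK : TableOK 10 31671 FiYATC.ctF :=
  tableOK_of_cert FiYATC.iota (fun _ => rfl) rfl FiYATC.hT

theorem relsFixA : RelsFix R10 31671 FiYATC.ctF :=
  relsFix_of_cert (letterWords 9) rfl Fi23LP.wordsA FiYATC.hrelT

/-- the action of the list-presented `Fi23` on the 31671 points. -/
noncomputable def rho : LPG 10 R10 →* Equiv.Perm (Fin 31671) :=
  tableHom Fi23LP.lettersA tabOK relsFixA

theorem rho_acts : ActsOn rho (ev 10 R10) 10 FiYATC.ctF :=
  ⟨fun l hl v => tableHom_ev Fi23LP.lettersA tabOK relsFixA l hl v⟩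

theorem rho_inj : Function.Injective rho := by
  haveI := Fi23LP.ubA.1
  exact injective_of_chain rho_acts Fi23LP.levels Fi23LP.chain_ok
    (by rw [Fi23LP.chain_prod]; exact le_trans Fi23LP.ubA.2 (by norm_num))

/-- the homomorphism from the sub-presentation on `a, …, i`. -/
noncomputable def sigma : LPG 9 R9 →* LPG 10 R10 := subHom 10 R10 lt9 sub9

theorem card_para : Nat.card (para 10 R10 9) = 129123503308800 := by
  have h := Subgroup.card_mul_index (para 10 R10 9)
  rw [Fi23LP.idxA, Fi23LP.simple_card.2] at h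
  exact Nat.eq_of_mul_eq_mul_right (by norm_num : 0 < 31671) (h.trans (by norm_num))

theorem sigma_inj : Function.Injective sigma := by
  haveI := Fi23LP.ubB.1
  exact subHom_injective lt9 sub9
    (by rw [card_para]; exact le_trans Fi23LP.ubB.2 (by norm_num))

/-- the central involution. -/
noncomputable def z : LPG 9 R9 := ev 9 R9 zw

theorem zlt10 : ∀ c ∈ zw, c < 10 := fun c hc => Nat.lt_of_lt_of_le (zlt c hc) (by norm_num)

theorem z_comm (c : ℕ) (hc : c < 9) : ev 9 R9 [c] * z = z * ev 9 R9 [c] := by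
  apply sigma_inj
  have h := comm_of_table rho_acts rho_inj tabOK zw zlt10 pz pz_agree c (by omega)
    (commAllF_spec _ _ _ 9 pz_comm c hc)
  have hc1 : ∀ d ∈ [c] ++ zw, d < 9 := by
    intro d hd
    rcases List.mem_append.mp hd with hd | hd
    · rw [List.mem_singleton.mp hd]; exact hc
    · exact zlt d hd
  have hc2 : ∀ d ∈ zw ++ [c], d < 9 := by
    intro d hd
    rcases List.mem_append.mp hd with hd | hd
    · exact zlt d hd
    · rw [List.mem_singleton.mp hd]; exact hc
  unfold z
  rw [← ev_append, ← ev_append]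
  show subHom 10 R10 lt9 sub9 _ = subHom 10 R10 lt9 sub9 _
  rw [subHom_ev lt9 sub9 _ hc1, subHom_ev lt9 sub9 _ hc2]
  exact h

theorem z_center : z ∈ Subgroup.center (LPG 9 R9) := mem_center_of_comm_gens z z_comm

theorem sigma_z : sigma z = ev 10 R10 zw := subHom_ev lt9 sub9 zw zlt

theorem z_order : orderOf z = 2 := by
  haveI : Fact (Nat.Prime 2) := ⟨Nat.prime_two⟩
  apply orderOf_eq_prime
  · apply sigma_inj
    rw [map_one, map_pow, sigma_z, ev_pow]
    apply eq_one_of_fix rho_acts rho_inj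
    · intro c hc
      obtain ⟨l, hl, hcl⟩ := List.mem_flatten.mp hc
      rw [List.eq_of_mem_replicate hl] at hcl
      exact zlt10 c hcl
    · exact fixRange_pow_of_table tabOK zw zlt10 pz 2 pz_agree pz_sq
  · intro h1
    have h2 : sigma z = 1 := by rw [h1, map_one]
    rw [sigma_z] at h2
    exact ne_one_of_move rho_acts zw zlt10 1 (by norm_num) zw_move h2

theorem ncl_eq : Subgroup.normalClosure {z} = Subgroup.zpowers z :=
  normalClosure_eq_zpowers_of_central z z_center

instance zpowers_normal : (Subgroup.zpowers z).Normal := by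
  rw [← ncl_eq]; exact Subgroup.normalClosure_normal

theorem R9_eq : Fi22vLP.R9 = R9 ++ [zw] := by decide +kernel

theorem quot_equiv : Nonempty (LPG 9 R9 ⧸ Subgroup.zpowers z ≃* Fi22) := by
  obtain ⟨e1⟩ := quotEquiv lt9 zw zlt
  obtain ⟨e2⟩ := Fi22vLP.spor_equiv
  have e3 : LPG 9 (R9 ++ [zw]) ≃* LPG 9 Fi22vLP.R9 := by
    rw [R9_eq]
  have e0 : LPG 9 R9 ⧸ Subgroup.zpowers z ≃* LPG 9 R9 ⧸ Subgroup.normalClosure {z} :=
    QuotientGroup.quotientMulEquivOfEq ncl_eq.symm
  exact ⟨e0.trans (e1.trans (e3.trans e2.symm))⟩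

theorem fi22_noncomm : ∃ a b : Fi22, a * b ≠ b * a := by
  by_contra h
  push Not at h
  obtain ⟨hs, hc⟩ := Fi22vLP.spor_is
  haveI : Finite Fi22 := Nat.finite_of_card_ne_zero (by rw [hc]; norm_num)
  letI : CommGroup Fi22 := { (inferInstance : Group Fi22) with mul_comm := h }
  have hp := IsSimpleGroup.prime_card (α := Fi22)
  rw [hc] at hp
  norm_num at hp

/-- the sub-presentation on `a, …, i` is a non-split double cover of `Fi22`. -/
theorem dc_lp : Cfsg.IsNonsplitDoubleCover (LPG 9 R9) Fi22 := by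
  obtain ⟨e⟩ := quot_equiv
  haveI : IsSimpleGroup Fi22 := Fi22vLP.spor_is.1
  exact isNonsplitDoubleCover_of fi22_noncomm perfect9 z z_center z_order e

/-- the subgroup of `Fi23` generated by the images of `a, …, i`. -/
def Hs : Subgroup Fi23 :=
  (Subgroup.closure ({Fi23.a, Fi23.b, Fi23.c, Fi23.d, Fi23.e, Fi23.f, Fi23.g, Fi23.h,
    Fi23.i} : Set (FreeGroup Fi23.Gen))).map
    (PresentedGroup.mk (coxRelators Fi23.edges ∪ {r | r ∈ Fi23.extra}))

theorem of_mem_Hs (c : ℕ) (hc : c < 9) :
    (PresentedGroup.of (Fi23LP.gen c) : Fi23) ∈ Hs := by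
  refine ⟨FreeGroup.of (Fi23LP.gen c), Subgroup.subset_closure ?_, rfl⟩
  interval_cases c <;> simp [Fi23LP.gen]

theorem hs_transfer : ∃ f : LPG 9 R9 →* Fi23, Function.Injective f ∧ f.range = Hs := by
  obtain ⟨e, he⟩ := cox_equiv_spec Fi23.edges Fi23.extra 10 R10 Fi23LP.idx Fi23LP.gen
    (by intro x; cases x <;> rfl)
    (by intro x; cases x <;> decide) (by intro c hc; interval_cases c <;> rfl)
    (by intro x; cases x <;> decide) Fi23LP.lettersA (by decide +kernel) (by decide +kernel)
    (by decide +kernel) (by decide +kernel)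
  have hes : ∀ x : Fi23.Gen, e.symm (ev 10 R10 [Fi23LP.idx x]) = PresentedGroup.of x := by
    intro x
    rw [← he x, e.symm_apply_apply]
  have hf : ∀ c, c < 9 → (e.symm.toMonoidHom.comp sigma) (ev 9 R9 [c]) =
      PresentedGroup.of (Fi23LP.gen c) := by
    intro c hc
    show e.symm (subHom 10 R10 lt9 sub9 (ev 9 R9 [c])) = _
    rw [subHom_ev lt9 sub9 [c] (by simpa using hc), ← hes (Fi23LP.gen c)]
    have : Fi23LP.idx (Fi23LP.gen c) = c := by interval_cases c <;> rfl
    rw [this]
  have hmem : ∀ x : Fi23.Gen, Fi23LP.idx x < 9 →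
      (PresentedGroup.of x : Fi23) ∈ (e.symm.toMonoidHom.comp sigma).range := by
    intro x hx
    refine ⟨ev 9 R9 [Fi23LP.idx x], ?_⟩
    rw [hf _ hx]
    congr 1
    cases x <;> rfl
  refine ⟨e.symm.toMonoidHom.comp sigma, ?_, ?_⟩
  · exact e.symm.injective.comp sigma_inj
  · apply le_antisymm
    · rw [MonoidHom.range_eq_map, ← closure_gens (k := 9) (R := R9), MonoidHom.map_closure,
        Subgroup.closure_le]
      rintro _ ⟨_, ⟨c, hc, rfl⟩, rfl⟩
      rw [hf c hc]
      exact of_mem_Hs c hc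
    · unfold Hs
      rw [Subgroup.map_le_iff_le_comap, Subgroup.closure_le]
      intro w hw
      simp only [Set.mem_insert_iff, Set.mem_singleton_iff] at hw
      rcases hw with rfl | rfl | rfl | rfl | rfl | rfl | rfl | rfl | rfl
      · exact hmem .a (by decide)
      · exact hmem .b (by decide)
      · exact hmem .c (by decide)
      · exact hmem .d (by decide)
      · exact hmem .e (by decide)
      · exact hmem .f (by decide)
      · exact hmem .g (by decide)
      · exact hmem .h (by decide)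
      · exact hmem .i (by decide)

/-- **The subgroup `⟨a, …, i⟩` of `Fi23` is a non-split double cover of `Fi22`.** -/
theorem dc : Cfsg.IsNonsplitDoubleCover Hs Fi22 := by
  obtain ⟨f, hinj, hr⟩ := hs_transfer
  have e1 : LPG 9 R9 ≃* f.range := MonoidHom.ofInjective hinj
  have e2 : f.range ≃* Hs := MulEquiv.subgroupCongr hr
  exact isNonsplitDoubleCover_congr (e1.trans e2) dc_lp

end Cfsg.Agent.Helper5.Fi23DC
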