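import Cfsg.Agent.Helper5.Fi23TCDatD
import Cfsg.Agent.Helper5.TCCertC

/-! kernel checks of words: Fi23TC -/

set_option autoImplicit false
set_option Elab.async false

namespace Cfsg.Agent.Helper5.Fi23TC
open Cfsg.Agent.Helper5.TC

set_option maxRecDepth 1000000 in
theorem set_ok : setOK 47441 31671 RS = true := by decide +kernel

set_option maxRecDepth 1000000 in
theorem rev_ok : revOK D D.nw = true := by decide +kernel

set_option maxRecDepth 1000000 in
theorem words_ok : wordsOK D D.nw = true := by decide +kernel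

theorem word_100 : unpack (D.wlen 100) (D.wordP 100) = [9, 8, 3, 5, 4, 3, 1, 2, 3, 9, 8, 3, 5, 4, 3, 1, 2, 3, 9, 8, 3, 5, 4, 3, 1, 2, 3, 9, 8, 3, 5, 4, 3, 1, 2, 3, 9, 8, 3, 5, 4, 3, 1, 2, 3, 9, 8, 3, 5, 4, 3, 1, 2, 3, 9, 8, 3, 5, 4, 3, 1, 2, 3, 9, 8, 3, 5, 4, 3, 1, 2, 3, 9, 8, 3, 5, 4, 3, 1, 2, 3, 9, 8, 3, 5, 4, 3, 1, 2, 3] := by decide +kernel

theorem word_101 : unpack (D.wlen 101) (D.wordP 101) = [8, 5, 4, 3, 2, 1, 0, 8, 5, 4, 3, 2, 1, 0, 8, 5, 4, 3, 2, 1, 0, 8, 5, 4, 3, 2, 1, 0, 8, 5, 4, 3, 2, 1, 0, 8, 5, 4, 3, 2, 1, 0, 8, 5, 4, 3, 2, 1, 0, 8, 5, 4, 3, 2, 1, 0, 8, 5, 4, 3, 2, 1, 0] := by decide +kernel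

theorem word_102 : unpack (D.wlen 102) (D.wordP 102) = [0] := by decide +kernel

theorem word_103 : unpack (D.wlen 103) (D.wordP 103) = [1] := by decide +kernel

theorem word_104 : unpack (D.wlen 104) (D.wordP 104) = [2] := by decide +kernel

theorem word_105 : unpack (D.wlen 105) (D.wordP 105) = [3] := by decide +kernel

theorem word_106 : unpack (D.wlen 106) (D.wordP 106) = [4] := by decide +kernel

theorem word_107 : unpack (D.wlen 107) (D.wordP 107) = [5] := by decide +kernel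

theorem word_108 : unpack (D.wlen 108) (D.wordP 108) = [6] := by decide +kernel

theorem word_109 : unpack (D.wlen 109) (D.wordP 109) = [8] := by decide +kernel

theorem word_110 : unpack (D.wlen 110) (D.wordP 110) = [9] := by decide +kernel

end Cfsg.Agent.Helper5.Fi23TC
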