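import Cfsg.Agent.Helper5.Fi23TCDatD

/-! kernel checks of edges, aliases, rows: Fi23TC -/

set_option autoImplicit false
set_option Elab.async false

namespace Cfsg.Agent.Helper5.Fi23TC
open Cfsg.Agent.Helper5.TC

set_option maxRecDepth 1000000 in
theorem aliases_0 : aliasRange E 8222 0 = true := by decide +kernel

set_option maxRecDepth 1000000 in
theorem edges_9_4 : edgesRange E 9 6919 27437 = true := by decide +kernel

set_option maxRecDepth 1000000 in
theorem edges_3_2 : edgesRange E 3 5089 6726 = true := by decide +kernel

set_option maxRecDepth 1000000 in
theorem edges_2_5 : edgesRange E 2 4989 17337 = true := by decide +kernel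

set_option maxRecDepth 1000000 in
theorem edges_4_2 : edgesRange E 4 4706 7145 = true := by decide +kernel

set_option maxRecDepth 1000000 in
theorem edges_0_6 : edgesRange E 0 4536 17953 = true := by decide +kernel

set_option maxRecDepth 1000000 in
theorem edges_5_6 : edgesRange E 5 4533 23883 = true := by decide +kernel

set_option maxRecDepth 1000000 in
theorem edges_7_5 : edgesRange E 7 4369 17447 = true := by decide +kernel

set_option maxRecDepth 1000000 in
theorem edges_1_5 : edgesRange E 1 4317 16068 = true := by decide +kernel

set_option maxRecDepth 1000000 in
theorem edges_9_1 : edgesRange E 9 4231 3024 = true := by decide +kernel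

set_option maxRecDepth 1000000 in
theorem edges_8_6 : edgesRange E 8 4055 35749 = true := by decide +kernel

set_option maxRecDepth 1000000 in
theorem edges_6_4 : edgesRange E 6 3794 14899 = true := by decide +kernel

set_option maxRecDepth 1000000 in
theorem edges_6_1 : edgesRange E 6 3731 2942 = true := by decide +kernel

set_option maxRecDepth 1000000 in
theorem edges_2_2 : edgesRange E 2 3593 5395 = true := by decide +kernel

set_option maxRecDepth 1000000 in
theorem edges_5_0 : edgesRange E 5 3515 0 = true := by decide +kernel

set_option maxRecDepth 1000000 in
theorem edges_0_3 : edgesRange E 0 3351 7405 = true := by decide +kernel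

set_option maxRecDepth 1000000 in
theorem edges_5_5 : edgesRange E 5 3308 20575 = true := by decide +kernel

set_option maxRecDepth 1000000 in
theorem edges_1_2 : edgesRange E 1 3135 4922 = true := by decide +kernel

set_option maxRecDepth 1000000 in
theorem edges_2_12 : edgesRange E 2 3071 38945 = true := by decide +kernel

set_option maxRecDepth 1000000 in
theorem edges_3_8 : edgesRange E 3 2936 33426 = true := by decide +kernel

set_option maxRecDepth 1000000 in
theorem edges_3_10 : edgesRange E 3 2793 40048 = true := by decide +kernel

set_option maxRecDepth 1000000 in
theorem edges_1_13 : edgesRange E 1 2594 39205 = true := by decide +kernel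

set_option maxRecDepth 1000000 in
theorem edges_2_0 : edgesRange E 2 2552 0 = true := by decide +kernel

set_option maxRecDepth 1000000 in
theorem edges_8_9 : edgesRange E 8 2496 44223 = true := by decide +kernel

set_option maxRecDepth 1000000 in
theorem edges_7_0 : edgesRange E 7 2456 0 = true := by decide +kernel

set_option maxRecDepth 1000000 in
theorem edges_2_11 : edgesRange E 2 2353 36592 = true := by decide +kernel

set_option maxRecDepth 1000000 in
theorem edges_2_13 : edgesRange E 2 2273 42016 = true := by decide +kernel

set_option maxRecDepth 1000000 in
theorem edges_9_9 : edgesRange E 9 2232 44504 = true := by decide +kernel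

set_option maxRecDepth 1000000 in
theorem edges_2_8 : edgesRange E 2 2178 30090 = true := by decide +kernel

set_option maxRecDepth 1000000 in
theorem edges_6_14 : edgesRange E 6 2126 42749 = true := by decide +kernel

set_option maxRecDepth 1000000 in
theorem edges_0_16 : edgesRange E 0 2085 45102 = true := by decide +kernel

set_option maxRecDepth 1000000 in
theorem edges_9_8 : edgesRange E 9 2089 42415 = true := by decide +kernel

set_option maxRecDepth 1000000 in
theorem edges_6_13 : edgesRange E 6 2069 40680 = true := by decide +kernel

set_option maxRecDepth 1000000 in
theorem edges_6_12 : edgesRange E 6 2056 38624 = true := by decide +kernel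

set_option maxRecDepth 1000000 in
theorem edges_0_13 : edgesRange E 0 2032 37769 = true := by decide +kernel

set_option maxRecDepth 1000000 in
theorem edges_7_12 : edgesRange E 7 2004 37788 = true := by decide +kernel

set_option maxRecDepth 1000000 in
theorem edges_5_14 : edgesRange E 5 2729 44712 = true := by decide +kernel

set_option maxRecDepth 1000000 in
theorem rows_1 : rowsRange E RS 3000 3000 = true := by decide +kernel

set_option maxRecDepth 1000000 in
theorem rows_5 : rowsRange E RS 3000 15000 = true := by decide +kernel

set_option maxRecDepth 1000000 in
theorem rows_9 : rowsRange E RS 3000 27000 = true := by decide +kernel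

set_option maxRecDepth 1000000 in
theorem rows_13 : rowsRange E RS 3000 39000 = true := by decide +kernel

set_option maxRecDepth 1000000 in
theorem edges_9_10 : edgesRange E 9 705 46736 = true := by decide +kernel

set_option maxRecDepth 1000000 in
theorem edges_0_17 : edgesRange E 0 254 47187 = true := by decide +kernel

end Cfsg.Agent.Helper5.Fi23TC
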