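import Cfsg.Agent.Helper5.Fi23TCDatD

/-! kernel checks of edges, aliases, rows: Fi23TC -/

set_option autoImplicit false
set_option Elab.async false

namespace Cfsg.Agent.Helper5.Fi23TC
open Cfsg.Agent.Helper5.TC

set_option maxRecDepth 1000000 in
theorem edges_9_2 : edgesRange E 9 8026 7255 = true := by decide +kernel

set_option maxRecDepth 1000000 in
theorem edges_8_2 : edgesRange E 8 7064 11845 = true := by decide +kernel

set_option maxRecDepth 1000000 in
theorem edges_3_4 : edgesRange E 3 5593 16974 = true := by decide +kernel

set_option maxRecDepth 1000000 in
theorem edges_4_5 : edgesRange E 4 4872 21429 = true := by decide +kernel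

set_option maxRecDepth 1000000 in
theorem edges_4_11 : edgesRange E 4 4712 39882 = true := by decide +kernel

set_option maxRecDepth 1000000 in
theorem edges_2_6 : edgesRange E 2 4536 22326 = true := by decide +kernel

set_option maxRecDepth 1000000 in
theorem edges_7_6 : edgesRange E 7 4506 21816 = true := by decide +kernel

set_option maxRecDepth 1000000 in
theorem edges_5_3 : edgesRange E 5 4342 11795 = true := by decide +kernel

set_option maxRecDepth 1000000 in
theorem edges_8_0 : edgesRange E 8 4312 0 = true := by decide +kernel

set_option maxRecDepth 1000000 in
theorem edges_7_4 : edgesRange E 7 4170 13277 = true := by decide +kernel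

set_option maxRecDepth 1000000 in
theorem aliases_5 : aliasRange E 3852 25300 = true := by decide +kernel

set_option maxRecDepth 1000000 in
theorem edges_7_3 : edgesRange E 7 3795 9482 = true := by decide +kernel

set_option maxRecDepth 1000000 in
theorem edges_3_9 : edgesRange E 3 3686 36362 = true := by decide +kernel

set_option maxRecDepth 1000000 in
theorem edges_7_2 : edgesRange E 7 3581 5901 = true := by decide +kernel

set_option maxRecDepth 1000000 in
theorem edges_0_4 : edgesRange E 0 3462 10756 = true := by decide +kernel

set_option maxRecDepth 1000000 in
theorem edges_1_6 : edgesRange E 1 3428 20385 = true := by decide +kernel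

set_option maxRecDepth 1000000 in
theorem edges_2_7 : edgesRange E 2 3228 26862 = true := by decide +kernel

set_option maxRecDepth 1000000 in
theorem edges_3_0 : edgesRange E 3 3194 0 = true := by decide +kernel

set_option maxRecDepth 1000000 in
theorem edges_0_8 : edgesRange E 0 3041 26561 = true := by decide +kernel

set_option maxRecDepth 1000000 in
theorem edges_2_1 : edgesRange E 2 2843 2552 = true := by decide +kernel

set_option maxRecDepth 1000000 in
theorem edges_4_10 : edgesRange E 4 2810 37072 = true := by decide +kernel

set_option maxRecDepth 1000000 in
theorem edges_0_2 : edgesRange E 0 2697 4708 = true := by decide +kernel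

set_option maxRecDepth 1000000 in
theorem edges_5_13 : edgesRange E 5 2550 42162 = true := by decide +kernel

set_option maxRecDepth 1000000 in
theorem edges_2_14 : edgesRange E 2 2452 44289 = true := by decide +kernel

set_option maxRecDepth 1000000 in
theorem edges_4_8 : edgesRange E 4 2417 32209 = true := by decide +kernel

set_option maxRecDepth 1000000 in
theorem edges_1_0 : edgesRange E 1 2360 0 = true := by decide +kernel

set_option maxRecDepth 1000000 in
theorem edges_8_7 : edgesRange E 8 2307 39804 = true := by decide +kernel

set_option maxRecDepth 1000000 in
theorem edges_5_11 : edgesRange E 5 2218 37613 = true := by decide +kernel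

set_option maxRecDepth 1000000 in
theorem edges_2_10 : edgesRange E 2 2173 34419 = true := by decide +kernel

set_option maxRecDepth 1000000 in
theorem edges_1_12 : edgesRange E 1 2103 37102 = true := by decide +kernel

set_option maxRecDepth 1000000 in
theorem edges_8_8 : edgesRange E 8 2112 42111 = true := by decide +kernel

set_option maxRecDepth 1000000 in
theorem edges_1_10 : edgesRange E 1 2064 32995 = true := by decide +kernel

set_option maxRecDepth 1000000 in
theorem edges_6_10 : edgesRange E 6 2071 34491 = true := by decide +kernel

set_option maxRecDepth 1000000 in
theorem edges_0_10 : edgesRange E 0 2046 31690 = true := by decide +kernel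

set_option maxRecDepth 1000000 in
theorem edges_9_7 : edgesRange E 9 2040 40375 = true := by decide +kernel

set_option maxRecDepth 1000000 in
theorem edges_7_13 : edgesRange E 7 2000 39792 = true := by decide +kernel

set_option maxRecDepth 1000000 in
theorem edges_7_16 : edgesRange E 7 1644 45797 = true := by decide +kernel

set_option maxRecDepth 1000000 in
theorem rows_0 : rowsRange E RS 3000 0 = true := by decide +kernel

set_option maxRecDepth 1000000 in
theorem rows_3 : rowsRange E RS 3000 9000 = true := by decide +kernel

set_option maxRecDepth 1000000 in
theorem rows_7 : rowsRange E RS 3000 21000 = true := by decide +kernel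

set_option maxRecDepth 1000000 in
theorem rows_11 : rowsRange E RS 3000 33000 = true := by decide +kernel

set_option maxRecDepth 1000000 in
theorem edges_1_16 : edgesRange E 1 848 46593 = true := by decide +kernel

set_option maxRecDepth 1000000 in
theorem edges_8_10 : edgesRange E 8 722 46719 = true := by decide +kernel

end Cfsg.Agent.Helper5.Fi23TC
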