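import Cfsg.Agent.Helper5.Fi23TCDatD

/-! kernel checks of edges, aliases, rows: Fi23TC -/

set_option autoImplicit false
set_option Elab.async false

namespace Cfsg.Agent.Helper5.Fi23TC
open Cfsg.Agent.Helper5.TC

set_option maxRecDepth 1000000 in
theorem edges_8_3 : edgesRange E 8 7591 18909 = true := by decide +kernel

set_option maxRecDepth 1000000 in
theorem edges_8_1 : edgesRange E 8 7533 4312 = true := by decide +kernel

set_option maxRecDepth 1000000 in
theorem edges_3_3 : edgesRange E 3 5159 11815 = true := by decide +kernel

set_option maxRecDepth 1000000 in
theorem edges_3_5 : edgesRange E 3 4882 22567 = true := by decide +kernel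

set_option maxRecDepth 1000000 in
theorem aliases_2 : aliasRange E 4726 14118 = true := by decide +kernel

set_option maxRecDepth 1000000 in
theorem edges_2_4 : edgesRange E 2 4554 12783 = true := by decide +kernel

set_option maxRecDepth 1000000 in
theorem edges_5_2 : edgesRange E 5 4533 7262 = true := by decide +kernel

set_option maxRecDepth 1000000 in
theorem edges_5_4 : edgesRange E 5 4438 16137 = true := by decide +kernel

set_option maxRecDepth 1000000 in
theorem edges_6_5 : edgesRange E 6 4305 18693 = true := by decide +kernel

set_option maxRecDepth 1000000 in
theorem edges_6_6 : edgesRange E 6 4204 22998 = true := by decide +kernel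

set_option maxRecDepth 1000000 in
theorem edges_6_2 : edgesRange E 6 3882 6673 = true := by decide +kernel

set_option maxRecDepth 1000000 in
theorem edges_2_3 : edgesRange E 2 3795 8988 = true := by decide +kernel

set_option maxRecDepth 1000000 in
theorem edges_0_5 : edgesRange E 0 3735 14218 = true := by decide +kernel

set_option maxRecDepth 1000000 in
theorem edges_9_5 : edgesRange E 9 3637 34356 = true := by decide +kernel

set_option maxRecDepth 1000000 in
theorem edges_4_0 : edgesRange E 4 3520 0 = true := by decide +kernel

set_option maxRecDepth 1000000 in
theorem edges_7_1 : edgesRange E 7 3445 2456 = true := by decide +kernel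

set_option maxRecDepth 1000000 in
theorem aliases_3 : aliasRange E 3259 18844 = true := by decide +kernel

set_option maxRecDepth 1000000 in
theorem aliases_4 : aliasRange E 3197 22103 = true := by decide +kernel

set_option maxRecDepth 1000000 in
theorem edges_9_0 : edgesRange E 9 3024 0 = true := by decide +kernel

set_option maxRecDepth 1000000 in
theorem edges_6_0 : edgesRange E 6 2942 0 = true := by decide +kernel

set_option maxRecDepth 1000000 in
theorem edges_4_12 : edgesRange E 4 2771 44594 = true := by decide +kernel

set_option maxRecDepth 1000000 in
theorem edges_3_7 : edgesRange E 3 2639 30787 = true := by decide +kernel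

set_option maxRecDepth 1000000 in
theorem edges_5_7 : edgesRange E 5 2559 28416 = true := by decide +kernel

set_option maxRecDepth 1000000 in
theorem edges_0_1 : edgesRange E 0 2446 2262 = true := by decide +kernel

set_option maxRecDepth 1000000 in
theorem edges_4_9 : edgesRange E 4 2446 34626 = true := by decide +kernel

set_option maxRecDepth 1000000 in
theorem edges_0_14 : edgesRange E 0 2344 39801 = true := by decide +kernel

set_option maxRecDepth 1000000 in
theorem edges_0_0 : edgesRange E 0 2262 0 = true := by decide +kernel

set_option maxRecDepth 1000000 in
theorem edges_5_10 : edgesRange E 5 2232 35381 = true := by decide +kernel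

set_option maxRecDepth 1000000 in
theorem edges_5_8 : edgesRange E 5 2183 30975 = true := by decide +kernel

set_option maxRecDepth 1000000 in
theorem edges_6_8 : edgesRange E 6 2104 30302 = true := by decide +kernel

set_option maxRecDepth 1000000 in
theorem edges_0_9 : edgesRange E 0 2088 29602 = true := by decide +kernel

set_option maxRecDepth 1000000 in
theorem edges_6_9 : edgesRange E 6 2085 32406 = true := by decide +kernel

set_option maxRecDepth 1000000 in
theorem edges_6_11 : edgesRange E 6 2062 36562 = true := by decide +kernel

set_option maxRecDepth 1000000 in
theorem edges_1_11 : edgesRange E 1 2043 35059 = true := by decide +kernel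

set_option maxRecDepth 1000000 in
theorem edges_0_11 : edgesRange E 0 2020 33736 = true := by decide +kernel

set_option maxRecDepth 1000000 in
theorem edges_0_12 : edgesRange E 0 2013 35756 = true := by decide +kernel

set_option maxRecDepth 1000000 in
theorem edges_7_15 : edgesRange E 7 2004 43793 = true := by decide +kernel

set_option maxRecDepth 1000000 in
theorem rows_2 : rowsRange E RS 3000 6000 = true := by decide +kernel

set_option maxRecDepth 1000000 in
theorem rows_6 : rowsRange E RS 3000 18000 = true := by decide +kernel

set_option maxRecDepth 1000000 in
theorem rows_10 : rowsRange E RS 3000 30000 = true := by decide +kernel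

set_option maxRecDepth 1000000 in
theorem rows_14 : rowsRange E RS 3000 42000 = true := by decide +kernel

set_option maxRecDepth 1000000 in
theorem rows_15 : rowsRange E RS 2441 45000 = true := by decide +kernel

set_option maxRecDepth 1000000 in
theorem edges_4_13 : edgesRange E 4 76 47365 = true := by decide +kernel

end Cfsg.Agent.Helper5.Fi23TC
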