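import Cfsg.Agent.Helper5.Fi23TCDatD
import Cfsg.Agent.Helper5.Fi23TCDatT
import Cfsg.Agent.Helper5.TC2C

/-! kernel checks of the coset table: Fi23TC -/

set_option autoImplicit false
set_option Elab.async false

namespace Cfsg.Agent.Helper5.Fi23TC
open Cfsg.Agent.Helper5.TC

set_option maxRecDepth 1000000 in
theorem orb1_ok : orbOK ctF D 31671 S1 1 28160 oc1 = true := by decide +kernel

set_option maxRecDepth 1000000 in
theorem relc_2_0 : relPtsF ctF (D.wlen 2) (D.wordP 2) 31671 0 = true := by decide +kernel

set_option maxRecDepth 1000000 in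
theorem relc_4_0 : relPtsF ctF (D.wlen 4) (D.wordP 4) 31671 0 = true := by decide +kernel

set_option maxRecDepth 1000000 in
theorem relc_15_0 : relPtsF ctF (D.wlen 15) (D.wordP 15) 31671 0 = true := by decide +kernel

set_option maxRecDepth 1000000 in
theorem relc_26_0 : relPtsF ctF (D.wlen 26) (D.wordP 26) 31671 0 = true := by decide +kernel

set_option maxRecDepth 1000000 in
theorem relc_37_0 : relPtsF ctF (D.wlen 37) (D.wordP 37) 31671 0 = true := by decide +kernel

set_option maxRecDepth 1000000 in
theorem relc_49_0 : relPtsF ctF (D.wlen 49) (D.wordP 49) 31671 0 = true := by decide +kernel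

set_option maxRecDepth 1000000 in
theorem relc_60_0 : relPtsF ctF (D.wlen 60) (D.wordP 60) 31671 0 = true := by decide +kernel

set_option maxRecDepth 1000000 in
theorem relc_71_0 : relPtsF ctF (D.wlen 71) (D.wordP 71) 31671 0 = true := by decide +kernel

set_option maxRecDepth 1000000 in
theorem relc_81_0 : relPtsF ctF (D.wlen 81) (D.wordP 81) 31671 0 = true := by decide +kernel

set_option maxRecDepth 1000000 in
theorem relc_92_0 : relPtsF ctF (D.wlen 92) (D.wordP 92) 31671 0 = true := by decide +kernel

set_option maxRecDepth 1000000 in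
theorem relc_101_4 : relPtsF ctF (D.wlen 101) (D.wordP 101) 3174 12696 = true := by decide +kernel

set_option maxRecDepth 1000000 in
theorem relc_100_4 : relPtsF ctF (D.wlen 100) (D.wordP 100) 2222 8888 = true := by decide +kernel

set_option maxRecDepth 1000000 in
theorem relc_100_12 : relPtsF ctF (D.wlen 100) (D.wordP 100) 2222 26664 = true := by decide +kernel

set_option maxRecDepth 1000000 in
theorem relc_88_0 : relPtsF ctF (D.wlen 88) (D.wordP 88) 31671 0 = true := by decide +kernel

set_option maxRecDepth 1000000 in
theorem inv_6 : invRowF ctF 31671 6 31671 0 = true := by decide +kernel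

end Cfsg.Agent.Helper5.Fi23TC
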