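import Cfsg.Agent.Helper5.Fi23TCDatD
import Cfsg.Agent.Helper5.Fi23TCDatT
import Cfsg.Agent.Helper5.TC2C

/-! kernel checks of the coset table: Fi23TC -/

set_option autoImplicit false
set_option Elab.async false

namespace Cfsg.Agent.Helper5.Fi23TC
open Cfsg.Agent.Helper5.TC

set_option maxRecDepth 1000000 in
theorem orb2_ok : orbOK ctF D 31671 S2 52 3510 oc2 = true := by decide +kernel

set_option maxRecDepth 1000000 in
theorem relc_3_0 : relPtsF ctF (D.wlen 3) (D.wordP 3) 31671 0 = true := by decide +kernel

set_option maxRecDepth 1000000 in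
theorem relc_5_0 : relPtsF ctF (D.wlen 5) (D.wordP 5) 31671 0 = true := by decide +kernel

set_option maxRecDepth 1000000 in
theorem relc_16_0 : relPtsF ctF (D.wlen 16) (D.wordP 16) 31671 0 = true := by decide +kernel

set_option maxRecDepth 1000000 in
theorem relc_27_0 : relPtsF ctF (D.wlen 27) (D.wordP 27) 31671 0 = true := by decide +kernel

set_option maxRecDepth 1000000 in
theorem relc_39_0 : relPtsF ctF (D.wlen 39) (D.wordP 39) 31671 0 = true := by decide +kernel

set_option maxRecDepth 1000000 in
theorem relc_50_0 : relPtsF ctF (D.wlen 50) (D.wordP 50) 31671 0 = true := by decide +kernel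

set_option maxRecDepth 1000000 in
theorem relc_61_0 : relPtsF ctF (D.wlen 61) (D.wordP 61) 31671 0 = true := by decide +kernel

set_option maxRecDepth 1000000 in
theorem relc_72_0 : relPtsF ctF (D.wlen 72) (D.wordP 72) 31671 0 = true := by decide +kernel

set_option maxRecDepth 1000000 in
theorem relc_82_0 : relPtsF ctF (D.wlen 82) (D.wordP 82) 31671 0 = true := by decide +kernel

set_option maxRecDepth 1000000 in
theorem relc_93_0 : relPtsF ctF (D.wlen 93) (D.wordP 93) 31671 0 = true := by decide +kernel

set_option maxRecDepth 1000000 in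
theorem relc_101_5 : relPtsF ctF (D.wlen 101) (D.wordP 101) 3174 15870 = true := by decide +kernel

set_option maxRecDepth 1000000 in
theorem relc_100_5 : relPtsF ctF (D.wlen 100) (D.wordP 100) 2222 11110 = true := by decide +kernel

set_option maxRecDepth 1000000 in
theorem relc_100_13 : relPtsF ctF (D.wlen 100) (D.wordP 100) 2222 28886 = true := by decide +kernel

set_option maxRecDepth 1000000 in
theorem relc_99_0 : relPtsF ctF (D.wlen 99) (D.wordP 99) 31671 0 = true := by decide +kernel

set_option maxRecDepth 1000000 in
theorem inv_7 : invRowF ctF 31671 7 31671 0 = true := by decide +kernel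

end Cfsg.Agent.Helper5.Fi23TC
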