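import Cfsg.Agent.Helper5.Fi23TCDatD
import Cfsg.Agent.Helper5.Fi23TCDatT
import Cfsg.Agent.Helper5.TC2C

/-! kernel checks of the coset table: Fi23TC -/

set_option autoImplicit false
set_option Elab.async false

namespace Cfsg.Agent.Helper5.Fi23TC
open Cfsg.Agent.Helper5.TC

set_option maxRecDepth 1000000 in
theorem relc_1_0 : relPtsF ctF (D.wlen 1) (D.wordP 1) 31671 0 = true := by decide +kernel

set_option maxRecDepth 1000000 in
theorem relc_34_0 : relPtsF ctF (D.wlen 34) (D.wordP 34) 31671 0 = true := by decide +kernel

set_option maxRecDepth 1000000 in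
theorem relc_65_0 : relPtsF ctF (D.wlen 65) (D.wordP 65) 31671 0 = true := by decide +kernel

set_option maxRecDepth 1000000 in
theorem relc_6_0 : relPtsF ctF (D.wlen 6) (D.wordP 6) 31671 0 = true := by decide +kernel

set_option maxRecDepth 1000000 in
theorem relc_17_0 : relPtsF ctF (D.wlen 17) (D.wordP 17) 31671 0 = true := by decide +kernel

set_option maxRecDepth 1000000 in
theorem relc_28_0 : relPtsF ctF (D.wlen 28) (D.wordP 28) 31671 0 = true := by decide +kernel

set_option maxRecDepth 1000000 in
theorem relc_40_0 : relPtsF ctF (D.wlen 40) (D.wordP 40) 31671 0 = true := by decide +kernel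

set_option maxRecDepth 1000000 in
theorem relc_51_0 : relPtsF ctF (D.wlen 51) (D.wordP 51) 31671 0 = true := by decide +kernel

set_option maxRecDepth 1000000 in
theorem relc_62_0 : relPtsF ctF (D.wlen 62) (D.wordP 62) 31671 0 = true := by decide +kernel

set_option maxRecDepth 1000000 in
theorem relc_73_0 : relPtsF ctF (D.wlen 73) (D.wordP 73) 31671 0 = true := by decide +kernel

set_option maxRecDepth 1000000 in
theorem relc_84_0 : relPtsF ctF (D.wlen 84) (D.wordP 84) 31671 0 = true := by decide +kernel

set_option maxRecDepth 1000000 in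
theorem relc_94_0 : relPtsF ctF (D.wlen 94) (D.wordP 94) 31671 0 = true := by decide +kernel

set_option maxRecDepth 1000000 in
theorem relc_101_6 : relPtsF ctF (D.wlen 101) (D.wordP 101) 3174 19044 = true := by decide +kernel

set_option maxRecDepth 1000000 in
theorem relc_100_6 : relPtsF ctF (D.wlen 100) (D.wordP 100) 2222 13332 = true := by decide +kernel

set_option maxRecDepth 1000000 in
theorem relc_101_9 : relPtsF ctF (D.wlen 101) (D.wordP 101) 3105 28566 = true := by decide +kernel

set_option maxRecDepth 1000000 in
theorem relc_77_0 : relPtsF ctF (D.wlen 77) (D.wordP 77) 31671 0 = true := by decide +kernel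

set_option maxRecDepth 1000000 in
theorem inv_5 : invRowF ctF 31671 5 31671 0 = true := by decide +kernel

end Cfsg.Agent.Helper5.Fi23TC
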