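import Cfsg.Agent.Helper5.Fi23TCDatD
import Cfsg.Agent.Helper5.Fi23TCDatT
import Cfsg.Agent.Helper5.TC2C

/-! kernel checks of the coset table: Fi23TC -/

set_option autoImplicit false
set_option Elab.async false

namespace Cfsg.Agent.Helper5.Fi23TC
open Cfsg.Agent.Helper5.TC

set_option maxRecDepth 1000000 in
theorem relc_10_0 : relPtsF ctF (D.wlen 10) (D.wordP 10) 31671 0 = true := by decide +kernel

set_option maxRecDepth 1000000 in
theorem relc_38_0 : relPtsF ctF (D.wlen 38) (D.wordP 38) 31671 0 = true := by decide +kernel

set_option maxRecDepth 1000000 in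
theorem relc_67_0 : relPtsF ctF (D.wlen 67) (D.wordP 67) 31671 0 = true := by decide +kernel

set_option maxRecDepth 1000000 in
theorem relc_7_0 : relPtsF ctF (D.wlen 7) (D.wordP 7) 31671 0 = true := by decide +kernel

set_option maxRecDepth 1000000 in
theorem relc_18_0 : relPtsF ctF (D.wlen 18) (D.wordP 18) 31671 0 = true := by decide +kernel

set_option maxRecDepth 1000000 in
theorem relc_29_0 : relPtsF ctF (D.wlen 29) (D.wordP 29) 31671 0 = true := by decide +kernel

set_option maxRecDepth 1000000 in
theorem relc_41_0 : relPtsF ctF (D.wlen 41) (D.wordP 41) 31671 0 = true := by decide +kernel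

set_option maxRecDepth 1000000 in
theorem relc_52_0 : relPtsF ctF (D.wlen 52) (D.wordP 52) 31671 0 = true := by decide +kernel

set_option maxRecDepth 1000000 in
theorem relc_63_0 : relPtsF ctF (D.wlen 63) (D.wordP 63) 31671 0 = true := by decide +kernel

set_option maxRecDepth 1000000 in
theorem relc_74_0 : relPtsF ctF (D.wlen 74) (D.wordP 74) 31671 0 = true := by decide +kernel

set_option maxRecDepth 1000000 in
theorem relc_85_0 : relPtsF ctF (D.wlen 85) (D.wordP 85) 31671 0 = true := by decide +kernel

set_option maxRecDepth 1000000 in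
theorem relc_95_0 : relPtsF ctF (D.wlen 95) (D.wordP 95) 31671 0 = true := by decide +kernel

set_option maxRecDepth 1000000 in
theorem relc_101_7 : relPtsF ctF (D.wlen 101) (D.wordP 101) 3174 22218 = true := by decide +kernel

set_option maxRecDepth 1000000 in
theorem relc_100_7 : relPtsF ctF (D.wlen 100) (D.wordP 100) 2222 15554 = true := by decide +kernel

set_option maxRecDepth 1000000 in
theorem relc_0_0 : relPtsF ctF (D.wlen 0) (D.wordP 0) 31671 0 = true := by decide +kernel

set_option maxRecDepth 1000000 in
theorem relc_22_0 : relPtsF ctF (D.wlen 22) (D.wordP 22) 31671 0 = true := by decide +kernel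

set_option maxRecDepth 1000000 in
theorem inv_0 : invRowF ctF 31671 0 31671 0 = true := by decide +kernel

set_option maxRecDepth 1000000 in
theorem inv_8 : invRowF ctF 31671 8 31671 0 = true := by decide +kernel

end Cfsg.Agent.Helper5.Fi23TC
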