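import Cfsg.Agent.Helper5.Fi23TCDatD
import Cfsg.Agent.Helper5.Fi23TCDatT
import Cfsg.Agent.Helper5.TC2C

/-! kernel checks of the coset table: Fi23TC -/

set_option autoImplicit false
set_option Elab.async false

namespace Cfsg.Agent.Helper5.Fi23TC
open Cfsg.Agent.Helper5.TC

set_option maxRecDepth 1000000 in
theorem relc_12_0 : relPtsF ctF (D.wlen 12) (D.wordP 12) 31671 0 = true := by decide +kernel

set_option maxRecDepth 1000000 in
theorem relc_43_0 : relPtsF ctF (D.wlen 43) (D.wordP 43) 31671 0 = true := by decide +kernel

set_option maxRecDepth 1000000 in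
theorem relc_76_0 : relPtsF ctF (D.wlen 76) (D.wordP 76) 31671 0 = true := by decide +kernel

set_option maxRecDepth 1000000 in
theorem relc_8_0 : relPtsF ctF (D.wlen 8) (D.wordP 8) 31671 0 = true := by decide +kernel

set_option maxRecDepth 1000000 in
theorem relc_19_0 : relPtsF ctF (D.wlen 19) (D.wordP 19) 31671 0 = true := by decide +kernel

set_option maxRecDepth 1000000 in
theorem relc_30_0 : relPtsF ctF (D.wlen 30) (D.wordP 30) 31671 0 = true := by decide +kernel

set_option maxRecDepth 1000000 in
theorem relc_42_0 : relPtsF ctF (D.wlen 42) (D.wordP 42) 31671 0 = true := by decide +kernel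

set_option maxRecDepth 1000000 in
theorem relc_53_0 : relPtsF ctF (D.wlen 53) (D.wordP 53) 31671 0 = true := by decide +kernel

set_option maxRecDepth 1000000 in
theorem relc_64_0 : relPtsF ctF (D.wlen 64) (D.wordP 64) 31671 0 = true := by decide +kernel

set_option maxRecDepth 1000000 in
theorem relc_75_0 : relPtsF ctF (D.wlen 75) (D.wordP 75) 31671 0 = true := by decide +kernel

set_option maxRecDepth 1000000 in
theorem relc_86_0 : relPtsF ctF (D.wlen 86) (D.wordP 86) 31671 0 = true := by decide +kernel

set_option maxRecDepth 1000000 in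
theorem relc_96_0 : relPtsF ctF (D.wlen 96) (D.wordP 96) 31671 0 = true := by decide +kernel

set_option maxRecDepth 1000000 in
theorem relc_101_8 : relPtsF ctF (D.wlen 101) (D.wordP 101) 3174 25392 = true := by decide +kernel

set_option maxRecDepth 1000000 in
theorem relc_100_8 : relPtsF ctF (D.wlen 100) (D.wordP 100) 2222 17776 = true := by decide +kernel

set_option maxRecDepth 1000000 in
theorem relc_11_0 : relPtsF ctF (D.wlen 11) (D.wordP 11) 31671 0 = true := by decide +kernel

set_option maxRecDepth 1000000 in
theorem relc_33_0 : relPtsF ctF (D.wlen 33) (D.wordP 33) 31671 0 = true := by decide +kernel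

set_option maxRecDepth 1000000 in
theorem inv_1 : invRowF ctF 31671 1 31671 0 = true := by decide +kernel

set_option maxRecDepth 1000000 in
theorem inv_9 : invRowF ctF 31671 9 31671 0 = true := by decide +kernel

end Cfsg.Agent.Helper5.Fi23TC
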