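import Cfsg.Agent.Helper5.Fi23TCDatD
import Cfsg.Agent.Helper5.Fi23TCDatT
import Cfsg.Agent.Helper5.TC2C

/-! kernel checks of the coset table: Fi23TC -/

set_option autoImplicit false
set_option Elab.async false

namespace Cfsg.Agent.Helper5.Fi23TC
open Cfsg.Agent.Helper5.TC

set_option maxRecDepth 1000000 in
theorem relc_21_0 : relPtsF ctF (D.wlen 21) (D.wordP 21) 31671 0 = true := by decide +kernel

set_option maxRecDepth 1000000 in
theorem relc_45_0 : relPtsF ctF (D.wlen 45) (D.wordP 45) 31671 0 = true := by decide +kernel

set_option maxRecDepth 1000000 in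
theorem relc_83_0 : relPtsF ctF (D.wlen 83) (D.wordP 83) 31671 0 = true := by decide +kernel

set_option maxRecDepth 1000000 in
theorem relc_9_0 : relPtsF ctF (D.wlen 9) (D.wordP 9) 31671 0 = true := by decide +kernel

set_option maxRecDepth 1000000 in
theorem relc_20_0 : relPtsF ctF (D.wlen 20) (D.wordP 20) 31671 0 = true := by decide +kernel

set_option maxRecDepth 1000000 in
theorem relc_31_0 : relPtsF ctF (D.wlen 31) (D.wordP 31) 31671 0 = true := by decide +kernel

set_option maxRecDepth 1000000 in
theorem relc_46_0 : relPtsF ctF (D.wlen 46) (D.wordP 46) 31671 0 = true := by decide +kernel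

set_option maxRecDepth 1000000 in
theorem relc_57_0 : relPtsF ctF (D.wlen 57) (D.wordP 57) 31671 0 = true := by decide +kernel

set_option maxRecDepth 1000000 in
theorem relc_68_0 : relPtsF ctF (D.wlen 68) (D.wordP 68) 31671 0 = true := by decide +kernel

set_option maxRecDepth 1000000 in
theorem relc_78_0 : relPtsF ctF (D.wlen 78) (D.wordP 78) 31671 0 = true := by decide +kernel

set_option maxRecDepth 1000000 in
theorem relc_87_0 : relPtsF ctF (D.wlen 87) (D.wordP 87) 31671 0 = true := by decide +kernel

set_option maxRecDepth 1000000 in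
theorem relc_97_0 : relPtsF ctF (D.wlen 97) (D.wordP 97) 31671 0 = true := by decide +kernel

set_option maxRecDepth 1000000 in
theorem relc_100_0 : relPtsF ctF (D.wlen 100) (D.wordP 100) 2222 0 = true := by decide +kernel

set_option maxRecDepth 1000000 in
theorem relc_100_3 : relPtsF ctF (D.wlen 100) (D.wordP 100) 2222 6666 = true := by decide +kernel

set_option maxRecDepth 1000000 in
theorem relc_100_11 : relPtsF ctF (D.wlen 100) (D.wordP 100) 2222 24442 = true := by decide +kernel

set_option maxRecDepth 1000000 in
theorem relc_66_0 : relPtsF ctF (D.wlen 66) (D.wordP 66) 31671 0 = true := by decide +kernel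

set_option maxRecDepth 1000000 in
theorem inv_4 : invRowF ctF 31671 4 31671 0 = true := by decide +kernel

set_option maxRecDepth 1000000 in
theorem sub_ok : subAll ctF D D.nw = true := by decide +kernel

end Cfsg.Agent.Helper5.Fi23TC
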