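import Cfsg.Agent.Helper5.Fi23TCDatD
import Cfsg.Agent.Helper5.Fi23TCDatT
import Cfsg.Agent.Helper5.TC2C

/-! kernel checks of the coset table: Fi23TC -/

set_option autoImplicit false
set_option Elab.async false

namespace Cfsg.Agent.Helper5.Fi23TC
open Cfsg.Agent.Helper5.TC

set_option maxRecDepth 1000000 in
theorem relc_23_0 : relPtsF ctF (D.wlen 23) (D.wordP 23) 31671 0 = true := by decide +kernel

set_option maxRecDepth 1000000 in
theorem relc_54_0 : relPtsF ctF (D.wlen 54) (D.wordP 54) 31671 0 = true := by decide +kernel

set_option maxRecDepth 1000000 in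
theorem relc_89_0 : relPtsF ctF (D.wlen 89) (D.wordP 89) 31671 0 = true := by decide +kernel

set_option maxRecDepth 1000000 in
theorem relc_13_0 : relPtsF ctF (D.wlen 13) (D.wordP 13) 31671 0 = true := by decide +kernel

set_option maxRecDepth 1000000 in
theorem relc_24_0 : relPtsF ctF (D.wlen 24) (D.wordP 24) 31671 0 = true := by decide +kernel

set_option maxRecDepth 1000000 in
theorem relc_35_0 : relPtsF ctF (D.wlen 35) (D.wordP 35) 31671 0 = true := by decide +kernel

set_option maxRecDepth 1000000 in
theorem relc_47_0 : relPtsF ctF (D.wlen 47) (D.wordP 47) 31671 0 = true := by decide +kernel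

set_option maxRecDepth 1000000 in
theorem relc_58_0 : relPtsF ctF (D.wlen 58) (D.wordP 58) 31671 0 = true := by decide +kernel

set_option maxRecDepth 1000000 in
theorem relc_69_0 : relPtsF ctF (D.wlen 69) (D.wordP 69) 31671 0 = true := by decide +kernel

set_option maxRecDepth 1000000 in
theorem relc_79_0 : relPtsF ctF (D.wlen 79) (D.wordP 79) 31671 0 = true := by decide +kernel

set_option maxRecDepth 1000000 in
theorem relc_90_0 : relPtsF ctF (D.wlen 90) (D.wordP 90) 31671 0 = true := by decide +kernel

set_option maxRecDepth 1000000 in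
theorem relc_101_0 : relPtsF ctF (D.wlen 101) (D.wordP 101) 3174 0 = true := by decide +kernel

set_option maxRecDepth 1000000 in
theorem relc_101_2 : relPtsF ctF (D.wlen 101) (D.wordP 101) 3174 6348 = true := by decide +kernel

set_option maxRecDepth 1000000 in
theorem relc_100_1 : relPtsF ctF (D.wlen 100) (D.wordP 100) 2222 2222 = true := by decide +kernel

set_option maxRecDepth 1000000 in
theorem relc_100_9 : relPtsF ctF (D.wlen 100) (D.wordP 100) 2222 19998 = true := by decide +kernel

set_option maxRecDepth 1000000 in
theorem relc_44_0 : relPtsF ctF (D.wlen 44) (D.wordP 44) 31671 0 = true := by decide +kernel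

set_option maxRecDepth 1000000 in
theorem inv_2 : invRowF ctF 31671 2 31671 0 = true := by decide +kernel

set_option maxRecDepth 1000000 in
theorem conn_ok : connF ctF 10 31671 0 = true := by decide +kernel

end Cfsg.Agent.Helper5.Fi23TC
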