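import Cfsg.Agent.Helper5.Fi23TCDatD
import Cfsg.Agent.Helper5.Fi23TCDatT
import Cfsg.Agent.Helper5.TC2C

/-! kernel checks of the coset table: Fi23TC -/

set_option autoImplicit false
set_option Elab.async false

namespace Cfsg.Agent.Helper5.Fi23TC
open Cfsg.Agent.Helper5.TC

set_option maxRecDepth 1000000 in
theorem relc_32_0 : relPtsF ctF (D.wlen 32) (D.wordP 32) 31671 0 = true := by decide +kernel

set_option maxRecDepth 1000000 in
theorem relc_56_0 : relPtsF ctF (D.wlen 56) (D.wordP 56) 31671 0 = true := by decide +kernel

set_option maxRecDepth 1000000 in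
theorem relc_98_0 : relPtsF ctF (D.wlen 98) (D.wordP 98) 31671 0 = true := by decide +kernel

set_option maxRecDepth 1000000 in
theorem relc_14_0 : relPtsF ctF (D.wlen 14) (D.wordP 14) 31671 0 = true := by decide +kernel

set_option maxRecDepth 1000000 in
theorem relc_25_0 : relPtsF ctF (D.wlen 25) (D.wordP 25) 31671 0 = true := by decide +kernel

set_option maxRecDepth 1000000 in
theorem relc_36_0 : relPtsF ctF (D.wlen 36) (D.wordP 36) 31671 0 = true := by decide +kernel

set_option maxRecDepth 1000000 in
theorem relc_48_0 : relPtsF ctF (D.wlen 48) (D.wordP 48) 31671 0 = true := by decide +kernel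

set_option maxRecDepth 1000000 in
theorem relc_59_0 : relPtsF ctF (D.wlen 59) (D.wordP 59) 31671 0 = true := by decide +kernel

set_option maxRecDepth 1000000 in
theorem relc_70_0 : relPtsF ctF (D.wlen 70) (D.wordP 70) 31671 0 = true := by decide +kernel

set_option maxRecDepth 1000000 in
theorem relc_80_0 : relPtsF ctF (D.wlen 80) (D.wordP 80) 31671 0 = true := by decide +kernel

set_option maxRecDepth 1000000 in
theorem relc_91_0 : relPtsF ctF (D.wlen 91) (D.wordP 91) 31671 0 = true := by decide +kernel

set_option maxRecDepth 1000000 in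
theorem relc_101_1 : relPtsF ctF (D.wlen 101) (D.wordP 101) 3174 3174 = true := by decide +kernel

set_option maxRecDepth 1000000 in
theorem relc_101_3 : relPtsF ctF (D.wlen 101) (D.wordP 101) 3174 9522 = true := by decide +kernel

set_option maxRecDepth 1000000 in
theorem relc_100_2 : relPtsF ctF (D.wlen 100) (D.wordP 100) 2222 4444 = true := by decide +kernel

set_option maxRecDepth 1000000 in
theorem relc_100_10 : relPtsF ctF (D.wlen 100) (D.wordP 100) 2222 22220 = true := by decide +kernel

set_option maxRecDepth 1000000 in
theorem relc_55_0 : relPtsF ctF (D.wlen 55) (D.wordP 55) 31671 0 = true := by decide +kernel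

set_option maxRecDepth 1000000 in
theorem inv_3 : invRowF ctF 31671 3 31671 0 = true := by decide +kernel

set_option maxRecDepth 1000000 in
theorem relc_100_14 : relPtsF ctF (D.wlen 100) (D.wordP 100) 563 31108 = true := by decide +kernel

end Cfsg.Agent.Helper5.Fi23TC
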