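import Cfsg.Agent.Helper5.Fi23TCChkE0
import Cfsg.Agent.Helper5.Fi23TCChkE1
import Cfsg.Agent.Helper5.Fi23TCChkE2
import Cfsg.Agent.Helper5.Fi23TCChkE3
import Cfsg.Agent.Helper5.Fi23TCChkR0
import Cfsg.Agent.Helper5.Fi23TCChkR1
import Cfsg.Agent.Helper5.Fi23TCChkR2
import Cfsg.Agent.Helper5.Fi23TCChkR3
import Cfsg.Agent.Helper5.Fi23TCChkR4
import Cfsg.Agent.Helper5.Fi23TCChkR5
import Cfsg.Agent.Helper5.Fi23TCChkR6
import Cfsg.Agent.Helper5.Fi23TCChkR7
import Cfsg.Agent.Helper5.Fi23TCChkA
import Cfsg.Agent.Helper5.TC2C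

/-! summary of the kernel checks: Fi23TC -/

set_option autoImplicit false
set_option Elab.async false

namespace Cfsg.Agent.Helper5.Fi23TC
open Cfsg.Agent.Helper5.TC

theorem edgesx_0 : ∀ v, v < 47441 → edgeOK E 0 v = true := by
  intro v hv
  rcases Nat.lt_or_ge v 2262 with h0 | h0
  · exact edgesRange_spec E 0 2262 0 edges_0_0 v (by omega) (by omega)
  rcases Nat.lt_or_ge v 4708 with h1 | h1
  · exact edgesRange_spec E 0 2446 2262 edges_0_1 v (by omega) (by omega)
  rcases Nat.lt_or_ge v 7405 with h2 | h2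
  · exact edgesRange_spec E 0 2697 4708 edges_0_2 v (by omega) (by omega)
  rcases Nat.lt_or_ge v 10756 with h3 | h3
  · exact edgesRange_spec E 0 3351 7405 edges_0_3 v (by omega) (by omega)
  rcases Nat.lt_or_ge v 14218 with h4 | h4
  · exact edgesRange_spec E 0 3462 10756 edges_0_4 v (by omega) (by omega)
  rcases Nat.lt_or_ge v 17953 with h5 | h5
  · exact edgesRange_spec E 0 3735 14218 edges_0_5 v (by omega) (by omega)
  rcases Nat.lt_or_ge v 22489 with h6 | h6
  · exact edgesRange_spec E 0 4536 17953 edges_0_6 v (by omega) (by omega)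
  rcases Nat.lt_or_ge v 26561 with h7 | h7
  · exact edgesRange_spec E 0 4072 22489 edges_0_7 v (by omega) (by omega)
  rcases Nat.lt_or_ge v 29602 with h8 | h8
  · exact edgesRange_spec E 0 3041 26561 edges_0_8 v (by omega) (by omega)
  rcases Nat.lt_or_ge v 31690 with h9 | h9
  · exact edgesRange_spec E 0 2088 29602 edges_0_9 v (by omega) (by omega)
  rcases Nat.lt_or_ge v 33736 with h10 | h10
  · exact edgesRange_spec E 0 2046 31690 edges_0_10 v (by omega) (by omega)
  rcases Nat.lt_or_ge v 35756 with h11 | h11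
  · exact edgesRange_spec E 0 2020 33736 edges_0_11 v (by omega) (by omega)
  rcases Nat.lt_or_ge v 37769 with h12 | h12
  · exact edgesRange_spec E 0 2013 35756 edges_0_12 v (by omega) (by omega)
  rcases Nat.lt_or_ge v 39801 with h13 | h13
  · exact edgesRange_spec E 0 2032 37769 edges_0_13 v (by omega) (by omega)
  rcases Nat.lt_or_ge v 42145 with h14 | h14
  · exact edgesRange_spec E 0 2344 39801 edges_0_14 v (by omega) (by omega)
  rcases Nat.lt_or_ge v 45102 with h15 | h15
  · exact edgesRange_spec E 0 2957 42145 edges_0_15 v (by omega) (by omega)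
  rcases Nat.lt_or_ge v 47187 with h16 | h16
  · exact edgesRange_spec E 0 2085 45102 edges_0_16 v (by omega) (by omega)
  exact edgesRange_spec E 0 254 47187 edges_0_17 v (by omega) (by omega)

theorem edgesx_1 : ∀ v, v < 47441 → edgeOK E 1 v = true := by
  intro v hv
  rcases Nat.lt_or_ge v 2360 with h0 | h0
  · exact edgesRange_spec E 1 2360 0 edges_1_0 v (by omega) (by omega)
  rcases Nat.lt_or_ge v 4922 with h1 | h1
  · exact edgesRange_spec E 1 2562 2360 edges_1_1 v (by omega) (by omega)
  rcases Nat.lt_or_ge v 8057 with h2 | h2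
  · exact edgesRange_spec E 1 3135 4922 edges_1_2 v (by omega) (by omega)
  rcases Nat.lt_or_ge v 11842 with h3 | h3
  · exact edgesRange_spec E 1 3785 8057 edges_1_3 v (by omega) (by omega)
  rcases Nat.lt_or_ge v 16068 with h4 | h4
  · exact edgesRange_spec E 1 4226 11842 edges_1_4 v (by omega) (by omega)
  rcases Nat.lt_or_ge v 20385 with h5 | h5
  · exact edgesRange_spec E 1 4317 16068 edges_1_5 v (by omega) (by omega)
  rcases Nat.lt_or_ge v 23813 with h6 | h6
  · exact edgesRange_spec E 1 3428 20385 edges_1_6 v (by omega) (by omega)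
  rcases Nat.lt_or_ge v 28380 with h7 | h7
  · exact edgesRange_spec E 1 4567 23813 edges_1_7 v (by omega) (by omega)
  rcases Nat.lt_or_ge v 30896 with h8 | h8
  · exact edgesRange_spec E 1 2516 28380 edges_1_8 v (by omega) (by omega)
  rcases Nat.lt_or_ge v 32995 with h9 | h9
  · exact edgesRange_spec E 1 2099 30896 edges_1_9 v (by omega) (by omega)
  rcases Nat.lt_or_ge v 35059 with h10 | h10
  · exact edgesRange_spec E 1 2064 32995 edges_1_10 v (by omega) (by omega)
  rcases Nat.lt_or_ge v 37102 with h11 | h11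
  · exact edgesRange_spec E 1 2043 35059 edges_1_11 v (by omega) (by omega)
  rcases Nat.lt_or_ge v 39205 with h12 | h12
  · exact edgesRange_spec E 1 2103 37102 edges_1_12 v (by omega) (by omega)
  rcases Nat.lt_or_ge v 41799 with h13 | h13
  · exact edgesRange_spec E 1 2594 39205 edges_1_13 v (by omega) (by omega)
  rcases Nat.lt_or_ge v 44521 with h14 | h14
  · exact edgesRange_spec E 1 2722 41799 edges_1_14 v (by omega) (by omega)
  rcases Nat.lt_or_ge v 46593 with h15 | h15
  · exact edgesRange_spec E 1 2072 44521 edges_1_15 v (by omega) (by omega)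
  exact edgesRange_spec E 1 848 46593 edges_1_16 v (by omega) (by omega)

theorem edgesx_2 : ∀ v, v < 47441 → edgeOK E 2 v = true := by
  intro v hv
  rcases Nat.lt_or_ge v 2552 with h0 | h0
  · exact edgesRange_spec E 2 2552 0 edges_2_0 v (by omega) (by omega)
  rcases Nat.lt_or_ge v 5395 with h1 | h1
  · exact edgesRange_spec E 2 2843 2552 edges_2_1 v (by omega) (by omega)
  rcases Nat.lt_or_ge v 8988 with h2 | h2
  · exact edgesRange_spec E 2 3593 5395 edges_2_2 v (by omega) (by omega)
  rcases Nat.lt_or_ge v 12783 with h3 | h3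
  · exact edgesRange_spec E 2 3795 8988 edges_2_3 v (by omega) (by omega)
  rcases Nat.lt_or_ge v 17337 with h4 | h4
  · exact edgesRange_spec E 2 4554 12783 edges_2_4 v (by omega) (by omega)
  rcases Nat.lt_or_ge v 22326 with h5 | h5
  · exact edgesRange_spec E 2 4989 17337 edges_2_5 v (by omega) (by omega)
  rcases Nat.lt_or_ge v 26862 with h6 | h6
  · exact edgesRange_spec E 2 4536 22326 edges_2_6 v (by omega) (by omega)
  rcases Nat.lt_or_ge v 30090 with h7 | h7
  · exact edgesRange_spec E 2 3228 26862 edges_2_7 v (by omega) (by omega)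
  rcases Nat.lt_or_ge v 32268 with h8 | h8
  · exact edgesRange_spec E 2 2178 30090 edges_2_8 v (by omega) (by omega)
  rcases Nat.lt_or_ge v 34419 with h9 | h9
  · exact edgesRange_spec E 2 2151 32268 edges_2_9 v (by omega) (by omega)
  rcases Nat.lt_or_ge v 36592 with h10 | h10
  · exact edgesRange_spec E 2 2173 34419 edges_2_10 v (by omega) (by omega)
  rcases Nat.lt_or_ge v 38945 with h11 | h11
  · exact edgesRange_spec E 2 2353 36592 edges_2_11 v (by omega) (by omega)
  rcases Nat.lt_or_ge v 42016 with h12 | h12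
  · exact edgesRange_spec E 2 3071 38945 edges_2_12 v (by omega) (by omega)
  rcases Nat.lt_or_ge v 44289 with h13 | h13
  · exact edgesRange_spec E 2 2273 42016 edges_2_13 v (by omega) (by omega)
  rcases Nat.lt_or_ge v 46741 with h14 | h14
  · exact edgesRange_spec E 2 2452 44289 edges_2_14 v (by omega) (by omega)
  exact edgesRange_spec E 2 700 46741 edges_2_15 v (by omega) (by omega)

theorem edgesx_3 : ∀ v, v < 47441 → edgeOK E 3 v = true := by
  intro v hv
  rcases Nat.lt_or_ge v 3194 with h0 | h0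
  · exact edgesRange_spec E 3 3194 0 edges_3_0 v (by omega) (by omega)
  rcases Nat.lt_or_ge v 6726 with h1 | h1
  · exact edgesRange_spec E 3 3532 3194 edges_3_1 v (by omega) (by omega)
  rcases Nat.lt_or_ge v 11815 with h2 | h2
  · exact edgesRange_spec E 3 5089 6726 edges_3_2 v (by omega) (by omega)
  rcases Nat.lt_or_ge v 16974 with h3 | h3
  · exact edgesRange_spec E 3 5159 11815 edges_3_3 v (by omega) (by omega)
  rcases Nat.lt_or_ge v 22567 with h4 | h4
  · exact edgesRange_spec E 3 5593 16974 edges_3_4 v (by omega) (by omega)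
  rcases Nat.lt_or_ge v 27449 with h5 | h5
  · exact edgesRange_spec E 3 4882 22567 edges_3_5 v (by omega) (by omega)
  rcases Nat.lt_or_ge v 30787 with h6 | h6
  · exact edgesRange_spec E 3 3338 27449 edges_3_6 v (by omega) (by omega)
  rcases Nat.lt_or_ge v 33426 with h7 | h7
  · exact edgesRange_spec E 3 2639 30787 edges_3_7 v (by omega) (by omega)
  rcases Nat.lt_or_ge v 36362 with h8 | h8
  · exact edgesRange_spec E 3 2936 33426 edges_3_8 v (by omega) (by omega)
  rcases Nat.lt_or_ge v 40048 with h9 | h9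
  · exact edgesRange_spec E 3 3686 36362 edges_3_9 v (by omega) (by omega)
  rcases Nat.lt_or_ge v 42841 with h10 | h10
  · exact edgesRange_spec E 3 2793 40048 edges_3_10 v (by omega) (by omega)
  rcases Nat.lt_or_ge v 45644 with h11 | h11
  · exact edgesRange_spec E 3 2803 42841 edges_3_11 v (by omega) (by omega)
  exact edgesRange_spec E 3 1797 45644 edges_3_12 v (by omega) (by omega)

theorem edgesx_4 : ∀ v, v < 47441 → edgeOK E 4 v = true := by
  intro v hv
  rcases Nat.lt_or_ge v 3520 with h0 | h0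
  · exact edgesRange_spec E 4 3520 0 edges_4_0 v (by omega) (by omega)
  rcases Nat.lt_or_ge v 7145 with h1 | h1
  · exact edgesRange_spec E 4 3625 3520 edges_4_1 v (by omega) (by omega)
  rcases Nat.lt_or_ge v 11851 with h2 | h2
  · exact edgesRange_spec E 4 4706 7145 edges_4_2 v (by omega) (by omega)
  rcases Nat.lt_or_ge v 16388 with h3 | h3
  · exact edgesRange_spec E 4 4537 11851 edges_4_3 v (by omega) (by omega)
  rcases Nat.lt_or_ge v 21429 with h4 | h4
  · exact edgesRange_spec E 4 5041 16388 edges_4_4 v (by omega) (by omega)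
  rcases Nat.lt_or_ge v 26301 with h5 | h5
  · exact edgesRange_spec E 4 4872 21429 edges_4_5 v (by omega) (by omega)
  rcases Nat.lt_or_ge v 29768 with h6 | h6
  · exact edgesRange_spec E 4 3467 26301 edges_4_6 v (by omega) (by omega)
  rcases Nat.lt_or_ge v 32209 with h7 | h7
  · exact edgesRange_spec E 4 2441 29768 edges_4_7 v (by omega) (by omega)
  rcases Nat.lt_or_ge v 34626 with h8 | h8
  · exact edgesRange_spec E 4 2417 32209 edges_4_8 v (by omega) (by omega)
  rcases Nat.lt_or_ge v 37072 with h9 | h9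
  · exact edgesRange_spec E 4 2446 34626 edges_4_9 v (by omega) (by omega)
  rcases Nat.lt_or_ge v 39882 with h10 | h10
  · exact edgesRange_spec E 4 2810 37072 edges_4_10 v (by omega) (by omega)
  rcases Nat.lt_or_ge v 44594 with h11 | h11
  · exact edgesRange_spec E 4 4712 39882 edges_4_11 v (by omega) (by omega)
  rcases Nat.lt_or_ge v 47365 with h12 | h12
  · exact edgesRange_spec E 4 2771 44594 edges_4_12 v (by omega) (by omega)
  exact edgesRange_spec E 4 76 47365 edges_4_13 v (by omega) (by omega)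

theorem edgesx_5 : ∀ v, v < 47441 → edgeOK E 5 v = true := by
  intro v hv
  rcases Nat.lt_or_ge v 3515 with h0 | h0
  · exact edgesRange_spec E 5 3515 0 edges_5_0 v (by omega) (by omega)
  rcases Nat.lt_or_ge v 7262 with h1 | h1
  · exact edgesRange_spec E 5 3747 3515 edges_5_1 v (by omega) (by omega)
  rcases Nat.lt_or_ge v 11795 with h2 | h2
  · exact edgesRange_spec E 5 4533 7262 edges_5_2 v (by omega) (by omega)
  rcases Nat.lt_or_ge v 16137 with h3 | h3
  · exact edgesRange_spec E 5 4342 11795 edges_5_3 v (by omega) (by omega)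
  rcases Nat.lt_or_ge v 20575 with h4 | h4
  · exact edgesRange_spec E 5 4438 16137 edges_5_4 v (by omega) (by omega)
  rcases Nat.lt_or_ge v 23883 with h5 | h5
  · exact edgesRange_spec E 5 3308 20575 edges_5_5 v (by omega) (by omega)
  rcases Nat.lt_or_ge v 28416 with h6 | h6
  · exact edgesRange_spec E 5 4533 23883 edges_5_6 v (by omega) (by omega)
  rcases Nat.lt_or_ge v 30975 with h7 | h7
  · exact edgesRange_spec E 5 2559 28416 edges_5_7 v (by omega) (by omega)
  rcases Nat.lt_or_ge v 33158 with h8 | h8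
  · exact edgesRange_spec E 5 2183 30975 edges_5_8 v (by omega) (by omega)
  rcases Nat.lt_or_ge v 35381 with h9 | h9
  · exact edgesRange_spec E 5 2223 33158 edges_5_9 v (by omega) (by omega)
  rcases Nat.lt_or_ge v 37613 with h10 | h10
  · exact edgesRange_spec E 5 2232 35381 edges_5_10 v (by omega) (by omega)
  rcases Nat.lt_or_ge v 39831 with h11 | h11
  · exact edgesRange_spec E 5 2218 37613 edges_5_11 v (by omega) (by omega)
  rcases Nat.lt_or_ge v 42162 with h12 | h12
  · exact edgesRange_spec E 5 2331 39831 edges_5_12 v (by omega) (by omega)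
  rcases Nat.lt_or_ge v 44712 with h13 | h13
  · exact edgesRange_spec E 5 2550 42162 edges_5_13 v (by omega) (by omega)
  exact edgesRange_spec E 5 2729 44712 edges_5_14 v (by omega) (by omega)

theorem edgesx_6 : ∀ v, v < 47441 → edgeOK E 6 v = true := by
  intro v hv
  rcases Nat.lt_or_ge v 2942 with h0 | h0
  · exact edgesRange_spec E 6 2942 0 edges_6_0 v (by omega) (by omega)
  rcases Nat.lt_or_ge v 6673 with h1 | h1
  · exact edgesRange_spec E 6 3731 2942 edges_6_1 v (by omega) (by omega)
  rcases Nat.lt_or_ge v 10555 with h2 | h2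
  · exact edgesRange_spec E 6 3882 6673 edges_6_2 v (by omega) (by omega)
  rcases Nat.lt_or_ge v 14899 with h3 | h3
  · exact edgesRange_spec E 6 4344 10555 edges_6_3 v (by omega) (by omega)
  rcases Nat.lt_or_ge v 18693 with h4 | h4
  · exact edgesRange_spec E 6 3794 14899 edges_6_4 v (by omega) (by omega)
  rcases Nat.lt_or_ge v 22998 with h5 | h5
  · exact edgesRange_spec E 6 4305 18693 edges_6_5 v (by omega) (by omega)
  rcases Nat.lt_or_ge v 27202 with h6 | h6
  · exact edgesRange_spec E 6 4204 22998 edges_6_6 v (by omega) (by omega)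
  rcases Nat.lt_or_ge v 30302 with h7 | h7
  · exact edgesRange_spec E 6 3100 27202 edges_6_7 v (by omega) (by omega)
  rcases Nat.lt_or_ge v 32406 with h8 | h8
  · exact edgesRange_spec E 6 2104 30302 edges_6_8 v (by omega) (by omega)
  rcases Nat.lt_or_ge v 34491 with h9 | h9
  · exact edgesRange_spec E 6 2085 32406 edges_6_9 v (by omega) (by omega)
  rcases Nat.lt_or_ge v 36562 with h10 | h10
  · exact edgesRange_spec E 6 2071 34491 edges_6_10 v (by omega) (by omega)
  rcases Nat.lt_or_ge v 38624 with h11 | h11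
  · exact edgesRange_spec E 6 2062 36562 edges_6_11 v (by omega) (by omega)
  rcases Nat.lt_or_ge v 40680 with h12 | h12
  · exact edgesRange_spec E 6 2056 38624 edges_6_12 v (by omega) (by omega)
  rcases Nat.lt_or_ge v 42749 with h13 | h13
  · exact edgesRange_spec E 6 2069 40680 edges_6_13 v (by omega) (by omega)
  rcases Nat.lt_or_ge v 44875 with h14 | h14
  · exact edgesRange_spec E 6 2126 42749 edges_6_14 v (by omega) (by omega)
  rcases Nat.lt_or_ge v 47091 with h15 | h15
  · exact edgesRange_spec E 6 2216 44875 edges_6_15 v (by omega) (by omega)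
  exact edgesRange_spec E 6 350 47091 edges_6_16 v (by omega) (by omega)

theorem edgesx_7 : ∀ v, v < 47441 → edgeOK E 7 v = true := by
  intro v hv
  rcases Nat.lt_or_ge v 2456 with h0 | h0
  · exact edgesRange_spec E 7 2456 0 edges_7_0 v (by omega) (by omega)
  rcases Nat.lt_or_ge v 5901 with h1 | h1
  · exact edgesRange_spec E 7 3445 2456 edges_7_1 v (by omega) (by omega)
  rcases Nat.lt_or_ge v 9482 with h2 | h2
  · exact edgesRange_spec E 7 3581 5901 edges_7_2 v (by omega) (by omega)
  rcases Nat.lt_or_ge v 13277 with h3 | h3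
  · exact edgesRange_spec E 7 3795 9482 edges_7_3 v (by omega) (by omega)
  rcases Nat.lt_or_ge v 17447 with h4 | h4
  · exact edgesRange_spec E 7 4170 13277 edges_7_4 v (by omega) (by omega)
  rcases Nat.lt_or_ge v 21816 with h5 | h5
  · exact edgesRange_spec E 7 4369 17447 edges_7_5 v (by omega) (by omega)
  rcases Nat.lt_or_ge v 26322 with h6 | h6
  · exact edgesRange_spec E 7 4506 21816 edges_7_6 v (by omega) (by omega)
  rcases Nat.lt_or_ge v 29538 with h7 | h7
  · exact edgesRange_spec E 7 3216 26322 edges_7_7 v (by omega) (by omega)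
  rcases Nat.lt_or_ge v 31647 with h8 | h8
  · exact edgesRange_spec E 7 2109 29538 edges_7_8 v (by omega) (by omega)
  rcases Nat.lt_or_ge v 33715 with h9 | h9
  · exact edgesRange_spec E 7 2068 31647 edges_7_9 v (by omega) (by omega)
  rcases Nat.lt_or_ge v 35757 with h10 | h10
  · exact edgesRange_spec E 7 2042 33715 edges_7_10 v (by omega) (by omega)
  rcases Nat.lt_or_ge v 37788 with h11 | h11
  · exact edgesRange_spec E 7 2031 35757 edges_7_11 v (by omega) (by omega)
  rcases Nat.lt_or_ge v 39792 with h12 | h12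
  · exact edgesRange_spec E 7 2004 37788 edges_7_12 v (by omega) (by omega)
  rcases Nat.lt_or_ge v 41792 with h13 | h13
  · exact edgesRange_spec E 7 2000 39792 edges_7_13 v (by omega) (by omega)
  rcases Nat.lt_or_ge v 43793 with h14 | h14
  · exact edgesRange_spec E 7 2001 41792 edges_7_14 v (by omega) (by omega)
  rcases Nat.lt_or_ge v 45797 with h15 | h15
  · exact edgesRange_spec E 7 2004 43793 edges_7_15 v (by omega) (by omega)
  exact edgesRange_spec E 7 1644 45797 edges_7_16 v (by omega) (by omega)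

theorem edgesx_8 : ∀ v, v < 47441 → edgeOK E 8 v = true := by
  intro v hv
  rcases Nat.lt_or_ge v 4312 with h0 | h0
  · exact edgesRange_spec E 8 4312 0 edges_8_0 v (by omega) (by omega)
  rcases Nat.lt_or_ge v 11845 with h1 | h1
  · exact edgesRange_spec E 8 7533 4312 edges_8_1 v (by omega) (by omega)
  rcases Nat.lt_or_ge v 18909 with h2 | h2
  · exact edgesRange_spec E 8 7064 11845 edges_8_2 v (by omega) (by omega)
  rcases Nat.lt_or_ge v 26500 with h3 | h3
  · exact edgesRange_spec E 8 7591 18909 edges_8_3 v (by omega) (by omega)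
  rcases Nat.lt_or_ge v 31297 with h4 | h4
  · exact edgesRange_spec E 8 4797 26500 edges_8_4 v (by omega) (by omega)
  rcases Nat.lt_or_ge v 35749 with h5 | h5
  · exact edgesRange_spec E 8 4452 31297 edges_8_5 v (by omega) (by omega)
  rcases Nat.lt_or_ge v 39804 with h6 | h6
  · exact edgesRange_spec E 8 4055 35749 edges_8_6 v (by omega) (by omega)
  rcases Nat.lt_or_ge v 42111 with h7 | h7
  · exact edgesRange_spec E 8 2307 39804 edges_8_7 v (by omega) (by omega)
  rcases Nat.lt_or_ge v 44223 with h8 | h8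
  · exact edgesRange_spec E 8 2112 42111 edges_8_8 v (by omega) (by omega)
  rcases Nat.lt_or_ge v 46719 with h9 | h9
  · exact edgesRange_spec E 8 2496 44223 edges_8_9 v (by omega) (by omega)
  exact edgesRange_spec E 8 722 46719 edges_8_10 v (by omega) (by omega)

theorem edgesx_9 : ∀ v, v < 47441 → edgeOK E 9 v = true := by
  intro v hv
  rcases Nat.lt_or_ge v 3024 with h0 | h0
  · exact edgesRange_spec E 9 3024 0 edges_9_0 v (by omega) (by omega)
  rcases Nat.lt_or_ge v 7255 with h1 | h1
  · exact edgesRange_spec E 9 4231 3024 edges_9_1 v (by omega) (by omega)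
  rcases Nat.lt_or_ge v 15281 with h2 | h2
  · exact edgesRange_spec E 9 8026 7255 edges_9_2 v (by omega) (by omega)
  rcases Nat.lt_or_ge v 27437 with h3 | h3
  · exact edgesRange_spec E 9 12156 15281 edges_9_3 v (by omega) (by omega)
  rcases Nat.lt_or_ge v 34356 with h4 | h4
  · exact edgesRange_spec E 9 6919 27437 edges_9_4 v (by omega) (by omega)
  rcases Nat.lt_or_ge v 37993 with h5 | h5
  · exact edgesRange_spec E 9 3637 34356 edges_9_5 v (by omega) (by omega)
  rcases Nat.lt_or_ge v 40375 with h6 | h6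
  · exact edgesRange_spec E 9 2382 37993 edges_9_6 v (by omega) (by omega)
  rcases Nat.lt_or_ge v 42415 with h7 | h7
  · exact edgesRange_spec E 9 2040 40375 edges_9_7 v (by omega) (by omega)
  rcases Nat.lt_or_ge v 44504 with h8 | h8
  · exact edgesRange_spec E 9 2089 42415 edges_9_8 v (by omega) (by omega)
  rcases Nat.lt_or_ge v 46736 with h9 | h9
  · exact edgesRange_spec E 9 2232 44504 edges_9_9 v (by omega) (by omega)
  exact edgesRange_spec E 9 705 46736 edges_9_10 v (by omega) (by omega)

theorem hA0 : ∀ v, v < 47441 → aliasOK E v = true := by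
  intro v hv
  rcases Nat.lt_or_ge v 8222 with h0 | h0
  · exact aliasRange_spec E 8222 0 aliases_0 v (by omega) (by omega)
  rcases Nat.lt_or_ge v 14118 with h1 | h1
  · exact aliasRange_spec E 5896 8222 aliases_1 v (by omega) (by omega)
  rcases Nat.lt_or_ge v 18844 with h2 | h2
  · exact aliasRange_spec E 4726 14118 aliases_2 v (by omega) (by omega)
  rcases Nat.lt_or_ge v 22103 with h3 | h3
  · exact aliasRange_spec E 3259 18844 aliases_3 v (by omega) (by omega)
  rcases Nat.lt_or_ge v 25300 with h4 | h4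
  · exact aliasRange_spec E 3197 22103 aliases_4 v (by omega) (by omega)
  rcases Nat.lt_or_ge v 29152 with h5 | h5
  · exact aliasRange_spec E 3852 25300 aliases_5 v (by omega) (by omega)
  exact aliasRange_spec E 18289 29152 aliases_6 v (by omega) (by omega)

theorem hrows0 : ∀ v, v < 47441 → tb RS v = true → rowOK2 E RS v E.D.k = true := by
  intro v hv
  rcases Nat.lt_or_ge v 3000 with h0 | h0
  · exact rowsRange_spec E RS 3000 0 rows_0 v (by omega) (by omega)
  rcases Nat.lt_or_ge v 6000 with h1 | h1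
  · exact rowsRange_spec E RS 3000 3000 rows_1 v (by omega) (by omega)
  rcases Nat.lt_or_ge v 9000 with h2 | h2
  · exact rowsRange_spec E RS 3000 6000 rows_2 v (by omega) (by omega)
  rcases Nat.lt_or_ge v 12000 with h3 | h3
  · exact rowsRange_spec E RS 3000 9000 rows_3 v (by omega) (by omega)
  rcases Nat.lt_or_ge v 15000 with h4 | h4
  · exact rowsRange_spec E RS 3000 12000 rows_4 v (by omega) (by omega)
  rcases Nat.lt_or_ge v 18000 with h5 | h5
  · exact rowsRange_spec E RS 3000 15000 rows_5 v (by omega) (by omega)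
  rcases Nat.lt_or_ge v 21000 with h6 | h6
  · exact rowsRange_spec E RS 3000 18000 rows_6 v (by omega) (by omega)
  rcases Nat.lt_or_ge v 24000 with h7 | h7
  · exact rowsRange_spec E RS 3000 21000 rows_7 v (by omega) (by omega)
  rcases Nat.lt_or_ge v 27000 with h8 | h8
  · exact rowsRange_spec E RS 3000 24000 rows_8 v (by omega) (by omega)
  rcases Nat.lt_or_ge v 30000 with h9 | h9
  · exact rowsRange_spec E RS 3000 27000 rows_9 v (by omega) (by omega)
  rcases Nat.lt_or_ge v 33000 with h10 | h10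
  · exact rowsRange_spec E RS 3000 30000 rows_10 v (by omega) (by omega)
  rcases Nat.lt_or_ge v 36000 with h11 | h11
  · exact rowsRange_spec E RS 3000 33000 rows_11 v (by omega) (by omega)
  rcases Nat.lt_or_ge v 39000 with h12 | h12
  · exact rowsRange_spec E RS 3000 36000 rows_12 v (by omega) (by omega)
  rcases Nat.lt_or_ge v 42000 with h13 | h13
  · exact rowsRange_spec E RS 3000 39000 rows_13 v (by omega) (by omega)
  rcases Nat.lt_or_ge v 45000 with h14 | h14
  · exact rowsRange_spec E RS 3000 42000 rows_14 v (by omega) (by omega)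
  exact rowsRange_spec E RS 2441 45000 rows_15 v (by omega) (by omega)

theorem relw_0 : ∀ v, v < 31671 → walkT ctF (D.wlen 0) (D.wordP 0) v = v := by
  intro v hv
  exact relPtsF_spec ctF _ _ 31671 0 relc_0_0 v (by omega) (by omega)

theorem relw_1 : ∀ v, v < 31671 → walkT ctF (D.wlen 1) (D.wordP 1) v = v := by
  intro v hv
  exact relPtsF_spec ctF _ _ 31671 0 relc_1_0 v (by omega) (by omega)

theorem relw_2 : ∀ v, v < 31671 → walkT ctF (D.wlen 2) (D.wordP 2) v = v := by
  intro v hv
  exact relPtsF_spec ctF _ _ 31671 0 relc_2_0 v (by omega) (by omega)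

theorem relw_3 : ∀ v, v < 31671 → walkT ctF (D.wlen 3) (D.wordP 3) v = v := by
  intro v hv
  exact relPtsF_spec ctF _ _ 31671 0 relc_3_0 v (by omega) (by omega)

theorem relw_4 : ∀ v, v < 31671 → walkT ctF (D.wlen 4) (D.wordP 4) v = v := by
  intro v hv
  exact relPtsF_spec ctF _ _ 31671 0 relc_4_0 v (by omega) (by omega)

theorem relw_5 : ∀ v, v < 31671 → walkT ctF (D.wlen 5) (D.wordP 5) v = v := by
  intro v hv
  exact relPtsF_spec ctF _ _ 31671 0 relc_5_0 v (by omega) (by omega)

theorem relw_6 : ∀ v, v < 31671 → walkT ctF (D.wlen 6) (D.wordP 6) v = v := by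
  intro v hv
  exact relPtsF_spec ctF _ _ 31671 0 relc_6_0 v (by omega) (by omega)

theorem relw_7 : ∀ v, v < 31671 → walkT ctF (D.wlen 7) (D.wordP 7) v = v := by
  intro v hv
  exact relPtsF_spec ctF _ _ 31671 0 relc_7_0 v (by omega) (by omega)

theorem relw_8 : ∀ v, v < 31671 → walkT ctF (D.wlen 8) (D.wordP 8) v = v := by
  intro v hv
  exact relPtsF_spec ctF _ _ 31671 0 relc_8_0 v (by omega) (by omega)

theorem relw_9 : ∀ v, v < 31671 → walkT ctF (D.wlen 9) (D.wordP 9) v = v := by
  intro v hv
  exact relPtsF_spec ctF _ _ 31671 0 relc_9_0 v (by omega) (by omega)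

theorem relw_10 : ∀ v, v < 31671 → walkT ctF (D.wlen 10) (D.wordP 10) v = v := by
  intro v hv
  exact relPtsF_spec ctF _ _ 31671 0 relc_10_0 v (by omega) (by omega)

theorem relw_11 : ∀ v, v < 31671 → walkT ctF (D.wlen 11) (D.wordP 11) v = v := by
  intro v hv
  exact relPtsF_spec ctF _ _ 31671 0 relc_11_0 v (by omega) (by omega)

theorem relw_12 : ∀ v, v < 31671 → walkT ctF (D.wlen 12) (D.wordP 12) v = v := by
  intro v hv
  exact relPtsF_spec ctF _ _ 31671 0 relc_12_0 v (by omega) (by omega)

theorem relw_13 : ∀ v, v < 31671 → walkT ctF (D.wlen 13) (D.wordP 13) v = v := by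
  intro v hv
  exact relPtsF_spec ctF _ _ 31671 0 relc_13_0 v (by omega) (by omega)

theorem relw_14 : ∀ v, v < 31671 → walkT ctF (D.wlen 14) (D.wordP 14) v = v := by
  intro v hv
  exact relPtsF_spec ctF _ _ 31671 0 relc_14_0 v (by omega) (by omega)

theorem relw_15 : ∀ v, v < 31671 → walkT ctF (D.wlen 15) (D.wordP 15) v = v := by
  intro v hv
  exact relPtsF_spec ctF _ _ 31671 0 relc_15_0 v (by omega) (by omega)

theorem relw_16 : ∀ v, v < 31671 → walkT ctF (D.wlen 16) (D.wordP 16) v = v := by
  intro v hv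
  exact relPtsF_spec ctF _ _ 31671 0 relc_16_0 v (by omega) (by omega)

theorem relw_17 : ∀ v, v < 31671 → walkT ctF (D.wlen 17) (D.wordP 17) v = v := by
  intro v hv
  exact relPtsF_spec ctF _ _ 31671 0 relc_17_0 v (by omega) (by omega)

theorem relw_18 : ∀ v, v < 31671 → walkT ctF (D.wlen 18) (D.wordP 18) v = v := by
  intro v hv
  exact relPtsF_spec ctF _ _ 31671 0 relc_18_0 v (by omega) (by omega)

theorem relw_19 : ∀ v, v < 31671 → walkT ctF (D.wlen 19) (D.wordP 19) v = v := by
  intro v hv
  exact relPtsF_spec ctF _ _ 31671 0 relc_19_0 v (by omega) (by omega)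

theorem relw_20 : ∀ v, v < 31671 → walkT ctF (D.wlen 20) (D.wordP 20) v = v := by
  intro v hv
  exact relPtsF_spec ctF _ _ 31671 0 relc_20_0 v (by omega) (by omega)

theorem relw_21 : ∀ v, v < 31671 → walkT ctF (D.wlen 21) (D.wordP 21) v = v := by
  intro v hv
  exact relPtsF_spec ctF _ _ 31671 0 relc_21_0 v (by omega) (by omega)

theorem relw_22 : ∀ v, v < 31671 → walkT ctF (D.wlen 22) (D.wordP 22) v = v := by
  intro v hv
  exact relPtsF_spec ctF _ _ 31671 0 relc_22_0 v (by omega) (by omega)

theorem relw_23 : ∀ v, v < 31671 → walkT ctF (D.wlen 23) (D.wordP 23) v = v := by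
  intro v hv
  exact relPtsF_spec ctF _ _ 31671 0 relc_23_0 v (by omega) (by omega)

theorem relw_24 : ∀ v, v < 31671 → walkT ctF (D.wlen 24) (D.wordP 24) v = v := by
  intro v hv
  exact relPtsF_spec ctF _ _ 31671 0 relc_24_0 v (by omega) (by omega)

theorem relw_25 : ∀ v, v < 31671 → walkT ctF (D.wlen 25) (D.wordP 25) v = v := by
  intro v hv
  exact relPtsF_spec ctF _ _ 31671 0 relc_25_0 v (by omega) (by omega)

theorem relw_26 : ∀ v, v < 31671 → walkT ctF (D.wlen 26) (D.wordP 26) v = v := by
  intro v hv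
  exact relPtsF_spec ctF _ _ 31671 0 relc_26_0 v (by omega) (by omega)

theorem relw_27 : ∀ v, v < 31671 → walkT ctF (D.wlen 27) (D.wordP 27) v = v := by
  intro v hv
  exact relPtsF_spec ctF _ _ 31671 0 relc_27_0 v (by omega) (by omega)

theorem relw_28 : ∀ v, v < 31671 → walkT ctF (D.wlen 28) (D.wordP 28) v = v := by
  intro v hv
  exact relPtsF_spec ctF _ _ 31671 0 relc_28_0 v (by omega) (by omega)

theorem relw_29 : ∀ v, v < 31671 → walkT ctF (D.wlen 29) (D.wordP 29) v = v := by
  intro v hv
  exact relPtsF_spec ctF _ _ 31671 0 relc_29_0 v (by omega) (by omega)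

theorem relw_30 : ∀ v, v < 31671 → walkT ctF (D.wlen 30) (D.wordP 30) v = v := by
  intro v hv
  exact relPtsF_spec ctF _ _ 31671 0 relc_30_0 v (by omega) (by omega)

theorem relw_31 : ∀ v, v < 31671 → walkT ctF (D.wlen 31) (D.wordP 31) v = v := by
  intro v hv
  exact relPtsF_spec ctF _ _ 31671 0 relc_31_0 v (by omega) (by omega)

theorem relw_32 : ∀ v, v < 31671 → walkT ctF (D.wlen 32) (D.wordP 32) v = v := by
  intro v hv
  exact relPtsF_spec ctF _ _ 31671 0 relc_32_0 v (by omega) (by omega)

theorem relw_33 : ∀ v, v < 31671 → walkT ctF (D.wlen 33) (D.wordP 33) v = v := by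
  intro v hv
  exact relPtsF_spec ctF _ _ 31671 0 relc_33_0 v (by omega) (by omega)

theorem relw_34 : ∀ v, v < 31671 → walkT ctF (D.wlen 34) (D.wordP 34) v = v := by
  intro v hv
  exact relPtsF_spec ctF _ _ 31671 0 relc_34_0 v (by omega) (by omega)

theorem relw_35 : ∀ v, v < 31671 → walkT ctF (D.wlen 35) (D.wordP 35) v = v := by
  intro v hv
  exact relPtsF_spec ctF _ _ 31671 0 relc_35_0 v (by omega) (by omega)

theorem relw_36 : ∀ v, v < 31671 → walkT ctF (D.wlen 36) (D.wordP 36) v = v := by
  intro v hv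
  exact relPtsF_spec ctF _ _ 31671 0 relc_36_0 v (by omega) (by omega)

theorem relw_37 : ∀ v, v < 31671 → walkT ctF (D.wlen 37) (D.wordP 37) v = v := by
  intro v hv
  exact relPtsF_spec ctF _ _ 31671 0 relc_37_0 v (by omega) (by omega)

theorem relw_38 : ∀ v, v < 31671 → walkT ctF (D.wlen 38) (D.wordP 38) v = v := by
  intro v hv
  exact relPtsF_spec ctF _ _ 31671 0 relc_38_0 v (by omega) (by omega)

theorem relw_39 : ∀ v, v < 31671 → walkT ctF (D.wlen 39) (D.wordP 39) v = v := by
  intro v hv
  exact relPtsF_spec ctF _ _ 31671 0 relc_39_0 v (by omega) (by omega)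

theorem relw_40 : ∀ v, v < 31671 → walkT ctF (D.wlen 40) (D.wordP 40) v = v := by
  intro v hv
  exact relPtsF_spec ctF _ _ 31671 0 relc_40_0 v (by omega) (by omega)

theorem relw_41 : ∀ v, v < 31671 → walkT ctF (D.wlen 41) (D.wordP 41) v = v := by
  intro v hv
  exact relPtsF_spec ctF _ _ 31671 0 relc_41_0 v (by omega) (by omega)

theorem relw_42 : ∀ v, v < 31671 → walkT ctF (D.wlen 42) (D.wordP 42) v = v := by
  intro v hv
  exact relPtsF_spec ctF _ _ 31671 0 relc_42_0 v (by omega) (by omega)

theorem relw_43 : ∀ v, v < 31671 → walkT ctF (D.wlen 43) (D.wordP 43) v = v := by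
  intro v hv
  exact relPtsF_spec ctF _ _ 31671 0 relc_43_0 v (by omega) (by omega)

theorem relw_44 : ∀ v, v < 31671 → walkT ctF (D.wlen 44) (D.wordP 44) v = v := by
  intro v hv
  exact relPtsF_spec ctF _ _ 31671 0 relc_44_0 v (by omega) (by omega)

theorem relw_45 : ∀ v, v < 31671 → walkT ctF (D.wlen 45) (D.wordP 45) v = v := by
  intro v hv
  exact relPtsF_spec ctF _ _ 31671 0 relc_45_0 v (by omega) (by omega)

theorem relw_46 : ∀ v, v < 31671 → walkT ctF (D.wlen 46) (D.wordP 46) v = v := by
  intro v hv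
  exact relPtsF_spec ctF _ _ 31671 0 relc_46_0 v (by omega) (by omega)

theorem relw_47 : ∀ v, v < 31671 → walkT ctF (D.wlen 47) (D.wordP 47) v = v := by
  intro v hv
  exact relPtsF_spec ctF _ _ 31671 0 relc_47_0 v (by omega) (by omega)

theorem relw_48 : ∀ v, v < 31671 → walkT ctF (D.wlen 48) (D.wordP 48) v = v := by
  intro v hv
  exact relPtsF_spec ctF _ _ 31671 0 relc_48_0 v (by omega) (by omega)

theorem relw_49 : ∀ v, v < 31671 → walkT ctF (D.wlen 49) (D.wordP 49) v = v := by
  intro v hv
  exact relPtsF_spec ctF _ _ 31671 0 relc_49_0 v (by omega) (by omega)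

theorem relw_50 : ∀ v, v < 31671 → walkT ctF (D.wlen 50) (D.wordP 50) v = v := by
  intro v hv
  exact relPtsF_spec ctF _ _ 31671 0 relc_50_0 v (by omega) (by omega)

theorem relw_51 : ∀ v, v < 31671 → walkT ctF (D.wlen 51) (D.wordP 51) v = v := by
  intro v hv
  exact relPtsF_spec ctF _ _ 31671 0 relc_51_0 v (by omega) (by omega)

theorem relw_52 : ∀ v, v < 31671 → walkT ctF (D.wlen 52) (D.wordP 52) v = v := by
  intro v hv
  exact relPtsF_spec ctF _ _ 31671 0 relc_52_0 v (by omega) (by omega)

theorem relw_53 : ∀ v, v < 31671 → walkT ctF (D.wlen 53) (D.wordP 53) v = v := by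
  intro v hv
  exact relPtsF_spec ctF _ _ 31671 0 relc_53_0 v (by omega) (by omega)

theorem relw_54 : ∀ v, v < 31671 → walkT ctF (D.wlen 54) (D.wordP 54) v = v := by
  intro v hv
  exact relPtsF_spec ctF _ _ 31671 0 relc_54_0 v (by omega) (by omega)

theorem relw_55 : ∀ v, v < 31671 → walkT ctF (D.wlen 55) (D.wordP 55) v = v := by
  intro v hv
  exact relPtsF_spec ctF _ _ 31671 0 relc_55_0 v (by omega) (by omega)

theorem relw_56 : ∀ v, v < 31671 → walkT ctF (D.wlen 56) (D.wordP 56) v = v := by
  intro v hv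
  exact relPtsF_spec ctF _ _ 31671 0 relc_56_0 v (by omega) (by omega)

theorem relw_57 : ∀ v, v < 31671 → walkT ctF (D.wlen 57) (D.wordP 57) v = v := by
  intro v hv
  exact relPtsF_spec ctF _ _ 31671 0 relc_57_0 v (by omega) (by omega)

theorem relw_58 : ∀ v, v < 31671 → walkT ctF (D.wlen 58) (D.wordP 58) v = v := by
  intro v hv
  exact relPtsF_spec ctF _ _ 31671 0 relc_58_0 v (by omega) (by omega)

theorem relw_59 : ∀ v, v < 31671 → walkT ctF (D.wlen 59) (D.wordP 59) v = v := by
  intro v hv
  exact relPtsF_spec ctF _ _ 31671 0 relc_59_0 v (by omega) (by omega)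

theorem relw_60 : ∀ v, v < 31671 → walkT ctF (D.wlen 60) (D.wordP 60) v = v := by
  intro v hv
  exact relPtsF_spec ctF _ _ 31671 0 relc_60_0 v (by omega) (by omega)

theorem relw_61 : ∀ v, v < 31671 → walkT ctF (D.wlen 61) (D.wordP 61) v = v := by
  intro v hv
  exact relPtsF_spec ctF _ _ 31671 0 relc_61_0 v (by omega) (by omega)

theorem relw_62 : ∀ v, v < 31671 → walkT ctF (D.wlen 62) (D.wordP 62) v = v := by
  intro v hv
  exact relPtsF_spec ctF _ _ 31671 0 relc_62_0 v (by omega) (by omega)

theorem relw_63 : ∀ v, v < 31671 → walkT ctF (D.wlen 63) (D.wordP 63) v = v := by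
  intro v hv
  exact relPtsF_spec ctF _ _ 31671 0 relc_63_0 v (by omega) (by omega)

theorem relw_64 : ∀ v, v < 31671 → walkT ctF (D.wlen 64) (D.wordP 64) v = v := by
  intro v hv
  exact relPtsF_spec ctF _ _ 31671 0 relc_64_0 v (by omega) (by omega)

theorem relw_65 : ∀ v, v < 31671 → walkT ctF (D.wlen 65) (D.wordP 65) v = v := by
  intro v hv
  exact relPtsF_spec ctF _ _ 31671 0 relc_65_0 v (by omega) (by omega)

theorem relw_66 : ∀ v, v < 31671 → walkT ctF (D.wlen 66) (D.wordP 66) v = v := by
  intro v hv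
  exact relPtsF_spec ctF _ _ 31671 0 relc_66_0 v (by omega) (by omega)

theorem relw_67 : ∀ v, v < 31671 → walkT ctF (D.wlen 67) (D.wordP 67) v = v := by
  intro v hv
  exact relPtsF_spec ctF _ _ 31671 0 relc_67_0 v (by omega) (by omega)

theorem relw_68 : ∀ v, v < 31671 → walkT ctF (D.wlen 68) (D.wordP 68) v = v := by
  intro v hv
  exact relPtsF_spec ctF _ _ 31671 0 relc_68_0 v (by omega) (by omega)

theorem relw_69 : ∀ v, v < 31671 → walkT ctF (D.wlen 69) (D.wordP 69) v = v := by
  intro v hv
  exact relPtsF_spec ctF _ _ 31671 0 relc_69_0 v (by omega) (by omega)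

theorem relw_70 : ∀ v, v < 31671 → walkT ctF (D.wlen 70) (D.wordP 70) v = v := by
  intro v hv
  exact relPtsF_spec ctF _ _ 31671 0 relc_70_0 v (by omega) (by omega)

theorem relw_71 : ∀ v, v < 31671 → walkT ctF (D.wlen 71) (D.wordP 71) v = v := by
  intro v hv
  exact relPtsF_spec ctF _ _ 31671 0 relc_71_0 v (by omega) (by omega)

theorem relw_72 : ∀ v, v < 31671 → walkT ctF (D.wlen 72) (D.wordP 72) v = v := by
  intro v hv
  exact relPtsF_spec ctF _ _ 31671 0 relc_72_0 v (by omega) (by omega)

theorem relw_73 : ∀ v, v < 31671 → walkT ctF (D.wlen 73) (D.wordP 73) v = v := by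
  intro v hv
  exact relPtsF_spec ctF _ _ 31671 0 relc_73_0 v (by omega) (by omega)

theorem relw_74 : ∀ v, v < 31671 → walkT ctF (D.wlen 74) (D.wordP 74) v = v := by
  intro v hv
  exact relPtsF_spec ctF _ _ 31671 0 relc_74_0 v (by omega) (by omega)

theorem relw_75 : ∀ v, v < 31671 → walkT ctF (D.wlen 75) (D.wordP 75) v = v := by
  intro v hv
  exact relPtsF_spec ctF _ _ 31671 0 relc_75_0 v (by omega) (by omega)

theorem relw_76 : ∀ v, v < 31671 → walkT ctF (D.wlen 76) (D.wordP 76) v = v := by
  intro v hv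
  exact relPtsF_spec ctF _ _ 31671 0 relc_76_0 v (by omega) (by omega)

theorem relw_77 : ∀ v, v < 31671 → walkT ctF (D.wlen 77) (D.wordP 77) v = v := by
  intro v hv
  exact relPtsF_spec ctF _ _ 31671 0 relc_77_0 v (by omega) (by omega)

theorem relw_78 : ∀ v, v < 31671 → walkT ctF (D.wlen 78) (D.wordP 78) v = v := by
  intro v hv
  exact relPtsF_spec ctF _ _ 31671 0 relc_78_0 v (by omega) (by omega)

theorem relw_79 : ∀ v, v < 31671 → walkT ctF (D.wlen 79) (D.wordP 79) v = v := by
  intro v hv
  exact relPtsF_spec ctF _ _ 31671 0 relc_79_0 v (by omega) (by omega)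

theorem relw_80 : ∀ v, v < 31671 → walkT ctF (D.wlen 80) (D.wordP 80) v = v := by
  intro v hv
  exact relPtsF_spec ctF _ _ 31671 0 relc_80_0 v (by omega) (by omega)

theorem relw_81 : ∀ v, v < 31671 → walkT ctF (D.wlen 81) (D.wordP 81) v = v := by
  intro v hv
  exact relPtsF_spec ctF _ _ 31671 0 relc_81_0 v (by omega) (by omega)

theorem relw_82 : ∀ v, v < 31671 → walkT ctF (D.wlen 82) (D.wordP 82) v = v := by
  intro v hv
  exact relPtsF_spec ctF _ _ 31671 0 relc_82_0 v (by omega) (by omega)

theorem relw_83 : ∀ v, v < 31671 → walkT ctF (D.wlen 83) (D.wordP 83) v = v := by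
  intro v hv
  exact relPtsF_spec ctF _ _ 31671 0 relc_83_0 v (by omega) (by omega)

theorem relw_84 : ∀ v, v < 31671 → walkT ctF (D.wlen 84) (D.wordP 84) v = v := by
  intro v hv
  exact relPtsF_spec ctF _ _ 31671 0 relc_84_0 v (by omega) (by omega)

theorem relw_85 : ∀ v, v < 31671 → walkT ctF (D.wlen 85) (D.wordP 85) v = v := by
  intro v hv
  exact relPtsF_spec ctF _ _ 31671 0 relc_85_0 v (by omega) (by omega)

theorem relw_86 : ∀ v, v < 31671 → walkT ctF (D.wlen 86) (D.wordP 86) v = v := by
  intro v hv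
  exact relPtsF_spec ctF _ _ 31671 0 relc_86_0 v (by omega) (by omega)

theorem relw_87 : ∀ v, v < 31671 → walkT ctF (D.wlen 87) (D.wordP 87) v = v := by
  intro v hv
  exact relPtsF_spec ctF _ _ 31671 0 relc_87_0 v (by omega) (by omega)

theorem relw_88 : ∀ v, v < 31671 → walkT ctF (D.wlen 88) (D.wordP 88) v = v := by
  intro v hv
  exact relPtsF_spec ctF _ _ 31671 0 relc_88_0 v (by omega) (by omega)

theorem relw_89 : ∀ v, v < 31671 → walkT ctF (D.wlen 89) (D.wordP 89) v = v := by
  intro v hv
  exact relPtsF_spec ctF _ _ 31671 0 relc_89_0 v (by omega) (by omega)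

theorem relw_90 : ∀ v, v < 31671 → walkT ctF (D.wlen 90) (D.wordP 90) v = v := by
  intro v hv
  exact relPtsF_spec ctF _ _ 31671 0 relc_90_0 v (by omega) (by omega)

theorem relw_91 : ∀ v, v < 31671 → walkT ctF (D.wlen 91) (D.wordP 91) v = v := by
  intro v hv
  exact relPtsF_spec ctF _ _ 31671 0 relc_91_0 v (by omega) (by omega)

theorem relw_92 : ∀ v, v < 31671 → walkT ctF (D.wlen 92) (D.wordP 92) v = v := by
  intro v hv
  exact relPtsF_spec ctF _ _ 31671 0 relc_92_0 v (by omega) (by omega)

theorem relw_93 : ∀ v, v < 31671 → walkT ctF (D.wlen 93) (D.wordP 93) v = v := by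
  intro v hv
  exact relPtsF_spec ctF _ _ 31671 0 relc_93_0 v (by omega) (by omega)

theorem relw_94 : ∀ v, v < 31671 → walkT ctF (D.wlen 94) (D.wordP 94) v = v := by
  intro v hv
  exact relPtsF_spec ctF _ _ 31671 0 relc_94_0 v (by omega) (by omega)

theorem relw_95 : ∀ v, v < 31671 → walkT ctF (D.wlen 95) (D.wordP 95) v = v := by
  intro v hv
  exact relPtsF_spec ctF _ _ 31671 0 relc_95_0 v (by omega) (by omega)

theorem relw_96 : ∀ v, v < 31671 → walkT ctF (D.wlen 96) (D.wordP 96) v = v := by
  intro v hv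
  exact relPtsF_spec ctF _ _ 31671 0 relc_96_0 v (by omega) (by omega)

theorem relw_97 : ∀ v, v < 31671 → walkT ctF (D.wlen 97) (D.wordP 97) v = v := by
  intro v hv
  exact relPtsF_spec ctF _ _ 31671 0 relc_97_0 v (by omega) (by omega)

theorem relw_98 : ∀ v, v < 31671 → walkT ctF (D.wlen 98) (D.wordP 98) v = v := by
  intro v hv
  exact relPtsF_spec ctF _ _ 31671 0 relc_98_0 v (by omega) (by omega)

theorem relw_99 : ∀ v, v < 31671 → walkT ctF (D.wlen 99) (D.wordP 99) v = v := by
  intro v hv
  exact relPtsF_spec ctF _ _ 31671 0 relc_99_0 v (by omega) (by omega)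

theorem relw_100 : ∀ v, v < 31671 → walkT ctF (D.wlen 100) (D.wordP 100) v = v := by
  intro v hv
  rcases Nat.lt_or_ge v 2222 with h0 | h0
  · exact relPtsF_spec ctF _ _ 2222 0 relc_100_0 v (by omega) (by omega)
  rcases Nat.lt_or_ge v 4444 with h1 | h1
  · exact relPtsF_spec ctF _ _ 2222 2222 relc_100_1 v (by omega) (by omega)
  rcases Nat.lt_or_ge v 6666 with h2 | h2
  · exact relPtsF_spec ctF _ _ 2222 4444 relc_100_2 v (by omega) (by omega)
  rcases Nat.lt_or_ge v 8888 with h3 | h3
  · exact relPtsF_spec ctF _ _ 2222 6666 relc_100_3 v (by omega) (by omega)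
  rcases Nat.lt_or_ge v 11110 with h4 | h4
  · exact relPtsF_spec ctF _ _ 2222 8888 relc_100_4 v (by omega) (by omega)
  rcases Nat.lt_or_ge v 13332 with h5 | h5
  · exact relPtsF_spec ctF _ _ 2222 11110 relc_100_5 v (by omega) (by omega)
  rcases Nat.lt_or_ge v 15554 with h6 | h6
  · exact relPtsF_spec ctF _ _ 2222 13332 relc_100_6 v (by omega) (by omega)
  rcases Nat.lt_or_ge v 17776 with h7 | h7
  · exact relPtsF_spec ctF _ _ 2222 15554 relc_100_7 v (by omega) (by omega)
  rcases Nat.lt_or_ge v 19998 with h8 | h8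
  · exact relPtsF_spec ctF _ _ 2222 17776 relc_100_8 v (by omega) (by omega)
  rcases Nat.lt_or_ge v 22220 with h9 | h9
  · exact relPtsF_spec ctF _ _ 2222 19998 relc_100_9 v (by omega) (by omega)
  rcases Nat.lt_or_ge v 24442 with h10 | h10
  · exact relPtsF_spec ctF _ _ 2222 22220 relc_100_10 v (by omega) (by omega)
  rcases Nat.lt_or_ge v 26664 with h11 | h11
  · exact relPtsF_spec ctF _ _ 2222 24442 relc_100_11 v (by omega) (by omega)
  rcases Nat.lt_or_ge v 28886 with h12 | h12
  · exact relPtsF_spec ctF _ _ 2222 26664 relc_100_12 v (by omega) (by omega)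
  rcases Nat.lt_or_ge v 31108 with h13 | h13
  · exact relPtsF_spec ctF _ _ 2222 28886 relc_100_13 v (by omega) (by omega)
  exact relPtsF_spec ctF _ _ 563 31108 relc_100_14 v (by omega) (by omega)

theorem relw_101 : ∀ v, v < 31671 → walkT ctF (D.wlen 101) (D.wordP 101) v = v := by
  intro v hv
  rcases Nat.lt_or_ge v 3174 with h0 | h0
  · exact relPtsF_spec ctF _ _ 3174 0 relc_101_0 v (by omega) (by omega)
  rcases Nat.lt_or_ge v 6348 with h1 | h1
  · exact relPtsF_spec ctF _ _ 3174 3174 relc_101_1 v (by omega) (by omega)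
  rcases Nat.lt_or_ge v 9522 with h2 | h2
  · exact relPtsF_spec ctF _ _ 3174 6348 relc_101_2 v (by omega) (by omega)
  rcases Nat.lt_or_ge v 12696 with h3 | h3
  · exact relPtsF_spec ctF _ _ 3174 9522 relc_101_3 v (by omega) (by omega)
  rcases Nat.lt_or_ge v 15870 with h4 | h4
  · exact relPtsF_spec ctF _ _ 3174 12696 relc_101_4 v (by omega) (by omega)
  rcases Nat.lt_or_ge v 19044 with h5 | h5
  · exact relPtsF_spec ctF _ _ 3174 15870 relc_101_5 v (by omega) (by omega)
  rcases Nat.lt_or_ge v 22218 with h6 | h6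
  · exact relPtsF_spec ctF _ _ 3174 19044 relc_101_6 v (by omega) (by omega)
  rcases Nat.lt_or_ge v 25392 with h7 | h7
  · exact relPtsF_spec ctF _ _ 3174 22218 relc_101_7 v (by omega) (by omega)
  rcases Nat.lt_or_ge v 28566 with h8 | h8
  · exact relPtsF_spec ctF _ _ 3174 25392 relc_101_8 v (by omega) (by omega)
  exact relPtsF_spec ctF _ _ 3105 28566 relc_101_9 v (by omega) (by omega)

theorem hE : ∀ v, v < E.M → ∀ x, x < E.D.k → edgeOK E x v = true := by
  intro v hv x hx
  have hv' : v < 47441 := hv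
  have hx' : x < 10 := hx
  interval_cases x
  · exact edgesx_0 v hv'
  · exact edgesx_1 v hv'
  · exact edgesx_2 v hv'
  · exact edgesx_3 v hv'
  · exact edgesx_4 v hv'
  · exact edgesx_5 v hv'
  · exact edgesx_6 v hv'
  · exact edgesx_7 v hv'
  · exact edgesx_8 v hv'
  · exact edgesx_9 v hv'

theorem hA : ∀ v, v < E.M → aliasOK E v = true := fun v hv => hA0 v hv

theorem hrows : ∀ v, v < E.M → tb RS v = true → rowOK2 E RS v E.D.k = true := fun v hv => hrows0 v hv

theorem hT : ∀ x, x < E.D.k → ∀ v, v < 31671 → ctF x v < 31671 ∧ ctF x (ctF x v) = v := by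
  intro x hx v hv
  have hx' : x < 10 := hx
  interval_cases x
  · exact invRowF_spec ctF 31671 0 31671 0 inv_0 v (Nat.zero_le _) (by omega)
  · exact invRowF_spec ctF 31671 1 31671 0 inv_1 v (Nat.zero_le _) (by omega)
  · exact invRowF_spec ctF 31671 2 31671 0 inv_2 v (Nat.zero_le _) (by omega)
  · exact invRowF_spec ctF 31671 3 31671 0 inv_3 v (Nat.zero_le _) (by omega)
  · exact invRowF_spec ctF 31671 4 31671 0 inv_4 v (Nat.zero_le _) (by omega)
  · exact invRowF_spec ctF 31671 5 31671 0 inv_5 v (Nat.zero_le _) (by omega)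
  · exact invRowF_spec ctF 31671 6 31671 0 inv_6 v (Nat.zero_le _) (by omega)
  · exact invRowF_spec ctF 31671 7 31671 0 inv_7 v (Nat.zero_le _) (by omega)
  · exact invRowF_spec ctF 31671 8 31671 0 inv_8 v (Nat.zero_le _) (by omega)
  · exact invRowF_spec ctF 31671 9 31671 0 inv_9 v (Nat.zero_le _) (by omega)

theorem hltr : ∀ j, j < E.D.nw → lettersOK E.D.k (E.D.wlen j) (E.D.wordP j) = true :=
  wordsOK_spec D D.nw words_ok

theorem hrelT : ∀ wi, wi < E.D.nrel → ∀ v, v < 31671 →
    walkT ctF (E.D.wlen wi) (E.D.wordP wi) v = v := by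
  intro wi hwi
  have hwi' : wi < 102 := hwi
  interval_cases wi
  · exact relw_0
  · exact relw_1
  · exact relw_2
  · exact relw_3
  · exact relw_4
  · exact relw_5
  · exact relw_6
  · exact relw_7
  · exact relw_8
  · exact relw_9
  · exact relw_10
  · exact relw_11
  · exact relw_12
  · exact relw_13
  · exact relw_14
  · exact relw_15
  · exact relw_16
  · exact relw_17
  · exact relw_18
  · exact relw_19
  · exact relw_20
  · exact relw_21
  · exact relw_22
  · exact relw_23
  · exact relw_24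
  · exact relw_25
  · exact relw_26
  · exact relw_27
  · exact relw_28
  · exact relw_29
  · exact relw_30
  · exact relw_31
  · exact relw_32
  · exact relw_33
  · exact relw_34
  · exact relw_35
  · exact relw_36
  · exact relw_37
  · exact relw_38
  · exact relw_39
  · exact relw_40
  · exact relw_41
  · exact relw_42
  · exact relw_43
  · exact relw_44
  · exact relw_45
  · exact relw_46
  · exact relw_47
  · exact relw_48
  · exact relw_49
  · exact relw_50
  · exact relw_51
  · exact relw_52
  · exact relw_53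
  · exact relw_54
  · exact relw_55
  · exact relw_56
  · exact relw_57
  · exact relw_58
  · exact relw_59
  · exact relw_60
  · exact relw_61
  · exact relw_62
  · exact relw_63
  · exact relw_64
  · exact relw_65
  · exact relw_66
  · exact relw_67
  · exact relw_68
  · exact relw_69
  · exact relw_70
  · exact relw_71
  · exact relw_72
  · exact relw_73
  · exact relw_74
  · exact relw_75
  · exact relw_76
  · exact relw_77
  · exact relw_78
  · exact relw_79
  · exact relw_80
  · exact relw_81
  · exact relw_82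
  · exact relw_83
  · exact relw_84
  · exact relw_85
  · exact relw_86
  · exact relw_87
  · exact relw_88
  · exact relw_89
  · exact relw_90
  · exact relw_91
  · exact relw_92
  · exact relw_93
  · exact relw_94
  · exact relw_95
  · exact relw_96
  · exact relw_97
  · exact relw_98
  · exact relw_99
  · exact relw_100
  · exact relw_101

theorem hsubT : ∀ wi, wi < E.D.nw → E.D.nrel ≤ wi →
    walkT ctF (E.D.wlen wi) (E.D.wordP wi) 0 = 0 :=
  subAll_spec ctF D D.nw sub_ok

theorem hconn : ∀ v, v < 31671 → v ≠ 0 → ∃ x, x < E.D.k ∧ ctF x v < v := by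
  intro v hv
  exact connF_spec ctF 10 31671 0 conn_ok v (Nat.zero_le _) (by omega)

end Cfsg.Agent.Helper5.Fi23TC
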