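import Cfsg.Agent.Helper5.FiYATCDatD
import Cfsg.Agent.Helper5.TCIB

/-! kernel checks of edges, aliases, rows: FiYATC -/

set_option autoImplicit false
set_option Elab.async false

namespace Cfsg.Agent.Helper5.FiYATC
open Cfsg.Agent.Helper5.TC Cfsg.Agent.Helper5.TCI

set_option maxRecDepth 1000000 in
theorem cnt_1 : cntFrom RS 20000 20000 0 = 11790 := by decide +kernel

set_option maxRecDepth 1000000 in
theorem edges_6_8 : edgesRangeI iota E 6 3671 23013 = true := by decide +kernel

set_option maxRecDepth 1000000 in
theorem edges_1_15 : edgesRangeI iota E 1 1745 38659 = true := by decide +kernel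

set_option maxRecDepth 1000000 in
theorem edges_2_7 : edgesRangeI iota E 2 2953 18887 = true := by decide +kernel

set_option maxRecDepth 1000000 in
theorem edges_5_0 : edgesRangeI iota E 5 1703 0 = true := by decide +kernel

set_option maxRecDepth 1000000 in
theorem edges_6_2 : edgesRangeI iota E 6 2507 4068 = true := by decide +kernel

set_option maxRecDepth 1000000 in
theorem edges_8_13 : edgesRangeI iota E 8 1783 32758 = true := by decide +kernel

set_option maxRecDepth 1000000 in
theorem edges_9_3 : edgesRangeI iota E 9 4878 11337 = true := by decide +kernel

set_option maxRecDepth 1000000 in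
theorem edges_3_0 : edgesRangeI iota E 3 1908 0 = true := by decide +kernel

set_option maxRecDepth 1000000 in
theorem edges_5_6 : edgesRangeI iota E 5 3186 14518 = true := by decide +kernel

set_option maxRecDepth 1000000 in
theorem edges_6_16 : edgesRangeI iota E 6 2023 43018 = true := by decide +kernel

set_option maxRecDepth 1000000 in
theorem aliases_5 : aliasRange E 3156 18074 = true := by decide +kernel

set_option maxRecDepth 1000000 in
theorem edges_1_1 : edgesRangeI iota E 1 2245 1980 = true := by decide +kernel

set_option maxRecDepth 1000000 in
theorem edges_3_20 : edgesRangeI iota E 3 1795 48390 = true := by decide +kernel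

set_option maxRecDepth 1000000 in
theorem edges_5_12 : edgesRangeI iota E 5 1851 32997 = true := by decide +kernel

set_option maxRecDepth 1000000 in
theorem edges_6_7 : edgesRangeI iota E 6 3621 19392 = true := by decide +kernel

set_option maxRecDepth 1000000 in
theorem edges_8_11 : edgesRangeI iota E 8 2595 27726 = true := by decide +kernel

set_option maxRecDepth 1000000 in
theorem aliases_3 : aliasRange E 3263 11656 = true := by decide +kernel

set_option maxRecDepth 1000000 in
theorem edges_0_12 : edgesRangeI iota E 0 1726 32984 = true := by decide +kernel

set_option maxRecDepth 1000000 in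
theorem edges_1_4 : edgesRangeI iota E 1 3001 9713 = true := by decide +kernel

set_option maxRecDepth 1000000 in
theorem edges_1_14 : edgesRangeI iota E 1 1723 36936 = true := by decide +kernel

set_option maxRecDepth 1000000 in
theorem edges_2_10 : edgesRangeI iota E 2 2790 27776 = true := by decide +kernel

set_option maxRecDepth 1000000 in
theorem edges_3_19 : edgesRangeI iota E 3 1977 46413 = true := by decide +kernel

set_option maxRecDepth 1000000 in
theorem edges_4_16 : edgesRangeI iota E 4 1758 40498 = true := by decide +kernel

set_option maxRecDepth 1000000 in
theorem edges_5_5 : edgesRangeI iota E 5 3005 11513 = true := by decide +kernel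

set_option maxRecDepth 1000000 in
theorem edges_6_10 : edgesRangeI iota E 6 2992 29976 = true := by decide +kernel

set_option maxRecDepth 1000000 in
theorem edges_7_2 : edgesRangeI iota E 7 2609 4290 = true := by decide +kernel

set_option maxRecDepth 1000000 in
theorem edges_9_4 : edgesRangeI iota E 9 5079 16215 = true := by decide +kernel

set_option maxRecDepth 1000000 in
theorem edges_0_4 : edgesRangeI iota E 0 2864 9705 = true := by decide +kernel

set_option maxRecDepth 1000000 in
theorem edges_1_16 : edgesRangeI iota E 1 1808 40404 = true := by decide +kernel

set_option maxRecDepth 1000000 in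
theorem edges_2_19 : edgesRangeI iota E 2 1798 45911 = true := by decide +kernel

set_option maxRecDepth 1000000 in
theorem edges_4_4 : edgesRangeI iota E 4 2951 9238 = true := by decide +kernel

set_option maxRecDepth 1000000 in
theorem edges_5_14 : edgesRangeI iota E 5 1683 36527 = true := by decide +kernel

set_option maxRecDepth 1000000 in
theorem edges_6_14 : edgesRangeI iota E 6 1985 39088 = true := by decide +kernel

set_option maxRecDepth 1000000 in
theorem edges_8_4 : edgesRangeI iota E 8 2411 9740 = true := by decide +kernel

set_option maxRecDepth 1000000 in
theorem edges_0_6 : edgesRangeI iota E 0 3142 15475 = true := by decide +kernel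

set_option maxRecDepth 1000000 in
theorem edges_0_11 : edgesRangeI iota E 0 2452 30532 = true := by decide +kernel

set_option maxRecDepth 1000000 in
theorem edges_0_19 : edgesRangeI iota E 0 1908 45112 = true := by decide +kernel

set_option maxRecDepth 1000000 in
theorem edges_1_6 : edgesRangeI iota E 1 3403 15670 = true := by decide +kernel

set_option maxRecDepth 1000000 in
theorem edges_2_4 : edgesRangeI iota E 2 3009 9594 = true := by decide +kernel

set_option maxRecDepth 1000000 in
theorem edges_2_17 : edgesRangeI iota E 2 1894 42198 = true := by decide +kernel

set_option maxRecDepth 1000000 in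
theorem edges_3_5 : edgesRangeI iota E 3 3101 12155 = true := by decide +kernel

set_option maxRecDepth 1000000 in
theorem edges_3_10 : edgesRangeI iota E 3 3100 27558 = true := by decide +kernel

set_option maxRecDepth 1000000 in
theorem edges_4_3 : edgesRangeI iota E 4 2757 6481 = true := by decide +kernel

set_option maxRecDepth 1000000 in
theorem edges_4_12 : edgesRangeI iota E 4 1866 33205 = true := by decide +kernel

set_option maxRecDepth 1000000 in
theorem edges_5_16 : edgesRangeI iota E 5 1699 39892 = true := by decide +kernel

set_option maxRecDepth 1000000 in
theorem edges_6_17 : edgesRangeI iota E 6 2013 45041 = true := by decide +kernel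

set_option maxRecDepth 1000000 in
theorem edges_7_8 : edgesRangeI iota E 7 3898 23506 = true := by decide +kernel

set_option maxRecDepth 1000000 in
theorem edges_7_14 : edgesRangeI iota E 7 2472 41419 = true := by decide +kernel

set_option maxRecDepth 1000000 in
theorem edges_8_2 : edgesRangeI iota E 8 2435 4804 = true := by decide +kernel

set_option maxRecDepth 1000000 in
theorem edges_9_1 : edgesRangeI iota E 9 4024 2660 = true := by decide +kernel

set_option maxRecDepth 1000000 in
theorem edges_9_7 : edgesRangeI iota E 9 3487 30580 = true := by decide +kernel

set_option maxRecDepth 1000000 in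
theorem aliases_2 : aliasRange E 3404 8252 = true := by decide +kernel

set_option maxRecDepth 1000000 in
theorem aliases_11 : aliasRange E 8000 33306 = true := by decide +kernel

set_option maxRecDepth 1000000 in
theorem edges_9_14 : edgesRangeI iota E 9 1618 49438 = true := by decide +kernel

set_option maxRecDepth 1000000 in
theorem rows_3 : rowsRange E RS 1500 4500 = true := by decide +kernel

set_option maxRecDepth 1000000 in
theorem rows_7 : rowsRange E RS 1500 10500 = true := by decide +kernel

set_option maxRecDepth 1000000 in
theorem rows_11 : rowsRange E RS 1500 16500 = true := by decide +kernel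

set_option maxRecDepth 1000000 in
theorem rows_15 : rowsRange E RS 1500 22500 = true := by decide +kernel

set_option maxRecDepth 1000000 in
theorem rows_19 : rowsRange E RS 1500 28500 = true := by decide +kernel

set_option maxRecDepth 1000000 in
theorem rows_23 : rowsRange E RS 1500 34500 = true := by decide +kernel

set_option maxRecDepth 1000000 in
theorem rows_27 : rowsRange E RS 1500 40500 = true := by decide +kernel

set_option maxRecDepth 1000000 in
theorem rows_31 : rowsRange E RS 1500 46500 = true := by decide +kernel

set_option maxRecDepth 1000000 in
theorem edges_4_21 : edgesRangeI iota E 4 1168 49888 = true := by decide +kernel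

set_option maxRecDepth 1000000 in
theorem edges_0_22 : edgesRangeI iota E 0 632 50424 = true := by decide +kernel

set_option maxRecDepth 1000000 in
theorem rows_34 : rowsRange E RS 56 51000 = true := by decide +kernel

end Cfsg.Agent.Helper5.FiYATC
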