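import Cfsg.Agent.Helper5.FiYATCDatD
import Cfsg.Agent.Helper5.TCIB

/-! kernel checks of edges, aliases, rows: FiYATC -/

set_option autoImplicit false
set_option Elab.async false

namespace Cfsg.Agent.Helper5.FiYATC
open Cfsg.Agent.Helper5.TC Cfsg.Agent.Helper5.TCI

set_option maxRecDepth 1000000 in
theorem edges_8_16 : edgesRangeI iota E 8 1867 38376 = true := by decide +kernel

set_option maxRecDepth 1000000 in
theorem edges_7_15 : edgesRangeI iota E 7 2482 43891 = true := by decide +kernel

set_option maxRecDepth 1000000 in
theorem edges_0_7 : edgesRangeI iota E 0 2921 18617 = true := by decide +kernel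

set_option maxRecDepth 1000000 in
theorem edges_2_2 : edgesRangeI iota E 2 2619 4158 = true := by decide +kernel

set_option maxRecDepth 1000000 in
theorem edges_3_14 : edgesRangeI iota E 3 1908 37076 = true := by decide +kernel

set_option maxRecDepth 1000000 in
theorem edges_5_10 : edgesRangeI iota E 5 3077 27258 = true := by decide +kernel

set_option maxRecDepth 1000000 in
theorem edges_8_7 : edgesRangeI iota E 8 2623 17262 = true := by decide +kernel

set_option maxRecDepth 1000000 in
theorem edges_8_19 : edgesRangeI iota E 8 2191 44028 = true := by decide +kernel

set_option maxRecDepth 1000000 in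
theorem edges_2_14 : edgesRangeI iota E 2 1822 36609 = true := by decide +kernel

set_option maxRecDepth 1000000 in
theorem edges_3_16 : edgesRangeI iota E 3 1795 40836 = true := by decide +kernel

set_option maxRecDepth 1000000 in
theorem edges_5_17 : edgesRangeI iota E 5 1737 41591 = true := by decide +kernel

set_option maxRecDepth 1000000 in
theorem edges_7_11 : edgesRangeI iota E 7 2447 34136 = true := by decide +kernel

set_option maxRecDepth 1000000 in
theorem edges_0_1 : edgesRangeI iota E 0 2320 2163 = true := by decide +kernel

set_option maxRecDepth 1000000 in
theorem edges_2_13 : edgesRangeI iota E 2 1758 34851 = true := by decide +kernel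

set_option maxRecDepth 1000000 in
theorem edges_4_6 : edgesRangeI iota E 4 3177 15363 = true := by decide +kernel

set_option maxRecDepth 1000000 in
theorem edges_5_20 : edgesRangeI iota E 5 1910 47191 = true := by decide +kernel

set_option maxRecDepth 1000000 in
theorem edges_7_7 : edgesRangeI iota E 7 3746 19760 = true := by decide +kernel

set_option maxRecDepth 1000000 in
theorem edges_9_11 : edgesRangeI iota E 9 2503 42513 = true := by decide +kernel

set_option maxRecDepth 1000000 in
theorem edges_0_2 : edgesRangeI iota E 0 2531 4483 = true := by decide +kernel

set_option maxRecDepth 1000000 in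
theorem edges_0_21 : edgesRangeI iota E 0 1628 48796 = true := by decide +kernel

set_option maxRecDepth 1000000 in
theorem edges_1_11 : edgesRangeI iota E 1 2060 31438 = true := by decide +kernel

set_option maxRecDepth 1000000 in
theorem edges_2_0 : edgesRangeI iota E 2 1918 0 = true := by decide +kernel

set_option maxRecDepth 1000000 in
theorem edges_2_16 : edgesRangeI iota E 2 1896 40302 = true := by decide +kernel

set_option maxRecDepth 1000000 in
theorem edges_4_14 : edgesRangeI iota E 4 1815 36898 = true := by decide +kernel

set_option maxRecDepth 1000000 in
theorem edges_5_2 : edgesRangeI iota E 5 2366 3778 = true := by decide +kernel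

set_option maxRecDepth 1000000 in
theorem edges_5_13 : edgesRangeI iota E 5 1679 34848 = true := by decide +kernel

set_option maxRecDepth 1000000 in
theorem edges_7_0 : edgesRangeI iota E 7 1940 0 = true := by decide +kernel

set_option maxRecDepth 1000000 in
theorem edges_8_9 : edgesRangeI iota E 8 2685 22585 = true := by decide +kernel

set_option maxRecDepth 1000000 in
theorem edges_0_0 : edgesRangeI iota E 0 2163 0 = true := by decide +kernel

set_option maxRecDepth 1000000 in
theorem edges_1_5 : edgesRangeI iota E 1 2956 12714 = true := by decide +kernel

set_option maxRecDepth 1000000 in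
theorem edges_2_12 : edgesRangeI iota E 2 1729 33122 = true := by decide +kernel

set_option maxRecDepth 1000000 in
theorem edges_3_12 : edgesRangeI iota E 3 1919 33200 = true := by decide +kernel

set_option maxRecDepth 1000000 in
theorem edges_5_4 : edgesRangeI iota E 5 2767 8746 = true := by decide +kernel

set_option maxRecDepth 1000000 in
theorem edges_6_3 : edgesRangeI iota E 6 2813 6575 = true := by decide +kernel

set_option maxRecDepth 1000000 in
theorem edges_7_4 : edgesRangeI iota E 7 3160 9729 = true := by decide +kernel

set_option maxRecDepth 1000000 in
theorem edges_9_8 : edgesRangeI iota E 9 2904 34067 = true := by decide +kernel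

set_option maxRecDepth 1000000 in
theorem edges_0_10 : edgesRangeI iota E 0 2873 27659 = true := by decide +kernel

set_option maxRecDepth 1000000 in
theorem edges_0_18 : edgesRangeI iota E 0 1897 43215 = true := by decide +kernel

set_option maxRecDepth 1000000 in
theorem edges_1_3 : edgesRangeI iota E 1 2858 6855 = true := by decide +kernel

set_option maxRecDepth 1000000 in
theorem edges_1_19 : edgesRangeI iota E 1 1725 46072 = true := by decide +kernel

set_option maxRecDepth 1000000 in
theorem edges_2_9 : edgesRangeI iota E 2 2659 25117 = true := by decide +kernel

set_option maxRecDepth 1000000 in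
theorem edges_3_4 : edgesRangeI iota E 3 2822 9333 = true := by decide +kernel

set_option maxRecDepth 1000000 in
theorem edges_3_9 : edgesRangeI iota E 3 2817 24741 = true := by decide +kernel

set_option maxRecDepth 1000000 in
theorem edges_4_2 : edgesRangeI iota E 4 2517 3964 = true := by decide +kernel

set_option maxRecDepth 1000000 in
theorem edges_4_10 : edgesRangeI iota E 4 2886 27721 = true := by decide +kernel

set_option maxRecDepth 1000000 in
theorem edges_5_9 : edgesRangeI iota E 5 3079 24179 = true := by decide +kernel

set_option maxRecDepth 1000000 in
theorem edges_6_13 : edgesRangeI iota E 6 1987 37101 = true := by decide +kernel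

set_option maxRecDepth 1000000 in
theorem edges_7_6 : edgesRangeI iota E 7 3642 16118 = true := by decide +kernel

set_option maxRecDepth 1000000 in
theorem edges_7_13 : edgesRangeI iota E 7 2381 39038 = true := by decide +kernel

set_option maxRecDepth 1000000 in
theorem edges_8_0 : edgesRangeI iota E 8 2409 0 = true := by decide +kernel

set_option maxRecDepth 1000000 in
theorem edges_8_17 : edgesRangeI iota E 8 1846 40243 = true := by decide +kernel

set_option maxRecDepth 1000000 in
theorem edges_9_6 : edgesRangeI iota E 9 4120 26460 = true := by decide +kernel

set_option maxRecDepth 1000000 in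
theorem aliases_1 : aliasRange E 3508 4744 = true := by decide +kernel

set_option maxRecDepth 1000000 in
theorem aliases_10 : aliasRange E 2848 30458 = true := by decide +kernel

set_option maxRecDepth 1000000 in
theorem edges_1_21 : edgesRangeI iota E 1 1588 49468 = true := by decide +kernel

set_option maxRecDepth 1000000 in
theorem rows_0 : rowsRange E RS 1500 0 = true := by decide +kernel

set_option maxRecDepth 1000000 in
theorem rows_4 : rowsRange E RS 1500 6000 = true := by decide +kernel

set_option maxRecDepth 1000000 in
theorem rows_8 : rowsRange E RS 1500 12000 = true := by decide +kernel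

set_option maxRecDepth 1000000 in
theorem rows_12 : rowsRange E RS 1500 18000 = true := by decide +kernel

set_option maxRecDepth 1000000 in
theorem rows_16 : rowsRange E RS 1500 24000 = true := by decide +kernel

set_option maxRecDepth 1000000 in
theorem rows_20 : rowsRange E RS 1500 30000 = true := by decide +kernel

set_option maxRecDepth 1000000 in
theorem rows_24 : rowsRange E RS 1500 36000 = true := by decide +kernel

set_option maxRecDepth 1000000 in
theorem rows_28 : rowsRange E RS 1500 42000 = true := by decide +kernel

set_option maxRecDepth 1000000 in
theorem rows_32 : rowsRange E RS 1500 48000 = true := by decide +kernel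

set_option maxRecDepth 1000000 in
theorem edges_3_21 : edgesRangeI iota E 3 871 50185 = true := by decide +kernel

end Cfsg.Agent.Helper5.FiYATC
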