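import Cfsg.Agent.Helper5.FiYATCDatD
import Cfsg.Agent.Helper5.TCIB

/-! kernel checks of edges, aliases, rows: FiYATC -/

set_option autoImplicit false
set_option Elab.async false

namespace Cfsg.Agent.Helper5.FiYATC
open Cfsg.Agent.Helper5.TC Cfsg.Agent.Helper5.TCI

set_option maxRecDepth 1000000 in
theorem edges_3_15 : edgesRangeI iota E 3 1852 38984 = true := by decide +kernel

set_option maxRecDepth 1000000 in
theorem edges_6_5 : edgesRangeI iota E 6 3245 12472 = true := by decide +kernel

set_option maxRecDepth 1000000 in
theorem edges_9_12 : edgesRangeI iota E 9 2370 45016 = true := by decide +kernel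

set_option maxRecDepth 1000000 in
theorem edges_1_20 : edgesRangeI iota E 1 1671 47797 = true := by decide +kernel

set_option maxRecDepth 1000000 in
theorem edges_3_6 : edgesRangeI iota E 3 3246 15256 = true := by decide +kernel

set_option maxRecDepth 1000000 in
theorem edges_5_7 : edgesRangeI iota E 5 3202 17704 = true := by decide +kernel

set_option maxRecDepth 1000000 in
theorem edges_6_6 : edgesRangeI iota E 6 3675 15717 = true := by decide +kernel

set_option maxRecDepth 1000000 in
theorem edges_8_14 : edgesRangeI iota E 8 1913 34541 = true := by decide +kernel

set_option maxRecDepth 1000000 in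
theorem edges_0_8 : edgesRangeI iota E 0 3317 21538 = true := by decide +kernel

set_option maxRecDepth 1000000 in
theorem edges_3_11 : edgesRangeI iota E 3 2542 30658 = true := by decide +kernel

set_option maxRecDepth 1000000 in
theorem edges_5_15 : edgesRangeI iota E 5 1682 38210 = true := by decide +kernel

set_option maxRecDepth 1000000 in
theorem edges_7_10 : edgesRangeI iota E 7 2806 31330 = true := by decide +kernel

set_option maxRecDepth 1000000 in
theorem aliases_9 : aliasRange E 2170 28288 = true := by decide +kernel

set_option maxRecDepth 1000000 in
theorem edges_1_17 : edgesRangeI iota E 1 1930 42212 = true := by decide +kernel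

set_option maxRecDepth 1000000 in
theorem edges_4_0 : edgesRangeI iota E 4 1829 0 = true := by decide +kernel

set_option maxRecDepth 1000000 in
theorem edges_5_19 : edgesRangeI iota E 5 1972 45219 = true := by decide +kernel

set_option maxRecDepth 1000000 in
theorem edges_6_18 : edgesRangeI iota E 6 1889 47054 = true := by decide +kernel

set_option maxRecDepth 1000000 in
theorem edges_9_0 : edgesRangeI iota E 9 2660 0 = true := by decide +kernel

set_option maxRecDepth 1000000 in
theorem aliases_4 : aliasRange E 3155 14919 = true := by decide +kernel

set_option maxRecDepth 1000000 in
theorem edges_0_13 : edgesRangeI iota E 0 1661 34710 = true := by decide +kernel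

set_option maxRecDepth 1000000 in
theorem edges_1_9 : edgesRangeI iota E 1 2542 25657 = true := by decide +kernel

set_option maxRecDepth 1000000 in
theorem edges_1_18 : edgesRangeI iota E 1 1930 44142 = true := by decide +kernel

set_option maxRecDepth 1000000 in
theorem edges_2_11 : edgesRangeI iota E 2 2556 30566 = true := by decide +kernel

set_option maxRecDepth 1000000 in
theorem edges_4_13 : edgesRangeI iota E 4 1827 35071 = true := by decide +kernel

set_option maxRecDepth 1000000 in
theorem edges_5_1 : edgesRangeI iota E 5 2075 1703 = true := by decide +kernel

set_option maxRecDepth 1000000 in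
theorem edges_5_11 : edgesRangeI iota E 5 2662 30335 = true := by decide +kernel

set_option maxRecDepth 1000000 in
theorem edges_6_11 : edgesRangeI iota E 6 2133 32968 = true := by decide +kernel

set_option maxRecDepth 1000000 in
theorem edges_8_1 : edgesRangeI iota E 8 2395 2409 = true := by decide +kernel

set_option maxRecDepth 1000000 in
theorem aliases_6 : aliasRange E 2258 21230 = true := by decide +kernel

set_option maxRecDepth 1000000 in
theorem edges_0_14 : edgesRangeI iota E 0 1722 36371 = true := by decide +kernel

set_option maxRecDepth 1000000 in
theorem edges_2_1 : edgesRangeI iota E 2 2240 1918 = true := by decide +kernel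

set_option maxRecDepth 1000000 in
theorem edges_3_1 : edgesRangeI iota E 3 2179 1908 = true := by decide +kernel

set_option maxRecDepth 1000000 in
theorem edges_4_9 : edgesRangeI iota E 4 2984 24737 = true := by decide +kernel

set_option maxRecDepth 1000000 in
theorem edges_5_18 : edgesRangeI iota E 5 1891 43328 = true := by decide +kernel

set_option maxRecDepth 1000000 in
theorem edges_6_19 : edgesRangeI iota E 6 1835 48943 = true := by decide +kernel

set_option maxRecDepth 1000000 in
theorem edges_8_18 : edgesRangeI iota E 8 1939 42089 = true := by decide +kernel

set_option maxRecDepth 1000000 in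
theorem edges_0_9 : edgesRangeI iota E 0 2804 24855 = true := by decide +kernel

set_option maxRecDepth 1000000 in
theorem edges_0_17 : edgesRangeI iota E 0 1716 41499 = true := by decide +kernel

set_option maxRecDepth 1000000 in
theorem edges_1_0 : edgesRangeI iota E 1 1980 0 = true := by decide +kernel

set_option maxRecDepth 1000000 in
theorem edges_1_8 : edgesRangeI iota E 1 3568 22089 = true := by decide +kernel

set_option maxRecDepth 1000000 in
theorem edges_2_8 : edgesRangeI iota E 2 3277 21840 = true := by decide +kernel

set_option maxRecDepth 1000000 in
theorem edges_3_3 : edgesRangeI iota E 3 2754 6579 = true := by decide +kernel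

set_option maxRecDepth 1000000 in
theorem edges_3_8 : edgesRangeI iota E 3 3416 21325 = true := by decide +kernel

set_option maxRecDepth 1000000 in
theorem edges_3_18 : edgesRangeI iota E 3 1947 44466 = true := by decide +kernel

set_option maxRecDepth 1000000 in
theorem edges_4_8 : edgesRangeI iota E 4 3188 21549 = true := by decide +kernel

set_option maxRecDepth 1000000 in
theorem edges_4_18 : edgesRangeI iota E 4 2041 44082 = true := by decide +kernel

set_option maxRecDepth 1000000 in
theorem edges_6_12 : edgesRangeI iota E 6 2000 35101 = true := by decide +kernel

set_option maxRecDepth 1000000 in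
theorem edges_7_5 : edgesRangeI iota E 7 3229 12889 = true := by decide +kernel

set_option maxRecDepth 1000000 in
theorem edges_7_12 : edgesRangeI iota E 7 2455 36583 = true := by decide +kernel

set_option maxRecDepth 1000000 in
theorem edges_7_17 : edgesRangeI iota E 7 1980 48560 = true := by decide +kernel

set_option maxRecDepth 1000000 in
theorem edges_8_12 : edgesRangeI iota E 8 2437 30321 = true := by decide +kernel

set_option maxRecDepth 1000000 in
theorem edges_9_5 : edgesRangeI iota E 9 5166 21294 = true := by decide +kernel

set_option maxRecDepth 1000000 in
theorem aliases_0 : aliasRange E 4744 0 = true := by decide +kernel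

set_option maxRecDepth 1000000 in
theorem aliases_8 : aliasRange E 2504 25784 = true := by decide +kernel

set_option maxRecDepth 1000000 in
theorem edges_8_21 : edgesRangeI iota E 8 2408 48648 = true := by decide +kernel

set_option maxRecDepth 1000000 in
theorem rows_1 : rowsRange E RS 1500 1500 = true := by decide +kernel

set_option maxRecDepth 1000000 in
theorem rows_5 : rowsRange E RS 1500 7500 = true := by decide +kernel

set_option maxRecDepth 1000000 in
theorem rows_9 : rowsRange E RS 1500 13500 = true := by decide +kernel

set_option maxRecDepth 1000000 in
theorem rows_13 : rowsRange E RS 1500 19500 = true := by decide +kernel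

set_option maxRecDepth 1000000 in
theorem rows_17 : rowsRange E RS 1500 25500 = true := by decide +kernel

set_option maxRecDepth 1000000 in
theorem rows_21 : rowsRange E RS 1500 31500 = true := by decide +kernel

set_option maxRecDepth 1000000 in
theorem rows_25 : rowsRange E RS 1500 37500 = true := by decide +kernel

set_option maxRecDepth 1000000 in
theorem rows_29 : rowsRange E RS 1500 43500 = true := by decide +kernel

set_option maxRecDepth 1000000 in
theorem rows_33 : rowsRange E RS 1500 49500 = true := by decide +kernel

set_option maxRecDepth 1000000 in
theorem edges_7_18 : edgesRangeI iota E 7 516 50540 = true := by decide +kernel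

set_option maxRecDepth 1000000 in
theorem edges_6_20 : edgesRangeI iota E 6 278 50778 = true := by decide +kernel

end Cfsg.Agent.Helper5.FiYATC
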