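import Cfsg.Agent.Helper5.FiYATCDatD
import Cfsg.Agent.Helper5.FiYATCDatT
import Cfsg.Agent.Helper5.TCIB

/-! kernel checks of the coset table: FiYATC -/

set_option autoImplicit false
set_option Elab.async false

namespace Cfsg.Agent.Helper5.FiYATC
open Cfsg.Agent.Helper5.TC Cfsg.Agent.Helper5.TCI

set_option maxRecDepth 1000000 in
theorem relc_1_0 : fixPtsF W_1 31671 0 = true := by decide +kernel

set_option maxRecDepth 1000000 in
theorem relc_21_0 : fixPtsF W_21 31671 0 = true := by decide +kernel

set_option maxRecDepth 1000000 in
theorem relc_51_0 : fixPtsF W_51 31671 0 = true := by decide +kernel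

set_option maxRecDepth 1000000 in
theorem relc_9_0 : fixPtsF W_9 31671 0 = true := by decide +kernel

set_option maxRecDepth 1000000 in
theorem relc_15_0 : fixPtsF W_15 31671 0 = true := by decide +kernel

set_option maxRecDepth 1000000 in
theorem relc_22_0 : fixPtsF W_22 31671 0 = true := by decide +kernel

set_option maxRecDepth 1000000 in
theorem relc_26_0 : fixPtsF W_26 31671 0 = true := by decide +kernel

set_option maxRecDepth 1000000 in
theorem relc_32_0 : fixPtsF W_32 31671 0 = true := by decide +kernel

set_option maxRecDepth 1000000 in
theorem relc_38_0 : fixPtsF W_38 31671 0 = true := by decide +kernel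

set_option maxRecDepth 1000000 in
theorem relc_43_0 : fixPtsF W_43 31671 0 = true := by decide +kernel

set_option maxRecDepth 1000000 in
theorem relc_50_0 : fixPtsF W_50 31671 0 = true := by decide +kernel

set_option maxRecDepth 1000000 in
theorem relc_56_2 : fixPtsF W_56 3174 6348 = true := by decide +kernel

set_option maxRecDepth 1000000 in
theorem relc_56_6 : fixPtsF W_56 3174 19044 = true := by decide +kernel

set_option maxRecDepth 1000000 in
theorem relc_55_1 : fixPtsF W_55 2222 2222 = true := by decide +kernel

set_option maxRecDepth 1000000 in
theorem relc_55_5 : fixPtsF W_55 2222 11110 = true := by decide +kernel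

set_option maxRecDepth 1000000 in
theorem relc_55_9 : fixPtsF W_55 2222 19998 = true := by decide +kernel

set_option maxRecDepth 1000000 in
theorem relc_55_13 : fixPtsF W_55 2222 28886 = true := by decide +kernel

set_option maxRecDepth 1000000 in
theorem relc_19_0 : fixPtsF W_19 31671 0 = true := by decide +kernel

set_option maxRecDepth 1000000 in
theorem relc_45_0 : fixPtsF W_45 31671 0 = true := by decide +kernel

set_option maxRecDepth 1000000 in
theorem inv_0_0 : invRowFI ctF 31671 0 0 31671 0 = true := by decide +kernel

set_option maxRecDepth 1000000 in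
theorem inv_1_0 : invRowFI ctF 31671 1 1 31671 0 = true := by decide +kernel

set_option maxRecDepth 1000000 in
theorem inv_5_0 : invRowFI ctF 31671 5 5 31671 0 = true := by decide +kernel

set_option maxRecDepth 1000000 in
theorem inv_9_0 : invRowFI ctF 31671 9 9 31671 0 = true := by decide +kernel

end Cfsg.Agent.Helper5.FiYATC
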