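import Cfsg.Agent.Helper5.FiYATCDatD
import Cfsg.Agent.Helper5.FiYATCDatT
import Cfsg.Agent.Helper5.TCIB

/-! kernel checks of the coset table: FiYATC -/

set_option autoImplicit false
set_option Elab.async false

namespace Cfsg.Agent.Helper5.FiYATC
open Cfsg.Agent.Helper5.TC Cfsg.Agent.Helper5.TCI

set_option maxRecDepth 1000000 in
theorem relc_8_0 : fixPtsF W_8 31671 0 = true := by decide +kernel

set_option maxRecDepth 1000000 in
theorem relc_30_0 : fixPtsF W_30 31671 0 = true := by decide +kernel

set_option maxRecDepth 1000000 in
theorem relc_2_0 : fixPtsF W_2 31671 0 = true := by decide +kernel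

set_option maxRecDepth 1000000 in
theorem relc_5_0 : fixPtsF W_5 31671 0 = true := by decide +kernel

set_option maxRecDepth 1000000 in
theorem relc_12_0 : fixPtsF W_12 31671 0 = true := by decide +kernel

set_option maxRecDepth 1000000 in
theorem relc_16_0 : fixPtsF W_16 31671 0 = true := by decide +kernel

set_option maxRecDepth 1000000 in
theorem relc_23_0 : fixPtsF W_23 31671 0 = true := by decide +kernel

set_option maxRecDepth 1000000 in
theorem relc_28_0 : fixPtsF W_28 31671 0 = true := by decide +kernel

set_option maxRecDepth 1000000 in
theorem relc_33_0 : fixPtsF W_33 31671 0 = true := by decide +kernel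

set_option maxRecDepth 1000000 in
theorem relc_39_0 : fixPtsF W_39 31671 0 = true := by decide +kernel

set_option maxRecDepth 1000000 in
theorem relc_44_0 : fixPtsF W_44 31671 0 = true := by decide +kernel

set_option maxRecDepth 1000000 in
theorem relc_53_0 : fixPtsF W_53 31671 0 = true := by decide +kernel

set_option maxRecDepth 1000000 in
theorem relc_56_5 : fixPtsF W_56 3174 15870 = true := by decide +kernel

set_option maxRecDepth 1000000 in
theorem relc_55_0 : fixPtsF W_55 2222 0 = true := by decide +kernel

set_option maxRecDepth 1000000 in
theorem relc_55_4 : fixPtsF W_55 2222 8888 = true := by decide +kernel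

set_option maxRecDepth 1000000 in
theorem relc_55_8 : fixPtsF W_55 2222 17776 = true := by decide +kernel

set_option maxRecDepth 1000000 in
theorem relc_55_12 : fixPtsF W_55 2222 26664 = true := by decide +kernel

set_option maxRecDepth 1000000 in
theorem relc_10_0 : fixPtsF W_10 31671 0 = true := by decide +kernel

set_option maxRecDepth 1000000 in
theorem relc_34_0 : fixPtsF W_34 31671 0 = true := by decide +kernel

set_option maxRecDepth 1000000 in
theorem relc_52_0 : fixPtsF W_52 31671 0 = true := by decide +kernel

set_option maxRecDepth 1000000 in
theorem inv_3_0 : invRowFI ctF 31671 3 3 31671 0 = true := by decide +kernel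

set_option maxRecDepth 1000000 in
theorem inv_7_0 : invRowFI ctF 31671 7 7 31671 0 = true := by decide +kernel

set_option maxRecDepth 1000000 in
theorem relc_55_14 : fixPtsF W_55 563 31108 = true := by decide +kernel

end Cfsg.Agent.Helper5.FiYATC
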