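import Cfsg.Agent.Helper5.FiYATCDatD
import Cfsg.Agent.Helper5.FiYATCDatT
import Cfsg.Agent.Helper5.TCIB

/-! kernel checks of the coset table: FiYATC -/

set_option autoImplicit false
set_option Elab.async false

namespace Cfsg.Agent.Helper5.FiYATC
open Cfsg.Agent.Helper5.TC Cfsg.Agent.Helper5.TCI

set_option maxRecDepth 1000000 in
theorem relc_11_0 : fixPtsF W_11 31671 0 = true := by decide +kernel

set_option maxRecDepth 1000000 in
theorem relc_35_0 : fixPtsF W_35 31671 0 = true := by decide +kernel

set_option maxRecDepth 1000000 in
theorem relc_3_0 : fixPtsF W_3 31671 0 = true := by decide +kernel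

set_option maxRecDepth 1000000 in
theorem relc_6_0 : fixPtsF W_6 31671 0 = true := by decide +kernel

set_option maxRecDepth 1000000 in
theorem relc_13_0 : fixPtsF W_13 31671 0 = true := by decide +kernel

set_option maxRecDepth 1000000 in
theorem relc_17_0 : fixPtsF W_17 31671 0 = true := by decide +kernel

set_option maxRecDepth 1000000 in
theorem relc_24_0 : fixPtsF W_24 31671 0 = true := by decide +kernel

set_option maxRecDepth 1000000 in
theorem relc_29_0 : fixPtsF W_29 31671 0 = true := by decide +kernel

set_option maxRecDepth 1000000 in
theorem relc_36_0 : fixPtsF W_36 31671 0 = true := by decide +kernel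

set_option maxRecDepth 1000000 in
theorem relc_41_0 : fixPtsF W_41 31671 0 = true := by decide +kernel

set_option maxRecDepth 1000000 in
theorem relc_47_0 : fixPtsF W_47 31671 0 = true := by decide +kernel

set_option maxRecDepth 1000000 in
theorem relc_56_0 : fixPtsF W_56 3174 0 = true := by decide +kernel

set_option maxRecDepth 1000000 in
theorem relc_56_3 : fixPtsF W_56 3174 9522 = true := by decide +kernel

set_option maxRecDepth 1000000 in
theorem relc_56_7 : fixPtsF W_56 3174 22218 = true := by decide +kernel

set_option maxRecDepth 1000000 in
theorem relc_55_2 : fixPtsF W_55 2222 4444 = true := by decide +kernel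

set_option maxRecDepth 1000000 in
theorem relc_55_6 : fixPtsF W_55 2222 13332 = true := by decide +kernel

set_option maxRecDepth 1000000 in
theorem relc_55_10 : fixPtsF W_55 2222 22220 = true := by decide +kernel

set_option maxRecDepth 1000000 in
theorem relc_56_9 : fixPtsF W_56 3105 28566 = true := by decide +kernel

set_option maxRecDepth 1000000 in
theorem relc_40_0 : fixPtsF W_40 31671 0 = true := by decide +kernel

set_option maxRecDepth 1000000 in
theorem relc_54_0 : fixPtsF W_54 31671 0 = true := by decide +kernel

set_option maxRecDepth 1000000 in
theorem inv_4_0 : invRowFI ctF 31671 4 4 31671 0 = true := by decide +kernel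

set_option maxRecDepth 1000000 in
theorem inv_8_0 : invRowFI ctF 31671 8 8 31671 0 = true := by decide +kernel

end Cfsg.Agent.Helper5.FiYATC
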