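import Cfsg.Agent.Helper5.FiYATCDatD
import Cfsg.Agent.Helper5.FiYATCDatT
import Cfsg.Agent.Helper5.TCIB

/-! kernel checks of the coset table: FiYATC -/

set_option autoImplicit false
set_option Elab.async false

namespace Cfsg.Agent.Helper5.FiYATC
open Cfsg.Agent.Helper5.TC Cfsg.Agent.Helper5.TCI

set_option maxRecDepth 1000000 in
theorem relc_20_0 : fixPtsF W_20 31671 0 = true := by decide +kernel

set_option maxRecDepth 1000000 in
theorem relc_46_0 : fixPtsF W_46 31671 0 = true := by decide +kernel

set_option maxRecDepth 1000000 in
theorem relc_4_0 : fixPtsF W_4 31671 0 = true := by decide +kernel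

set_option maxRecDepth 1000000 in
theorem relc_7_0 : fixPtsF W_7 31671 0 = true := by decide +kernel

set_option maxRecDepth 1000000 in
theorem relc_14_0 : fixPtsF W_14 31671 0 = true := by decide +kernel

set_option maxRecDepth 1000000 in
theorem relc_18_0 : fixPtsF W_18 31671 0 = true := by decide +kernel

set_option maxRecDepth 1000000 in
theorem relc_25_0 : fixPtsF W_25 31671 0 = true := by decide +kernel

set_option maxRecDepth 1000000 in
theorem relc_31_0 : fixPtsF W_31 31671 0 = true := by decide +kernel

set_option maxRecDepth 1000000 in
theorem relc_37_0 : fixPtsF W_37 31671 0 = true := by decide +kernel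

set_option maxRecDepth 1000000 in
theorem relc_42_0 : fixPtsF W_42 31671 0 = true := by decide +kernel

set_option maxRecDepth 1000000 in
theorem relc_48_0 : fixPtsF W_48 31671 0 = true := by decide +kernel

set_option maxRecDepth 1000000 in
theorem relc_56_1 : fixPtsF W_56 3174 3174 = true := by decide +kernel

set_option maxRecDepth 1000000 in
theorem relc_56_4 : fixPtsF W_56 3174 12696 = true := by decide +kernel

set_option maxRecDepth 1000000 in
theorem relc_56_8 : fixPtsF W_56 3174 25392 = true := by decide +kernel

set_option maxRecDepth 1000000 in
theorem relc_55_3 : fixPtsF W_55 2222 6666 = true := by decide +kernel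

set_option maxRecDepth 1000000 in
theorem relc_55_7 : fixPtsF W_55 2222 15554 = true := by decide +kernel

set_option maxRecDepth 1000000 in
theorem relc_55_11 : fixPtsF W_55 2222 24442 = true := by decide +kernel

set_option maxRecDepth 1000000 in
theorem relc_0_0 : fixPtsF W_0 31671 0 = true := by decide +kernel

set_option maxRecDepth 1000000 in
theorem relc_27_0 : fixPtsF W_27 31671 0 = true := by decide +kernel

set_option maxRecDepth 1000000 in
theorem relc_49_0 : fixPtsF W_49 31671 0 = true := by decide +kernel

set_option maxRecDepth 1000000 in
theorem inv_2_0 : invRowFI ctF 31671 2 2 31671 0 = true := by decide +kernel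

set_option maxRecDepth 1000000 in
theorem inv_6_0 : invRowFI ctF 31671 6 6 31671 0 = true := by decide +kernel

set_option maxRecDepth 1000000 in
theorem conn_0 : connF ctF 10 31671 0 = true := by decide +kernel

end Cfsg.Agent.Helper5.FiYATC
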