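import Cfsg.Agent.Helper5.FiYATCChkE0
import Cfsg.Agent.Helper5.FiYATCChkE1
import Cfsg.Agent.Helper5.FiYATCChkE2
import Cfsg.Agent.Helper5.FiYATCChkE3
import Cfsg.Agent.Helper5.FiYATCChkR0
import Cfsg.Agent.Helper5.FiYATCChkR1
import Cfsg.Agent.Helper5.FiYATCChkR2
import Cfsg.Agent.Helper5.FiYATCChkR3
import Cfsg.Agent.Helper5.FiYATCChkA
import Cfsg.Agent.Helper5.TCIB

/-! summary of the kernel checks: FiYATC -/

set_option autoImplicit false
set_option Elab.async false

namespace Cfsg.Agent.Helper5.FiYATC
open Cfsg.Agent.Helper5.TC Cfsg.Agent.Helper5.TCI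

theorem edgesx_0 : ∀ v, v < 51056 → edgeOKI iota E 0 v = true := by
  intro v hv
  rcases Nat.lt_or_ge v 30532 with h | h
  · rcases Nat.lt_or_ge v 12569 with h | h
    · rcases Nat.lt_or_ge v 4483 with h | h
      · rcases Nat.lt_or_ge v 2163 with h | h
        · exact edgesRangeI_spec iota E 0 2163 0 edges_0_0 v (by omega) (by omega)
        · exact edgesRangeI_spec iota E 0 2320 2163 edges_0_1 v (by omega) (by omega)
      · rcases Nat.lt_or_ge v 7014 with h | h
        · exact edgesRangeI_spec iota E 0 2531 4483 edges_0_2 v (by omega) (by omega)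
        · rcases Nat.lt_or_ge v 9705 with h | h
          · exact edgesRangeI_spec iota E 0 2691 7014 edges_0_3 v (by omega) (by omega)
          · exact edgesRangeI_spec iota E 0 2864 9705 edges_0_4 v (by omega) (by omega)
    · rcases Nat.lt_or_ge v 21538 with h | h
      · rcases Nat.lt_or_ge v 15475 with h | h
        · exact edgesRangeI_spec iota E 0 2906 12569 edges_0_5 v (by omega) (by omega)
        · rcases Nat.lt_or_ge v 18617 with h | h
          · exact edgesRangeI_spec iota E 0 3142 15475 edges_0_6 v (by omega) (by omega)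
          · exact edgesRangeI_spec iota E 0 2921 18617 edges_0_7 v (by omega) (by omega)
      · rcases Nat.lt_or_ge v 24855 with h | h
        · exact edgesRangeI_spec iota E 0 3317 21538 edges_0_8 v (by omega) (by omega)
        · rcases Nat.lt_or_ge v 27659 with h | h
          · exact edgesRangeI_spec iota E 0 2804 24855 edges_0_9 v (by omega) (by omega)
          · exact edgesRangeI_spec iota E 0 2873 27659 edges_0_10 v (by omega) (by omega)
  · rcases Nat.lt_or_ge v 41499 with h | h
    · rcases Nat.lt_or_ge v 36371 with h | h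
      · rcases Nat.lt_or_ge v 32984 with h | h
        · exact edgesRangeI_spec iota E 0 2452 30532 edges_0_11 v (by omega) (by omega)
        · rcases Nat.lt_or_ge v 34710 with h | h
          · exact edgesRangeI_spec iota E 0 1726 32984 edges_0_12 v (by omega) (by omega)
          · exact edgesRangeI_spec iota E 0 1661 34710 edges_0_13 v (by omega) (by omega)
      · rcases Nat.lt_or_ge v 38093 with h | h
        · exact edgesRangeI_spec iota E 0 1722 36371 edges_0_14 v (by omega) (by omega)
        · rcases Nat.lt_or_ge v 39799 with h | h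
          · exact edgesRangeI_spec iota E 0 1706 38093 edges_0_15 v (by omega) (by omega)
          · exact edgesRangeI_spec iota E 0 1700 39799 edges_0_16 v (by omega) (by omega)
    · rcases Nat.lt_or_ge v 47020 with h | h
      · rcases Nat.lt_or_ge v 43215 with h | h
        · exact edgesRangeI_spec iota E 0 1716 41499 edges_0_17 v (by omega) (by omega)
        · rcases Nat.lt_or_ge v 45112 with h | h
          · exact edgesRangeI_spec iota E 0 1897 43215 edges_0_18 v (by omega) (by omega)
          · exact edgesRangeI_spec iota E 0 1908 45112 edges_0_19 v (by omega) (by omega)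
      · rcases Nat.lt_or_ge v 48796 with h | h
        · exact edgesRangeI_spec iota E 0 1776 47020 edges_0_20 v (by omega) (by omega)
        · rcases Nat.lt_or_ge v 50424 with h | h
          · exact edgesRangeI_spec iota E 0 1628 48796 edges_0_21 v (by omega) (by omega)
          · exact edgesRangeI_spec iota E 0 632 50424 edges_0_22 v (by omega) (by omega)

theorem edgesx_1 : ∀ v, v < 51056 → edgeOKI iota E 1 v = true := by
  intro v hv
  rcases Nat.lt_or_ge v 31438 with h | h
  · rcases Nat.lt_or_ge v 12714 with h | h
    · rcases Nat.lt_or_ge v 4225 with h | h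
      · rcases Nat.lt_or_ge v 1980 with h | h
        · exact edgesRangeI_spec iota E 1 1980 0 edges_1_0 v (by omega) (by omega)
        · exact edgesRangeI_spec iota E 1 2245 1980 edges_1_1 v (by omega) (by omega)
      · rcases Nat.lt_or_ge v 6855 with h | h
        · exact edgesRangeI_spec iota E 1 2630 4225 edges_1_2 v (by omega) (by omega)
        · rcases Nat.lt_or_ge v 9713 with h | h
          · exact edgesRangeI_spec iota E 1 2858 6855 edges_1_3 v (by omega) (by omega)
          · exact edgesRangeI_spec iota E 1 3001 9713 edges_1_4 v (by omega) (by omega)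
    · rcases Nat.lt_or_ge v 22089 with h | h
      · rcases Nat.lt_or_ge v 15670 with h | h
        · exact edgesRangeI_spec iota E 1 2956 12714 edges_1_5 v (by omega) (by omega)
        · rcases Nat.lt_or_ge v 19073 with h | h
          · exact edgesRangeI_spec iota E 1 3403 15670 edges_1_6 v (by omega) (by omega)
          · exact edgesRangeI_spec iota E 1 3016 19073 edges_1_7 v (by omega) (by omega)
      · rcases Nat.lt_or_ge v 25657 with h | h
        · exact edgesRangeI_spec iota E 1 3568 22089 edges_1_8 v (by omega) (by omega)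
        · rcases Nat.lt_or_ge v 28199 with h | h
          · exact edgesRangeI_spec iota E 1 2542 25657 edges_1_9 v (by omega) (by omega)
          · exact edgesRangeI_spec iota E 1 3239 28199 edges_1_10 v (by omega) (by omega)
  · rcases Nat.lt_or_ge v 40404 with h | h
    · rcases Nat.lt_or_ge v 35247 with h | h
      · rcases Nat.lt_or_ge v 33498 with h | h
        · exact edgesRangeI_spec iota E 1 2060 31438 edges_1_11 v (by omega) (by omega)
        · exact edgesRangeI_spec iota E 1 1749 33498 edges_1_12 v (by omega) (by omega)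
      · rcases Nat.lt_or_ge v 36936 with h | h
        · exact edgesRangeI_spec iota E 1 1689 35247 edges_1_13 v (by omega) (by omega)
        · rcases Nat.lt_or_ge v 38659 with h | h
          · exact edgesRangeI_spec iota E 1 1723 36936 edges_1_14 v (by omega) (by omega)
          · exact edgesRangeI_spec iota E 1 1745 38659 edges_1_15 v (by omega) (by omega)
    · rcases Nat.lt_or_ge v 46072 with h | h
      · rcases Nat.lt_or_ge v 42212 with h | h
        · exact edgesRangeI_spec iota E 1 1808 40404 edges_1_16 v (by omega) (by omega)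
        · rcases Nat.lt_or_ge v 44142 with h | h
          · exact edgesRangeI_spec iota E 1 1930 42212 edges_1_17 v (by omega) (by omega)
          · exact edgesRangeI_spec iota E 1 1930 44142 edges_1_18 v (by omega) (by omega)
      · rcases Nat.lt_or_ge v 47797 with h | h
        · exact edgesRangeI_spec iota E 1 1725 46072 edges_1_19 v (by omega) (by omega)
        · rcases Nat.lt_or_ge v 49468 with h | h
          · exact edgesRangeI_spec iota E 1 1671 47797 edges_1_20 v (by omega) (by omega)
          · exact edgesRangeI_spec iota E 1 1588 49468 edges_1_21 v (by omega) (by omega)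

theorem edgesx_2 : ∀ v, v < 51056 → edgeOKI iota E 2 v = true := by
  intro v hv
  rcases Nat.lt_or_ge v 30566 with h | h
  · rcases Nat.lt_or_ge v 12603 with h | h
    · rcases Nat.lt_or_ge v 4158 with h | h
      · rcases Nat.lt_or_ge v 1918 with h | h
        · exact edgesRangeI_spec iota E 2 1918 0 edges_2_0 v (by omega) (by omega)
        · exact edgesRangeI_spec iota E 2 2240 1918 edges_2_1 v (by omega) (by omega)
      · rcases Nat.lt_or_ge v 6777 with h | h
        · exact edgesRangeI_spec iota E 2 2619 4158 edges_2_2 v (by omega) (by omega)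
        · rcases Nat.lt_or_ge v 9594 with h | h
          · exact edgesRangeI_spec iota E 2 2817 6777 edges_2_3 v (by omega) (by omega)
          · exact edgesRangeI_spec iota E 2 3009 9594 edges_2_4 v (by omega) (by omega)
    · rcases Nat.lt_or_ge v 21840 with h | h
      · rcases Nat.lt_or_ge v 15585 with h | h
        · exact edgesRangeI_spec iota E 2 2982 12603 edges_2_5 v (by omega) (by omega)
        · rcases Nat.lt_or_ge v 18887 with h | h
          · exact edgesRangeI_spec iota E 2 3302 15585 edges_2_6 v (by omega) (by omega)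
          · exact edgesRangeI_spec iota E 2 2953 18887 edges_2_7 v (by omega) (by omega)
      · rcases Nat.lt_or_ge v 25117 with h | h
        · exact edgesRangeI_spec iota E 2 3277 21840 edges_2_8 v (by omega) (by omega)
        · rcases Nat.lt_or_ge v 27776 with h | h
          · exact edgesRangeI_spec iota E 2 2659 25117 edges_2_9 v (by omega) (by omega)
          · exact edgesRangeI_spec iota E 2 2790 27776 edges_2_10 v (by omega) (by omega)
  · rcases Nat.lt_or_ge v 40302 with h | h
    · rcases Nat.lt_or_ge v 34851 with h | h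
      · rcases Nat.lt_or_ge v 33122 with h | h
        · exact edgesRangeI_spec iota E 2 2556 30566 edges_2_11 v (by omega) (by omega)
        · exact edgesRangeI_spec iota E 2 1729 33122 edges_2_12 v (by omega) (by omega)
      · rcases Nat.lt_or_ge v 36609 with h | h
        · exact edgesRangeI_spec iota E 2 1758 34851 edges_2_13 v (by omega) (by omega)
        · rcases Nat.lt_or_ge v 38431 with h | h
          · exact edgesRangeI_spec iota E 2 1822 36609 edges_2_14 v (by omega) (by omega)
          · exact edgesRangeI_spec iota E 2 1871 38431 edges_2_15 v (by omega) (by omega)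
    · rcases Nat.lt_or_ge v 45911 with h | h
      · rcases Nat.lt_or_ge v 42198 with h | h
        · exact edgesRangeI_spec iota E 2 1896 40302 edges_2_16 v (by omega) (by omega)
        · rcases Nat.lt_or_ge v 44092 with h | h
          · exact edgesRangeI_spec iota E 2 1894 42198 edges_2_17 v (by omega) (by omega)
          · exact edgesRangeI_spec iota E 2 1819 44092 edges_2_18 v (by omega) (by omega)
      · rcases Nat.lt_or_ge v 47709 with h | h
        · exact edgesRangeI_spec iota E 2 1798 45911 edges_2_19 v (by omega) (by omega)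
        · rcases Nat.lt_or_ge v 49629 with h | h
          · exact edgesRangeI_spec iota E 2 1920 47709 edges_2_20 v (by omega) (by omega)
          · exact edgesRangeI_spec iota E 2 1427 49629 edges_2_21 v (by omega) (by omega)

theorem edgesx_3 : ∀ v, v < 51056 → edgeOKI iota E 3 v = true := by
  intro v hv
  rcases Nat.lt_or_ge v 30658 with h | h
  · rcases Nat.lt_or_ge v 12155 with h | h
    · rcases Nat.lt_or_ge v 4087 with h | h
      · rcases Nat.lt_or_ge v 1908 with h | h
        · exact edgesRangeI_spec iota E 3 1908 0 edges_3_0 v (by omega) (by omega)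
        · exact edgesRangeI_spec iota E 3 2179 1908 edges_3_1 v (by omega) (by omega)
      · rcases Nat.lt_or_ge v 6579 with h | h
        · exact edgesRangeI_spec iota E 3 2492 4087 edges_3_2 v (by omega) (by omega)
        · rcases Nat.lt_or_ge v 9333 with h | h
          · exact edgesRangeI_spec iota E 3 2754 6579 edges_3_3 v (by omega) (by omega)
          · exact edgesRangeI_spec iota E 3 2822 9333 edges_3_4 v (by omega) (by omega)
    · rcases Nat.lt_or_ge v 21325 with h | h
      · rcases Nat.lt_or_ge v 15256 with h | h
        · exact edgesRangeI_spec iota E 3 3101 12155 edges_3_5 v (by omega) (by omega)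
        · rcases Nat.lt_or_ge v 18502 with h | h
          · exact edgesRangeI_spec iota E 3 3246 15256 edges_3_6 v (by omega) (by omega)
          · exact edgesRangeI_spec iota E 3 2823 18502 edges_3_7 v (by omega) (by omega)
      · rcases Nat.lt_or_ge v 24741 with h | h
        · exact edgesRangeI_spec iota E 3 3416 21325 edges_3_8 v (by omega) (by omega)
        · rcases Nat.lt_or_ge v 27558 with h | h
          · exact edgesRangeI_spec iota E 3 2817 24741 edges_3_9 v (by omega) (by omega)
          · exact edgesRangeI_spec iota E 3 3100 27558 edges_3_10 v (by omega) (by omega)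
  · rcases Nat.lt_or_ge v 40836 with h | h
    · rcases Nat.lt_or_ge v 35119 with h | h
      · rcases Nat.lt_or_ge v 33200 with h | h
        · exact edgesRangeI_spec iota E 3 2542 30658 edges_3_11 v (by omega) (by omega)
        · exact edgesRangeI_spec iota E 3 1919 33200 edges_3_12 v (by omega) (by omega)
      · rcases Nat.lt_or_ge v 37076 with h | h
        · exact edgesRangeI_spec iota E 3 1957 35119 edges_3_13 v (by omega) (by omega)
        · rcases Nat.lt_or_ge v 38984 with h | h
          · exact edgesRangeI_spec iota E 3 1908 37076 edges_3_14 v (by omega) (by omega)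
          · exact edgesRangeI_spec iota E 3 1852 38984 edges_3_15 v (by omega) (by omega)
    · rcases Nat.lt_or_ge v 46413 with h | h
      · rcases Nat.lt_or_ge v 42631 with h | h
        · exact edgesRangeI_spec iota E 3 1795 40836 edges_3_16 v (by omega) (by omega)
        · rcases Nat.lt_or_ge v 44466 with h | h
          · exact edgesRangeI_spec iota E 3 1835 42631 edges_3_17 v (by omega) (by omega)
          · exact edgesRangeI_spec iota E 3 1947 44466 edges_3_18 v (by omega) (by omega)
      · rcases Nat.lt_or_ge v 48390 with h | h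
        · exact edgesRangeI_spec iota E 3 1977 46413 edges_3_19 v (by omega) (by omega)
        · rcases Nat.lt_or_ge v 50185 with h | h
          · exact edgesRangeI_spec iota E 3 1795 48390 edges_3_20 v (by omega) (by omega)
          · exact edgesRangeI_spec iota E 3 871 50185 edges_3_21 v (by omega) (by omega)

theorem edgesx_4 : ∀ v, v < 51056 → edgeOKI iota E 4 v = true := by
  intro v hv
  rcases Nat.lt_or_ge v 30607 with h | h
  · rcases Nat.lt_or_ge v 12189 with h | h
    · rcases Nat.lt_or_ge v 3964 with h | h
      · rcases Nat.lt_or_ge v 1829 with h | h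
        · exact edgesRangeI_spec iota E 4 1829 0 edges_4_0 v (by omega) (by omega)
        · exact edgesRangeI_spec iota E 4 2135 1829 edges_4_1 v (by omega) (by omega)
      · rcases Nat.lt_or_ge v 6481 with h | h
        · exact edgesRangeI_spec iota E 4 2517 3964 edges_4_2 v (by omega) (by omega)
        · rcases Nat.lt_or_ge v 9238 with h | h
          · exact edgesRangeI_spec iota E 4 2757 6481 edges_4_3 v (by omega) (by omega)
          · exact edgesRangeI_spec iota E 4 2951 9238 edges_4_4 v (by omega) (by omega)
    · rcases Nat.lt_or_ge v 21549 with h | h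
      · rcases Nat.lt_or_ge v 15363 with h | h
        · exact edgesRangeI_spec iota E 4 3174 12189 edges_4_5 v (by omega) (by omega)
        · rcases Nat.lt_or_ge v 18540 with h | h
          · exact edgesRangeI_spec iota E 4 3177 15363 edges_4_6 v (by omega) (by omega)
          · exact edgesRangeI_spec iota E 4 3009 18540 edges_4_7 v (by omega) (by omega)
      · rcases Nat.lt_or_ge v 24737 with h | h
        · exact edgesRangeI_spec iota E 4 3188 21549 edges_4_8 v (by omega) (by omega)
        · rcases Nat.lt_or_ge v 27721 with h | h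
          · exact edgesRangeI_spec iota E 4 2984 24737 edges_4_9 v (by omega) (by omega)
          · exact edgesRangeI_spec iota E 4 2886 27721 edges_4_10 v (by omega) (by omega)
  · rcases Nat.lt_or_ge v 40498 with h | h
    · rcases Nat.lt_or_ge v 35071 with h | h
      · rcases Nat.lt_or_ge v 33205 with h | h
        · exact edgesRangeI_spec iota E 4 2598 30607 edges_4_11 v (by omega) (by omega)
        · exact edgesRangeI_spec iota E 4 1866 33205 edges_4_12 v (by omega) (by omega)
      · rcases Nat.lt_or_ge v 36898 with h | h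
        · exact edgesRangeI_spec iota E 4 1827 35071 edges_4_13 v (by omega) (by omega)
        · rcases Nat.lt_or_ge v 38713 with h | h
          · exact edgesRangeI_spec iota E 4 1815 36898 edges_4_14 v (by omega) (by omega)
          · exact edgesRangeI_spec iota E 4 1785 38713 edges_4_15 v (by omega) (by omega)
    · rcases Nat.lt_or_ge v 46123 with h | h
      · rcases Nat.lt_or_ge v 42256 with h | h
        · exact edgesRangeI_spec iota E 4 1758 40498 edges_4_16 v (by omega) (by omega)
        · rcases Nat.lt_or_ge v 44082 with h | h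
          · exact edgesRangeI_spec iota E 4 1826 42256 edges_4_17 v (by omega) (by omega)
          · exact edgesRangeI_spec iota E 4 2041 44082 edges_4_18 v (by omega) (by omega)
      · rcases Nat.lt_or_ge v 48043 with h | h
        · exact edgesRangeI_spec iota E 4 1920 46123 edges_4_19 v (by omega) (by omega)
        · rcases Nat.lt_or_ge v 49888 with h | h
          · exact edgesRangeI_spec iota E 4 1845 48043 edges_4_20 v (by omega) (by omega)
          · exact edgesRangeI_spec iota E 4 1168 49888 edges_4_21 v (by omega) (by omega)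

theorem edgesx_5 : ∀ v, v < 51056 → edgeOKI iota E 5 v = true := by
  intro v hv
  rcases Nat.lt_or_ge v 30335 with h | h
  · rcases Nat.lt_or_ge v 11513 with h | h
    · rcases Nat.lt_or_ge v 3778 with h | h
      · rcases Nat.lt_or_ge v 1703 with h | h
        · exact edgesRangeI_spec iota E 5 1703 0 edges_5_0 v (by omega) (by omega)
        · exact edgesRangeI_spec iota E 5 2075 1703 edges_5_1 v (by omega) (by omega)
      · rcases Nat.lt_or_ge v 6144 with h | h
        · exact edgesRangeI_spec iota E 5 2366 3778 edges_5_2 v (by omega) (by omega)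
        · rcases Nat.lt_or_ge v 8746 with h | h
          · exact edgesRangeI_spec iota E 5 2602 6144 edges_5_3 v (by omega) (by omega)
          · exact edgesRangeI_spec iota E 5 2767 8746 edges_5_4 v (by omega) (by omega)
    · rcases Nat.lt_or_ge v 20906 with h | h
      · rcases Nat.lt_or_ge v 14518 with h | h
        · exact edgesRangeI_spec iota E 5 3005 11513 edges_5_5 v (by omega) (by omega)
        · rcases Nat.lt_or_ge v 17704 with h | h
          · exact edgesRangeI_spec iota E 5 3186 14518 edges_5_6 v (by omega) (by omega)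
          · exact edgesRangeI_spec iota E 5 3202 17704 edges_5_7 v (by omega) (by omega)
      · rcases Nat.lt_or_ge v 24179 with h | h
        · exact edgesRangeI_spec iota E 5 3273 20906 edges_5_8 v (by omega) (by omega)
        · rcases Nat.lt_or_ge v 27258 with h | h
          · exact edgesRangeI_spec iota E 5 3079 24179 edges_5_9 v (by omega) (by omega)
          · exact edgesRangeI_spec iota E 5 3077 27258 edges_5_10 v (by omega) (by omega)
  · rcases Nat.lt_or_ge v 41591 with h | h
    · rcases Nat.lt_or_ge v 36527 with h | h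
      · rcases Nat.lt_or_ge v 32997 with h | h
        · exact edgesRangeI_spec iota E 5 2662 30335 edges_5_11 v (by omega) (by omega)
        · rcases Nat.lt_or_ge v 34848 with h | h
          · exact edgesRangeI_spec iota E 5 1851 32997 edges_5_12 v (by omega) (by omega)
          · exact edgesRangeI_spec iota E 5 1679 34848 edges_5_13 v (by omega) (by omega)
      · rcases Nat.lt_or_ge v 38210 with h | h
        · exact edgesRangeI_spec iota E 5 1683 36527 edges_5_14 v (by omega) (by omega)
        · rcases Nat.lt_or_ge v 39892 with h | h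
          · exact edgesRangeI_spec iota E 5 1682 38210 edges_5_15 v (by omega) (by omega)
          · exact edgesRangeI_spec iota E 5 1699 39892 edges_5_16 v (by omega) (by omega)
    · rcases Nat.lt_or_ge v 47191 with h | h
      · rcases Nat.lt_or_ge v 43328 with h | h
        · exact edgesRangeI_spec iota E 5 1737 41591 edges_5_17 v (by omega) (by omega)
        · rcases Nat.lt_or_ge v 45219 with h | h
          · exact edgesRangeI_spec iota E 5 1891 43328 edges_5_18 v (by omega) (by omega)
          · exact edgesRangeI_spec iota E 5 1972 45219 edges_5_19 v (by omega) (by omega)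
      · rcases Nat.lt_or_ge v 49101 with h | h
        · exact edgesRangeI_spec iota E 5 1910 47191 edges_5_20 v (by omega) (by omega)
        · rcases Nat.lt_or_ge v 50969 with h | h
          · exact edgesRangeI_spec iota E 5 1868 49101 edges_5_21 v (by omega) (by omega)
          · exact edgesRangeI_spec iota E 5 87 50969 edges_5_22 v (by omega) (by omega)

theorem edgesx_6 : ∀ v, v < 51056 → edgeOKI iota E 6 v = true := by
  intro v hv
  rcases Nat.lt_or_ge v 29976 with h | h
  · rcases Nat.lt_or_ge v 12472 with h | h
    · rcases Nat.lt_or_ge v 4068 with h | h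
      · rcases Nat.lt_or_ge v 1909 with h | h
        · exact edgesRangeI_spec iota E 6 1909 0 edges_6_0 v (by omega) (by omega)
        · exact edgesRangeI_spec iota E 6 2159 1909 edges_6_1 v (by omega) (by omega)
      · rcases Nat.lt_or_ge v 6575 with h | h
        · exact edgesRangeI_spec iota E 6 2507 4068 edges_6_2 v (by omega) (by omega)
        · rcases Nat.lt_or_ge v 9388 with h | h
          · exact edgesRangeI_spec iota E 6 2813 6575 edges_6_3 v (by omega) (by omega)
          · exact edgesRangeI_spec iota E 6 3084 9388 edges_6_4 v (by omega) (by omega)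
    · rcases Nat.lt_or_ge v 19392 with h | h
      · rcases Nat.lt_or_ge v 15717 with h | h
        · exact edgesRangeI_spec iota E 6 3245 12472 edges_6_5 v (by omega) (by omega)
        · exact edgesRangeI_spec iota E 6 3675 15717 edges_6_6 v (by omega) (by omega)
      · rcases Nat.lt_or_ge v 23013 with h | h
        · exact edgesRangeI_spec iota E 6 3621 19392 edges_6_7 v (by omega) (by omega)
        · rcases Nat.lt_or_ge v 26684 with h | h
          · exact edgesRangeI_spec iota E 6 3671 23013 edges_6_8 v (by omega) (by omega)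
          · exact edgesRangeI_spec iota E 6 3292 26684 edges_6_9 v (by omega) (by omega)
  · rcases Nat.lt_or_ge v 41073 with h | h
    · rcases Nat.lt_or_ge v 35101 with h | h
      · rcases Nat.lt_or_ge v 32968 with h | h
        · exact edgesRangeI_spec iota E 6 2992 29976 edges_6_10 v (by omega) (by omega)
        · exact edgesRangeI_spec iota E 6 2133 32968 edges_6_11 v (by omega) (by omega)
      · rcases Nat.lt_or_ge v 37101 with h | h
        · exact edgesRangeI_spec iota E 6 2000 35101 edges_6_12 v (by omega) (by omega)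
        · rcases Nat.lt_or_ge v 39088 with h | h
          · exact edgesRangeI_spec iota E 6 1987 37101 edges_6_13 v (by omega) (by omega)
          · exact edgesRangeI_spec iota E 6 1985 39088 edges_6_14 v (by omega) (by omega)
    · rcases Nat.lt_or_ge v 47054 with h | h
      · rcases Nat.lt_or_ge v 43018 with h | h
        · exact edgesRangeI_spec iota E 6 1945 41073 edges_6_15 v (by omega) (by omega)
        · rcases Nat.lt_or_ge v 45041 with h | h
          · exact edgesRangeI_spec iota E 6 2023 43018 edges_6_16 v (by omega) (by omega)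
          · exact edgesRangeI_spec iota E 6 2013 45041 edges_6_17 v (by omega) (by omega)
      · rcases Nat.lt_or_ge v 48943 with h | h
        · exact edgesRangeI_spec iota E 6 1889 47054 edges_6_18 v (by omega) (by omega)
        · rcases Nat.lt_or_ge v 50778 with h | h
          · exact edgesRangeI_spec iota E 6 1835 48943 edges_6_19 v (by omega) (by omega)
          · exact edgesRangeI_spec iota E 6 278 50778 edges_6_20 v (by omega) (by omega)

theorem edgesx_7 : ∀ v, v < 51056 → edgeOKI iota E 7 v = true := by
  intro v hv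
  rcases Nat.lt_or_ge v 27404 with h | h
  · rcases Nat.lt_or_ge v 9729 with h | h
    · rcases Nat.lt_or_ge v 4290 with h | h
      · rcases Nat.lt_or_ge v 1940 with h | h
        · exact edgesRangeI_spec iota E 7 1940 0 edges_7_0 v (by omega) (by omega)
        · exact edgesRangeI_spec iota E 7 2350 1940 edges_7_1 v (by omega) (by omega)
      · rcases Nat.lt_or_ge v 6899 with h | h
        · exact edgesRangeI_spec iota E 7 2609 4290 edges_7_2 v (by omega) (by omega)
        · exact edgesRangeI_spec iota E 7 2830 6899 edges_7_3 v (by omega) (by omega)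
    · rcases Nat.lt_or_ge v 16118 with h | h
      · rcases Nat.lt_or_ge v 12889 with h | h
        · exact edgesRangeI_spec iota E 7 3160 9729 edges_7_4 v (by omega) (by omega)
        · exact edgesRangeI_spec iota E 7 3229 12889 edges_7_5 v (by omega) (by omega)
      · rcases Nat.lt_or_ge v 19760 with h | h
        · exact edgesRangeI_spec iota E 7 3642 16118 edges_7_6 v (by omega) (by omega)
        · rcases Nat.lt_or_ge v 23506 with h | h
          · exact edgesRangeI_spec iota E 7 3746 19760 edges_7_7 v (by omega) (by omega)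
          · exact edgesRangeI_spec iota E 7 3898 23506 edges_7_8 v (by omega) (by omega)
  · rcases Nat.lt_or_ge v 41419 with h | h
    · rcases Nat.lt_or_ge v 34136 with h | h
      · rcases Nat.lt_or_ge v 31330 with h | h
        · exact edgesRangeI_spec iota E 7 3926 27404 edges_7_9 v (by omega) (by omega)
        · exact edgesRangeI_spec iota E 7 2806 31330 edges_7_10 v (by omega) (by omega)
      · rcases Nat.lt_or_ge v 36583 with h | h
        · exact edgesRangeI_spec iota E 7 2447 34136 edges_7_11 v (by omega) (by omega)
        · rcases Nat.lt_or_ge v 39038 with h | h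
          · exact edgesRangeI_spec iota E 7 2455 36583 edges_7_12 v (by omega) (by omega)
          · exact edgesRangeI_spec iota E 7 2381 39038 edges_7_13 v (by omega) (by omega)
    · rcases Nat.lt_or_ge v 46373 with h | h
      · rcases Nat.lt_or_ge v 43891 with h | h
        · exact edgesRangeI_spec iota E 7 2472 41419 edges_7_14 v (by omega) (by omega)
        · exact edgesRangeI_spec iota E 7 2482 43891 edges_7_15 v (by omega) (by omega)
      · rcases Nat.lt_or_ge v 48560 with h | h
        · exact edgesRangeI_spec iota E 7 2187 46373 edges_7_16 v (by omega) (by omega)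
        · rcases Nat.lt_or_ge v 50540 with h | h
          · exact edgesRangeI_spec iota E 7 1980 48560 edges_7_17 v (by omega) (by omega)
          · exact edgesRangeI_spec iota E 7 516 50540 edges_7_18 v (by omega) (by omega)

theorem edgesx_8 : ∀ v, v < 51056 → edgeOKI iota E 8 v = true := by
  intro v hv
  rcases Nat.lt_or_ge v 27726 with h | h
  · rcases Nat.lt_or_ge v 12151 with h | h
    · rcases Nat.lt_or_ge v 4804 with h | h
      · rcases Nat.lt_or_ge v 2409 with h | h
        · exact edgesRangeI_spec iota E 8 2409 0 edges_8_0 v (by omega) (by omega)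
        · exact edgesRangeI_spec iota E 8 2395 2409 edges_8_1 v (by omega) (by omega)
      · rcases Nat.lt_or_ge v 7239 with h | h
        · exact edgesRangeI_spec iota E 8 2435 4804 edges_8_2 v (by omega) (by omega)
        · rcases Nat.lt_or_ge v 9740 with h | h
          · exact edgesRangeI_spec iota E 8 2501 7239 edges_8_3 v (by omega) (by omega)
          · exact edgesRangeI_spec iota E 8 2411 9740 edges_8_4 v (by omega) (by omega)
    · rcases Nat.lt_or_ge v 19885 with h | h
      · rcases Nat.lt_or_ge v 14691 with h | h
        · exact edgesRangeI_spec iota E 8 2540 12151 edges_8_5 v (by omega) (by omega)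
        · rcases Nat.lt_or_ge v 17262 with h | h
          · exact edgesRangeI_spec iota E 8 2571 14691 edges_8_6 v (by omega) (by omega)
          · exact edgesRangeI_spec iota E 8 2623 17262 edges_8_7 v (by omega) (by omega)
      · rcases Nat.lt_or_ge v 22585 with h | h
        · exact edgesRangeI_spec iota E 8 2700 19885 edges_8_8 v (by omega) (by omega)
        · rcases Nat.lt_or_ge v 25270 with h | h
          · exact edgesRangeI_spec iota E 8 2685 22585 edges_8_9 v (by omega) (by omega)
          · exact edgesRangeI_spec iota E 8 2456 25270 edges_8_10 v (by omega) (by omega)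
  · rcases Nat.lt_or_ge v 38376 with h | h
    · rcases Nat.lt_or_ge v 32758 with h | h
      · rcases Nat.lt_or_ge v 30321 with h | h
        · exact edgesRangeI_spec iota E 8 2595 27726 edges_8_11 v (by omega) (by omega)
        · exact edgesRangeI_spec iota E 8 2437 30321 edges_8_12 v (by omega) (by omega)
      · rcases Nat.lt_or_ge v 34541 with h | h
        · exact edgesRangeI_spec iota E 8 1783 32758 edges_8_13 v (by omega) (by omega)
        · rcases Nat.lt_or_ge v 36454 with h | h
          · exact edgesRangeI_spec iota E 8 1913 34541 edges_8_14 v (by omega) (by omega)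
          · exact edgesRangeI_spec iota E 8 1922 36454 edges_8_15 v (by omega) (by omega)
    · rcases Nat.lt_or_ge v 44028 with h | h
      · rcases Nat.lt_or_ge v 40243 with h | h
        · exact edgesRangeI_spec iota E 8 1867 38376 edges_8_16 v (by omega) (by omega)
        · rcases Nat.lt_or_ge v 42089 with h | h
          · exact edgesRangeI_spec iota E 8 1846 40243 edges_8_17 v (by omega) (by omega)
          · exact edgesRangeI_spec iota E 8 1939 42089 edges_8_18 v (by omega) (by omega)
      · rcases Nat.lt_or_ge v 46219 with h | h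
        · exact edgesRangeI_spec iota E 8 2191 44028 edges_8_19 v (by omega) (by omega)
        · rcases Nat.lt_or_ge v 48648 with h | h
          · exact edgesRangeI_spec iota E 8 2429 46219 edges_8_20 v (by omega) (by omega)
          · exact edgesRangeI_spec iota E 8 2408 48648 edges_8_21 v (by omega) (by omega)

theorem edgesx_9 : ∀ v, v < 51056 → edgeOKI iota E 9 v = true := by
  intro v hv
  rcases Nat.lt_or_ge v 30580 with h | h
  · rcases Nat.lt_or_ge v 11337 with h | h
    · rcases Nat.lt_or_ge v 2660 with h | h
      · exact edgesRangeI_spec iota E 9 2660 0 edges_9_0 v (by omega) (by omega)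
      · rcases Nat.lt_or_ge v 6684 with h | h
        · exact edgesRangeI_spec iota E 9 4024 2660 edges_9_1 v (by omega) (by omega)
        · exact edgesRangeI_spec iota E 9 4653 6684 edges_9_2 v (by omega) (by omega)
    · rcases Nat.lt_or_ge v 21294 with h | h
      · rcases Nat.lt_or_ge v 16215 with h | h
        · exact edgesRangeI_spec iota E 9 4878 11337 edges_9_3 v (by omega) (by omega)
        · exact edgesRangeI_spec iota E 9 5079 16215 edges_9_4 v (by omega) (by omega)
      · rcases Nat.lt_or_ge v 26460 with h | h
        · exact edgesRangeI_spec iota E 9 5166 21294 edges_9_5 v (by omega) (by omega)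
        · exact edgesRangeI_spec iota E 9 4120 26460 edges_9_6 v (by omega) (by omega)
  · rcases Nat.lt_or_ge v 42513 with h | h
    · rcases Nat.lt_or_ge v 36971 with h | h
      · rcases Nat.lt_or_ge v 34067 with h | h
        · exact edgesRangeI_spec iota E 9 3487 30580 edges_9_7 v (by omega) (by omega)
        · exact edgesRangeI_spec iota E 9 2904 34067 edges_9_8 v (by omega) (by omega)
      · rcases Nat.lt_or_ge v 39795 with h | h
        · exact edgesRangeI_spec iota E 9 2824 36971 edges_9_9 v (by omega) (by omega)
        · exact edgesRangeI_spec iota E 9 2718 39795 edges_9_10 v (by omega) (by omega)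
    · rcases Nat.lt_or_ge v 47386 with h | h
      · rcases Nat.lt_or_ge v 45016 with h | h
        · exact edgesRangeI_spec iota E 9 2503 42513 edges_9_11 v (by omega) (by omega)
        · exact edgesRangeI_spec iota E 9 2370 45016 edges_9_12 v (by omega) (by omega)
      · rcases Nat.lt_or_ge v 49438 with h | h
        · exact edgesRangeI_spec iota E 9 2052 47386 edges_9_13 v (by omega) (by omega)
        · exact edgesRangeI_spec iota E 9 1618 49438 edges_9_14 v (by omega) (by omega)

theorem hA0 : ∀ v, v < 51056 → aliasOK E v = true := by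
  intro v hv
  rcases Nat.lt_or_ge v 23488 with h | h
  · rcases Nat.lt_or_ge v 11656 with h | h
    · rcases Nat.lt_or_ge v 4744 with h | h
      · exact aliasRange_spec E 4744 0 aliases_0 v (by omega) (by omega)
      · rcases Nat.lt_or_ge v 8252 with h | h
        · exact aliasRange_spec E 3508 4744 aliases_1 v (by omega) (by omega)
        · exact aliasRange_spec E 3404 8252 aliases_2 v (by omega) (by omega)
    · rcases Nat.lt_or_ge v 18074 with h | h
      · rcases Nat.lt_or_ge v 14919 with h | h
        · exact aliasRange_spec E 3263 11656 aliases_3 v (by omega) (by omega)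
        · exact aliasRange_spec E 3155 14919 aliases_4 v (by omega) (by omega)
      · rcases Nat.lt_or_ge v 21230 with h | h
        · exact aliasRange_spec E 3156 18074 aliases_5 v (by omega) (by omega)
        · exact aliasRange_spec E 2258 21230 aliases_6 v (by omega) (by omega)
  · rcases Nat.lt_or_ge v 30458 with h | h
    · rcases Nat.lt_or_ge v 25784 with h | h
      · exact aliasRange_spec E 2296 23488 aliases_7 v (by omega) (by omega)
      · rcases Nat.lt_or_ge v 28288 with h | h
        · exact aliasRange_spec E 2504 25784 aliases_8 v (by omega) (by omega)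
        · exact aliasRange_spec E 2170 28288 aliases_9 v (by omega) (by omega)
    · rcases Nat.lt_or_ge v 41306 with h | h
      · rcases Nat.lt_or_ge v 33306 with h | h
        · exact aliasRange_spec E 2848 30458 aliases_10 v (by omega) (by omega)
        · exact aliasRange_spec E 8000 33306 aliases_11 v (by omega) (by omega)
      · rcases Nat.lt_or_ge v 49306 with h | h
        · exact aliasRange_spec E 8000 41306 aliases_12 v (by omega) (by omega)
        · exact aliasRange_spec E 1750 49306 aliases_13 v (by omega) (by omega)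

theorem hrows0 : ∀ v, v < 51056 → tb RS v = true → rowOK2 E RS v E.D.k = true := by
  intro v hv
  rcases Nat.lt_or_ge v 25500 with h | h
  · rcases Nat.lt_or_ge v 12000 with h | h
    · rcases Nat.lt_or_ge v 6000 with h | h
      · rcases Nat.lt_or_ge v 3000 with h | h
        · rcases Nat.lt_or_ge v 1500 with h | h
          · exact rowsRange_spec E RS 1500 0 rows_0 v (by omega) (by omega)
          · exact rowsRange_spec E RS 1500 1500 rows_1 v (by omega) (by omega)
        · rcases Nat.lt_or_ge v 4500 with h | h
          · exact rowsRange_spec E RS 1500 3000 rows_2 v (by omega) (by omega)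
          · exact rowsRange_spec E RS 1500 4500 rows_3 v (by omega) (by omega)
      · rcases Nat.lt_or_ge v 9000 with h | h
        · rcases Nat.lt_or_ge v 7500 with h | h
          · exact rowsRange_spec E RS 1500 6000 rows_4 v (by omega) (by omega)
          · exact rowsRange_spec E RS 1500 7500 rows_5 v (by omega) (by omega)
        · rcases Nat.lt_or_ge v 10500 with h | h
          · exact rowsRange_spec E RS 1500 9000 rows_6 v (by omega) (by omega)
          · exact rowsRange_spec E RS 1500 10500 rows_7 v (by omega) (by omega)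
    · rcases Nat.lt_or_ge v 18000 with h | h
      · rcases Nat.lt_or_ge v 15000 with h | h
        · rcases Nat.lt_or_ge v 13500 with h | h
          · exact rowsRange_spec E RS 1500 12000 rows_8 v (by omega) (by omega)
          · exact rowsRange_spec E RS 1500 13500 rows_9 v (by omega) (by omega)
        · rcases Nat.lt_or_ge v 16500 with h | h
          · exact rowsRange_spec E RS 1500 15000 rows_10 v (by omega) (by omega)
          · exact rowsRange_spec E RS 1500 16500 rows_11 v (by omega) (by omega)
      · rcases Nat.lt_or_ge v 21000 with h | h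
        · rcases Nat.lt_or_ge v 19500 with h | h
          · exact rowsRange_spec E RS 1500 18000 rows_12 v (by omega) (by omega)
          · exact rowsRange_spec E RS 1500 19500 rows_13 v (by omega) (by omega)
        · rcases Nat.lt_or_ge v 22500 with h | h
          · exact rowsRange_spec E RS 1500 21000 rows_14 v (by omega) (by omega)
          · rcases Nat.lt_or_ge v 24000 with h | h
            · exact rowsRange_spec E RS 1500 22500 rows_15 v (by omega) (by omega)
            · exact rowsRange_spec E RS 1500 24000 rows_16 v (by omega) (by omega)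
  · rcases Nat.lt_or_ge v 39000 with h | h
    · rcases Nat.lt_or_ge v 31500 with h | h
      · rcases Nat.lt_or_ge v 28500 with h | h
        · rcases Nat.lt_or_ge v 27000 with h | h
          · exact rowsRange_spec E RS 1500 25500 rows_17 v (by omega) (by omega)
          · exact rowsRange_spec E RS 1500 27000 rows_18 v (by omega) (by omega)
        · rcases Nat.lt_or_ge v 30000 with h | h
          · exact rowsRange_spec E RS 1500 28500 rows_19 v (by omega) (by omega)
          · exact rowsRange_spec E RS 1500 30000 rows_20 v (by omega) (by omega)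
      · rcases Nat.lt_or_ge v 34500 with h | h
        · rcases Nat.lt_or_ge v 33000 with h | h
          · exact rowsRange_spec E RS 1500 31500 rows_21 v (by omega) (by omega)
          · exact rowsRange_spec E RS 1500 33000 rows_22 v (by omega) (by omega)
        · rcases Nat.lt_or_ge v 36000 with h | h
          · exact rowsRange_spec E RS 1500 34500 rows_23 v (by omega) (by omega)
          · rcases Nat.lt_or_ge v 37500 with h | h
            · exact rowsRange_spec E RS 1500 36000 rows_24 v (by omega) (by omega)
            · exact rowsRange_spec E RS 1500 37500 rows_25 v (by omega) (by omega)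
    · rcases Nat.lt_or_ge v 45000 with h | h
      · rcases Nat.lt_or_ge v 42000 with h | h
        · rcases Nat.lt_or_ge v 40500 with h | h
          · exact rowsRange_spec E RS 1500 39000 rows_26 v (by omega) (by omega)
          · exact rowsRange_spec E RS 1500 40500 rows_27 v (by omega) (by omega)
        · rcases Nat.lt_or_ge v 43500 with h | h
          · exact rowsRange_spec E RS 1500 42000 rows_28 v (by omega) (by omega)
          · exact rowsRange_spec E RS 1500 43500 rows_29 v (by omega) (by omega)
      · rcases Nat.lt_or_ge v 48000 with h | h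
        · rcases Nat.lt_or_ge v 46500 with h | h
          · exact rowsRange_spec E RS 1500 45000 rows_30 v (by omega) (by omega)
          · exact rowsRange_spec E RS 1500 46500 rows_31 v (by omega) (by omega)
        · rcases Nat.lt_or_ge v 49500 with h | h
          · exact rowsRange_spec E RS 1500 48000 rows_32 v (by omega) (by omega)
          · rcases Nat.lt_or_ge v 51000 with h | h
            · exact rowsRange_spec E RS 1500 49500 rows_33 v (by omega) (by omega)
            · exact rowsRange_spec E RS 56 51000 rows_34 v (by omega) (by omega)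

theorem cb_0 : cntBits RS 0 = 0 := rfl

theorem cb_1 : cntBits RS 20000 = 8825 := by
  have h := cntBits_step RS 0 20000
  rw [cb_0, cnt_0] at h
  exact h

theorem cb_2 : cntBits RS 40000 = 20615 := by
  have h := cntBits_step RS 20000 20000
  rw [cb_1, cnt_1] at h
  exact h

theorem cb_3 : cntBits RS 51056 = 31671 := by
  have h := cntBits_step RS 40000 11056
  rw [cb_2, cnt_2] at h
  exact h

theorem set_ok : setOK 51056 31671 RS = true :=
  setOK_of_parts cb_3 set_zero set_lt

theorem relf_0 : ∀ v, v < 31671 → W_0 v = v := by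
  intro v hv
  exact fixPtsF_spec W_0 31671 0 relc_0_0 v (by omega) (by omega)

set_option maxRecDepth 1000000 in
theorem walk_0 : ∀ v, walkT ctF (D.wlen 0) (D.wordP 0) v = W_0 v := by
  intro v
  simp only [W_0, forceL_eq]
  rfl

theorem relw_0 : ∀ v, v < 31671 → walkT ctF (D.wlen 0) (D.wordP 0) v = v := by
  intro v hv
  rw [walk_0]
  exact relf_0 v hv

theorem relf_1 : ∀ v, v < 31671 → W_1 v = v := by
  intro v hv
  exact fixPtsF_spec W_1 31671 0 relc_1_0 v (by omega) (by omega)

set_option maxRecDepth 1000000 in
theorem walk_1 : ∀ v, walkT ctF (D.wlen 1) (D.wordP 1) v = W_1 v := by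
  intro v
  simp only [W_1, forceL_eq]
  rfl

theorem relw_1 : ∀ v, v < 31671 → walkT ctF (D.wlen 1) (D.wordP 1) v = v := by
  intro v hv
  rw [walk_1]
  exact relf_1 v hv

theorem relf_2 : ∀ v, v < 31671 → W_2 v = v := by
  intro v hv
  exact fixPtsF_spec W_2 31671 0 relc_2_0 v (by omega) (by omega)

set_option maxRecDepth 1000000 in
theorem walk_2 : ∀ v, walkT ctF (D.wlen 2) (D.wordP 2) v = W_2 v := by
  intro v
  simp only [W_2, forceL_eq]
  rfl

theorem relw_2 : ∀ v, v < 31671 → walkT ctF (D.wlen 2) (D.wordP 2) v = v := by
  intro v hv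
  rw [walk_2]
  exact relf_2 v hv

theorem relf_3 : ∀ v, v < 31671 → W_3 v = v := by
  intro v hv
  exact fixPtsF_spec W_3 31671 0 relc_3_0 v (by omega) (by omega)

set_option maxRecDepth 1000000 in
theorem walk_3 : ∀ v, walkT ctF (D.wlen 3) (D.wordP 3) v = W_3 v := by
  intro v
  simp only [W_3, forceL_eq]
  rfl

theorem relw_3 : ∀ v, v < 31671 → walkT ctF (D.wlen 3) (D.wordP 3) v = v := by
  intro v hv
  rw [walk_3]
  exact relf_3 v hv

theorem relf_4 : ∀ v, v < 31671 → W_4 v = v := by
  intro v hv
  exact fixPtsF_spec W_4 31671 0 relc_4_0 v (by omega) (by omega)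

set_option maxRecDepth 1000000 in
theorem walk_4 : ∀ v, walkT ctF (D.wlen 4) (D.wordP 4) v = W_4 v := by
  intro v
  simp only [W_4, forceL_eq]
  rfl

theorem relw_4 : ∀ v, v < 31671 → walkT ctF (D.wlen 4) (D.wordP 4) v = v := by
  intro v hv
  rw [walk_4]
  exact relf_4 v hv

theorem relf_5 : ∀ v, v < 31671 → W_5 v = v := by
  intro v hv
  exact fixPtsF_spec W_5 31671 0 relc_5_0 v (by omega) (by omega)

set_option maxRecDepth 1000000 in
theorem walk_5 : ∀ v, walkT ctF (D.wlen 5) (D.wordP 5) v = W_5 v := by
  intro v
  simp only [W_5, forceL_eq]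
  rfl

theorem relw_5 : ∀ v, v < 31671 → walkT ctF (D.wlen 5) (D.wordP 5) v = v := by
  intro v hv
  rw [walk_5]
  exact relf_5 v hv

theorem relf_6 : ∀ v, v < 31671 → W_6 v = v := by
  intro v hv
  exact fixPtsF_spec W_6 31671 0 relc_6_0 v (by omega) (by omega)

set_option maxRecDepth 1000000 in
theorem walk_6 : ∀ v, walkT ctF (D.wlen 6) (D.wordP 6) v = W_6 v := by
  intro v
  simp only [W_6, forceL_eq]
  rfl

theorem relw_6 : ∀ v, v < 31671 → walkT ctF (D.wlen 6) (D.wordP 6) v = v := by
  intro v hv
  rw [walk_6]
  exact relf_6 v hv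

theorem relf_7 : ∀ v, v < 31671 → W_7 v = v := by
  intro v hv
  exact fixPtsF_spec W_7 31671 0 relc_7_0 v (by omega) (by omega)

set_option maxRecDepth 1000000 in
theorem walk_7 : ∀ v, walkT ctF (D.wlen 7) (D.wordP 7) v = W_7 v := by
  intro v
  simp only [W_7, forceL_eq]
  rfl

theorem relw_7 : ∀ v, v < 31671 → walkT ctF (D.wlen 7) (D.wordP 7) v = v := by
  intro v hv
  rw [walk_7]
  exact relf_7 v hv

theorem relf_8 : ∀ v, v < 31671 → W_8 v = v := by
  intro v hv
  exact fixPtsF_spec W_8 31671 0 relc_8_0 v (by omega) (by omega)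

set_option maxRecDepth 1000000 in
theorem walk_8 : ∀ v, walkT ctF (D.wlen 8) (D.wordP 8) v = W_8 v := by
  intro v
  simp only [W_8, forceL_eq]
  rfl

theorem relw_8 : ∀ v, v < 31671 → walkT ctF (D.wlen 8) (D.wordP 8) v = v := by
  intro v hv
  rw [walk_8]
  exact relf_8 v hv

theorem relf_9 : ∀ v, v < 31671 → W_9 v = v := by
  intro v hv
  exact fixPtsF_spec W_9 31671 0 relc_9_0 v (by omega) (by omega)

set_option maxRecDepth 1000000 in
theorem walk_9 : ∀ v, walkT ctF (D.wlen 9) (D.wordP 9) v = W_9 v := by
  intro v
  simp only [W_9, forceL_eq]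
  rfl

theorem relw_9 : ∀ v, v < 31671 → walkT ctF (D.wlen 9) (D.wordP 9) v = v := by
  intro v hv
  rw [walk_9]
  exact relf_9 v hv

theorem relf_10 : ∀ v, v < 31671 → W_10 v = v := by
  intro v hv
  exact fixPtsF_spec W_10 31671 0 relc_10_0 v (by omega) (by omega)

set_option maxRecDepth 1000000 in
theorem walk_10 : ∀ v, walkT ctF (D.wlen 10) (D.wordP 10) v = W_10 v := by
  intro v
  simp only [W_10, forceL_eq]
  rfl

theorem relw_10 : ∀ v, v < 31671 → walkT ctF (D.wlen 10) (D.wordP 10) v = v := by
  intro v hv
  rw [walk_10]
  exact relf_10 v hv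

theorem relf_11 : ∀ v, v < 31671 → W_11 v = v := by
  intro v hv
  exact fixPtsF_spec W_11 31671 0 relc_11_0 v (by omega) (by omega)

set_option maxRecDepth 1000000 in
theorem walk_11 : ∀ v, walkT ctF (D.wlen 11) (D.wordP 11) v = W_11 v := by
  intro v
  simp only [W_11, forceL_eq]
  rfl

theorem relw_11 : ∀ v, v < 31671 → walkT ctF (D.wlen 11) (D.wordP 11) v = v := by
  intro v hv
  rw [walk_11]
  exact relf_11 v hv

theorem relf_12 : ∀ v, v < 31671 → W_12 v = v := by
  intro v hv
  exact fixPtsF_spec W_12 31671 0 relc_12_0 v (by omega) (by omega)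

set_option maxRecDepth 1000000 in
theorem walk_12 : ∀ v, walkT ctF (D.wlen 12) (D.wordP 12) v = W_12 v := by
  intro v
  simp only [W_12, forceL_eq]
  rfl

theorem relw_12 : ∀ v, v < 31671 → walkT ctF (D.wlen 12) (D.wordP 12) v = v := by
  intro v hv
  rw [walk_12]
  exact relf_12 v hv

theorem relf_13 : ∀ v, v < 31671 → W_13 v = v := by
  intro v hv
  exact fixPtsF_spec W_13 31671 0 relc_13_0 v (by omega) (by omega)

set_option maxRecDepth 1000000 in
theorem walk_13 : ∀ v, walkT ctF (D.wlen 13) (D.wordP 13) v = W_13 v := by
  intro v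
  simp only [W_13, forceL_eq]
  rfl

theorem relw_13 : ∀ v, v < 31671 → walkT ctF (D.wlen 13) (D.wordP 13) v = v := by
  intro v hv
  rw [walk_13]
  exact relf_13 v hv

theorem relf_14 : ∀ v, v < 31671 → W_14 v = v := by
  intro v hv
  exact fixPtsF_spec W_14 31671 0 relc_14_0 v (by omega) (by omega)

set_option maxRecDepth 1000000 in
theorem walk_14 : ∀ v, walkT ctF (D.wlen 14) (D.wordP 14) v = W_14 v := by
  intro v
  simp only [W_14, forceL_eq]
  rfl

theorem relw_14 : ∀ v, v < 31671 → walkT ctF (D.wlen 14) (D.wordP 14) v = v := by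
  intro v hv
  rw [walk_14]
  exact relf_14 v hv

theorem relf_15 : ∀ v, v < 31671 → W_15 v = v := by
  intro v hv
  exact fixPtsF_spec W_15 31671 0 relc_15_0 v (by omega) (by omega)

set_option maxRecDepth 1000000 in
theorem walk_15 : ∀ v, walkT ctF (D.wlen 15) (D.wordP 15) v = W_15 v := by
  intro v
  simp only [W_15, forceL_eq]
  rfl

theorem relw_15 : ∀ v, v < 31671 → walkT ctF (D.wlen 15) (D.wordP 15) v = v := by
  intro v hv
  rw [walk_15]
  exact relf_15 v hv

theorem relf_16 : ∀ v, v < 31671 → W_16 v = v := by
  intro v hv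
  exact fixPtsF_spec W_16 31671 0 relc_16_0 v (by omega) (by omega)

set_option maxRecDepth 1000000 in
theorem walk_16 : ∀ v, walkT ctF (D.wlen 16) (D.wordP 16) v = W_16 v := by
  intro v
  simp only [W_16, forceL_eq]
  rfl

theorem relw_16 : ∀ v, v < 31671 → walkT ctF (D.wlen 16) (D.wordP 16) v = v := by
  intro v hv
  rw [walk_16]
  exact relf_16 v hv

theorem relf_17 : ∀ v, v < 31671 → W_17 v = v := by
  intro v hv
  exact fixPtsF_spec W_17 31671 0 relc_17_0 v (by omega) (by omega)

set_option maxRecDepth 1000000 in
theorem walk_17 : ∀ v, walkT ctF (D.wlen 17) (D.wordP 17) v = W_17 v := by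
  intro v
  simp only [W_17, forceL_eq]
  rfl

theorem relw_17 : ∀ v, v < 31671 → walkT ctF (D.wlen 17) (D.wordP 17) v = v := by
  intro v hv
  rw [walk_17]
  exact relf_17 v hv

theorem relf_18 : ∀ v, v < 31671 → W_18 v = v := by
  intro v hv
  exact fixPtsF_spec W_18 31671 0 relc_18_0 v (by omega) (by omega)

set_option maxRecDepth 1000000 in
theorem walk_18 : ∀ v, walkT ctF (D.wlen 18) (D.wordP 18) v = W_18 v := by
  intro v
  simp only [W_18, forceL_eq]
  rfl

theorem relw_18 : ∀ v, v < 31671 → walkT ctF (D.wlen 18) (D.wordP 18) v = v := by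
  intro v hv
  rw [walk_18]
  exact relf_18 v hv

theorem relf_19 : ∀ v, v < 31671 → W_19 v = v := by
  intro v hv
  exact fixPtsF_spec W_19 31671 0 relc_19_0 v (by omega) (by omega)

set_option maxRecDepth 1000000 in
theorem walk_19 : ∀ v, walkT ctF (D.wlen 19) (D.wordP 19) v = W_19 v := by
  intro v
  simp only [W_19, forceL_eq]
  rfl

theorem relw_19 : ∀ v, v < 31671 → walkT ctF (D.wlen 19) (D.wordP 19) v = v := by
  intro v hv
  rw [walk_19]
  exact relf_19 v hv

theorem relf_20 : ∀ v, v < 31671 → W_20 v = v := by
  intro v hv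
  exact fixPtsF_spec W_20 31671 0 relc_20_0 v (by omega) (by omega)

set_option maxRecDepth 1000000 in
theorem walk_20 : ∀ v, walkT ctF (D.wlen 20) (D.wordP 20) v = W_20 v := by
  intro v
  simp only [W_20, forceL_eq]
  rfl

theorem relw_20 : ∀ v, v < 31671 → walkT ctF (D.wlen 20) (D.wordP 20) v = v := by
  intro v hv
  rw [walk_20]
  exact relf_20 v hv

theorem relf_21 : ∀ v, v < 31671 → W_21 v = v := by
  intro v hv
  exact fixPtsF_spec W_21 31671 0 relc_21_0 v (by omega) (by omega)

set_option maxRecDepth 1000000 in
theorem walk_21 : ∀ v, walkT ctF (D.wlen 21) (D.wordP 21) v = W_21 v := by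
  intro v
  simp only [W_21, forceL_eq]
  rfl

theorem relw_21 : ∀ v, v < 31671 → walkT ctF (D.wlen 21) (D.wordP 21) v = v := by
  intro v hv
  rw [walk_21]
  exact relf_21 v hv

theorem relf_22 : ∀ v, v < 31671 → W_22 v = v := by
  intro v hv
  exact fixPtsF_spec W_22 31671 0 relc_22_0 v (by omega) (by omega)

set_option maxRecDepth 1000000 in
theorem walk_22 : ∀ v, walkT ctF (D.wlen 22) (D.wordP 22) v = W_22 v := by
  intro v
  simp only [W_22, forceL_eq]
  rfl

theorem relw_22 : ∀ v, v < 31671 → walkT ctF (D.wlen 22) (D.wordP 22) v = v := by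
  intro v hv
  rw [walk_22]
  exact relf_22 v hv

theorem relf_23 : ∀ v, v < 31671 → W_23 v = v := by
  intro v hv
  exact fixPtsF_spec W_23 31671 0 relc_23_0 v (by omega) (by omega)

set_option maxRecDepth 1000000 in
theorem walk_23 : ∀ v, walkT ctF (D.wlen 23) (D.wordP 23) v = W_23 v := by
  intro v
  simp only [W_23, forceL_eq]
  rfl

theorem relw_23 : ∀ v, v < 31671 → walkT ctF (D.wlen 23) (D.wordP 23) v = v := by
  intro v hv
  rw [walk_23]
  exact relf_23 v hv

theorem relf_24 : ∀ v, v < 31671 → W_24 v = v := by
  intro v hv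
  exact fixPtsF_spec W_24 31671 0 relc_24_0 v (by omega) (by omega)

set_option maxRecDepth 1000000 in
theorem walk_24 : ∀ v, walkT ctF (D.wlen 24) (D.wordP 24) v = W_24 v := by
  intro v
  simp only [W_24, forceL_eq]
  rfl

theorem relw_24 : ∀ v, v < 31671 → walkT ctF (D.wlen 24) (D.wordP 24) v = v := by
  intro v hv
  rw [walk_24]
  exact relf_24 v hv

theorem relf_25 : ∀ v, v < 31671 → W_25 v = v := by
  intro v hv
  exact fixPtsF_spec W_25 31671 0 relc_25_0 v (by omega) (by omega)

set_option maxRecDepth 1000000 in
theorem walk_25 : ∀ v, walkT ctF (D.wlen 25) (D.wordP 25) v = W_25 v := by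
  intro v
  simp only [W_25, forceL_eq]
  rfl

theorem relw_25 : ∀ v, v < 31671 → walkT ctF (D.wlen 25) (D.wordP 25) v = v := by
  intro v hv
  rw [walk_25]
  exact relf_25 v hv

theorem relf_26 : ∀ v, v < 31671 → W_26 v = v := by
  intro v hv
  exact fixPtsF_spec W_26 31671 0 relc_26_0 v (by omega) (by omega)

set_option maxRecDepth 1000000 in
theorem walk_26 : ∀ v, walkT ctF (D.wlen 26) (D.wordP 26) v = W_26 v := by
  intro v
  simp only [W_26, forceL_eq]
  rfl

theorem relw_26 : ∀ v, v < 31671 → walkT ctF (D.wlen 26) (D.wordP 26) v = v := by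
  intro v hv
  rw [walk_26]
  exact relf_26 v hv

theorem relf_27 : ∀ v, v < 31671 → W_27 v = v := by
  intro v hv
  exact fixPtsF_spec W_27 31671 0 relc_27_0 v (by omega) (by omega)

set_option maxRecDepth 1000000 in
theorem walk_27 : ∀ v, walkT ctF (D.wlen 27) (D.wordP 27) v = W_27 v := by
  intro v
  simp only [W_27, forceL_eq]
  rfl

theorem relw_27 : ∀ v, v < 31671 → walkT ctF (D.wlen 27) (D.wordP 27) v = v := by
  intro v hv
  rw [walk_27]
  exact relf_27 v hv

theorem relf_28 : ∀ v, v < 31671 → W_28 v = v := by
  intro v hv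
  exact fixPtsF_spec W_28 31671 0 relc_28_0 v (by omega) (by omega)

set_option maxRecDepth 1000000 in
theorem walk_28 : ∀ v, walkT ctF (D.wlen 28) (D.wordP 28) v = W_28 v := by
  intro v
  simp only [W_28, forceL_eq]
  rfl

theorem relw_28 : ∀ v, v < 31671 → walkT ctF (D.wlen 28) (D.wordP 28) v = v := by
  intro v hv
  rw [walk_28]
  exact relf_28 v hv

theorem relf_29 : ∀ v, v < 31671 → W_29 v = v := by
  intro v hv
  exact fixPtsF_spec W_29 31671 0 relc_29_0 v (by omega) (by omega)

set_option maxRecDepth 1000000 in
theorem walk_29 : ∀ v, walkT ctF (D.wlen 29) (D.wordP 29) v = W_29 v := by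
  intro v
  simp only [W_29, forceL_eq]
  rfl

theorem relw_29 : ∀ v, v < 31671 → walkT ctF (D.wlen 29) (D.wordP 29) v = v := by
  intro v hv
  rw [walk_29]
  exact relf_29 v hv

theorem relf_30 : ∀ v, v < 31671 → W_30 v = v := by
  intro v hv
  exact fixPtsF_spec W_30 31671 0 relc_30_0 v (by omega) (by omega)

set_option maxRecDepth 1000000 in
theorem walk_30 : ∀ v, walkT ctF (D.wlen 30) (D.wordP 30) v = W_30 v := by
  intro v
  simp only [W_30, forceL_eq]
  rfl

theorem relw_30 : ∀ v, v < 31671 → walkT ctF (D.wlen 30) (D.wordP 30) v = v := by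
  intro v hv
  rw [walk_30]
  exact relf_30 v hv

theorem relf_31 : ∀ v, v < 31671 → W_31 v = v := by
  intro v hv
  exact fixPtsF_spec W_31 31671 0 relc_31_0 v (by omega) (by omega)

set_option maxRecDepth 1000000 in
theorem walk_31 : ∀ v, walkT ctF (D.wlen 31) (D.wordP 31) v = W_31 v := by
  intro v
  simp only [W_31, forceL_eq]
  rfl

theorem relw_31 : ∀ v, v < 31671 → walkT ctF (D.wlen 31) (D.wordP 31) v = v := by
  intro v hv
  rw [walk_31]
  exact relf_31 v hv

theorem relf_32 : ∀ v, v < 31671 → W_32 v = v := by
  intro v hv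
  exact fixPtsF_spec W_32 31671 0 relc_32_0 v (by omega) (by omega)

set_option maxRecDepth 1000000 in
theorem walk_32 : ∀ v, walkT ctF (D.wlen 32) (D.wordP 32) v = W_32 v := by
  intro v
  simp only [W_32, forceL_eq]
  rfl

theorem relw_32 : ∀ v, v < 31671 → walkT ctF (D.wlen 32) (D.wordP 32) v = v := by
  intro v hv
  rw [walk_32]
  exact relf_32 v hv

theorem relf_33 : ∀ v, v < 31671 → W_33 v = v := by
  intro v hv
  exact fixPtsF_spec W_33 31671 0 relc_33_0 v (by omega) (by omega)

set_option maxRecDepth 1000000 in
theorem walk_33 : ∀ v, walkT ctF (D.wlen 33) (D.wordP 33) v = W_33 v := by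
  intro v
  simp only [W_33, forceL_eq]
  rfl

theorem relw_33 : ∀ v, v < 31671 → walkT ctF (D.wlen 33) (D.wordP 33) v = v := by
  intro v hv
  rw [walk_33]
  exact relf_33 v hv

theorem relf_34 : ∀ v, v < 31671 → W_34 v = v := by
  intro v hv
  exact fixPtsF_spec W_34 31671 0 relc_34_0 v (by omega) (by omega)

set_option maxRecDepth 1000000 in
theorem walk_34 : ∀ v, walkT ctF (D.wlen 34) (D.wordP 34) v = W_34 v := by
  intro v
  simp only [W_34, forceL_eq]
  rfl

theorem relw_34 : ∀ v, v < 31671 → walkT ctF (D.wlen 34) (D.wordP 34) v = v := by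
  intro v hv
  rw [walk_34]
  exact relf_34 v hv

theorem relf_35 : ∀ v, v < 31671 → W_35 v = v := by
  intro v hv
  exact fixPtsF_spec W_35 31671 0 relc_35_0 v (by omega) (by omega)

set_option maxRecDepth 1000000 in
theorem walk_35 : ∀ v, walkT ctF (D.wlen 35) (D.wordP 35) v = W_35 v := by
  intro v
  simp only [W_35, forceL_eq]
  rfl

theorem relw_35 : ∀ v, v < 31671 → walkT ctF (D.wlen 35) (D.wordP 35) v = v := by
  intro v hv
  rw [walk_35]
  exact relf_35 v hv

theorem relf_36 : ∀ v, v < 31671 → W_36 v = v := by
  intro v hv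
  exact fixPtsF_spec W_36 31671 0 relc_36_0 v (by omega) (by omega)

set_option maxRecDepth 1000000 in
theorem walk_36 : ∀ v, walkT ctF (D.wlen 36) (D.wordP 36) v = W_36 v := by
  intro v
  simp only [W_36, forceL_eq]
  rfl

theorem relw_36 : ∀ v, v < 31671 → walkT ctF (D.wlen 36) (D.wordP 36) v = v := by
  intro v hv
  rw [walk_36]
  exact relf_36 v hv

theorem relf_37 : ∀ v, v < 31671 → W_37 v = v := by
  intro v hv
  exact fixPtsF_spec W_37 31671 0 relc_37_0 v (by omega) (by omega)

set_option maxRecDepth 1000000 in
theorem walk_37 : ∀ v, walkT ctF (D.wlen 37) (D.wordP 37) v = W_37 v := by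
  intro v
  simp only [W_37, forceL_eq]
  rfl

theorem relw_37 : ∀ v, v < 31671 → walkT ctF (D.wlen 37) (D.wordP 37) v = v := by
  intro v hv
  rw [walk_37]
  exact relf_37 v hv

theorem relf_38 : ∀ v, v < 31671 → W_38 v = v := by
  intro v hv
  exact fixPtsF_spec W_38 31671 0 relc_38_0 v (by omega) (by omega)

set_option maxRecDepth 1000000 in
theorem walk_38 : ∀ v, walkT ctF (D.wlen 38) (D.wordP 38) v = W_38 v := by
  intro v
  simp only [W_38, forceL_eq]
  rfl

theorem relw_38 : ∀ v, v < 31671 → walkT ctF (D.wlen 38) (D.wordP 38) v = v := by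
  intro v hv
  rw [walk_38]
  exact relf_38 v hv

theorem relf_39 : ∀ v, v < 31671 → W_39 v = v := by
  intro v hv
  exact fixPtsF_spec W_39 31671 0 relc_39_0 v (by omega) (by omega)

set_option maxRecDepth 1000000 in
theorem walk_39 : ∀ v, walkT ctF (D.wlen 39) (D.wordP 39) v = W_39 v := by
  intro v
  simp only [W_39, forceL_eq]
  rfl

theorem relw_39 : ∀ v, v < 31671 → walkT ctF (D.wlen 39) (D.wordP 39) v = v := by
  intro v hv
  rw [walk_39]
  exact relf_39 v hv

theorem relf_40 : ∀ v, v < 31671 → W_40 v = v := by
  intro v hv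
  exact fixPtsF_spec W_40 31671 0 relc_40_0 v (by omega) (by omega)

set_option maxRecDepth 1000000 in
theorem walk_40 : ∀ v, walkT ctF (D.wlen 40) (D.wordP 40) v = W_40 v := by
  intro v
  simp only [W_40, forceL_eq]
  rfl

theorem relw_40 : ∀ v, v < 31671 → walkT ctF (D.wlen 40) (D.wordP 40) v = v := by
  intro v hv
  rw [walk_40]
  exact relf_40 v hv

theorem relf_41 : ∀ v, v < 31671 → W_41 v = v := by
  intro v hv
  exact fixPtsF_spec W_41 31671 0 relc_41_0 v (by omega) (by omega)

set_option maxRecDepth 1000000 in
theorem walk_41 : ∀ v, walkT ctF (D.wlen 41) (D.wordP 41) v = W_41 v := by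
  intro v
  simp only [W_41, forceL_eq]
  rfl

theorem relw_41 : ∀ v, v < 31671 → walkT ctF (D.wlen 41) (D.wordP 41) v = v := by
  intro v hv
  rw [walk_41]
  exact relf_41 v hv

theorem relf_42 : ∀ v, v < 31671 → W_42 v = v := by
  intro v hv
  exact fixPtsF_spec W_42 31671 0 relc_42_0 v (by omega) (by omega)

set_option maxRecDepth 1000000 in
theorem walk_42 : ∀ v, walkT ctF (D.wlen 42) (D.wordP 42) v = W_42 v := by
  intro v
  simp only [W_42, forceL_eq]
  rfl

theorem relw_42 : ∀ v, v < 31671 → walkT ctF (D.wlen 42) (D.wordP 42) v = v := by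
  intro v hv
  rw [walk_42]
  exact relf_42 v hv

theorem relf_43 : ∀ v, v < 31671 → W_43 v = v := by
  intro v hv
  exact fixPtsF_spec W_43 31671 0 relc_43_0 v (by omega) (by omega)

set_option maxRecDepth 1000000 in
theorem walk_43 : ∀ v, walkT ctF (D.wlen 43) (D.wordP 43) v = W_43 v := by
  intro v
  simp only [W_43, forceL_eq]
  rfl

theorem relw_43 : ∀ v, v < 31671 → walkT ctF (D.wlen 43) (D.wordP 43) v = v := by
  intro v hv
  rw [walk_43]
  exact relf_43 v hv

theorem relf_44 : ∀ v, v < 31671 → W_44 v = v := by
  intro v hv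
  exact fixPtsF_spec W_44 31671 0 relc_44_0 v (by omega) (by omega)

set_option maxRecDepth 1000000 in
theorem walk_44 : ∀ v, walkT ctF (D.wlen 44) (D.wordP 44) v = W_44 v := by
  intro v
  simp only [W_44, forceL_eq]
  rfl

theorem relw_44 : ∀ v, v < 31671 → walkT ctF (D.wlen 44) (D.wordP 44) v = v := by
  intro v hv
  rw [walk_44]
  exact relf_44 v hv

theorem relf_45 : ∀ v, v < 31671 → W_45 v = v := by
  intro v hv
  exact fixPtsF_spec W_45 31671 0 relc_45_0 v (by omega) (by omega)

set_option maxRecDepth 1000000 in
theorem walk_45 : ∀ v, walkT ctF (D.wlen 45) (D.wordP 45) v = W_45 v := by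
  intro v
  simp only [W_45, forceL_eq]
  rfl

theorem relw_45 : ∀ v, v < 31671 → walkT ctF (D.wlen 45) (D.wordP 45) v = v := by
  intro v hv
  rw [walk_45]
  exact relf_45 v hv

theorem relf_46 : ∀ v, v < 31671 → W_46 v = v := by
  intro v hv
  exact fixPtsF_spec W_46 31671 0 relc_46_0 v (by omega) (by omega)

set_option maxRecDepth 1000000 in
theorem walk_46 : ∀ v, walkT ctF (D.wlen 46) (D.wordP 46) v = W_46 v := by
  intro v
  simp only [W_46, forceL_eq]
  rfl

theorem relw_46 : ∀ v, v < 31671 → walkT ctF (D.wlen 46) (D.wordP 46) v = v := by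
  intro v hv
  rw [walk_46]
  exact relf_46 v hv

theorem relf_47 : ∀ v, v < 31671 → W_47 v = v := by
  intro v hv
  exact fixPtsF_spec W_47 31671 0 relc_47_0 v (by omega) (by omega)

set_option maxRecDepth 1000000 in
theorem walk_47 : ∀ v, walkT ctF (D.wlen 47) (D.wordP 47) v = W_47 v := by
  intro v
  simp only [W_47, forceL_eq]
  rfl

theorem relw_47 : ∀ v, v < 31671 → walkT ctF (D.wlen 47) (D.wordP 47) v = v := by
  intro v hv
  rw [walk_47]
  exact relf_47 v hv

theorem relf_48 : ∀ v, v < 31671 → W_48 v = v := by
  intro v hv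
  exact fixPtsF_spec W_48 31671 0 relc_48_0 v (by omega) (by omega)

set_option maxRecDepth 1000000 in
theorem walk_48 : ∀ v, walkT ctF (D.wlen 48) (D.wordP 48) v = W_48 v := by
  intro v
  simp only [W_48, forceL_eq]
  rfl

theorem relw_48 : ∀ v, v < 31671 → walkT ctF (D.wlen 48) (D.wordP 48) v = v := by
  intro v hv
  rw [walk_48]
  exact relf_48 v hv

theorem relf_49 : ∀ v, v < 31671 → W_49 v = v := by
  intro v hv
  exact fixPtsF_spec W_49 31671 0 relc_49_0 v (by omega) (by omega)

set_option maxRecDepth 1000000 in
theorem walk_49 : ∀ v, walkT ctF (D.wlen 49) (D.wordP 49) v = W_49 v := by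
  intro v
  simp only [W_49, forceL_eq]
  rfl

theorem relw_49 : ∀ v, v < 31671 → walkT ctF (D.wlen 49) (D.wordP 49) v = v := by
  intro v hv
  rw [walk_49]
  exact relf_49 v hv

theorem relf_50 : ∀ v, v < 31671 → W_50 v = v := by
  intro v hv
  exact fixPtsF_spec W_50 31671 0 relc_50_0 v (by omega) (by omega)

set_option maxRecDepth 1000000 in
theorem walk_50 : ∀ v, walkT ctF (D.wlen 50) (D.wordP 50) v = W_50 v := by
  intro v
  simp only [W_50, forceL_eq]
  rfl

theorem relw_50 : ∀ v, v < 31671 → walkT ctF (D.wlen 50) (D.wordP 50) v = v := by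
  intro v hv
  rw [walk_50]
  exact relf_50 v hv

theorem relf_51 : ∀ v, v < 31671 → W_51 v = v := by
  intro v hv
  exact fixPtsF_spec W_51 31671 0 relc_51_0 v (by omega) (by omega)

set_option maxRecDepth 1000000 in
theorem walk_51 : ∀ v, walkT ctF (D.wlen 51) (D.wordP 51) v = W_51 v := by
  intro v
  simp only [W_51, forceL_eq]
  rfl

theorem relw_51 : ∀ v, v < 31671 → walkT ctF (D.wlen 51) (D.wordP 51) v = v := by
  intro v hv
  rw [walk_51]
  exact relf_51 v hv

theorem relf_52 : ∀ v, v < 31671 → W_52 v = v := by
  intro v hv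
  exact fixPtsF_spec W_52 31671 0 relc_52_0 v (by omega) (by omega)

set_option maxRecDepth 1000000 in
theorem walk_52 : ∀ v, walkT ctF (D.wlen 52) (D.wordP 52) v = W_52 v := by
  intro v
  simp only [W_52, forceL_eq]
  rfl

theorem relw_52 : ∀ v, v < 31671 → walkT ctF (D.wlen 52) (D.wordP 52) v = v := by
  intro v hv
  rw [walk_52]
  exact relf_52 v hv

theorem relf_53 : ∀ v, v < 31671 → W_53 v = v := by
  intro v hv
  exact fixPtsF_spec W_53 31671 0 relc_53_0 v (by omega) (by omega)

set_option maxRecDepth 1000000 in
theorem walk_53 : ∀ v, walkT ctF (D.wlen 53) (D.wordP 53) v = W_53 v := by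
  intro v
  simp only [W_53, forceL_eq]
  rfl

theorem relw_53 : ∀ v, v < 31671 → walkT ctF (D.wlen 53) (D.wordP 53) v = v := by
  intro v hv
  rw [walk_53]
  exact relf_53 v hv

theorem relf_54 : ∀ v, v < 31671 → W_54 v = v := by
  intro v hv
  exact fixPtsF_spec W_54 31671 0 relc_54_0 v (by omega) (by omega)

set_option maxRecDepth 1000000 in
theorem walk_54 : ∀ v, walkT ctF (D.wlen 54) (D.wordP 54) v = W_54 v := by
  intro v
  simp only [W_54, forceL_eq]
  rfl

theorem relw_54 : ∀ v, v < 31671 → walkT ctF (D.wlen 54) (D.wordP 54) v = v := by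
  intro v hv
  rw [walk_54]
  exact relf_54 v hv

theorem relf_55 : ∀ v, v < 31671 → W_55 v = v := by
  intro v hv
  rcases Nat.lt_or_ge v 15554 with h | h
  · rcases Nat.lt_or_ge v 6666 with h | h
    · rcases Nat.lt_or_ge v 2222 with h | h
      · exact fixPtsF_spec W_55 2222 0 relc_55_0 v (by omega) (by omega)
      · rcases Nat.lt_or_ge v 4444 with h | h
        · exact fixPtsF_spec W_55 2222 2222 relc_55_1 v (by omega) (by omega)
        · exact fixPtsF_spec W_55 2222 4444 relc_55_2 v (by omega) (by omega)
    · rcases Nat.lt_or_ge v 11110 with h | h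
      · rcases Nat.lt_or_ge v 8888 with h | h
        · exact fixPtsF_spec W_55 2222 6666 relc_55_3 v (by omega) (by omega)
        · exact fixPtsF_spec W_55 2222 8888 relc_55_4 v (by omega) (by omega)
      · rcases Nat.lt_or_ge v 13332 with h | h
        · exact fixPtsF_spec W_55 2222 11110 relc_55_5 v (by omega) (by omega)
        · exact fixPtsF_spec W_55 2222 13332 relc_55_6 v (by omega) (by omega)
  · rcases Nat.lt_or_ge v 24442 with h | h
    · rcases Nat.lt_or_ge v 19998 with h | h
      · rcases Nat.lt_or_ge v 17776 with h | h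
        · exact fixPtsF_spec W_55 2222 15554 relc_55_7 v (by omega) (by omega)
        · exact fixPtsF_spec W_55 2222 17776 relc_55_8 v (by omega) (by omega)
      · rcases Nat.lt_or_ge v 22220 with h | h
        · exact fixPtsF_spec W_55 2222 19998 relc_55_9 v (by omega) (by omega)
        · exact fixPtsF_spec W_55 2222 22220 relc_55_10 v (by omega) (by omega)
    · rcases Nat.lt_or_ge v 28886 with h | h
      · rcases Nat.lt_or_ge v 26664 with h | h
        · exact fixPtsF_spec W_55 2222 24442 relc_55_11 v (by omega) (by omega)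
        · exact fixPtsF_spec W_55 2222 26664 relc_55_12 v (by omega) (by omega)
      · rcases Nat.lt_or_ge v 31108 with h | h
        · exact fixPtsF_spec W_55 2222 28886 relc_55_13 v (by omega) (by omega)
        · exact fixPtsF_spec W_55 563 31108 relc_55_14 v (by omega) (by omega)

set_option maxRecDepth 1000000 in
theorem walk_55 : ∀ v, walkT ctF (D.wlen 55) (D.wordP 55) v = W_55 v := by
  intro v
  simp only [W_55, forceL_eq]
  rfl

theorem relw_55 : ∀ v, v < 31671 → walkT ctF (D.wlen 55) (D.wordP 55) v = v := by
  intro v hv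
  rw [walk_55]
  exact relf_55 v hv

theorem relf_56 : ∀ v, v < 31671 → W_56 v = v := by
  intro v hv
  rcases Nat.lt_or_ge v 15870 with h | h
  · rcases Nat.lt_or_ge v 6348 with h | h
    · rcases Nat.lt_or_ge v 3174 with h | h
      · exact fixPtsF_spec W_56 3174 0 relc_56_0 v (by omega) (by omega)
      · exact fixPtsF_spec W_56 3174 3174 relc_56_1 v (by omega) (by omega)
    · rcases Nat.lt_or_ge v 9522 with h | h
      · exact fixPtsF_spec W_56 3174 6348 relc_56_2 v (by omega) (by omega)
      · rcases Nat.lt_or_ge v 12696 with h | h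
        · exact fixPtsF_spec W_56 3174 9522 relc_56_3 v (by omega) (by omega)
        · exact fixPtsF_spec W_56 3174 12696 relc_56_4 v (by omega) (by omega)
  · rcases Nat.lt_or_ge v 22218 with h | h
    · rcases Nat.lt_or_ge v 19044 with h | h
      · exact fixPtsF_spec W_56 3174 15870 relc_56_5 v (by omega) (by omega)
      · exact fixPtsF_spec W_56 3174 19044 relc_56_6 v (by omega) (by omega)
    · rcases Nat.lt_or_ge v 25392 with h | h
      · exact fixPtsF_spec W_56 3174 22218 relc_56_7 v (by omega) (by omega)
      · rcases Nat.lt_or_ge v 28566 with h | h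
        · exact fixPtsF_spec W_56 3174 25392 relc_56_8 v (by omega) (by omega)
        · exact fixPtsF_spec W_56 3105 28566 relc_56_9 v (by omega) (by omega)

set_option maxRecDepth 1000000 in
theorem walk_56 : ∀ v, walkT ctF (D.wlen 56) (D.wordP 56) v = W_56 v := by
  intro v
  simp only [W_56, forceL_eq]
  rfl

theorem relw_56 : ∀ v, v < 31671 → walkT ctF (D.wlen 56) (D.wordP 56) v = v := by
  intro v hv
  rw [walk_56]
  exact relf_56 v hv

theorem invx_0 : ∀ v, v < 31671 → ctF 0 v < 31671 ∧ ctF 0 (ctF 0 v) = v := by
  intro v hv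
  exact invRowFI_spec ctF 31671 0 0 31671 0 inv_0_0 v (by omega) (by omega)

theorem invx_1 : ∀ v, v < 31671 → ctF 1 v < 31671 ∧ ctF 1 (ctF 1 v) = v := by
  intro v hv
  exact invRowFI_spec ctF 31671 1 1 31671 0 inv_1_0 v (by omega) (by omega)

theorem invx_2 : ∀ v, v < 31671 → ctF 2 v < 31671 ∧ ctF 2 (ctF 2 v) = v := by
  intro v hv
  exact invRowFI_spec ctF 31671 2 2 31671 0 inv_2_0 v (by omega) (by omega)

theorem invx_3 : ∀ v, v < 31671 → ctF 3 v < 31671 ∧ ctF 3 (ctF 3 v) = v := by
  intro v hv
  exact invRowFI_spec ctF 31671 3 3 31671 0 inv_3_0 v (by omega) (by omega)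

theorem invx_4 : ∀ v, v < 31671 → ctF 4 v < 31671 ∧ ctF 4 (ctF 4 v) = v := by
  intro v hv
  exact invRowFI_spec ctF 31671 4 4 31671 0 inv_4_0 v (by omega) (by omega)

theorem invx_5 : ∀ v, v < 31671 → ctF 5 v < 31671 ∧ ctF 5 (ctF 5 v) = v := by
  intro v hv
  exact invRowFI_spec ctF 31671 5 5 31671 0 inv_5_0 v (by omega) (by omega)

theorem invx_6 : ∀ v, v < 31671 → ctF 6 v < 31671 ∧ ctF 6 (ctF 6 v) = v := by
  intro v hv
  exact invRowFI_spec ctF 31671 6 6 31671 0 inv_6_0 v (by omega) (by omega)

theorem invx_7 : ∀ v, v < 31671 → ctF 7 v < 31671 ∧ ctF 7 (ctF 7 v) = v := by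
  intro v hv
  exact invRowFI_spec ctF 31671 7 7 31671 0 inv_7_0 v (by omega) (by omega)

theorem invx_8 : ∀ v, v < 31671 → ctF 8 v < 31671 ∧ ctF 8 (ctF 8 v) = v := by
  intro v hv
  exact invRowFI_spec ctF 31671 8 8 31671 0 inv_8_0 v (by omega) (by omega)

theorem invx_9 : ∀ v, v < 31671 → ctF 9 v < 31671 ∧ ctF 9 (ctF 9 v) = v := by
  intro v hv
  exact invRowFI_spec ctF 31671 9 9 31671 0 inv_9_0 v (by omega) (by omega)

theorem hconn : ∀ v, v < 31671 → v ≠ 0 → ∃ x, x < E.D.k ∧ ctF x v < v := by
  intro v hv
  exact connF_spec ctF 10 31671 0 conn_0 v (by omega) (by omega)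

theorem hE : ∀ v, v < E.M → ∀ x, x < E.D.k → edgeOKI iota E x v = true := by
  intro v hv x hx
  have hv' : v < 51056 := hv
  have hx' : x < 10 := hx
  interval_cases x
  · exact edgesx_0 v hv'
  · exact edgesx_1 v hv'
  · exact edgesx_2 v hv'
  · exact edgesx_3 v hv'
  · exact edgesx_4 v hv'
  · exact edgesx_5 v hv'
  · exact edgesx_6 v hv'
  · exact edgesx_7 v hv'
  · exact edgesx_8 v hv'
  · exact edgesx_9 v hv'

theorem hA : ∀ v, v < E.M → aliasOK E v = true := fun v hv => hA0 v hv

theorem hrows : ∀ v, v < E.M → tb RS v = true → rowOK2 E RS v E.D.k = true := fun v hv => hrows0 v hv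

theorem hT : ∀ x, x < E.D.k → ∀ v, v < 31671 → ctF x v < 31671 ∧ ctF (iota x) (ctF x v) = v := by
  intro x hx
  have hx' : x < 10 := hx
  interval_cases x
  · exact invx_0
  · exact invx_1
  · exact invx_2
  · exact invx_3
  · exact invx_4
  · exact invx_5
  · exact invx_6
  · exact invx_7
  · exact invx_8
  · exact invx_9

theorem hltr : ∀ j, j < E.D.nw → lettersOK E.D.k (E.D.wlen j) (E.D.wordP j) = true :=
  wordsOK_spec D D.nw words_ok

theorem hrelT : ∀ wi, wi < E.D.nrel → ∀ v, v < 31671 →
    walkT ctF (E.D.wlen wi) (E.D.wordP wi) v = v := by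
  intro wi hwi
  have hwi' : wi < 57 := hwi
  interval_cases wi
  · exact relw_0
  · exact relw_1
  · exact relw_2
  · exact relw_3
  · exact relw_4
  · exact relw_5
  · exact relw_6
  · exact relw_7
  · exact relw_8
  · exact relw_9
  · exact relw_10
  · exact relw_11
  · exact relw_12
  · exact relw_13
  · exact relw_14
  · exact relw_15
  · exact relw_16
  · exact relw_17
  · exact relw_18
  · exact relw_19
  · exact relw_20
  · exact relw_21
  · exact relw_22
  · exact relw_23
  · exact relw_24
  · exact relw_25
  · exact relw_26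
  · exact relw_27
  · exact relw_28
  · exact relw_29
  · exact relw_30
  · exact relw_31
  · exact relw_32
  · exact relw_33
  · exact relw_34
  · exact relw_35
  · exact relw_36
  · exact relw_37
  · exact relw_38
  · exact relw_39
  · exact relw_40
  · exact relw_41
  · exact relw_42
  · exact relw_43
  · exact relw_44
  · exact relw_45
  · exact relw_46
  · exact relw_47
  · exact relw_48
  · exact relw_49
  · exact relw_50
  · exact relw_51
  · exact relw_52
  · exact relw_53
  · exact relw_54
  · exact relw_55
  · exact relw_56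

theorem hsubT : ∀ wi, wi < E.D.nw → E.D.nrel ≤ wi →
    walkT ctF (E.D.wlen wi) (E.D.wordP wi) 0 = 0 :=
  subAll_spec ctF D D.nw sub_ok

end Cfsg.Agent.Helper5.FiYATC
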