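import Cfsg.Agent.Helper5.FiYBTCDatD
import Cfsg.Agent.Helper5.TCIB

/-! kernel checks of edges, aliases, rows: FiYBTC -/

set_option autoImplicit false
set_option Elab.async false

namespace Cfsg.Agent.Helper5.FiYBTC
open Cfsg.Agent.Helper5.TC Cfsg.Agent.Helper5.TCI

set_option maxRecDepth 1000000 in
theorem edges_2_6 : edgesRangeI iota E 2 1837 13750 = true := by decide +kernel

set_option maxRecDepth 1000000 in
theorem edges_3_0 : edgesRangeI iota E 3 2501 0 = true := by decide +kernel

set_option maxRecDepth 1000000 in
theorem edges_1_2 : edgesRangeI iota E 1 2465 5201 = true := by decide +kernel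

set_option maxRecDepth 1000000 in
theorem edges_6_3 : edgesRangeI iota E 6 2055 7137 = true := by decide +kernel

set_option maxRecDepth 1000000 in
theorem edges_7_2 : edgesRangeI iota E 7 2108 4500 = true := by decide +kernel

set_option maxRecDepth 1000000 in
theorem edges_2_2 : edgesRangeI iota E 2 2252 5152 = true := by decide +kernel

set_option maxRecDepth 1000000 in
theorem edges_3_1 : edgesRangeI iota E 3 2646 2501 = true := by decide +kernel

set_option maxRecDepth 1000000 in
theorem edges_8_1 : edgesRangeI iota E 8 3633 3683 = true := by decide +kernel

set_option maxRecDepth 1000000 in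
theorem edges_4_1 : edgesRangeI iota E 4 2816 2400 = true := by decide +kernel

set_option maxRecDepth 1000000 in
theorem edges_8_3 : edgesRangeI iota E 8 1943 9840 = true := by decide +kernel

set_option maxRecDepth 1000000 in
theorem edges_0_5 : edgesRangeI iota E 0 1779 12795 = true := by decide +kernel

set_option maxRecDepth 1000000 in
theorem edges_1_6 : edgesRangeI iota E 1 1851 14189 = true := by decide +kernel

set_option maxRecDepth 1000000 in
theorem edges_2_5 : edgesRangeI iota E 2 2190 11560 = true := by decide +kernel

set_option maxRecDepth 1000000 in
theorem edges_3_7 : edgesRangeI iota E 3 1742 14911 = true := by decide +kernel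

set_option maxRecDepth 1000000 in
theorem edges_4_4 : edgesRangeI iota E 4 2000 9510 = true := by decide +kernel

set_option maxRecDepth 1000000 in
theorem edges_4_6 : edgesRangeI iota E 4 2140 13665 = true := by decide +kernel

set_option maxRecDepth 1000000 in
theorem edges_5_2 : edgesRangeI iota E 5 2567 4913 = true := by decide +kernel

set_option maxRecDepth 1000000 in
theorem edges_5_4 : edgesRangeI iota E 5 1749 9453 = true := by decide +kernel

set_option maxRecDepth 1000000 in
theorem edges_6_6 : edgesRangeI iota E 6 2566 12959 = true := by decide +kernel

set_option maxRecDepth 1000000 in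
theorem edges_8_5 : edgesRangeI iota E 8 1846 13543 = true := by decide +kernel

set_option maxRecDepth 1000000 in
theorem edges_0_4 : edgesRangeI iota E 0 1963 10832 = true := by decide +kernel

set_option maxRecDepth 1000000 in
theorem edges_2_3 : edgesRangeI iota E 2 2071 7404 = true := by decide +kernel

set_option maxRecDepth 1000000 in
theorem edges_6_1 : edgesRangeI iota E 6 2428 2383 = true := by decide +kernel

set_option maxRecDepth 1000000 in
theorem edges_8_2 : edgesRangeI iota E 8 2524 7316 = true := by decide +kernel

set_option maxRecDepth 1000000 in
theorem edges_0_0 : edgesRangeI iota E 0 2423 0 = true := by decide +kernel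

set_option maxRecDepth 1000000 in
theorem edges_0_2 : edgesRangeI iota E 0 2818 5744 = true := by decide +kernel

set_option maxRecDepth 1000000 in
theorem edges_1_4 : edgesRangeI iota E 1 2254 10007 = true := by decide +kernel

set_option maxRecDepth 1000000 in
theorem edges_2_4 : edgesRangeI iota E 2 2085 9475 = true := by decide +kernel

set_option maxRecDepth 1000000 in
theorem edges_4_0 : edgesRangeI iota E 4 2400 0 = true := by decide +kernel

set_option maxRecDepth 1000000 in
theorem edges_5_1 : edgesRangeI iota E 5 2738 2175 = true := by decide +kernel

set_option maxRecDepth 1000000 in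
theorem edges_5_6 : edgesRangeI iota E 5 2141 13058 = true := by decide +kernel

set_option maxRecDepth 1000000 in
theorem edges_6_0 : edgesRangeI iota E 6 2383 0 = true := by decide +kernel

set_option maxRecDepth 1000000 in
theorem edges_7_3 : edgesRangeI iota E 7 2087 6608 = true := by decide +kernel

set_option maxRecDepth 1000000 in
theorem edges_7_6 : edgesRangeI iota E 7 1828 12359 = true := by decide +kernel

set_option maxRecDepth 1000000 in
theorem edges_8_4 : edgesRangeI iota E 8 1760 11783 = true := by decide +kernel

set_option maxRecDepth 1000000 in
theorem aliases_2 : aliasRange E 6948 7003 = true := by decide +kernel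

set_option maxRecDepth 1000000 in
theorem edges_1_7 : edgesRangeI iota E 1 1311 16040 = true := by decide +kernel

set_option maxRecDepth 1000000 in
theorem rows_0 : rowsRange E RS 1500 0 = true := by decide +kernel

set_option maxRecDepth 1000000 in
theorem rows_2 : rowsRange E RS 1500 3000 = true := by decide +kernel

set_option maxRecDepth 1000000 in
theorem rows_4 : rowsRange E RS 1500 6000 = true := by decide +kernel

set_option maxRecDepth 1000000 in
theorem rows_6 : rowsRange E RS 1500 9000 = true := by decide +kernel

set_option maxRecDepth 1000000 in
theorem rows_8 : rowsRange E RS 1500 12000 = true := by decide +kernel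

set_option maxRecDepth 1000000 in
theorem rows_10 : rowsRange E RS 1500 15000 = true := by decide +kernel

set_option maxRecDepth 1000000 in
theorem aliases_3 : aliasRange E 3400 13951 = true := by decide +kernel

set_option maxRecDepth 1000000 in
theorem edges_5_8 : edgesRangeI iota E 5 244 17107 = true := by decide +kernel

set_option maxRecDepth 1000000 in
theorem edges_7_8 : edgesRangeI iota E 7 125 17226 = true := by decide +kernel

set_option maxRecDepth 1000000 in
theorem edges_2_8 : edgesRangeI iota E 2 35 17316 = true := by decide +kernel

end Cfsg.Agent.Helper5.FiYBTC
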