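import Cfsg.Agent.Helper5.FiYBTCDatD
import Cfsg.Agent.Helper5.FiYBTCDatT
import Cfsg.Agent.Helper5.TCIB

/-! kernel checks of the coset table: FiYBTC -/

set_option autoImplicit false
set_option Elab.async false

namespace Cfsg.Agent.Helper5.FiYBTC
open Cfsg.Agent.Helper5.TC Cfsg.Agent.Helper5.TCI

set_option maxRecDepth 1000000 in
theorem relc_46_0 : fixPtsF W_46 3174 0 = true := by decide +kernel

set_option maxRecDepth 1000000 in
theorem relc_46_2 : fixPtsF W_46 3174 6348 = true := by decide +kernel

set_option maxRecDepth 1000000 in
theorem relc_45_0 : fixPtsF W_45 2222 0 = true := by decide +kernel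

set_option maxRecDepth 1000000 in
theorem relc_45_2 : fixPtsF W_45 2222 4444 = true := by decide +kernel

set_option maxRecDepth 1000000 in
theorem relc_45_4 : fixPtsF W_45 2222 8888 = true := by decide +kernel

set_option maxRecDepth 1000000 in
theorem relc_1_0 : fixPtsF W_1 14080 0 = true := by decide +kernel

set_option maxRecDepth 1000000 in
theorem relc_10_0 : fixPtsF W_10 14080 0 = true := by decide +kernel

set_option maxRecDepth 1000000 in
theorem relc_19_0 : fixPtsF W_19 14080 0 = true := by decide +kernel

set_option maxRecDepth 1000000 in
theorem relc_31_0 : fixPtsF W_31 14080 0 = true := by decide +kernel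

set_option maxRecDepth 1000000 in
theorem relc_2_0 : fixPtsF W_2 14080 0 = true := by decide +kernel

set_option maxRecDepth 1000000 in
theorem relc_4_0 : fixPtsF W_4 14080 0 = true := by decide +kernel

set_option maxRecDepth 1000000 in
theorem relc_6_0 : fixPtsF W_6 14080 0 = true := by decide +kernel

set_option maxRecDepth 1000000 in
theorem relc_11_0 : fixPtsF W_11 14080 0 = true := by decide +kernel

set_option maxRecDepth 1000000 in
theorem relc_13_0 : fixPtsF W_13 14080 0 = true := by decide +kernel

set_option maxRecDepth 1000000 in
theorem relc_15_0 : fixPtsF W_15 14080 0 = true := by decide +kernel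

set_option maxRecDepth 1000000 in
theorem relc_20_0 : fixPtsF W_20 14080 0 = true := by decide +kernel

set_option maxRecDepth 1000000 in
theorem relc_22_0 : fixPtsF W_22 14080 0 = true := by decide +kernel

set_option maxRecDepth 1000000 in
theorem relc_25_0 : fixPtsF W_25 14080 0 = true := by decide +kernel

set_option maxRecDepth 1000000 in
theorem relc_28_0 : fixPtsF W_28 14080 0 = true := by decide +kernel

set_option maxRecDepth 1000000 in
theorem relc_32_0 : fixPtsF W_32 14080 0 = true := by decide +kernel

set_option maxRecDepth 1000000 in
theorem relc_34_0 : fixPtsF W_34 14080 0 = true := by decide +kernel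

set_option maxRecDepth 1000000 in
theorem relc_37_0 : fixPtsF W_37 14080 0 = true := by decide +kernel

set_option maxRecDepth 1000000 in
theorem relc_41_0 : fixPtsF W_41 14080 0 = true := by decide +kernel

set_option maxRecDepth 1000000 in
theorem relc_46_4 : fixPtsF W_46 1384 12696 = true := by decide +kernel

set_option maxRecDepth 1000000 in
theorem relc_17_0 : fixPtsF W_17 14080 0 = true := by decide +kernel

set_option maxRecDepth 1000000 in
theorem relc_30_0 : fixPtsF W_30 14080 0 = true := by decide +kernel

set_option maxRecDepth 1000000 in
theorem relc_39_0 : fixPtsF W_39 14080 0 = true := by decide +kernel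

set_option maxRecDepth 1000000 in
theorem relc_44_0 : fixPtsF W_44 14080 0 = true := by decide +kernel

set_option maxRecDepth 1000000 in
theorem inv_0_0 : invRowFI ctF 14080 0 0 14080 0 = true := by decide +kernel

set_option maxRecDepth 1000000 in
theorem inv_1_0 : invRowFI ctF 14080 1 1 14080 0 = true := by decide +kernel

set_option maxRecDepth 1000000 in
theorem inv_3_0 : invRowFI ctF 14080 3 3 14080 0 = true := by decide +kernel

set_option maxRecDepth 1000000 in
theorem inv_5_0 : invRowFI ctF 14080 5 5 14080 0 = true := by decide +kernel

set_option maxRecDepth 1000000 in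
theorem inv_7_0 : invRowFI ctF 14080 7 7 14080 0 = true := by decide +kernel

set_option maxRecDepth 1000000 in
theorem conn_0 : connF ctF 9 14080 0 = true := by decide +kernel

end Cfsg.Agent.Helper5.FiYBTC
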