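import Cfsg.Agent.Helper5.FiYBTCChkE0
import Cfsg.Agent.Helper5.FiYBTCChkE1
import Cfsg.Agent.Helper5.FiYBTCChkR0
import Cfsg.Agent.Helper5.FiYBTCChkR1
import Cfsg.Agent.Helper5.FiYBTCChkA
import Cfsg.Agent.Helper5.TCIB

/-! summary of the kernel checks: FiYBTC -/

set_option autoImplicit false
set_option Elab.async false

namespace Cfsg.Agent.Helper5.FiYBTC
open Cfsg.Agent.Helper5.TC Cfsg.Agent.Helper5.TCI

theorem edgesx_0 : ∀ v, v < 17351 → edgeOKI iota E 0 v = true := by
  intro v hv
  rcases Nat.lt_or_ge v 10832 with h | h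
  · rcases Nat.lt_or_ge v 5744 with h | h
    · rcases Nat.lt_or_ge v 2423 with h | h
      · exact edgesRangeI_spec iota E 0 2423 0 edges_0_0 v (by omega) (by omega)
      · exact edgesRangeI_spec iota E 0 3321 2423 edges_0_1 v (by omega) (by omega)
    · rcases Nat.lt_or_ge v 8562 with h | h
      · exact edgesRangeI_spec iota E 0 2818 5744 edges_0_2 v (by omega) (by omega)
      · exact edgesRangeI_spec iota E 0 2270 8562 edges_0_3 v (by omega) (by omega)
  · rcases Nat.lt_or_ge v 14574 with h | h
    · rcases Nat.lt_or_ge v 12795 with h | h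
      · exact edgesRangeI_spec iota E 0 1963 10832 edges_0_4 v (by omega) (by omega)
      · exact edgesRangeI_spec iota E 0 1779 12795 edges_0_5 v (by omega) (by omega)
    · rcases Nat.lt_or_ge v 16377 with h | h
      · exact edgesRangeI_spec iota E 0 1803 14574 edges_0_6 v (by omega) (by omega)
      · exact edgesRangeI_spec iota E 0 974 16377 edges_0_7 v (by omega) (by omega)

theorem edgesx_1 : ∀ v, v < 17351 → edgeOKI iota E 1 v = true := by
  intro v hv
  rcases Nat.lt_or_ge v 10007 with h | h
  · rcases Nat.lt_or_ge v 5201 with h | h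
    · rcases Nat.lt_or_ge v 2370 with h | h
      · exact edgesRangeI_spec iota E 1 2370 0 edges_1_0 v (by omega) (by omega)
      · exact edgesRangeI_spec iota E 1 2831 2370 edges_1_1 v (by omega) (by omega)
    · rcases Nat.lt_or_ge v 7666 with h | h
      · exact edgesRangeI_spec iota E 1 2465 5201 edges_1_2 v (by omega) (by omega)
      · exact edgesRangeI_spec iota E 1 2341 7666 edges_1_3 v (by omega) (by omega)
  · rcases Nat.lt_or_ge v 14189 with h | h
    · rcases Nat.lt_or_ge v 12261 with h | h
      · exact edgesRangeI_spec iota E 1 2254 10007 edges_1_4 v (by omega) (by omega)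
      · exact edgesRangeI_spec iota E 1 1928 12261 edges_1_5 v (by omega) (by omega)
    · rcases Nat.lt_or_ge v 16040 with h | h
      · exact edgesRangeI_spec iota E 1 1851 14189 edges_1_6 v (by omega) (by omega)
      · exact edgesRangeI_spec iota E 1 1311 16040 edges_1_7 v (by omega) (by omega)

theorem edgesx_2 : ∀ v, v < 17351 → edgeOKI iota E 2 v = true := by
  intro v hv
  rcases Nat.lt_or_ge v 9475 with h | h
  · rcases Nat.lt_or_ge v 5152 with h | h
    · rcases Nat.lt_or_ge v 2428 with h | h
      · exact edgesRangeI_spec iota E 2 2428 0 edges_2_0 v (by omega) (by omega)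
      · exact edgesRangeI_spec iota E 2 2724 2428 edges_2_1 v (by omega) (by omega)
    · rcases Nat.lt_or_ge v 7404 with h | h
      · exact edgesRangeI_spec iota E 2 2252 5152 edges_2_2 v (by omega) (by omega)
      · exact edgesRangeI_spec iota E 2 2071 7404 edges_2_3 v (by omega) (by omega)
  · rcases Nat.lt_or_ge v 13750 with h | h
    · rcases Nat.lt_or_ge v 11560 with h | h
      · exact edgesRangeI_spec iota E 2 2085 9475 edges_2_4 v (by omega) (by omega)
      · exact edgesRangeI_spec iota E 2 2190 11560 edges_2_5 v (by omega) (by omega)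
    · rcases Nat.lt_or_ge v 15587 with h | h
      · exact edgesRangeI_spec iota E 2 1837 13750 edges_2_6 v (by omega) (by omega)
      · rcases Nat.lt_or_ge v 17316 with h | h
        · exact edgesRangeI_spec iota E 2 1729 15587 edges_2_7 v (by omega) (by omega)
        · exact edgesRangeI_spec iota E 2 35 17316 edges_2_8 v (by omega) (by omega)

theorem edgesx_3 : ∀ v, v < 17351 → edgeOKI iota E 3 v = true := by
  intro v hv
  rcases Nat.lt_or_ge v 9210 with h | h
  · rcases Nat.lt_or_ge v 5147 with h | h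
    · rcases Nat.lt_or_ge v 2501 with h | h
      · exact edgesRangeI_spec iota E 3 2501 0 edges_3_0 v (by omega) (by omega)
      · exact edgesRangeI_spec iota E 3 2646 2501 edges_3_1 v (by omega) (by omega)
    · rcases Nat.lt_or_ge v 7315 with h | h
      · exact edgesRangeI_spec iota E 3 2168 5147 edges_3_2 v (by omega) (by omega)
      · exact edgesRangeI_spec iota E 3 1895 7315 edges_3_3 v (by omega) (by omega)
  · rcases Nat.lt_or_ge v 12906 with h | h
    · rcases Nat.lt_or_ge v 11056 with h | h
      · exact edgesRangeI_spec iota E 3 1846 9210 edges_3_4 v (by omega) (by omega)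
      · exact edgesRangeI_spec iota E 3 1850 11056 edges_3_5 v (by omega) (by omega)
    · rcases Nat.lt_or_ge v 14911 with h | h
      · exact edgesRangeI_spec iota E 3 2005 12906 edges_3_6 v (by omega) (by omega)
      · rcases Nat.lt_or_ge v 16653 with h | h
        · exact edgesRangeI_spec iota E 3 1742 14911 edges_3_7 v (by omega) (by omega)
        · exact edgesRangeI_spec iota E 3 698 16653 edges_3_8 v (by omega) (by omega)

theorem edgesx_4 : ∀ v, v < 17351 → edgeOKI iota E 4 v = true := by
  intro v hv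
  rcases Nat.lt_or_ge v 9510 with h | h
  · rcases Nat.lt_or_ge v 5216 with h | h
    · rcases Nat.lt_or_ge v 2400 with h | h
      · exact edgesRangeI_spec iota E 4 2400 0 edges_4_0 v (by omega) (by omega)
      · exact edgesRangeI_spec iota E 4 2816 2400 edges_4_1 v (by omega) (by omega)
    · rcases Nat.lt_or_ge v 7444 with h | h
      · exact edgesRangeI_spec iota E 4 2228 5216 edges_4_2 v (by omega) (by omega)
      · exact edgesRangeI_spec iota E 4 2066 7444 edges_4_3 v (by omega) (by omega)
  · rcases Nat.lt_or_ge v 13665 with h | h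
    · rcases Nat.lt_or_ge v 11510 with h | h
      · exact edgesRangeI_spec iota E 4 2000 9510 edges_4_4 v (by omega) (by omega)
      · exact edgesRangeI_spec iota E 4 2155 11510 edges_4_5 v (by omega) (by omega)
    · rcases Nat.lt_or_ge v 15805 with h | h
      · exact edgesRangeI_spec iota E 4 2140 13665 edges_4_6 v (by omega) (by omega)
      · exact edgesRangeI_spec iota E 4 1546 15805 edges_4_7 v (by omega) (by omega)

theorem edgesx_5 : ∀ v, v < 17351 → edgeOKI iota E 5 v = true := by
  intro v hv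
  rcases Nat.lt_or_ge v 9453 with h | h
  · rcases Nat.lt_or_ge v 4913 with h | h
    · rcases Nat.lt_or_ge v 2175 with h | h
      · exact edgesRangeI_spec iota E 5 2175 0 edges_5_0 v (by omega) (by omega)
      · exact edgesRangeI_spec iota E 5 2738 2175 edges_5_1 v (by omega) (by omega)
    · rcases Nat.lt_or_ge v 7480 with h | h
      · exact edgesRangeI_spec iota E 5 2567 4913 edges_5_2 v (by omega) (by omega)
      · exact edgesRangeI_spec iota E 5 1973 7480 edges_5_3 v (by omega) (by omega)
  · rcases Nat.lt_or_ge v 13058 with h | h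
    · rcases Nat.lt_or_ge v 11202 with h | h
      · exact edgesRangeI_spec iota E 5 1749 9453 edges_5_4 v (by omega) (by omega)
      · exact edgesRangeI_spec iota E 5 1856 11202 edges_5_5 v (by omega) (by omega)
    · rcases Nat.lt_or_ge v 15199 with h | h
      · exact edgesRangeI_spec iota E 5 2141 13058 edges_5_6 v (by omega) (by omega)
      · rcases Nat.lt_or_ge v 17107 with h | h
        · exact edgesRangeI_spec iota E 5 1908 15199 edges_5_7 v (by omega) (by omega)
        · exact edgesRangeI_spec iota E 5 244 17107 edges_5_8 v (by omega) (by omega)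

theorem edgesx_6 : ∀ v, v < 17351 → edgeOKI iota E 6 v = true := by
  intro v hv
  rcases Nat.lt_or_ge v 9192 with h | h
  · rcases Nat.lt_or_ge v 4811 with h | h
    · rcases Nat.lt_or_ge v 2383 with h | h
      · exact edgesRangeI_spec iota E 6 2383 0 edges_6_0 v (by omega) (by omega)
      · exact edgesRangeI_spec iota E 6 2428 2383 edges_6_1 v (by omega) (by omega)
    · rcases Nat.lt_or_ge v 7137 with h | h
      · exact edgesRangeI_spec iota E 6 2326 4811 edges_6_2 v (by omega) (by omega)
      · exact edgesRangeI_spec iota E 6 2055 7137 edges_6_3 v (by omega) (by omega)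
  · rcases Nat.lt_or_ge v 12959 with h | h
    · rcases Nat.lt_or_ge v 11062 with h | h
      · exact edgesRangeI_spec iota E 6 1870 9192 edges_6_4 v (by omega) (by omega)
      · exact edgesRangeI_spec iota E 6 1897 11062 edges_6_5 v (by omega) (by omega)
    · rcases Nat.lt_or_ge v 15525 with h | h
      · exact edgesRangeI_spec iota E 6 2566 12959 edges_6_6 v (by omega) (by omega)
      · exact edgesRangeI_spec iota E 6 1826 15525 edges_6_7 v (by omega) (by omega)

theorem edgesx_7 : ∀ v, v < 17351 → edgeOKI iota E 7 v = true := by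
  intro v hv
  rcases Nat.lt_or_ge v 8695 with h | h
  · rcases Nat.lt_or_ge v 4500 with h | h
    · rcases Nat.lt_or_ge v 2264 with h | h
      · exact edgesRangeI_spec iota E 7 2264 0 edges_7_0 v (by omega) (by omega)
      · exact edgesRangeI_spec iota E 7 2236 2264 edges_7_1 v (by omega) (by omega)
    · rcases Nat.lt_or_ge v 6608 with h | h
      · exact edgesRangeI_spec iota E 7 2108 4500 edges_7_2 v (by omega) (by omega)
      · exact edgesRangeI_spec iota E 7 2087 6608 edges_7_3 v (by omega) (by omega)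
  · rcases Nat.lt_or_ge v 12359 with h | h
    · rcases Nat.lt_or_ge v 10516 with h | h
      · exact edgesRangeI_spec iota E 7 1821 8695 edges_7_4 v (by omega) (by omega)
      · exact edgesRangeI_spec iota E 7 1843 10516 edges_7_5 v (by omega) (by omega)
    · rcases Nat.lt_or_ge v 14187 with h | h
      · exact edgesRangeI_spec iota E 7 1828 12359 edges_7_6 v (by omega) (by omega)
      · rcases Nat.lt_or_ge v 17226 with h | h
        · exact edgesRangeI_spec iota E 7 3039 14187 edges_7_7 v (by omega) (by omega)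
        · exact edgesRangeI_spec iota E 7 125 17226 edges_7_8 v (by omega) (by omega)

theorem edgesx_8 : ∀ v, v < 17351 → edgeOKI iota E 8 v = true := by
  intro v hv
  rcases Nat.lt_or_ge v 11783 with h | h
  · rcases Nat.lt_or_ge v 7316 with h | h
    · rcases Nat.lt_or_ge v 3683 with h | h
      · exact edgesRangeI_spec iota E 8 3683 0 edges_8_0 v (by omega) (by omega)
      · exact edgesRangeI_spec iota E 8 3633 3683 edges_8_1 v (by omega) (by omega)
    · rcases Nat.lt_or_ge v 9840 with h | h
      · exact edgesRangeI_spec iota E 8 2524 7316 edges_8_2 v (by omega) (by omega)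
      · exact edgesRangeI_spec iota E 8 1943 9840 edges_8_3 v (by omega) (by omega)
  · rcases Nat.lt_or_ge v 15389 with h | h
    · rcases Nat.lt_or_ge v 13543 with h | h
      · exact edgesRangeI_spec iota E 8 1760 11783 edges_8_4 v (by omega) (by omega)
      · exact edgesRangeI_spec iota E 8 1846 13543 edges_8_5 v (by omega) (by omega)
    · rcases Nat.lt_or_ge v 17293 with h | h
      · exact edgesRangeI_spec iota E 8 1904 15389 edges_8_6 v (by omega) (by omega)
      · exact edgesRangeI_spec iota E 8 58 17293 edges_8_7 v (by omega) (by omega)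

theorem hA0 : ∀ v, v < 17351 → aliasOK E v = true := by
  intro v hv
  rcases Nat.lt_or_ge v 7003 with h | h
  · rcases Nat.lt_or_ge v 3852 with h | h
    · exact aliasRange_spec E 3852 0 aliases_0 v (by omega) (by omega)
    · exact aliasRange_spec E 3151 3852 aliases_1 v (by omega) (by omega)
  · rcases Nat.lt_or_ge v 13951 with h | h
    · exact aliasRange_spec E 6948 7003 aliases_2 v (by omega) (by omega)
    · exact aliasRange_spec E 3400 13951 aliases_3 v (by omega) (by omega)

theorem hrows0 : ∀ v, v < 17351 → tb RS v = true → rowOK2 E RS v E.D.k = true := by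
  intro v hv
  rcases Nat.lt_or_ge v 9000 with h | h
  · rcases Nat.lt_or_ge v 4500 with h | h
    · rcases Nat.lt_or_ge v 1500 with h | h
      · exact rowsRange_spec E RS 1500 0 rows_0 v (by omega) (by omega)
      · rcases Nat.lt_or_ge v 3000 with h | h
        · exact rowsRange_spec E RS 1500 1500 rows_1 v (by omega) (by omega)
        · exact rowsRange_spec E RS 1500 3000 rows_2 v (by omega) (by omega)
    · rcases Nat.lt_or_ge v 6000 with h | h
      · exact rowsRange_spec E RS 1500 4500 rows_3 v (by omega) (by omega)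
      · rcases Nat.lt_or_ge v 7500 with h | h
        · exact rowsRange_spec E RS 1500 6000 rows_4 v (by omega) (by omega)
        · exact rowsRange_spec E RS 1500 7500 rows_5 v (by omega) (by omega)
  · rcases Nat.lt_or_ge v 13500 with h | h
    · rcases Nat.lt_or_ge v 10500 with h | h
      · exact rowsRange_spec E RS 1500 9000 rows_6 v (by omega) (by omega)
      · rcases Nat.lt_or_ge v 12000 with h | h
        · exact rowsRange_spec E RS 1500 10500 rows_7 v (by omega) (by omega)
        · exact rowsRange_spec E RS 1500 12000 rows_8 v (by omega) (by omega)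
    · rcases Nat.lt_or_ge v 15000 with h | h
      · exact rowsRange_spec E RS 1500 13500 rows_9 v (by omega) (by omega)
      · rcases Nat.lt_or_ge v 16500 with h | h
        · exact rowsRange_spec E RS 1500 15000 rows_10 v (by omega) (by omega)
        · exact rowsRange_spec E RS 851 16500 rows_11 v (by omega) (by omega)

theorem cb_0 : cntBits RS 0 = 0 := rfl

theorem cb_1 : cntBits RS 17351 = 14080 := by
  have h := cntBits_step RS 0 17351
  rw [cb_0, cnt_0] at h
  exact h

theorem set_ok : setOK 17351 14080 RS = true :=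
  setOK_of_parts cb_1 set_zero set_lt

theorem relf_0 : ∀ v, v < 14080 → W_0 v = v := by
  intro v hv
  exact fixPtsF_spec W_0 14080 0 relc_0_0 v (by omega) (by omega)

set_option maxRecDepth 1000000 in
theorem walk_0 : ∀ v, walkT ctF (D.wlen 0) (D.wordP 0) v = W_0 v := by
  intro v
  simp only [W_0, forceL_eq]
  rfl

theorem relw_0 : ∀ v, v < 14080 → walkT ctF (D.wlen 0) (D.wordP 0) v = v := by
  intro v hv
  rw [walk_0]
  exact relf_0 v hv

theorem relf_1 : ∀ v, v < 14080 → W_1 v = v := by
  intro v hv
  exact fixPtsF_spec W_1 14080 0 relc_1_0 v (by omega) (by omega)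

set_option maxRecDepth 1000000 in
theorem walk_1 : ∀ v, walkT ctF (D.wlen 1) (D.wordP 1) v = W_1 v := by
  intro v
  simp only [W_1, forceL_eq]
  rfl

theorem relw_1 : ∀ v, v < 14080 → walkT ctF (D.wlen 1) (D.wordP 1) v = v := by
  intro v hv
  rw [walk_1]
  exact relf_1 v hv

theorem relf_2 : ∀ v, v < 14080 → W_2 v = v := by
  intro v hv
  exact fixPtsF_spec W_2 14080 0 relc_2_0 v (by omega) (by omega)

set_option maxRecDepth 1000000 in
theorem walk_2 : ∀ v, walkT ctF (D.wlen 2) (D.wordP 2) v = W_2 v := by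
  intro v
  simp only [W_2, forceL_eq]
  rfl

theorem relw_2 : ∀ v, v < 14080 → walkT ctF (D.wlen 2) (D.wordP 2) v = v := by
  intro v hv
  rw [walk_2]
  exact relf_2 v hv

theorem relf_3 : ∀ v, v < 14080 → W_3 v = v := by
  intro v hv
  exact fixPtsF_spec W_3 14080 0 relc_3_0 v (by omega) (by omega)

set_option maxRecDepth 1000000 in
theorem walk_3 : ∀ v, walkT ctF (D.wlen 3) (D.wordP 3) v = W_3 v := by
  intro v
  simp only [W_3, forceL_eq]
  rfl

theorem relw_3 : ∀ v, v < 14080 → walkT ctF (D.wlen 3) (D.wordP 3) v = v := by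
  intro v hv
  rw [walk_3]
  exact relf_3 v hv

theorem relf_4 : ∀ v, v < 14080 → W_4 v = v := by
  intro v hv
  exact fixPtsF_spec W_4 14080 0 relc_4_0 v (by omega) (by omega)

set_option maxRecDepth 1000000 in
theorem walk_4 : ∀ v, walkT ctF (D.wlen 4) (D.wordP 4) v = W_4 v := by
  intro v
  simp only [W_4, forceL_eq]
  rfl

theorem relw_4 : ∀ v, v < 14080 → walkT ctF (D.wlen 4) (D.wordP 4) v = v := by
  intro v hv
  rw [walk_4]
  exact relf_4 v hv

theorem relf_5 : ∀ v, v < 14080 → W_5 v = v := by
  intro v hv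
  exact fixPtsF_spec W_5 14080 0 relc_5_0 v (by omega) (by omega)

set_option maxRecDepth 1000000 in
theorem walk_5 : ∀ v, walkT ctF (D.wlen 5) (D.wordP 5) v = W_5 v := by
  intro v
  simp only [W_5, forceL_eq]
  rfl

theorem relw_5 : ∀ v, v < 14080 → walkT ctF (D.wlen 5) (D.wordP 5) v = v := by
  intro v hv
  rw [walk_5]
  exact relf_5 v hv

theorem relf_6 : ∀ v, v < 14080 → W_6 v = v := by
  intro v hv
  exact fixPtsF_spec W_6 14080 0 relc_6_0 v (by omega) (by omega)

set_option maxRecDepth 1000000 in
theorem walk_6 : ∀ v, walkT ctF (D.wlen 6) (D.wordP 6) v = W_6 v := by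
  intro v
  simp only [W_6, forceL_eq]
  rfl

theorem relw_6 : ∀ v, v < 14080 → walkT ctF (D.wlen 6) (D.wordP 6) v = v := by
  intro v hv
  rw [walk_6]
  exact relf_6 v hv

theorem relf_7 : ∀ v, v < 14080 → W_7 v = v := by
  intro v hv
  exact fixPtsF_spec W_7 14080 0 relc_7_0 v (by omega) (by omega)

set_option maxRecDepth 1000000 in
theorem walk_7 : ∀ v, walkT ctF (D.wlen 7) (D.wordP 7) v = W_7 v := by
  intro v
  simp only [W_7, forceL_eq]
  rfl

theorem relw_7 : ∀ v, v < 14080 → walkT ctF (D.wlen 7) (D.wordP 7) v = v := by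
  intro v hv
  rw [walk_7]
  exact relf_7 v hv

theorem relf_8 : ∀ v, v < 14080 → W_8 v = v := by
  intro v hv
  exact fixPtsF_spec W_8 14080 0 relc_8_0 v (by omega) (by omega)

set_option maxRecDepth 1000000 in
theorem walk_8 : ∀ v, walkT ctF (D.wlen 8) (D.wordP 8) v = W_8 v := by
  intro v
  simp only [W_8, forceL_eq]
  rfl

theorem relw_8 : ∀ v, v < 14080 → walkT ctF (D.wlen 8) (D.wordP 8) v = v := by
  intro v hv
  rw [walk_8]
  exact relf_8 v hv

theorem relf_9 : ∀ v, v < 14080 → W_9 v = v := by
  intro v hv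
  exact fixPtsF_spec W_9 14080 0 relc_9_0 v (by omega) (by omega)

set_option maxRecDepth 1000000 in
theorem walk_9 : ∀ v, walkT ctF (D.wlen 9) (D.wordP 9) v = W_9 v := by
  intro v
  simp only [W_9, forceL_eq]
  rfl

theorem relw_9 : ∀ v, v < 14080 → walkT ctF (D.wlen 9) (D.wordP 9) v = v := by
  intro v hv
  rw [walk_9]
  exact relf_9 v hv

theorem relf_10 : ∀ v, v < 14080 → W_10 v = v := by
  intro v hv
  exact fixPtsF_spec W_10 14080 0 relc_10_0 v (by omega) (by omega)

set_option maxRecDepth 1000000 in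
theorem walk_10 : ∀ v, walkT ctF (D.wlen 10) (D.wordP 10) v = W_10 v := by
  intro v
  simp only [W_10, forceL_eq]
  rfl

theorem relw_10 : ∀ v, v < 14080 → walkT ctF (D.wlen 10) (D.wordP 10) v = v := by
  intro v hv
  rw [walk_10]
  exact relf_10 v hv

theorem relf_11 : ∀ v, v < 14080 → W_11 v = v := by
  intro v hv
  exact fixPtsF_spec W_11 14080 0 relc_11_0 v (by omega) (by omega)

set_option maxRecDepth 1000000 in
theorem walk_11 : ∀ v, walkT ctF (D.wlen 11) (D.wordP 11) v = W_11 v := by
  intro v
  simp only [W_11, forceL_eq]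
  rfl

theorem relw_11 : ∀ v, v < 14080 → walkT ctF (D.wlen 11) (D.wordP 11) v = v := by
  intro v hv
  rw [walk_11]
  exact relf_11 v hv

theorem relf_12 : ∀ v, v < 14080 → W_12 v = v := by
  intro v hv
  exact fixPtsF_spec W_12 14080 0 relc_12_0 v (by omega) (by omega)

set_option maxRecDepth 1000000 in
theorem walk_12 : ∀ v, walkT ctF (D.wlen 12) (D.wordP 12) v = W_12 v := by
  intro v
  simp only [W_12, forceL_eq]
  rfl

theorem relw_12 : ∀ v, v < 14080 → walkT ctF (D.wlen 12) (D.wordP 12) v = v := by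
  intro v hv
  rw [walk_12]
  exact relf_12 v hv

theorem relf_13 : ∀ v, v < 14080 → W_13 v = v := by
  intro v hv
  exact fixPtsF_spec W_13 14080 0 relc_13_0 v (by omega) (by omega)

set_option maxRecDepth 1000000 in
theorem walk_13 : ∀ v, walkT ctF (D.wlen 13) (D.wordP 13) v = W_13 v := by
  intro v
  simp only [W_13, forceL_eq]
  rfl

theorem relw_13 : ∀ v, v < 14080 → walkT ctF (D.wlen 13) (D.wordP 13) v = v := by
  intro v hv
  rw [walk_13]
  exact relf_13 v hv

theorem relf_14 : ∀ v, v < 14080 → W_14 v = v := by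
  intro v hv
  exact fixPtsF_spec W_14 14080 0 relc_14_0 v (by omega) (by omega)

set_option maxRecDepth 1000000 in
theorem walk_14 : ∀ v, walkT ctF (D.wlen 14) (D.wordP 14) v = W_14 v := by
  intro v
  simp only [W_14, forceL_eq]
  rfl

theorem relw_14 : ∀ v, v < 14080 → walkT ctF (D.wlen 14) (D.wordP 14) v = v := by
  intro v hv
  rw [walk_14]
  exact relf_14 v hv

theorem relf_15 : ∀ v, v < 14080 → W_15 v = v := by
  intro v hv
  exact fixPtsF_spec W_15 14080 0 relc_15_0 v (by omega) (by omega)

set_option maxRecDepth 1000000 in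
theorem walk_15 : ∀ v, walkT ctF (D.wlen 15) (D.wordP 15) v = W_15 v := by
  intro v
  simp only [W_15, forceL_eq]
  rfl

theorem relw_15 : ∀ v, v < 14080 → walkT ctF (D.wlen 15) (D.wordP 15) v = v := by
  intro v hv
  rw [walk_15]
  exact relf_15 v hv

theorem relf_16 : ∀ v, v < 14080 → W_16 v = v := by
  intro v hv
  exact fixPtsF_spec W_16 14080 0 relc_16_0 v (by omega) (by omega)

set_option maxRecDepth 1000000 in
theorem walk_16 : ∀ v, walkT ctF (D.wlen 16) (D.wordP 16) v = W_16 v := by
  intro v
  simp only [W_16, forceL_eq]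
  rfl

theorem relw_16 : ∀ v, v < 14080 → walkT ctF (D.wlen 16) (D.wordP 16) v = v := by
  intro v hv
  rw [walk_16]
  exact relf_16 v hv

theorem relf_17 : ∀ v, v < 14080 → W_17 v = v := by
  intro v hv
  exact fixPtsF_spec W_17 14080 0 relc_17_0 v (by omega) (by omega)

set_option maxRecDepth 1000000 in
theorem walk_17 : ∀ v, walkT ctF (D.wlen 17) (D.wordP 17) v = W_17 v := by
  intro v
  simp only [W_17, forceL_eq]
  rfl

theorem relw_17 : ∀ v, v < 14080 → walkT ctF (D.wlen 17) (D.wordP 17) v = v := by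
  intro v hv
  rw [walk_17]
  exact relf_17 v hv

theorem relf_18 : ∀ v, v < 14080 → W_18 v = v := by
  intro v hv
  exact fixPtsF_spec W_18 14080 0 relc_18_0 v (by omega) (by omega)

set_option maxRecDepth 1000000 in
theorem walk_18 : ∀ v, walkT ctF (D.wlen 18) (D.wordP 18) v = W_18 v := by
  intro v
  simp only [W_18, forceL_eq]
  rfl

theorem relw_18 : ∀ v, v < 14080 → walkT ctF (D.wlen 18) (D.wordP 18) v = v := by
  intro v hv
  rw [walk_18]
  exact relf_18 v hv

theorem relf_19 : ∀ v, v < 14080 → W_19 v = v := by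
  intro v hv
  exact fixPtsF_spec W_19 14080 0 relc_19_0 v (by omega) (by omega)

set_option maxRecDepth 1000000 in
theorem walk_19 : ∀ v, walkT ctF (D.wlen 19) (D.wordP 19) v = W_19 v := by
  intro v
  simp only [W_19, forceL_eq]
  rfl

theorem relw_19 : ∀ v, v < 14080 → walkT ctF (D.wlen 19) (D.wordP 19) v = v := by
  intro v hv
  rw [walk_19]
  exact relf_19 v hv

theorem relf_20 : ∀ v, v < 14080 → W_20 v = v := by
  intro v hv
  exact fixPtsF_spec W_20 14080 0 relc_20_0 v (by omega) (by omega)

set_option maxRecDepth 1000000 in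
theorem walk_20 : ∀ v, walkT ctF (D.wlen 20) (D.wordP 20) v = W_20 v := by
  intro v
  simp only [W_20, forceL_eq]
  rfl

theorem relw_20 : ∀ v, v < 14080 → walkT ctF (D.wlen 20) (D.wordP 20) v = v := by
  intro v hv
  rw [walk_20]
  exact relf_20 v hv

theorem relf_21 : ∀ v, v < 14080 → W_21 v = v := by
  intro v hv
  exact fixPtsF_spec W_21 14080 0 relc_21_0 v (by omega) (by omega)

set_option maxRecDepth 1000000 in
theorem walk_21 : ∀ v, walkT ctF (D.wlen 21) (D.wordP 21) v = W_21 v := by
  intro v
  simp only [W_21, forceL_eq]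
  rfl

theorem relw_21 : ∀ v, v < 14080 → walkT ctF (D.wlen 21) (D.wordP 21) v = v := by
  intro v hv
  rw [walk_21]
  exact relf_21 v hv

theorem relf_22 : ∀ v, v < 14080 → W_22 v = v := by
  intro v hv
  exact fixPtsF_spec W_22 14080 0 relc_22_0 v (by omega) (by omega)

set_option maxRecDepth 1000000 in
theorem walk_22 : ∀ v, walkT ctF (D.wlen 22) (D.wordP 22) v = W_22 v := by
  intro v
  simp only [W_22, forceL_eq]
  rfl

theorem relw_22 : ∀ v, v < 14080 → walkT ctF (D.wlen 22) (D.wordP 22) v = v := by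
  intro v hv
  rw [walk_22]
  exact relf_22 v hv

theorem relf_23 : ∀ v, v < 14080 → W_23 v = v := by
  intro v hv
  exact fixPtsF_spec W_23 14080 0 relc_23_0 v (by omega) (by omega)

set_option maxRecDepth 1000000 in
theorem walk_23 : ∀ v, walkT ctF (D.wlen 23) (D.wordP 23) v = W_23 v := by
  intro v
  simp only [W_23, forceL_eq]
  rfl

theorem relw_23 : ∀ v, v < 14080 → walkT ctF (D.wlen 23) (D.wordP 23) v = v := by
  intro v hv
  rw [walk_23]
  exact relf_23 v hv

theorem relf_24 : ∀ v, v < 14080 → W_24 v = v := by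
  intro v hv
  exact fixPtsF_spec W_24 14080 0 relc_24_0 v (by omega) (by omega)

set_option maxRecDepth 1000000 in
theorem walk_24 : ∀ v, walkT ctF (D.wlen 24) (D.wordP 24) v = W_24 v := by
  intro v
  simp only [W_24, forceL_eq]
  rfl

theorem relw_24 : ∀ v, v < 14080 → walkT ctF (D.wlen 24) (D.wordP 24) v = v := by
  intro v hv
  rw [walk_24]
  exact relf_24 v hv

theorem relf_25 : ∀ v, v < 14080 → W_25 v = v := by
  intro v hv
  exact fixPtsF_spec W_25 14080 0 relc_25_0 v (by omega) (by omega)

set_option maxRecDepth 1000000 in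
theorem walk_25 : ∀ v, walkT ctF (D.wlen 25) (D.wordP 25) v = W_25 v := by
  intro v
  simp only [W_25, forceL_eq]
  rfl

theorem relw_25 : ∀ v, v < 14080 → walkT ctF (D.wlen 25) (D.wordP 25) v = v := by
  intro v hv
  rw [walk_25]
  exact relf_25 v hv

theorem relf_26 : ∀ v, v < 14080 → W_26 v = v := by
  intro v hv
  exact fixPtsF_spec W_26 14080 0 relc_26_0 v (by omega) (by omega)

set_option maxRecDepth 1000000 in
theorem walk_26 : ∀ v, walkT ctF (D.wlen 26) (D.wordP 26) v = W_26 v := by
  intro v
  simp only [W_26, forceL_eq]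
  rfl

theorem relw_26 : ∀ v, v < 14080 → walkT ctF (D.wlen 26) (D.wordP 26) v = v := by
  intro v hv
  rw [walk_26]
  exact relf_26 v hv

theorem relf_27 : ∀ v, v < 14080 → W_27 v = v := by
  intro v hv
  exact fixPtsF_spec W_27 14080 0 relc_27_0 v (by omega) (by omega)

set_option maxRecDepth 1000000 in
theorem walk_27 : ∀ v, walkT ctF (D.wlen 27) (D.wordP 27) v = W_27 v := by
  intro v
  simp only [W_27, forceL_eq]
  rfl

theorem relw_27 : ∀ v, v < 14080 → walkT ctF (D.wlen 27) (D.wordP 27) v = v := by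
  intro v hv
  rw [walk_27]
  exact relf_27 v hv

theorem relf_28 : ∀ v, v < 14080 → W_28 v = v := by
  intro v hv
  exact fixPtsF_spec W_28 14080 0 relc_28_0 v (by omega) (by omega)

set_option maxRecDepth 1000000 in
theorem walk_28 : ∀ v, walkT ctF (D.wlen 28) (D.wordP 28) v = W_28 v := by
  intro v
  simp only [W_28, forceL_eq]
  rfl

theorem relw_28 : ∀ v, v < 14080 → walkT ctF (D.wlen 28) (D.wordP 28) v = v := by
  intro v hv
  rw [walk_28]
  exact relf_28 v hv

theorem relf_29 : ∀ v, v < 14080 → W_29 v = v := by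
  intro v hv
  exact fixPtsF_spec W_29 14080 0 relc_29_0 v (by omega) (by omega)

set_option maxRecDepth 1000000 in
theorem walk_29 : ∀ v, walkT ctF (D.wlen 29) (D.wordP 29) v = W_29 v := by
  intro v
  simp only [W_29, forceL_eq]
  rfl

theorem relw_29 : ∀ v, v < 14080 → walkT ctF (D.wlen 29) (D.wordP 29) v = v := by
  intro v hv
  rw [walk_29]
  exact relf_29 v hv

theorem relf_30 : ∀ v, v < 14080 → W_30 v = v := by
  intro v hv
  exact fixPtsF_spec W_30 14080 0 relc_30_0 v (by omega) (by omega)

set_option maxRecDepth 1000000 in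
theorem walk_30 : ∀ v, walkT ctF (D.wlen 30) (D.wordP 30) v = W_30 v := by
  intro v
  simp only [W_30, forceL_eq]
  rfl

theorem relw_30 : ∀ v, v < 14080 → walkT ctF (D.wlen 30) (D.wordP 30) v = v := by
  intro v hv
  rw [walk_30]
  exact relf_30 v hv

theorem relf_31 : ∀ v, v < 14080 → W_31 v = v := by
  intro v hv
  exact fixPtsF_spec W_31 14080 0 relc_31_0 v (by omega) (by omega)

set_option maxRecDepth 1000000 in
theorem walk_31 : ∀ v, walkT ctF (D.wlen 31) (D.wordP 31) v = W_31 v := by
  intro v
  simp only [W_31, forceL_eq]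
  rfl

theorem relw_31 : ∀ v, v < 14080 → walkT ctF (D.wlen 31) (D.wordP 31) v = v := by
  intro v hv
  rw [walk_31]
  exact relf_31 v hv

theorem relf_32 : ∀ v, v < 14080 → W_32 v = v := by
  intro v hv
  exact fixPtsF_spec W_32 14080 0 relc_32_0 v (by omega) (by omega)

set_option maxRecDepth 1000000 in
theorem walk_32 : ∀ v, walkT ctF (D.wlen 32) (D.wordP 32) v = W_32 v := by
  intro v
  simp only [W_32, forceL_eq]
  rfl

theorem relw_32 : ∀ v, v < 14080 → walkT ctF (D.wlen 32) (D.wordP 32) v = v := by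
  intro v hv
  rw [walk_32]
  exact relf_32 v hv

theorem relf_33 : ∀ v, v < 14080 → W_33 v = v := by
  intro v hv
  exact fixPtsF_spec W_33 14080 0 relc_33_0 v (by omega) (by omega)

set_option maxRecDepth 1000000 in
theorem walk_33 : ∀ v, walkT ctF (D.wlen 33) (D.wordP 33) v = W_33 v := by
  intro v
  simp only [W_33, forceL_eq]
  rfl

theorem relw_33 : ∀ v, v < 14080 → walkT ctF (D.wlen 33) (D.wordP 33) v = v := by
  intro v hv
  rw [walk_33]
  exact relf_33 v hv

theorem relf_34 : ∀ v, v < 14080 → W_34 v = v := by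
  intro v hv
  exact fixPtsF_spec W_34 14080 0 relc_34_0 v (by omega) (by omega)

set_option maxRecDepth 1000000 in
theorem walk_34 : ∀ v, walkT ctF (D.wlen 34) (D.wordP 34) v = W_34 v := by
  intro v
  simp only [W_34, forceL_eq]
  rfl

theorem relw_34 : ∀ v, v < 14080 → walkT ctF (D.wlen 34) (D.wordP 34) v = v := by
  intro v hv
  rw [walk_34]
  exact relf_34 v hv

theorem relf_35 : ∀ v, v < 14080 → W_35 v = v := by
  intro v hv
  exact fixPtsF_spec W_35 14080 0 relc_35_0 v (by omega) (by omega)

set_option maxRecDepth 1000000 in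
theorem walk_35 : ∀ v, walkT ctF (D.wlen 35) (D.wordP 35) v = W_35 v := by
  intro v
  simp only [W_35, forceL_eq]
  rfl

theorem relw_35 : ∀ v, v < 14080 → walkT ctF (D.wlen 35) (D.wordP 35) v = v := by
  intro v hv
  rw [walk_35]
  exact relf_35 v hv

theorem relf_36 : ∀ v, v < 14080 → W_36 v = v := by
  intro v hv
  exact fixPtsF_spec W_36 14080 0 relc_36_0 v (by omega) (by omega)

set_option maxRecDepth 1000000 in
theorem walk_36 : ∀ v, walkT ctF (D.wlen 36) (D.wordP 36) v = W_36 v := by
  intro v
  simp only [W_36, forceL_eq]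
  rfl

theorem relw_36 : ∀ v, v < 14080 → walkT ctF (D.wlen 36) (D.wordP 36) v = v := by
  intro v hv
  rw [walk_36]
  exact relf_36 v hv

theorem relf_37 : ∀ v, v < 14080 → W_37 v = v := by
  intro v hv
  exact fixPtsF_spec W_37 14080 0 relc_37_0 v (by omega) (by omega)

set_option maxRecDepth 1000000 in
theorem walk_37 : ∀ v, walkT ctF (D.wlen 37) (D.wordP 37) v = W_37 v := by
  intro v
  simp only [W_37, forceL_eq]
  rfl

theorem relw_37 : ∀ v, v < 14080 → walkT ctF (D.wlen 37) (D.wordP 37) v = v := by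
  intro v hv
  rw [walk_37]
  exact relf_37 v hv

theorem relf_38 : ∀ v, v < 14080 → W_38 v = v := by
  intro v hv
  exact fixPtsF_spec W_38 14080 0 relc_38_0 v (by omega) (by omega)

set_option maxRecDepth 1000000 in
theorem walk_38 : ∀ v, walkT ctF (D.wlen 38) (D.wordP 38) v = W_38 v := by
  intro v
  simp only [W_38, forceL_eq]
  rfl

theorem relw_38 : ∀ v, v < 14080 → walkT ctF (D.wlen 38) (D.wordP 38) v = v := by
  intro v hv
  rw [walk_38]
  exact relf_38 v hv

theorem relf_39 : ∀ v, v < 14080 → W_39 v = v := by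
  intro v hv
  exact fixPtsF_spec W_39 14080 0 relc_39_0 v (by omega) (by omega)

set_option maxRecDepth 1000000 in
theorem walk_39 : ∀ v, walkT ctF (D.wlen 39) (D.wordP 39) v = W_39 v := by
  intro v
  simp only [W_39, forceL_eq]
  rfl

theorem relw_39 : ∀ v, v < 14080 → walkT ctF (D.wlen 39) (D.wordP 39) v = v := by
  intro v hv
  rw [walk_39]
  exact relf_39 v hv

theorem relf_40 : ∀ v, v < 14080 → W_40 v = v := by
  intro v hv
  exact fixPtsF_spec W_40 14080 0 relc_40_0 v (by omega) (by omega)

set_option maxRecDepth 1000000 in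
theorem walk_40 : ∀ v, walkT ctF (D.wlen 40) (D.wordP 40) v = W_40 v := by
  intro v
  simp only [W_40, forceL_eq]
  rfl

theorem relw_40 : ∀ v, v < 14080 → walkT ctF (D.wlen 40) (D.wordP 40) v = v := by
  intro v hv
  rw [walk_40]
  exact relf_40 v hv

theorem relf_41 : ∀ v, v < 14080 → W_41 v = v := by
  intro v hv
  exact fixPtsF_spec W_41 14080 0 relc_41_0 v (by omega) (by omega)

set_option maxRecDepth 1000000 in
theorem walk_41 : ∀ v, walkT ctF (D.wlen 41) (D.wordP 41) v = W_41 v := by
  intro v
  simp only [W_41, forceL_eq]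
  rfl

theorem relw_41 : ∀ v, v < 14080 → walkT ctF (D.wlen 41) (D.wordP 41) v = v := by
  intro v hv
  rw [walk_41]
  exact relf_41 v hv

theorem relf_42 : ∀ v, v < 14080 → W_42 v = v := by
  intro v hv
  exact fixPtsF_spec W_42 14080 0 relc_42_0 v (by omega) (by omega)

set_option maxRecDepth 1000000 in
theorem walk_42 : ∀ v, walkT ctF (D.wlen 42) (D.wordP 42) v = W_42 v := by
  intro v
  simp only [W_42, forceL_eq]
  rfl

theorem relw_42 : ∀ v, v < 14080 → walkT ctF (D.wlen 42) (D.wordP 42) v = v := by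
  intro v hv
  rw [walk_42]
  exact relf_42 v hv

theorem relf_43 : ∀ v, v < 14080 → W_43 v = v := by
  intro v hv
  exact fixPtsF_spec W_43 14080 0 relc_43_0 v (by omega) (by omega)

set_option maxRecDepth 1000000 in
theorem walk_43 : ∀ v, walkT ctF (D.wlen 43) (D.wordP 43) v = W_43 v := by
  intro v
  simp only [W_43, forceL_eq]
  rfl

theorem relw_43 : ∀ v, v < 14080 → walkT ctF (D.wlen 43) (D.wordP 43) v = v := by
  intro v hv
  rw [walk_43]
  exact relf_43 v hv

theorem relf_44 : ∀ v, v < 14080 → W_44 v = v := by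
  intro v hv
  exact fixPtsF_spec W_44 14080 0 relc_44_0 v (by omega) (by omega)

set_option maxRecDepth 1000000 in
theorem walk_44 : ∀ v, walkT ctF (D.wlen 44) (D.wordP 44) v = W_44 v := by
  intro v
  simp only [W_44, forceL_eq]
  rfl

theorem relw_44 : ∀ v, v < 14080 → walkT ctF (D.wlen 44) (D.wordP 44) v = v := by
  intro v hv
  rw [walk_44]
  exact relf_44 v hv

theorem relf_45 : ∀ v, v < 14080 → W_45 v = v := by
  intro v hv
  rcases Nat.lt_or_ge v 6666 with h | h
  · rcases Nat.lt_or_ge v 2222 with h | h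
    · exact fixPtsF_spec W_45 2222 0 relc_45_0 v (by omega) (by omega)
    · rcases Nat.lt_or_ge v 4444 with h | h
      · exact fixPtsF_spec W_45 2222 2222 relc_45_1 v (by omega) (by omega)
      · exact fixPtsF_spec W_45 2222 4444 relc_45_2 v (by omega) (by omega)
  · rcases Nat.lt_or_ge v 11110 with h | h
    · rcases Nat.lt_or_ge v 8888 with h | h
      · exact fixPtsF_spec W_45 2222 6666 relc_45_3 v (by omega) (by omega)
      · exact fixPtsF_spec W_45 2222 8888 relc_45_4 v (by omega) (by omega)
    · rcases Nat.lt_or_ge v 13332 with h | h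
      · exact fixPtsF_spec W_45 2222 11110 relc_45_5 v (by omega) (by omega)
      · exact fixPtsF_spec W_45 748 13332 relc_45_6 v (by omega) (by omega)

set_option maxRecDepth 1000000 in
theorem walk_45 : ∀ v, walkT ctF (D.wlen 45) (D.wordP 45) v = W_45 v := by
  intro v
  simp only [W_45, forceL_eq]
  rfl

theorem relw_45 : ∀ v, v < 14080 → walkT ctF (D.wlen 45) (D.wordP 45) v = v := by
  intro v hv
  rw [walk_45]
  exact relf_45 v hv

theorem relf_46 : ∀ v, v < 14080 → W_46 v = v := by
  intro v hv
  rcases Nat.lt_or_ge v 6348 with h | h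
  · rcases Nat.lt_or_ge v 3174 with h | h
    · exact fixPtsF_spec W_46 3174 0 relc_46_0 v (by omega) (by omega)
    · exact fixPtsF_spec W_46 3174 3174 relc_46_1 v (by omega) (by omega)
  · rcases Nat.lt_or_ge v 9522 with h | h
    · exact fixPtsF_spec W_46 3174 6348 relc_46_2 v (by omega) (by omega)
    · rcases Nat.lt_or_ge v 12696 with h | h
      · exact fixPtsF_spec W_46 3174 9522 relc_46_3 v (by omega) (by omega)
      · exact fixPtsF_spec W_46 1384 12696 relc_46_4 v (by omega) (by omega)

set_option maxRecDepth 1000000 in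
theorem walk_46 : ∀ v, walkT ctF (D.wlen 46) (D.wordP 46) v = W_46 v := by
  intro v
  simp only [W_46, forceL_eq]
  rfl

theorem relw_46 : ∀ v, v < 14080 → walkT ctF (D.wlen 46) (D.wordP 46) v = v := by
  intro v hv
  rw [walk_46]
  exact relf_46 v hv

theorem invx_0 : ∀ v, v < 14080 → ctF 0 v < 14080 ∧ ctF 0 (ctF 0 v) = v := by
  intro v hv
  exact invRowFI_spec ctF 14080 0 0 14080 0 inv_0_0 v (by omega) (by omega)

theorem invx_1 : ∀ v, v < 14080 → ctF 1 v < 14080 ∧ ctF 1 (ctF 1 v) = v := by
  intro v hv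
  exact invRowFI_spec ctF 14080 1 1 14080 0 inv_1_0 v (by omega) (by omega)

theorem invx_2 : ∀ v, v < 14080 → ctF 2 v < 14080 ∧ ctF 2 (ctF 2 v) = v := by
  intro v hv
  exact invRowFI_spec ctF 14080 2 2 14080 0 inv_2_0 v (by omega) (by omega)

theorem invx_3 : ∀ v, v < 14080 → ctF 3 v < 14080 ∧ ctF 3 (ctF 3 v) = v := by
  intro v hv
  exact invRowFI_spec ctF 14080 3 3 14080 0 inv_3_0 v (by omega) (by omega)

theorem invx_4 : ∀ v, v < 14080 → ctF 4 v < 14080 ∧ ctF 4 (ctF 4 v) = v := by
  intro v hv
  exact invRowFI_spec ctF 14080 4 4 14080 0 inv_4_0 v (by omega) (by omega)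

theorem invx_5 : ∀ v, v < 14080 → ctF 5 v < 14080 ∧ ctF 5 (ctF 5 v) = v := by
  intro v hv
  exact invRowFI_spec ctF 14080 5 5 14080 0 inv_5_0 v (by omega) (by omega)

theorem invx_6 : ∀ v, v < 14080 → ctF 6 v < 14080 ∧ ctF 6 (ctF 6 v) = v := by
  intro v hv
  exact invRowFI_spec ctF 14080 6 6 14080 0 inv_6_0 v (by omega) (by omega)

theorem invx_7 : ∀ v, v < 14080 → ctF 7 v < 14080 ∧ ctF 7 (ctF 7 v) = v := by
  intro v hv
  exact invRowFI_spec ctF 14080 7 7 14080 0 inv_7_0 v (by omega) (by omega)

theorem invx_8 : ∀ v, v < 14080 → ctF 8 v < 14080 ∧ ctF 8 (ctF 8 v) = v := by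
  intro v hv
  exact invRowFI_spec ctF 14080 8 8 14080 0 inv_8_0 v (by omega) (by omega)

theorem hconn : ∀ v, v < 14080 → v ≠ 0 → ∃ x, x < E.D.k ∧ ctF x v < v := by
  intro v hv
  exact connF_spec ctF 9 14080 0 conn_0 v (by omega) (by omega)

theorem hE : ∀ v, v < E.M → ∀ x, x < E.D.k → edgeOKI iota E x v = true := by
  intro v hv x hx
  have hv' : v < 17351 := hv
  have hx' : x < 9 := hx
  interval_cases x
  · exact edgesx_0 v hv'
  · exact edgesx_1 v hv'
  · exact edgesx_2 v hv'
  · exact edgesx_3 v hv'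
  · exact edgesx_4 v hv'
  · exact edgesx_5 v hv'
  · exact edgesx_6 v hv'
  · exact edgesx_7 v hv'
  · exact edgesx_8 v hv'

theorem hA : ∀ v, v < E.M → aliasOK E v = true := fun v hv => hA0 v hv

theorem hrows : ∀ v, v < E.M → tb RS v = true → rowOK2 E RS v E.D.k = true := fun v hv => hrows0 v hv

theorem hT : ∀ x, x < E.D.k → ∀ v, v < 14080 → ctF x v < 14080 ∧ ctF (iota x) (ctF x v) = v := by
  intro x hx
  have hx' : x < 9 := hx
  interval_cases x
  · exact invx_0
  · exact invx_1
  · exact invx_2
  · exact invx_3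
  · exact invx_4
  · exact invx_5
  · exact invx_6
  · exact invx_7
  · exact invx_8

theorem hltr : ∀ j, j < E.D.nw → lettersOK E.D.k (E.D.wlen j) (E.D.wordP j) = true :=
  wordsOK_spec D D.nw words_ok

theorem hrelT : ∀ wi, wi < E.D.nrel → ∀ v, v < 14080 →
    walkT ctF (E.D.wlen wi) (E.D.wordP wi) v = v := by
  intro wi hwi
  have hwi' : wi < 47 := hwi
  interval_cases wi
  · exact relw_0
  · exact relw_1
  · exact relw_2
  · exact relw_3
  · exact relw_4
  · exact relw_5
  · exact relw_6
  · exact relw_7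
  · exact relw_8
  · exact relw_9
  · exact relw_10
  · exact relw_11
  · exact relw_12
  · exact relw_13
  · exact relw_14
  · exact relw_15
  · exact relw_16
  · exact relw_17
  · exact relw_18
  · exact relw_19
  · exact relw_20
  · exact relw_21
  · exact relw_22
  · exact relw_23
  · exact relw_24
  · exact relw_25
  · exact relw_26
  · exact relw_27
  · exact relw_28
  · exact relw_29
  · exact relw_30
  · exact relw_31
  · exact relw_32
  · exact relw_33
  · exact relw_34
  · exact relw_35
  · exact relw_36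
  · exact relw_37
  · exact relw_38
  · exact relw_39
  · exact relw_40
  · exact relw_41
  · exact relw_42
  · exact relw_43
  · exact relw_44
  · exact relw_45
  · exact relw_46

theorem hsubT : ∀ wi, wi < E.D.nw → E.D.nrel ≤ wi →
    walkT ctF (E.D.wlen wi) (E.D.wordP wi) 0 = 0 :=
  subAll_spec ctF D D.nw sub_ok

end Cfsg.Agent.Helper5.FiYBTC
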