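import Mathlib
import Cfsg.Agent.Helper5.LPW
import Cfsg.Agent.Helper5.FiYATCSum
import Cfsg.Agent.Helper5.FiYBTCSum
import Cfsg.Agent.Helper5.FiYCTCSum
import Cfsg.Agent.Helper5.FiYDTCSum
import Cfsg.Agent.Helper5.FiYETCSum
import Cfsg.Agent.Helper5.FiYFTCSum
import Cfsg.Agent.Helper5.FiYGTCSum
import Cfsg.Agent.Helper5.FiYHTCSum
import Cfsg.Agent.Helper5.FiYITCSum
import Cfsg.Agent.Helper5.FiYKTCSum

/-! generated: the relators of the Fi23 presentation, the certified indices of the parabolic subgroups and the upper bound for the order -/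

set_option autoImplicit false

namespace Cfsg.Agent.Helper5.Fi23LP

open Cfsg.Agent.Helper5.TC Cfsg.Agent.Helper5.TCI Cfsg.Agent.Helper5.LP

/-- relator words on the first 10 letters. -/
def R10 : List (List ℕ) := [[0, 0], [0, 1, 0, 1, 0, 1], [0, 2, 0, 2], [0, 3, 0, 3], [0, 4, 0, 4], [0, 5, 0, 5], [0, 6, 0, 6], [0, 7, 0, 7], [0, 8, 0, 8, 0, 8], [0, 9, 0, 9], [1, 1], [1, 2, 1, 2, 1, 2], [1, 3, 1, 3], [1, 4, 1, 4], [1, 5, 1, 5], [1, 6, 1, 6], [1, 7, 1, 7], [1, 8, 1, 8], [1, 9, 1, 9], [2, 2], [2, 3, 2, 3, 2, 3], [2, 4, 2, 4, 2, 4], [2, 5, 2, 5], [2, 6, 2, 6], [2, 7, 2, 7], [2, 8, 2, 8], [2, 9, 2, 9], [3, 3], [3, 4, 3, 4], [3, 5, 3, 5], [3, 6, 3, 6, 3, 6], [3, 7, 3, 7], [3, 8, 3, 8], [3, 9, 3, 9], [4, 4], [4, 5, 4, 5, 4, 5], [4, 6, 4, 6], [4, 7, 4, 7], [4, 8, 4, 8], [4, 9, 4, 9], [5, 5], [5, 6, 5, 6], [5, 7, 5, 7], [5, 8,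 5, 8], [5, 9, 5, 9], [6, 6], [6, 7, 6, 7, 6, 7], [6, 8, 6, 8], [6, 9, 6, 9], [7, 7], [7, 8, 7, 8], [7, 9, 7, 9, 7, 9], [8, 8], [8, 9, 8, 9], [9, 9], [2, 1, 0, 2, 3, 6, 2, 4, 5, 2, 1, 0, 2, 3, 6, 2, 4, 5, 2, 1, 0, 2, 3, 6, 2, 4, 5, 2, 1, 0, 2, 3, 6, 2, 4, 5, 2, 1, 0, 2, 3, 6, 2, 4, 5, 2, 1, 0, 2, 3, 6, 2, 4, 5, 2, 1, 0, 2, 3, 6, 2, 4, 5, 2, 1, 0, 2, 3, 6, 2, 4, 5, 2, 1, 0, 2, 3, 6, 2, 4, 5, 2, 1, 0, 2, 3, 6, 2, 4, 5], [8, 0, 1, 2, 3, 6, 4, 8, 0, 1, 2, 3, 6, 4, 8, 0, 1, 2, 3, 6, 4, 8, 0, 1, 2, 3, 6, 4, 8, 0, 1, 2, 3, 6, 4, 8, 0, 1, 2, 3, 6, 4, 8, 0, 1, 2, 3, 6, 4, 8, 0, 1, 2, 3, 6, 4, 8, 0, 1, 2, 3, 6, 4]]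

/-- relator words on the first 9 letters. -/
def R9 : List (List ℕ) := [[0, 0], [0, 1, 0, 1, 0, 1], [0, 2, 0, 2], [0, 3, 0, 3], [0, 4, 0, 4], [0, 5, 0, 5], [0, 6, 0, 6], [0, 7, 0, 7], [0, 8, 0, 8, 0, 8], [1, 1], [1, 2, 1, 2, 1, 2], [1, 3, 1, 3], [1, 4, 1, 4], [1, 5, 1, 5], [1, 6, 1, 6], [1, 7, 1, 7], [1, 8, 1, 8], [2, 2], [2, 3, 2, 3, 2, 3], [2, 4, 2, 4, 2, 4], [2, 5, 2, 5], [2, 6, 2, 6], [2, 7, 2, 7], [2, 8, 2, 8], [3, 3], [3, 4, 3, 4], [3, 5, 3, 5], [3, 6, 3, 6, 3, 6], [3, 7, 3, 7], [3, 8, 3, 8], [4, 4], [4, 5, 4, 5, 4, 5], [4, 6, 4, 6], [4, 7, 4, 7], [4, 8, 4, 8], [5, 5], [5, 6, 5, 6], [5, 7, 5, 7], [5, 8, 5, 8], [6, 6], [6, 7, 6, 7, 6, 7], [6, 8, 6, 8], [7, 7], [7, 8, 7, 8], [8, 8], [2, 1, 0, 2, 3, 6, 2, 4, 5, 2, 1, 0, 2, 3, 6, 2, 4, 5, 2, 1, 0, 2, 3, 6, 2, 4, 5, 2, 1, 0, 2, 3, 6, 2, 4, 5, 2, 1, 0, 2, 3, 6, 2, 4,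 5, 2, 1, 0, 2, 3, 6, 2, 4, 5, 2, 1, 0, 2, 3, 6, 2, 4, 5, 2, 1, 0, 2, 3, 6, 2, 4, 5, 2, 1, 0, 2, 3, 6, 2, 4, 5, 2, 1, 0, 2, 3, 6, 2, 4, 5], [8, 0, 1, 2, 3, 6, 4, 8, 0, 1, 2, 3, 6, 4, 8, 0, 1, 2, 3, 6, 4, 8, 0, 1, 2, 3, 6, 4, 8, 0, 1, 2, 3, 6, 4, 8, 0, 1, 2, 3, 6, 4, 8, 0, 1, 2, 3, 6, 4, 8, 0, 1, 2, 3, 6, 4, 8, 0, 1, 2, 3, 6, 4]]

/-- relator words on the first 8 letters. -/
def R8 : List (List ℕ) := [[0, 0], [0, 1, 0, 1, 0, 1], [0, 2, 0, 2], [0, 3, 0, 3], [0, 4, 0, 4], [0, 5, 0, 5], [0, 6, 0, 6], [0, 7, 0, 7], [1, 1], [1, 2, 1, 2, 1, 2], [1, 3, 1, 3], [1, 4, 1, 4], [1, 5, 1, 5], [1, 6, 1, 6], [1, 7, 1, 7], [2, 2], [2, 3, 2, 3, 2, 3], [2, 4, 2, 4, 2, 4], [2, 5, 2, 5], [2, 6, 2, 6], [2, 7, 2, 7], [3, 3], [3, 4, 3, 4], [3, 5, 3, 5], [3, 6, 3, 6, 3, 6], [3, 7, 3, 7], [4, 4], [4, 5, 4, 5, 4, 5], [4, 6, 4, 6], [4, 7, 4, 7],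 [5, 5], [5, 6, 5, 6], [5, 7, 5, 7], [6, 6], [6, 7, 6, 7, 6, 7], [7, 7], [2, 1, 0, 2, 3, 6, 2, 4, 5, 2, 1, 0, 2, 3, 6, 2, 4, 5, 2, 1, 0, 2, 3, 6, 2, 4, 5, 2, 1, 0, 2, 3, 6, 2, 4, 5, 2, 1, 0, 2, 3, 6, 2, 4, 5, 2, 1, 0, 2, 3, 6, 2, 4, 5, 2, 1, 0, 2, 3, 6, 2, 4, 5, 2, 1, 0, 2, 3, 6, 2, 4, 5, 2, 1, 0, 2, 3, 6, 2, 4, 5, 2, 1, 0, 2, 3, 6, 2, 4, 5]]

/-- relator words on the first 7 letters. -/
def R7 : List (List ℕ) := [[0, 0], [0, 1, 0, 1, 0, 1], [0, 2, 0, 2], [0, 3, 0, 3], [0, 4, 0, 4], [0, 5, 0, 5], [0, 6, 0, 6], [1, 1], [1, 2, 1, 2, 1, 2], [1, 3, 1, 3], [1, 4, 1, 4], [1, 5, 1, 5], [1, 6, 1, 6], [2, 2], [2, 3, 2, 3, 2, 3], [2, 4, 2, 4, 2, 4], [2, 5, 2, 5], [2, 6, 2, 6], [3, 3], [3, 4, 3, 4], [3, 5, 3, 5], [3, 6, 3, 6, 3, 6], [4, 4], [4, 5, 4, 5, 4, 5], [4, 6, 4, 6], [5, 5], [5, 6, 5, 6], [6, 6], [2, 1, 0, 2, 3, 6, 2, 4, 5,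 2, 1, 0, 2, 3, 6, 2, 4, 5, 2, 1, 0, 2, 3, 6, 2, 4, 5, 2, 1, 0, 2, 3, 6, 2, 4, 5, 2, 1, 0, 2, 3, 6, 2, 4, 5, 2, 1, 0, 2, 3, 6, 2, 4, 5, 2, 1, 0, 2, 3, 6, 2, 4, 5, 2, 1, 0, 2, 3, 6, 2, 4, 5, 2, 1, 0, 2, 3, 6, 2, 4, 5, 2, 1, 0, 2, 3, 6, 2, 4, 5]]

/-- relator words on the first 6 letters. -/
def R6 : List (List ℕ) := [[0, 0], [0, 1, 0, 1, 0, 1], [0, 2, 0, 2], [0, 3, 0, 3], [0, 4, 0, 4], [0, 5, 0, 5], [1, 1], [1, 2, 1, 2, 1, 2], [1, 3, 1, 3], [1, 4, 1, 4], [1, 5, 1, 5], [2, 2], [2, 3, 2, 3, 2, 3], [2, 4, 2, 4, 2, 4], [2, 5, 2, 5], [3, 3], [3, 4, 3, 4], [3, 5, 3, 5], [4, 4], [4, 5, 4, 5, 4, 5], [5, 5]]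

/-- relator words on the first 5 letters. -/
def R5 : List (List ℕ) := [[0, 0], [0, 1, 0, 1, 0, 1], [0, 2, 0, 2], [0, 3, 0, 3], [0, 4, 0, 4], [1, 1], [1, 2, 1, 2, 1, 2], [1, 3, 1, 3], [1, 4, 1, 4], [2, 2], [2, 3, 2, 3, 2, 3], [2, 4, 2, 4, 2, 4], [3, 3], [3, 4, 3, 4], [4, 4]]

/-- relator words on the first 4 letters. -/
def R4 : List (List ℕ) := [[0, 0], [0, 1, 0, 1, 0, 1], [0, 2, 0, 2], [0, 3, 0, 3], [1, 1], [1, 2, 1, 2, 1, 2], [1, 3, 1, 3], [2, 2], [2, 3, 2, 3, 2, 3], [3, 3]]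

/-- relator words on the first 3 letters. -/
def R3 : List (List ℕ) := [[0, 0], [0, 1, 0, 1, 0, 1], [0, 2, 0, 2], [1, 1], [1, 2, 1, 2, 1, 2], [2, 2]]

/-- relator words on the first 2 letters. -/
def R2 : List (List ℕ) := [[0, 0], [0, 1, 0, 1, 0, 1], [1, 1]]

/-- an element of prime order. -/
def xw : List ℕ := [4, 3, 5, 0, 2, 8, 9, 7, 6, 1, 0, 8, 5]

theorem wordsA : ∀ i (hi : i < (R10 ++ letterWords 9).length),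
    unpack (FiYATC.E.D.wlen i) (FiYATC.E.D.wordP i) = ((R10 ++ letterWords 9)[i]).reverse :=
  wordsMatchB_spec0 _ _ _ (by decide +kernel)

theorem idxA : (para 10 (R10) 9).index = 31671 :=
  lp_index (by decide +kernel) (letterWords 9) FiYATC.E FiYATC.iota (fun _ => rfl) rfl rfl rfl
    (by decide +kernel) wordsA FiYATC.rev_ok FiYATC.hE FiYATC.hA FiYATC.set_ok FiYATC.hrows
    (by norm_num) FiYATC.hT FiYATC.hltr FiYATC.hrelT FiYATC.hsubT FiYATC.hconn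

theorem wordsB : ∀ i (hi : i < (R9 ++ letterWords 8).length),
    unpack (FiYBTC.E.D.wlen i) (FiYBTC.E.D.wordP i) = ((R9 ++ letterWords 8)[i]).reverse :=
  wordsMatchB_spec0 _ _ _ (by decide +kernel)

theorem idxB : (para 9 (R9) 8).index = 14080 :=
  lp_index (by decide +kernel) (letterWords 8) FiYBTC.E FiYBTC.iota (fun _ => rfl) rfl rfl rfl
    (by decide +kernel) wordsB FiYBTC.rev_ok FiYBTC.hE FiYBTC.hA FiYBTC.set_ok FiYBTC.hrows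
    (by norm_num) FiYBTC.hT FiYBTC.hltr FiYBTC.hrelT FiYBTC.hsubT FiYBTC.hconn

theorem wordsC : ∀ i (hi : i < (R8 ++ letterWords 7).length),
    unpack (FiYCTC.E.D.wlen i) (FiYCTC.E.D.wordP i) = ((R8 ++ letterWords 7)[i]).reverse :=
  wordsMatchB_spec0 _ _ _ (by decide +kernel)

theorem idxC : (para 8 (R8) 7).index = 728 :=
  lp_index (by decide +kernel) (letterWords 7) FiYCTC.E FiYCTC.iota (fun _ => rfl) rfl rfl rfl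
    (by decide +kernel) wordsC FiYCTC.rev_ok FiYCTC.hE FiYCTC.hA FiYCTC.set_ok FiYCTC.hrows
    (by norm_num) FiYCTC.hT FiYCTC.hltr FiYCTC.hrelT FiYCTC.hsubT FiYCTC.hconn

theorem wordsD : ∀ i (hi : i < (R7 ++ letterWords 6).length),
    unpack (FiYDTC.E.D.wlen i) (FiYDTC.E.D.wordP i) = ((R7 ++ letterWords 6)[i]).reverse :=
  wordsMatchB_spec0 _ _ _ (by decide +kernel)

theorem idxD : (para 7 (R7) 6).index = 243 :=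
  lp_index (by decide +kernel) (letterWords 6) FiYDTC.E FiYDTC.iota (fun _ => rfl) rfl rfl rfl
    (by decide +kernel) wordsD FiYDTC.rev_ok FiYDTC.hE FiYDTC.hA FiYDTC.set_ok FiYDTC.hrows
    (by norm_num) FiYDTC.hT FiYDTC.hltr FiYDTC.hrelT FiYDTC.hsubT FiYDTC.hconn

theorem wordsE : ∀ i (hi : i < (R6 ++ letterWords 5).length),
    unpack (FiYETC.E.D.wlen i) (FiYETC.E.D.wordP i) = ((R6 ++ letterWords 5)[i]).reverse :=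
  wordsMatchB_spec0 _ _ _ (by decide +kernel)

theorem idxE : (para 6 (R6) 5).index = 27 :=
  lp_index (by decide +kernel) (letterWords 5) FiYETC.E FiYETC.iota (fun _ => rfl) rfl rfl rfl
    (by decide +kernel) wordsE FiYETC.rev_ok FiYETC.hE FiYETC.hA FiYETC.set_ok FiYETC.hrows
    (by norm_num) FiYETC.hT FiYETC.hltr FiYETC.hrelT FiYETC.hsubT FiYETC.hconn

theorem wordsF : ∀ i (hi : i < (R5 ++ letterWords 4).length),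
    unpack (FiYFTC.E.D.wlen i) (FiYFTC.E.D.wordP i) = ((R5 ++ letterWords 4)[i]).reverse :=
  wordsMatchB_spec0 _ _ _ (by decide +kernel)

theorem idxF : (para 5 (R5) 4).index = 16 :=
  lp_index (by decide +kernel) (letterWords 4) FiYFTC.E FiYFTC.iota (fun _ => rfl) rfl rfl rfl
    (by decide +kernel) wordsF FiYFTC.rev_ok FiYFTC.hE FiYFTC.hA FiYFTC.set_ok FiYFTC.hrows
    (by norm_num) FiYFTC.hT FiYFTC.hltr FiYFTC.hrelT FiYFTC.hsubT FiYFTC.hconn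

theorem wordsG : ∀ i (hi : i < (R4 ++ letterWords 3).length),
    unpack (FiYGTC.E.D.wlen i) (FiYGTC.E.D.wordP i) = ((R4 ++ letterWords 3)[i]).reverse :=
  wordsMatchB_spec0 _ _ _ (by decide +kernel)

theorem idxG : (para 4 (R4) 3).index = 5 :=
  lp_index (by decide +kernel) (letterWords 3) FiYGTC.E FiYGTC.iota (fun _ => rfl) rfl rfl rfl
    (by decide +kernel) wordsG FiYGTC.rev_ok FiYGTC.hE FiYGTC.hA FiYGTC.set_ok FiYGTC.hrows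
    (by norm_num) FiYGTC.hT FiYGTC.hltr FiYGTC.hrelT FiYGTC.hsubT FiYGTC.hconn

theorem wordsH : ∀ i (hi : i < (R3 ++ letterWords 2).length),
    unpack (FiYHTC.E.D.wlen i) (FiYHTC.E.D.wordP i) = ((R3 ++ letterWords 2)[i]).reverse :=
  wordsMatchB_spec0 _ _ _ (by decide +kernel)

theorem idxH : (para 3 (R3) 2).index = 4 :=
  lp_index (by decide +kernel) (letterWords 2) FiYHTC.E FiYHTC.iota (fun _ => rfl) rfl rfl rfl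
    (by decide +kernel) wordsH FiYHTC.rev_ok FiYHTC.hE FiYHTC.hA FiYHTC.set_ok FiYHTC.hrows
    (by norm_num) FiYHTC.hT FiYHTC.hltr FiYHTC.hrelT FiYHTC.hsubT FiYHTC.hconn

theorem wordsI : ∀ i (hi : i < (R2 ++ letterWords 1).length),
    unpack (FiYITC.E.D.wlen i) (FiYITC.E.D.wordP i) = ((R2 ++ letterWords 1)[i]).reverse :=
  wordsMatchB_spec0 _ _ _ (by decide +kernel)

theorem idxI : (para 2 (R2) 1).index = 3 :=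
  lp_index (by decide +kernel) (letterWords 1) FiYITC.E FiYITC.iota (fun _ => rfl) rfl rfl rfl
    (by decide +kernel) wordsI FiYITC.rev_ok FiYITC.hE FiYITC.hA FiYITC.set_ok FiYITC.hrows
    (by norm_num) FiYITC.hT FiYITC.hltr FiYITC.hrelT FiYITC.hsubT FiYITC.hconn

theorem wordsK : ∀ i (hi : i < (R10 ++ [xw] ++ letterWords 0).length),
    unpack (FiYKTC.E.D.wlen i) (FiYKTC.E.D.wordP i) = ((R10 ++ [xw] ++ letterWords 0)[i]).reverse :=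
  wordsMatchB_spec0 _ _ _ (by decide +kernel)

theorem idxK : (para 10 (R10 ++ [xw]) 0).index = 1 :=
  lp_index (by decide +kernel) (letterWords 0) FiYKTC.E FiYKTC.iota (fun _ => rfl) rfl rfl rfl
    (by decide +kernel) wordsK FiYKTC.rev_ok FiYKTC.hE FiYKTC.hA FiYKTC.set_ok FiYKTC.hrows
    (by norm_num) FiYKTC.hT FiYKTC.hltr FiYKTC.hrelT FiYKTC.hsubT FiYKTC.hconn

theorem ubI : Finite (LPG 2 R2) ∧ Nat.card (LPG 2 R2) ≤ 3 * 2 :=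
  card_le_base (by decide +kernel) (by norm_num) idxI

theorem ubH : Finite (LPG 3 R3) ∧ Nat.card (LPG 3 R3) ≤ 4 * (3 * 2) :=
  card_le_step (k' := 2) (R' := R2) (by decide +kernel) (subListB_spec (by decide +kernel))
    (by norm_num) idxH ubI.1 ubI.2

theorem ubG : Finite (LPG 4 R4) ∧ Nat.card (LPG 4 R4) ≤ 5 * (4 * (3 * 2)) :=
  card_le_step (k' := 3) (R' := R3) (by decide +kernel) (subListB_spec (by decide +kernel))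
    (by norm_num) idxG ubH.1 ubH.2

theorem ubF : Finite (LPG 5 R5) ∧ Nat.card (LPG 5 R5) ≤ 16 * (5 * (4 * (3 * 2))) :=
  card_le_step (k' := 4) (R' := R4) (by decide +kernel) (subListB_spec (by decide +kernel))
    (by norm_num) idxF ubG.1 ubG.2

theorem ubE : Finite (LPG 6 R6) ∧ Nat.card (LPG 6 R6) ≤ 27 * (16 * (5 * (4 * (3 * 2)))) :=
  card_le_step (k' := 5) (R' := R5) (by decide +kernel) (subListB_spec (by decide +kernel))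
    (by norm_num) idxE ubF.1 ubF.2

theorem ubD : Finite (LPG 7 R7) ∧ Nat.card (LPG 7 R7) ≤ 243 * (27 * (16 * (5 * (4 * (3 * 2))))) :=
  card_le_step (k' := 6) (R' := R6) (by decide +kernel) (subListB_spec (by decide +kernel))
    (by norm_num) idxD ubE.1 ubE.2

theorem ubC : Finite (LPG 8 R8) ∧ Nat.card (LPG 8 R8) ≤ 728 * (243 * (27 * (16 * (5 * (4 * (3 * 2)))))) :=
  card_le_step (k' := 7) (R' := R7) (by decide +kernel) (subListB_spec (by decide +kernel))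
    (by norm_num) idxC ubD.1 ubD.2

theorem ubB : Finite (LPG 9 R9) ∧ Nat.card (LPG 9 R9) ≤ 14080 * (728 * (243 * (27 * (16 * (5 * (4 * (3 * 2))))))) :=
  card_le_step (k' := 8) (R' := R8) (by decide +kernel) (subListB_spec (by decide +kernel))
    (by norm_num) idxB ubC.1 ubC.2

theorem ubA : Finite (LPG 10 R10) ∧ Nat.card (LPG 10 R10) ≤ 31671 * (14080 * (728 * (243 * (27 * (16 * (5 * (4 * (3 * 2)))))))) :=
  card_le_step (k' := 9) (R' := R9) (by decide +kernel) (subListB_spec (by decide +kernel))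
    (by norm_num) idxA ubB.1 ubB.2

theorem killed : Nat.card (LPG 10 (R10 ++ [xw])) = 1 := card_eq_one_of_index idxK

end Cfsg.Agent.Helper5.Fi23LP
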