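import Mathlib
import Cfsg.Agent.Helper5.LPF
import Cfsg.Agent.Helper5.LPCox

/-!
# List-presented groups: consequences of relators, and a simple subgroup of index two

* `ev_map_eq_one`: a relation of a list-presented group holds in every list-presented group
  containing the images of its relators under a map of letters;
* `lpg_equiv_append`: adding a relator that already holds does not change the group;
* `index_normalClosure_le`: the index of the normal closure of a word is at most the order of the
  group with the word added as a relator;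
* `simple_ker_of_prim`: the kernel of a sign homomorphism of a group acting faithfully and primitively
  is simple, under the hypotheses of the simplicity criterion of `LPD`;
* `commutator_eq_ker`: that kernel is the commutator subgroup.
-/

set_option autoImplicit false

namespace Cfsg.Agent.Helper5.LP

open Cfsg.Agent.Helper5.TC Cfsg.Agent.Helper5.TCI

section
variable {k : ℕ} {R : List (List ℕ)}

theorem prod_map_ev_map (φ : ℕ → ℕ) (l : List ℕ) :
    (l.map (fun c => ev k R [φ c])).prod = ev k R (l.map φ) := by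
  rw [← prod_map_ev (l.map φ), List.map_map]
  rfl

/-- **Transfer of relations along a map of letters.** -/
theorem ev_map_eq_one {k' : ℕ} {R' : List (List ℕ)} (hinv : Invol k R) (φ : ℕ → ℕ)
    (hlt' : LettersLt k' R')
    (hrel : ∀ l ∈ R', l.map φ ∈ R ∨ (l.map φ).reverse ∈ R)
    (w : List ℕ) (hw : ∀ c ∈ w, c < k') (h : ev k' R' w = 1) : ev k R (w.map φ) = 1 := by
  have hf : ∀ l ∈ R', (l.map (fun c => ev k R [φ c])).prod = 1 := by
    intro l hl
    rw [prod_map_ev_map]
    rcases hrel l hl with h1 | h1
    · exact ev_rel h1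
    · have h2 := ev_rel (k := k) h1
      rw [ev_reverse hinv] at h2
      exact inv_eq_one.mp h2
  have h1 := lift_ev (fun c => ev k R [φ c]) hlt' hf w hw
  rw [h, map_one, prod_map_ev_map] at h1
  exact h1.symm

/-- **Adding a relator that holds does not change the group.** -/
theorem lpg_equiv_append (hlt : LettersLt k R) (s : List ℕ) (hs : ∀ c ∈ s, c < k)
    (h : ev k R s = 1) : Nonempty (LPG k R ≃* LPG k (R ++ [s])) := by
  have hlt' : LettersLt k (R ++ [s]) := by
    intro r hr
    rcases List.mem_append.mp hr with hr | hr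
    · exact hlt r hr
    · rw [List.mem_singleton.mp hr]; exact hs
  let φ : LPG k R →* LPG k (R ++ [s]) :=
    lift (fun c => ev k (R ++ [s]) [c]) hlt (by
      intro l hl
      rw [prod_map_ev]
      exact ev_rel (List.mem_append_left _ hl))
  let ψ : LPG k (R ++ [s]) →* LPG k R :=
    lift (fun c => ev k R [c]) hlt' (by
      intro l hl
      rw [prod_map_ev]
      rcases List.mem_append.mp hl with hl | hl
      · exact ev_rel hl
      · rw [List.mem_singleton.mp hl]; exact h)
  have h1 : ψ.comp φ = MonoidHom.id _ := by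
    apply PresentedGroup.ext
    intro z
    show ψ (φ (PresentedGroup.of z)) = PresentedGroup.of z
    rw [of_eq_ev]
    show ψ (lift _ hlt _ (ev k R [z.val])) = _
    rw [lift_ev _ _ _ [z.val] (by simp)]
    simp only [List.map_cons, List.map_nil, List.prod_cons, List.prod_nil, mul_one]
    show lift _ hlt' _ (ev k (R ++ [s]) [z.val]) = _
    rw [lift_ev _ _ _ [z.val] (by simp)]
    simp
  have h2 : φ.comp ψ = MonoidHom.id _ := by
    apply PresentedGroup.ext
    intro z
    show φ (ψ (PresentedGroup.of z)) = PresentedGroup.of z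
    rw [of_eq_ev]
    show φ (lift _ hlt' _ (ev k (R ++ [s]) [z.val])) = _
    rw [lift_ev _ _ _ [z.val] (by simp)]
    simp only [List.map_cons, List.map_nil, List.prod_cons, List.prod_nil, mul_one]
    show lift _ hlt _ (ev k R [z.val]) = _
    rw [lift_ev _ _ _ [z.val] (by simp)]
    simp
  exact ⟨MonoidHom.toMulEquiv φ ψ h1 h2⟩

/-- the quotient by the normal closure of a word is an image of the group with the word added as a
relator. -/
theorem index_normalClosure_le (hlt : LettersLt k R) (l : List ℕ) (hl : ∀ c ∈ l, c < k)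
    [Finite (LPG k (R ++ [l]))] :
    (Subgroup.normalClosure ({ev k R l} : Set (LPG k R))).index ≤ Nat.card (LPG k (R ++ [l])) := by
  set Nc := Subgroup.normalClosure ({ev k R l} : Set (LPG k R)) with hNc
  have hlt' : LettersLt k (R ++ [l]) := by
    intro r hr
    rcases List.mem_append.mp hr with hr | hr
    · exact hlt r hr
    · rw [List.mem_singleton.mp hr]; exact hl
  have hprod : ∀ r : List ℕ, (r.map (fun c => (QuotientGroup.mk (ev k R [c]) : LPG k R ⧸ Nc))).prod
      = QuotientGroup.mk (ev k R r) := by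
    intro r
    induction r with
    | nil => simp [ev_nil]
    | cons c r ih =>
      rw [List.map_cons, List.prod_cons, ih, ev_cons c r, QuotientGroup.mk_mul]
  let ψ : LPG k (R ++ [l]) →* LPG k R ⧸ Nc :=
    lift (fun c => (QuotientGroup.mk (ev k R [c]) : LPG k R ⧸ Nc)) hlt' (by
      intro r hr
      rw [hprod]
      rcases List.mem_append.mp hr with hr | hr
      · rw [ev_rel hr]; rfl
      · rw [List.mem_singleton.mp hr]
        exact (QuotientGroup.eq_one_iff _).mpr (Subgroup.subset_normalClosure (Set.mem_singleton _)))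
  have hsurj : Function.Surjective ψ := by
    rw [← MonoidHom.range_eq_top, eq_top_iff]
    have hgen : Subgroup.map (QuotientGroup.mk' Nc) ⊤ = ⊤ :=
      Subgroup.map_top_of_surjective _ (QuotientGroup.mk'_surjective Nc)
    rw [← hgen, ← closure_gens (k := k) (R := R), MonoidHom.map_closure, Subgroup.closure_le]
    rintro _ ⟨_, ⟨c, hc, rfl⟩, rfl⟩
    refine ⟨ev k (R ++ [l]) [c], ?_⟩
    show lift _ hlt' _ (ev k (R ++ [l]) [c]) = _
    rw [lift_ev _ _ _ [c] (by simpa using hc)]
    simp
  exact Nat.card_le_card_of_surjective ψ hsurj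

end

/-! ### a simple subgroup of index two -/

section
open scoped commutatorElement
variable {G : Type*} [Group G] [Finite G]

/-- **Simplicity criterion for a subgroup of index two.**  `G` acts faithfully and primitively on
`N` points, `K` is a normal subgroup of index two, `p ∣ N` is a prime with `p² ∤ |G|`, and the normal
closure in `G` of an element `x ∈ K` of order `p` has index at most two: then `K` is simple. -/
theorem simple_of_prim_index_two {k N : ℕ} {T : ℕ → ℕ → ℕ} {ρ : G →* Equiv.Perm (Fin N)}
    {e : List ℕ → G} (hA : ActsOn ρ e k T) (hinj : Function.Injective ρ)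
    {Hgens : List (List ℕ)} {prim : PrimData} (h : primOK T k N Hgens prim = true)
    (K : Subgroup G) [hKn : K.Normal] (hK2 : K.index = 2)
    {p : ℕ} (hp : p.Prime) (hpN : p ∣ N) (hp2 : ¬ p ^ 2 ∣ Nat.card G)
    {x : G} (hxK : x ∈ K) (hx : orderOf x = p)
    (hncl : (Subgroup.normalClosure ({x} : Set G)).index ≤ 2) : IsSimpleGroup K := by
  have : Fact p.Prime := ⟨hp⟩
  -- the normal closure of `x` is `K`
  have hcardK : Nat.card K * 2 = Nat.card G := by rw [← hK2]; exact K.card_mul_index
  have hNcK : Subgroup.normalClosure ({x} : Set G) = K := by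
    have hle : Subgroup.normalClosure ({x} : Set G) ≤ K :=
      Subgroup.normalClosure_le_normal (Set.singleton_subset_iff.mpr hxK)
    apply Subgroup.eq_of_le_of_card_ge hle
    have h1 := (Subgroup.normalClosure ({x} : Set G)).card_mul_index
    have hpos : 0 < (Subgroup.normalClosure ({x} : Set G)).index :=
      Nat.pos_of_ne_zero (Subgroup.index_ne_zero_of_finite)
    nlinarith
  have hnt : Nontrivial K := by
    refine ⟨⟨⟨x, hxK⟩, 1, ?_⟩⟩
    intro h1
    have h2 : x = 1 := congrArg Subtype.val h1
    rw [h2, orderOf_one] at hx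
    exact hp.one_lt.ne hx
  have hp2K : ¬ p ^ 2 ∣ Nat.card K := fun hd => hp2 (hcardK ▸ Dvd.dvd.mul_right hd 2)
  -- an element outside `K`
  obtain ⟨t, ht⟩ : ∃ t : G, t ∉ K := by
    by_contra hcon
    push Not at hcon
    have : K = ⊤ := eq_top_iff.mpr fun g _ => hcon g
    rw [this, Subgroup.index_top] at hK2
    omega
  refine { exists_pair_ne := hnt.exists_pair_ne, eq_bot_or_eq_top_of_normal := ?_ }
  intro L hL
  by_cases hL1 : L = ⊥
  · exact Or.inl hL1
  right
  -- conjugation by `t` on `K`
  let τ : K ≃* K := MulAut.conjNormal t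
  have hτ : ∀ m : K, ((τ m : K) : G) = t * m * t⁻¹ := fun m => MulAut.conjNormal_apply t m
  let Lt : Subgroup K := L.map τ.toMonoidHom
  have hLt : Lt.Normal := hL.map τ.toMonoidHom τ.surjective
  let BK : Subgroup K := L ⊔ Lt
  have hBK : BK.Normal := Subgroup.sup_normal L Lt
  -- `τ` maps `BK` into itself
  have hττ : ∀ m ∈ L, τ (τ m) ∈ L := by
    intro m hm
    have htt : t * t ∈ K := (Subgroup.mul_mem_iff_of_index_two hK2).mpr (iff_of_false ht ht)
    have : τ (τ m) = ⟨t * t, htt⟩ * m * ⟨t * t, htt⟩⁻¹ := by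
      apply Subtype.ext
      rw [hτ, hτ]
      simp only [Subgroup.coe_mul, Subgroup.coe_inv]
      group
    rw [this]
    exact hL.conj_mem m hm _
  have hτB : ∀ m ∈ BK, τ m ∈ BK := by
    intro m hm
    have hmap : BK.map τ.toMonoidHom ≤ BK := by
      rw [Subgroup.map_sup]
      apply sup_le
      · exact le_sup_right
      · rintro _ ⟨m', ⟨m'', hm'', rfl⟩, rfl⟩
        exact (le_sup_left : L ≤ BK) (hττ m'' hm'')
    exact hmap ⟨m, hm, rfl⟩
  let B : Subgroup G := BK.map K.subtype
  have hBn : B.Normal := by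
    refine ⟨?_⟩
    rintro _ ⟨m, hm, rfl⟩ g
    by_cases hg : g ∈ K
    · refine ⟨⟨g, hg⟩ * m * ⟨g, hg⟩⁻¹, hBK.conj_mem m hm _, ?_⟩
      simp
    · have hgt : g * t⁻¹ ∈ K := by
        have h1 : t⁻¹ ∉ K := fun h1 => ht (by simpa using K.inv_mem h1)
        exact (Subgroup.mul_mem_iff_of_index_two hK2).mpr (iff_of_false hg h1)
      refine ⟨⟨g * t⁻¹, hgt⟩ * τ m * ⟨g * t⁻¹, hgt⟩⁻¹, hBK.conj_mem _ (hτB m hm) _, ?_⟩
      simp only [Subgroup.subtype_apply, Subgroup.coe_mul, Subgroup.coe_inv, hτ]
      group
  have hB1 : B ≠ ⊥ := by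
    intro hB
    apply hL1
    rw [eq_bot_iff]
    intro m hm
    have h1 : (m : G) ∈ B := ⟨m, (le_sup_left : L ≤ BK) hm, rfl⟩
    rw [hB, Subgroup.mem_bot] at h1
    rw [Subgroup.mem_bot]
    exact Subtype.ext h1
  have hNB : N ∣ Nat.card B := dvd_card_normal hA hinj h B hB1
  have hcardB : Nat.card B = Nat.card BK :=
    Nat.card_congr (Subgroup.equivMapOfInjective BK K.subtype K.subtype_injective).toEquiv.symm
  have hcardLt : Nat.card Lt = Nat.card L :=
    Nat.card_congr (Subgroup.equivMapOfInjective L τ.toMonoidHom τ.injective).toEquiv.symm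
  -- the order of `BK` divides the square of the order of `L`
  have hBKdvd : Nat.card BK ∣ Nat.card L * Nat.card L := by
    have h1 : Nat.card (Lt.subgroupOf BK) * (Lt.subgroupOf BK).index = Nat.card BK :=
      (Lt.subgroupOf BK).card_mul_index
    have h2 : Nat.card (Lt.subgroupOf BK) = Nat.card Lt :=
      Nat.card_congr (Subgroup.subgroupOfEquivOfLe (le_sup_right : Lt ≤ BK)).toEquiv
    have h3 : (Lt.subgroupOf BK).index = Lt.relIndex L := by
      show Lt.relIndex (L ⊔ Lt) = Lt.relIndex L
      exact Subgroup.relIndex_sup_right L Lt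
    have h4 : Lt.relIndex L ∣ Nat.card L := (Lt.subgroupOf L).index_dvd_card
    rw [← h1, h2, h3, hcardLt]
    exact Nat.mul_dvd_mul_left _ h4
  have hpL : p ∣ Nat.card L := by
    have h1 : p ∣ Nat.card L * Nat.card L :=
      dvd_trans (dvd_trans hpN hNB) (hcardB ▸ hBKdvd)
    rcases (Nat.Prime.dvd_mul hp).mp h1 with h2 | h2 <;> exact h2
  -- `L` contains all conjugates of `x`
  have hconj : ∀ g : G, ∃ hg : g * x * g⁻¹ ∈ K, (⟨g * x * g⁻¹, hg⟩ : K) ∈ L := by
    intro g
    have hg : g * x * g⁻¹ ∈ K := hKn.conj_mem x hxK g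
    refine ⟨hg, ?_⟩
    apply mem_of_prime_dvd_card hp2K L hpL
    rw [Subgroup.orderOf_mk, ← hx]
    have hsc : SemiconjBy g x (g * x * g⁻¹) := by
      unfold SemiconjBy
      group
    exact (SemiconjBy.orderOf_eq g hsc).symm
  have hLK : K ≤ L.map K.subtype := by
    refine le_trans hNcK.ge ?_
    show Subgroup.closure (Group.conjugatesOfSet ({x} : Set G)) ≤ _
    rw [Subgroup.closure_le]
    intro y hy
    rw [Group.mem_conjugatesOfSet_iff] at hy
    obtain ⟨a, ha, hya⟩ := hy
    rw [Set.mem_singleton_iff] at ha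
    subst ha
    obtain ⟨g, rfl⟩ := isConj_iff.mp hya
    obtain ⟨hg, hgL⟩ := hconj g
    exact ⟨⟨g * a * g⁻¹, hg⟩, hgL, rfl⟩
  rw [eq_top_iff]
  intro m _
  obtain ⟨m', hm', hmm⟩ := hLK m.2
  have : m' = m := Subtype.ext hmm
  rwa [this] at hm'

omit [Finite G] in
/-- a simple normal subgroup of index two whose order is not a prime is the commutator
subgroup. -/
theorem commutator_eq_of_simple_index_two (K : Subgroup G) [hKn : K.Normal] (hK2 : K.index = 2)
    (hs : IsSimpleGroup K) (hnp : ¬ (Nat.card K).Prime) : commutator G = K := by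
  have hle : commutator G ≤ K := by
    have hcomm : ∀ a b : G ⧸ K, a * b = b * a := by
      have hc2 : Nat.card (G ⧸ K) = 2 := hK2
      have : Fact (Nat.Prime 2) := ⟨Nat.prime_two⟩
      have hcyc : IsCyclic (G ⧸ K) := isCyclic_of_prime_card hc2
      intro a b
      exact (IsCyclic.commGroup (α := G ⧸ K)).mul_comm a b
    rw [commutator_def, Subgroup.commutator_le]
    intro a _ b _
    rw [← QuotientGroup.eq_one_iff, commutatorElement_def]
    simp only [QuotientGroup.mk_mul, QuotientGroup.mk_inv]
    rw [hcomm (a : G ⧸ K) b]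
    group
  -- the commutator subgroup of `K` is `⊥` or `⊤`
  have hKc : (commutator K).Normal := inferInstance
  rcases hs.eq_bot_or_eq_top_of_normal (commutator K) hKc with h0 | h1
  · exfalso
    apply hnp
    have hab : ∀ a b : K, a * b = b * a := by
      intro a b
      have : ⁅a, b⁆ ∈ commutator K := by
        rw [commutator_def]
        exact Subgroup.commutator_mem_commutator (Subgroup.mem_top a) (Subgroup.mem_top b)
      rw [h0, Subgroup.mem_bot, commutatorElement_def] at this
      calc a * b = (a * b * a⁻¹ * b⁻¹) * (b * a) := by group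
        _ = b * a := by rw [this, one_mul]
    let _ : CommGroup K := { (inferInstance : Group K) with mul_comm := hab }
    exact IsSimpleGroup.prime_card (α := K)
  · apply le_antisymm hle
    intro m hm
    have h2 : (⟨m, hm⟩ : K) ∈ commutator K := by rw [h1]; exact Subgroup.mem_top _
    have h3 : (commutator K).map K.subtype ≤ commutator G := by
      rw [commutator_def, commutator_def, Subgroup.map_commutator]
      exact Subgroup.commutator_mono le_top le_top
    exact h3 ⟨⟨m, hm⟩, h2, rfl⟩

end


/-! ### the normal closure of an element, via the point stabiliser -/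

section

/-- a normal subgroup of an extension of a simple group `P` by `Z` lies in `Z` or is large. -/
theorem normal_le_or_card_le {P Q : Type*} [Group P] [Group Q] [Finite Q] (hP : IsSimpleGroup P)
    (Z : Subgroup Q) [Z.Normal] (f : P →* Q ⧸ Z) (hf : Function.Surjective f)
    (J : Subgroup Q) [hJ : J.Normal] : J ≤ Z ∨ Nat.card Q ≤ Nat.card Z * Nat.card J := by
  have hJb : (J.map (QuotientGroup.mk' Z)).Normal :=
    hJ.map (QuotientGroup.mk' Z) (QuotientGroup.mk'_surjective Z)
  have hC : ((J.map (QuotientGroup.mk' Z)).comap f).Normal := hJb.comap f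
  have hmc : ((J.map (QuotientGroup.mk' Z)).comap f).map f = J.map (QuotientGroup.mk' Z) :=
    Subgroup.map_comap_eq_self_of_surjective hf _
  rcases hP.eq_bot_or_eq_top_of_normal _ hC with h0 | h1
  · left
    rw [h0, Subgroup.map_bot] at hmc
    intro j hj
    have h2 : QuotientGroup.mk' Z j ∈ J.map (QuotientGroup.mk' Z) := ⟨j, hj, rfl⟩
    rw [← hmc, Subgroup.mem_bot] at h2
    exact (QuotientGroup.eq_one_iff j).mp h2
  · right
    rw [h1, Subgroup.map_top_of_surjective f hf] at hmc
    have h2 : Nat.card (Q ⧸ Z) ≤ Nat.card J := by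
      have h3 : Nat.card (J.map (QuotientGroup.mk' Z)) ≤ Nat.card J :=
        Nat.card_le_card_of_surjective _ ((QuotientGroup.mk' Z).subgroupMap_surjective J)
      rw [← hmc] at h3
      have h4 : Nat.card (⊤ : Subgroup (Q ⧸ Z)) = Nat.card (Q ⧸ Z) :=
        Nat.card_congr Subgroup.topEquiv.toEquiv
      omega
    rw [Subgroup.card_eq_card_quotient_mul_card_subgroup Z, mul_comm]
    exact Nat.mul_le_mul_left _ h2

/-- **The index of a normal subgroup containing a suitable element of the point stabiliser.** -/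
theorem index_normal_le_two {G Q : Type*} [Group G] [Finite G] [Group Q] [Finite Q]
    (φ : Q →* G) (hφ : Function.Injective φ) (Z : Subgroup Q)
    (hF2 : ∀ J : Subgroup Q, J.Normal → J ≤ Z ∨ Nat.card Q ≤ 2 * Nat.card J)
    (Nc : Subgroup G) [hNc : Nc.Normal] (n : ℕ)
    (hG : Nat.card G = n * Nat.card φ.range)
    (hcNc : Nat.card Nc = n * Nat.card (Nc ⊓ φ.range : Subgroup G))
    (y : G) (hyN : y ∈ Nc) (hyS : y ∈ φ.range) (hyZ : y ∉ Z.map φ) : Nc.index ≤ 2 := by
  have hJn : (Nc.comap φ).Normal := hNc.comap φ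
  have hmap : (Nc.comap φ).map φ = Nc ⊓ φ.range := by
    rw [Subgroup.map_comap_eq, inf_comm]
  have hcardJ : Nat.card ((Nc.comap φ).map φ) = Nat.card (Nc.comap φ) :=
    Nat.card_congr (Subgroup.equivMapOfInjective _ φ hφ).toEquiv.symm
  have hcardR : Nat.card φ.range = Nat.card Q :=
    Nat.card_congr (MonoidHom.ofInjective hφ).toEquiv.symm
  rcases hF2 _ hJn with h1 | h1
  · exfalso
    obtain ⟨q, rfl⟩ := hyS
    exact hyZ ⟨q, h1 (show q ∈ Nc.comap φ from hyN), rfl⟩
  · have h2 : Nat.card φ.range ≤ 2 * Nat.card (Nc ⊓ φ.range : Subgroup G) := by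
      rw [hcardR, ← hmap, hcardJ]; exact h1
    have h3 : Nat.card G ≤ 2 * Nat.card Nc := by
      rw [hG, hcNc]
      calc n * Nat.card φ.range ≤ n * (2 * Nat.card (Nc ⊓ φ.range : Subgroup G)) :=
            Nat.mul_le_mul_left n h2
        _ = 2 * (n * Nat.card (Nc ⊓ φ.range : Subgroup G)) := by ring
    have h4 := Nc.card_mul_index
    have hpos : 0 < Nat.card Nc := Nat.card_pos
    by_contra hcon
    push Not at hcon
    have : Nat.card Nc * 3 ≤ Nat.card Nc * Nc.index := Nat.mul_le_mul_left _ hcon
    omega

end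

end Cfsg.Agent.Helper5.LP
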