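import Mathlib
import Cfsg.Agent.Helper5.Fi23LPA
import Cfsg.Agent.Helper5.LPY

/-!
# The presentation of `Fi₂₄`: the subgroup presentation on eleven letters

Letters `b, c, d, e, h, i, f, g, a, j, l, k` (numbers `0, …, 11`).  The list-presented group on the
first eleven letters with the Coxeter relations, the relation `l = (abcdefh)⁹` and the spider relation
has order at most twice the order of the presented group `Fi₂₃`: the letter `l` is central of order at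
most two, and modulo `l` the relators of `Fi₂₃` hold.
-/

set_option autoImplicit false

namespace Cfsg.Agent.Helper5.Fi24LP

open Cfsg.Agent.Helper5.TC Cfsg.Agent.Helper5.TCI Cfsg.Agent.Helper5.LP

/-- relator words on the first 11 letters. -/
def R11 : List (List ℕ) := [[0, 0], [0, 1, 0, 1, 0, 1], [0, 2, 0, 2], [0, 3, 0, 3], [0, 4, 0, 4], [0, 5, 0, 5], [0, 6, 0, 6], [0, 7, 0, 7], [0, 8, 0, 8, 0, 8], [0, 9, 0, 9], [0, 10, 0, 10], [1, 1], [1, 2, 1, 2, 1, 2], [1, 3, 1, 3], [1, 4, 1, 4], [1, 5, 1, 5], [1, 6, 1, 6], [1, 7, 1, 7], [1, 8, 1, 8], [1, 9, 1, 9], [1, 10, 1, 10], [2, 2], [2, 3, 2, 3, 2, 3], [2, 4, 2, 4, 2, 4], [2, 5, 2, 5], [2, 6, 2, 6], [2, 7, 2, 7], [2, 8, 2, 8], [2, 9, 2, 9], [2, 10, 2, 10], [3, 3], [3, 4, 3, 4], [3, 5, 3, 5], [3, 6, 3, 6, 3, 6], [3, 7, 3, 7], [3, 8, 3, 8], [3, 9, 3, 9], [3, 10, 3, 10], [4, 4], [4, 5, 4, 5, 4, 5], [4, 6, 4, 6], [4, 7, 4, 7], [4, 8, 4, 8], [4, 9, 4,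 9], [4, 10, 4, 10], [5, 5], [5, 6, 5, 6], [5, 7, 5, 7], [5, 8, 5, 8], [5, 9, 5, 9], [5, 10, 5, 10], [6, 6], [6, 7, 6, 7, 6, 7], [6, 8, 6, 8], [6, 9, 6, 9], [6, 10, 6, 10], [7, 7], [7, 8, 7, 8], [7, 9, 7, 9, 7, 9], [7, 10, 7, 10], [8, 8], [8, 9, 8, 9], [8, 10, 8, 10], [9, 9], [9, 10, 9, 10], [10, 10], [10, 4, 6, 3, 2, 1, 0, 8, 4, 6, 3, 2, 1, 0, 8, 4, 6, 3, 2, 1, 0, 8, 4, 6, 3, 2, 1, 0, 8, 4, 6, 3, 2, 1, 0, 8, 4, 6, 3, 2, 1, 0, 8, 4, 6, 3, 2, 1, 0, 8, 4, 6, 3, 2, 1, 0, 8, 4, 6, 3, 2, 1, 0, 8], [2, 1, 0, 2, 3, 6, 2, 4, 5, 2, 1, 0, 2, 3, 6, 2, 4, 5, 2, 1, 0, 2, 3, 6, 2, 4, 5, 2, 1, 0, 2, 3, 6, 2, 4, 5, 2, 1, 0, 2, 3, 6, 2, 4, 5, 2, 1, 0, 2, 3, 6, 2, 4, 5, 2, 1, 0, 2, 3, 6, 2, 4, 5, 2, 1, 0, 2, 3, 6, 2, 4, 5, 2, 1, 0, 2, 3, 6, 2, 4, 5, 2, 1, 0, 2, 3, 6, 2, 4, 5]]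

/-- the word `(abcdefh)⁹`. -/
def e7w : List ℕ := [8, 0, 1, 2, 3, 6, 4, 8, 0, 1, 2, 3, 6, 4, 8, 0, 1, 2, 3, 6, 4, 8, 0, 1, 2, 3, 6, 4, 8, 0, 1, 2, 3, 6, 4, 8, 0, 1, 2, 3, 6, 4, 8, 0, 1, 2, 3, 6, 4, 8, 0, 1, 2, 3, 6, 4, 8, 0, 1, 2, 3, 6, 4]

theorem letters11 : LettersLt 11 R11 := by decide +kernel

theorem invol11 : Invol 11 R11 := by decide +kernel

theorem letters23 : LettersLt 10 Fi23LP.R10 := by decide +kernel

theorem comm11 : ∀ c, c < 10 → [c, 10, c, 10] ∈ R11 := by decide +kernel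

theorem rels23 : ∀ r ∈ Fi23LP.R10, r ∈ R11 ∨ r = e7w := by decide +kernel

theorem r1_mem : [10] ++ e7w.reverse ∈ R11 := by decide +kernel

/-- the letter `l`. -/
noncomputable def zl : LPG 11 R11 := ev 11 R11 [10]

theorem zl_sq : zl * zl = 1 := ev_sq invol11 10

theorem zl_inv : zl⁻¹ = zl := inv_eq_of_mul_eq_one_left zl_sq

theorem e7w_eq : ev 11 R11 e7w = zl := by
  have h1 := ev_rel (k := 11) r1_mem
  rw [ev_append, ev_reverse invol11] at h1
  have h2 : (ev 11 R11 e7w)⁻¹ = zl⁻¹ := by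
    have : zl * (ev 11 R11 e7w)⁻¹ = 1 := h1
    exact (inv_eq_of_mul_eq_one_right this).symm ▸ rfl
  exact inv_injective h2

theorem zl_comm_letter (c : ℕ) : ev 11 R11 [c] * zl = zl * ev 11 R11 [c] := by
  rcases Nat.lt_or_ge c 10 with hc | hc
  · have h1 := ev_rel (k := 11) (comm11 c hc)
    have h2 : ev 11 R11 [c, 10, c, 10] = ev 11 R11 [c] * zl * (ev 11 R11 [c] * zl) := by
      rw [show [c, 10, c, 10] = [c] ++ [10] ++ ([c] ++ [10]) from rfl, ev_append, ev_append]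
      rfl
    rw [h2] at h1
    have h3 := ev_sq invol11 c
    have h4 : (ev 11 R11 [c] * zl)⁻¹ = zl * ev 11 R11 [c] := by
      rw [mul_inv_rev, zl_inv, inv_eq_of_mul_eq_one_left h3]
    rw [← h4]
    exact (inv_eq_of_mul_eq_one_left h1).symm
  · rcases Nat.eq_or_lt_of_le hc with hc | hc
    · rw [← hc]; rfl
    · rw [ev_ge (by omega : 11 ≤ c), one_mul, mul_one]

theorem zl_central (g : LPG 11 R11) : g * zl = zl * g := by
  have hg : g ∈ Subgroup.closure {x : LPG 11 R11 | ∃ c, c < 11 ∧ x = ev 11 R11 [c]} := by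
    rw [closure_gens]; exact Subgroup.mem_top g
  induction hg using Subgroup.closure_induction with
  | mem x hx =>
    obtain ⟨c, -, rfl⟩ := hx
    exact zl_comm_letter c
  | one => simp
  | mul x y _ _ hx hy => rw [mul_assoc, hy, ← mul_assoc, hx, mul_assoc]
  | inv x _ hx =>
    have : x⁻¹ * zl = x⁻¹ * (zl * x) * x⁻¹ := by group
    rw [this, ← hx]
    group

/-- the central subgroup generated by `l`. -/
noncomputable def Zl : Subgroup (LPG 11 R11) := Subgroup.zpowers zl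

instance Zl_normal : Zl.Normal := by
  refine ⟨?_⟩
  rintro n ⟨i, rfl⟩ g
  have hc : g * zl ^ i = zl ^ i * g := by
    have : Commute g zl := zl_central g
    exact (this.zpow_right i)
  show g * zl ^ i * g⁻¹ ∈ Zl
  rw [hc, mul_assoc, mul_inv_cancel, mul_one]
  exact ⟨i, rfl⟩

theorem card_Zl_le : Nat.card Zl ≤ 2 := by
  unfold Zl
  rw [Nat.card_zpowers]
  apply orderOf_le_of_pow_eq_one (by norm_num)
  rw [pow_two]; exact zl_sq

theorem prod_mk (r : List ℕ) :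
    (r.map (fun c => (QuotientGroup.mk (ev 11 R11 [c]) : LPG 11 R11 ⧸ Zl))).prod
      = QuotientGroup.mk (ev 11 R11 r) := by
  induction r with
  | nil => simp [ev_nil]
  | cons c r ih =>
    rw [List.map_cons, List.prod_cons, ih, ev_cons c r, QuotientGroup.mk_mul]

/-- the homomorphism from the presented group `Fi₂₃` onto the quotient by `l`. -/
noncomputable def toQuot : LPG 10 Fi23LP.R10 →* LPG 11 R11 ⧸ Zl :=
  lift (fun c => (QuotientGroup.mk (ev 11 R11 [c]) : LPG 11 R11 ⧸ Zl)) letters23 (by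
    intro r hr
    rw [prod_mk]
    rcases rels23 r hr with h | h
    · rw [ev_rel h]; rfl
    · rw [h, e7w_eq]
      exact (QuotientGroup.eq_one_iff _).mpr (Subgroup.mem_zpowers zl))

theorem toQuot_surj : Function.Surjective toQuot := by
  rw [← MonoidHom.range_eq_top, eq_top_iff]
  have hgen : Subgroup.map (QuotientGroup.mk' Zl) ⊤ = ⊤ :=
    Subgroup.map_top_of_surjective _ (QuotientGroup.mk'_surjective Zl)
  rw [← hgen, ← closure_gens (k := 11) (R := R11), MonoidHom.map_closure, Subgroup.closure_le]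
  rintro _ ⟨_, ⟨c, hc, rfl⟩, rfl⟩
  rcases Nat.lt_or_ge c 10 with hc' | hc'
  · refine ⟨ev 10 Fi23LP.R10 [c], ?_⟩
    show lift _ letters23 _ (ev 10 Fi23LP.R10 [c]) = _
    rw [lift_ev _ _ _ [c] (by simpa using hc')]
    simp
  · have h10 : c = 10 := by omega
    subst h10
    refine ⟨1, ?_⟩
    rw [map_one]
    have hz : (QuotientGroup.mk zl : LPG 11 R11 ⧸ Zl) = 1 :=
      (QuotientGroup.eq_one_iff (N := Zl) zl).mpr (Subgroup.mem_zpowers zl)
    exact hz.symm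

/-- **The order of the subgroup presentation.** -/
theorem ub11 : Finite (LPG 11 R11) ∧ Nat.card (LPG 11 R11) ≤ 2 * 4089470473293004800 := by
  have hfin23 := Fi23LP.ubA.1
  have hfinQ : Finite (LPG 11 R11 ⧸ Zl) := Finite.of_surjective toQuot toQuot_surj
  have hcardQ : Nat.card (LPG 11 R11 ⧸ Zl) ≤ 4089470473293004800 :=
    le_trans (Nat.card_le_card_of_surjective toQuot toQuot_surj)
      (le_trans Fi23LP.ubA.2 (by norm_num))
  have hfinZ : Finite Zl := by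
    unfold Zl
    have : IsOfFinOrder zl := isOfFinOrder_iff_pow_eq_one.mpr ⟨2, by norm_num, by rw [pow_two]; exact zl_sq⟩
    exact Nat.finite_of_card_ne_zero (by rw [Nat.card_zpowers]; exact (orderOf_pos_iff.mpr this).ne')
  have hmul := Subgroup.card_eq_card_quotient_mul_card_subgroup Zl
  have hfin : Finite (LPG 11 R11) := by
    apply Nat.finite_of_card_ne_zero
    rw [hmul]
    exact Nat.mul_ne_zero Nat.card_pos.ne' Nat.card_pos.ne'
  refine ⟨hfin, ?_⟩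
  rw [hmul]
  calc Nat.card (LPG 11 R11 ⧸ Zl) * Nat.card Zl ≤ 4089470473293004800 * 2 :=
        Nat.mul_le_mul hcardQ card_Zl_le
    _ = 2 * 4089470473293004800 := by norm_num

end Cfsg.Agent.Helper5.Fi24LP
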