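import Cfsg.Agent.Helper5.FiZATCCt0
import Cfsg.Agent.Helper5.FiZATCCt1
import Cfsg.Agent.Helper5.FiZATCCt2
import Cfsg.Agent.Helper5.FiZATCCt3
import Cfsg.Agent.Helper5.FiZATCCt4
import Cfsg.Agent.Helper5.FiZATCCt5
import Cfsg.Agent.Helper5.FiZATCCt6
import Cfsg.Agent.Helper5.FiZATCCt7
import Cfsg.Agent.Helper5.FiZATCCt8
import Cfsg.Agent.Helper5.FiZATCCt9
import Cfsg.Agent.Helper5.FiZATCCt10
import Cfsg.Agent.Helper5.FiZATCCt11
import Cfsg.Agent.Helper5.TC3A

/-! generated coset table: FiZATC -/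

set_option autoImplicit false
set_option Elab.async false

namespace Cfsg.Agent.Helper5.FiZATC
open Cfsg.Agent.Helper5.TC

def ctF (x v : ℕ) : ℕ := (Bool.rec (motive := fun _ => ℕ) (Bool.rec (motive := fun _ => ℕ) (Bool.rec (motive := fun _ => ℕ) (ct0F v) (Bool.rec (motive := fun _ => ℕ) (ct1F v) (ct2F v) (Nat.ble 2 x)) (Nat.ble 1 x)) (Bool.rec (motive := fun _ => ℕ) (ct3F v) (Bool.rec (motive := fun _ => ℕ) (ct4F v) (ct5F v) (Nat.ble 5 x)) (Nat.ble 4 x)) (Nat.ble 3 x)) (Bool.rec (motive := fun _ => ℕ) (Bool.rec (motive := fun _ => ℕ) (ct6F v) (Bool.rec (motive := fun _ => ℕ) (ct7F v) (ct8F v) (Nat.ble 8 x)) (Nat.ble 7 x)) (Bool.rec (motive := fun _ => ℕ) (ct9F v) (Bool.rec (motive := fun _ => ℕ) (ct10F v) (ct11F v) (Nat.ble 11 x)) (Nat.ble 10 x)) (Nat.ble 9 x)) (Nat.ble 6 x))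
set_option maxRecDepth 1000000 in
def W_0 (v : ℕ) : ℕ := forceL (ct0F v) (fun a1 => forceL (ct0F a1) (fun a2 => a2))
set_option maxRecDepth 1000000 in
def W_1 (v : ℕ) : ℕ := forceL (ct1F v) (fun a1 => forceL (ct0F a1) (fun a2 => forceL (ct1F a2) (fun a3 => forceL (ct0F a3) (fun a4 => forceL (ct1F a4) (fun a5 => forceL (ct0F a5) (fun a6 => a6))))))
set_option maxRecDepth 1000000 in
def W_2 (v : ℕ) : ℕ := forceL (ct2F v) (fun a1 => forceL (ct0F a1) (fun a2 => forceL (ct2F a2) (fun a3 => forceL (ct0F a3) (fun a4 => a4))))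
set_option maxRecDepth 1000000 in
def W_3 (v : ℕ) : ℕ := forceL (ct3F v) (fun a1 => forceL (ct0F a1) (fun a2 => forceL (ct3F a2) (fun a3 => forceL (ct0F a3) (fun a4 => a4))))
set_option maxRecDepth 1000000 in
def W_4 (v : ℕ) : ℕ := forceL (ct4F v) (fun a1 => forceL (ct0F a1) (fun a2 => forceL (ct4F a2) (fun a3 => forceL (ct0F a3) (fun a4 => a4))))
set_option maxRecDepth 1000000 in
def W_5 (v : ℕ) : ℕ := forceL (ct5F v) (fun a1 => forceL (ct0F a1) (fun a2 => forceL (ct5F a2) (fun a3 => forceL (ct0F a3) (fun a4 => a4))))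
set_option maxRecDepth 1000000 in
def W_6 (v : ℕ) : ℕ := forceL (ct6F v) (fun a1 => forceL (ct0F a1) (fun a2 => forceL (ct6F a2) (fun a3 => forceL (ct0F a3) (fun a4 => a4))))
set_option maxRecDepth 1000000 in
def W_7 (v : ℕ) : ℕ := forceL (ct7F v) (fun a1 => forceL (ct0F a1) (fun a2 => forceL (ct7F a2) (fun a3 => forceL (ct0F a3) (fun a4 => a4))))
set_option maxRecDepth 1000000 in
def W_8 (v : ℕ) : ℕ := forceL (ct8F v) (fun a1 => forceL (ct0F a1) (fun a2 => forceL (ct8F a2) (fun a3 => forceL (ct0F a3) (fun a4 => forceL (ct8F a4) (fun a5 => forceL (ct0F a5) (fun a6 => a6))))))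
set_option maxRecDepth 1000000 in
def W_9 (v : ℕ) : ℕ := forceL (ct9F v) (fun a1 => forceL (ct0F a1) (fun a2 => forceL (ct9F a2) (fun a3 => forceL (ct0F a3) (fun a4 => a4))))
set_option maxRecDepth 1000000 in
def W_10 (v : ℕ) : ℕ := forceL (ct10F v) (fun a1 => forceL (ct0F a1) (fun a2 => forceL (ct10F a2) (fun a3 => forceL (ct0F a3) (fun a4 => a4))))
set_option maxRecDepth 1000000 in
def W_11 (v : ℕ) : ℕ := forceL (ct11F v) (fun a1 => forceL (ct0F a1) (fun a2 => forceL (ct11F a2) (fun a3 => forceL (ct0F a3) (fun a4 => a4))))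
set_option maxRecDepth 1000000 in
def W_12 (v : ℕ) : ℕ := forceL (ct1F v) (fun a1 => forceL (ct1F a1) (fun a2 => a2))
set_option maxRecDepth 1000000 in
def W_13 (v : ℕ) : ℕ := forceL (ct2F v) (fun a1 => forceL (ct1F a1) (fun a2 => forceL (ct2F a2) (fun a3 => forceL (ct1F a3) (fun a4 => forceL (ct2F a4) (fun a5 => forceL (ct1F a5) (fun a6 => a6))))))
set_option maxRecDepth 1000000 in
def W_14 (v : ℕ) : ℕ := forceL (ct3F v) (fun a1 => forceL (ct1F a1) (fun a2 => forceL (ct3F a2) (fun a3 => forceL (ct1F a3) (fun a4 => a4))))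
set_option maxRecDepth 1000000 in
def W_15 (v : ℕ) : ℕ := forceL (ct4F v) (fun a1 => forceL (ct1F a1) (fun a2 => forceL (ct4F a2) (fun a3 => forceL (ct1F a3) (fun a4 => a4))))
set_option maxRecDepth 1000000 in
def W_16 (v : ℕ) : ℕ := forceL (ct5F v) (fun a1 => forceL (ct1F a1) (fun a2 => forceL (ct5F a2) (fun a3 => forceL (ct1F a3) (fun a4 => a4))))
set_option maxRecDepth 1000000 in
def W_17 (v : ℕ) : ℕ := forceL (ct6F v) (fun a1 => forceL (ct1F a1) (fun a2 => forceL (ct6F a2) (fun a3 => forceL (ct1F a3) (fun a4 => a4))))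
set_option maxRecDepth 1000000 in
def W_18 (v : ℕ) : ℕ := forceL (ct7F v) (fun a1 => forceL (ct1F a1) (fun a2 => forceL (ct7F a2) (fun a3 => forceL (ct1F a3) (fun a4 => a4))))
set_option maxRecDepth 1000000 in
def W_19 (v : ℕ) : ℕ := forceL (ct8F v) (fun a1 => forceL (ct1F a1) (fun a2 => forceL (ct8F a2) (fun a3 => forceL (ct1F a3) (fun a4 => a4))))
set_option maxRecDepth 1000000 in
def W_20 (v : ℕ) : ℕ := forceL (ct9F v) (fun a1 => forceL (ct1F a1) (fun a2 => forceL (ct9F a2) (fun a3 => forceL (ct1F a3) (fun a4 => a4))))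
set_option maxRecDepth 1000000 in
def W_21 (v : ℕ) : ℕ := forceL (ct10F v) (fun a1 => forceL (ct1F a1) (fun a2 => forceL (ct10F a2) (fun a3 => forceL (ct1F a3) (fun a4 => a4))))
set_option maxRecDepth 1000000 in
def W_22 (v : ℕ) : ℕ := forceL (ct11F v) (fun a1 => forceL (ct1F a1) (fun a2 => forceL (ct11F a2) (fun a3 => forceL (ct1F a3) (fun a4 => a4))))
set_option maxRecDepth 1000000 in
def W_23 (v : ℕ) : ℕ := forceL (ct2F v) (fun a1 => forceL (ct2F a1) (fun a2 => a2))
set_option maxRecDepth 1000000 in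
def W_24 (v : ℕ) : ℕ := forceL (ct3F v) (fun a1 => forceL (ct2F a1) (fun a2 => forceL (ct3F a2) (fun a3 => forceL (ct2F a3) (fun a4 => forceL (ct3F a4) (fun a5 => forceL (ct2F a5) (fun a6 => a6))))))
set_option maxRecDepth 1000000 in
def W_25 (v : ℕ) : ℕ := forceL (ct4F v) (fun a1 => forceL (ct2F a1) (fun a2 => forceL (ct4F a2) (fun a3 => forceL (ct2F a3) (fun a4 => forceL (ct4F a4) (fun a5 => forceL (ct2F a5) (fun a6 => a6))))))
set_option maxRecDepth 1000000 in
def W_26 (v : ℕ) : ℕ := forceL (ct5F v) (fun a1 => forceL (ct2F a1) (fun a2 => forceL (ct5F a2) (fun a3 => forceL (ct2F a3) (fun a4 => a4))))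
set_option maxRecDepth 1000000 in
def W_27 (v : ℕ) : ℕ := forceL (ct6F v) (fun a1 => forceL (ct2F a1) (fun a2 => forceL (ct6F a2) (fun a3 => forceL (ct2F a3) (fun a4 => a4))))
set_option maxRecDepth 1000000 in
def W_28 (v : ℕ) : ℕ := forceL (ct7F v) (fun a1 => forceL (ct2F a1) (fun a2 => forceL (ct7F a2) (fun a3 => forceL (ct2F a3) (fun a4 => a4))))
set_option maxRecDepth 1000000 in
def W_29 (v : ℕ) : ℕ := forceL (ct8F v) (fun a1 => forceL (ct2F a1) (fun a2 => forceL (ct8F a2) (fun a3 => forceL (ct2F a3) (fun a4 => a4))))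
set_option maxRecDepth 1000000 in
def W_30 (v : ℕ) : ℕ := forceL (ct9F v) (fun a1 => forceL (ct2F a1) (fun a2 => forceL (ct9F a2) (fun a3 => forceL (ct2F a3) (fun a4 => a4))))
set_option maxRecDepth 1000000 in
def W_31 (v : ℕ) : ℕ := forceL (ct10F v) (fun a1 => forceL (ct2F a1) (fun a2 => forceL (ct10F a2) (fun a3 => forceL (ct2F a3) (fun a4 => a4))))
set_option maxRecDepth 1000000 in
def W_32 (v : ℕ) : ℕ := forceL (ct11F v) (fun a1 => forceL (ct2F a1) (fun a2 => forceL (ct11F a2) (fun a3 => forceL (ct2F a3) (fun a4 => a4))))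
set_option maxRecDepth 1000000 in
def W_33 (v : ℕ) : ℕ := forceL (ct3F v) (fun a1 => forceL (ct3F a1) (fun a2 => a2))
set_option maxRecDepth 1000000 in
def W_34 (v : ℕ) : ℕ := forceL (ct4F v) (fun a1 => forceL (ct3F a1) (fun a2 => forceL (ct4F a2) (fun a3 => forceL (ct3F a3) (fun a4 => a4))))
set_option maxRecDepth 1000000 in
def W_35 (v : ℕ) : ℕ := forceL (ct5F v) (fun a1 => forceL (ct3F a1) (fun a2 => forceL (ct5F a2) (fun a3 => forceL (ct3F a3) (fun a4 => a4))))
set_option maxRecDepth 1000000 in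
def W_36 (v : ℕ) : ℕ := forceL (ct6F v) (fun a1 => forceL (ct3F a1) (fun a2 => forceL (ct6F a2) (fun a3 => forceL (ct3F a3) (fun a4 => forceL (ct6F a4) (fun a5 => forceL (ct3F a5) (fun a6 => a6))))))
set_option maxRecDepth 1000000 in
def W_37 (v : ℕ) : ℕ := forceL (ct7F v) (fun a1 => forceL (ct3F a1) (fun a2 => forceL (ct7F a2) (fun a3 => forceL (ct3F a3) (fun a4 => a4))))
set_option maxRecDepth 1000000 in
def W_38 (v : ℕ) : ℕ := forceL (ct8F v) (fun a1 => forceL (ct3F a1) (fun a2 => forceL (ct8F a2) (fun a3 => forceL (ct3F a3) (fun a4 => a4))))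
set_option maxRecDepth 1000000 in
def W_39 (v : ℕ) : ℕ := forceL (ct9F v) (fun a1 => forceL (ct3F a1) (fun a2 => forceL (ct9F a2) (fun a3 => forceL (ct3F a3) (fun a4 => a4))))
set_option maxRecDepth 1000000 in
def W_40 (v : ℕ) : ℕ := forceL (ct10F v) (fun a1 => forceL (ct3F a1) (fun a2 => forceL (ct10F a2) (fun a3 => forceL (ct3F a3) (fun a4 => a4))))
set_option maxRecDepth 1000000 in
def W_41 (v : ℕ) : ℕ := forceL (ct11F v) (fun a1 => forceL (ct3F a1) (fun a2 => forceL (ct11F a2) (fun a3 => forceL (ct3F a3) (fun a4 => a4))))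
set_option maxRecDepth 1000000 in
def W_42 (v : ℕ) : ℕ := forceL (ct4F v) (fun a1 => forceL (ct4F a1) (fun a2 => a2))
set_option maxRecDepth 1000000 in
def W_43 (v : ℕ) : ℕ := forceL (ct5F v) (fun a1 => forceL (ct4F a1) (fun a2 => forceL (ct5F a2) (fun a3 => forceL (ct4F a3) (fun a4 => forceL (ct5F a4) (fun a5 => forceL (ct4F a5) (fun a6 => a6))))))
set_option maxRecDepth 1000000 in
def W_44 (v : ℕ) : ℕ := forceL (ct6F v) (fun a1 => forceL (ct4F a1) (fun a2 => forceL (ct6F a2) (fun a3 => forceL (ct4F a3) (fun a4 => a4))))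
set_option maxRecDepth 1000000 in
def W_45 (v : ℕ) : ℕ := forceL (ct7F v) (fun a1 => forceL (ct4F a1) (fun a2 => forceL (ct7F a2) (fun a3 => forceL (ct4F a3) (fun a4 => a4))))
set_option maxRecDepth 1000000 in
def W_46 (v : ℕ) : ℕ := forceL (ct8F v) (fun a1 => forceL (ct4F a1) (fun a2 => forceL (ct8F a2) (fun a3 => forceL (ct4F a3) (fun a4 => a4))))
set_option maxRecDepth 1000000 in
def W_47 (v : ℕ) : ℕ := forceL (ct9F v) (fun a1 => forceL (ct4F a1) (fun a2 => forceL (ct9F a2) (fun a3 => forceL (ct4F a3) (fun a4 => a4))))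
set_option maxRecDepth 1000000 in
def W_48 (v : ℕ) : ℕ := forceL (ct10F v) (fun a1 => forceL (ct4F a1) (fun a2 => forceL (ct10F a2) (fun a3 => forceL (ct4F a3) (fun a4 => a4))))
set_option maxRecDepth 1000000 in
def W_49 (v : ℕ) : ℕ := forceL (ct11F v) (fun a1 => forceL (ct4F a1) (fun a2 => forceL (ct11F a2) (fun a3 => forceL (ct4F a3) (fun a4 => a4))))
set_option maxRecDepth 1000000 in
def W_50 (v : ℕ) : ℕ := forceL (ct5F v) (fun a1 => forceL (ct5F a1) (fun a2 => a2))
set_option maxRecDepth 1000000 in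
def W_51 (v : ℕ) : ℕ := forceL (ct6F v) (fun a1 => forceL (ct5F a1) (fun a2 => forceL (ct6F a2) (fun a3 => forceL (ct5F a3) (fun a4 => a4))))
set_option maxRecDepth 1000000 in
def W_52 (v : ℕ) : ℕ := forceL (ct7F v) (fun a1 => forceL (ct5F a1) (fun a2 => forceL (ct7F a2) (fun a3 => forceL (ct5F a3) (fun a4 => a4))))
set_option maxRecDepth 1000000 in
def W_53 (v : ℕ) : ℕ := forceL (ct8F v) (fun a1 => forceL (ct5F a1) (fun a2 => forceL (ct8F a2) (fun a3 => forceL (ct5F a3) (fun a4 => a4))))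
set_option maxRecDepth 1000000 in
def W_54 (v : ℕ) : ℕ := forceL (ct9F v) (fun a1 => forceL (ct5F a1) (fun a2 => forceL (ct9F a2) (fun a3 => forceL (ct5F a3) (fun a4 => a4))))
set_option maxRecDepth 1000000 in
def W_55 (v : ℕ) : ℕ := forceL (ct10F v) (fun a1 => forceL (ct5F a1) (fun a2 => forceL (ct10F a2) (fun a3 => forceL (ct5F a3) (fun a4 => a4))))
set_option maxRecDepth 1000000 in
def W_56 (v : ℕ) : ℕ := forceL (ct11F v) (fun a1 => forceL (ct5F a1) (fun a2 => forceL (ct11F a2) (fun a3 => forceL (ct5F a3) (fun a4 => a4))))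
set_option maxRecDepth 1000000 in
def W_57 (v : ℕ) : ℕ := forceL (ct6F v) (fun a1 => forceL (ct6F a1) (fun a2 => a2))
set_option maxRecDepth 1000000 in
def W_58 (v : ℕ) : ℕ := forceL (ct7F v) (fun a1 => forceL (ct6F a1) (fun a2 => forceL (ct7F a2) (fun a3 => forceL (ct6F a3) (fun a4 => forceL (ct7F a4) (fun a5 => forceL (ct6F a5) (fun a6 => a6))))))
set_option maxRecDepth 1000000 in
def W_59 (v : ℕ) : ℕ := forceL (ct8F v) (fun a1 => forceL (ct6F a1) (fun a2 => forceL (ct8F a2) (fun a3 => forceL (ct6F a3) (fun a4 => a4))))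
set_option maxRecDepth 1000000 in
def W_60 (v : ℕ) : ℕ := forceL (ct9F v) (fun a1 => forceL (ct6F a1) (fun a2 => forceL (ct9F a2) (fun a3 => forceL (ct6F a3) (fun a4 => a4))))
set_option maxRecDepth 1000000 in
def W_61 (v : ℕ) : ℕ := forceL (ct10F v) (fun a1 => forceL (ct6F a1) (fun a2 => forceL (ct10F a2) (fun a3 => forceL (ct6F a3) (fun a4 => a4))))
set_option maxRecDepth 1000000 in
def W_62 (v : ℕ) : ℕ := forceL (ct11F v) (fun a1 => forceL (ct6F a1) (fun a2 => forceL (ct11F a2) (fun a3 => forceL (ct6F a3) (fun a4 => a4))))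
set_option maxRecDepth 1000000 in
def W_63 (v : ℕ) : ℕ := forceL (ct7F v) (fun a1 => forceL (ct7F a1) (fun a2 => a2))
set_option maxRecDepth 1000000 in
def W_64 (v : ℕ) : ℕ := forceL (ct8F v) (fun a1 => forceL (ct7F a1) (fun a2 => forceL (ct8F a2) (fun a3 => forceL (ct7F a3) (fun a4 => a4))))
set_option maxRecDepth 1000000 in
def W_65 (v : ℕ) : ℕ := forceL (ct9F v) (fun a1 => forceL (ct7F a1) (fun a2 => forceL (ct9F a2) (fun a3 => forceL (ct7F a3) (fun a4 => forceL (ct9F a4) (fun a5 => forceL (ct7F a5) (fun a6 => a6))))))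
set_option maxRecDepth 1000000 in
def W_66 (v : ℕ) : ℕ := forceL (ct10F v) (fun a1 => forceL (ct7F a1) (fun a2 => forceL (ct10F a2) (fun a3 => forceL (ct7F a3) (fun a4 => a4))))
set_option maxRecDepth 1000000 in
def W_67 (v : ℕ) : ℕ := forceL (ct11F v) (fun a1 => forceL (ct7F a1) (fun a2 => forceL (ct11F a2) (fun a3 => forceL (ct7F a3) (fun a4 => a4))))
set_option maxRecDepth 1000000 in
def W_68 (v : ℕ) : ℕ := forceL (ct8F v) (fun a1 => forceL (ct8F a1) (fun a2 => a2))
set_option maxRecDepth 1000000 in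
def W_69 (v : ℕ) : ℕ := forceL (ct9F v) (fun a1 => forceL (ct8F a1) (fun a2 => forceL (ct9F a2) (fun a3 => forceL (ct8F a3) (fun a4 => a4))))
set_option maxRecDepth 1000000 in
def W_70 (v : ℕ) : ℕ := forceL (ct10F v) (fun a1 => forceL (ct8F a1) (fun a2 => forceL (ct10F a2) (fun a3 => forceL (ct8F a3) (fun a4 => a4))))
set_option maxRecDepth 1000000 in
def W_71 (v : ℕ) : ℕ := forceL (ct11F v) (fun a1 => forceL (ct8F a1) (fun a2 => forceL (ct11F a2) (fun a3 => forceL (ct8F a3) (fun a4 => forceL (ct11F a4) (fun a5 => forceL (ct8F a5) (fun a6 => a6))))))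
set_option maxRecDepth 1000000 in
def W_72 (v : ℕ) : ℕ := forceL (ct9F v) (fun a1 => forceL (ct9F a1) (fun a2 => a2))
set_option maxRecDepth 1000000 in
def W_73 (v : ℕ) : ℕ := forceL (ct10F v) (fun a1 => forceL (ct9F a1) (fun a2 => forceL (ct10F a2) (fun a3 => forceL (ct9F a3) (fun a4 => a4))))
set_option maxRecDepth 1000000 in
def W_74 (v : ℕ) : ℕ := forceL (ct11F v) (fun a1 => forceL (ct9F a1) (fun a2 => forceL (ct11F a2) (fun a3 => forceL (ct9F a3) (fun a4 => a4))))
set_option maxRecDepth 1000000 in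
def W_75 (v : ℕ) : ℕ := forceL (ct10F v) (fun a1 => forceL (ct10F a1) (fun a2 => a2))
set_option maxRecDepth 1000000 in
def W_76 (v : ℕ) : ℕ := forceL (ct11F v) (fun a1 => forceL (ct10F a1) (fun a2 => forceL (ct11F a2) (fun a3 => forceL (ct10F a3) (fun a4 => forceL (ct11F a4) (fun a5 => forceL (ct10F a5) (fun a6 => a6))))))
set_option maxRecDepth 1000000 in
def W_77 (v : ℕ) : ℕ := forceL (ct11F v) (fun a1 => forceL (ct11F a1) (fun a2 => a2))
set_option maxRecDepth 1000000 in
def W_78 (v : ℕ) : ℕ := forceL (ct8F v) (fun a1 => forceL (ct0F a1) (fun a2 => forceL (ct1F a2) (fun a3 => forceL (ct2F a3) (fun a4 => forceL (ct3F a4) (fun a5 => forceL (ct6F a5) (fun a6 => forceL (ct4F a6) (fun a7 => forceL (ct8F a7) (fun a8 => forceL (ct0F a8) (fun a9 => forceL (ct1F a9) (fun a10 => forceL (ct2F a10) (fun a11 => forceL (ct3F a11) (fun a12 => forceL (ct6F a12) (fun a13 => forceL (ct4F a13) (fun a14 => forceL (ct8F a14) (fun a15 => forceL (ct0F a15) (fun a16 => forceL (ct1F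 a16) (fun a17 => forceL (ct2F a17) (fun a18 => forceL (ct3F a18) (fun a19 => forceL (ct6F a19) (fun a20 => forceL (ct4F a20) (fun a21 => forceL (ct8F a21) (fun a22 => forceL (ct0F a22) (fun a23 => forceL (ct1F a23) (fun a24 => forceL (ct2F a24) (fun a25 => forceL (ct3F a25) (fun a26 => forceL (ct6F a26) (fun a27 => forceL (ct4F a27) (fun a28 => forceL (ct8F a28) (fun a29 => forceL (ct0F a29) (fun a30 => forceL (ct1F a30) (fun a31 => forceL (ct2F a31) (fun a32 => forceL (ct3F a32) (fun a33 => forceL (ct6F a33) (fun a34 => forceL (ct4F a34) (fun a35 => forceL (ct8F a35) (fun a36 => forceL (ct0F a36) (fun a37 => forceL (ct1F a37) (fun a38 => forceL (ct2F a38) (fun a39 => forceL (ct3F a39) (fun a40 => forceL (ct6F a40) (fun a41 => forceL (ct4F a41) (fun a42 => forceL (ct8F a42) (fun a43 => forceL (ct0F a43) (fun a44 => forceL (ct1F a44) (fun a45 => forceL (ct2F a45) (fun a46 => forceL (ct3F a46) (fun a47 => forceL (ct6F a47) (fun a48 => forceL (ct4F a48) (fun a49 =>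 forceL (ct8F a49) (fun a50 => forceL (ct0F a50) (fun a51 => forceL (ct1F a51) (fun a52 => forceL (ct2F a52) (fun a53 => forceL (ct3F a53) (fun a54 => forceL (ct6F a54) (fun a55 => forceL (ct4F a55) (fun a56 => forceL (ct8F a56) (fun a57 => forceL (ct0F a57) (fun a58 => forceL (ct1F a58) (fun a59 => forceL (ct2F a59) (fun a60 => forceL (ct3F a60) (fun a61 => forceL (ct6F a61) (fun a62 => forceL (ct4F a62) (fun a63 => forceL (ct10F a63) (fun a64 => a64))))))))))))))))))))))))))))))))))))))))))))))))))))))))))))))))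
set_option maxRecDepth 1000000 in
def W_79 (v : ℕ) : ℕ := forceL (ct5F v) (fun a1 => forceL (ct4F a1) (fun a2 => forceL (ct2F a2) (fun a3 => forceL (ct9F a3) (fun a4 => forceL (ct7F a4) (fun a5 => forceL (ct6F a5) (fun a6 => forceL (ct3F a6) (fun a7 => forceL (ct2F a7) (fun a8 => forceL (ct10F a8) (fun a9 => forceL (ct11F a9) (fun a10 => forceL (ct8F a10) (fun a11 => forceL (ct0F a11) (fun a12 => forceL (ct1F a12) (fun a13 => forceL (ct2F a13) (fun a14 => forceL (ct5F a14) (fun a15 => forceL (ct4F a15) (fun a16 => forceL (ct2F a16) (fun a17 => forceL (ct9F a17) (fun a18 => forceL (ct7F a18) (fun a19 => forceL (ct6F a19) (fun a20 => forceL (ct3F a20) (fun a21 => forceL (ct2F a21) (fun a22 => forceL (ct10F a22) (fun a23 => forceL (ct11F a23) (fun a24 => forceL (ct8F a24) (fun a25 => forceL (ct0F a25) (fun a26 => forceL (ct1F a26) (fun a27 => forceL (ct2F a27) (fun a28 => forceL (ct5F a28) (fun a29 => forceL (ct4F a29) (fun a30 => forceL (ct2F a30) (fun a31 => forceL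 (ct9F a31) (fun a32 => forceL (ct7F a32) (fun a33 => forceL (ct6F a33) (fun a34 => forceL (ct3F a34) (fun a35 => forceL (ct2F a35) (fun a36 => forceL (ct10F a36) (fun a37 => forceL (ct11F a37) (fun a38 => forceL (ct8F a38) (fun a39 => forceL (ct0F a39) (fun a40 => forceL (ct1F a40) (fun a41 => forceL (ct2F a41) (fun a42 => forceL (ct5F a42) (fun a43 => forceL (ct4F a43) (fun a44 => forceL (ct2F a44) (fun a45 => forceL (ct9F a45) (fun a46 => forceL (ct7F a46) (fun a47 => forceL (ct6F a47) (fun a48 => forceL (ct3F a48) (fun a49 => forceL (ct2F a49) (fun a50 => forceL (ct10F a50) (fun a51 => forceL (ct11F a51) (fun a52 => forceL (ct8F a52) (fun a53 => forceL (ct0F a53) (fun a54 => forceL (ct1F a54) (fun a55 => forceL (ct2F a55) (fun a56 => forceL (ct5F a56) (fun a57 => forceL (ct4F a57) (fun a58 => forceL (ct2F a58) (fun a59 => forceL (ct9F a59) (fun a60 => forceL (ct7F a60) (fun a61 => forceL (ct6F a61) (fun a62 => forceL (ct3F a62) (fun a63 => forceL (ct2F a63) (fun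 a64 => forceL (ct10F a64) (fun a65 => forceL (ct11F a65) (fun a66 => forceL (ct8F a66) (fun a67 => forceL (ct0F a67) (fun a68 => forceL (ct1F a68) (fun a69 => forceL (ct2F a69) (fun a70 => forceL (ct5F a70) (fun a71 => forceL (ct4F a71) (fun a72 => forceL (ct2F a72) (fun a73 => forceL (ct9F a73) (fun a74 => forceL (ct7F a74) (fun a75 => forceL (ct6F a75) (fun a76 => forceL (ct3F a76) (fun a77 => forceL (ct2F a77) (fun a78 => forceL (ct10F a78) (fun a79 => forceL (ct11F a79) (fun a80 => forceL (ct8F a80) (fun a81 => forceL (ct0F a81) (fun a82 => forceL (ct1F a82) (fun a83 => forceL (ct2F a83) (fun a84 => forceL (ct5F a84) (fun a85 => forceL (ct4F a85) (fun a86 => forceL (ct2F a86) (fun a87 => forceL (ct9F a87) (fun a88 => forceL (ct7F a88) (fun a89 => forceL (ct6F a89) (fun a90 => forceL (ct3F a90) (fun a91 => forceL (ct2F a91) (fun a92 => forceL (ct10F a92) (fun a93 => forceL (ct11F a93) (fun a94 => forceL (ct8F a94) (fun a95 => forceL (ct0F a95) (fun a96 => forceL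 (ct1F a96) (fun a97 => forceL (ct2F a97) (fun a98 => forceL (ct5F a98) (fun a99 => forceL (ct4F a99) (fun a100 => forceL (ct2F a100) (fun a101 => forceL (ct9F a101) (fun a102 => forceL (ct7F a102) (fun a103 => forceL (ct6F a103) (fun a104 => forceL (ct3F a104) (fun a105 => forceL (ct2F a105) (fun a106 => forceL (ct10F a106) (fun a107 => forceL (ct11F a107) (fun a108 => forceL (ct8F a108) (fun a109 => forceL (ct0F a109) (fun a110 => forceL (ct1F a110) (fun a111 => forceL (ct2F a111) (fun a112 => forceL (ct5F a112) (fun a113 => forceL (ct4F a113) (fun a114 => forceL (ct2F a114) (fun a115 => forceL (ct9F a115) (fun a116 => forceL (ct7F a116) (fun a117 => forceL (ct6F a117) (fun a118 => forceL (ct3F a118) (fun a119 => forceL (ct2F a119) (fun a120 => forceL (ct10F a120) (fun a121 => forceL (ct11F a121) (fun a122 => forceL (ct8F a122) (fun a123 => forceL (ct0F a123) (fun a124 => forceL (ct1F a124) (fun a125 => forceL (ct2F a125) (fun a126 => forceL (ct5F a126) (fun a127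 => forceL (ct4F a127) (fun a128 => forceL (ct2F a128) (fun a129 => forceL (ct9F a129) (fun a130 => forceL (ct7F a130) (fun a131 => forceL (ct6F a131) (fun a132 => forceL (ct3F a132) (fun a133 => forceL (ct2F a133) (fun a134 => forceL (ct10F a134) (fun a135 => forceL (ct11F a135) (fun a136 => forceL (ct8F a136) (fun a137 => forceL (ct0F a137) (fun a138 => forceL (ct1F a138) (fun a139 => forceL (ct2F a139) (fun a140 => forceL (ct5F a140) (fun a141 => forceL (ct4F a141) (fun a142 => forceL (ct2F a142) (fun a143 => forceL (ct9F a143) (fun a144 => forceL (ct7F a144) (fun a145 => forceL (ct6F a145) (fun a146 => forceL (ct3F a146) (fun a147 => forceL (ct2F a147) (fun a148 => forceL (ct10F a148) (fun a149 => forceL (ct11F a149) (fun a150 => forceL (ct8F a150) (fun a151 => forceL (ct0F a151) (fun a152 => forceL (ct1F a152) (fun a153 => forceL (ct2F a153) (fun a154 => forceL (ct5F a154) (fun a155 => forceL (ct4F a155) (fun a156 => forceL (ct2F a156) (fun a157 => forceL (ct9F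 a157) (fun a158 => forceL (ct7F a158) (fun a159 => forceL (ct6F a159) (fun a160 => forceL (ct3F a160) (fun a161 => forceL (ct2F a161) (fun a162 => forceL (ct10F a162) (fun a163 => forceL (ct11F a163) (fun a164 => forceL (ct8F a164) (fun a165 => forceL (ct0F a165) (fun a166 => forceL (ct1F a166) (fun a167 => forceL (ct2F a167) (fun a168 => forceL (ct5F a168) (fun a169 => forceL (ct4F a169) (fun a170 => forceL (ct2F a170) (fun a171 => forceL (ct9F a171) (fun a172 => forceL (ct7F a172) (fun a173 => forceL (ct6F a173) (fun a174 => forceL (ct3F a174) (fun a175 => forceL (ct2F a175) (fun a176 => forceL (ct10F a176) (fun a177 => forceL (ct11F a177) (fun a178 => forceL (ct8F a178) (fun a179 => forceL (ct0F a179) (fun a180 => forceL (ct1F a180) (fun a181 => forceL (ct2F a181) (fun a182 => forceL (ct5F a182) (fun a183 => forceL (ct4F a183) (fun a184 => forceL (ct2F a184) (fun a185 => forceL (ct9F a185) (fun a186 => forceL (ct7F a186) (fun a187 => forceL (ct6F a187) (fun a188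 => forceL (ct3F a188) (fun a189 => forceL (ct2F a189) (fun a190 => forceL (ct10F a190) (fun a191 => forceL (ct11F a191) (fun a192 => forceL (ct8F a192) (fun a193 => forceL (ct0F a193) (fun a194 => forceL (ct1F a194) (fun a195 => forceL (ct2F a195) (fun a196 => forceL (ct5F a196) (fun a197 => forceL (ct4F a197) (fun a198 => forceL (ct2F a198) (fun a199 => forceL (ct9F a199) (fun a200 => forceL (ct7F a200) (fun a201 => forceL (ct6F a201) (fun a202 => forceL (ct3F a202) (fun a203 => forceL (ct2F a203) (fun a204 => forceL (ct10F a204) (fun a205 => forceL (ct11F a205) (fun a206 => forceL (ct8F a206) (fun a207 => forceL (ct0F a207) (fun a208 => forceL (ct1F a208) (fun a209 => forceL (ct2F a209) (fun a210 => forceL (ct5F a210) (fun a211 => forceL (ct4F a211) (fun a212 => forceL (ct2F a212) (fun a213 => forceL (ct9F a213) (fun a214 => forceL (ct7F a214) (fun a215 => forceL (ct6F a215) (fun a216 => forceL (ct3F a216) (fun a217 => forceL (ct2F a217) (fun a218 => forceL (ct10F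 a218) (fun a219 => forceL (ct11F a219) (fun a220 => forceL (ct8F a220) (fun a221 => forceL (ct0F a221) (fun a222 => forceL (ct1F a222) (fun a223 => forceL (ct2F a223) (fun a224 => forceL (ct5F a224) (fun a225 => forceL (ct4F a225) (fun a226 => forceL (ct2F a226) (fun a227 => forceL (ct9F a227) (fun a228 => forceL (ct7F a228) (fun a229 => forceL (ct6F a229) (fun a230 => forceL (ct3F a230) (fun a231 => forceL (ct2F a231) (fun a232 => forceL (ct10F a232) (fun a233 => forceL (ct11F a233) (fun a234 => forceL (ct8F a234) (fun a235 => forceL (ct0F a235) (fun a236 => forceL (ct1F a236) (fun a237 => forceL (ct2F a237) (fun a238 => a238))))))))))))))))))))))))))))))))))))))))))))))))))))))))))))))))))))))))))))))))))))))))))))))))))))))))))))))))))))))))))))))))))))))))))))))))))))))))))))))))))))))))))))))))))))))))))))))))))))))))))))))))))))))))))))))))))))))))))))))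
set_option maxRecDepth 1000000 in
def W_80 (v : ℕ) : ℕ := forceL (ct5F v) (fun a1 => forceL (ct4F a1) (fun a2 => forceL (ct2F a2) (fun a3 => forceL (ct6F a3) (fun a4 => forceL (ct3F a4) (fun a5 => forceL (ct2F a5) (fun a6 => forceL (ct0F a6) (fun a7 => forceL (ct1F a7) (fun a8 => forceL (ct2F a8) (fun a9 => forceL (ct5F a9) (fun a10 => forceL (ct4F a10) (fun a11 => forceL (ct2F a11) (fun a12 => forceL (ct6F a12) (fun a13 => forceL (ct3F a13) (fun a14 => forceL (ct2F a14) (fun a15 => forceL (ct0F a15) (fun a16 => forceL (ct1F a16) (fun a17 => forceL (ct2F a17) (fun a18 => forceL (ct5F a18) (fun a19 => forceL (ct4F a19) (fun a20 => forceL (ct2F a20) (fun a21 => forceL (ct6F a21) (fun a22 => forceL (ct3F a22) (fun a23 => forceL (ct2F a23) (fun a24 => forceL (ct0F a24) (fun a25 => forceL (ct1F a25) (fun a26 => forceL (ct2F a26) (fun a27 => forceL (ct5F a27) (fun a28 => forceL (ct4F a28) (fun a29 => forceL (ct2F a29) (fun a30 => forceL (ct6F a30) (fun a31 => forceL (ct3F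 a31) (fun a32 => forceL (ct2F a32) (fun a33 => forceL (ct0F a33) (fun a34 => forceL (ct1F a34) (fun a35 => forceL (ct2F a35) (fun a36 => forceL (ct5F a36) (fun a37 => forceL (ct4F a37) (fun a38 => forceL (ct2F a38) (fun a39 => forceL (ct6F a39) (fun a40 => forceL (ct3F a40) (fun a41 => forceL (ct2F a41) (fun a42 => forceL (ct0F a42) (fun a43 => forceL (ct1F a43) (fun a44 => forceL (ct2F a44) (fun a45 => forceL (ct5F a45) (fun a46 => forceL (ct4F a46) (fun a47 => forceL (ct2F a47) (fun a48 => forceL (ct6F a48) (fun a49 => forceL (ct3F a49) (fun a50 => forceL (ct2F a50) (fun a51 => forceL (ct0F a51) (fun a52 => forceL (ct1F a52) (fun a53 => forceL (ct2F a53) (fun a54 => forceL (ct5F a54) (fun a55 => forceL (ct4F a55) (fun a56 => forceL (ct2F a56) (fun a57 => forceL (ct6F a57) (fun a58 => forceL (ct3F a58) (fun a59 => forceL (ct2F a59) (fun a60 => forceL (ct0F a60) (fun a61 => forceL (ct1F a61) (fun a62 => forceL (ct2F a62) (fun a63 => forceL (ct5F a63) (fun a64 =>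 forceL (ct4F a64) (fun a65 => forceL (ct2F a65) (fun a66 => forceL (ct6F a66) (fun a67 => forceL (ct3F a67) (fun a68 => forceL (ct2F a68) (fun a69 => forceL (ct0F a69) (fun a70 => forceL (ct1F a70) (fun a71 => forceL (ct2F a71) (fun a72 => forceL (ct5F a72) (fun a73 => forceL (ct4F a73) (fun a74 => forceL (ct2F a74) (fun a75 => forceL (ct6F a75) (fun a76 => forceL (ct3F a76) (fun a77 => forceL (ct2F a77) (fun a78 => forceL (ct0F a78) (fun a79 => forceL (ct1F a79) (fun a80 => forceL (ct2F a80) (fun a81 => forceL (ct5F a81) (fun a82 => forceL (ct4F a82) (fun a83 => forceL (ct2F a83) (fun a84 => forceL (ct6F a84) (fun a85 => forceL (ct3F a85) (fun a86 => forceL (ct2F a86) (fun a87 => forceL (ct0F a87) (fun a88 => forceL (ct1F a88) (fun a89 => forceL (ct2F a89) (fun a90 => a90))))))))))))))))))))))))))))))))))))))))))))))))))))))))))))))))))))))))))))))))))))))))))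

end Cfsg.Agent.Helper5.FiZATC
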