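import Cfsg.Agent.Helper5.FiZATCDatD
import Cfsg.Agent.Helper5.TCIB

/-! kernel checks of edges, aliases, rows: FiZATC -/

set_option autoImplicit false
set_option Elab.async false

namespace Cfsg.Agent.Helper5.FiZATC
open Cfsg.Agent.Helper5.TC Cfsg.Agent.Helper5.TCI

set_option maxRecDepth 1000000 in
theorem cnt_1 : cntFrom RS 20000 20000 0 = 19986 := by decide +kernel

set_option maxRecDepth 1000000 in
theorem edges_0_56 : edgesRangeI iota E 0 1892 101541 = true := by decide +kernel

set_option maxRecDepth 1000000 in
theorem edges_2_76 : edgesRangeI iota E 2 1898 142128 = true := by decide +kernel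

set_option maxRecDepth 1000000 in
theorem edges_4_157 : edgesRangeI iota E 4 1621 293246 = true := by decide +kernel

set_option maxRecDepth 1000000 in
theorem edges_7_55 : edgesRangeI iota E 7 1665 106514 = true := by decide +kernel

set_option maxRecDepth 1000000 in
theorem edges_9_124 : edgesRangeI iota E 9 1699 230559 = true := by decide +kernel

set_option maxRecDepth 1000000 in
theorem edges_1_18 : edgesRangeI iota E 1 1865 32204 = true := by decide +kernel

set_option maxRecDepth 1000000 in
theorem edges_3_22 : edgesRangeI iota E 3 1947 40940 = true := by decide +kernel

set_option maxRecDepth 1000000 in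
theorem edges_5_150 : edgesRangeI iota E 5 1771 279893 = true := by decide +kernel

set_option maxRecDepth 1000000 in
theorem edges_8_5 : edgesRangeI iota E 8 1972 10134 = true := by decide +kernel

set_option maxRecDepth 1000000 in
theorem edges_11_31 : edgesRangeI iota E 11 2846 82776 = true := by decide +kernel

set_option maxRecDepth 1000000 in
theorem edges_3_12 : edgesRangeI iota E 3 1884 21982 = true := by decide +kernel

set_option maxRecDepth 1000000 in
theorem edges_5_3 : edgesRangeI iota E 5 1721 5383 = true := by decide +kernel

set_option maxRecDepth 1000000 in
theorem edges_7_139 : edgesRangeI iota E 7 1643 257939 = true := by decide +kernel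

set_option maxRecDepth 1000000 in
theorem edges_10_117 : edgesRangeI iota E 10 1894 278287 = true := by decide +kernel

set_option maxRecDepth 1000000 in
theorem edges_0_165 : edgesRangeI iota E 0 1702 295118 = true := by decide +kernel

set_option maxRecDepth 1000000 in
theorem edges_2_51 : edgesRangeI iota E 2 1855 94599 = true := by decide +kernel

set_option maxRecDepth 1000000 in
theorem edges_3_106 : edgesRangeI iota E 3 1753 199987 = true := by decide +kernel

set_option maxRecDepth 1000000 in
theorem edges_5_62 : edgesRangeI iota E 5 1775 112763 = true := by decide +kernel

set_option maxRecDepth 1000000 in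
theorem edges_6_132 : edgesRangeI iota E 6 1548 247464 = true := by decide +kernel

set_option maxRecDepth 1000000 in
theorem edges_8_75 : edgesRangeI iota E 8 1998 145796 = true := by decide +kernel

set_option maxRecDepth 1000000 in
theorem edges_9_162 : edgesRangeI iota E 9 1455 296515 = true := by decide +kernel

set_option maxRecDepth 1000000 in
theorem edges_0_17 : edgesRangeI iota E 0 1869 30555 = true := by decide +kernel

set_option maxRecDepth 1000000 in
theorem edges_1_19 : edgesRangeI iota E 1 1789 34069 = true := by decide +kernel

set_option maxRecDepth 1000000 in
theorem edges_2_53 : edgesRangeI iota E 2 1939 98406 = true := by decide +kernel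

set_option maxRecDepth 1000000 in
theorem edges_3_147 : edgesRangeI iota E 3 1666 272005 = true := by decide +kernel

set_option maxRecDepth 1000000 in
theorem edges_5_1 : edgesRangeI iota E 5 1829 1756 = true := by decide +kernel

set_option maxRecDepth 1000000 in
theorem edges_6_32 : edgesRangeI iota E 6 1850 61505 = true := by decide +kernel

set_option maxRecDepth 1000000 in
theorem edges_7_117 : edgesRangeI iota E 7 2008 219121 = true := by decide +kernel

set_option maxRecDepth 1000000 in
theorem edges_9_66 : edgesRangeI iota E 9 1789 126516 = true := by decide +kernel

set_option maxRecDepth 1000000 in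
theorem edges_10_100 : edgesRangeI iota E 10 2602 241064 = true := by decide +kernel

set_option maxRecDepth 1000000 in
theorem edges_0_66 : edgesRangeI iota E 0 1922 119537 = true := by decide +kernel

set_option maxRecDepth 1000000 in
theorem edges_1_141 : edgesRangeI iota E 1 1673 256421 = true := by decide +kernel

set_option maxRecDepth 1000000 in
theorem edges_3_36 : edgesRangeI iota E 3 1907 67540 = true := by decide +kernel

set_option maxRecDepth 1000000 in
theorem edges_4_92 : edgesRangeI iota E 4 1921 175769 = true := by decide +kernel

set_option maxRecDepth 1000000 in
theorem edges_5_156 : edgesRangeI iota E 5 1653 290385 = true := by decide +kernel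

set_option maxRecDepth 1000000 in
theorem edges_7_3 : edgesRangeI iota E 7 1904 5924 = true := by decide +kernel

set_option maxRecDepth 1000000 in
theorem edges_8_44 : edgesRangeI iota E 8 1923 85027 = true := by decide +kernel

set_option maxRecDepth 1000000 in
theorem edges_9_112 : edgesRangeI iota E 9 1678 208738 = true := by decide +kernel

set_option maxRecDepth 1000000 in
theorem edges_10_109 : edgesRangeI iota E 10 2489 260842 = true := by decide +kernel

set_option maxRecDepth 1000000 in
theorem aliases_10 : aliasRange E 8000 77482 = true := by decide +kernel

set_option maxRecDepth 1000000 in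
theorem rows_17 : rowsRange E RS 1500 25500 = true := by decide +kernel

set_option maxRecDepth 1000000 in
theorem rows_49 : rowsRange E RS 1500 73500 = true := by decide +kernel

set_option maxRecDepth 1000000 in
theorem rows_97 : rowsRange E RS 1500 145500 = true := by decide +kernel

set_option maxRecDepth 1000000 in
theorem rows_145 : rowsRange E RS 1500 217500 = true := by decide +kernel

set_option maxRecDepth 1000000 in
theorem rows_193 : rowsRange E RS 1500 289500 = true := by decide +kernel

end Cfsg.Agent.Helper5.FiZATC
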