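import Cfsg.Agent.Helper5.FiZATCDatD
import Cfsg.Agent.Helper5.TCIB

/-! kernel checks of edges, aliases, rows: FiZATC -/

set_option autoImplicit false
set_option Elab.async false

namespace Cfsg.Agent.Helper5.FiZATC
open Cfsg.Agent.Helper5.TC Cfsg.Agent.Helper5.TCI

set_option maxRecDepth 1000000 in
theorem cnt_10 : cntFrom RS 20000 200000 0 = 20000 := by decide +kernel

set_option maxRecDepth 1000000 in
theorem edges_0_99 : edgesRangeI iota E 0 1771 179189 = true := by decide +kernel

set_option maxRecDepth 1000000 in
theorem edges_2_133 : edgesRangeI iota E 2 1715 248437 = true := by decide +kernel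

set_option maxRecDepth 1000000 in
theorem edges_5_66 : edgesRangeI iota E 5 2000 120215 = true := by decide +kernel

set_option maxRecDepth 1000000 in
theorem edges_7_134 : edgesRangeI iota E 7 1687 249171 = true := by decide +kernel

set_option maxRecDepth 1000000 in
theorem edges_10_5 : edgesRangeI iota E 10 2472 12889 = true := by decide +kernel

set_option maxRecDepth 1000000 in
theorem edges_1_85 : edgesRangeI iota E 1 1805 155990 = true := by decide +kernel

set_option maxRecDepth 1000000 in
theorem edges_3_103 : edgesRangeI iota E 3 2015 194400 = true := by decide +kernel

set_option maxRecDepth 1000000 in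
theorem edges_6_46 : edgesRangeI iota E 6 1873 88631 = true := by decide +kernel

set_option maxRecDepth 1000000 in
theorem edges_8_74 : edgesRangeI iota E 8 2165 143631 = true := by decide +kernel

set_option maxRecDepth 1000000 in
theorem edges_0_44 : edgesRangeI iota E 0 1937 79612 = true := by decide +kernel

set_option maxRecDepth 1000000 in
theorem edges_2_119 : edgesRangeI iota E 2 1735 223337 = true := by decide +kernel

set_option maxRecDepth 1000000 in
theorem edges_4_130 : edgesRangeI iota E 4 1749 247924 = true := by decide +kernel

set_option maxRecDepth 1000000 in
theorem edges_7_92 : edgesRangeI iota E 7 1700 173638 = true := by decide +kernel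

set_option maxRecDepth 1000000 in
theorem edges_10_27 : edgesRangeI iota E 10 2056 67944 = true := by decide +kernel

set_option maxRecDepth 1000000 in
theorem edges_0_133 : edgesRangeI iota E 0 1811 240678 = true := by decide +kernel

set_option maxRecDepth 1000000 in
theorem edges_2_18 : edgesRangeI iota E 2 1901 32387 = true := by decide +kernel

set_option maxRecDepth 1000000 in
theorem edges_3_74 : edgesRangeI iota E 3 1970 139675 = true := by decide +kernel

set_option maxRecDepth 1000000 in
theorem edges_5_19 : edgesRangeI iota E 5 1738 34422 = true := by decide +kernel

set_option maxRecDepth 1000000 in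
theorem edges_6_112 : edgesRangeI iota E 6 1913 210602 = true := by decide +kernel

set_option maxRecDepth 1000000 in
theorem edges_8_45 : edgesRangeI iota E 8 1893 86950 = true := by decide +kernel

set_option maxRecDepth 1000000 in
theorem edges_9_130 : edgesRangeI iota E 9 2400 241506 = true := by decide +kernel

set_option maxRecDepth 1000000 in
theorem edges_11_101 : edgesRangeI iota E 11 2511 265277 = true := by decide +kernel

set_option maxRecDepth 1000000 in
theorem edges_1_78 : edgesRangeI iota E 1 1868 143233 = true := by decide +kernel

set_option maxRecDepth 1000000 in
theorem edges_2_88 : edgesRangeI iota E 2 1987 164864 = true := by decide +kernel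

set_option maxRecDepth 1000000 in
theorem edges_4_14 : edgesRangeI iota E 4 1760 25199 = true := by decide +kernel

set_option maxRecDepth 1000000 in
theorem edges_5_36 : edgesRangeI iota E 5 1882 65295 = true := by decide +kernel

set_option maxRecDepth 1000000 in
theorem edges_6_71 : edgesRangeI iota E 6 1675 135461 = true := by decide +kernel

set_option maxRecDepth 1000000 in
theorem edges_7_148 : edgesRangeI iota E 7 1677 273512 = true := by decide +kernel

set_option maxRecDepth 1000000 in
theorem edges_9_101 : edgesRangeI iota E 9 2427 189411 = true := by decide +kernel

set_option maxRecDepth 1000000 in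
theorem edges_10_131 : edgesRangeI iota E 10 1592 305090 = true := by decide +kernel

set_option maxRecDepth 1000000 in
theorem edges_0_110 : edgesRangeI iota E 0 1738 199317 = true := by decide +kernel

set_option maxRecDepth 1000000 in
theorem edges_2_10 : edgesRangeI iota E 2 1801 17884 = true := by decide +kernel

set_option maxRecDepth 1000000 in
theorem edges_3_71 : edgesRangeI iota E 3 1836 133894 = true := by decide +kernel

set_option maxRecDepth 1000000 in
theorem edges_4_127 : edgesRangeI iota E 4 1920 242343 = true := by decide +kernel

set_option maxRecDepth 1000000 in
theorem edges_6_19 : edgesRangeI iota E 6 1819 36279 = true := by decide +kernel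

set_option maxRecDepth 1000000 in
theorem edges_7_37 : edgesRangeI iota E 7 1848 72721 = true := by decide +kernel

set_option maxRecDepth 1000000 in
theorem edges_8_84 : edgesRangeI iota E 8 2280 163538 = true := by decide +kernel

set_option maxRecDepth 1000000 in
theorem edges_9_136 : edgesRangeI iota E 9 1560 251806 = true := by decide +kernel

set_option maxRecDepth 1000000 in
theorem edges_11_15 : edgesRangeI iota E 11 2840 39368 = true := by decide +kernel

set_option maxRecDepth 1000000 in
theorem aliases_19 : aliasRange E 8000 149434 = true := by decide +kernel

set_option maxRecDepth 1000000 in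
theorem rows_26 : rowsRange E RS 1500 39000 = true := by decide +kernel

set_option maxRecDepth 1000000 in
theorem rows_58 : rowsRange E RS 1500 87000 = true := by decide +kernel

set_option maxRecDepth 1000000 in
theorem rows_106 : rowsRange E RS 1500 159000 = true := by decide +kernel

set_option maxRecDepth 1000000 in
theorem rows_154 : rowsRange E RS 1500 231000 = true := by decide +kernel

set_option maxRecDepth 1000000 in
theorem rows_202 : rowsRange E RS 1500 303000 = true := by decide +kernel

end Cfsg.Agent.Helper5.FiZATC
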