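import Cfsg.Agent.Helper5.FiZATCDatD
import Cfsg.Agent.Helper5.TCIB

/-! kernel checks of edges, aliases, rows: FiZATC -/

set_option autoImplicit false
set_option Elab.async false

namespace Cfsg.Agent.Helper5.FiZATC
open Cfsg.Agent.Helper5.TC Cfsg.Agent.Helper5.TCI

set_option maxRecDepth 1000000 in
theorem cnt_11 : cntFrom RS 20000 220000 0 = 20000 := by decide +kernel

set_option maxRecDepth 1000000 in
theorem edges_0_103 : edgesRangeI iota E 0 2050 186444 = true := by decide +kernel

set_option maxRecDepth 1000000 in
theorem edges_2_140 : edgesRangeI iota E 2 1665 260345 = true := by decide +kernel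

set_option maxRecDepth 1000000 in
theorem edges_5_79 : edgesRangeI iota E 5 1882 144705 = true := by decide +kernel

set_option maxRecDepth 1000000 in
theorem edges_7_136 : edgesRangeI iota E 7 1656 252583 = true := by decide +kernel

set_option maxRecDepth 1000000 in
theorem edges_10_15 : edgesRangeI iota E 10 2166 38342 = true := by decide +kernel

set_option maxRecDepth 1000000 in
theorem edges_1_94 : edgesRangeI iota E 1 1739 172725 = true := by decide +kernel

set_option maxRecDepth 1000000 in
theorem edges_3_108 : edgesRangeI iota E 3 1717 203502 = true := by decide +kernel

set_option maxRecDepth 1000000 in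
theorem edges_6_49 : edgesRangeI iota E 6 1702 94284 = true := by decide +kernel

set_option maxRecDepth 1000000 in
theorem edges_8_95 : edgesRangeI iota E 8 2106 185965 = true := by decide +kernel

set_option maxRecDepth 1000000 in
theorem edges_0_68 : edgesRangeI iota E 0 1792 123287 = true := by decide +kernel

set_option maxRecDepth 1000000 in
theorem edges_2_127 : edgesRangeI iota E 2 1764 237649 = true := by decide +kernel

set_option maxRecDepth 1000000 in
theorem edges_4_133 : edgesRangeI iota E 4 1687 253082 = true := by decide +kernel

set_option maxRecDepth 1000000 in
theorem edges_7_96 : edgesRangeI iota E 7 1541 180881 = true := by decide +kernel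

set_option maxRecDepth 1000000 in
theorem edges_10_30 : edgesRangeI iota E 10 2749 75005 = true := by decide +kernel

set_option maxRecDepth 1000000 in
theorem edges_0_137 : edgesRangeI iota E 0 1632 247896 = true := by decide +kernel

set_option maxRecDepth 1000000 in
theorem edges_2_40 : edgesRangeI iota E 2 1783 73983 = true := by decide +kernel

set_option maxRecDepth 1000000 in
theorem edges_3_87 : edgesRangeI iota E 3 1891 164479 = true := by decide +kernel

set_option maxRecDepth 1000000 in
theorem edges_5_20 : edgesRangeI iota E 5 1890 36160 = true := by decide +kernel

set_option maxRecDepth 1000000 in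
theorem edges_6_116 : edgesRangeI iota E 6 1936 218317 = true := by decide +kernel

set_option maxRecDepth 1000000 in
theorem edges_8_50 : edgesRangeI iota E 8 1979 96178 = true := by decide +kernel

set_option maxRecDepth 1000000 in
theorem edges_9_131 : edgesRangeI iota E 9 1670 243906 = true := by decide +kernel

set_option maxRecDepth 1000000 in
theorem edges_11_107 : edgesRangeI iota E 11 2059 277787 = true := by decide +kernel

set_option maxRecDepth 1000000 in
theorem edges_1_80 : edgesRangeI iota E 1 1854 146950 = true := by decide +kernel

set_option maxRecDepth 1000000 in
theorem edges_2_98 : edgesRangeI iota E 2 1989 183500 = true := by decide +kernel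

set_option maxRecDepth 1000000 in
theorem edges_4_17 : edgesRangeI iota E 4 1812 30629 = true := by decide +kernel

set_option maxRecDepth 1000000 in
theorem edges_5_37 : edgesRangeI iota E 5 1780 67177 = true := by decide +kernel

set_option maxRecDepth 1000000 in
theorem edges_6_77 : edgesRangeI iota E 6 2013 146649 = true := by decide +kernel

set_option maxRecDepth 1000000 in
theorem edges_7_156 : edgesRangeI iota E 7 1592 287353 = true := by decide +kernel

set_option maxRecDepth 1000000 in
theorem edges_9_104 : edgesRangeI iota E 9 1652 195591 = true := by decide +kernel

set_option maxRecDepth 1000000 in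
theorem edges_11_3 : edgesRangeI iota E 11 2563 7641 = true := by decide +kernel

set_option maxRecDepth 1000000 in
theorem edges_0_111 : edgesRangeI iota E 0 1735 201055 = true := by decide +kernel

set_option maxRecDepth 1000000 in
theorem edges_2_19 : edgesRangeI iota E 2 1844 34288 = true := by decide +kernel

set_option maxRecDepth 1000000 in
theorem edges_3_73 : edgesRangeI iota E 3 2040 137635 = true := by decide +kernel

set_option maxRecDepth 1000000 in
theorem edges_4_131 : edgesRangeI iota E 4 1727 249673 = true := by decide +kernel

set_option maxRecDepth 1000000 in
theorem edges_6_20 : edgesRangeI iota E 6 1927 38098 = true := by decide +kernel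

set_option maxRecDepth 1000000 in
theorem edges_7_42 : edgesRangeI iota E 7 1735 82135 = true := by decide +kernel

set_option maxRecDepth 1000000 in
theorem edges_8_88 : edgesRangeI iota E 8 1757 172166 = true := by decide +kernel

set_option maxRecDepth 1000000 in
theorem edges_9_142 : edgesRangeI iota E 9 2360 261572 = true := by decide +kernel

set_option maxRecDepth 1000000 in
theorem edges_11_16 : edgesRangeI iota E 11 2732 42208 = true := by decide +kernel

set_option maxRecDepth 1000000 in
theorem aliases_20 : aliasRange E 8000 157434 = true := by decide +kernel

set_option maxRecDepth 1000000 in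
theorem rows_27 : rowsRange E RS 1500 40500 = true := by decide +kernel

set_option maxRecDepth 1000000 in
theorem rows_59 : rowsRange E RS 1500 88500 = true := by decide +kernel

set_option maxRecDepth 1000000 in
theorem rows_107 : rowsRange E RS 1500 160500 = true := by decide +kernel

set_option maxRecDepth 1000000 in
theorem rows_155 : rowsRange E RS 1500 232500 = true := by decide +kernel

set_option maxRecDepth 1000000 in
theorem rows_203 : rowsRange E RS 1500 304500 = true := by decide +kernel

end Cfsg.Agent.Helper5.FiZATC
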