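import Cfsg.Agent.Helper5.FiZATCDatD
import Cfsg.Agent.Helper5.TCIB

/-! kernel checks of edges, aliases, rows: FiZATC -/

set_option autoImplicit false
set_option Elab.async false

namespace Cfsg.Agent.Helper5.FiZATC
open Cfsg.Agent.Helper5.TC Cfsg.Agent.Helper5.TCI

set_option maxRecDepth 1000000 in
theorem cnt_12 : cntFrom RS 20000 240000 0 = 20000 := by decide +kernel

set_option maxRecDepth 1000000 in
theorem edges_0_106 : edgesRangeI iota E 0 1871 192232 = true := by decide +kernel

set_option maxRecDepth 1000000 in
theorem edges_2_144 : edgesRangeI iota E 2 1747 267100 = true := by decide +kernel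

set_option maxRecDepth 1000000 in
theorem edges_5_82 : edgesRangeI iota E 5 1710 150381 = true := by decide +kernel

set_option maxRecDepth 1000000 in
theorem edges_7_144 : edgesRangeI iota E 7 1756 267060 = true := by decide +kernel

set_option maxRecDepth 1000000 in
theorem edges_10_20 : edgesRangeI iota E 10 2462 50618 = true := by decide +kernel

set_option maxRecDepth 1000000 in
theorem edges_1_96 : edgesRangeI iota E 1 1816 176271 = true := by decide +kernel

set_option maxRecDepth 1000000 in
theorem edges_3_109 : edgesRangeI iota E 3 1795 205219 = true := by decide +kernel

set_option maxRecDepth 1000000 in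
theorem edges_6_60 : edgesRangeI iota E 6 1750 114915 = true := by decide +kernel

set_option maxRecDepth 1000000 in
theorem edges_8_101 : edgesRangeI iota E 8 1725 198476 = true := by decide +kernel

set_option maxRecDepth 1000000 in
theorem edges_0_83 : edgesRangeI iota E 0 1699 150368 = true := by decide +kernel

set_option maxRecDepth 1000000 in
theorem edges_2_154 : edgesRangeI iota E 2 1676 283325 = true := by decide +kernel

set_option maxRecDepth 1000000 in
theorem edges_4_149 : edgesRangeI iota E 4 1718 280220 = true := by decide +kernel

set_option maxRecDepth 1000000 in
theorem edges_7_97 : edgesRangeI iota E 7 1751 182422 = true := by decide +kernel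

set_option maxRecDepth 1000000 in
theorem edges_10_43 : edgesRangeI iota E 10 1804 106372 = true := by decide +kernel

set_option maxRecDepth 1000000 in
theorem edges_0_142 : edgesRangeI iota E 0 1720 256425 = true := by decide +kernel

set_option maxRecDepth 1000000 in
theorem edges_2_44 : edgesRangeI iota E 2 1919 81495 = true := by decide +kernel

set_option maxRecDepth 1000000 in
theorem edges_3_89 : edgesRangeI iota E 3 1792 168413 = true := by decide +kernel

set_option maxRecDepth 1000000 in
theorem edges_5_26 : edgesRangeI iota E 5 1846 47189 = true := by decide +kernel

set_option maxRecDepth 1000000 in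
theorem edges_6_117 : edgesRangeI iota E 6 1911 220253 = true := by decide +kernel

set_option maxRecDepth 1000000 in
theorem edges_8_57 : edgesRangeI iota E 8 1888 109874 = true := by decide +kernel

set_option maxRecDepth 1000000 in
theorem edges_9_133 : edgesRangeI iota E 9 1423 247239 = true := by decide +kernel

set_option maxRecDepth 1000000 in
theorem edges_11_110 : edgesRangeI iota E 11 2151 284204 = true := by decide +kernel

set_option maxRecDepth 1000000 in
theorem edges_1_81 : edgesRangeI iota E 1 1787 148804 = true := by decide +kernel

set_option maxRecDepth 1000000 in
theorem edges_2_99 : edgesRangeI iota E 2 2016 185489 = true := by decide +kernel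

set_option maxRecDepth 1000000 in
theorem edges_4_18 : edgesRangeI iota E 4 1789 32441 = true := by decide +kernel

set_option maxRecDepth 1000000 in
theorem edges_5_38 : edgesRangeI iota E 5 1779 68957 = true := by decide +kernel

set_option maxRecDepth 1000000 in
theorem edges_6_78 : edgesRangeI iota E 6 1776 148662 = true := by decide +kernel

set_option maxRecDepth 1000000 in
theorem edges_7_165 : edgesRangeI iota E 7 1484 302404 = true := by decide +kernel

set_option maxRecDepth 1000000 in
theorem edges_9_110 : edgesRangeI iota E 9 1540 205537 = true := by decide +kernel

set_option maxRecDepth 1000000 in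
theorem edges_11_7 : edgesRangeI iota E 11 2744 18008 = true := by decide +kernel

set_option maxRecDepth 1000000 in
theorem edges_0_114 : edgesRangeI iota E 0 1705 206373 = true := by decide +kernel

set_option maxRecDepth 1000000 in
theorem edges_2_22 : edgesRangeI iota E 2 1909 39797 = true := by decide +kernel

set_option maxRecDepth 1000000 in
theorem edges_3_77 : edgesRangeI iota E 3 1824 145659 = true := by decide +kernel

set_option maxRecDepth 1000000 in
theorem edges_4_132 : edgesRangeI iota E 4 1682 251400 = true := by decide +kernel

set_option maxRecDepth 1000000 in
theorem edges_6_22 : edgesRangeI iota E 6 2054 42059 = true := by decide +kernel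

set_option maxRecDepth 1000000 in
theorem edges_7_48 : edgesRangeI iota E 7 1564 93457 = true := by decide +kernel

set_option maxRecDepth 1000000 in
theorem edges_8_91 : edgesRangeI iota E 8 1965 177776 = true := by decide +kernel

set_option maxRecDepth 1000000 in
theorem edges_9_158 : edgesRangeI iota E 9 1759 289563 = true := by decide +kernel

set_option maxRecDepth 1000000 in
theorem edges_11_18 : edgesRangeI iota E 11 2609 47525 = true := by decide +kernel

set_option maxRecDepth 1000000 in
theorem aliases_21 : aliasRange E 8000 165434 = true := by decide +kernel

set_option maxRecDepth 1000000 in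
theorem rows_28 : rowsRange E RS 1500 42000 = true := by decide +kernel

set_option maxRecDepth 1000000 in
theorem rows_60 : rowsRange E RS 1500 90000 = true := by decide +kernel

set_option maxRecDepth 1000000 in
theorem rows_108 : rowsRange E RS 1500 162000 = true := by decide +kernel

set_option maxRecDepth 1000000 in
theorem rows_156 : rowsRange E RS 1500 234000 = true := by decide +kernel

set_option maxRecDepth 1000000 in
theorem rows_204 : rowsRange E RS 1500 306000 = true := by decide +kernel

end Cfsg.Agent.Helper5.FiZATC
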