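import Cfsg.Agent.Helper5.FiZATCDatD
import Cfsg.Agent.Helper5.TCIB

/-! kernel checks of edges, aliases, rows: FiZATC -/

set_option autoImplicit false
set_option Elab.async false

namespace Cfsg.Agent.Helper5.FiZATC
open Cfsg.Agent.Helper5.TC Cfsg.Agent.Helper5.TCI

set_option maxRecDepth 1000000 in
theorem cnt_13 : cntFrom RS 20000 260000 0 = 20000 := by decide +kernel

set_option maxRecDepth 1000000 in
theorem edges_0_112 : edgesRangeI iota E 0 1800 202790 = true := by decide +kernel

set_option maxRecDepth 1000000 in
theorem edges_2_145 : edgesRangeI iota E 2 1609 268847 = true := by decide +kernel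

set_option maxRecDepth 1000000 in
theorem edges_5_89 : edgesRangeI iota E 5 2170 163742 = true := by decide +kernel

set_option maxRecDepth 1000000 in
theorem edges_7_147 : edgesRangeI iota E 7 1683 271829 = true := by decide +kernel

set_option maxRecDepth 1000000 in
theorem edges_10_33 : edgesRangeI iota E 10 2592 82107 = true := by decide +kernel

set_option maxRecDepth 1000000 in
theorem edges_1_102 : edgesRangeI iota E 1 1883 187304 = true := by decide +kernel

set_option maxRecDepth 1000000 in
theorem edges_3_117 : edgesRangeI iota E 3 1962 219937 = true := by decide +kernel

set_option maxRecDepth 1000000 in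
theorem edges_6_63 : edgesRangeI iota E 6 2071 120441 = true := by decide +kernel

set_option maxRecDepth 1000000 in
theorem edges_8_103 : edgesRangeI iota E 8 2041 202178 = true := by decide +kernel

set_option maxRecDepth 1000000 in
theorem edges_0_85 : edgesRangeI iota E 0 1805 153818 = true := by decide +kernel

set_option maxRecDepth 1000000 in
theorem edges_2_158 : edgesRangeI iota E 2 1591 289741 = true := by decide +kernel

set_option maxRecDepth 1000000 in
theorem edges_4_151 : edgesRangeI iota E 4 1826 283666 = true := by decide +kernel

set_option maxRecDepth 1000000 in
theorem edges_7_114 : edgesRangeI iota E 7 1766 213435 = true := by decide +kernel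

set_option maxRecDepth 1000000 in
theorem edges_10_76 : edgesRangeI iota E 10 2517 184258 = true := by decide +kernel

set_option maxRecDepth 1000000 in
theorem edges_0_144 : edgesRangeI iota E 0 1759 259887 = true := by decide +kernel

set_option maxRecDepth 1000000 in
theorem edges_2_45 : edgesRangeI iota E 2 1927 83414 = true := by decide +kernel

set_option maxRecDepth 1000000 in
theorem edges_3_90 : edgesRangeI iota E 3 2008 170205 = true := by decide +kernel

set_option maxRecDepth 1000000 in
theorem edges_5_39 : edgesRangeI iota E 5 1835 70736 = true := by decide +kernel

set_option maxRecDepth 1000000 in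
theorem edges_6_124 : edgesRangeI iota E 6 1752 232515 = true := by decide +kernel

set_option maxRecDepth 1000000 in
theorem edges_8_60 : edgesRangeI iota E 8 2033 115577 = true := by decide +kernel

set_option maxRecDepth 1000000 in
theorem edges_9_147 : edgesRangeI iota E 9 1527 271074 = true := by decide +kernel

set_option maxRecDepth 1000000 in
theorem edges_0_6 : edgesRangeI iota E 0 1808 10809 = true := by decide +kernel

set_option maxRecDepth 1000000 in
theorem edges_1_5 : edgesRangeI iota E 1 1751 8922 = true := by decide +kernel

set_option maxRecDepth 1000000 in
theorem edges_2_35 : edgesRangeI iota E 2 1886 64455 = true := by decide +kernel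

set_option maxRecDepth 1000000 in
theorem edges_3_136 : edgesRangeI iota E 3 1648 253315 = true := by decide +kernel

set_option maxRecDepth 1000000 in
theorem edges_4_164 : edgesRangeI iota E 4 1576 304135 = true := by decide +kernel

set_option maxRecDepth 1000000 in
theorem edges_6_18 : edgesRangeI iota E 6 1958 34321 = true := by decide +kernel

set_option maxRecDepth 1000000 in
theorem edges_7_100 : edgesRangeI iota E 7 1927 188021 = true := by decide +kernel

set_option maxRecDepth 1000000 in
theorem edges_9_51 : edgesRangeI iota E 9 2510 98432 = true := by decide +kernel

set_option maxRecDepth 1000000 in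
theorem edges_10_77 : edgesRangeI iota E 10 2697 186775 = true := by decide +kernel

set_option maxRecDepth 1000000 in
theorem edges_0_53 : edgesRangeI iota E 0 1810 95924 = true := by decide +kernel

set_option maxRecDepth 1000000 in
theorem edges_1_127 : edgesRangeI iota E 1 1722 232239 = true := by decide +kernel

set_option maxRecDepth 1000000 in
theorem edges_3_7 : edgesRangeI iota E 3 1785 12704 = true := by decide +kernel

set_option maxRecDepth 1000000 in
theorem edges_4_81 : edgesRangeI iota E 4 1911 154010 = true := by decide +kernel

set_option maxRecDepth 1000000 in
theorem edges_5_124 : edgesRangeI iota E 5 1795 231830 = true := by decide +kernel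

set_option maxRecDepth 1000000 in
theorem edges_6_166 : edgesRangeI iota E 6 1610 305709 = true := by decide +kernel

set_option maxRecDepth 1000000 in
theorem edges_8_34 : edgesRangeI iota E 8 2015 65665 = true := by decide +kernel

set_option maxRecDepth 1000000 in
theorem edges_9_99 : edgesRangeI iota E 9 1733 185133 = true := by decide +kernel

set_option maxRecDepth 1000000 in
theorem edges_10_87 : edgesRangeI iota E 10 2560 210338 = true := by decide +kernel

set_option maxRecDepth 1000000 in
theorem aliases_7 : aliasRange E 8000 53518 = true := by decide +kernel

set_option maxRecDepth 1000000 in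
theorem rows_14 : rowsRange E RS 1500 21000 = true := by decide +kernel

set_option maxRecDepth 1000000 in
theorem rows_46 : rowsRange E RS 1500 69000 = true := by decide +kernel

set_option maxRecDepth 1000000 in
theorem rows_94 : rowsRange E RS 1500 141000 = true := by decide +kernel

set_option maxRecDepth 1000000 in
theorem rows_142 : rowsRange E RS 1500 213000 = true := by decide +kernel

set_option maxRecDepth 1000000 in
theorem rows_190 : rowsRange E RS 1500 285000 = true := by decide +kernel

end Cfsg.Agent.Helper5.FiZATC
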