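import Cfsg.Agent.Helper5.FiZATCDatD
import Cfsg.Agent.Helper5.TCIB

/-! kernel checks of edges, aliases, rows: FiZATC -/

set_option autoImplicit false
set_option Elab.async false

namespace Cfsg.Agent.Helper5.FiZATC
open Cfsg.Agent.Helper5.TC Cfsg.Agent.Helper5.TCI

set_option maxRecDepth 1000000 in
theorem cnt_14 : cntFrom RS 20000 280000 0 = 20000 := by decide +kernel

set_option maxRecDepth 1000000 in
theorem edges_0_117 : edgesRangeI iota E 0 1978 211782 = true := by decide +kernel

set_option maxRecDepth 1000000 in
theorem edges_2_149 : edgesRangeI iota E 2 1604 275236 = true := by decide +kernel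

set_option maxRecDepth 1000000 in
theorem edges_5_90 : edgesRangeI iota E 5 1930 165912 = true := by decide +kernel

set_option maxRecDepth 1000000 in
theorem edges_7_149 : edgesRangeI iota E 7 1782 275189 = true := by decide +kernel

set_option maxRecDepth 1000000 in
theorem edges_10_49 : edgesRangeI iota E 10 2865 120311 = true := by decide +kernel

set_option maxRecDepth 1000000 in
theorem edges_1_110 : edgesRangeI iota E 1 1798 201866 = true := by decide +kernel

set_option maxRecDepth 1000000 in
theorem edges_3_130 : edgesRangeI iota E 3 1885 242900 = true := by decide +kernel

set_option maxRecDepth 1000000 in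
theorem edges_6_72 : edgesRangeI iota E 6 1868 137136 = true := by decide +kernel

set_option maxRecDepth 1000000 in
theorem edges_8_113 : edgesRangeI iota E 8 1691 223299 = true := by decide +kernel

set_option maxRecDepth 1000000 in
theorem edges_0_98 : edgesRangeI iota E 0 1809 177380 = true := by decide +kernel

set_option maxRecDepth 1000000 in
theorem edges_2_162 : edgesRangeI iota E 2 1566 296128 = true := by decide +kernel

set_option maxRecDepth 1000000 in
theorem edges_4_154 : edgesRangeI iota E 4 1561 288497 = true := by decide +kernel

set_option maxRecDepth 1000000 in
theorem edges_7_128 : edgesRangeI iota E 7 1840 238405 = true := by decide +kernel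

set_option maxRecDepth 1000000 in
theorem edges_10_79 : edgesRangeI iota E 10 2213 192266 = true := by decide +kernel

set_option maxRecDepth 1000000 in
theorem edges_0_147 : edgesRangeI iota E 0 1859 265261 = true := by decide +kernel

set_option maxRecDepth 1000000 in
theorem edges_2_47 : edgesRangeI iota E 2 1855 87164 = true := by decide +kernel

set_option maxRecDepth 1000000 in
theorem edges_3_102 : edgesRangeI iota E 3 1845 192555 = true := by decide +kernel

set_option maxRecDepth 1000000 in
theorem edges_5_42 : edgesRangeI iota E 5 1730 76283 = true := by decide +kernel

set_option maxRecDepth 1000000 in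
theorem edges_6_126 : edgesRangeI iota E 6 1861 236060 = true := by decide +kernel

set_option maxRecDepth 1000000 in
theorem edges_8_63 : edgesRangeI iota E 8 2153 121760 = true := by decide +kernel

set_option maxRecDepth 1000000 in
theorem edges_9_148 : edgesRangeI iota E 9 1677 272601 = true := by decide +kernel

set_option maxRecDepth 1000000 in
theorem edges_0_11 : edgesRangeI iota E 0 1825 19758 = true := by decide +kernel

set_option maxRecDepth 1000000 in
theorem edges_1_15 : edgesRangeI iota E 1 1782 26831 = true := by decide +kernel

set_option maxRecDepth 1000000 in
theorem edges_2_41 : edgesRangeI iota E 2 1908 75766 = true := by decide +kernel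

set_option maxRecDepth 1000000 in
theorem edges_3_143 : edgesRangeI iota E 3 1778 265342 = true := by decide +kernel

set_option maxRecDepth 1000000 in
theorem edges_4_165 : edgesRangeI iota E 4 1473 305711 = true := by decide +kernel

set_option maxRecDepth 1000000 in
theorem edges_6_24 : edgesRangeI iota E 6 1845 46026 = true := by decide +kernel

set_option maxRecDepth 1000000 in
theorem edges_7_109 : edgesRangeI iota E 7 2067 204177 = true := by decide +kernel

set_option maxRecDepth 1000000 in
theorem edges_9_55 : edgesRangeI iota E 9 1821 106446 = true := by decide +kernel

set_option maxRecDepth 1000000 in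
theorem edges_10_81 : edgesRangeI iota E 10 1477 196396 = true := by decide +kernel

set_option maxRecDepth 1000000 in
theorem edges_0_61 : edgesRangeI iota E 0 1788 110446 = true := by decide +kernel

set_option maxRecDepth 1000000 in
theorem edges_1_132 : edgesRangeI iota E 1 1745 241002 = true := by decide +kernel

set_option maxRecDepth 1000000 in
theorem edges_3_14 : edgesRangeI iota E 3 2001 25699 = true := by decide +kernel

set_option maxRecDepth 1000000 in
theorem edges_4_85 : edgesRangeI iota E 4 2002 161998 = true := by decide +kernel

set_option maxRecDepth 1000000 in
theorem edges_5_134 : edgesRangeI iota E 5 1758 251002 = true := by decide +kernel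

set_option maxRecDepth 1000000 in
theorem edges_7_1 : edgesRangeI iota E 7 2110 1930 = true := by decide +kernel

set_option maxRecDepth 1000000 in
theorem edges_8_36 : edgesRangeI iota E 8 1966 69672 = true := by decide +kernel

set_option maxRecDepth 1000000 in
theorem edges_9_106 : edgesRangeI iota E 9 1652 198657 = true := by decide +kernel

set_option maxRecDepth 1000000 in
theorem edges_10_105 : edgesRangeI iota E 10 2810 251680 = true := by decide +kernel

set_option maxRecDepth 1000000 in
theorem aliases_8 : aliasRange E 8000 61518 = true := by decide +kernel

set_option maxRecDepth 1000000 in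
theorem rows_15 : rowsRange E RS 1500 22500 = true := by decide +kernel

set_option maxRecDepth 1000000 in
theorem rows_47 : rowsRange E RS 1500 70500 = true := by decide +kernel

set_option maxRecDepth 1000000 in
theorem rows_95 : rowsRange E RS 1500 142500 = true := by decide +kernel

set_option maxRecDepth 1000000 in
theorem rows_143 : rowsRange E RS 1500 214500 = true := by decide +kernel

set_option maxRecDepth 1000000 in
theorem rows_191 : rowsRange E RS 1500 286500 = true := by decide +kernel

end Cfsg.Agent.Helper5.FiZATC
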