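import Cfsg.Agent.Helper5.FiZATCDatD
import Cfsg.Agent.Helper5.TCIB

/-! kernel checks of edges, aliases, rows: FiZATC -/

set_option autoImplicit false
set_option Elab.async false

namespace Cfsg.Agent.Helper5.FiZATC
open Cfsg.Agent.Helper5.TC Cfsg.Agent.Helper5.TCI

set_option maxRecDepth 1000000 in
theorem edges_11_104 : edgesRangeI iota E 11 2030 271913 = true := by decide +kernel

set_option maxRecDepth 1000000 in
theorem edges_0_3 : edgesRangeI iota E 0 1750 5544 = true := by decide +kernel

set_option maxRecDepth 1000000 in
theorem edges_2_39 : edgesRangeI iota E 2 1930 72053 = true := by decide +kernel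

set_option maxRecDepth 1000000 in
theorem edges_4_137 : edgesRangeI iota E 4 1756 259926 = true := by decide +kernel

set_option maxRecDepth 1000000 in
theorem edges_7_30 : edgesRangeI iota E 7 1928 59252 = true := by decide +kernel

set_option maxRecDepth 1000000 in
theorem edges_9_64 : edgesRangeI iota E 9 1756 123366 = true := by decide +kernel

set_option maxRecDepth 1000000 in
theorem edges_0_124 : edgesRangeI iota E 0 1735 224597 = true := by decide +kernel

set_option maxRecDepth 1000000 in
theorem edges_3_4 : edgesRangeI iota E 3 1728 7425 = true := by decide +kernel

set_option maxRecDepth 1000000 in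
theorem edges_5_141 : edgesRangeI iota E 5 1826 263818 = true := by decide +kernel

set_option maxRecDepth 1000000 in
theorem edges_7_155 : edgesRangeI iota E 7 1488 285865 = true := by decide +kernel

set_option maxRecDepth 1000000 in
theorem edges_11_11 : edgesRangeI iota E 11 2656 28792 = true := by decide +kernel

set_option maxRecDepth 1000000 in
theorem edges_2_71 : edgesRangeI iota E 2 1854 132392 = true := by decide +kernel

set_option maxRecDepth 1000000 in
theorem edges_4_76 : edgesRangeI iota E 4 2077 144221 = true := by decide +kernel

set_option maxRecDepth 1000000 in
theorem edges_7_45 : edgesRangeI iota E 7 1691 88015 = true := by decide +kernel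

set_option maxRecDepth 1000000 in
theorem edges_9_102 : edgesRangeI iota E 9 2292 191838 = true := by decide +kernel

set_option maxRecDepth 1000000 in
theorem edges_0_90 : edgesRangeI iota E 0 1994 162988 = true := by decide +kernel

set_option maxRecDepth 1000000 in
theorem edges_1_146 : edgesRangeI iota E 1 1686 264940 = true := by decide +kernel

set_option maxRecDepth 1000000 in
theorem edges_3_46 : edgesRangeI iota E 3 1792 86586 = true := by decide +kernel

set_option maxRecDepth 1000000 in
theorem edges_4_150 : edgesRangeI iota E 4 1728 281938 = true := by decide +kernel

set_option maxRecDepth 1000000 in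
theorem edges_6_84 : edgesRangeI iota E 6 1798 159312 = true := by decide +kernel

set_option maxRecDepth 1000000 in
theorem edges_7_164 : edgesRangeI iota E 7 1662 300742 = true := by decide +kernel

set_option maxRecDepth 1000000 in
theorem edges_9_100 : edgesRangeI iota E 9 2545 186866 = true := by decide +kernel

set_option maxRecDepth 1000000 in
theorem edges_11_65 : edgesRangeI iota E 11 2522 174158 = true := by decide +kernel

set_option maxRecDepth 1000000 in
theorem edges_0_161 : edgesRangeI iota E 0 1655 288641 = true := by decide +kernel

set_option maxRecDepth 1000000 in
theorem edges_2_25 : edgesRangeI iota E 2 1912 45530 = true := by decide +kernel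

set_option maxRecDepth 1000000 in
theorem edges_3_119 : edgesRangeI iota E 3 1709 223651 = true := by decide +kernel

set_option maxRecDepth 1000000 in
theorem edges_4_146 : edgesRangeI iota E 4 1657 275284 = true := by decide +kernel

set_option maxRecDepth 1000000 in
theorem edges_6_12 : edgesRangeI iota E 6 1856 22613 = true := by decide +kernel

set_option maxRecDepth 1000000 in
theorem edges_7_88 : edgesRangeI iota E 7 1547 166538 = true := by decide +kernel

set_option maxRecDepth 1000000 in
theorem edges_9_44 : edgesRangeI iota E 9 1403 86620 = true := by decide +kernel

set_option maxRecDepth 1000000 in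
theorem edges_10_73 : edgesRangeI iota E 10 2860 177317 = true := by decide +kernel

set_option maxRecDepth 1000000 in
theorem edges_0_48 : edgesRangeI iota E 0 1735 87090 = true := by decide +kernel

set_option maxRecDepth 1000000 in
theorem edges_1_117 : edgesRangeI iota E 1 1835 214476 = true := by decide +kernel

set_option maxRecDepth 1000000 in
theorem edges_3_3 : edgesRangeI iota E 3 1761 5664 = true := by decide +kernel

set_option maxRecDepth 1000000 in
theorem edges_4_73 : edgesRangeI iota E 4 2026 138190 = true := by decide +kernel

set_option maxRecDepth 1000000 in
theorem edges_5_102 : edgesRangeI iota E 5 2069 189088 = true := by decide +kernel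

set_option maxRecDepth 1000000 in
theorem edges_6_160 : edgesRangeI iota E 6 1666 295951 = true := by decide +kernel

set_option maxRecDepth 1000000 in
theorem edges_8_28 : edgesRangeI iota E 8 1975 54309 = true := by decide +kernel

set_option maxRecDepth 1000000 in
theorem edges_9_90 : edgesRangeI iota E 9 1675 170344 = true := by decide +kernel

set_option maxRecDepth 1000000 in
theorem edges_10_85 : edgesRangeI iota E 10 2392 206280 = true := by decide +kernel

set_option maxRecDepth 1000000 in
theorem aliases_5 : aliasRange E 8000 37518 = true := by decide +kernel

set_option maxRecDepth 1000000 in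
theorem rows_12 : rowsRange E RS 1500 18000 = true := by decide +kernel

set_option maxRecDepth 1000000 in
theorem rows_42 : rowsRange E RS 1500 63000 = true := by decide +kernel

set_option maxRecDepth 1000000 in
theorem rows_90 : rowsRange E RS 1500 135000 = true := by decide +kernel

set_option maxRecDepth 1000000 in
theorem rows_138 : rowsRange E RS 1500 207000 = true := by decide +kernel

set_option maxRecDepth 1000000 in
theorem rows_186 : rowsRange E RS 1500 279000 = true := by decide +kernel

end Cfsg.Agent.Helper5.FiZATC
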