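import Cfsg.Agent.Helper5.FiZATCDatD
import Cfsg.Agent.Helper5.TCIB

/-! kernel checks of edges, aliases, rows: FiZATC -/

set_option autoImplicit false
set_option Elab.async false

namespace Cfsg.Agent.Helper5.FiZATC
open Cfsg.Agent.Helper5.TC Cfsg.Agent.Helper5.TCI

set_option maxRecDepth 1000000 in
theorem edges_5_149 : edgesRangeI iota E 5 1655 278238 = true := by decide +kernel

set_option maxRecDepth 1000000 in
theorem edges_0_1 : edgesRangeI iota E 0 1913 1729 = true := by decide +kernel

set_option maxRecDepth 1000000 in
theorem edges_2_38 : edgesRangeI iota E 2 1865 70188 = true := by decide +kernel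

set_option maxRecDepth 1000000 in
theorem edges_4_103 : edgesRangeI iota E 4 1932 197285 = true := by decide +kernel

set_option maxRecDepth 1000000 in
theorem edges_7_15 : edgesRangeI iota E 7 1904 29705 = true := by decide +kernel

set_option maxRecDepth 1000000 in
theorem edges_9_60 : edgesRangeI iota E 9 1614 115078 = true := by decide +kernel

set_option maxRecDepth 1000000 in
theorem edges_0_123 : edgesRangeI iota E 0 1643 222954 = true := by decide +kernel

set_option maxRecDepth 1000000 in
theorem edges_3_2 : edgesRangeI iota E 3 1864 3800 = true := by decide +kernel

set_option maxRecDepth 1000000 in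
theorem edges_5_130 : edgesRangeI iota E 5 2136 243301 = true := by decide +kernel

set_option maxRecDepth 1000000 in
theorem edges_7_124 : edgesRangeI iota E 7 1874 231255 = true := by decide +kernel

set_option maxRecDepth 1000000 in
theorem edges_11_6 : edgesRangeI iota E 11 2700 15308 = true := by decide +kernel

set_option maxRecDepth 1000000 in
theorem edges_2_70 : edgesRangeI iota E 2 1891 130501 = true := by decide +kernel

set_option maxRecDepth 1000000 in
theorem edges_4_75 : edgesRangeI iota E 4 1961 142260 = true := by decide +kernel

set_option maxRecDepth 1000000 in
theorem edges_7_43 : edgesRangeI iota E 7 1812 83870 = true := by decide +kernel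

set_option maxRecDepth 1000000 in
theorem edges_9_83 : edgesRangeI iota E 9 1642 156714 = true := by decide +kernel

set_option maxRecDepth 1000000 in
theorem edges_0_89 : edgesRangeI iota E 0 1922 161066 = true := by decide +kernel

set_option maxRecDepth 1000000 in
theorem edges_1_144 : edgesRangeI iota E 1 1721 261449 = true := by decide +kernel

set_option maxRecDepth 1000000 in
theorem edges_3_45 : edgesRangeI iota E 3 1885 84701 = true := by decide +kernel

set_option maxRecDepth 1000000 in
theorem edges_4_143 : edgesRangeI iota E 4 1564 270525 = true := by decide +kernel

set_option maxRecDepth 1000000 in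
theorem edges_6_69 : edgesRangeI iota E 6 1831 131713 = true := by decide +kernel

set_option maxRecDepth 1000000 in
theorem edges_7_158 : edgesRangeI iota E 7 1750 290691 = true := by decide +kernel

set_option maxRecDepth 1000000 in
theorem edges_9_95 : edgesRangeI iota E 9 1782 178547 = true := by decide +kernel

set_option maxRecDepth 1000000 in
theorem edges_11_56 : edgesRangeI iota E 11 2354 150154 = true := by decide +kernel

set_option maxRecDepth 1000000 in
theorem edges_0_158 : edgesRangeI iota E 0 1838 283733 = true := by decide +kernel

set_option maxRecDepth 1000000 in
theorem edges_2_24 : edgesRangeI iota E 2 1865 43665 = true := by decide +kernel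

set_option maxRecDepth 1000000 in
theorem edges_3_110 : edgesRangeI iota E 3 1910 207014 = true := by decide +kernel

set_option maxRecDepth 1000000 in
theorem edges_4_144 : edgesRangeI iota E 4 1612 272089 = true := by decide +kernel

set_option maxRecDepth 1000000 in
theorem edges_5_164 : edgesRangeI iota E 5 1593 303813 = true := by decide +kernel

set_option maxRecDepth 1000000 in
theorem edges_7_82 : edgesRangeI iota E 7 1752 155468 = true := by decide +kernel

set_option maxRecDepth 1000000 in
theorem edges_9_29 : edgesRangeI iota E 9 1878 57926 = true := by decide +kernel

set_option maxRecDepth 1000000 in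
theorem edges_10_66 : edgesRangeI iota E 10 2602 160387 = true := by decide +kernel

set_option maxRecDepth 1000000 in
theorem edges_0_47 : edgesRangeI iota E 0 1764 85326 = true := by decide +kernel

set_option maxRecDepth 1000000 in
theorem edges_1_112 : edgesRangeI iota E 1 1777 205438 = true := by decide +kernel

set_option maxRecDepth 1000000 in
theorem edges_2_168 : edgesRangeI iota E 2 1514 305264 = true := by decide +kernel

set_option maxRecDepth 1000000 in
theorem edges_4_70 : edgesRangeI iota E 4 1974 132228 = true := by decide +kernel

set_option maxRecDepth 1000000 in
theorem edges_5_100 : edgesRangeI iota E 5 1877 185061 = true := by decide +kernel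

set_option maxRecDepth 1000000 in
theorem edges_6_158 : edgesRangeI iota E 6 1699 292460 = true := by decide +kernel

set_option maxRecDepth 1000000 in
theorem edges_8_22 : edgesRangeI iota E 8 1996 42844 = true := by decide +kernel

set_option maxRecDepth 1000000 in
theorem edges_9_87 : edgesRangeI iota E 9 2559 163804 = true := by decide +kernel

set_option maxRecDepth 1000000 in
theorem edges_10_83 : edgesRangeI iota E 10 2727 200813 = true := by decide +kernel

set_option maxRecDepth 1000000 in
theorem aliases_4 : aliasRange E 8000 29518 = true := by decide +kernel

set_option maxRecDepth 1000000 in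
theorem rows_11 : rowsRange E RS 1500 16500 = true := by decide +kernel

set_option maxRecDepth 1000000 in
theorem rows_41 : rowsRange E RS 1500 61500 = true := by decide +kernel

set_option maxRecDepth 1000000 in
theorem rows_89 : rowsRange E RS 1500 133500 = true := by decide +kernel

set_option maxRecDepth 1000000 in
theorem rows_137 : rowsRange E RS 1500 205500 = true := by decide +kernel

set_option maxRecDepth 1000000 in
theorem rows_185 : rowsRange E RS 1500 277500 = true := by decide +kernel

end Cfsg.Agent.Helper5.FiZATC
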