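import Cfsg.Agent.Helper5.FiZATCDatD
import Cfsg.Agent.Helper5.TCIB

/-! kernel checks of edges, aliases, rows: FiZATC -/

set_option autoImplicit false
set_option Elab.async false

namespace Cfsg.Agent.Helper5.FiZATC
open Cfsg.Agent.Helper5.TC Cfsg.Agent.Helper5.TCI

set_option maxRecDepth 1000000 in
theorem edges_11_123 : edgesRangeI iota E 11 1091 305244 = true := by decide +kernel

set_option maxRecDepth 1000000 in
theorem edges_11_94 : edgesRangeI iota E 11 2114 248725 = true := by decide +kernel

set_option maxRecDepth 1000000 in
theorem edges_2_37 : edgesRangeI iota E 2 1879 68309 = true := by decide +kernel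

set_option maxRecDepth 1000000 in
theorem edges_4_95 : edgesRangeI iota E 4 1945 181544 = true := by decide +kernel

set_option maxRecDepth 1000000 in
theorem edges_7_0 : edgesRangeI iota E 7 1930 0 = true := by decide +kernel

set_option maxRecDepth 1000000 in
theorem edges_9_48 : edgesRangeI iota E 9 1647 93462 = true := by decide +kernel

set_option maxRecDepth 1000000 in
theorem edges_0_113 : edgesRangeI iota E 0 1783 204590 = true := by decide +kernel

set_option maxRecDepth 1000000 in
theorem edges_2_160 : edgesRangeI iota E 2 1575 292887 = true := by decide +kernel

set_option maxRecDepth 1000000 in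
theorem edges_5_117 : edgesRangeI iota E 5 2089 218335 = true := by decide +kernel

set_option maxRecDepth 1000000 in
theorem edges_7_120 : edgesRangeI iota E 7 1730 224219 = true := by decide +kernel

set_option maxRecDepth 1000000 in
theorem edges_10_129 : edgesRangeI iota E 10 1627 301576 = true := by decide +kernel

set_option maxRecDepth 1000000 in
theorem edges_2_68 : edgesRangeI iota E 2 1899 126812 = true := by decide +kernel

set_option maxRecDepth 1000000 in
theorem edges_4_60 : edgesRangeI iota E 4 1943 112504 = true := by decide +kernel

set_option maxRecDepth 1000000 in
theorem edges_7_41 : edgesRangeI iota E 7 2080 80055 = true := by decide +kernel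

set_option maxRecDepth 1000000 in
theorem edges_9_82 : edgesRangeI iota E 9 1616 155098 = true := by decide +kernel

set_option maxRecDepth 1000000 in
theorem edges_0_79 : edgesRangeI iota E 0 1824 143196 = true := by decide +kernel

set_option maxRecDepth 1000000 in
theorem edges_1_139 : edgesRangeI iota E 1 1644 253070 = true := by decide +kernel

set_option maxRecDepth 1000000 in
theorem edges_3_44 : edgesRangeI iota E 3 1988 82713 = true := by decide +kernel

set_option maxRecDepth 1000000 in
theorem edges_4_141 : edgesRangeI iota E 4 1752 267136 = true := by decide +kernel

set_option maxRecDepth 1000000 in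
theorem edges_6_66 : edgesRangeI iota E 6 1936 126272 = true := by decide +kernel

set_option maxRecDepth 1000000 in
theorem edges_7_157 : edgesRangeI iota E 7 1746 288945 = true := by decide +kernel

set_option maxRecDepth 1000000 in
theorem edges_9_94 : edgesRangeI iota E 9 1831 176716 = true := by decide +kernel

set_option maxRecDepth 1000000 in
theorem edges_11_50 : edgesRangeI iota E 11 2630 133654 = true := by decide +kernel

set_option maxRecDepth 1000000 in
theorem edges_0_157 : edgesRangeI iota E 0 1721 282012 = true := by decide +kernel

set_option maxRecDepth 1000000 in
theorem edges_2_20 : edgesRangeI iota E 2 1853 36132 = true := by decide +kernel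

set_option maxRecDepth 1000000 in
theorem edges_3_107 : edgesRangeI iota E 3 1762 201740 = true := by decide +kernel

set_option maxRecDepth 1000000 in
theorem edges_4_142 : edgesRangeI iota E 4 1637 268888 = true := by decide +kernel

set_option maxRecDepth 1000000 in
theorem edges_5_160 : edgesRangeI iota E 5 1591 297277 = true := by decide +kernel

set_option maxRecDepth 1000000 in
theorem edges_7_81 : edgesRangeI iota E 7 2009 153459 = true := by decide +kernel

set_option maxRecDepth 1000000 in
theorem edges_9_22 : edgesRangeI iota E 9 1597 44837 = true := by decide +kernel

set_option maxRecDepth 1000000 in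
theorem edges_10_63 : edgesRangeI iota E 10 2854 153415 = true := by decide +kernel

set_option maxRecDepth 1000000 in
theorem edges_0_45 : edgesRangeI iota E 0 1804 81549 = true := by decide +kernel

set_option maxRecDepth 1000000 in
theorem edges_1_111 : edgesRangeI iota E 1 1774 203664 = true := by decide +kernel

set_option maxRecDepth 1000000 in
theorem edges_2_166 : edgesRangeI iota E 2 1509 302324 = true := by decide +kernel

set_option maxRecDepth 1000000 in
theorem edges_4_62 : edgesRangeI iota E 4 2029 116406 = true := by decide +kernel

set_option maxRecDepth 1000000 in
theorem edges_5_99 : edgesRangeI iota E 5 2035 183026 = true := by decide +kernel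

set_option maxRecDepth 1000000 in
theorem edges_6_155 : edgesRangeI iota E 6 1623 287484 = true := by decide +kernel

set_option maxRecDepth 1000000 in
theorem edges_8_11 : edgesRangeI iota E 8 1864 21801 = true := by decide +kernel

set_option maxRecDepth 1000000 in
theorem edges_9_85 : edgesRangeI iota E 9 1588 159918 = true := by decide +kernel

set_option maxRecDepth 1000000 in
theorem edges_10_80 : edgesRangeI iota E 10 1917 194479 = true := by decide +kernel

set_option maxRecDepth 1000000 in
theorem aliases_3 : aliasRange E 7922 21596 = true := by decide +kernel

set_option maxRecDepth 1000000 in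
theorem rows_10 : rowsRange E RS 1500 15000 = true := by decide +kernel

set_option maxRecDepth 1000000 in
theorem rows_40 : rowsRange E RS 1500 60000 = true := by decide +kernel

set_option maxRecDepth 1000000 in
theorem rows_88 : rowsRange E RS 1500 132000 = true := by decide +kernel

set_option maxRecDepth 1000000 in
theorem rows_136 : rowsRange E RS 1500 204000 = true := by decide +kernel

set_option maxRecDepth 1000000 in
theorem rows_184 : rowsRange E RS 1500 276000 = true := by decide +kernel

end Cfsg.Agent.Helper5.FiZATC
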