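import Cfsg.Agent.Helper5.FiZATCDatD
import Cfsg.Agent.Helper5.TCIB

/-! kernel checks of edges, aliases, rows: FiZATC -/

set_option autoImplicit false
set_option Elab.async false

namespace Cfsg.Agent.Helper5.FiZATC
open Cfsg.Agent.Helper5.TC Cfsg.Agent.Helper5.TCI

set_option maxRecDepth 1000000 in
theorem edges_11_118 : edgesRangeI iota E 11 914 298424 = true := by decide +kernel

set_option maxRecDepth 1000000 in
theorem edges_11_78 : edgesRangeI iota E 11 2636 208222 = true := by decide +kernel

set_option maxRecDepth 1000000 in
theorem edges_2_32 : edgesRangeI iota E 2 1793 58848 = true := by decide +kernel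

set_option maxRecDepth 1000000 in
theorem edges_4_79 : edgesRangeI iota E 4 1861 150215 = true := by decide +kernel

set_option maxRecDepth 1000000 in
theorem edges_6_162 : edgesRangeI iota E 6 1590 299251 = true := by decide +kernel

set_option maxRecDepth 1000000 in
theorem edges_9_41 : edgesRangeI iota E 9 2341 80174 = true := by decide +kernel

set_option maxRecDepth 1000000 in
theorem edges_0_97 : edgesRangeI iota E 0 1748 175632 = true := by decide +kernel

set_option maxRecDepth 1000000 in
theorem edges_2_153 : edgesRangeI iota E 2 1629 281696 = true := by decide +kernel

set_option maxRecDepth 1000000 in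
theorem edges_5_109 : edgesRangeI iota E 5 2099 202521 = true := by decide +kernel

set_option maxRecDepth 1000000 in
theorem edges_7_112 : edgesRangeI iota E 7 1920 209543 = true := by decide +kernel

set_option maxRecDepth 1000000 in
theorem edges_10_125 : edgesRangeI iota E 10 1951 294013 = true := by decide +kernel

set_option maxRecDepth 1000000 in
theorem edges_2_55 : edgesRangeI iota E 2 1887 102263 = true := by decide +kernel

set_option maxRecDepth 1000000 in
theorem edges_4_56 : edgesRangeI iota E 4 1916 104767 = true := by decide +kernel

set_option maxRecDepth 1000000 in
theorem edges_7_36 : edgesRangeI iota E 7 1850 70871 = true := by decide +kernel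

set_option maxRecDepth 1000000 in
theorem edges_9_54 : edgesRangeI iota E 9 1397 105049 = true := by decide +kernel

set_option maxRecDepth 1000000 in
theorem edges_0_76 : edgesRangeI iota E 0 1824 137407 = true := by decide +kernel

set_option maxRecDepth 1000000 in
theorem edges_1_136 : edgesRangeI iota E 1 1674 248047 = true := by decide +kernel

set_option maxRecDepth 1000000 in
theorem edges_3_43 : edgesRangeI iota E 3 2103 80610 = true := by decide +kernel

set_option maxRecDepth 1000000 in
theorem edges_4_126 : edgesRangeI iota E 4 1857 240486 = true := by decide +kernel

set_option maxRecDepth 1000000 in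
theorem edges_6_65 : edgesRangeI iota E 6 1863 124409 = true := by decide +kernel

set_option maxRecDepth 1000000 in
theorem edges_7_152 : edgesRangeI iota E 7 1897 280394 = true := by decide +kernel

set_option maxRecDepth 1000000 in
theorem edges_9_92 : edgesRangeI iota E 9 1550 173497 = true := by decide +kernel

set_option maxRecDepth 1000000 in
theorem edges_11_47 : edgesRangeI iota E 11 2501 126067 = true := by decide +kernel

set_option maxRecDepth 1000000 in
theorem edges_0_143 : edgesRangeI iota E 0 1742 258145 = true := by decide +kernel

set_option maxRecDepth 1000000 in
theorem edges_2_17 : edgesRangeI iota E 2 1837 30550 = true := by decide +kernel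

set_option maxRecDepth 1000000 in
theorem edges_3_104 : edgesRangeI iota E 3 1805 196415 = true := by decide +kernel

set_option maxRecDepth 1000000 in
theorem edges_4_135 : edgesRangeI iota E 4 1645 256557 = true := by decide +kernel

set_option maxRecDepth 1000000 in
theorem edges_5_153 : edgesRangeI iota E 5 1713 285402 = true := by decide +kernel

set_option maxRecDepth 1000000 in
theorem edges_7_76 : edgesRangeI iota E 7 1924 144430 = true := by decide +kernel

set_option maxRecDepth 1000000 in
theorem edges_9_19 : edgesRangeI iota E 9 1909 38663 = true := by decide +kernel

set_option maxRecDepth 1000000 in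
theorem edges_10_59 : edgesRangeI iota E 10 1953 144656 = true := by decide +kernel

set_option maxRecDepth 1000000 in
theorem edges_0_38 : edgesRangeI iota E 0 1768 68870 = true := by decide +kernel

set_option maxRecDepth 1000000 in
theorem edges_1_100 : edgesRangeI iota E 1 1845 183554 = true := by decide +kernel

set_option maxRecDepth 1000000 in
theorem edges_2_164 : edgesRangeI iota E 2 1533 299204 = true := by decide +kernel

set_option maxRecDepth 1000000 in
theorem edges_4_61 : edgesRangeI iota E 4 1959 114447 = true := by decide +kernel

set_option maxRecDepth 1000000 in
theorem edges_5_94 : edgesRangeI iota E 5 1739 173592 = true := by decide +kernel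

set_option maxRecDepth 1000000 in
theorem edges_6_152 : edgesRangeI iota E 6 1765 282302 = true := by decide +kernel

set_option maxRecDepth 1000000 in
theorem edges_8_9 : edgesRangeI iota E 8 1925 17909 = true := by decide +kernel

set_option maxRecDepth 1000000 in
theorem edges_9_84 : edgesRangeI iota E 9 1562 158356 = true := by decide +kernel

set_option maxRecDepth 1000000 in
theorem edges_10_78 : edgesRangeI iota E 10 2794 189472 = true := by decide +kernel

set_option maxRecDepth 1000000 in
theorem aliases_2 : aliasRange E 8000 13596 = true := by decide +kernel

set_option maxRecDepth 1000000 in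
theorem rows_9 : rowsRange E RS 1500 13500 = true := by decide +kernel

set_option maxRecDepth 1000000 in
theorem rows_39 : rowsRange E RS 1500 58500 = true := by decide +kernel

set_option maxRecDepth 1000000 in
theorem rows_87 : rowsRange E RS 1500 130500 = true := by decide +kernel

set_option maxRecDepth 1000000 in
theorem rows_135 : rowsRange E RS 1500 202500 = true := by decide +kernel

set_option maxRecDepth 1000000 in
theorem rows_183 : rowsRange E RS 1500 274500 = true := by decide +kernel

end Cfsg.Agent.Helper5.FiZATC
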