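import Cfsg.Agent.Helper5.FiZATCDatD
import Cfsg.Agent.Helper5.TCIB

/-! kernel checks of edges, aliases, rows: FiZATC -/

set_option autoImplicit false
set_option Elab.async false

namespace Cfsg.Agent.Helper5.FiZATC
open Cfsg.Agent.Helper5.TC Cfsg.Agent.Helper5.TCI

set_option maxRecDepth 1000000 in
theorem cnt_2 : cntFrom RS 20000 40000 0 = 20000 := by decide +kernel

set_option maxRecDepth 1000000 in
theorem edges_0_59 : edgesRangeI iota E 0 1741 106961 = true := by decide +kernel

set_option maxRecDepth 1000000 in
theorem edges_2_81 : edgesRangeI iota E 2 1837 151421 = true := by decide +kernel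

set_option maxRecDepth 1000000 in
theorem edges_4_159 : edgesRangeI iota E 4 1388 296620 = true := by decide +kernel

set_option maxRecDepth 1000000 in
theorem edges_7_64 : edgesRangeI iota E 7 1798 122576 = true := by decide +kernel

set_option maxRecDepth 1000000 in
theorem edges_9_126 : edgesRangeI iota E 9 1651 233754 = true := by decide +kernel

set_option maxRecDepth 1000000 in
theorem edges_1_25 : edgesRangeI iota E 1 1821 44861 = true := by decide +kernel

set_option maxRecDepth 1000000 in
theorem edges_3_25 : edgesRangeI iota E 3 1822 46734 = true := by decide +kernel

set_option maxRecDepth 1000000 in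
theorem edges_5_151 : edgesRangeI iota E 5 1742 281664 = true := by decide +kernel

set_option maxRecDepth 1000000 in
theorem edges_8_19 : edgesRangeI iota E 8 1905 37129 = true := by decide +kernel

set_option maxRecDepth 1000000 in
theorem edges_11_40 : edgesRangeI iota E 11 2368 107129 = true := by decide +kernel

set_option maxRecDepth 1000000 in
theorem edges_3_29 : edgesRangeI iota E 3 1904 54295 = true := by decide +kernel

set_option maxRecDepth 1000000 in
theorem edges_5_6 : edgesRangeI iota E 5 1800 10593 = true := by decide +kernel

set_option maxRecDepth 1000000 in
theorem edges_7_145 : edgesRangeI iota E 7 1529 268816 = true := by decide +kernel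

set_option maxRecDepth 1000000 in
theorem edges_10_124 : edgesRangeI iota E 10 1739 292274 = true := by decide +kernel

set_option maxRecDepth 1000000 in
theorem edges_0_170 : edgesRangeI iota E 0 1522 303073 = true := by decide +kernel

set_option maxRecDepth 1000000 in
theorem edges_2_58 : edgesRangeI iota E 2 1841 107902 = true := by decide +kernel

set_option maxRecDepth 1000000 in
theorem edges_3_111 : edgesRangeI iota E 3 1789 208924 = true := by decide +kernel

set_option maxRecDepth 1000000 in
theorem edges_5_65 : edgesRangeI iota E 5 2037 118178 = true := by decide +kernel

set_option maxRecDepth 1000000 in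
theorem edges_6_134 : edgesRangeI iota E 6 1779 250642 = true := by decide +kernel

set_option maxRecDepth 1000000 in
theorem edges_8_76 : edgesRangeI iota E 8 1912 147794 = true := by decide +kernel

set_option maxRecDepth 1000000 in
theorem edges_9_167 : edgesRangeI iota E 9 1630 304461 = true := by decide +kernel

set_option maxRecDepth 1000000 in
theorem edges_0_21 : edgesRangeI iota E 0 1835 37802 = true := by decide +kernel

set_option maxRecDepth 1000000 in
theorem edges_1_22 : edgesRangeI iota E 1 1918 39294 = true := by decide +kernel

set_option maxRecDepth 1000000 in
theorem edges_2_54 : edgesRangeI iota E 2 1918 100345 = true := by decide +kernel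

set_option maxRecDepth 1000000 in
theorem edges_3_151 : edgesRangeI iota E 3 1664 278588 = true := by decide +kernel

set_option maxRecDepth 1000000 in
theorem edges_5_4 : edgesRangeI iota E 5 1710 7104 = true := by decide +kernel

set_option maxRecDepth 1000000 in
theorem edges_6_36 : edgesRangeI iota E 6 1828 69499 = true := by decide +kernel

set_option maxRecDepth 1000000 in
theorem edges_7_118 : edgesRangeI iota E 7 1615 221129 = true := by decide +kernel

set_option maxRecDepth 1000000 in
theorem edges_9_69 : edgesRangeI iota E 9 1713 131713 = true := by decide +kernel

set_option maxRecDepth 1000000 in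
theorem edges_10_101 : edgesRangeI iota E 10 2181 243666 = true := by decide +kernel

set_option maxRecDepth 1000000 in
theorem edges_0_67 : edgesRangeI iota E 0 1828 121459 = true := by decide +kernel

set_option maxRecDepth 1000000 in
theorem edges_1_161 : edgesRangeI iota E 1 1554 289396 = true := by decide +kernel

set_option maxRecDepth 1000000 in
theorem edges_3_38 : edgesRangeI iota E 3 1906 71322 = true := by decide +kernel

set_option maxRecDepth 1000000 in
theorem edges_4_97 : edgesRangeI iota E 4 2003 185557 = true := by decide +kernel

set_option maxRecDepth 1000000 in
theorem edges_5_157 : edgesRangeI iota E 5 1639 292038 = true := by decide +kernel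

set_option maxRecDepth 1000000 in
theorem edges_7_4 : edgesRangeI iota E 7 1969 7828 = true := by decide +kernel

set_option maxRecDepth 1000000 in
theorem edges_8_51 : edgesRangeI iota E 8 2036 98157 = true := by decide +kernel

set_option maxRecDepth 1000000 in
theorem edges_9_114 : edgesRangeI iota E 9 2499 211860 = true := by decide +kernel

set_option maxRecDepth 1000000 in
theorem edges_10_110 : edgesRangeI iota E 10 2385 263331 = true := by decide +kernel

set_option maxRecDepth 1000000 in
theorem aliases_11 : aliasRange E 8000 85482 = true := by decide +kernel

set_option maxRecDepth 1000000 in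
theorem rows_18 : rowsRange E RS 1500 27000 = true := by decide +kernel

set_option maxRecDepth 1000000 in
theorem rows_50 : rowsRange E RS 1500 75000 = true := by decide +kernel

set_option maxRecDepth 1000000 in
theorem rows_98 : rowsRange E RS 1500 147000 = true := by decide +kernel

set_option maxRecDepth 1000000 in
theorem rows_146 : rowsRange E RS 1500 219000 = true := by decide +kernel

set_option maxRecDepth 1000000 in
theorem rows_194 : rowsRange E RS 1500 291000 = true := by decide +kernel

end Cfsg.Agent.Helper5.FiZATC
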