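import Cfsg.Agent.Helper5.FiZATCDatD
import Cfsg.Agent.Helper5.TCIB

/-! kernel checks of edges, aliases, rows: FiZATC -/

set_option autoImplicit false
set_option Elab.async false

namespace Cfsg.Agent.Helper5.FiZATC
open Cfsg.Agent.Helper5.TC Cfsg.Agent.Helper5.TCI

set_option maxRecDepth 1000000 in
theorem edges_11_106 : edgesRangeI iota E 11 1787 276000 = true := by decide +kernel

set_option maxRecDepth 1000000 in
theorem edges_11_42 : edgesRangeI iota E 11 2689 112139 = true := by decide +kernel

set_option maxRecDepth 1000000 in
theorem edges_2_23 : edgesRangeI iota E 2 1959 41706 = true := by decide +kernel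

set_option maxRecDepth 1000000 in
theorem edges_4_46 : edgesRangeI iota E 4 1991 85242 = true := by decide +kernel

set_option maxRecDepth 1000000 in
theorem edges_6_161 : edgesRangeI iota E 6 1634 297617 = true := by decide +kernel

set_option maxRecDepth 1000000 in
theorem edges_9_35 : edgesRangeI iota E 9 1424 69929 = true := by decide +kernel

set_option maxRecDepth 1000000 in
theorem edges_0_93 : edgesRangeI iota E 0 1707 168733 = true := by decide +kernel

set_option maxRecDepth 1000000 in
theorem edges_2_150 : edgesRangeI iota E 2 1593 276840 = true := by decide +kernel

set_option maxRecDepth 1000000 in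
theorem edges_5_108 : edgesRangeI iota E 5 1897 200624 = true := by decide +kernel

set_option maxRecDepth 1000000 in
theorem edges_7_106 : edgesRangeI iota E 7 1819 198885 = true := by decide +kernel

set_option maxRecDepth 1000000 in
theorem edges_10_118 : edgesRangeI iota E 10 2148 280181 = true := by decide +kernel

set_option maxRecDepth 1000000 in
theorem edges_2_26 : edgesRangeI iota E 2 1826 47442 = true := by decide +kernel

set_option maxRecDepth 1000000 in
theorem edges_4_37 : edgesRangeI iota E 4 1910 67804 = true := by decide +kernel

set_option maxRecDepth 1000000 in
theorem edges_7_33 : edgesRangeI iota E 7 2154 64796 = true := by decide +kernel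

set_option maxRecDepth 1000000 in
theorem edges_9_53 : edgesRangeI iota E 9 1635 103414 = true := by decide +kernel

set_option maxRecDepth 1000000 in
theorem edges_0_71 : edgesRangeI iota E 0 1690 128594 = true := by decide +kernel

set_option maxRecDepth 1000000 in
theorem edges_1_130 : edgesRangeI iota E 1 1777 237437 = true := by decide +kernel

set_option maxRecDepth 1000000 in
theorem edges_3_40 : edgesRangeI iota E 3 1865 75033 = true := by decide +kernel

set_option maxRecDepth 1000000 in
theorem edges_4_120 : edgesRangeI iota E 4 1845 229414 = true := by decide +kernel

set_option maxRecDepth 1000000 in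
theorem edges_6_54 : edgesRangeI iota E 6 1848 103841 = true := by decide +kernel

set_option maxRecDepth 1000000 in
theorem edges_7_135 : edgesRangeI iota E 7 1725 250858 = true := by decide +kernel

set_option maxRecDepth 1000000 in
theorem edges_9_86 : edgesRangeI iota E 9 2298 161506 = true := by decide +kernel

set_option maxRecDepth 1000000 in
theorem edges_11_44 : edgesRangeI iota E 11 2913 117554 = true := by decide +kernel

set_option maxRecDepth 1000000 in
theorem edges_0_140 : edgesRangeI iota E 0 1722 252966 = true := by decide +kernel

set_option maxRecDepth 1000000 in
theorem edges_2_16 : edgesRangeI iota E 2 1801 28749 = true := by decide +kernel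

set_option maxRecDepth 1000000 in
theorem edges_3_101 : edgesRangeI iota E 3 1940 190615 = true := by decide +kernel

set_option maxRecDepth 1000000 in
theorem edges_4_125 : edgesRangeI iota E 4 1914 238572 = true := by decide +kernel

set_option maxRecDepth 1000000 in
theorem edges_5_139 : edgesRangeI iota E 5 1831 260125 = true := by decide +kernel

set_option maxRecDepth 1000000 in
theorem edges_7_72 : edgesRangeI iota E 7 1874 136978 = true := by decide +kernel

set_option maxRecDepth 1000000 in
theorem edges_9_12 : edgesRangeI iota E 9 2295 24870 = true := by decide +kernel

set_option maxRecDepth 1000000 in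
theorem edges_10_57 : edgesRangeI iota E 10 2824 138866 = true := by decide +kernel

set_option maxRecDepth 1000000 in
theorem edges_0_37 : edgesRangeI iota E 0 1918 66952 = true := by decide +kernel

set_option maxRecDepth 1000000 in
theorem edges_1_90 : edgesRangeI iota E 1 1871 165299 = true := by decide +kernel

set_option maxRecDepth 1000000 in
theorem edges_2_157 : edgesRangeI iota E 2 1571 288170 = true := by decide +kernel

set_option maxRecDepth 1000000 in
theorem edges_4_50 : edgesRangeI iota E 4 1941 92900 = true := by decide +kernel

set_option maxRecDepth 1000000 in
theorem edges_5_91 : edgesRangeI iota E 5 1903 167842 = true := by decide +kernel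

set_option maxRecDepth 1000000 in
theorem edges_6_148 : edgesRangeI iota E 6 1724 275353 = true := by decide +kernel

set_option maxRecDepth 1000000 in
theorem edges_7_163 : edgesRangeI iota E 7 1672 299070 = true := by decide +kernel

set_option maxRecDepth 1000000 in
theorem edges_9_81 : edgesRangeI iota E 9 1869 153229 = true := by decide +kernel

set_option maxRecDepth 1000000 in
theorem edges_10_74 : edgesRangeI iota E 10 2591 180177 = true := by decide +kernel

set_option maxRecDepth 1000000 in
theorem aliases_1 : aliasRange E 7892 5704 = true := by decide +kernel

set_option maxRecDepth 1000000 in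
theorem rows_8 : rowsRange E RS 1500 12000 = true := by decide +kernel

set_option maxRecDepth 1000000 in
theorem rows_38 : rowsRange E RS 1500 57000 = true := by decide +kernel

set_option maxRecDepth 1000000 in
theorem rows_86 : rowsRange E RS 1500 129000 = true := by decide +kernel

set_option maxRecDepth 1000000 in
theorem rows_134 : rowsRange E RS 1500 201000 = true := by decide +kernel

set_option maxRecDepth 1000000 in
theorem rows_182 : rowsRange E RS 1500 273000 = true := by decide +kernel

end Cfsg.Agent.Helper5.FiZATC
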