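import Cfsg.Agent.Helper5.FiZATCDatD
import Cfsg.Agent.Helper5.TCIB

/-! kernel checks of edges, aliases, rows: FiZATC -/

set_option autoImplicit false
set_option Elab.async false

namespace Cfsg.Agent.Helper5.FiZATC
open Cfsg.Agent.Helper5.TC Cfsg.Agent.Helper5.TCI

set_option maxRecDepth 1000000 in
theorem edges_0_92 : edgesRangeI iota E 0 1858 166875 = true := by decide +kernel

set_option maxRecDepth 1000000 in
theorem edges_10_115 : edgesRangeI iota E 10 2591 273559 = true := by decide +kernel

set_option maxRecDepth 1000000 in
theorem edges_1_170 : edgesRangeI iota E 1 1509 303681 = true := by decide +kernel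

set_option maxRecDepth 1000000 in
theorem edges_4_43 : edgesRangeI iota E 4 1971 79226 = true := by decide +kernel

set_option maxRecDepth 1000000 in
theorem edges_6_157 : edgesRangeI iota E 6 1668 290792 = true := by decide +kernel

set_option maxRecDepth 1000000 in
theorem edges_9_23 : edgesRangeI iota E 9 1952 46434 = true := by decide +kernel

set_option maxRecDepth 1000000 in
theorem edges_0_88 : edgesRangeI iota E 0 1922 159144 = true := by decide +kernel

set_option maxRecDepth 1000000 in
theorem edges_2_143 : edgesRangeI iota E 2 1770 265330 = true := by decide +kernel

set_option maxRecDepth 1000000 in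
theorem edges_5_106 : edgesRangeI iota E 5 1889 197039 = true := by decide +kernel

set_option maxRecDepth 1000000 in
theorem edges_7_101 : edgesRangeI iota E 7 1931 189948 = true := by decide +kernel

set_option maxRecDepth 1000000 in
theorem edges_10_108 : edgesRangeI iota E 10 1607 259235 = true := by decide +kernel

set_option maxRecDepth 1000000 in
theorem edges_2_9 : edgesRangeI iota E 2 1791 16093 = true := by decide +kernel

set_option maxRecDepth 1000000 in
theorem edges_4_29 : edgesRangeI iota E 4 1893 52691 = true := by decide +kernel

set_option maxRecDepth 1000000 in
theorem edges_7_26 : edgesRangeI iota E 7 2095 51308 = true := by decide +kernel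

set_option maxRecDepth 1000000 in
theorem edges_9_49 : edgesRangeI iota E 9 1625 95109 = true := by decide +kernel

set_option maxRecDepth 1000000 in
theorem edges_0_55 : edgesRangeI iota E 0 1841 99700 = true := by decide +kernel

set_option maxRecDepth 1000000 in
theorem edges_1_126 : edgesRangeI iota E 1 1739 230500 = true := by decide +kernel

set_option maxRecDepth 1000000 in
theorem edges_3_30 : edgesRangeI iota E 3 1835 56199 = true := by decide +kernel

set_option maxRecDepth 1000000 in
theorem edges_4_118 : edgesRangeI iota E 4 1790 225814 = true := by decide +kernel

set_option maxRecDepth 1000000 in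
theorem edges_6_44 : edgesRangeI iota E 6 1984 84789 = true := by decide +kernel

set_option maxRecDepth 1000000 in
theorem edges_7_133 : edgesRangeI iota E 7 1445 247726 = true := by decide +kernel

set_option maxRecDepth 1000000 in
theorem edges_9_80 : edgesRangeI iota E 9 1686 151543 = true := by decide +kernel

set_option maxRecDepth 1000000 in
theorem edges_11_36 : edgesRangeI iota E 11 2681 96101 = true := by decide +kernel

set_option maxRecDepth 1000000 in
theorem edges_0_135 : edgesRangeI iota E 0 1870 244372 = true := by decide +kernel

set_option maxRecDepth 1000000 in
theorem edges_2_13 : edgesRangeI iota E 2 1776 23273 = true := by decide +kernel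

set_option maxRecDepth 1000000 in
theorem edges_3_100 : edgesRangeI iota E 3 1844 188771 = true := by decide +kernel

set_option maxRecDepth 1000000 in
theorem edges_4_121 : edgesRangeI iota E 4 1777 231259 = true := by decide +kernel

set_option maxRecDepth 1000000 in
theorem edges_5_136 : edgesRangeI iota E 5 1884 254650 = true := by decide +kernel

set_option maxRecDepth 1000000 in
theorem edges_7_65 : edgesRangeI iota E 7 2279 124374 = true := by decide +kernel

set_option maxRecDepth 1000000 in
theorem edges_8_155 : edgesRangeI iota E 8 1915 303797 = true := by decide +kernel

set_option maxRecDepth 1000000 in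
theorem edges_10_54 : edgesRangeI iota E 10 2806 132185 = true := by decide +kernel

set_option maxRecDepth 1000000 in
theorem edges_0_32 : edgesRangeI iota E 0 1768 57843 = true := by decide +kernel

set_option maxRecDepth 1000000 in
theorem edges_1_87 : edgesRangeI iota E 1 1881 159575 = true := by decide +kernel

set_option maxRecDepth 1000000 in
theorem edges_2_146 : edgesRangeI iota E 2 1562 270456 = true := by decide +kernel

set_option maxRecDepth 1000000 in
theorem edges_4_48 : edgesRangeI iota E 4 1847 89151 = true := by decide +kernel

set_option maxRecDepth 1000000 in
theorem edges_5_85 : edgesRangeI iota E 5 1836 156150 = true := by decide +kernel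

set_option maxRecDepth 1000000 in
theorem edges_6_145 : edgesRangeI iota E 6 1552 270335 = true := by decide +kernel

set_option maxRecDepth 1000000 in
theorem edges_7_154 : edgesRangeI iota E 7 1731 284134 = true := by decide +kernel

set_option maxRecDepth 1000000 in
theorem edges_9_79 : edgesRangeI iota E 9 1513 150030 = true := by decide +kernel

set_option maxRecDepth 1000000 in
theorem edges_10_67 : edgesRangeI iota E 10 2836 162989 = true := by decide +kernel

set_option maxRecDepth 1000000 in
theorem aliases_0 : aliasRange E 5704 0 = true := by decide +kernel

set_option maxRecDepth 1000000 in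
theorem rows_7 : rowsRange E RS 1500 10500 = true := by decide +kernel

set_option maxRecDepth 1000000 in
theorem rows_36 : rowsRange E RS 1500 54000 = true := by decide +kernel

set_option maxRecDepth 1000000 in
theorem rows_84 : rowsRange E RS 1500 126000 = true := by decide +kernel

set_option maxRecDepth 1000000 in
theorem rows_132 : rowsRange E RS 1500 198000 = true := by decide +kernel

set_option maxRecDepth 1000000 in
theorem rows_180 : rowsRange E RS 1500 270000 = true := by decide +kernel

end Cfsg.Agent.Helper5.FiZATC
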