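import Cfsg.Agent.Helper5.FiZATCDatD
import Cfsg.Agent.Helper5.TCIB

/-! kernel checks of edges, aliases, rows: FiZATC -/

set_option autoImplicit false
set_option Elab.async false

namespace Cfsg.Agent.Helper5.FiZATC
open Cfsg.Agent.Helper5.TC Cfsg.Agent.Helper5.TCI

set_option maxRecDepth 1000000 in
theorem edges_8_132 : edgesRangeI iota E 8 2107 260808 = true := by decide +kernel

set_option maxRecDepth 1000000 in
theorem edges_10_70 : edgesRangeI iota E 10 1724 170588 = true := by decide +kernel

set_option maxRecDepth 1000000 in
theorem edges_1_152 : edgesRangeI iota E 1 1578 274753 = true := by decide +kernel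

set_option maxRecDepth 1000000 in
theorem edges_4_31 : edgesRangeI iota E 4 1947 56417 = true := by decide +kernel

set_option maxRecDepth 1000000 in
theorem edges_6_143 : edgesRangeI iota E 6 1925 266831 = true := by decide +kernel

set_option maxRecDepth 1000000 in
theorem edges_9_16 : edgesRangeI iota E 9 2092 32976 = true := by decide +kernel

set_option maxRecDepth 1000000 in
theorem edges_0_87 : edgesRangeI iota E 0 1789 157355 = true := by decide +kernel

set_option maxRecDepth 1000000 in
theorem edges_2_142 : edgesRangeI iota E 2 1625 263705 = true := by decide +kernel

set_option maxRecDepth 1000000 in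
theorem edges_5_92 : edgesRangeI iota E 5 1938 169745 = true := by decide +kernel

set_option maxRecDepth 1000000 in
theorem edges_7_95 : edgesRangeI iota E 7 2010 178871 = true := by decide +kernel

set_option maxRecDepth 1000000 in
theorem edges_10_94 : edgesRangeI iota E 10 2790 226545 = true := by decide +kernel

set_option maxRecDepth 1000000 in
theorem edges_2_6 : edgesRangeI iota E 2 1734 10820 = true := by decide +kernel

set_option maxRecDepth 1000000 in
theorem edges_4_25 : edgesRangeI iota E 4 2011 45170 = true := by decide +kernel

set_option maxRecDepth 1000000 in
theorem edges_6_131 : edgesRangeI iota E 6 1745 245719 = true := by decide +kernel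

set_option maxRecDepth 1000000 in
theorem edges_9_40 : edgesRangeI iota E 9 1659 78515 = true := by decide +kernel

set_option maxRecDepth 1000000 in
theorem edges_0_51 : edgesRangeI iota E 0 1780 92348 = true := by decide +kernel

set_option maxRecDepth 1000000 in
theorem edges_1_123 : edgesRangeI iota E 1 1767 225235 = true := by decide +kernel

set_option maxRecDepth 1000000 in
theorem edges_3_23 : edgesRangeI iota E 3 1932 42887 = true := by decide +kernel

set_option maxRecDepth 1000000 in
theorem edges_4_113 : edgesRangeI iota E 4 1843 216451 = true := by decide +kernel

set_option maxRecDepth 1000000 in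
theorem edges_6_43 : edgesRangeI iota E 6 2035 82754 = true := by decide +kernel

set_option maxRecDepth 1000000 in
theorem edges_7_132 : edgesRangeI iota E 7 1598 246128 = true := by decide +kernel

set_option maxRecDepth 1000000 in
theorem edges_9_77 : edgesRangeI iota E 9 1507 146867 = true := by decide +kernel

set_option maxRecDepth 1000000 in
theorem edges_11_33 : edgesRangeI iota E 11 2455 88160 = true := by decide +kernel

set_option maxRecDepth 1000000 in
theorem edges_0_132 : edgesRangeI iota E 0 1856 238822 = true := by decide +kernel

set_option maxRecDepth 1000000 in
theorem edges_2_11 : edgesRangeI iota E 2 1750 19685 = true := by decide +kernel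

set_option maxRecDepth 1000000 in
theorem edges_3_86 : edgesRangeI iota E 3 1857 162622 = true := by decide +kernel

set_option maxRecDepth 1000000 in
theorem edges_4_115 : edgesRangeI iota E 4 1922 220236 = true := by decide +kernel

set_option maxRecDepth 1000000 in
theorem edges_5_135 : edgesRangeI iota E 5 1890 252760 = true := by decide +kernel

set_option maxRecDepth 1000000 in
theorem edges_7_47 : edgesRangeI iota E 7 1972 91485 = true := by decide +kernel

set_option maxRecDepth 1000000 in
theorem edges_8_150 : edgesRangeI iota E 8 2044 295005 = true := by decide +kernel

set_option maxRecDepth 1000000 in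
theorem edges_10_48 : edgesRangeI iota E 10 2860 117451 = true := by decide +kernel

set_option maxRecDepth 1000000 in
theorem edges_0_26 : edgesRangeI iota E 0 1841 46900 = true := by decide +kernel

set_option maxRecDepth 1000000 in
theorem edges_1_86 : edgesRangeI iota E 1 1780 157795 = true := by decide +kernel

set_option maxRecDepth 1000000 in
theorem edges_2_138 : edgesRangeI iota E 2 1787 256834 = true := by decide +kernel

set_option maxRecDepth 1000000 in
theorem edges_4_36 : edgesRangeI iota E 4 1971 65833 = true := by decide +kernel

set_option maxRecDepth 1000000 in
theorem edges_5_83 : edgesRangeI iota E 5 1940 152091 = true := by decide +kernel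

set_option maxRecDepth 1000000 in
theorem edges_6_141 : edgesRangeI iota E 6 1810 263139 = true := by decide +kernel

set_option maxRecDepth 1000000 in
theorem edges_7_153 : edgesRangeI iota E 7 1843 282291 = true := by decide +kernel

set_option maxRecDepth 1000000 in
theorem edges_9_78 : edgesRangeI iota E 9 1656 148374 = true := by decide +kernel

set_option maxRecDepth 1000000 in
theorem edges_10_62 : edgesRangeI iota E 10 3056 150359 = true := by decide +kernel

set_option maxRecDepth 1000000 in
theorem edges_11_124 : edgesRangeI iota E 11 948 306335 = true := by decide +kernel

set_option maxRecDepth 1000000 in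
theorem rows_6 : rowsRange E RS 1500 9000 = true := by decide +kernel

set_option maxRecDepth 1000000 in
theorem rows_35 : rowsRange E RS 1500 52500 = true := by decide +kernel

set_option maxRecDepth 1000000 in
theorem rows_83 : rowsRange E RS 1500 124500 = true := by decide +kernel

set_option maxRecDepth 1000000 in
theorem rows_131 : rowsRange E RS 1500 196500 = true := by decide +kernel

set_option maxRecDepth 1000000 in
theorem rows_179 : rowsRange E RS 1500 268500 = true := by decide +kernel

end Cfsg.Agent.Helper5.FiZATC
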