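import Cfsg.Agent.Helper5.FiZATCDatD
import Cfsg.Agent.Helper5.TCIB

/-! kernel checks of edges, aliases, rows: FiZATC -/

set_option autoImplicit false
set_option Elab.async false

namespace Cfsg.Agent.Helper5.FiZATC
open Cfsg.Agent.Helper5.TC Cfsg.Agent.Helper5.TCI

set_option maxRecDepth 1000000 in
theorem edges_4_140 : edgesRangeI iota E 4 1836 265300 = true := by decide +kernel

set_option maxRecDepth 1000000 in
theorem edges_10_18 : edgesRangeI iota E 10 2586 45691 = true := by decide +kernel

set_option maxRecDepth 1000000 in
theorem edges_1_149 : edgesRangeI iota E 1 1555 270007 = true := by decide +kernel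

set_option maxRecDepth 1000000 in
theorem edges_4_23 : edgesRangeI iota E 4 1823 41578 = true := by decide +kernel

set_option maxRecDepth 1000000 in
theorem edges_6_140 : edgesRangeI iota E 6 1916 261223 = true := by decide +kernel

set_option maxRecDepth 1000000 in
theorem edges_9_15 : edgesRangeI iota E 9 2177 30799 = true := by decide +kernel

set_option maxRecDepth 1000000 in
theorem edges_0_86 : edgesRangeI iota E 0 1732 155623 = true := by decide +kernel

set_option maxRecDepth 1000000 in
theorem edges_2_141 : edgesRangeI iota E 2 1695 262010 = true := by decide +kernel

set_option maxRecDepth 1000000 in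
theorem edges_5_86 : edgesRangeI iota E 5 1765 157986 = true := by decide +kernel

set_option maxRecDepth 1000000 in
theorem edges_7_91 : edgesRangeI iota E 7 1562 172076 = true := by decide +kernel

set_option maxRecDepth 1000000 in
theorem edges_10_60 : edgesRangeI iota E 10 2272 146609 = true := by decide +kernel

set_option maxRecDepth 1000000 in
theorem edges_1_164 : edgesRangeI iota E 1 1697 294201 = true := by decide +kernel

set_option maxRecDepth 1000000 in
theorem edges_4_21 : edgesRangeI iota E 4 1788 37910 = true := by decide +kernel

set_option maxRecDepth 1000000 in
theorem edges_6_120 : edgesRangeI iota E 6 1789 225454 = true := by decide +kernel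

set_option maxRecDepth 1000000 in
theorem edges_9_39 : edgesRangeI iota E 9 1721 76794 = true := by decide +kernel

set_option maxRecDepth 1000000 in
theorem edges_0_41 : edgesRangeI iota E 0 1811 74243 = true := by decide +kernel

set_option maxRecDepth 1000000 in
theorem edges_1_119 : edgesRangeI iota E 1 1835 218073 = true := by decide +kernel

set_option maxRecDepth 1000000 in
theorem edges_3_19 : edgesRangeI iota E 3 1963 35332 = true := by decide +kernel

set_option maxRecDepth 1000000 in
theorem edges_4_110 : edgesRangeI iota E 4 2006 210516 = true := by decide +kernel

set_option maxRecDepth 1000000 in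
theorem edges_6_30 : edgesRangeI iota E 6 1889 57708 = true := by decide +kernel

set_option maxRecDepth 1000000 in
theorem edges_7_123 : edgesRangeI iota E 7 1968 229287 = true := by decide +kernel

set_option maxRecDepth 1000000 in
theorem edges_9_73 : edgesRangeI iota E 9 1882 138249 = true := by decide +kernel

set_option maxRecDepth 1000000 in
theorem edges_11_21 : edgesRangeI iota E 11 2682 55774 = true := by decide +kernel

set_option maxRecDepth 1000000 in
theorem edges_0_128 : edgesRangeI iota E 0 1751 231567 = true := by decide +kernel

set_option maxRecDepth 1000000 in
theorem edges_2_1 : edgesRangeI iota E 2 1851 1778 = true := by decide +kernel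

set_option maxRecDepth 1000000 in
theorem edges_3_85 : edgesRangeI iota E 3 2031 160591 = true := by decide +kernel

set_option maxRecDepth 1000000 in
theorem edges_4_112 : edgesRangeI iota E 4 1977 214474 = true := by decide +kernel

set_option maxRecDepth 1000000 in
theorem edges_5_133 : edgesRangeI iota E 5 1690 249312 = true := by decide +kernel

set_option maxRecDepth 1000000 in
theorem edges_7_39 : edgesRangeI iota E 7 1657 76500 = true := by decide +kernel

set_option maxRecDepth 1000000 in
theorem edges_8_149 : edgesRangeI iota E 8 1938 293067 = true := by decide +kernel

set_option maxRecDepth 1000000 in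
theorem edges_10_45 : edgesRangeI iota E 10 2725 110833 = true := by decide +kernel

set_option maxRecDepth 1000000 in
theorem edges_0_14 : edgesRangeI iota E 0 1826 25168 = true := by decide +kernel

set_option maxRecDepth 1000000 in
theorem edges_1_79 : edgesRangeI iota E 1 1849 145101 = true := by decide +kernel

set_option maxRecDepth 1000000 in
theorem edges_2_137 : edgesRangeI iota E 2 1659 255175 = true := by decide +kernel

set_option maxRecDepth 1000000 in
theorem edges_4_35 : edgesRangeI iota E 4 1932 63901 = true := by decide +kernel

set_option maxRecDepth 1000000 in
theorem edges_5_77 : edgesRangeI iota E 5 2171 140715 = true := by decide +kernel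

set_option maxRecDepth 1000000 in
theorem edges_6_133 : edgesRangeI iota E 6 1630 249012 = true := by decide +kernel

set_option maxRecDepth 1000000 in
theorem edges_7_151 : edgesRangeI iota E 7 1624 278770 = true := by decide +kernel

set_option maxRecDepth 1000000 in
theorem edges_9_75 : edgesRangeI iota E 9 2419 142708 = true := by decide +kernel

set_option maxRecDepth 1000000 in
theorem edges_10_61 : edgesRangeI iota E 10 1478 148881 = true := by decide +kernel

set_option maxRecDepth 1000000 in
theorem edges_11_122 : edgesRangeI iota E 11 1176 304068 = true := by decide +kernel

set_option maxRecDepth 1000000 in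
theorem rows_5 : rowsRange E RS 1500 7500 = true := by decide +kernel

set_option maxRecDepth 1000000 in
theorem rows_34 : rowsRange E RS 1500 51000 = true := by decide +kernel

set_option maxRecDepth 1000000 in
theorem rows_82 : rowsRange E RS 1500 123000 = true := by decide +kernel

set_option maxRecDepth 1000000 in
theorem rows_130 : rowsRange E RS 1500 195000 = true := by decide +kernel

set_option maxRecDepth 1000000 in
theorem rows_178 : rowsRange E RS 1500 267000 = true := by decide +kernel

end Cfsg.Agent.Helper5.FiZATC
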