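import Cfsg.Agent.Helper5.FiZATCDatD
import Cfsg.Agent.Helper5.TCIB

/-! kernel checks of edges, aliases, rows: FiZATC -/

set_option autoImplicit false
set_option Elab.async false

namespace Cfsg.Agent.Helper5.FiZATC
open Cfsg.Agent.Helper5.TC Cfsg.Agent.Helper5.TCI

set_option maxRecDepth 1000000 in
theorem edges_0_160 : edgesRangeI iota E 0 1571 287070 = true := by decide +kernel

set_option maxRecDepth 1000000 in
theorem edges_10_11 : edgesRangeI iota E 10 2763 28117 = true := by decide +kernel

set_option maxRecDepth 1000000 in
theorem edges_1_138 : edgesRangeI iota E 1 1663 251407 = true := by decide +kernel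

set_option maxRecDepth 1000000 in
theorem edges_4_16 : edgesRangeI iota E 4 1827 28802 = true := by decide +kernel

set_option maxRecDepth 1000000 in
theorem edges_6_137 : edgesRangeI iota E 6 1742 255892 = true := by decide +kernel

set_option maxRecDepth 1000000 in
theorem edges_9_6 : edgesRangeI iota E 9 1919 12924 = true := by decide +kernel

set_option maxRecDepth 1000000 in
theorem edges_0_74 : edgesRangeI iota E 0 1797 133832 = true := by decide +kernel

set_option maxRecDepth 1000000 in
theorem edges_2_122 : edgesRangeI iota E 2 1745 228595 = true := by decide +kernel

set_option maxRecDepth 1000000 in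
theorem edges_5_84 : edgesRangeI iota E 5 2119 154031 = true := by decide +kernel

set_option maxRecDepth 1000000 in
theorem edges_7_80 : edgesRangeI iota E 7 1661 151798 = true := by decide +kernel

set_option maxRecDepth 1000000 in
theorem edges_10_46 : edgesRangeI iota E 10 1989 113558 = true := by decide +kernel

set_option maxRecDepth 1000000 in
theorem edges_1_157 : edgesRangeI iota E 1 1684 283038 = true := by decide +kernel

set_option maxRecDepth 1000000 in
theorem edges_3_166 : edgesRangeI iota E 3 1458 302765 = true := by decide +kernel

set_option maxRecDepth 1000000 in
theorem edges_6_119 : edgesRangeI iota E 6 1661 223793 = true := by decide +kernel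

set_option maxRecDepth 1000000 in
theorem edges_9_36 : edgesRangeI iota E 9 1726 71353 = true := by decide +kernel

set_option maxRecDepth 1000000 in
theorem edges_0_36 : edgesRangeI iota E 0 1877 65075 = true := by decide +kernel

set_option maxRecDepth 1000000 in
theorem edges_1_109 : edgesRangeI iota E 1 1815 200051 = true := by decide +kernel

set_option maxRecDepth 1000000 in
theorem edges_3_15 : edgesRangeI iota E 3 1952 27700 = true := by decide +kernel

set_option maxRecDepth 1000000 in
theorem edges_4_104 : edgesRangeI iota E 4 1817 199217 = true := by decide +kernel

set_option maxRecDepth 1000000 in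
theorem edges_6_21 : edgesRangeI iota E 6 2034 40025 = true := by decide +kernel

set_option maxRecDepth 1000000 in
theorem edges_7_119 : edgesRangeI iota E 7 1475 222744 = true := by decide +kernel

set_option maxRecDepth 1000000 in
theorem edges_9_72 : edgesRangeI iota E 9 1648 136601 = true := by decide +kernel

set_option maxRecDepth 1000000 in
theorem edges_11_9 : edgesRangeI iota E 11 2712 23300 = true := by decide +kernel

set_option maxRecDepth 1000000 in
theorem edges_0_126 : edgesRangeI iota E 0 1783 228042 = true := by decide +kernel

set_option maxRecDepth 1000000 in
theorem edges_1_171 : edgesRangeI iota E 1 1558 305190 = true := by decide +kernel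

set_option maxRecDepth 1000000 in
theorem edges_3_81 : edgesRangeI iota E 3 1870 153080 = true := by decide +kernel

set_option maxRecDepth 1000000 in
theorem edges_4_109 : edgesRangeI iota E 4 1979 208537 = true := by decide +kernel

set_option maxRecDepth 1000000 in
theorem edges_5_131 : edgesRangeI iota E 5 2046 245437 = true := by decide +kernel

set_option maxRecDepth 1000000 in
theorem edges_7_38 : edgesRangeI iota E 7 1931 74569 = true := by decide +kernel

set_option maxRecDepth 1000000 in
theorem edges_8_141 : edgesRangeI iota E 8 1914 278027 = true := by decide +kernel

set_option maxRecDepth 1000000 in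
theorem edges_10_41 : edgesRangeI iota E 10 2169 101485 = true := by decide +kernel

set_option maxRecDepth 1000000 in
theorem edges_0_8 : edgesRangeI iota E 0 1860 14344 = true := by decide +kernel

set_option maxRecDepth 1000000 in
theorem edges_1_77 : edgesRangeI iota E 1 1924 141309 = true := by decide +kernel

set_option maxRecDepth 1000000 in
theorem edges_2_131 : edgesRangeI iota E 2 1866 244850 = true := by decide +kernel

set_option maxRecDepth 1000000 in
theorem edges_4_30 : edgesRangeI iota E 4 1833 54584 = true := by decide +kernel

set_option maxRecDepth 1000000 in
theorem edges_5_74 : edgesRangeI iota E 5 1738 135084 = true := by decide +kernel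

set_option maxRecDepth 1000000 in
theorem edges_6_128 : edgesRangeI iota E 6 1890 239861 = true := by decide +kernel

set_option maxRecDepth 1000000 in
theorem edges_7_150 : edgesRangeI iota E 7 1799 276971 = true := by decide +kernel

set_option maxRecDepth 1000000 in
theorem edges_9_45 : edgesRangeI iota E 9 1820 88023 = true := by decide +kernel

set_option maxRecDepth 1000000 in
theorem edges_10_58 : edgesRangeI iota E 10 2966 141690 = true := by decide +kernel

set_option maxRecDepth 1000000 in
theorem edges_11_120 : edgesRangeI iota E 11 1710 300917 = true := by decide +kernel

set_option maxRecDepth 1000000 in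
theorem rows_4 : rowsRange E RS 1500 6000 = true := by decide +kernel

set_option maxRecDepth 1000000 in
theorem rows_33 : rowsRange E RS 1500 49500 = true := by decide +kernel

set_option maxRecDepth 1000000 in
theorem rows_81 : rowsRange E RS 1500 121500 = true := by decide +kernel

set_option maxRecDepth 1000000 in
theorem rows_129 : rowsRange E RS 1500 193500 = true := by decide +kernel

set_option maxRecDepth 1000000 in
theorem rows_177 : rowsRange E RS 1500 265500 = true := by decide +kernel

end Cfsg.Agent.Helper5.FiZATC
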