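import Cfsg.Agent.Helper5.FiZATCDatD
import Cfsg.Agent.Helper5.TCIB

/-! kernel checks of edges, aliases, rows: FiZATC -/

set_option autoImplicit false
set_option Elab.async false

namespace Cfsg.Agent.Helper5.FiZATC
open Cfsg.Agent.Helper5.TC Cfsg.Agent.Helper5.TCI

set_option maxRecDepth 1000000 in
theorem edges_11_108 : edgesRangeI iota E 11 2175 279846 = true := by decide +kernel

set_option maxRecDepth 1000000 in
theorem edges_9_17 : edgesRangeI iota E 9 1643 35068 = true := by decide +kernel

set_option maxRecDepth 1000000 in
theorem edges_1_135 : edgesRangeI iota E 1 1688 246359 = true := by decide +kernel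

set_option maxRecDepth 1000000 in
theorem edges_4_15 : edgesRangeI iota E 4 1843 26959 = true := by decide +kernel

set_option maxRecDepth 1000000 in
theorem edges_6_111 : edgesRangeI iota E 6 1752 208850 = true := by decide +kernel

set_option maxRecDepth 1000000 in
theorem edges_9_5 : edgesRangeI iota E 9 2094 10830 = true := by decide +kernel

set_option maxRecDepth 1000000 in
theorem edges_0_69 : edgesRangeI iota E 0 1770 125079 = true := by decide +kernel

set_option maxRecDepth 1000000 in
theorem edges_2_118 : edgesRangeI iota E 2 1814 221523 = true := by decide +kernel

set_option maxRecDepth 1000000 in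
theorem edges_5_53 : edgesRangeI iota E 5 1866 96133 = true := by decide +kernel

set_option maxRecDepth 1000000 in
theorem edges_7_71 : edgesRangeI iota E 7 1645 135333 = true := by decide +kernel

set_option maxRecDepth 1000000 in
theorem edges_10_37 : edgesRangeI iota E 10 2822 91746 = true := by decide +kernel

set_option maxRecDepth 1000000 in
theorem edges_1_145 : edgesRangeI iota E 1 1770 263170 = true := by decide +kernel

set_option maxRecDepth 1000000 in
theorem edges_3_162 : edgesRangeI iota E 3 1432 296522 = true := by decide +kernel

set_option maxRecDepth 1000000 in
theorem edges_6_102 : edgesRangeI iota E 6 1847 192736 = true := by decide +kernel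

set_option maxRecDepth 1000000 in
theorem edges_9_21 : edgesRangeI iota E 9 1856 42981 = true := by decide +kernel

set_option maxRecDepth 1000000 in
theorem edges_0_33 : edgesRangeI iota E 0 1838 59611 = true := by decide +kernel

set_option maxRecDepth 1000000 in
theorem edges_1_107 : edgesRangeI iota E 1 1776 196509 = true := by decide +kernel

set_option maxRecDepth 1000000 in
theorem edges_3_13 : edgesRangeI iota E 3 1833 23866 = true := by decide +kernel

set_option maxRecDepth 1000000 in
theorem edges_4_102 : edgesRangeI iota E 4 1957 195328 = true := by decide +kernel

set_option maxRecDepth 1000000 in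
theorem edges_6_11 : edgesRangeI iota E 6 2056 20557 = true := by decide +kernel

set_option maxRecDepth 1000000 in
theorem edges_7_111 : edgesRangeI iota E 7 1684 207859 = true := by decide +kernel

set_option maxRecDepth 1000000 in
theorem edges_9_68 : edgesRangeI iota E 9 1870 129843 = true := by decide +kernel

set_option maxRecDepth 1000000 in
theorem edges_11_4 : edgesRangeI iota E 11 2567 10204 = true := by decide +kernel

set_option maxRecDepth 1000000 in
theorem edges_0_125 : edgesRangeI iota E 0 1710 226332 = true := by decide +kernel

set_option maxRecDepth 1000000 in
theorem edges_1_166 : edgesRangeI iota E 1 1497 297468 = true := by decide +kernel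

set_option maxRecDepth 1000000 in
theorem edges_3_80 : edgesRangeI iota E 3 1847 151233 = true := by decide +kernel

set_option maxRecDepth 1000000 in
theorem edges_4_108 : edgesRangeI iota E 4 1813 206724 = true := by decide +kernel

set_option maxRecDepth 1000000 in
theorem edges_5_128 : edgesRangeI iota E 5 1891 239495 = true := by decide +kernel

set_option maxRecDepth 1000000 in
theorem edges_7_35 : edgesRangeI iota E 7 2175 68696 = true := by decide +kernel

set_option maxRecDepth 1000000 in
theorem edges_8_137 : edgesRangeI iota E 8 1598 271049 = true := by decide +kernel

set_option maxRecDepth 1000000 in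
theorem edges_10_38 : edgesRangeI iota E 10 1788 94568 = true := by decide +kernel

set_option maxRecDepth 1000000 in
theorem edges_0_5 : edgesRangeI iota E 0 1781 9028 = true := by decide +kernel

set_option maxRecDepth 1000000 in
theorem edges_1_74 : edgesRangeI iota E 1 1823 135606 = true := by decide +kernel

set_option maxRecDepth 1000000 in
theorem edges_2_124 : edgesRangeI iota E 2 1896 232085 = true := by decide +kernel

set_option maxRecDepth 1000000 in
theorem edges_4_28 : edgesRangeI iota E 4 1920 50771 = true := by decide +kernel

set_option maxRecDepth 1000000 in
theorem edges_5_73 : edgesRangeI iota E 5 1827 133257 = true := by decide +kernel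

set_option maxRecDepth 1000000 in
theorem edges_6_125 : edgesRangeI iota E 6 1793 234267 = true := by decide +kernel

set_option maxRecDepth 1000000 in
theorem edges_7_146 : edgesRangeI iota E 7 1484 270345 = true := by decide +kernel

set_option maxRecDepth 1000000 in
theorem edges_9_42 : edgesRangeI iota E 9 2507 82515 = true := by decide +kernel

set_option maxRecDepth 1000000 in
theorem edges_10_56 : edgesRangeI iota E 10 2060 136806 = true := by decide +kernel

set_option maxRecDepth 1000000 in
theorem edges_11_116 : edgesRangeI iota E 11 1863 295005 = true := by decide +kernel

set_option maxRecDepth 1000000 in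
theorem rows_3 : rowsRange E RS 1500 4500 = true := by decide +kernel

set_option maxRecDepth 1000000 in
theorem rows_32 : rowsRange E RS 1500 48000 = true := by decide +kernel

set_option maxRecDepth 1000000 in
theorem rows_80 : rowsRange E RS 1500 120000 = true := by decide +kernel

set_option maxRecDepth 1000000 in
theorem rows_128 : rowsRange E RS 1500 192000 = true := by decide +kernel

set_option maxRecDepth 1000000 in
theorem rows_176 : rowsRange E RS 1500 264000 = true := by decide +kernel

end Cfsg.Agent.Helper5.FiZATC
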