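import Cfsg.Agent.Helper5.FiZATCDatD
import Cfsg.Agent.Helper5.TCIB

/-! kernel checks of edges, aliases, rows: FiZATC -/

set_option autoImplicit false
set_option Elab.async false

namespace Cfsg.Agent.Helper5.FiZATC
open Cfsg.Agent.Helper5.TC Cfsg.Agent.Helper5.TCI

set_option maxRecDepth 1000000 in
theorem edges_8_83 : edgesRangeI iota E 8 2044 161494 = true := by decide +kernel

set_option maxRecDepth 1000000 in
theorem edges_8_112 : edgesRangeI iota E 8 1876 221423 = true := by decide +kernel

set_option maxRecDepth 1000000 in
theorem edges_1_108 : edgesRangeI iota E 1 1766 198285 = true := by decide +kernel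

set_option maxRecDepth 1000000 in
theorem edges_4_10 : edgesRangeI iota E 4 1835 17952 = true := by decide +kernel

set_option maxRecDepth 1000000 in
theorem edges_6_103 : edgesRangeI iota E 6 1973 194583 = true := by decide +kernel

set_option maxRecDepth 1000000 in
theorem edges_8_152 : edgesRangeI iota E 8 1465 298679 = true := by decide +kernel

set_option maxRecDepth 1000000 in
theorem edges_0_23 : edgesRangeI iota E 0 1868 41515 = true := by decide +kernel

set_option maxRecDepth 1000000 in
theorem edges_2_113 : edgesRangeI iota E 2 1889 211964 = true := by decide +kernel

set_option maxRecDepth 1000000 in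
theorem edges_5_25 : edgesRangeI iota E 5 1857 45332 = true := by decide +kernel

set_option maxRecDepth 1000000 in
theorem edges_7_67 : edgesRangeI iota E 7 1673 128323 = true := by decide +kernel

set_option maxRecDepth 1000000 in
theorem edges_10_0 : edgesRangeI iota E 10 2646 0 = true := by decide +kernel

set_option maxRecDepth 1000000 in
theorem edges_1_131 : edgesRangeI iota E 1 1788 239214 = true := by decide +kernel

set_option maxRecDepth 1000000 in
theorem edges_3_159 : edgesRangeI iota E 3 1565 291667 = true := by decide +kernel

set_option maxRecDepth 1000000 in
theorem edges_6_90 : edgesRangeI iota E 6 1946 170662 = true := by decide +kernel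

set_option maxRecDepth 1000000 in
theorem edges_9_3 : edgesRangeI iota E 9 2089 6562 = true := by decide +kernel

set_option maxRecDepth 1000000 in
theorem edges_0_28 : edgesRangeI iota E 0 1900 50521 = true := by decide +kernel

set_option maxRecDepth 1000000 in
theorem edges_1_104 : edgesRangeI iota E 1 1793 191061 = true := by decide +kernel

set_option maxRecDepth 1000000 in
theorem edges_3_0 : edgesRangeI iota E 3 1813 0 = true := by decide +kernel

set_option maxRecDepth 1000000 in
theorem edges_4_91 : edgesRangeI iota E 4 1848 173921 = true := by decide +kernel

set_option maxRecDepth 1000000 in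
theorem edges_5_158 : edgesRangeI iota E 5 1758 293677 = true := by decide +kernel

set_option maxRecDepth 1000000 in
theorem edges_7_83 : edgesRangeI iota E 7 1530 157220 = true := by decide +kernel

set_option maxRecDepth 1000000 in
theorem edges_9_63 : edgesRangeI iota E 9 2425 120941 = true := by decide +kernel

set_option maxRecDepth 1000000 in
theorem edges_10_116 : edgesRangeI iota E 10 2137 276150 = true := by decide +kernel

set_option maxRecDepth 1000000 in
theorem edges_0_119 : edgesRangeI iota E 0 1856 215687 = true := by decide +kernel

set_option maxRecDepth 1000000 in
theorem edges_1_159 : edgesRangeI iota E 1 1475 286354 = true := by decide +kernel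

set_option maxRecDepth 1000000 in
theorem edges_3_69 : edgesRangeI iota E 3 1838 130153 = true := by decide +kernel

set_option maxRecDepth 1000000 in
theorem edges_4_100 : edgesRangeI iota E 4 1951 191547 = true := by decide +kernel

set_option maxRecDepth 1000000 in
theorem edges_5_122 : edgesRangeI iota E 5 1957 227890 = true := by decide +kernel

set_option maxRecDepth 1000000 in
theorem edges_7_28 : edgesRangeI iota E 7 2321 55200 = true := by decide +kernel

set_option maxRecDepth 1000000 in
theorem edges_8_131 : edgesRangeI iota E 8 1874 258934 = true := by decide +kernel

set_option maxRecDepth 1000000 in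
theorem edges_10_25 : edgesRangeI iota E 10 1915 63044 = true := by decide +kernel

set_option maxRecDepth 1000000 in
theorem edges_11_112 : edgesRangeI iota E 11 1521 287879 = true := by decide +kernel

set_option maxRecDepth 1000000 in
theorem edges_1_73 : edgesRangeI iota E 1 1806 133800 = true := by decide +kernel

set_option maxRecDepth 1000000 in
theorem edges_2_123 : edgesRangeI iota E 2 1745 230340 = true := by decide +kernel

set_option maxRecDepth 1000000 in
theorem edges_4_27 : edgesRangeI iota E 4 1767 49004 = true := by decide +kernel

set_option maxRecDepth 1000000 in
theorem edges_5_69 : edgesRangeI iota E 5 1851 125791 = true := by decide +kernel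

set_option maxRecDepth 1000000 in
theorem edges_6_123 : edgesRangeI iota E 6 1808 230707 = true := by decide +kernel

set_option maxRecDepth 1000000 in
theorem edges_7_143 : edgesRangeI iota E 7 1790 265270 = true := by decide +kernel

set_option maxRecDepth 1000000 in
theorem edges_9_38 : edgesRangeI iota E 9 1889 74905 = true := by decide +kernel

set_option maxRecDepth 1000000 in
theorem edges_10_55 : edgesRangeI iota E 10 1815 134991 = true := by decide +kernel

set_option maxRecDepth 1000000 in
theorem edges_11_95 : edgesRangeI iota E 11 2346 250839 = true := by decide +kernel

set_option maxRecDepth 1000000 in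
theorem rows_2 : rowsRange E RS 1500 3000 = true := by decide +kernel

set_option maxRecDepth 1000000 in
theorem rows_31 : rowsRange E RS 1500 46500 = true := by decide +kernel

set_option maxRecDepth 1000000 in
theorem rows_79 : rowsRange E RS 1500 118500 = true := by decide +kernel

set_option maxRecDepth 1000000 in
theorem rows_127 : rowsRange E RS 1500 190500 = true := by decide +kernel

set_option maxRecDepth 1000000 in
theorem rows_175 : rowsRange E RS 1500 262500 = true := by decide +kernel

end Cfsg.Agent.Helper5.FiZATC
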