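import Cfsg.Agent.Helper5.FiZATCDatD
import Cfsg.Agent.Helper5.TCIB

/-! kernel checks of edges, aliases, rows: FiZATC -/

set_option autoImplicit false
set_option Elab.async false

namespace Cfsg.Agent.Helper5.FiZATC
open Cfsg.Agent.Helper5.TC Cfsg.Agent.Helper5.TCI

set_option maxRecDepth 1000000 in
theorem edges_8_122 : edgesRangeI iota E 8 2176 241286 = true := by decide +kernel

set_option maxRecDepth 1000000 in
theorem edges_9_7 : edgesRangeI iota E 9 2075 14843 = true := by decide +kernel

set_option maxRecDepth 1000000 in
theorem edges_1_133 : edgesRangeI iota E 1 1807 242747 = true := by decide +kernel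

set_option maxRecDepth 1000000 in
theorem edges_4_11 : edgesRangeI iota E 4 1741 19787 = true := by decide +kernel

set_option maxRecDepth 1000000 in
theorem edges_6_109 : edgesRangeI iota E 6 1819 205240 = true := by decide +kernel

set_option maxRecDepth 1000000 in
theorem edges_9_0 : edgesRangeI iota E 9 2155 0 = true := by decide +kernel

set_option maxRecDepth 1000000 in
theorem edges_0_52 : edgesRangeI iota E 0 1796 94128 = true := by decide +kernel

set_option maxRecDepth 1000000 in
theorem edges_2_115 : edgesRangeI iota E 2 1849 215709 = true := by decide +kernel

set_option maxRecDepth 1000000 in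
theorem edges_5_31 : edgesRangeI iota E 5 1771 56209 = true := by decide +kernel

set_option maxRecDepth 1000000 in
theorem edges_7_68 : edgesRangeI iota E 7 1719 129996 = true := by decide +kernel

set_option maxRecDepth 1000000 in
theorem edges_10_26 : edgesRangeI iota E 10 2985 64959 = true := by decide +kernel

set_option maxRecDepth 1000000 in
theorem edges_1_140 : edgesRangeI iota E 1 1707 254714 = true := by decide +kernel

set_option maxRecDepth 1000000 in
theorem edges_3_161 : edgesRangeI iota E 3 1621 294901 = true := by decide +kernel

set_option maxRecDepth 1000000 in
theorem edges_6_91 : edgesRangeI iota E 6 1679 172608 = true := by decide +kernel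

set_option maxRecDepth 1000000 in
theorem edges_9_14 : edgesRangeI iota E 9 1928 28871 = true := by decide +kernel

set_option maxRecDepth 1000000 in
theorem edges_0_30 : edgesRangeI iota E 0 1800 54257 = true := by decide +kernel

set_option maxRecDepth 1000000 in
theorem edges_1_106 : edgesRangeI iota E 1 1826 194683 = true := by decide +kernel

set_option maxRecDepth 1000000 in
theorem edges_3_10 : edgesRangeI iota E 3 1829 18221 = true := by decide +kernel

set_option maxRecDepth 1000000 in
theorem edges_4_99 : edgesRangeI iota E 4 1972 189575 = true := by decide +kernel

set_option maxRecDepth 1000000 in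
theorem edges_5_163 : edgesRangeI iota E 5 1643 302170 = true := by decide +kernel

set_option maxRecDepth 1000000 in
theorem edges_7_86 : edgesRangeI iota E 7 1903 162440 = true := by decide +kernel

set_option maxRecDepth 1000000 in
theorem edges_9_67 : edgesRangeI iota E 9 1538 128305 = true := by decide +kernel

set_option maxRecDepth 1000000 in
theorem edges_10_130 : edgesRangeI iota E 10 1887 303203 = true := by decide +kernel

set_option maxRecDepth 1000000 in
theorem edges_0_120 : edgesRangeI iota E 0 1885 217543 = true := by decide +kernel

set_option maxRecDepth 1000000 in
theorem edges_1_160 : edgesRangeI iota E 1 1567 287829 = true := by decide +kernel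

set_option maxRecDepth 1000000 in
theorem edges_3_76 : edgesRangeI iota E 3 2050 143609 = true := by decide +kernel

set_option maxRecDepth 1000000 in
theorem edges_4_106 : edgesRangeI iota E 4 1894 202941 = true := by decide +kernel

set_option maxRecDepth 1000000 in
theorem edges_5_126 : edgesRangeI iota E 5 1926 235592 = true := by decide +kernel

set_option maxRecDepth 1000000 in
theorem edges_7_29 : edgesRangeI iota E 7 1731 57521 = true := by decide +kernel

set_option maxRecDepth 1000000 in
theorem edges_8_135 : edgesRangeI iota E 8 2189 267175 = true := by decide +kernel

set_option maxRecDepth 1000000 in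
theorem edges_10_29 : edgesRangeI iota E 10 2306 72699 = true := by decide +kernel

set_option maxRecDepth 1000000 in
theorem edges_0_0 : edgesRangeI iota E 0 1729 0 = true := by decide +kernel

set_option maxRecDepth 1000000 in
theorem edges_0_159 : edgesRangeI iota E 0 1499 285571 = true := by decide +kernel

set_option maxRecDepth 1000000 in
theorem edges_2_56 : edgesRangeI iota E 2 1831 104150 = true := by decide +kernel

set_option maxRecDepth 1000000 in
theorem edges_3_98 : edgesRangeI iota E 3 1941 185011 = true := by decide +kernel

set_option maxRecDepth 1000000 in
theorem edges_4_156 : edgesRangeI iota E 4 1618 291628 = true := by decide +kernel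

set_option maxRecDepth 1000000 in
theorem edges_6_50 : edgesRangeI iota E 6 1952 95986 = true := by decide +kernel

set_option maxRecDepth 1000000 in
theorem edges_7_73 : edgesRangeI iota E 7 1914 138852 = true := by decide +kernel

set_option maxRecDepth 1000000 in
theorem edges_8_114 : edgesRangeI iota E 8 1960 224990 = true := by decide +kernel

set_option maxRecDepth 1000000 in
theorem edges_10_14 : edgesRangeI iota E 10 2591 35751 = true := by decide +kernel

set_option maxRecDepth 1000000 in
theorem edges_11_35 : edgesRangeI iota E 11 2802 93299 = true := by decide +kernel

set_option maxRecDepth 1000000 in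
theorem aliases_28 : aliasRange E 8000 221434 = true := by decide +kernel

set_option maxRecDepth 1000000 in
theorem rows_67 : rowsRange E RS 1500 100500 = true := by decide +kernel

set_option maxRecDepth 1000000 in
theorem rows_115 : rowsRange E RS 1500 172500 = true := by decide +kernel

set_option maxRecDepth 1000000 in
theorem rows_163 : rowsRange E RS 1500 244500 = true := by decide +kernel

set_option maxRecDepth 1000000 in
theorem edges_4_166 : edgesRangeI iota E 4 420 307184 = true := by decide +kernel

end Cfsg.Agent.Helper5.FiZATC
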