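import Cfsg.Agent.Helper5.FiZATCDatD
import Cfsg.Agent.Helper5.TCIB

/-! kernel checks of edges, aliases, rows: FiZATC -/

set_option autoImplicit false
set_option Elab.async false

namespace Cfsg.Agent.Helper5.FiZATC
open Cfsg.Agent.Helper5.TC Cfsg.Agent.Helper5.TCI

set_option maxRecDepth 1000000 in
theorem edges_0_18 : edgesRangeI iota E 0 1841 32424 = true := by decide +kernel

set_option maxRecDepth 1000000 in
theorem edges_11_102 : edgesRangeI iota E 11 2293 267788 = true := by decide +kernel

set_option maxRecDepth 1000000 in
theorem edges_1_72 : edgesRangeI iota E 1 1848 131952 = true := by decide +kernel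

set_option maxRecDepth 1000000 in
theorem edges_3_156 : edgesRangeI iota E 3 1509 286835 = true := by decide +kernel

set_option maxRecDepth 1000000 in
theorem edges_6_80 : edgesRangeI iota E 6 1750 152170 = true := by decide +kernel

set_option maxRecDepth 1000000 in
theorem edges_8_121 : edgesRangeI iota E 8 2205 239081 = true := by decide +kernel

set_option maxRecDepth 1000000 in
theorem edges_0_4 : edgesRangeI iota E 0 1734 7294 = true := by decide +kernel

set_option maxRecDepth 1000000 in
theorem edges_1_113 : edgesRangeI iota E 1 1786 207215 = true := by decide +kernel

set_option maxRecDepth 1000000 in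
theorem edges_3_145 : edgesRangeI iota E 3 1533 268865 = true := by decide +kernel

set_option maxRecDepth 1000000 in
theorem edges_6_73 : edgesRangeI iota E 6 1863 139004 = true := by decide +kernel

set_option maxRecDepth 1000000 in
theorem edges_8_140 : edgesRangeI iota E 8 1656 276371 = true := by decide +kernel

set_option maxRecDepth 1000000 in
theorem edges_0_101 : edgesRangeI iota E 0 1842 182721 = true := by decide +kernel

set_option maxRecDepth 1000000 in
theorem edges_3_48 : edgesRangeI iota E 3 1804 90188 = true := by decide +kernel

set_option maxRecDepth 1000000 in
theorem edges_5_51 : edgesRangeI iota E 5 1829 92593 = true := by decide +kernel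

set_option maxRecDepth 1000000 in
theorem edges_8_6 : edgesRangeI iota E 8 1935 12106 = true := by decide +kernel

set_option maxRecDepth 1000000 in
theorem edges_11_8 : edgesRangeI iota E 11 2548 20752 = true := by decide +kernel

set_option maxRecDepth 1000000 in
theorem edges_1_28 : edgesRangeI iota E 1 1957 50130 = true := by decide +kernel

set_option maxRecDepth 1000000 in
theorem edges_2_103 : edgesRangeI iota E 2 1886 193417 = true := by decide +kernel

set_option maxRecDepth 1000000 in
theorem edges_4_5 : edgesRangeI iota E 4 1808 8946 = true := by decide +kernel

set_option maxRecDepth 1000000 in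
theorem edges_5_107 : edgesRangeI iota E 5 1696 198928 = true := by decide +kernel

set_option maxRecDepth 1000000 in
theorem edges_7_9 : edgesRangeI iota E 7 2045 17714 = true := by decide +kernel

set_option maxRecDepth 1000000 in
theorem edges_9_18 : edgesRangeI iota E 9 1952 36711 = true := by decide +kernel

set_option maxRecDepth 1000000 in
theorem edges_10_69 : edgesRangeI iota E 10 2084 168504 = true := by decide +kernel

set_option maxRecDepth 1000000 in
theorem edges_0_54 : edgesRangeI iota E 0 1966 97734 = true := by decide +kernel

set_option maxRecDepth 1000000 in
theorem edges_1_105 : edgesRangeI iota E 1 1829 192854 = true := by decide +kernel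

set_option maxRecDepth 1000000 in
theorem edges_2_156 : edgesRangeI iota E 2 1504 286666 = true := by decide +kernel

set_option maxRecDepth 1000000 in
theorem edges_4_49 : edgesRangeI iota E 4 1902 90998 = true := by decide +kernel

set_option maxRecDepth 1000000 in
theorem edges_5_60 : edgesRangeI iota E 5 1761 109069 = true := by decide +kernel

set_option maxRecDepth 1000000 in
theorem edges_6_110 : edgesRangeI iota E 6 1791 207059 = true := by decide +kernel

set_option maxRecDepth 1000000 in
theorem edges_8_58 : edgesRangeI iota E 8 2035 111762 = true := by decide +kernel

set_option maxRecDepth 1000000 in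
theorem edges_9_138 : edgesRangeI iota E 9 1642 255234 = true := by decide +kernel

set_option maxRecDepth 1000000 in
theorem edges_11_54 : edgesRangeI iota E 11 2809 144738 = true := by decide +kernel

set_option maxRecDepth 1000000 in
theorem edges_0_162 : edgesRangeI iota E 0 1624 290296 = true := by decide +kernel

set_option maxRecDepth 1000000 in
theorem edges_2_61 : edgesRangeI iota E 2 1859 113424 = true := by decide +kernel

set_option maxRecDepth 1000000 in
theorem edges_3_112 : edgesRangeI iota E 3 1856 210713 = true := by decide +kernel

set_option maxRecDepth 1000000 in
theorem edges_4_161 : edgesRangeI iota E 4 1570 299497 = true := by decide +kernel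

set_option maxRecDepth 1000000 in
theorem edges_6_51 : edgesRangeI iota E 6 1842 97938 = true := by decide +kernel

set_option maxRecDepth 1000000 in
theorem edges_7_84 : edgesRangeI iota E 7 1870 158750 = true := by decide +kernel

set_option maxRecDepth 1000000 in
theorem edges_8_118 : edgesRangeI iota E 8 1933 232881 = true := by decide +kernel

set_option maxRecDepth 1000000 in
theorem edges_10_21 : edgesRangeI iota E 10 2266 53080 = true := by decide +kernel

set_option maxRecDepth 1000000 in
theorem edges_11_51 : edgesRangeI iota E 11 2644 136284 = true := by decide +kernel

set_option maxRecDepth 1000000 in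
theorem aliases_29 : aliasRange E 8000 229434 = true := by decide +kernel

set_option maxRecDepth 1000000 in
theorem rows_68 : rowsRange E RS 1500 102000 = true := by decide +kernel

set_option maxRecDepth 1000000 in
theorem rows_116 : rowsRange E RS 1500 174000 = true := by decide +kernel

set_option maxRecDepth 1000000 in
theorem rows_164 : rowsRange E RS 1500 246000 = true := by decide +kernel

set_option maxRecDepth 1000000 in
theorem edges_11_125 : edgesRangeI iota E 11 321 307283 = true := by decide +kernel

end Cfsg.Agent.Helper5.FiZATC
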