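import Cfsg.Agent.Helper5.FiZATCDatD
import Cfsg.Agent.Helper5.TCIB

/-! kernel checks of edges, aliases, rows: FiZATC -/

set_option autoImplicit false
set_option Elab.async false

namespace Cfsg.Agent.Helper5.FiZATC
open Cfsg.Agent.Helper5.TC Cfsg.Agent.Helper5.TCI

set_option maxRecDepth 1000000 in
theorem edges_1_89 : edgesRangeI iota E 1 1893 163406 = true := by decide +kernel

set_option maxRecDepth 1000000 in
theorem edges_11_105 : edgesRangeI iota E 11 2057 273943 = true := by decide +kernel

set_option maxRecDepth 1000000 in
theorem edges_1_75 : edgesRangeI iota E 1 1944 137429 = true := by decide +kernel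

set_option maxRecDepth 1000000 in
theorem edges_3_157 : edgesRangeI iota E 3 1661 288344 = true := by decide +kernel

set_option maxRecDepth 1000000 in
theorem edges_6_92 : edgesRangeI iota E 6 1784 174287 = true := by decide +kernel

set_option maxRecDepth 1000000 in
theorem edges_8_124 : edgesRangeI iota E 8 1936 245756 = true := by decide +kernel

set_option maxRecDepth 1000000 in
theorem edges_0_7 : edgesRangeI iota E 0 1727 12617 = true := by decide +kernel

set_option maxRecDepth 1000000 in
theorem edges_1_120 : edgesRangeI iota E 1 1829 219908 = true := by decide +kernel

set_option maxRecDepth 1000000 in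
theorem edges_3_165 : edgesRangeI iota E 3 1630 301135 = true := by decide +kernel

set_option maxRecDepth 1000000 in
theorem edges_6_79 : edgesRangeI iota E 6 1732 150438 = true := by decide +kernel

set_option maxRecDepth 1000000 in
theorem edges_8_142 : edgesRangeI iota E 8 2114 279941 = true := by decide +kernel

set_option maxRecDepth 1000000 in
theorem edges_0_131 : edgesRangeI iota E 0 1908 236914 = true := by decide +kernel

set_option maxRecDepth 1000000 in
theorem edges_3_63 : edgesRangeI iota E 3 2015 118654 = true := by decide +kernel

set_option maxRecDepth 1000000 in
theorem edges_5_56 : edgesRangeI iota E 5 1716 101865 = true := by decide +kernel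

set_option maxRecDepth 1000000 in
theorem edges_8_10 : edgesRangeI iota E 8 1967 19834 = true := by decide +kernel

set_option maxRecDepth 1000000 in
theorem edges_11_20 : edgesRangeI iota E 11 2780 52994 = true := by decide +kernel

set_option maxRecDepth 1000000 in
theorem edges_1_29 : edgesRangeI iota E 1 1887 52087 = true := by decide +kernel

set_option maxRecDepth 1000000 in
theorem edges_2_116 : edgesRangeI iota E 2 2071 217558 = true := by decide +kernel

set_option maxRecDepth 1000000 in
theorem edges_4_24 : edgesRangeI iota E 4 1769 43401 = true := by decide +kernel

set_option maxRecDepth 1000000 in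
theorem edges_5_115 : edgesRangeI iota E 5 2020 214366 = true := by decide +kernel

set_option maxRecDepth 1000000 in
theorem edges_7_11 : edgesRangeI iota E 7 1907 21817 = true := by decide +kernel

set_option maxRecDepth 1000000 in
theorem edges_9_24 : edgesRangeI iota E 9 1937 48386 = true := by decide +kernel

set_option maxRecDepth 1000000 in
theorem edges_10_72 : edgesRangeI iota E 10 3078 174239 = true := by decide +kernel

set_option maxRecDepth 1000000 in
theorem edges_0_57 : edgesRangeI iota E 0 1795 103433 = true := by decide +kernel

set_option maxRecDepth 1000000 in
theorem edges_1_115 : edgesRangeI iota E 1 1835 210808 = true := by decide +kernel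

set_option maxRecDepth 1000000 in
theorem edges_2_161 : edgesRangeI iota E 2 1666 294462 = true := by decide +kernel

set_option maxRecDepth 1000000 in
theorem edges_4_52 : edgesRangeI iota E 4 2010 96718 = true := by decide +kernel

set_option maxRecDepth 1000000 in
theorem edges_5_64 : edgesRangeI iota E 5 1886 116292 = true := by decide +kernel

set_option maxRecDepth 1000000 in
theorem edges_6_121 : edgesRangeI iota E 6 1717 227243 = true := by decide +kernel

set_option maxRecDepth 1000000 in
theorem edges_8_64 : edgesRangeI iota E 8 1941 123913 = true := by decide +kernel

set_option maxRecDepth 1000000 in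
theorem edges_9_139 : edgesRangeI iota E 9 1518 256876 = true := by decide +kernel

set_option maxRecDepth 1000000 in
theorem edges_11_58 : edgesRangeI iota E 11 2756 155143 = true := by decide +kernel

set_option maxRecDepth 1000000 in
theorem edges_1_1 : edgesRangeI iota E 1 1871 1774 = true := by decide +kernel

set_option maxRecDepth 1000000 in
theorem edges_2_65 : edgesRangeI iota E 2 1862 121219 = true := by decide +kernel

set_option maxRecDepth 1000000 in
theorem edges_3_123 : edgesRangeI iota E 3 1706 230459 = true := by decide +kernel

set_option maxRecDepth 1000000 in
theorem edges_4_163 : edgesRangeI iota E 4 1411 302724 = true := by decide +kernel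

set_option maxRecDepth 1000000 in
theorem edges_6_61 : edgesRangeI iota E 6 1915 116665 = true := by decide +kernel

set_option maxRecDepth 1000000 in
theorem edges_7_85 : edgesRangeI iota E 7 1820 160620 = true := by decide +kernel

set_option maxRecDepth 1000000 in
theorem edges_8_119 : edgesRangeI iota E 8 2117 234814 = true := by decide +kernel

set_option maxRecDepth 1000000 in
theorem edges_10_23 : edgesRangeI iota E 10 2481 58030 = true := by decide +kernel

set_option maxRecDepth 1000000 in
theorem edges_11_53 : edgesRangeI iota E 11 2777 141961 = true := by decide +kernel

set_option maxRecDepth 1000000 in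
theorem aliases_30 : aliasRange E 8000 237434 = true := by decide +kernel

set_option maxRecDepth 1000000 in
theorem rows_69 : rowsRange E RS 1500 103500 = true := by decide +kernel

set_option maxRecDepth 1000000 in
theorem rows_117 : rowsRange E RS 1500 175500 = true := by decide +kernel

set_option maxRecDepth 1000000 in
theorem rows_165 : rowsRange E RS 1500 247500 = true := by decide +kernel

set_option maxRecDepth 1000000 in
theorem edges_3_169 : edgesRangeI iota E 3 307 307297 = true := by decide +kernel

end Cfsg.Agent.Helper5.FiZATC
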