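import Cfsg.Agent.Helper5.FiZATCDatD
import Cfsg.Agent.Helper5.TCIB

/-! kernel checks of edges, aliases, rows: FiZATC -/

set_option autoImplicit false
set_option Elab.async false

namespace Cfsg.Agent.Helper5.FiZATC
open Cfsg.Agent.Helper5.TC Cfsg.Agent.Helper5.TCI

set_option maxRecDepth 1000000 in
theorem cnt_3 : cntFrom RS 20000 60000 0 = 19994 := by decide +kernel

set_option maxRecDepth 1000000 in
theorem edges_0_62 : edgesRangeI iota E 0 1806 112234 = true := by decide +kernel

set_option maxRecDepth 1000000 in
theorem edges_2_83 : edgesRangeI iota E 2 1809 155198 = true := by decide +kernel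

set_option maxRecDepth 1000000 in
theorem edges_4_160 : edgesRangeI iota E 4 1489 298008 = true := by decide +kernel

set_option maxRecDepth 1000000 in
theorem edges_7_75 : edgesRangeI iota E 7 1526 142904 = true := by decide +kernel

set_option maxRecDepth 1000000 in
theorem edges_9_135 : edgesRangeI iota E 9 1716 250090 = true := by decide +kernel

set_option maxRecDepth 1000000 in
theorem edges_1_31 : edgesRangeI iota E 1 1836 55836 = true := by decide +kernel

set_option maxRecDepth 1000000 in
theorem edges_3_26 : edgesRangeI iota E 3 1839 48556 = true := by decide +kernel

set_option maxRecDepth 1000000 in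
theorem edges_5_154 : edgesRangeI iota E 5 1600 287115 = true := by decide +kernel

set_option maxRecDepth 1000000 in
theorem edges_8_21 : edgesRangeI iota E 8 1991 40853 = true := by decide +kernel

set_option maxRecDepth 1000000 in
theorem edges_11_41 : edgesRangeI iota E 11 2642 109497 = true := by decide +kernel

set_option maxRecDepth 1000000 in
theorem edges_3_31 : edgesRangeI iota E 3 1888 58034 = true := by decide +kernel

set_option maxRecDepth 1000000 in
theorem edges_5_27 : edgesRangeI iota E 5 1770 49035 = true := by decide +kernel

set_option maxRecDepth 1000000 in
theorem edges_7_161 : edgesRangeI iota E 7 1582 295901 = true := by decide +kernel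

set_option maxRecDepth 1000000 in
theorem edges_10_126 : edgesRangeI iota E 10 1538 295964 = true := by decide +kernel

set_option maxRecDepth 1000000 in
theorem edges_1_6 : edgesRangeI iota E 1 1768 10673 = true := by decide +kernel

set_option maxRecDepth 1000000 in
theorem edges_2_59 : edgesRangeI iota E 2 1822 109743 = true := by decide +kernel

set_option maxRecDepth 1000000 in
theorem edges_3_120 : edgesRangeI iota E 3 1718 225360 = true := by decide +kernel

set_option maxRecDepth 1000000 in
theorem edges_5_67 : edgesRangeI iota E 5 1727 122215 = true := by decide +kernel

set_option maxRecDepth 1000000 in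
theorem edges_6_136 : edgesRangeI iota E 6 1752 254140 = true := by decide +kernel

set_option maxRecDepth 1000000 in
theorem edges_8_106 : edgesRangeI iota E 8 1882 208294 = true := by decide +kernel

set_option maxRecDepth 1000000 in
theorem edges_10_3 : edgesRangeI iota E 10 2493 7861 = true := by decide +kernel

set_option maxRecDepth 1000000 in
theorem edges_0_22 : edgesRangeI iota E 0 1878 39637 = true := by decide +kernel

set_option maxRecDepth 1000000 in
theorem edges_1_32 : edgesRangeI iota E 1 1799 57672 = true := by decide +kernel

set_option maxRecDepth 1000000 in
theorem edges_2_62 : edgesRangeI iota E 2 1935 115283 = true := by decide +kernel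

set_option maxRecDepth 1000000 in
theorem edges_3_155 : edgesRangeI iota E 3 1503 285332 = true := by decide +kernel

set_option maxRecDepth 1000000 in
theorem edges_5_8 : edgesRangeI iota E 5 1854 14162 = true := by decide +kernel

set_option maxRecDepth 1000000 in
theorem edges_6_40 : edgesRangeI iota E 6 1819 77036 = true := by decide +kernel

set_option maxRecDepth 1000000 in
theorem edges_7_121 : edgesRangeI iota E 7 1701 225949 = true := by decide +kernel

set_option maxRecDepth 1000000 in
theorem edges_9_70 : edgesRangeI iota E 9 1604 133426 = true := by decide +kernel

set_option maxRecDepth 1000000 in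
theorem edges_10_104 : edgesRangeI iota E 10 2927 248753 = true := by decide +kernel

set_option maxRecDepth 1000000 in
theorem edges_0_70 : edgesRangeI iota E 0 1745 126849 = true := by decide +kernel

set_option maxRecDepth 1000000 in
theorem edges_1_162 : edgesRangeI iota E 1 1622 290950 = true := by decide +kernel

set_option maxRecDepth 1000000 in
theorem edges_3_42 : edgesRangeI iota E 3 1915 78695 = true := by decide +kernel

set_option maxRecDepth 1000000 in
theorem edges_4_101 : edgesRangeI iota E 4 1830 193498 = true := by decide +kernel

set_option maxRecDepth 1000000 in
theorem edges_5_159 : edgesRangeI iota E 5 1842 295435 = true := by decide +kernel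

set_option maxRecDepth 1000000 in
theorem edges_7_14 : edgesRangeI iota E 7 1844 27861 = true := by decide +kernel

set_option maxRecDepth 1000000 in
theorem edges_8_62 : edgesRangeI iota E 8 2148 119612 = true := by decide +kernel

set_option maxRecDepth 1000000 in
theorem edges_9_115 : edgesRangeI iota E 9 2552 214359 = true := by decide +kernel

set_option maxRecDepth 1000000 in
theorem edges_10_120 : edgesRangeI iota E 10 1742 284391 = true := by decide +kernel

set_option maxRecDepth 1000000 in
theorem aliases_12 : aliasRange E 8000 93482 = true := by decide +kernel

set_option maxRecDepth 1000000 in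
theorem rows_19 : rowsRange E RS 1500 28500 = true := by decide +kernel

set_option maxRecDepth 1000000 in
theorem rows_51 : rowsRange E RS 1500 76500 = true := by decide +kernel

set_option maxRecDepth 1000000 in
theorem rows_99 : rowsRange E RS 1500 148500 = true := by decide +kernel

set_option maxRecDepth 1000000 in
theorem rows_147 : rowsRange E RS 1500 220500 = true := by decide +kernel

set_option maxRecDepth 1000000 in
theorem rows_195 : rowsRange E RS 1500 292500 = true := by decide +kernel

end Cfsg.Agent.Helper5.FiZATC
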