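import Cfsg.Agent.Helper5.FiZATCDatD
import Cfsg.Agent.Helper5.TCIB

/-! kernel checks of edges, aliases, rows: FiZATC -/

set_option autoImplicit false
set_option Elab.async false

namespace Cfsg.Agent.Helper5.FiZATC
open Cfsg.Agent.Helper5.TC Cfsg.Agent.Helper5.TCI

set_option maxRecDepth 1000000 in
theorem edges_1_134 : edgesRangeI iota E 1 1805 244554 = true := by decide +kernel

set_option maxRecDepth 1000000 in
theorem edges_11_113 : edgesRangeI iota E 11 1581 289400 = true := by decide +kernel

set_option maxRecDepth 1000000 in
theorem edges_1_95 : edgesRangeI iota E 1 1807 174464 = true := by decide +kernel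

set_option maxRecDepth 1000000 in
theorem edges_4_7 : edgesRangeI iota E 4 1761 12556 = true := by decide +kernel

set_option maxRecDepth 1000000 in
theorem edges_6_99 : edgesRangeI iota E 6 1887 186890 = true := by decide +kernel

set_option maxRecDepth 1000000 in
theorem edges_8_127 : edgesRangeI iota E 8 1935 251112 = true := by decide +kernel

set_option maxRecDepth 1000000 in
theorem edges_0_9 : edgesRangeI iota E 0 1722 16204 = true := by decide +kernel

set_option maxRecDepth 1000000 in
theorem edges_1_129 : edgesRangeI iota E 1 1726 235711 = true := by decide +kernel

set_option maxRecDepth 1000000 in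
theorem edges_3_167 : edgesRangeI iota E 3 1566 304223 = true := by decide +kernel

set_option maxRecDepth 1000000 in
theorem edges_6_83 : edgesRangeI iota E 6 1747 157565 = true := by decide +kernel

set_option maxRecDepth 1000000 in
theorem edges_8_147 : edgesRangeI iota E 8 1772 289496 = true := by decide +kernel

set_option maxRecDepth 1000000 in
theorem edges_0_136 : edgesRangeI iota E 0 1654 246242 = true := by decide +kernel

set_option maxRecDepth 1000000 in
theorem edges_3_66 : edgesRangeI iota E 3 1814 124653 = true := by decide +kernel

set_option maxRecDepth 1000000 in
theorem edges_5_58 : edgesRangeI iota E 5 1805 105437 = true := by decide +kernel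

set_option maxRecDepth 1000000 in
theorem edges_8_23 : edgesRangeI iota E 8 1874 44840 = true := by decide +kernel

set_option maxRecDepth 1000000 in
theorem edges_11_23 : edgesRangeI iota E 11 2828 60922 = true := by decide +kernel

set_option maxRecDepth 1000000 in
theorem edges_1_34 : edgesRangeI iota E 1 1722 61170 = true := by decide +kernel

set_option maxRecDepth 1000000 in
theorem edges_2_120 : edgesRangeI iota E 2 1758 225072 = true := by decide +kernel

set_option maxRecDepth 1000000 in
theorem edges_4_33 : edgesRangeI iota E 4 1869 60231 = true := by decide +kernel

set_option maxRecDepth 1000000 in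
theorem edges_5_116 : edgesRangeI iota E 5 1949 216386 = true := by decide +kernel

set_option maxRecDepth 1000000 in
theorem edges_7_13 : edgesRangeI iota E 7 2080 25781 = true := by decide +kernel

set_option maxRecDepth 1000000 in
theorem edges_9_27 : edgesRangeI iota E 9 1754 54716 = true := by decide +kernel

set_option maxRecDepth 1000000 in
theorem edges_10_82 : edgesRangeI iota E 10 2940 197873 = true := by decide +kernel

set_option maxRecDepth 1000000 in
theorem edges_0_58 : edgesRangeI iota E 0 1733 105228 = true := by decide +kernel

set_option maxRecDepth 1000000 in
theorem edges_1_116 : edgesRangeI iota E 1 1833 212643 = true := by decide +kernel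

set_option maxRecDepth 1000000 in
theorem edges_3_8 : edgesRangeI iota E 3 1870 14489 = true := by decide +kernel

set_option maxRecDepth 1000000 in
theorem edges_4_53 : edgesRangeI iota E 4 2073 98728 = true := by decide +kernel

set_option maxRecDepth 1000000 in
theorem edges_5_70 : edgesRangeI iota E 5 1793 127642 = true := by decide +kernel

set_option maxRecDepth 1000000 in
theorem edges_6_135 : edgesRangeI iota E 6 1719 252421 = true := by decide +kernel

set_option maxRecDepth 1000000 in
theorem edges_8_65 : edgesRangeI iota E 8 1933 125854 = true := by decide +kernel

set_option maxRecDepth 1000000 in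
theorem edges_9_140 : edgesRangeI iota E 9 1624 258394 = true := by decide +kernel

set_option maxRecDepth 1000000 in
theorem edges_11_61 : edgesRangeI iota E 11 3093 163278 = true := by decide +kernel

set_option maxRecDepth 1000000 in
theorem edges_1_20 : edgesRangeI iota E 1 1712 35858 = true := by decide +kernel

set_option maxRecDepth 1000000 in
theorem edges_2_80 : edgesRangeI iota E 2 1818 149603 = true := by decide +kernel

set_option maxRecDepth 1000000 in
theorem edges_3_126 : edgesRangeI iota E 3 1771 235812 = true := by decide +kernel

set_option maxRecDepth 1000000 in
theorem edges_5_13 : edgesRangeI iota E 5 1902 23320 = true := by decide +kernel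

set_option maxRecDepth 1000000 in
theorem edges_6_62 : edgesRangeI iota E 6 1861 118580 = true := by decide +kernel

set_option maxRecDepth 1000000 in
theorem edges_7_89 : edgesRangeI iota E 7 2139 168085 = true := by decide +kernel

set_option maxRecDepth 1000000 in
theorem edges_8_123 : edgesRangeI iota E 8 2294 243462 = true := by decide +kernel

set_option maxRecDepth 1000000 in
theorem edges_10_24 : edgesRangeI iota E 10 2533 60511 = true := by decide +kernel

set_option maxRecDepth 1000000 in
theorem edges_11_59 : edgesRangeI iota E 11 2668 157899 = true := by decide +kernel

set_option maxRecDepth 1000000 in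
theorem aliases_31 : aliasRange E 8000 245434 = true := by decide +kernel

set_option maxRecDepth 1000000 in
theorem rows_70 : rowsRange E RS 1500 105000 = true := by decide +kernel

set_option maxRecDepth 1000000 in
theorem rows_118 : rowsRange E RS 1500 177000 = true := by decide +kernel

set_option maxRecDepth 1000000 in
theorem rows_166 : rowsRange E RS 1500 249000 = true := by decide +kernel

set_option maxRecDepth 1000000 in
theorem edges_6_167 : edgesRangeI iota E 6 285 307319 = true := by decide +kernel

end Cfsg.Agent.Helper5.FiZATC
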