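import Cfsg.Agent.Helper5.FiZATCDatD
import Cfsg.Agent.Helper5.TCIB

/-! kernel checks of edges, aliases, rows: FiZATC -/

set_option autoImplicit false
set_option Elab.async false

namespace Cfsg.Agent.Helper5.FiZATC
open Cfsg.Agent.Helper5.TC Cfsg.Agent.Helper5.TCI

set_option maxRecDepth 1000000 in
theorem edges_2_84 : edgesRangeI iota E 2 1804 157007 = true := by decide +kernel

set_option maxRecDepth 1000000 in
theorem edges_0_148 : edgesRangeI iota E 0 1790 267120 = true := by decide +kernel

set_option maxRecDepth 1000000 in
theorem edges_0_141 : edgesRangeI iota E 0 1737 254688 = true := by decide +kernel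

set_option maxRecDepth 1000000 in
theorem edges_3_1 : edgesRangeI iota E 3 1987 1813 = true := by decide +kernel

set_option maxRecDepth 1000000 in
theorem edges_5_120 : edgesRangeI iota E 5 1718 224337 = true := by decide +kernel

set_option maxRecDepth 1000000 in
theorem edges_8_1 : edgesRangeI iota E 8 2190 2072 = true := by decide +kernel

set_option maxRecDepth 1000000 in
theorem edges_10_91 : edgesRangeI iota E 10 1623 220454 = true := by decide +kernel

set_option maxRecDepth 1000000 in
theorem edges_1_153 : edgesRangeI iota E 1 1656 276331 = true := by decide +kernel

set_option maxRecDepth 1000000 in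
theorem edges_4_6 : edgesRangeI iota E 4 1802 10754 = true := by decide +kernel

set_option maxRecDepth 1000000 in
theorem edges_6_93 : edgesRangeI iota E 6 1742 176071 = true := by decide +kernel

set_option maxRecDepth 1000000 in
theorem edges_8_156 : edgesRangeI iota E 8 1859 305712 = true := by decide +kernel

set_option maxRecDepth 1000000 in
theorem edges_0_152 : edgesRangeI iota E 0 1606 273713 = true := by decide +kernel

set_option maxRecDepth 1000000 in
theorem edges_3_75 : edgesRangeI iota E 3 1964 141645 = true := by decide +kernel

set_option maxRecDepth 1000000 in
theorem edges_5_63 : edgesRangeI iota E 5 1754 114538 = true := by decide +kernel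

set_option maxRecDepth 1000000 in
theorem edges_8_52 : edgesRangeI iota E 8 2096 100193 = true := by decide +kernel

set_option maxRecDepth 1000000 in
theorem edges_11_45 : edgesRangeI iota E 11 2748 120467 = true := by decide +kernel

set_option maxRecDepth 1000000 in
theorem edges_1_43 : edgesRangeI iota E 1 1949 77741 = true := by decide +kernel

set_option maxRecDepth 1000000 in
theorem edges_2_126 : edgesRangeI iota E 2 1785 235864 = true := by decide +kernel

set_option maxRecDepth 1000000 in
theorem edges_4_39 : edgesRangeI iota E 4 2007 71639 = true := by decide +kernel

set_option maxRecDepth 1000000 in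
theorem edges_5_123 : edgesRangeI iota E 5 1983 229847 = true := by decide +kernel

set_option maxRecDepth 1000000 in
theorem edges_7_23 : edgesRangeI iota E 7 1791 45752 = true := by decide +kernel

set_option maxRecDepth 1000000 in
theorem edges_9_31 : edgesRangeI iota E 9 1737 61789 = true := by decide +kernel

set_option maxRecDepth 1000000 in
theorem edges_10_89 : edgesRangeI iota E 10 2743 215544 = true := by decide +kernel

set_option maxRecDepth 1000000 in
theorem edges_0_63 : edgesRangeI iota E 0 1704 114040 = true := by decide +kernel

set_option maxRecDepth 1000000 in
theorem edges_1_122 : edgesRangeI iota E 1 1744 223491 = true := by decide +kernel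

set_option maxRecDepth 1000000 in
theorem edges_3_17 : edgesRangeI iota E 3 1934 31441 = true := by decide +kernel

set_option maxRecDepth 1000000 in
theorem edges_4_57 : edgesRangeI iota E 4 2039 106683 = true := by decide +kernel

set_option maxRecDepth 1000000 in
theorem edges_5_75 : edgesRangeI iota E 5 2010 136822 = true := by decide +kernel

set_option maxRecDepth 1000000 in
theorem edges_6_139 : edgesRangeI iota E 6 1838 259385 = true := by decide +kernel

set_option maxRecDepth 1000000 in
theorem edges_8_80 : edgesRangeI iota E 8 2099 155310 = true := by decide +kernel

set_option maxRecDepth 1000000 in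
theorem edges_9_151 : edgesRangeI iota E 9 1495 277634 = true := by decide +kernel

set_option maxRecDepth 1000000 in
theorem edges_11_70 : edgesRangeI iota E 11 2846 187473 = true := by decide +kernel

set_option maxRecDepth 1000000 in
theorem edges_1_39 : edgesRangeI iota E 1 1863 70610 = true := by decide +kernel

set_option maxRecDepth 1000000 in
theorem edges_2_86 : edgesRangeI iota E 2 2044 160778 = true := by decide +kernel

set_option maxRecDepth 1000000 in
theorem edges_3_131 : edgesRangeI iota E 3 1866 244785 = true := by decide +kernel

set_option maxRecDepth 1000000 in
theorem edges_5_23 : edgesRangeI iota E 5 1782 41773 = true := by decide +kernel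

set_option maxRecDepth 1000000 in
theorem edges_6_70 : edgesRangeI iota E 6 1917 133544 = true := by decide +kernel

set_option maxRecDepth 1000000 in
theorem edges_7_102 : edgesRangeI iota E 7 1858 191879 = true := by decide +kernel

set_option maxRecDepth 1000000 in
theorem edges_8_129 : edgesRangeI iota E 8 1931 254976 = true := by decide +kernel

set_option maxRecDepth 1000000 in
theorem edges_10_32 : edgesRangeI iota E 10 2693 79414 = true := by decide +kernel

set_option maxRecDepth 1000000 in
theorem edges_11_64 : edgesRangeI iota E 11 2186 171972 = true := by decide +kernel

set_option maxRecDepth 1000000 in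
theorem aliases_33 : aliasRange E 8000 261434 = true := by decide +kernel

set_option maxRecDepth 1000000 in
theorem rows_72 : rowsRange E RS 1500 108000 = true := by decide +kernel

set_option maxRecDepth 1000000 in
theorem rows_120 : rowsRange E RS 1500 180000 = true := by decide +kernel

set_option maxRecDepth 1000000 in
theorem rows_168 : rowsRange E RS 1500 252000 = true := by decide +kernel

set_option maxRecDepth 1000000 in
theorem edges_8_157 : edgesRangeI iota E 8 33 307571 = true := by decide +kernel

end Cfsg.Agent.Helper5.FiZATC
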