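import Cfsg.Agent.Helper5.FiZATCDatD
import Cfsg.Agent.Helper5.TCIB

/-! kernel checks of edges, aliases, rows: FiZATC -/

set_option autoImplicit false
set_option Elab.async false

namespace Cfsg.Agent.Helper5.FiZATC
open Cfsg.Agent.Helper5.TC Cfsg.Agent.Helper5.TCI

set_option maxRecDepth 1000000 in
theorem edges_2_101 : edgesRangeI iota E 2 1960 189475 = true := by decide +kernel

set_option maxRecDepth 1000000 in
theorem edges_1_76 : edgesRangeI iota E 1 1936 139373 = true := by decide +kernel

set_option maxRecDepth 1000000 in
theorem edges_0_146 : edgesRangeI iota E 0 1774 263487 = true := by decide +kernel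

set_option maxRecDepth 1000000 in
theorem edges_3_5 : edgesRangeI iota E 3 1749 9153 = true := by decide +kernel

set_option maxRecDepth 1000000 in
theorem edges_5_140 : edgesRangeI iota E 5 1862 261956 = true := by decide +kernel

set_option maxRecDepth 1000000 in
theorem edges_8_2 : edgesRangeI iota E 8 1948 4262 = true := by decide +kernel

set_option maxRecDepth 1000000 in
theorem edges_10_96 : edgesRangeI iota E 10 2470 231971 = true := by decide +kernel

set_option maxRecDepth 1000000 in
theorem edges_1_165 : edgesRangeI iota E 1 1570 295898 = true := by decide +kernel

set_option maxRecDepth 1000000 in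
theorem edges_4_51 : edgesRangeI iota E 4 1877 94841 = true := by decide +kernel

set_option maxRecDepth 1000000 in
theorem edges_6_100 : edgesRangeI iota E 6 1979 188777 = true := by decide +kernel

set_option maxRecDepth 1000000 in
theorem edges_9_2 : edgesRangeI iota E 9 2103 4459 = true := by decide +kernel

set_option maxRecDepth 1000000 in
theorem edges_0_163 : edgesRangeI iota E 0 1579 291920 = true := by decide +kernel

set_option maxRecDepth 1000000 in
theorem edges_3_78 : edgesRangeI iota E 3 1953 147483 = true := by decide +kernel

set_option maxRecDepth 1000000 in
theorem edges_5_78 : edgesRangeI iota E 5 1819 142886 = true := by decide +kernel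

set_option maxRecDepth 1000000 in
theorem edges_8_55 : edgesRangeI iota E 8 1877 106256 = true := by decide +kernel

set_option maxRecDepth 1000000 in
theorem edges_11_55 : edgesRangeI iota E 11 2607 147547 = true := by decide +kernel

set_option maxRecDepth 1000000 in
theorem edges_1_45 : edgesRangeI iota E 1 1927 81752 = true := by decide +kernel

set_option maxRecDepth 1000000 in
theorem edges_2_128 : edgesRangeI iota E 2 1740 239413 = true := by decide +kernel

set_option maxRecDepth 1000000 in
theorem edges_4_42 : edgesRangeI iota E 4 1853 77373 = true := by decide +kernel

set_option maxRecDepth 1000000 in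
theorem edges_5_125 : edgesRangeI iota E 5 1967 233625 = true := by decide +kernel

set_option maxRecDepth 1000000 in
theorem edges_7_32 : edgesRangeI iota E 7 1881 62915 = true := by decide +kernel

set_option maxRecDepth 1000000 in
theorem edges_9_33 : edgesRangeI iota E 9 2492 65406 = true := by decide +kernel

set_option maxRecDepth 1000000 in
theorem edges_10_90 : edgesRangeI iota E 10 2167 218287 = true := by decide +kernel

set_option maxRecDepth 1000000 in
theorem edges_0_65 : edgesRangeI iota E 0 1970 117567 = true := by decide +kernel

set_option maxRecDepth 1000000 in
theorem edges_1_125 : edgesRangeI iota E 1 1776 228724 = true := by decide +kernel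

set_option maxRecDepth 1000000 in
theorem edges_3_18 : edgesRangeI iota E 3 1957 33375 = true := by decide +kernel

set_option maxRecDepth 1000000 in
theorem edges_4_58 : edgesRangeI iota E 4 1804 108722 = true := by decide +kernel

set_option maxRecDepth 1000000 in
theorem edges_5_81 : edgesRangeI iota E 5 1873 148508 = true := by decide +kernel

set_option maxRecDepth 1000000 in
theorem edges_6_142 : edgesRangeI iota E 6 1882 264949 = true := by decide +kernel

set_option maxRecDepth 1000000 in
theorem edges_8_81 : edgesRangeI iota E 8 1913 157409 = true := by decide +kernel

set_option maxRecDepth 1000000 in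
theorem edges_9_153 : edgesRangeI iota E 9 2218 280759 = true := by decide +kernel

set_option maxRecDepth 1000000 in
theorem edges_11_71 : edgesRangeI iota E 11 2708 190319 = true := by decide +kernel

set_option maxRecDepth 1000000 in
theorem edges_1_40 : edgesRangeI iota E 1 1791 72473 = true := by decide +kernel

set_option maxRecDepth 1000000 in
theorem edges_2_91 : edgesRangeI iota E 2 1933 170608 = true := by decide +kernel

set_option maxRecDepth 1000000 in
theorem edges_3_134 : edgesRangeI iota E 3 1685 249976 = true := by decide +kernel

set_option maxRecDepth 1000000 in
theorem edges_5_24 : edgesRangeI iota E 5 1777 43555 = true := by decide +kernel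

set_option maxRecDepth 1000000 in
theorem edges_6_76 : edgesRangeI iota E 6 1789 144860 = true := by decide +kernel

set_option maxRecDepth 1000000 in
theorem edges_7_104 : edgesRangeI iota E 7 1595 195796 = true := by decide +kernel

set_option maxRecDepth 1000000 in
theorem edges_8_133 : edgesRangeI iota E 8 2077 262915 = true := by decide +kernel

set_option maxRecDepth 1000000 in
theorem edges_10_34 : edgesRangeI iota E 10 2384 84699 = true := by decide +kernel

set_option maxRecDepth 1000000 in
theorem edges_11_66 : edgesRangeI iota E 11 2676 176680 = true := by decide +kernel

set_option maxRecDepth 1000000 in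
theorem aliases_34 : aliasRange E 8000 269434 = true := by decide +kernel

set_option maxRecDepth 1000000 in
theorem rows_73 : rowsRange E RS 1500 109500 = true := by decide +kernel

set_option maxRecDepth 1000000 in
theorem rows_121 : rowsRange E RS 1500 181500 = true := by decide +kernel

set_option maxRecDepth 1000000 in
theorem rows_169 : rowsRange E RS 1500 253500 = true := by decide +kernel

end Cfsg.Agent.Helper5.FiZATC
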