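import Cfsg.Agent.Helper5.FiZATCDatD
import Cfsg.Agent.Helper5.TCIB

/-! kernel checks of edges, aliases, rows: FiZATC -/

set_option autoImplicit false
set_option Elab.async false

namespace Cfsg.Agent.Helper5.FiZATC
open Cfsg.Agent.Helper5.TC Cfsg.Agent.Helper5.TCI

set_option maxRecDepth 1000000 in
theorem edges_4_114 : edgesRangeI iota E 4 1942 218294 = true := by decide +kernel

set_option maxRecDepth 1000000 in
theorem edges_1_84 : edgesRangeI iota E 1 1811 154179 = true := by decide +kernel

set_option maxRecDepth 1000000 in
theorem edges_0_149 : edgesRangeI iota E 0 1510 268910 = true := by decide +kernel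

set_option maxRecDepth 1000000 in
theorem edges_3_27 : edgesRangeI iota E 3 1895 50395 = true := by decide +kernel

set_option maxRecDepth 1000000 in
theorem edges_5_147 : edgesRangeI iota E 5 1741 274845 = true := by decide +kernel

set_option maxRecDepth 1000000 in
theorem edges_8_3 : edgesRangeI iota E 8 1978 6210 = true := by decide +kernel

set_option maxRecDepth 1000000 in
theorem edges_10_102 : edgesRangeI iota E 10 1432 245847 = true := by decide +kernel

set_option maxRecDepth 1000000 in
theorem edges_1_167 : edgesRangeI iota E 1 1544 298965 = true := by decide +kernel

set_option maxRecDepth 1000000 in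
theorem edges_4_54 : edgesRangeI iota E 4 1982 100801 = true := by decide +kernel

set_option maxRecDepth 1000000 in
theorem edges_6_104 : edgesRangeI iota E 6 1685 196556 = true := by decide +kernel

set_option maxRecDepth 1000000 in
theorem edges_9_4 : edgesRangeI iota E 9 2179 8651 = true := by decide +kernel

set_option maxRecDepth 1000000 in
theorem edges_0_164 : edgesRangeI iota E 0 1619 293499 = true := by decide +kernel

set_option maxRecDepth 1000000 in
theorem edges_3_79 : edgesRangeI iota E 3 1797 149436 = true := by decide +kernel

set_option maxRecDepth 1000000 in
theorem edges_5_95 : edgesRangeI iota E 5 1866 175331 = true := by decide +kernel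

set_option maxRecDepth 1000000 in
theorem edges_8_69 : edgesRangeI iota E 8 2008 133401 = true := by decide +kernel

set_option maxRecDepth 1000000 in
theorem edges_11_63 : edgesRangeI iota E 11 2842 169130 = true := by decide +kernel

set_option maxRecDepth 1000000 in
theorem edges_1_57 : edgesRangeI iota E 1 1801 104252 = true := by decide +kernel

set_option maxRecDepth 1000000 in
theorem edges_2_132 : edgesRangeI iota E 2 1721 246716 = true := by decide +kernel

set_option maxRecDepth 1000000 in
theorem edges_4_44 : edgesRangeI iota E 4 2051 81197 = true := by decide +kernel

set_option maxRecDepth 1000000 in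
theorem edges_5_127 : edgesRangeI iota E 5 1977 237518 = true := by decide +kernel

set_option maxRecDepth 1000000 in
theorem edges_7_40 : edgesRangeI iota E 7 1898 78157 = true := by decide +kernel

set_option maxRecDepth 1000000 in
theorem edges_9_34 : edgesRangeI iota E 9 2031 67898 = true := by decide +kernel

set_option maxRecDepth 1000000 in
theorem edges_10_92 : edgesRangeI iota E 10 1499 222077 = true := by decide +kernel

set_option maxRecDepth 1000000 in
theorem edges_0_72 : edgesRangeI iota E 0 1782 130284 = true := by decide +kernel

set_option maxRecDepth 1000000 in
theorem edges_1_128 : edgesRangeI iota E 1 1750 233961 = true := by decide +kernel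

set_option maxRecDepth 1000000 in
theorem edges_3_20 : edgesRangeI iota E 3 1811 37295 = true := by decide +kernel

set_option maxRecDepth 1000000 in
theorem edges_4_63 : edgesRangeI iota E 4 2032 118435 = true := by decide +kernel

set_option maxRecDepth 1000000 in
theorem edges_5_87 : edgesRangeI iota E 5 2023 159751 = true := by decide +kernel

set_option maxRecDepth 1000000 in
theorem edges_6_147 : edgesRangeI iota E 6 1742 273611 = true := by decide +kernel

set_option maxRecDepth 1000000 in
theorem edges_8_89 : edgesRangeI iota E 8 1845 173923 = true := by decide +kernel

set_option maxRecDepth 1000000 in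
theorem edges_9_157 : edgesRangeI iota E 9 1637 287926 = true := by decide +kernel

set_option maxRecDepth 1000000 in
theorem edges_11_77 : edgesRangeI iota E 11 2734 205488 = true := by decide +kernel

set_option maxRecDepth 1000000 in
theorem edges_1_44 : edgesRangeI iota E 1 2062 79690 = true := by decide +kernel

set_option maxRecDepth 1000000 in
theorem edges_2_92 : edgesRangeI iota E 2 1730 172541 = true := by decide +kernel

set_option maxRecDepth 1000000 in
theorem edges_3_149 : edgesRangeI iota E 3 1674 275310 = true := by decide +kernel

set_option maxRecDepth 1000000 in
theorem edges_5_29 : edgesRangeI iota E 5 1810 52660 = true := by decide +kernel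

set_option maxRecDepth 1000000 in
theorem edges_6_81 : edgesRangeI iota E 6 1825 153920 = true := by decide +kernel

set_option maxRecDepth 1000000 in
theorem edges_7_105 : edgesRangeI iota E 7 1494 197391 = true := by decide +kernel

set_option maxRecDepth 1000000 in
theorem edges_8_138 : edgesRangeI iota E 8 1937 272647 = true := by decide +kernel

set_option maxRecDepth 1000000 in
theorem edges_10_35 : edgesRangeI iota E 10 2374 87083 = true := by decide +kernel

set_option maxRecDepth 1000000 in
theorem edges_11_69 : edgesRangeI iota E 11 2716 184757 = true := by decide +kernel

set_option maxRecDepth 1000000 in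
theorem aliases_35 : aliasRange E 8000 277434 = true := by decide +kernel

set_option maxRecDepth 1000000 in
theorem rows_74 : rowsRange E RS 1500 111000 = true := by decide +kernel

set_option maxRecDepth 1000000 in
theorem rows_122 : rowsRange E RS 1500 183000 = true := by decide +kernel

set_option maxRecDepth 1000000 in
theorem rows_170 : rowsRange E RS 1500 255000 = true := by decide +kernel

end Cfsg.Agent.Helper5.FiZATC
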