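import Cfsg.Agent.Helper5.FiZATCDatD
import Cfsg.Agent.Helper5.TCIB

/-! kernel checks of edges, aliases, rows: FiZATC -/

set_option autoImplicit false
set_option Elab.async false

namespace Cfsg.Agent.Helper5.FiZATC
open Cfsg.Agent.Helper5.TC Cfsg.Agent.Helper5.TCI

set_option maxRecDepth 1000000 in
theorem edges_7_59 : edgesRangeI iota E 7 1509 113627 = true := by decide +kernel

set_option maxRecDepth 1000000 in
theorem edges_1_118 : edgesRangeI iota E 1 1762 216311 = true := by decide +kernel

set_option maxRecDepth 1000000 in
theorem edges_0_150 : edgesRangeI iota E 0 1532 270420 = true := by decide +kernel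

set_option maxRecDepth 1000000 in
theorem edges_3_50 : edgesRangeI iota E 3 1813 93901 = true := by decide +kernel

set_option maxRecDepth 1000000 in
theorem edges_5_162 : edgesRangeI iota E 5 1714 300456 = true := by decide +kernel

set_option maxRecDepth 1000000 in
theorem edges_8_16 : edgesRangeI iota E 8 2001 31325 = true := by decide +kernel

set_option maxRecDepth 1000000 in
theorem edges_10_113 : edgesRangeI iota E 10 1415 269390 = true := by decide +kernel

set_option maxRecDepth 1000000 in
theorem edges_2_0 : edgesRangeI iota E 2 1778 0 = true := by decide +kernel

set_option maxRecDepth 1000000 in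
theorem edges_4_59 : edgesRangeI iota E 4 1978 110526 = true := by decide +kernel

set_option maxRecDepth 1000000 in
theorem edges_6_129 : edgesRangeI iota E 6 1892 241751 = true := by decide +kernel

set_option maxRecDepth 1000000 in
theorem edges_9_30 : edgesRangeI iota E 9 1985 59804 = true := by decide +kernel

set_option maxRecDepth 1000000 in
theorem edges_0_171 : edgesRangeI iota E 0 1580 304595 = true := by decide +kernel

set_option maxRecDepth 1000000 in
theorem edges_3_94 : edgesRangeI iota E 3 1789 177622 = true := by decide +kernel

set_option maxRecDepth 1000000 in
theorem edges_5_113 : edgesRangeI iota E 5 1923 210395 = true := by decide +kernel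

set_option maxRecDepth 1000000 in
theorem edges_8_77 : edgesRangeI iota E 8 1729 149706 = true := by decide +kernel

set_option maxRecDepth 1000000 in
theorem edges_11_73 : edgesRangeI iota E 11 2360 195924 = true := by decide +kernel

set_option maxRecDepth 1000000 in
theorem edges_1_58 : edgesRangeI iota E 1 1880 106053 = true := by decide +kernel

set_option maxRecDepth 1000000 in
theorem edges_2_147 : edgesRangeI iota E 2 1620 272018 = true := by decide +kernel

set_option maxRecDepth 1000000 in
theorem edges_4_45 : edgesRangeI iota E 4 1994 83248 = true := by decide +kernel

set_option maxRecDepth 1000000 in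
theorem edges_5_129 : edgesRangeI iota E 5 1915 241386 = true := by decide +kernel

set_option maxRecDepth 1000000 in
theorem edges_7_49 : edgesRangeI iota E 7 1795 95021 = true := by decide +kernel

set_option maxRecDepth 1000000 in
theorem edges_9_37 : edgesRangeI iota E 9 1826 73079 = true := by decide +kernel

set_option maxRecDepth 1000000 in
theorem edges_10_93 : edgesRangeI iota E 10 2969 223576 = true := by decide +kernel

set_option maxRecDepth 1000000 in
theorem edges_0_77 : edgesRangeI iota E 0 2045 139231 = true := by decide +kernel

set_option maxRecDepth 1000000 in
theorem edges_1_142 : edgesRangeI iota E 1 1692 258094 = true := by decide +kernel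

set_option maxRecDepth 1000000 in
theorem edges_3_21 : edgesRangeI iota E 3 1834 39106 = true := by decide +kernel

set_option maxRecDepth 1000000 in
theorem edges_4_65 : edgesRangeI iota E 4 2028 122465 = true := by decide +kernel

set_option maxRecDepth 1000000 in
theorem edges_5_98 : edgesRangeI iota E 5 1810 181216 = true := by decide +kernel

set_option maxRecDepth 1000000 in
theorem edges_6_151 : edgesRangeI iota E 6 1839 280463 = true := by decide +kernel

set_option maxRecDepth 1000000 in
theorem edges_8_102 : edgesRangeI iota E 8 1977 200201 = true := by decide +kernel

set_option maxRecDepth 1000000 in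
theorem edges_9_160 : edgesRangeI iota E 9 1773 292812 = true := by decide +kernel

set_option maxRecDepth 1000000 in
theorem edges_11_84 : edgesRangeI iota E 11 2295 223904 = true := by decide +kernel

set_option maxRecDepth 1000000 in
theorem edges_1_46 : edgesRangeI iota E 1 1911 83679 = true := by decide +kernel

set_option maxRecDepth 1000000 in
theorem edges_2_95 : edgesRangeI iota E 2 1934 177921 = true := by decide +kernel

set_option maxRecDepth 1000000 in
theorem edges_3_150 : edgesRangeI iota E 3 1604 276984 = true := by decide +kernel

set_option maxRecDepth 1000000 in
theorem edges_5_40 : edgesRangeI iota E 5 1850 72571 = true := by decide +kernel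

set_option maxRecDepth 1000000 in
theorem edges_6_82 : edgesRangeI iota E 6 1820 155745 = true := by decide +kernel

set_option maxRecDepth 1000000 in
theorem edges_7_107 : edgesRangeI iota E 7 1625 200704 = true := by decide +kernel

set_option maxRecDepth 1000000 in
theorem edges_9_9 : edgesRangeI iota E 9 2248 18874 = true := by decide +kernel

set_option maxRecDepth 1000000 in
theorem edges_10_36 : edgesRangeI iota E 10 2289 89457 = true := by decide +kernel

set_option maxRecDepth 1000000 in
theorem edges_11_72 : edgesRangeI iota E 11 2897 193027 = true := by decide +kernel

set_option maxRecDepth 1000000 in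
theorem aliases_36 : aliasRange E 8000 285434 = true := by decide +kernel

set_option maxRecDepth 1000000 in
theorem rows_75 : rowsRange E RS 1500 112500 = true := by decide +kernel

set_option maxRecDepth 1000000 in
theorem rows_123 : rowsRange E RS 1500 184500 = true := by decide +kernel

set_option maxRecDepth 1000000 in
theorem rows_171 : rowsRange E RS 1500 256500 = true := by decide +kernel

end Cfsg.Agent.Helper5.FiZATC
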