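import Cfsg.Agent.Helper5.FiZATCDatD
import Cfsg.Agent.Helper5.TCIB

/-! kernel checks of edges, aliases, rows: FiZATC -/

set_option autoImplicit false
set_option Elab.async false

namespace Cfsg.Agent.Helper5.FiZATC
open Cfsg.Agent.Helper5.TC Cfsg.Agent.Helper5.TCI

set_option maxRecDepth 1000000 in
theorem edges_8_0 : edgesRangeI iota E 8 2072 0 = true := by decide +kernel

set_option maxRecDepth 1000000 in
theorem edges_3_54 : edgesRangeI iota E 3 1984 101697 = true := by decide +kernel

set_option maxRecDepth 1000000 in
theorem edges_0_154 : edgesRangeI iota E 0 1648 277018 = true := by decide +kernel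

set_option maxRecDepth 1000000 in
theorem edges_3_58 : edgesRangeI iota E 3 1883 109145 = true := by decide +kernel

set_option maxRecDepth 1000000 in
theorem edges_5_165 : edgesRangeI iota E 5 1587 305406 = true := by decide +kernel

set_option maxRecDepth 1000000 in
theorem edges_8_27 : edgesRangeI iota E 8 1970 52339 = true := by decide +kernel

set_option maxRecDepth 1000000 in
theorem edges_11_0 : edgesRangeI iota E 11 2438 0 = true := by decide +kernel

set_option maxRecDepth 1000000 in
theorem edges_2_7 : edgesRangeI iota E 2 1789 12554 = true := by decide +kernel

set_option maxRecDepth 1000000 in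
theorem edges_4_66 : edgesRangeI iota E 4 1926 124493 = true := by decide +kernel

set_option maxRecDepth 1000000 in
theorem edges_6_130 : edgesRangeI iota E 6 2076 243643 = true := by decide +kernel

set_option maxRecDepth 1000000 in
theorem edges_9_43 : edgesRangeI iota E 9 1598 85022 = true := by decide +kernel

set_option maxRecDepth 1000000 in
theorem edges_1_2 : edgesRangeI iota E 1 1816 3645 = true := by decide +kernel

set_option maxRecDepth 1000000 in
theorem edges_3_96 : edgesRangeI iota E 3 1926 181227 = true := by decide +kernel

set_option maxRecDepth 1000000 in
theorem edges_5_118 : edgesRangeI iota E 5 2028 220424 = true := by decide +kernel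

set_option maxRecDepth 1000000 in
theorem edges_8_79 : edgesRangeI iota E 8 1978 153332 = true := by decide +kernel

set_option maxRecDepth 1000000 in
theorem edges_11_88 : edgesRangeI iota E 11 2402 233794 = true := by decide +kernel

set_option maxRecDepth 1000000 in
theorem edges_1_65 : edgesRangeI iota E 1 1932 118976 = true := by decide +kernel

set_option maxRecDepth 1000000 in
theorem edges_2_148 : edgesRangeI iota E 2 1598 273638 = true := by decide +kernel

set_option maxRecDepth 1000000 in
theorem edges_4_47 : edgesRangeI iota E 4 1918 87233 = true := by decide +kernel

set_option maxRecDepth 1000000 in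
theorem edges_5_132 : edgesRangeI iota E 5 1829 247483 = true := by decide +kernel

set_option maxRecDepth 1000000 in
theorem edges_7_60 : edgesRangeI iota E 7 1931 115136 = true := by decide +kernel

set_option maxRecDepth 1000000 in
theorem edges_9_47 : edgesRangeI iota E 9 1881 91581 = true := by decide +kernel

set_option maxRecDepth 1000000 in
theorem edges_10_95 : edgesRangeI iota E 10 2636 229335 = true := by decide +kernel

set_option maxRecDepth 1000000 in
theorem edges_0_81 : edgesRangeI iota E 0 1770 146871 = true := by decide +kernel

set_option maxRecDepth 1000000 in
theorem edges_1_143 : edgesRangeI iota E 1 1663 259786 = true := by decide +kernel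

set_option maxRecDepth 1000000 in
theorem edges_3_24 : edgesRangeI iota E 3 1915 44819 = true := by decide +kernel

set_option maxRecDepth 1000000 in
theorem edges_4_69 : edgesRangeI iota E 4 1934 130294 = true := by decide +kernel

set_option maxRecDepth 1000000 in
theorem edges_5_103 : edgesRangeI iota E 5 1884 191157 = true := by decide +kernel

set_option maxRecDepth 1000000 in
theorem edges_6_153 : edgesRangeI iota E 6 1895 284067 = true := by decide +kernel

set_option maxRecDepth 1000000 in
theorem edges_8_105 : edgesRangeI iota E 8 1955 206339 = true := by decide +kernel

set_option maxRecDepth 1000000 in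
theorem edges_9_161 : edgesRangeI iota E 9 1930 294585 = true := by decide +kernel

set_option maxRecDepth 1000000 in
theorem edges_11_85 : edgesRangeI iota E 11 2499 226199 = true := by decide +kernel

set_option maxRecDepth 1000000 in
theorem edges_1_47 : edgesRangeI iota E 1 1811 85590 = true := by decide +kernel

set_option maxRecDepth 1000000 in
theorem edges_2_97 : edgesRangeI iota E 2 1845 181655 = true := by decide +kernel

set_option maxRecDepth 1000000 in
theorem edges_3_160 : edgesRangeI iota E 3 1669 293232 = true := by decide +kernel

set_option maxRecDepth 1000000 in
theorem edges_5_44 : edgesRangeI iota E 5 1850 79808 = true := by decide +kernel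

set_option maxRecDepth 1000000 in
theorem edges_6_96 : edgesRangeI iota E 6 1823 181415 = true := by decide +kernel

set_option maxRecDepth 1000000 in
theorem edges_7_108 : edgesRangeI iota E 7 1848 202329 = true := by decide +kernel

set_option maxRecDepth 1000000 in
theorem edges_9_10 : edgesRangeI iota E 9 1772 21122 = true := by decide +kernel

set_option maxRecDepth 1000000 in
theorem edges_10_40 : edgesRangeI iota E 10 2852 98633 = true := by decide +kernel

set_option maxRecDepth 1000000 in
theorem edges_11_75 : edgesRangeI iota E 11 2561 200559 = true := by decide +kernel

set_option maxRecDepth 1000000 in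
theorem aliases_37 : aliasRange E 8000 293434 = true := by decide +kernel

set_option maxRecDepth 1000000 in
theorem rows_76 : rowsRange E RS 1500 114000 = true := by decide +kernel

set_option maxRecDepth 1000000 in
theorem rows_124 : rowsRange E RS 1500 186000 = true := by decide +kernel

set_option maxRecDepth 1000000 in
theorem rows_172 : rowsRange E RS 1500 258000 = true := by decide +kernel

end Cfsg.Agent.Helper5.FiZATC
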