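import Cfsg.Agent.Helper5.FiZATCDatD
import Cfsg.Agent.Helper5.TCIB

/-! kernel checks of edges, aliases, rows: FiZATC -/

set_option autoImplicit false
set_option Elab.async false

namespace Cfsg.Agent.Helper5.FiZATC
open Cfsg.Agent.Helper5.TC Cfsg.Agent.Helper5.TCI

set_option maxRecDepth 1000000 in
theorem edges_8_13 : edgesRangeI iota E 8 1971 25624 = true := by decide +kernel

set_option maxRecDepth 1000000 in
theorem edges_3_142 : edgesRangeI iota E 3 1722 263620 = true := by decide +kernel

set_option maxRecDepth 1000000 in
theorem edges_0_155 : edgesRangeI iota E 0 1610 278666 = true := by decide +kernel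

set_option maxRecDepth 1000000 in
theorem edges_3_61 : edgesRangeI iota E 3 1872 114744 = true := by decide +kernel

set_option maxRecDepth 1000000 in
theorem edges_6_0 : edgesRangeI iota E 6 1828 0 = true := by decide +kernel

set_option maxRecDepth 1000000 in
theorem edges_8_29 : edgesRangeI iota E 8 1936 56284 = true := by decide +kernel

set_option maxRecDepth 1000000 in
theorem edges_11_13 : edgesRangeI iota E 11 2646 34197 = true := by decide +kernel

set_option maxRecDepth 1000000 in
theorem edges_2_14 : edgesRangeI iota E 2 1841 25049 = true := by decide +kernel

set_option maxRecDepth 1000000 in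
theorem edges_4_67 : edgesRangeI iota E 4 2038 126419 = true := by decide +kernel

set_option maxRecDepth 1000000 in
theorem edges_6_159 : edgesRangeI iota E 6 1792 294159 = true := by decide +kernel

set_option maxRecDepth 1000000 in
theorem edges_9_46 : edgesRangeI iota E 9 1738 89843 = true := by decide +kernel

set_option maxRecDepth 1000000 in
theorem edges_1_4 : edgesRangeI iota E 1 1739 7183 = true := by decide +kernel

set_option maxRecDepth 1000000 in
theorem edges_3_113 : edgesRangeI iota E 3 1793 212569 = true := by decide +kernel

set_option maxRecDepth 1000000 in
theorem edges_5_143 : edgesRangeI iota E 5 1978 267694 = true := by decide +kernel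

set_option maxRecDepth 1000000 in
theorem edges_8_86 : edgesRangeI iota E 8 2115 167965 = true := by decide +kernel

set_option maxRecDepth 1000000 in
theorem edges_11_93 : edgesRangeI iota E 11 2125 246600 = true := by decide +kernel

set_option maxRecDepth 1000000 in
theorem edges_1_66 : edgesRangeI iota E 1 1851 120908 = true := by decide +kernel

set_option maxRecDepth 1000000 in
theorem edges_2_152 : edgesRangeI iota E 2 1644 280052 = true := by decide +kernel

set_option maxRecDepth 1000000 in
theorem edges_4_64 : edgesRangeI iota E 4 1998 120467 = true := by decide +kernel

set_option maxRecDepth 1000000 in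
theorem edges_5_137 : edgesRangeI iota E 5 1706 256534 = true := by decide +kernel

set_option maxRecDepth 1000000 in
theorem edges_7_63 : edgesRangeI iota E 7 1555 121021 = true := by decide +kernel

set_option maxRecDepth 1000000 in
theorem edges_9_52 : edgesRangeI iota E 9 2472 100942 = true := by decide +kernel

set_option maxRecDepth 1000000 in
theorem edges_10_97 : edgesRangeI iota E 10 1536 234441 = true := by decide +kernel

set_option maxRecDepth 1000000 in
theorem edges_0_102 : edgesRangeI iota E 0 1881 184563 = true := by decide +kernel

set_option maxRecDepth 1000000 in
theorem edges_1_150 : edgesRangeI iota E 1 1611 271562 = true := by decide +kernel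

set_option maxRecDepth 1000000 in
theorem edges_3_28 : edgesRangeI iota E 3 2005 52290 = true := by decide +kernel

set_option maxRecDepth 1000000 in
theorem edges_4_71 : edgesRangeI iota E 4 1894 134202 = true := by decide +kernel

set_option maxRecDepth 1000000 in
theorem edges_5_105 : edgesRangeI iota E 5 1989 195050 = true := by decide +kernel

set_option maxRecDepth 1000000 in
theorem edges_6_156 : edgesRangeI iota E 6 1685 289107 = true := by decide +kernel

set_option maxRecDepth 1000000 in
theorem edges_8_115 : edgesRangeI iota E 8 1842 226950 = true := by decide +kernel

set_option maxRecDepth 1000000 in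
theorem edges_9_163 : edgesRangeI iota E 9 1595 297970 = true := by decide +kernel

set_option maxRecDepth 1000000 in
theorem edges_11_87 : edgesRangeI iota E 11 2655 231139 = true := by decide +kernel

set_option maxRecDepth 1000000 in
theorem edges_1_49 : edgesRangeI iota E 1 1777 89303 = true := by decide +kernel

set_option maxRecDepth 1000000 in
theorem edges_2_102 : edgesRangeI iota E 2 1982 191435 = true := by decide +kernel

set_option maxRecDepth 1000000 in
theorem edges_3_164 : edgesRangeI iota E 3 1576 299559 = true := by decide +kernel

set_option maxRecDepth 1000000 in
theorem edges_5_45 : edgesRangeI iota E 5 1895 81658 = true := by decide +kernel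

set_option maxRecDepth 1000000 in
theorem edges_6_113 : edgesRangeI iota E 6 1905 212515 = true := by decide +kernel

set_option maxRecDepth 1000000 in
theorem edges_7_113 : edgesRangeI iota E 7 1972 211463 = true := by decide +kernel

set_option maxRecDepth 1000000 in
theorem edges_9_13 : edgesRangeI iota E 9 1706 27165 = true := by decide +kernel

set_option maxRecDepth 1000000 in
theorem edges_10_44 : edgesRangeI iota E 10 2657 108176 = true := by decide +kernel

set_option maxRecDepth 1000000 in
theorem edges_11_79 : edgesRangeI iota E 11 2565 210858 = true := by decide +kernel

set_option maxRecDepth 1000000 in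
theorem edges_9_168 : edgesRangeI iota E 9 1513 306091 = true := by decide +kernel

set_option maxRecDepth 1000000 in
theorem rows_45 : rowsRange E RS 1500 67500 = true := by decide +kernel

set_option maxRecDepth 1000000 in
theorem rows_93 : rowsRange E RS 1500 139500 = true := by decide +kernel

set_option maxRecDepth 1000000 in
theorem rows_141 : rowsRange E RS 1500 211500 = true := by decide +kernel

set_option maxRecDepth 1000000 in
theorem rows_189 : rowsRange E RS 1500 283500 = true := by decide +kernel

end Cfsg.Agent.Helper5.FiZATC
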