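import Cfsg.Agent.Helper5.FiZATCDatD
import Cfsg.Agent.Helper5.TCIB

/-! kernel checks of edges, aliases, rows: FiZATC -/

set_option autoImplicit false
set_option Elab.async false

namespace Cfsg.Agent.Helper5.FiZATC
open Cfsg.Agent.Helper5.TC Cfsg.Agent.Helper5.TCI

set_option maxRecDepth 1000000 in
theorem edges_8_20 : edgesRangeI iota E 8 1819 39034 = true := by decide +kernel

set_option maxRecDepth 1000000 in
theorem edges_4_116 : edgesRangeI iota E 4 1877 222158 = true := by decide +kernel

set_option maxRecDepth 1000000 in
theorem edges_0_166 : edgesRangeI iota E 0 1432 296820 = true := by decide +kernel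

set_option maxRecDepth 1000000 in
theorem edges_3_68 : edgesRangeI iota E 3 1778 128375 = true := by decide +kernel

set_option maxRecDepth 1000000 in
theorem edges_6_7 : edgesRangeI iota E 6 1772 13079 = true := by decide +kernel

set_option maxRecDepth 1000000 in
theorem edges_8_35 : edgesRangeI iota E 8 1992 67680 = true := by decide +kernel

set_option maxRecDepth 1000000 in
theorem edges_11_19 : edgesRangeI iota E 11 2860 50134 = true := by decide +kernel

set_option maxRecDepth 1000000 in
theorem edges_2_21 : edgesRangeI iota E 2 1812 37985 = true := by decide +kernel

set_option maxRecDepth 1000000 in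
theorem edges_4_68 : edgesRangeI iota E 4 1837 128457 = true := by decide +kernel

set_option maxRecDepth 1000000 in
theorem edges_7_8 : edgesRangeI iota E 7 1885 15829 = true := by decide +kernel

set_option maxRecDepth 1000000 in
theorem edges_9_57 : edgesRangeI iota E 9 1833 109932 = true := by decide +kernel

set_option maxRecDepth 1000000 in
theorem edges_1_11 : edgesRangeI iota E 1 1833 19618 = true := by decide +kernel

set_option maxRecDepth 1000000 in
theorem edges_3_116 : edgesRangeI iota E 3 1896 218041 = true := by decide +kernel

set_option maxRecDepth 1000000 in
theorem edges_5_145 : edgesRangeI iota E 5 1657 271420 = true := by decide +kernel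

set_option maxRecDepth 1000000 in
theorem edges_8_97 : edgesRangeI iota E 8 2255 190294 = true := by decide +kernel

set_option maxRecDepth 1000000 in
theorem edges_11_96 : edgesRangeI iota E 11 2368 253185 = true := by decide +kernel

set_option maxRecDepth 1000000 in
theorem edges_1_70 : edgesRangeI iota E 1 1751 128410 = true := by decide +kernel

set_option maxRecDepth 1000000 in
theorem edges_2_155 : edgesRangeI iota E 2 1665 285001 = true := by decide +kernel

set_option maxRecDepth 1000000 in
theorem edges_4_72 : edgesRangeI iota E 4 2094 136096 = true := by decide +kernel

set_option maxRecDepth 1000000 in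
theorem edges_5_138 : edgesRangeI iota E 5 1885 258240 = true := by decide +kernel

set_option maxRecDepth 1000000 in
theorem edges_7_69 : edgesRangeI iota E 7 2079 131715 = true := by decide +kernel

set_option maxRecDepth 1000000 in
theorem edges_9_56 : edgesRangeI iota E 9 1665 108267 = true := by decide +kernel

set_option maxRecDepth 1000000 in
theorem edges_10_98 : edgesRangeI iota E 10 2546 235977 = true := by decide +kernel

set_option maxRecDepth 1000000 in
theorem edges_0_105 : edgesRangeI iota E 0 1787 190445 = true := by decide +kernel

set_option maxRecDepth 1000000 in
theorem edges_1_151 : edgesRangeI iota E 1 1580 273173 = true := by decide +kernel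

set_option maxRecDepth 1000000 in
theorem edges_3_32 : edgesRangeI iota E 3 1874 59922 = true := by decide +kernel

set_option maxRecDepth 1000000 in
theorem edges_4_80 : edgesRangeI iota E 4 1934 152076 = true := by decide +kernel

set_option maxRecDepth 1000000 in
theorem edges_5_110 : edgesRangeI iota E 5 1922 204620 = true := by decide +kernel

set_option maxRecDepth 1000000 in
theorem edges_6_164 : edgesRangeI iota E 6 1560 302576 = true := by decide +kernel

set_option maxRecDepth 1000000 in
theorem edges_8_116 : edgesRangeI iota E 8 1993 228792 = true := by decide +kernel

set_option maxRecDepth 1000000 in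
theorem edges_10_7 : edgesRangeI iota E 10 2433 17994 = true := by decide +kernel

set_option maxRecDepth 1000000 in
theorem edges_11_89 : edgesRangeI iota E 11 2498 236196 = true := by decide +kernel

set_option maxRecDepth 1000000 in
theorem edges_1_50 : edgesRangeI iota E 1 1796 91080 = true := by decide +kernel

set_option maxRecDepth 1000000 in
theorem edges_2_104 : edgesRangeI iota E 2 1911 195303 = true := by decide +kernel

set_option maxRecDepth 1000000 in
theorem edges_4_2 : edgesRangeI iota E 4 1854 3645 = true := by decide +kernel

set_option maxRecDepth 1000000 in
theorem edges_5_48 : edgesRangeI iota E 5 1762 87163 = true := by decide +kernel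

set_option maxRecDepth 1000000 in
theorem edges_6_114 : edgesRangeI iota E 6 1956 214420 = true := by decide +kernel

set_option maxRecDepth 1000000 in
theorem edges_7_116 : edgesRangeI iota E 7 1797 217324 = true := by decide +kernel

set_option maxRecDepth 1000000 in
theorem edges_9_20 : edgesRangeI iota E 9 2409 40572 = true := by decide +kernel

set_option maxRecDepth 1000000 in
theorem edges_10_47 : edgesRangeI iota E 10 1904 115547 = true := by decide +kernel

set_option maxRecDepth 1000000 in
theorem edges_11_81 : edgesRangeI iota E 11 2584 216138 = true := by decide +kernel

set_option maxRecDepth 1000000 in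
theorem aliases_38 : aliasRange E 6170 301434 = true := by decide +kernel

set_option maxRecDepth 1000000 in
theorem rows_43 : rowsRange E RS 1500 64500 = true := by decide +kernel

set_option maxRecDepth 1000000 in
theorem rows_91 : rowsRange E RS 1500 136500 = true := by decide +kernel

set_option maxRecDepth 1000000 in
theorem rows_139 : rowsRange E RS 1500 208500 = true := by decide +kernel

set_option maxRecDepth 1000000 in
theorem rows_187 : rowsRange E RS 1500 280500 = true := by decide +kernel

end Cfsg.Agent.Helper5.FiZATC
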