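import Cfsg.Agent.Helper5.FiZATCDatD
import Cfsg.Agent.Helper5.TCIB

/-! kernel checks of edges, aliases, rows: FiZATC -/

set_option autoImplicit false
set_option Elab.async false

namespace Cfsg.Agent.Helper5.FiZATC
open Cfsg.Agent.Helper5.TC Cfsg.Agent.Helper5.TCI

set_option maxRecDepth 1000000 in
theorem edges_8_26 : edgesRangeI iota E 8 1891 50448 = true := by decide +kernel

set_option maxRecDepth 1000000 in
theorem edges_5_34 : edgesRangeI iota E 5 1750 61750 = true := by decide +kernel

set_option maxRecDepth 1000000 in
theorem edges_0_167 : edgesRangeI iota E 0 1586 298252 = true := by decide +kernel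

set_option maxRecDepth 1000000 in
theorem edges_3_83 : edgesRangeI iota E 3 1892 156780 = true := by decide +kernel

set_option maxRecDepth 1000000 in
theorem edges_6_13 : edgesRangeI iota E 6 1968 24469 = true := by decide +kernel

set_option maxRecDepth 1000000 in
theorem edges_8_40 : edgesRangeI iota E 8 1770 77229 = true := by decide +kernel

set_option maxRecDepth 1000000 in
theorem edges_11_38 : edgesRangeI iota E 11 2737 101771 = true := by decide +kernel

set_option maxRecDepth 1000000 in
theorem edges_2_27 : edgesRangeI iota E 2 1857 49268 = true := by decide +kernel

set_option maxRecDepth 1000000 in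
theorem edges_4_74 : edgesRangeI iota E 4 2044 140216 = true := by decide +kernel

set_option maxRecDepth 1000000 in
theorem edges_7_10 : edgesRangeI iota E 7 2058 19759 = true := by decide +kernel

set_option maxRecDepth 1000000 in
theorem edges_9_89 : edgesRangeI iota E 9 1552 168792 = true := by decide +kernel

set_option maxRecDepth 1000000 in
theorem edges_1_14 : edgesRangeI iota E 1 1822 25009 = true := by decide +kernel

set_option maxRecDepth 1000000 in
theorem edges_3_118 : edgesRangeI iota E 3 1752 221899 = true := by decide +kernel

set_option maxRecDepth 1000000 in
theorem edges_6_1 : edgesRangeI iota E 6 1931 1828 = true := by decide +kernel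

set_option maxRecDepth 1000000 in
theorem edges_8_134 : edgesRangeI iota E 8 2183 264992 = true := by decide +kernel

set_option maxRecDepth 1000000 in
theorem edges_11_109 : edgesRangeI iota E 11 2183 282021 = true := by decide +kernel

set_option maxRecDepth 1000000 in
theorem edges_1_82 : edgesRangeI iota E 1 1760 150591 = true := by decide +kernel

set_option maxRecDepth 1000000 in
theorem edges_2_159 : edgesRangeI iota E 2 1555 291332 = true := by decide +kernel

set_option maxRecDepth 1000000 in
theorem edges_4_87 : edgesRangeI iota E 4 1913 166040 = true := by decide +kernel

set_option maxRecDepth 1000000 in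
theorem edges_5_146 : edgesRangeI iota E 5 1768 273077 = true := by decide +kernel

set_option maxRecDepth 1000000 in
theorem edges_7_74 : edgesRangeI iota E 7 2138 140766 = true := by decide +kernel

set_option maxRecDepth 1000000 in
theorem edges_9_58 : edgesRangeI iota E 9 1667 111765 = true := by decide +kernel

set_option maxRecDepth 1000000 in
theorem edges_10_103 : edgesRangeI iota E 10 1474 247279 = true := by decide +kernel

set_option maxRecDepth 1000000 in
theorem edges_0_108 : edgesRangeI iota E 0 1703 195908 = true := by decide +kernel

set_option maxRecDepth 1000000 in
theorem edges_1_154 : edgesRangeI iota E 1 1658 277987 = true := by decide +kernel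

set_option maxRecDepth 1000000 in
theorem edges_3_39 : edgesRangeI iota E 3 1805 73228 = true := by decide +kernel

set_option maxRecDepth 1000000 in
theorem edges_4_82 : edgesRangeI iota E 4 1958 155921 = true := by decide +kernel

set_option maxRecDepth 1000000 in
theorem edges_5_111 : edgesRangeI iota E 5 1848 206542 = true := by decide +kernel

set_option maxRecDepth 1000000 in
theorem edges_7_5 : edgesRangeI iota E 7 1920 9797 = true := by decide +kernel

set_option maxRecDepth 1000000 in
theorem edges_8_117 : edgesRangeI iota E 8 2096 230785 = true := by decide +kernel

set_option maxRecDepth 1000000 in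
theorem edges_10_13 : edgesRangeI iota E 10 2377 33374 = true := by decide +kernel

set_option maxRecDepth 1000000 in
theorem edges_11_100 : edgesRangeI iota E 11 2407 262870 = true := by decide +kernel

set_option maxRecDepth 1000000 in
theorem edges_1_61 : edgesRangeI iota E 1 1795 111509 = true := by decide +kernel

set_option maxRecDepth 1000000 in
theorem edges_2_106 : edgesRangeI iota E 2 1796 198982 = true := by decide +kernel

set_option maxRecDepth 1000000 in
theorem edges_4_8 : edgesRangeI iota E 4 1832 14317 = true := by decide +kernel

set_option maxRecDepth 1000000 in
theorem edges_5_50 : edgesRangeI iota E 5 1834 90759 = true := by decide +kernel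

set_option maxRecDepth 1000000 in
theorem edges_6_115 : edgesRangeI iota E 6 1941 216376 = true := by decide +kernel

set_option maxRecDepth 1000000 in
theorem edges_7_130 : edgesRangeI iota E 7 1784 242429 = true := by decide +kernel

set_option maxRecDepth 1000000 in
theorem edges_9_25 : edgesRangeI iota E 9 1854 50323 = true := by decide +kernel

set_option maxRecDepth 1000000 in
theorem edges_10_50 : edgesRangeI iota E 10 2000 123176 = true := by decide +kernel

set_option maxRecDepth 1000000 in
theorem edges_11_82 : edgesRangeI iota E 11 3026 218722 = true := by decide +kernel

set_option maxRecDepth 1000000 in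
theorem edges_0_172 : edgesRangeI iota E 0 1429 306175 = true := by decide +kernel

set_option maxRecDepth 1000000 in
theorem rows_37 : rowsRange E RS 1500 55500 = true := by decide +kernel

set_option maxRecDepth 1000000 in
theorem rows_85 : rowsRange E RS 1500 127500 = true := by decide +kernel

set_option maxRecDepth 1000000 in
theorem rows_133 : rowsRange E RS 1500 199500 = true := by decide +kernel

set_option maxRecDepth 1000000 in
theorem rows_181 : rowsRange E RS 1500 271500 = true := by decide +kernel

end Cfsg.Agent.Helper5.FiZATC
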