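import Cfsg.Agent.Helper5.FiZATCDatD
import Cfsg.Agent.Helper5.TCIB

/-! kernel checks of edges, aliases, rows: FiZATC -/

set_option autoImplicit false
set_option Elab.async false

namespace Cfsg.Agent.Helper5.FiZATC
open Cfsg.Agent.Helper5.TC Cfsg.Agent.Helper5.TCI

set_option maxRecDepth 1000000 in
theorem cnt_4 : cntFrom RS 20000 80000 0 = 20000 := by decide +kernel

set_option maxRecDepth 1000000 in
theorem edges_0_75 : edgesRangeI iota E 0 1778 135629 = true := by decide +kernel

set_option maxRecDepth 1000000 in
theorem edges_2_89 : edgesRangeI iota E 2 1961 166851 = true := by decide +kernel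

set_option maxRecDepth 1000000 in
theorem edges_5_7 : edgesRangeI iota E 5 1769 12393 = true := by decide +kernel

set_option maxRecDepth 1000000 in
theorem edges_7_93 : edgesRangeI iota E 7 1682 175338 = true := by decide +kernel

set_option maxRecDepth 1000000 in
theorem edges_9_144 : edgesRangeI iota E 9 1700 266345 = true := by decide +kernel

set_option maxRecDepth 1000000 in
theorem edges_1_38 : edgesRangeI iota E 1 1809 68801 = true := by decide +kernel

set_option maxRecDepth 1000000 in
theorem edges_3_34 : edgesRangeI iota E 3 1973 63571 = true := by decide +kernel

set_option maxRecDepth 1000000 in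
theorem edges_5_161 : edgesRangeI iota E 5 1588 298868 = true := by decide +kernel

set_option maxRecDepth 1000000 in
theorem edges_8_24 : edgesRangeI iota E 8 1841 46714 = true := by decide +kernel

set_option maxRecDepth 1000000 in
theorem edges_11_57 : edgesRangeI iota E 11 2635 152508 = true := by decide +kernel

set_option maxRecDepth 1000000 in
theorem edges_3_33 : edgesRangeI iota E 3 1775 61796 = true := by decide +kernel

set_option maxRecDepth 1000000 in
theorem edges_5_28 : edgesRangeI iota E 5 1855 50805 = true := by decide +kernel

set_option maxRecDepth 1000000 in
theorem edges_7_162 : edgesRangeI iota E 7 1587 297483 = true := by decide +kernel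

set_option maxRecDepth 1000000 in
theorem edges_11_1 : edgesRangeI iota E 11 2623 2438 = true := by decide +kernel

set_option maxRecDepth 1000000 in
theorem edges_1_7 : edgesRangeI iota E 1 1780 12441 = true := by decide +kernel

set_option maxRecDepth 1000000 in
theorem edges_2_63 : edgesRangeI iota E 2 1983 117218 = true := by decide +kernel

set_option maxRecDepth 1000000 in
theorem edges_3_128 : edgesRangeI iota E 3 1770 239347 = true := by decide +kernel

set_option maxRecDepth 1000000 in
theorem edges_5_72 : edgesRangeI iota E 5 2062 131195 = true := by decide +kernel

set_option maxRecDepth 1000000 in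
theorem edges_6_144 : edgesRangeI iota E 6 1579 268756 = true := by decide +kernel

set_option maxRecDepth 1000000 in
theorem edges_8_108 : edgesRangeI iota E 8 2259 212478 = true := by decide +kernel

set_option maxRecDepth 1000000 in
theorem edges_10_6 : edgesRangeI iota E 10 2633 15361 = true := by decide +kernel

set_option maxRecDepth 1000000 in
theorem edges_0_24 : edgesRangeI iota E 0 1762 43383 = true := by decide +kernel

set_option maxRecDepth 1000000 in
theorem edges_1_35 : edgesRangeI iota E 1 1965 62892 = true := by decide +kernel

set_option maxRecDepth 1000000 in
theorem edges_2_67 : edgesRangeI iota E 2 1881 124931 = true := by decide +kernel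

set_option maxRecDepth 1000000 in
theorem edges_3_163 : edgesRangeI iota E 3 1605 297954 = true := by decide +kernel

set_option maxRecDepth 1000000 in
theorem edges_5_9 : edgesRangeI iota E 5 1792 16016 = true := by decide +kernel

set_option maxRecDepth 1000000 in
theorem edges_6_42 : edgesRangeI iota E 6 1934 80820 = true := by decide +kernel

set_option maxRecDepth 1000000 in
theorem edges_7_125 : edgesRangeI iota E 7 1631 233129 = true := by decide +kernel

set_option maxRecDepth 1000000 in
theorem edges_9_71 : edgesRangeI iota E 9 1571 135030 = true := by decide +kernel

set_option maxRecDepth 1000000 in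
theorem edges_10_111 : edgesRangeI iota E 10 2086 265716 = true := by decide +kernel

set_option maxRecDepth 1000000 in
theorem edges_0_73 : edgesRangeI iota E 0 1766 132066 = true := by decide +kernel

set_option maxRecDepth 1000000 in
theorem edges_1_168 : edgesRangeI iota E 1 1604 300509 = true := by decide +kernel

set_option maxRecDepth 1000000 in
theorem edges_3_49 : edgesRangeI iota E 3 1909 91992 = true := by decide +kernel

set_option maxRecDepth 1000000 in
theorem edges_4_105 : edgesRangeI iota E 4 1907 201034 = true := by decide +kernel

set_option maxRecDepth 1000000 in
theorem edges_6_2 : edgesRangeI iota E 6 1869 3759 = true := by decide +kernel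

set_option maxRecDepth 1000000 in
theorem edges_7_16 : edgesRangeI iota E 7 2137 31609 = true := by decide +kernel

set_option maxRecDepth 1000000 in
theorem edges_8_66 : edgesRangeI iota E 8 1714 127787 = true := by decide +kernel

set_option maxRecDepth 1000000 in
theorem edges_9_121 : edgesRangeI iota E 9 1740 225386 = true := by decide +kernel

set_option maxRecDepth 1000000 in
theorem edges_10_122 : edgesRangeI iota E 10 2741 287553 = true := by decide +kernel

set_option maxRecDepth 1000000 in
theorem aliases_13 : aliasRange E 8000 101482 = true := by decide +kernel

set_option maxRecDepth 1000000 in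
theorem rows_20 : rowsRange E RS 1500 30000 = true := by decide +kernel

set_option maxRecDepth 1000000 in
theorem rows_52 : rowsRange E RS 1500 78000 = true := by decide +kernel

set_option maxRecDepth 1000000 in
theorem rows_100 : rowsRange E RS 1500 150000 = true := by decide +kernel

set_option maxRecDepth 1000000 in
theorem rows_148 : rowsRange E RS 1500 222000 = true := by decide +kernel

set_option maxRecDepth 1000000 in
theorem rows_196 : rowsRange E RS 1500 294000 = true := by decide +kernel

end Cfsg.Agent.Helper5.FiZATC
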