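import Cfsg.Agent.Helper5.FiZATCDatD
import Cfsg.Agent.Helper5.TCIB

/-! kernel checks of edges, aliases, rows: FiZATC -/

set_option autoImplicit false
set_option Elab.async false

namespace Cfsg.Agent.Helper5.FiZATC
open Cfsg.Agent.Helper5.TC Cfsg.Agent.Helper5.TCI

set_option maxRecDepth 1000000 in
theorem edges_8_47 : edgesRangeI iota E 8 1889 90585 = true := by decide +kernel

set_option maxRecDepth 1000000 in
theorem edges_6_37 : edgesRangeI iota E 6 1899 71327 = true := by decide +kernel

set_option maxRecDepth 1000000 in
theorem edges_0_168 : edgesRangeI iota E 0 1610 299838 = true := by decide +kernel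

set_option maxRecDepth 1000000 in
theorem edges_3_99 : edgesRangeI iota E 3 1819 186952 = true := by decide +kernel

set_option maxRecDepth 1000000 in
theorem edges_6_14 : edgesRangeI iota E 6 2045 26437 = true := by decide +kernel

set_option maxRecDepth 1000000 in
theorem edges_8_48 : edgesRangeI iota E 8 1995 92474 = true := by decide +kernel

set_option maxRecDepth 1000000 in
theorem edges_11_46 : edgesRangeI iota E 11 2852 123215 = true := by decide +kernel

set_option maxRecDepth 1000000 in
theorem edges_2_30 : edgesRangeI iota E 2 1855 55042 = true := by decide +kernel

set_option maxRecDepth 1000000 in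
theorem edges_4_86 : edgesRangeI iota E 4 2040 164000 = true := by decide +kernel

set_option maxRecDepth 1000000 in
theorem edges_7_17 : edgesRangeI iota E 7 2086 33746 = true := by decide +kernel

set_option maxRecDepth 1000000 in
theorem edges_9_91 : edgesRangeI iota E 9 1478 172019 = true := by decide +kernel

set_option maxRecDepth 1000000 in
theorem edges_1_27 : edgesRangeI iota E 1 1744 48386 = true := by decide +kernel

set_option maxRecDepth 1000000 in
theorem edges_3_122 : edgesRangeI iota E 3 1704 228755 = true := by decide +kernel

set_option maxRecDepth 1000000 in
theorem edges_6_23 : edgesRangeI iota E 6 1913 44113 = true := by decide +kernel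

set_option maxRecDepth 1000000 in
theorem edges_8_136 : edgesRangeI iota E 8 1685 269364 = true := by decide +kernel

set_option maxRecDepth 1000000 in
theorem edges_11_114 : edgesRangeI iota E 11 2055 290981 = true := by decide +kernel

set_option maxRecDepth 1000000 in
theorem edges_1_91 : edgesRangeI iota E 1 1967 167170 = true := by decide +kernel

set_option maxRecDepth 1000000 in
theorem edges_2_163 : edgesRangeI iota E 2 1510 297694 = true := by decide +kernel

set_option maxRecDepth 1000000 in
theorem edges_4_88 : edgesRangeI iota E 4 2052 167953 = true := by decide +kernel

set_option maxRecDepth 1000000 in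
theorem edges_5_148 : edgesRangeI iota E 5 1652 276586 = true := by decide +kernel

set_option maxRecDepth 1000000 in
theorem edges_7_77 : edgesRangeI iota E 7 2142 146354 = true := by decide +kernel

set_option maxRecDepth 1000000 in
theorem edges_9_61 : edgesRangeI iota E 9 1690 116692 = true := by decide +kernel

set_option maxRecDepth 1000000 in
theorem edges_10_107 : edgesRangeI iota E 10 2388 256847 = true := by decide +kernel

set_option maxRecDepth 1000000 in
theorem edges_0_109 : edgesRangeI iota E 0 1706 197611 = true := by decide +kernel

set_option maxRecDepth 1000000 in
theorem edges_1_155 : edgesRangeI iota E 1 1662 279645 = true := by decide +kernel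

set_option maxRecDepth 1000000 in
theorem edges_3_41 : edgesRangeI iota E 3 1797 76898 = true := by decide +kernel

set_option maxRecDepth 1000000 in
theorem edges_4_83 : edgesRangeI iota E 4 2033 157879 = true := by decide +kernel

set_option maxRecDepth 1000000 in
theorem edges_5_112 : edgesRangeI iota E 5 2005 208390 = true := by decide +kernel

set_option maxRecDepth 1000000 in
theorem edges_7_12 : edgesRangeI iota E 7 2057 23724 = true := by decide +kernel

set_option maxRecDepth 1000000 in
theorem edges_8_120 : edgesRangeI iota E 8 2150 236931 = true := by decide +kernel

set_option maxRecDepth 1000000 in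
theorem edges_10_17 : edgesRangeI iota E 10 2494 43197 = true := by decide +kernel

set_option maxRecDepth 1000000 in
theorem edges_11_103 : edgesRangeI iota E 11 1832 270081 = true := by decide +kernel

set_option maxRecDepth 1000000 in
theorem edges_1_69 : edgesRangeI iota E 1 1922 126488 = true := by decide +kernel

set_option maxRecDepth 1000000 in
theorem edges_2_117 : edgesRangeI iota E 2 1894 219629 = true := by decide +kernel

set_option maxRecDepth 1000000 in
theorem edges_4_19 : edgesRangeI iota E 4 1778 34230 = true := by decide +kernel

set_option maxRecDepth 1000000 in
theorem edges_5_52 : edgesRangeI iota E 5 1711 94422 = true := by decide +kernel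

set_option maxRecDepth 1000000 in
theorem edges_6_118 : edgesRangeI iota E 6 1629 222164 = true := by decide +kernel

set_option maxRecDepth 1000000 in
theorem edges_7_141 : edgesRangeI iota E 7 1945 261351 = true := by decide +kernel

set_option maxRecDepth 1000000 in
theorem edges_9_26 : edgesRangeI iota E 9 2539 52177 = true := by decide +kernel

set_option maxRecDepth 1000000 in
theorem edges_10_51 : edgesRangeI iota E 10 2317 125176 = true := by decide +kernel

set_option maxRecDepth 1000000 in
theorem edges_11_86 : edgesRangeI iota E 11 2441 228698 = true := by decide +kernel

set_option maxRecDepth 1000000 in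
theorem rows_0 : rowsRange E RS 1500 0 = true := by decide +kernel

set_option maxRecDepth 1000000 in
theorem rows_29 : rowsRange E RS 1500 43500 = true := by decide +kernel

set_option maxRecDepth 1000000 in
theorem rows_77 : rowsRange E RS 1500 115500 = true := by decide +kernel

set_option maxRecDepth 1000000 in
theorem rows_125 : rowsRange E RS 1500 187500 = true := by decide +kernel

set_option maxRecDepth 1000000 in
theorem rows_173 : rowsRange E RS 1500 259500 = true := by decide +kernel

end Cfsg.Agent.Helper5.FiZATC
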