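import Cfsg.Agent.Helper5.FiZATCDatD
import Cfsg.Agent.Helper5.TCIB

/-! kernel checks of edges, aliases, rows: FiZATC -/

set_option autoImplicit false
set_option Elab.async false

namespace Cfsg.Agent.Helper5.FiZATC
open Cfsg.Agent.Helper5.TC Cfsg.Agent.Helper5.TCI

set_option maxRecDepth 1000000 in
theorem edges_8_49 : edgesRangeI iota E 8 1709 94469 = true := by decide +kernel

set_option maxRecDepth 1000000 in
theorem edges_6_52 : edgesRangeI iota E 6 2090 99780 = true := by decide +kernel

set_option maxRecDepth 1000000 in
theorem edges_1_0 : edgesRangeI iota E 1 1774 0 = true := by decide +kernel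

set_option maxRecDepth 1000000 in
theorem edges_3_114 : edgesRangeI iota E 3 1802 214362 = true := by decide +kernel

set_option maxRecDepth 1000000 in
theorem edges_6_26 : edgesRangeI iota E 6 2026 49763 = true := by decide +kernel

set_option maxRecDepth 1000000 in
theorem edges_8_61 : edgesRangeI iota E 8 2002 117610 = true := by decide +kernel

set_option maxRecDepth 1000000 in
theorem edges_11_48 : edgesRangeI iota E 11 2361 128568 = true := by decide +kernel

set_option maxRecDepth 1000000 in
theorem edges_2_33 : edgesRangeI iota E 2 1881 60641 = true := by decide +kernel

set_option maxRecDepth 1000000 in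
theorem edges_4_93 : edgesRangeI iota E 4 1886 177690 = true := by decide +kernel

set_option maxRecDepth 1000000 in
theorem edges_7_19 : edgesRangeI iota E 7 1898 37675 = true := by decide +kernel

set_option maxRecDepth 1000000 in
theorem edges_9_98 : edgesRangeI iota E 9 1656 183477 = true := by decide +kernel

set_option maxRecDepth 1000000 in
theorem edges_1_30 : edgesRangeI iota E 1 1862 53974 = true := by decide +kernel

set_option maxRecDepth 1000000 in
theorem edges_3_124 : edgesRangeI iota E 3 1834 232165 = true := by decide +kernel

set_option maxRecDepth 1000000 in
theorem edges_6_27 : edgesRangeI iota E 6 2017 51789 = true := by decide +kernel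

set_option maxRecDepth 1000000 in
theorem edges_8_139 : edgesRangeI iota E 8 1787 274584 = true := by decide +kernel

set_option maxRecDepth 1000000 in
theorem edges_11_115 : edgesRangeI iota E 11 1969 293036 = true := by decide +kernel

set_option maxRecDepth 1000000 in
theorem edges_1_101 : edgesRangeI iota E 1 1905 185399 = true := by decide +kernel

set_option maxRecDepth 1000000 in
theorem edges_2_165 : edgesRangeI iota E 2 1587 300737 = true := by decide +kernel

set_option maxRecDepth 1000000 in
theorem edges_4_89 : edgesRangeI iota E 4 1937 170005 = true := by decide +kernel

set_option maxRecDepth 1000000 in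
theorem edges_5_155 : edgesRangeI iota E 5 1670 288715 = true := by decide +kernel

set_option maxRecDepth 1000000 in
theorem edges_7_79 : edgesRangeI iota E 7 1672 150126 = true := by decide +kernel

set_option maxRecDepth 1000000 in
theorem edges_9_62 : edgesRangeI iota E 9 2559 118382 = true := by decide +kernel

set_option maxRecDepth 1000000 in
theorem edges_10_114 : edgesRangeI iota E 10 2754 270805 = true := by decide +kernel

set_option maxRecDepth 1000000 in
theorem edges_0_115 : edgesRangeI iota E 0 1829 208078 = true := by decide +kernel

set_option maxRecDepth 1000000 in
theorem edges_1_158 : edgesRangeI iota E 1 1632 284722 = true := by decide +kernel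

set_option maxRecDepth 1000000 in
theorem edges_3_64 : edgesRangeI iota E 3 2014 120669 = true := by decide +kernel

set_option maxRecDepth 1000000 in
theorem edges_4_84 : edgesRangeI iota E 4 2086 159912 = true := by decide +kernel

set_option maxRecDepth 1000000 in
theorem edges_5_114 : edgesRangeI iota E 5 2048 212318 = true := by decide +kernel

set_option maxRecDepth 1000000 in
theorem edges_7_22 : edgesRangeI iota E 7 2236 43516 = true := by decide +kernel

set_option maxRecDepth 1000000 in
theorem edges_8_128 : edgesRangeI iota E 8 1929 253047 = true := by decide +kernel

set_option maxRecDepth 1000000 in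
theorem edges_10_22 : edgesRangeI iota E 10 2684 55346 = true := by decide +kernel

set_option maxRecDepth 1000000 in
theorem edges_11_111 : edgesRangeI iota E 11 1524 286355 = true := by decide +kernel

set_option maxRecDepth 1000000 in
theorem edges_1_71 : edgesRangeI iota E 1 1791 130161 = true := by decide +kernel

set_option maxRecDepth 1000000 in
theorem edges_2_121 : edgesRangeI iota E 2 1765 226830 = true := by decide +kernel

set_option maxRecDepth 1000000 in
theorem edges_4_26 : edgesRangeI iota E 4 1823 47181 = true := by decide +kernel

set_option maxRecDepth 1000000 in
theorem edges_5_68 : edgesRangeI iota E 5 1849 123942 = true := by decide +kernel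

set_option maxRecDepth 1000000 in
theorem edges_6_122 : edgesRangeI iota E 6 1747 228960 = true := by decide +kernel

set_option maxRecDepth 1000000 in
theorem edges_7_142 : edgesRangeI iota E 7 1974 263296 = true := by decide +kernel

set_option maxRecDepth 1000000 in
theorem edges_9_32 : edgesRangeI iota E 9 1880 63526 = true := by decide +kernel

set_option maxRecDepth 1000000 in
theorem edges_10_52 : edgesRangeI iota E 10 1683 127493 = true := by decide +kernel

set_option maxRecDepth 1000000 in
theorem edges_11_91 : edgesRangeI iota E 11 2476 241302 = true := by decide +kernel

set_option maxRecDepth 1000000 in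
theorem rows_1 : rowsRange E RS 1500 1500 = true := by decide +kernel

set_option maxRecDepth 1000000 in
theorem rows_30 : rowsRange E RS 1500 45000 = true := by decide +kernel

set_option maxRecDepth 1000000 in
theorem rows_78 : rowsRange E RS 1500 117000 = true := by decide +kernel

set_option maxRecDepth 1000000 in
theorem rows_126 : rowsRange E RS 1500 189000 = true := by decide +kernel

set_option maxRecDepth 1000000 in
theorem rows_174 : rowsRange E RS 1500 261000 = true := by decide +kernel

end Cfsg.Agent.Helper5.FiZATC
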