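import Cfsg.Agent.Helper5.FiZATCDatD
import Cfsg.Agent.Helper5.TCIB

/-! kernel checks of edges, aliases, rows: FiZATC -/

set_option autoImplicit false
set_option Elab.async false

namespace Cfsg.Agent.Helper5.FiZATC
open Cfsg.Agent.Helper5.TC Cfsg.Agent.Helper5.TCI

set_option maxRecDepth 1000000 in
theorem edges_8_94 : edgesRangeI iota E 8 2240 183725 = true := by decide +kernel

set_option maxRecDepth 1000000 in
theorem edges_8_4 : edgesRangeI iota E 8 1946 8188 = true := by decide +kernel

set_option maxRecDepth 1000000 in
theorem edges_1_23 : edgesRangeI iota E 1 1901 41212 = true := by decide +kernel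

set_option maxRecDepth 1000000 in
theorem edges_3_115 : edgesRangeI iota E 3 1877 216164 = true := by decide +kernel

set_option maxRecDepth 1000000 in
theorem edges_6_31 : edgesRangeI iota E 6 1908 59597 = true := by decide +kernel

set_option maxRecDepth 1000000 in
theorem edges_8_70 : edgesRangeI iota E 8 1800 135409 = true := by decide +kernel

set_option maxRecDepth 1000000 in
theorem edges_11_49 : edgesRangeI iota E 11 2725 130929 = true := by decide +kernel

set_option maxRecDepth 1000000 in
theorem edges_2_34 : edgesRangeI iota E 2 1933 62522 = true := by decide +kernel

set_option maxRecDepth 1000000 in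
theorem edges_4_98 : edgesRangeI iota E 4 2015 187560 = true := by decide +kernel

set_option maxRecDepth 1000000 in
theorem edges_7_34 : edgesRangeI iota E 7 1746 66950 = true := by decide +kernel

set_option maxRecDepth 1000000 in
theorem edges_9_108 : edgesRangeI iota E 9 1902 201926 = true := by decide +kernel

set_option maxRecDepth 1000000 in
theorem edges_1_33 : edgesRangeI iota E 1 1699 59471 = true := by decide +kernel

set_option maxRecDepth 1000000 in
theorem edges_3_125 : edgesRangeI iota E 3 1813 233999 = true := by decide +kernel

set_option maxRecDepth 1000000 in
theorem edges_6_56 : edgesRangeI iota E 6 1807 107626 = true := by decide +kernel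

set_option maxRecDepth 1000000 in
theorem edges_8_143 : edgesRangeI iota E 8 1988 282055 = true := by decide +kernel

set_option maxRecDepth 1000000 in
theorem edges_0_2 : edgesRangeI iota E 0 1902 3642 = true := by decide +kernel

set_option maxRecDepth 1000000 in
theorem edges_1_9 : edgesRangeI iota E 1 1752 16041 = true := by decide +kernel

set_option maxRecDepth 1000000 in
theorem edges_2_66 : edgesRangeI iota E 2 1850 123081 = true := by decide +kernel

set_option maxRecDepth 1000000 in
theorem edges_3_133 : edgesRangeI iota E 3 1688 248288 = true := by decide +kernel

set_option maxRecDepth 1000000 in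
theorem edges_5_80 : edgesRangeI iota E 5 1921 146587 = true := by decide +kernel

set_option maxRecDepth 1000000 in
theorem edges_6_149 : edgesRangeI iota E 6 1685 277077 = true := by decide +kernel

set_option maxRecDepth 1000000 in
theorem edges_8_126 : edgesRangeI iota E 8 1749 249363 = true := by decide +kernel

set_option maxRecDepth 1000000 in
theorem edges_10_31 : edgesRangeI iota E 10 1660 77754 = true := by decide +kernel

set_option maxRecDepth 1000000 in
theorem edges_0_29 : edgesRangeI iota E 0 1836 52421 = true := by decide +kernel

set_option maxRecDepth 1000000 in
theorem edges_1_83 : edgesRangeI iota E 1 1828 152351 = true := by decide +kernel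

set_option maxRecDepth 1000000 in
theorem edges_2_110 : edgesRangeI iota E 2 1847 206263 = true := by decide +kernel

set_option maxRecDepth 1000000 in
theorem edges_4_20 : edgesRangeI iota E 4 1902 36008 = true := by decide +kernel

set_option maxRecDepth 1000000 in
theorem edges_5_41 : edgesRangeI iota E 5 1862 74421 = true := by decide +kernel

set_option maxRecDepth 1000000 in
theorem edges_6_87 : edgesRangeI iota E 6 1994 164908 = true := by decide +kernel

set_option maxRecDepth 1000000 in
theorem edges_8_8 : edgesRangeI iota E 8 1925 15984 = true := by decide +kernel

set_option maxRecDepth 1000000 in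
theorem edges_9_111 : edgesRangeI iota E 9 1661 207077 = true := by decide +kernel

set_option maxRecDepth 1000000 in
theorem edges_11_17 : edgesRangeI iota E 11 2585 44940 = true := by decide +kernel

set_option maxRecDepth 1000000 in
theorem edges_0_118 : edgesRangeI iota E 0 1927 213760 = true := by decide +kernel

set_option maxRecDepth 1000000 in
theorem edges_2_28 : edgesRangeI iota E 2 1921 51125 = true := by decide +kernel

set_option maxRecDepth 1000000 in
theorem edges_3_84 : edgesRangeI iota E 3 1919 158672 = true := by decide +kernel

set_option maxRecDepth 1000000 in
theorem edges_4_134 : edgesRangeI iota E 4 1788 254769 = true := by decide +kernel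

set_option maxRecDepth 1000000 in
theorem edges_6_25 : edgesRangeI iota E 6 1892 47871 = true := by decide +kernel

set_option maxRecDepth 1000000 in
theorem edges_7_50 : edgesRangeI iota E 7 1877 96816 = true := by decide +kernel

set_option maxRecDepth 1000000 in
theorem edges_8_92 : edgesRangeI iota E 8 2107 179741 = true := by decide +kernel

set_option maxRecDepth 1000000 in
theorem edges_9_164 : edgesRangeI iota E 9 1595 299565 = true := by decide +kernel

set_option maxRecDepth 1000000 in
theorem edges_11_24 : edgesRangeI iota E 11 2757 63750 = true := by decide +kernel

set_option maxRecDepth 1000000 in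
theorem aliases_22 : aliasRange E 8000 173434 = true := by decide +kernel

set_option maxRecDepth 1000000 in
theorem rows_61 : rowsRange E RS 1500 91500 = true := by decide +kernel

set_option maxRecDepth 1000000 in
theorem rows_109 : rowsRange E RS 1500 163500 = true := by decide +kernel

set_option maxRecDepth 1000000 in
theorem rows_157 : rowsRange E RS 1500 235500 = true := by decide +kernel

set_option maxRecDepth 1000000 in
theorem edges_10_132 : edgesRangeI iota E 10 922 306682 = true := by decide +kernel

end Cfsg.Agent.Helper5.FiZATC
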