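import Cfsg.Agent.Helper5.FiZATCDatD
import Cfsg.Agent.Helper5.TCIB

/-! kernel checks of edges, aliases, rows: FiZATC -/

set_option autoImplicit false
set_option Elab.async false

namespace Cfsg.Agent.Helper5.FiZATC
open Cfsg.Agent.Helper5.TC Cfsg.Agent.Helper5.TCI

set_option maxRecDepth 1000000 in
theorem edges_8_100 : edgesRangeI iota E 8 1751 196725 = true := by decide +kernel

set_option maxRecDepth 1000000 in
theorem edges_8_12 : edgesRangeI iota E 8 1959 23665 = true := by decide +kernel

set_option maxRecDepth 1000000 in
theorem edges_1_37 : edgesRangeI iota E 1 1924 66877 = true := by decide +kernel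

set_option maxRecDepth 1000000 in
theorem edges_3_138 : edgesRangeI iota E 3 1761 256626 = true := by decide +kernel

set_option maxRecDepth 1000000 in
theorem edges_6_35 : edgesRangeI iota E 6 2067 67432 = true := by decide +kernel

set_option maxRecDepth 1000000 in
theorem edges_8_85 : edgesRangeI iota E 8 2147 165818 = true := by decide +kernel

set_option maxRecDepth 1000000 in
theorem edges_11_62 : edgesRangeI iota E 11 2759 166371 = true := by decide +kernel

set_option maxRecDepth 1000000 in
theorem edges_2_46 : edgesRangeI iota E 2 1823 85341 = true := by decide +kernel

set_option maxRecDepth 1000000 in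
theorem edges_4_123 : edgesRangeI iota E 4 1840 234825 = true := by decide +kernel

set_option maxRecDepth 1000000 in
theorem edges_7_44 : edgesRangeI iota E 7 2333 85682 = true := by decide +kernel

set_option maxRecDepth 1000000 in
theorem edges_9_137 : edgesRangeI iota E 9 1868 253366 = true := by decide +kernel

set_option maxRecDepth 1000000 in
theorem edges_1_36 : edgesRangeI iota E 1 2020 64857 = true := by decide +kernel

set_option maxRecDepth 1000000 in
theorem edges_3_127 : edgesRangeI iota E 3 1764 237583 = true := by decide +kernel

set_option maxRecDepth 1000000 in
theorem edges_6_58 : edgesRangeI iota E 6 1912 111210 = true := by decide +kernel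

set_option maxRecDepth 1000000 in
theorem edges_8_144 : edgesRangeI iota E 8 2161 284043 = true := by decide +kernel

set_option maxRecDepth 1000000 in
theorem edges_0_13 : edgesRangeI iota E 0 1856 23312 = true := by decide +kernel

set_option maxRecDepth 1000000 in
theorem edges_1_12 : edgesRangeI iota E 1 1725 21451 = true := by decide +kernel

set_option maxRecDepth 1000000 in
theorem edges_2_75 : edgesRangeI iota E 2 2078 140050 = true := by decide +kernel

set_option maxRecDepth 1000000 in
theorem edges_3_139 : edgesRangeI iota E 3 1758 258387 = true := by decide +kernel

set_option maxRecDepth 1000000 in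
theorem edges_5_88 : edgesRangeI iota E 5 1968 161774 = true := by decide +kernel

set_option maxRecDepth 1000000 in
theorem edges_6_150 : edgesRangeI iota E 6 1701 278762 = true := by decide +kernel

set_option maxRecDepth 1000000 in
theorem edges_8_130 : edgesRangeI iota E 8 2027 256907 = true := by decide +kernel

set_option maxRecDepth 1000000 in
theorem edges_10_39 : edgesRangeI iota E 10 2277 96356 = true := by decide +kernel

set_option maxRecDepth 1000000 in
theorem edges_0_34 : edgesRangeI iota E 0 1772 61449 = true := by decide +kernel

set_option maxRecDepth 1000000 in
theorem edges_1_92 : edgesRangeI iota E 1 1715 169137 = true := by decide +kernel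

set_option maxRecDepth 1000000 in
theorem edges_2_112 : edgesRangeI iota E 2 1921 210043 = true := by decide +kernel

set_option maxRecDepth 1000000 in
theorem edges_4_22 : edgesRangeI iota E 4 1880 39698 = true := by decide +kernel

set_option maxRecDepth 1000000 in
theorem edges_5_43 : edgesRangeI iota E 5 1795 78013 = true := by decide +kernel

set_option maxRecDepth 1000000 in
theorem edges_6_89 : edgesRangeI iota E 6 1799 168863 = true := by decide +kernel

set_option maxRecDepth 1000000 in
theorem edges_8_17 : edgesRangeI iota E 8 1953 33326 = true := by decide +kernel

set_option maxRecDepth 1000000 in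
theorem edges_9_113 : edgesRangeI iota E 9 1444 210416 = true := by decide +kernel

set_option maxRecDepth 1000000 in
theorem edges_11_25 : edgesRangeI iota E 11 2806 66507 = true := by decide +kernel

set_option maxRecDepth 1000000 in
theorem edges_0_121 : edgesRangeI iota E 0 1824 219428 = true := by decide +kernel

set_option maxRecDepth 1000000 in
theorem edges_2_29 : edgesRangeI iota E 2 1996 53046 = true := by decide +kernel

set_option maxRecDepth 1000000 in
theorem edges_3_88 : edgesRangeI iota E 3 2043 166370 = true := by decide +kernel

set_option maxRecDepth 1000000 in
theorem edges_4_136 : edgesRangeI iota E 4 1724 258202 = true := by decide +kernel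

set_option maxRecDepth 1000000 in
theorem edges_6_28 : edgesRangeI iota E 6 2035 53806 = true := by decide +kernel

set_option maxRecDepth 1000000 in
theorem edges_7_56 : edgesRangeI iota E 7 1762 108179 = true := by decide +kernel

set_option maxRecDepth 1000000 in
theorem edges_8_93 : edgesRangeI iota E 8 1877 181848 = true := by decide +kernel

set_option maxRecDepth 1000000 in
theorem edges_9_166 : edgesRangeI iota E 9 1459 303002 = true := by decide +kernel

set_option maxRecDepth 1000000 in
theorem edges_11_26 : edgesRangeI iota E 11 2622 69313 = true := by decide +kernel

set_option maxRecDepth 1000000 in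
theorem aliases_23 : aliasRange E 8000 181434 = true := by decide +kernel

set_option maxRecDepth 1000000 in
theorem rows_62 : rowsRange E RS 1500 93000 = true := by decide +kernel

set_option maxRecDepth 1000000 in
theorem rows_110 : rowsRange E RS 1500 165000 = true := by decide +kernel

set_option maxRecDepth 1000000 in
theorem rows_158 : rowsRange E RS 1500 237000 = true := by decide +kernel

set_option maxRecDepth 1000000 in
theorem edges_1_172 : edgesRangeI iota E 1 856 306748 = true := by decide +kernel

end Cfsg.Agent.Helper5.FiZATC
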