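import Cfsg.Agent.Helper5.FiZATCDatD
import Cfsg.Agent.Helper5.TCIB

/-! kernel checks of edges, aliases, rows: FiZATC -/

set_option autoImplicit false
set_option Elab.async false

namespace Cfsg.Agent.Helper5.FiZATC
open Cfsg.Agent.Helper5.TC Cfsg.Agent.Helper5.TCI

set_option maxRecDepth 1000000 in
theorem edges_10_12 : edgesRangeI iota E 10 2494 30880 = true := by decide +kernel

set_option maxRecDepth 1000000 in
theorem edges_8_37 : edgesRangeI iota E 8 1830 71638 = true := by decide +kernel

set_option maxRecDepth 1000000 in
theorem edges_1_48 : edgesRangeI iota E 1 1902 87401 = true := by decide +kernel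

set_option maxRecDepth 1000000 in
theorem edges_3_141 : edgesRangeI iota E 3 1756 261864 = true := by decide +kernel

set_option maxRecDepth 1000000 in
theorem edges_6_39 : edgesRangeI iota E 6 1984 75052 = true := by decide +kernel

set_option maxRecDepth 1000000 in
theorem edges_8_87 : edgesRangeI iota E 8 2086 170080 = true := by decide +kernel

set_option maxRecDepth 1000000 in
theorem edges_11_67 : edgesRangeI iota E 11 2708 179356 = true := by decide +kernel

set_option maxRecDepth 1000000 in
theorem edges_2_60 : edgesRangeI iota E 2 1859 111565 = true := by decide +kernel

set_option maxRecDepth 1000000 in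
theorem edges_4_128 : edgesRangeI iota E 4 1909 244263 = true := by decide +kernel

set_option maxRecDepth 1000000 in
theorem edges_7_46 : edgesRangeI iota E 7 1779 89706 = true := by decide +kernel

set_option maxRecDepth 1000000 in
theorem edges_9_141 : edgesRangeI iota E 9 1554 260018 = true := by decide +kernel

set_option maxRecDepth 1000000 in
theorem edges_1_54 : edgesRangeI iota E 1 1980 98464 = true := by decide +kernel

set_option maxRecDepth 1000000 in
theorem edges_3_135 : edgesRangeI iota E 3 1654 251661 = true := by decide +kernel

set_option maxRecDepth 1000000 in
theorem edges_6_59 : edgesRangeI iota E 6 1793 113122 = true := by decide +kernel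

set_option maxRecDepth 1000000 in
theorem edges_8_148 : edgesRangeI iota E 8 1799 291268 = true := by decide +kernel

set_option maxRecDepth 1000000 in
theorem edges_0_15 : edgesRangeI iota E 0 1777 26994 = true := by decide +kernel

set_option maxRecDepth 1000000 in
theorem edges_1_13 : edgesRangeI iota E 1 1833 23176 = true := by decide +kernel

set_option maxRecDepth 1000000 in
theorem edges_2_79 : edgesRangeI iota E 2 1887 147716 = true := by decide +kernel

set_option maxRecDepth 1000000 in
theorem edges_3_153 : edgesRangeI iota E 3 1696 281970 = true := by decide +kernel

set_option maxRecDepth 1000000 in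
theorem edges_5_96 : edgesRangeI iota E 5 2084 177197 = true := by decide +kernel

set_option maxRecDepth 1000000 in
theorem edges_6_154 : edgesRangeI iota E 6 1522 285962 = true := by decide +kernel

set_option maxRecDepth 1000000 in
theorem edges_8_145 : edgesRangeI iota E 8 1536 286204 = true := by decide +kernel

set_option maxRecDepth 1000000 in
theorem edges_10_42 : edgesRangeI iota E 10 2718 103654 = true := by decide +kernel

set_option maxRecDepth 1000000 in
theorem edges_0_35 : edgesRangeI iota E 0 1854 63221 = true := by decide +kernel

set_option maxRecDepth 1000000 in
theorem edges_1_93 : edgesRangeI iota E 1 1873 170852 = true := by decide +kernel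

set_option maxRecDepth 1000000 in
theorem edges_2_134 : edgesRangeI iota E 2 1695 250152 = true := by decide +kernel

set_option maxRecDepth 1000000 in
theorem edges_4_32 : edgesRangeI iota E 4 1867 58364 = true := by decide +kernel

set_option maxRecDepth 1000000 in
theorem edges_5_46 : edgesRangeI iota E 5 1763 83553 = true := by decide +kernel

set_option maxRecDepth 1000000 in
theorem edges_6_97 : edgesRangeI iota E 6 1716 183238 = true := by decide +kernel

set_option maxRecDepth 1000000 in
theorem edges_8_18 : edgesRangeI iota E 8 1850 35279 = true := by decide +kernel

set_option maxRecDepth 1000000 in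
theorem edges_9_116 : edgesRangeI iota E 9 2369 216911 = true := by decide +kernel

set_option maxRecDepth 1000000 in
theorem edges_11_37 : edgesRangeI iota E 11 2989 98782 = true := by decide +kernel

set_option maxRecDepth 1000000 in
theorem edges_0_138 : edgesRangeI iota E 0 1674 249528 = true := by decide +kernel

set_option maxRecDepth 1000000 in
theorem edges_2_36 : edgesRangeI iota E 2 1968 66341 = true := by decide +kernel

set_option maxRecDepth 1000000 in
theorem edges_3_91 : edgesRangeI iota E 3 1814 172213 = true := by decide +kernel

set_option maxRecDepth 1000000 in
theorem edges_4_145 : edgesRangeI iota E 4 1583 273701 = true := by decide +kernel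

set_option maxRecDepth 1000000 in
theorem edges_6_33 : edgesRangeI iota E 6 2049 63355 = true := by decide +kernel

set_option maxRecDepth 1000000 in
theorem edges_7_57 : edgesRangeI iota E 7 1873 109941 = true := by decide +kernel

set_option maxRecDepth 1000000 in
theorem edges_8_96 : edgesRangeI iota E 8 2223 188071 = true := by decide +kernel

set_option maxRecDepth 1000000 in
theorem edges_10_1 : edgesRangeI iota E 10 2728 2646 = true := by decide +kernel

set_option maxRecDepth 1000000 in
theorem edges_11_27 : edgesRangeI iota E 11 2473 71935 = true := by decide +kernel

set_option maxRecDepth 1000000 in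
theorem aliases_24 : aliasRange E 8000 189434 = true := by decide +kernel

set_option maxRecDepth 1000000 in
theorem rows_63 : rowsRange E RS 1500 94500 = true := by decide +kernel

set_option maxRecDepth 1000000 in
theorem rows_111 : rowsRange E RS 1500 166500 = true := by decide +kernel

set_option maxRecDepth 1000000 in
theorem rows_159 : rowsRange E RS 1500 238500 = true := by decide +kernel

set_option maxRecDepth 1000000 in
theorem edges_2_169 : edgesRangeI iota E 2 826 306778 = true := by decide +kernel

end Cfsg.Agent.Helper5.FiZATC
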