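import Cfsg.Agent.Helper5.FiZATCDatD
import Cfsg.Agent.Helper5.TCIB

/-! kernel checks of edges, aliases, rows: FiZATC -/

set_option autoImplicit false
set_option Elab.async false

namespace Cfsg.Agent.Helper5.FiZATC
open Cfsg.Agent.Helper5.TC Cfsg.Agent.Helper5.TCI

set_option maxRecDepth 1000000 in
theorem edges_10_71 : edgesRangeI iota E 10 1927 172312 = true := by decide +kernel

set_option maxRecDepth 1000000 in
theorem edges_8_56 : edgesRangeI iota E 8 1741 108133 = true := by decide +kernel

set_option maxRecDepth 1000000 in
theorem edges_1_52 : edgesRangeI iota E 1 1816 94598 = true := by decide +kernel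

set_option maxRecDepth 1000000 in
theorem edges_3_146 : edgesRangeI iota E 3 1607 270398 = true := by decide +kernel

set_option maxRecDepth 1000000 in
theorem edges_6_45 : edgesRangeI iota E 6 1858 86773 = true := by decide +kernel

set_option maxRecDepth 1000000 in
theorem edges_8_90 : edgesRangeI iota E 8 2008 175768 = true := by decide +kernel

set_option maxRecDepth 1000000 in
theorem edges_11_97 : edgesRangeI iota E 11 2525 255553 = true := by decide +kernel

set_option maxRecDepth 1000000 in
theorem edges_2_93 : edgesRangeI iota E 2 1812 174271 = true := by decide +kernel

set_option maxRecDepth 1000000 in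
theorem edges_4_138 : edgesRangeI iota E 4 1852 261682 = true := by decide +kernel

set_option maxRecDepth 1000000 in
theorem edges_7_52 : edgesRangeI iota E 7 1564 100838 = true := by decide +kernel

set_option maxRecDepth 1000000 in
theorem edges_9_152 : edgesRangeI iota E 9 1630 279129 = true := by decide +kernel

set_option maxRecDepth 1000000 in
theorem edges_1_88 : edgesRangeI iota E 1 1950 161456 = true := by decide +kernel

set_option maxRecDepth 1000000 in
theorem edges_3_137 : edgesRangeI iota E 3 1663 254963 = true := by decide +kernel

set_option maxRecDepth 1000000 in
theorem edges_6_75 : edgesRangeI iota E 6 2083 142777 = true := by decide +kernel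

set_option maxRecDepth 1000000 in
theorem edges_8_151 : edgesRangeI iota E 8 1630 297049 = true := by decide +kernel

set_option maxRecDepth 1000000 in
theorem edges_0_16 : edgesRangeI iota E 0 1784 28771 = true := by decide +kernel

set_option maxRecDepth 1000000 in
theorem edges_1_16 : edgesRangeI iota E 1 1743 28613 = true := by decide +kernel

set_option maxRecDepth 1000000 in
theorem edges_2_85 : edgesRangeI iota E 2 1967 158811 = true := by decide +kernel

set_option maxRecDepth 1000000 in
theorem edges_3_154 : edgesRangeI iota E 3 1666 283666 = true := by decide +kernel

set_option maxRecDepth 1000000 in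
theorem edges_5_97 : edgesRangeI iota E 5 1935 179281 = true := by decide +kernel

set_option maxRecDepth 1000000 in
theorem edges_6_165 : edgesRangeI iota E 6 1573 304136 = true := by decide +kernel

set_option maxRecDepth 1000000 in
theorem edges_8_146 : edgesRangeI iota E 8 1756 287740 = true := by decide +kernel

set_option maxRecDepth 1000000 in
theorem edges_10_64 : edgesRangeI iota E 10 2473 156269 = true := by decide +kernel

set_option maxRecDepth 1000000 in
theorem edges_0_40 : edgesRangeI iota E 0 1786 72457 = true := by decide +kernel

set_option maxRecDepth 1000000 in
theorem edges_1_98 : edgesRangeI iota E 1 1810 179911 = true := by decide +kernel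

set_option maxRecDepth 1000000 in
theorem edges_2_135 : edgesRangeI iota E 2 1684 251847 = true := by decide +kernel

set_option maxRecDepth 1000000 in
theorem edges_4_34 : edgesRangeI iota E 4 1801 62100 = true := by decide +kernel

set_option maxRecDepth 1000000 in
theorem edges_5_49 : edgesRangeI iota E 5 1834 88925 = true := by decide +kernel

set_option maxRecDepth 1000000 in
theorem edges_6_98 : edgesRangeI iota E 6 1936 184954 = true := by decide +kernel

set_option maxRecDepth 1000000 in
theorem edges_8_25 : edgesRangeI iota E 8 1893 48555 = true := by decide +kernel

set_option maxRecDepth 1000000 in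
theorem edges_9_117 : edgesRangeI iota E 9 1444 219280 = true := by decide +kernel

set_option maxRecDepth 1000000 in
theorem edges_11_39 : edgesRangeI iota E 11 2621 104508 = true := by decide +kernel

set_option maxRecDepth 1000000 in
theorem edges_0_139 : edgesRangeI iota E 0 1764 251202 = true := by decide +kernel

set_option maxRecDepth 1000000 in
theorem edges_2_43 : edgesRangeI iota E 2 1919 79576 = true := by decide +kernel

set_option maxRecDepth 1000000 in
theorem edges_3_93 : edgesRangeI iota E 3 1802 175820 = true := by decide +kernel

set_option maxRecDepth 1000000 in
theorem edges_4_148 : edgesRangeI iota E 4 1672 278548 = true := by decide +kernel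

set_option maxRecDepth 1000000 in
theorem edges_6_34 : edgesRangeI iota E 6 2028 65404 = true := by decide +kernel

set_option maxRecDepth 1000000 in
theorem edges_7_62 : edgesRangeI iota E 7 2077 118944 = true := by decide +kernel

set_option maxRecDepth 1000000 in
theorem edges_8_98 : edgesRangeI iota E 8 2026 192549 = true := by decide +kernel

set_option maxRecDepth 1000000 in
theorem edges_10_2 : edgesRangeI iota E 10 2487 5374 = true := by decide +kernel

set_option maxRecDepth 1000000 in
theorem edges_11_30 : edgesRangeI iota E 11 2864 79912 = true := by decide +kernel

set_option maxRecDepth 1000000 in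
theorem aliases_25 : aliasRange E 8000 197434 = true := by decide +kernel

set_option maxRecDepth 1000000 in
theorem rows_64 : rowsRange E RS 1500 96000 = true := by decide +kernel

set_option maxRecDepth 1000000 in
theorem rows_112 : rowsRange E RS 1500 168000 = true := by decide +kernel

set_option maxRecDepth 1000000 in
theorem rows_160 : rowsRange E RS 1500 240000 = true := by decide +kernel

set_option maxRecDepth 1000000 in
theorem cnt_15 : cntFrom RS 7604 300000 0 = 7604 := by decide +kernel

end Cfsg.Agent.Helper5.FiZATC
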