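import Cfsg.Agent.Helper5.FiZATCDatD
import Cfsg.Agent.Helper5.TCIB

/-! kernel checks of edges, aliases, rows: FiZATC -/

set_option autoImplicit false
set_option Elab.async false

namespace Cfsg.Agent.Helper5.FiZATC
open Cfsg.Agent.Helper5.TC Cfsg.Agent.Helper5.TCI

set_option maxRecDepth 1000000 in
theorem edges_11_90 : edgesRangeI iota E 11 2608 238694 = true := by decide +kernel

set_option maxRecDepth 1000000 in
theorem edges_8_59 : edgesRangeI iota E 8 1780 113797 = true := by decide +kernel

set_option maxRecDepth 1000000 in
theorem edges_1_53 : edgesRangeI iota E 1 2050 96414 = true := by decide +kernel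

set_option maxRecDepth 1000000 in
theorem edges_3_148 : edgesRangeI iota E 3 1639 273671 = true := by decide +kernel

set_option maxRecDepth 1000000 in
theorem edges_6_68 : edgesRangeI iota E 6 1746 129967 = true := by decide +kernel

set_option maxRecDepth 1000000 in
theorem edges_8_99 : edgesRangeI iota E 8 2150 194575 = true := by decide +kernel

set_option maxRecDepth 1000000 in
theorem edges_11_119 : edgesRangeI iota E 11 1579 299338 = true := by decide +kernel

set_option maxRecDepth 1000000 in
theorem edges_2_96 : edgesRangeI iota E 2 1800 179855 = true := by decide +kernel

set_option maxRecDepth 1000000 in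
theorem edges_5_2 : edgesRangeI iota E 5 1798 3585 = true := by decide +kernel

set_option maxRecDepth 1000000 in
theorem edges_7_53 : edgesRangeI iota E 7 1832 102402 = true := by decide +kernel

set_option maxRecDepth 1000000 in
theorem edges_9_154 : edgesRangeI iota E 9 1983 282977 = true := by decide +kernel

set_option maxRecDepth 1000000 in
theorem edges_1_97 : edgesRangeI iota E 1 1824 178087 = true := by decide +kernel

set_option maxRecDepth 1000000 in
theorem edges_3_140 : edgesRangeI iota E 3 1719 260145 = true := by decide +kernel

set_option maxRecDepth 1000000 in
theorem edges_6_85 : edgesRangeI iota E 6 1951 161110 = true := by decide +kernel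

set_option maxRecDepth 1000000 in
theorem edges_8_154 : edgesRangeI iota E 8 1729 302068 = true := by decide +kernel

set_option maxRecDepth 1000000 in
theorem edges_0_19 : edgesRangeI iota E 0 1781 34265 = true := by decide +kernel

set_option maxRecDepth 1000000 in
theorem edges_1_21 : edgesRangeI iota E 1 1724 37570 = true := by decide +kernel

set_option maxRecDepth 1000000 in
theorem edges_2_87 : edgesRangeI iota E 2 2042 162822 = true := by decide +kernel

set_option maxRecDepth 1000000 in
theorem edges_4_3 : edgesRangeI iota E 4 1751 5499 = true := by decide +kernel

set_option maxRecDepth 1000000 in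
theorem edges_5_101 : edgesRangeI iota E 5 2150 186938 = true := by decide +kernel

set_option maxRecDepth 1000000 in
theorem edges_7_6 : edgesRangeI iota E 7 2043 11717 = true := by decide +kernel

set_option maxRecDepth 1000000 in
theorem edges_9_8 : edgesRangeI iota E 9 1956 16918 = true := by decide +kernel

set_option maxRecDepth 1000000 in
theorem edges_10_65 : edgesRangeI iota E 10 1645 158742 = true := by decide +kernel

set_option maxRecDepth 1000000 in
theorem edges_0_43 : edgesRangeI iota E 0 1761 77851 = true := by decide +kernel

set_option maxRecDepth 1000000 in
theorem edges_1_99 : edgesRangeI iota E 1 1833 181721 = true := by decide +kernel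

set_option maxRecDepth 1000000 in
theorem edges_2_136 : edgesRangeI iota E 2 1644 253531 = true := by decide +kernel

set_option maxRecDepth 1000000 in
theorem edges_4_40 : edgesRangeI iota E 4 1815 73646 = true := by decide +kernel

set_option maxRecDepth 1000000 in
theorem edges_5_54 : edgesRangeI iota E 5 1898 97999 = true := by decide +kernel

set_option maxRecDepth 1000000 in
theorem edges_6_106 : edgesRangeI iota E 6 1815 199898 = true := by decide +kernel

set_option maxRecDepth 1000000 in
theorem edges_8_30 : edgesRangeI iota E 8 1788 58220 = true := by decide +kernel

set_option maxRecDepth 1000000 in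
theorem edges_9_127 : edgesRangeI iota E 9 1590 235405 = true := by decide +kernel

set_option maxRecDepth 1000000 in
theorem edges_11_43 : edgesRangeI iota E 11 2726 114828 = true := by decide +kernel

set_option maxRecDepth 1000000 in
theorem edges_0_145 : edgesRangeI iota E 0 1841 261646 = true := by decide +kernel

set_option maxRecDepth 1000000 in
theorem edges_2_48 : edgesRangeI iota E 2 1887 89019 = true := by decide +kernel

set_option maxRecDepth 1000000 in
theorem edges_3_95 : edgesRangeI iota E 3 1816 179411 = true := by decide +kernel

set_option maxRecDepth 1000000 in
theorem edges_4_152 : edgesRangeI iota E 4 1521 285492 = true := by decide +kernel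

set_option maxRecDepth 1000000 in
theorem edges_6_41 : edgesRangeI iota E 6 1965 78855 = true := by decide +kernel

set_option maxRecDepth 1000000 in
theorem edges_7_66 : edgesRangeI iota E 7 1670 126653 = true := by decide +kernel

set_option maxRecDepth 1000000 in
theorem edges_8_107 : edgesRangeI iota E 8 2302 210176 = true := by decide +kernel

set_option maxRecDepth 1000000 in
theorem edges_10_8 : edgesRangeI iota E 10 2697 20427 = true := by decide +kernel

set_option maxRecDepth 1000000 in
theorem edges_11_32 : edgesRangeI iota E 11 2538 85622 = true := by decide +kernel

set_option maxRecDepth 1000000 in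
theorem aliases_26 : aliasRange E 8000 205434 = true := by decide +kernel

set_option maxRecDepth 1000000 in
theorem rows_65 : rowsRange E RS 1500 97500 = true := by decide +kernel

set_option maxRecDepth 1000000 in
theorem rows_113 : rowsRange E RS 1500 169500 = true := by decide +kernel

set_option maxRecDepth 1000000 in
theorem rows_161 : rowsRange E RS 1500 241500 = true := by decide +kernel

set_option maxRecDepth 1000000 in
theorem edges_7_168 : edgesRangeI iota E 7 626 306978 = true := by decide +kernel

end Cfsg.Agent.Helper5.FiZATC
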