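import Cfsg.Agent.Helper5.FiZATCDatD
import Cfsg.Agent.Helper5.TCIB

/-! kernel checks of edges, aliases, rows: FiZATC -/

set_option autoImplicit false
set_option Elab.async false

namespace Cfsg.Agent.Helper5.FiZATC
open Cfsg.Agent.Helper5.TC Cfsg.Agent.Helper5.TCI

set_option maxRecDepth 1000000 in
theorem cnt_5 : cntFrom RS 20000 100000 0 = 20000 := by decide +kernel

set_option maxRecDepth 1000000 in
theorem edges_0_78 : edgesRangeI iota E 0 1920 141276 = true := by decide +kernel

set_option maxRecDepth 1000000 in
theorem edges_2_100 : edgesRangeI iota E 2 1970 187505 = true := by decide +kernel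

set_option maxRecDepth 1000000 in
theorem edges_5_11 : edgesRangeI iota E 5 1833 19687 = true := by decide +kernel

set_option maxRecDepth 1000000 in
theorem edges_7_98 : edgesRangeI iota E 7 1877 184173 = true := by decide +kernel

set_option maxRecDepth 1000000 in
theorem edges_9_146 : edgesRangeI iota E 9 1385 269689 = true := by decide +kernel

set_option maxRecDepth 1000000 in
theorem edges_1_41 : edgesRangeI iota E 1 1772 74264 = true := by decide +kernel

set_option maxRecDepth 1000000 in
theorem edges_3_52 : edgesRangeI iota E 3 2045 97625 = true := by decide +kernel

set_option maxRecDepth 1000000 in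
theorem edges_6_3 : edgesRangeI iota E 6 1830 5628 = true := by decide +kernel

set_option maxRecDepth 1000000 in
theorem edges_8_31 : edgesRangeI iota E 8 1982 60008 = true := by decide +kernel

set_option maxRecDepth 1000000 in
theorem edges_11_117 : edgesRangeI iota E 11 1556 296868 = true := by decide +kernel

set_option maxRecDepth 1000000 in
theorem edges_3_37 : edgesRangeI iota E 3 1875 69447 = true := by decide +kernel

set_option maxRecDepth 1000000 in
theorem edges_5_35 : edgesRangeI iota E 5 1795 63500 = true := by decide +kernel

set_option maxRecDepth 1000000 in
theorem edges_7_167 : edgesRangeI iota E 7 1475 305503 = true := by decide +kernel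

set_option maxRecDepth 1000000 in
theorem edges_11_2 : edgesRangeI iota E 11 2580 5061 = true := by decide +kernel

set_option maxRecDepth 1000000 in
theorem edges_1_8 : edgesRangeI iota E 1 1820 14221 = true := by decide +kernel

set_option maxRecDepth 1000000 in
theorem edges_2_64 : edgesRangeI iota E 2 2018 119201 = true := by decide +kernel

set_option maxRecDepth 1000000 in
theorem edges_3_132 : edgesRangeI iota E 3 1637 246651 = true := by decide +kernel

set_option maxRecDepth 1000000 in
theorem edges_5_76 : edgesRangeI iota E 5 1883 138832 = true := by decide +kernel

set_option maxRecDepth 1000000 in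
theorem edges_6_146 : edgesRangeI iota E 6 1724 271887 = true := by decide +kernel

set_option maxRecDepth 1000000 in
theorem edges_8_110 : edgesRangeI iota E 8 2192 217067 = true := by decide +kernel

set_option maxRecDepth 1000000 in
theorem edges_10_16 : edgesRangeI iota E 10 2689 40508 = true := by decide +kernel

set_option maxRecDepth 1000000 in
theorem edges_0_27 : edgesRangeI iota E 0 1780 48741 = true := by decide +kernel

set_option maxRecDepth 1000000 in
theorem edges_1_55 : edgesRangeI iota E 1 1908 100444 = true := by decide +kernel

set_option maxRecDepth 1000000 in
theorem edges_2_69 : edgesRangeI iota E 2 1790 128711 = true := by decide +kernel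

set_option maxRecDepth 1000000 in
theorem edges_3_168 : edgesRangeI iota E 3 1508 305789 = true := by decide +kernel

set_option maxRecDepth 1000000 in
theorem edges_5_15 : edgesRangeI iota E 5 1811 27063 = true := by decide +kernel

set_option maxRecDepth 1000000 in
theorem edges_6_47 : edgesRangeI iota E 6 1813 90504 = true := by decide +kernel

set_option maxRecDepth 1000000 in
theorem edges_7_126 : edgesRangeI iota E 7 1722 234760 = true := by decide +kernel

set_option maxRecDepth 1000000 in
theorem edges_9_74 : edgesRangeI iota E 9 2577 140131 = true := by decide +kernel

set_option maxRecDepth 1000000 in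
theorem edges_10_112 : edgesRangeI iota E 10 1588 267802 = true := by decide +kernel

set_option maxRecDepth 1000000 in
theorem edges_0_82 : edgesRangeI iota E 0 1727 148641 = true := by decide +kernel

set_option maxRecDepth 1000000 in
theorem edges_1_169 : edgesRangeI iota E 1 1568 302113 = true := by decide +kernel

set_option maxRecDepth 1000000 in
theorem edges_3_51 : edgesRangeI iota E 3 1911 95714 = true := by decide +kernel

set_option maxRecDepth 1000000 in
theorem edges_4_111 : edgesRangeI iota E 4 1952 212522 = true := by decide +kernel

set_option maxRecDepth 1000000 in
theorem edges_6_4 : edgesRangeI iota E 6 1804 7458 = true := by decide +kernel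

set_option maxRecDepth 1000000 in
theorem edges_7_18 : edgesRangeI iota E 7 1843 35832 = true := by decide +kernel

set_option maxRecDepth 1000000 in
theorem edges_8_67 : edgesRangeI iota E 8 1839 129501 = true := by decide +kernel

set_option maxRecDepth 1000000 in
theorem edges_9_122 : edgesRangeI iota E 9 1661 227126 = true := by decide +kernel

set_option maxRecDepth 1000000 in
theorem edges_10_127 : edgesRangeI iota E 10 2308 297502 = true := by decide +kernel

set_option maxRecDepth 1000000 in
theorem aliases_14 : aliasRange E 8000 109482 = true := by decide +kernel

set_option maxRecDepth 1000000 in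
theorem rows_21 : rowsRange E RS 1500 31500 = true := by decide +kernel

set_option maxRecDepth 1000000 in
theorem rows_53 : rowsRange E RS 1500 79500 = true := by decide +kernel

set_option maxRecDepth 1000000 in
theorem rows_101 : rowsRange E RS 1500 151500 = true := by decide +kernel

set_option maxRecDepth 1000000 in
theorem rows_149 : rowsRange E RS 1500 223500 = true := by decide +kernel

set_option maxRecDepth 1000000 in
theorem rows_197 : rowsRange E RS 1500 295500 = true := by decide +kernel

end Cfsg.Agent.Helper5.FiZATC
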