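import Cfsg.Agent.Helper5.FiZATCDatD
import Cfsg.Agent.Helper5.TCIB

/-! kernel checks of edges, aliases, rows: FiZATC -/

set_option autoImplicit false
set_option Elab.async false

namespace Cfsg.Agent.Helper5.FiZATC
open Cfsg.Agent.Helper5.TC Cfsg.Agent.Helper5.TCI

set_option maxRecDepth 1000000 in
theorem cnt_6 : cntFrom RS 20000 120000 0 = 20000 := by decide +kernel

set_option maxRecDepth 1000000 in
theorem edges_0_80 : edgesRangeI iota E 0 1851 145020 = true := by decide +kernel

set_option maxRecDepth 1000000 in
theorem edges_2_107 : edgesRangeI iota E 2 1811 200778 = true := by decide +kernel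

set_option maxRecDepth 1000000 in
theorem edges_5_17 : edgesRangeI iota E 5 1908 30713 = true := by decide +kernel

set_option maxRecDepth 1000000 in
theorem edges_7_103 : edgesRangeI iota E 7 2059 193737 = true := by decide +kernel

set_option maxRecDepth 1000000 in
theorem edges_9_150 : edgesRangeI iota E 9 1551 276083 = true := by decide +kernel

set_option maxRecDepth 1000000 in
theorem edges_1_51 : edgesRangeI iota E 1 1722 92876 = true := by decide +kernel

set_option maxRecDepth 1000000 in
theorem edges_3_57 : edgesRangeI iota E 3 1765 107380 = true := by decide +kernel

set_option maxRecDepth 1000000 in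
theorem edges_6_5 : edgesRangeI iota E 6 1911 9262 = true := by decide +kernel

set_option maxRecDepth 1000000 in
theorem edges_8_33 : edgesRangeI iota E 8 1916 63749 = true := by decide +kernel

set_option maxRecDepth 1000000 in
theorem edges_0_10 : edgesRangeI iota E 0 1832 17926 = true := by decide +kernel

set_option maxRecDepth 1000000 in
theorem edges_2_94 : edgesRangeI iota E 2 1838 176083 = true := by decide +kernel

set_option maxRecDepth 1000000 in
theorem edges_4_94 : edgesRangeI iota E 4 1968 179576 = true := by decide +kernel

set_option maxRecDepth 1000000 in
theorem edges_7_61 : edgesRangeI iota E 7 1877 117067 = true := by decide +kernel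

set_option maxRecDepth 1000000 in
theorem edges_9_145 : edgesRangeI iota E 9 1644 268045 = true := by decide +kernel

set_option maxRecDepth 1000000 in
theorem edges_0_116 : edgesRangeI iota E 0 1875 209907 = true := by decide +kernel

set_option maxRecDepth 1000000 in
theorem edges_1_156 : edgesRangeI iota E 1 1731 281307 = true := by decide +kernel

set_option maxRecDepth 1000000 in
theorem edges_3_53 : edgesRangeI iota E 3 2027 99670 = true := by decide +kernel

set_option maxRecDepth 1000000 in
theorem edges_5_5 : edgesRangeI iota E 5 1779 8814 = true := by decide +kernel

set_option maxRecDepth 1000000 in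
theorem edges_6_95 : edgesRangeI iota E 6 1794 179621 = true := by decide +kernel

set_option maxRecDepth 1000000 in
theorem edges_8_14 : edgesRangeI iota E 8 1867 27595 = true := by decide +kernel

set_option maxRecDepth 1000000 in
theorem edges_9_105 : edgesRangeI iota E 9 1414 197243 = true := by decide +kernel

set_option maxRecDepth 1000000 in
theorem edges_11_80 : edgesRangeI iota E 11 2715 213423 = true := by decide +kernel

set_option maxRecDepth 1000000 in
theorem edges_1_59 : edgesRangeI iota E 1 1778 107933 = true := by decide +kernel

set_option maxRecDepth 1000000 in
theorem edges_2_73 : edgesRangeI iota E 2 1927 136073 = true := by decide +kernel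

set_option maxRecDepth 1000000 in
theorem edges_4_0 : edgesRangeI iota E 4 1792 0 = true := by decide +kernel

set_option maxRecDepth 1000000 in
theorem edges_5_16 : edgesRangeI iota E 5 1839 28874 = true := by decide +kernel

set_option maxRecDepth 1000000 in
theorem edges_6_53 : edgesRangeI iota E 6 1971 101870 = true := by decide +kernel

set_option maxRecDepth 1000000 in
theorem edges_7_127 : edgesRangeI iota E 7 1923 236482 = true := by decide +kernel

set_option maxRecDepth 1000000 in
theorem edges_9_76 : edgesRangeI iota E 9 1740 145127 = true := by decide +kernel

set_option maxRecDepth 1000000 in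
theorem edges_10_119 : edgesRangeI iota E 10 2062 282329 = true := by decide +kernel

set_option maxRecDepth 1000000 in
theorem edges_0_91 : edgesRangeI iota E 0 1893 164982 = true := by decide +kernel

set_option maxRecDepth 1000000 in
theorem edges_2_2 : edgesRangeI iota E 2 1907 3629 = true := by decide +kernel

set_option maxRecDepth 1000000 in
theorem edges_3_55 : edgesRangeI iota E 3 1847 103681 = true := by decide +kernel

set_option maxRecDepth 1000000 in
theorem edges_4_117 : edgesRangeI iota E 4 1779 224035 = true := by decide +kernel

set_option maxRecDepth 1000000 in
theorem edges_6_6 : edgesRangeI iota E 6 1906 11173 = true := by decide +kernel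

set_option maxRecDepth 1000000 in
theorem edges_7_21 : edgesRangeI iota E 7 1874 41642 = true := by decide +kernel

set_option maxRecDepth 1000000 in
theorem edges_8_68 : edgesRangeI iota E 8 2061 131340 = true := by decide +kernel

set_option maxRecDepth 1000000 in
theorem edges_9_123 : edgesRangeI iota E 9 1772 228787 = true := by decide +kernel

set_option maxRecDepth 1000000 in
theorem edges_11_5 : edgesRangeI iota E 11 2537 12771 = true := by decide +kernel

set_option maxRecDepth 1000000 in
theorem aliases_15 : aliasRange E 8000 117482 = true := by decide +kernel

set_option maxRecDepth 1000000 in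
theorem rows_22 : rowsRange E RS 1500 33000 = true := by decide +kernel

set_option maxRecDepth 1000000 in
theorem rows_54 : rowsRange E RS 1500 81000 = true := by decide +kernel

set_option maxRecDepth 1000000 in
theorem rows_102 : rowsRange E RS 1500 153000 = true := by decide +kernel

set_option maxRecDepth 1000000 in
theorem rows_150 : rowsRange E RS 1500 225000 = true := by decide +kernel

set_option maxRecDepth 1000000 in
theorem rows_198 : rowsRange E RS 1500 297000 = true := by decide +kernel

end Cfsg.Agent.Helper5.FiZATC
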