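import Cfsg.Agent.Helper5.FiZATCDatD
import Cfsg.Agent.Helper5.TCIB

/-! kernel checks of edges, aliases, rows: FiZATC -/

set_option autoImplicit false
set_option Elab.async false

namespace Cfsg.Agent.Helper5.FiZATC
open Cfsg.Agent.Helper5.TC Cfsg.Agent.Helper5.TCI

set_option maxRecDepth 1000000 in
theorem cnt_7 : cntFrom RS 20000 140000 0 = 19990 := by decide +kernel

set_option maxRecDepth 1000000 in
theorem edges_0_84 : edgesRangeI iota E 0 1751 152067 = true := by decide +kernel

set_option maxRecDepth 1000000 in
theorem edges_2_114 : edgesRangeI iota E 2 1856 213853 = true := by decide +kernel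

set_option maxRecDepth 1000000 in
theorem edges_5_30 : edgesRangeI iota E 5 1739 54470 = true := by decide +kernel

set_option maxRecDepth 1000000 in
theorem edges_7_115 : edgesRangeI iota E 7 2123 215201 = true := by decide +kernel

set_option maxRecDepth 1000000 in
theorem edges_9_156 : edgesRangeI iota E 9 1379 286547 = true := by decide +kernel

set_option maxRecDepth 1000000 in
theorem edges_1_56 : edgesRangeI iota E 1 1900 102352 = true := by decide +kernel

set_option maxRecDepth 1000000 in
theorem edges_3_65 : edgesRangeI iota E 3 1970 122683 = true := by decide +kernel

set_option maxRecDepth 1000000 in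
theorem edges_6_8 : edgesRangeI iota E 6 2030 14851 = true := by decide +kernel

set_option maxRecDepth 1000000 in
theorem edges_8_41 : edgesRangeI iota E 8 1890 78999 = true := by decide +kernel

set_option maxRecDepth 1000000 in
theorem edges_0_25 : edgesRangeI iota E 0 1755 45145 = true := by decide +kernel

set_option maxRecDepth 1000000 in
theorem edges_2_105 : edgesRangeI iota E 2 1768 197214 = true := by decide +kernel

set_option maxRecDepth 1000000 in
theorem edges_4_96 : edgesRangeI iota E 4 2068 183489 = true := by decide +kernel

set_option maxRecDepth 1000000 in
theorem edges_7_78 : edgesRangeI iota E 7 1630 148496 = true := by decide +kernel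

set_option maxRecDepth 1000000 in
theorem edges_9_149 : edgesRangeI iota E 9 1805 274278 = true := by decide +kernel

set_option maxRecDepth 1000000 in
theorem edges_0_122 : edgesRangeI iota E 0 1702 221252 = true := by decide +kernel

set_option maxRecDepth 1000000 in
theorem edges_1_163 : edgesRangeI iota E 1 1629 292572 = true := by decide +kernel

set_option maxRecDepth 1000000 in
theorem edges_3_56 : edgesRangeI iota E 3 1852 105528 = true := by decide +kernel

set_option maxRecDepth 1000000 in
theorem edges_5_10 : edgesRangeI iota E 5 1879 17808 = true := by decide +kernel

set_option maxRecDepth 1000000 in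
theorem edges_6_101 : edgesRangeI iota E 6 1980 190756 = true := by decide +kernel

set_option maxRecDepth 1000000 in
theorem edges_8_15 : edgesRangeI iota E 8 1863 29462 = true := by decide +kernel

set_option maxRecDepth 1000000 in
theorem edges_9_119 : edgesRangeI iota E 9 1430 222415 = true := by decide +kernel

set_option maxRecDepth 1000000 in
theorem edges_11_83 : edgesRangeI iota E 11 2156 221748 = true := by decide +kernel

set_option maxRecDepth 1000000 in
theorem edges_1_62 : edgesRangeI iota E 1 1757 113304 = true := by decide +kernel

set_option maxRecDepth 1000000 in
theorem edges_2_74 : edgesRangeI iota E 2 2050 138000 = true := by decide +kernel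

set_option maxRecDepth 1000000 in
theorem edges_4_9 : edgesRangeI iota E 4 1803 16149 = true := by decide +kernel

set_option maxRecDepth 1000000 in
theorem edges_5_21 : edgesRangeI iota E 5 1843 38050 = true := by decide +kernel

set_option maxRecDepth 1000000 in
theorem edges_6_55 : edgesRangeI iota E 6 1937 105689 = true := by decide +kernel

set_option maxRecDepth 1000000 in
theorem edges_7_129 : edgesRangeI iota E 7 2184 240245 = true := by decide +kernel

set_option maxRecDepth 1000000 in
theorem edges_9_88 : edgesRangeI iota E 9 2429 166363 = true := by decide +kernel

set_option maxRecDepth 1000000 in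
theorem edges_10_121 : edgesRangeI iota E 10 1420 286133 = true := by decide +kernel

set_option maxRecDepth 1000000 in
theorem edges_0_95 : edgesRangeI iota E 0 1734 172197 = true := by decide +kernel

set_option maxRecDepth 1000000 in
theorem edges_2_3 : edgesRangeI iota E 2 1751 5536 = true := by decide +kernel

set_option maxRecDepth 1000000 in
theorem edges_3_59 : edgesRangeI iota E 3 1912 111028 = true := by decide +kernel

set_option maxRecDepth 1000000 in
theorem edges_4_119 : edgesRangeI iota E 4 1810 227604 = true := by decide +kernel

set_option maxRecDepth 1000000 in
theorem edges_6_9 : edgesRangeI iota E 6 1793 16881 = true := by decide +kernel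

set_option maxRecDepth 1000000 in
theorem edges_7_24 : edgesRangeI iota E 7 1901 47543 = true := by decide +kernel

set_option maxRecDepth 1000000 in
theorem edges_8_72 : edgesRangeI iota E 8 2158 139306 = true := by decide +kernel

set_option maxRecDepth 1000000 in
theorem edges_9_128 : edgesRangeI iota E 9 2022 236995 = true := by decide +kernel

set_option maxRecDepth 1000000 in
theorem edges_11_10 : edgesRangeI iota E 11 2780 26012 = true := by decide +kernel

set_option maxRecDepth 1000000 in
theorem aliases_16 : aliasRange E 8000 125482 = true := by decide +kernel

set_option maxRecDepth 1000000 in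
theorem rows_23 : rowsRange E RS 1500 34500 = true := by decide +kernel

set_option maxRecDepth 1000000 in
theorem rows_55 : rowsRange E RS 1500 82500 = true := by decide +kernel

set_option maxRecDepth 1000000 in
theorem rows_103 : rowsRange E RS 1500 154500 = true := by decide +kernel

set_option maxRecDepth 1000000 in
theorem rows_151 : rowsRange E RS 1500 226500 = true := by decide +kernel

set_option maxRecDepth 1000000 in
theorem rows_199 : rowsRange E RS 1500 298500 = true := by decide +kernel

end Cfsg.Agent.Helper5.FiZATC
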