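import Cfsg.Agent.Helper5.FiZATCDatD
import Cfsg.Agent.Helper5.TCIB

/-! kernel checks of edges, aliases, rows: FiZATC -/

set_option autoImplicit false
set_option Elab.async false

namespace Cfsg.Agent.Helper5.FiZATC
open Cfsg.Agent.Helper5.TC Cfsg.Agent.Helper5.TCI

set_option maxRecDepth 1000000 in
theorem cnt_8 : cntFrom RS 20000 160000 0 = 20000 := by decide +kernel

set_option maxRecDepth 1000000 in
theorem edges_0_94 : edgesRangeI iota E 0 1757 170440 = true := by decide +kernel

set_option maxRecDepth 1000000 in
theorem edges_2_129 : edgesRangeI iota E 2 1758 241153 = true := by decide +kernel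

set_option maxRecDepth 1000000 in
theorem edges_5_55 : edgesRangeI iota E 5 1968 99897 = true := by decide +kernel

set_option maxRecDepth 1000000 in
theorem edges_7_122 : edgesRangeI iota E 7 1637 227650 = true := by decide +kernel

set_option maxRecDepth 1000000 in
theorem edges_9_165 : edgesRangeI iota E 9 1842 301160 = true := by decide +kernel

set_option maxRecDepth 1000000 in
theorem edges_1_60 : edgesRangeI iota E 1 1798 109711 = true := by decide +kernel

set_option maxRecDepth 1000000 in
theorem edges_3_82 : edgesRangeI iota E 3 1830 154950 = true := by decide +kernel

set_option maxRecDepth 1000000 in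
theorem edges_6_15 : edgesRangeI iota E 6 1853 28482 = true := by decide +kernel

set_option maxRecDepth 1000000 in
theorem edges_8_53 : edgesRangeI iota E 8 2006 102289 = true := by decide +kernel

set_option maxRecDepth 1000000 in
theorem edges_0_31 : edgesRangeI iota E 0 1786 56057 = true := by decide +kernel

set_option maxRecDepth 1000000 in
theorem edges_2_108 : edgesRangeI iota E 2 1823 202589 = true := by decide +kernel

set_option maxRecDepth 1000000 in
theorem edges_4_107 : edgesRangeI iota E 4 1889 204835 = true := by decide +kernel

set_option maxRecDepth 1000000 in
theorem edges_7_87 : edgesRangeI iota E 7 2195 164343 = true := by decide +kernel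

set_option maxRecDepth 1000000 in
theorem edges_10_10 : edgesRangeI iota E 10 2478 25639 = true := by decide +kernel

set_option maxRecDepth 1000000 in
theorem edges_0_129 : edgesRangeI iota E 0 1741 233318 = true := by decide +kernel

set_option maxRecDepth 1000000 in
theorem edges_2_4 : edgesRangeI iota E 2 1746 7287 = true := by decide +kernel

set_option maxRecDepth 1000000 in
theorem edges_3_62 : edgesRangeI iota E 3 2038 116616 = true := by decide +kernel

set_option maxRecDepth 1000000 in
theorem edges_5_12 : edgesRangeI iota E 5 1800 21520 = true := by decide +kernel

set_option maxRecDepth 1000000 in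
theorem edges_6_105 : edgesRangeI iota E 6 1657 198241 = true := by decide +kernel

set_option maxRecDepth 1000000 in
theorem edges_8_39 : edgesRangeI iota E 8 1964 75265 = true := by decide +kernel

set_option maxRecDepth 1000000 in
theorem edges_9_120 : edgesRangeI iota E 9 1541 223845 = true := by decide +kernel

set_option maxRecDepth 1000000 in
theorem edges_11_98 : edgesRangeI iota E 11 2294 258078 = true := by decide +kernel

set_option maxRecDepth 1000000 in
theorem edges_1_63 : edgesRangeI iota E 1 1914 115061 = true := by decide +kernel

set_option maxRecDepth 1000000 in
theorem edges_2_77 : edgesRangeI iota E 2 1957 144026 = true := by decide +kernel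

set_option maxRecDepth 1000000 in
theorem edges_4_12 : edgesRangeI iota E 4 1860 21528 = true := by decide +kernel

set_option maxRecDepth 1000000 in
theorem edges_5_32 : edgesRangeI iota E 5 1914 57980 = true := by decide +kernel

set_option maxRecDepth 1000000 in
theorem edges_6_57 : edgesRangeI iota E 6 1777 109433 = true := by decide +kernel

set_option maxRecDepth 1000000 in
theorem edges_7_138 : edgesRangeI iota E 7 1900 256039 = true := by decide +kernel

set_option maxRecDepth 1000000 in
theorem edges_9_96 : edgesRangeI iota E 9 1527 180329 = true := by decide +kernel

set_option maxRecDepth 1000000 in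
theorem edges_10_123 : edgesRangeI iota E 10 1980 290294 = true := by decide +kernel

set_option maxRecDepth 1000000 in
theorem edges_0_100 : edgesRangeI iota E 0 1761 180960 = true := by decide +kernel

set_option maxRecDepth 1000000 in
theorem edges_2_5 : edgesRangeI iota E 2 1787 9033 = true := by decide +kernel

set_option maxRecDepth 1000000 in
theorem edges_3_60 : edgesRangeI iota E 3 1804 112940 = true := by decide +kernel

set_option maxRecDepth 1000000 in
theorem edges_4_122 : edgesRangeI iota E 4 1789 233036 = true := by decide +kernel

set_option maxRecDepth 1000000 in
theorem edges_6_10 : edgesRangeI iota E 6 1883 18674 = true := by decide +kernel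

set_option maxRecDepth 1000000 in
theorem edges_7_25 : edgesRangeI iota E 7 1864 49444 = true := by decide +kernel

set_option maxRecDepth 1000000 in
theorem edges_8_73 : edgesRangeI iota E 8 2167 141464 = true := by decide +kernel

set_option maxRecDepth 1000000 in
theorem edges_9_132 : edgesRangeI iota E 9 1663 245576 = true := by decide +kernel

set_option maxRecDepth 1000000 in
theorem edges_11_12 : edgesRangeI iota E 11 2749 31448 = true := by decide +kernel

set_option maxRecDepth 1000000 in
theorem aliases_17 : aliasRange E 8000 133482 = true := by decide +kernel

set_option maxRecDepth 1000000 in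
theorem rows_24 : rowsRange E RS 1500 36000 = true := by decide +kernel

set_option maxRecDepth 1000000 in
theorem rows_56 : rowsRange E RS 1500 84000 = true := by decide +kernel

set_option maxRecDepth 1000000 in
theorem rows_104 : rowsRange E RS 1500 156000 = true := by decide +kernel

set_option maxRecDepth 1000000 in
theorem rows_152 : rowsRange E RS 1500 228000 = true := by decide +kernel

set_option maxRecDepth 1000000 in
theorem rows_200 : rowsRange E RS 1500 300000 = true := by decide +kernel

end Cfsg.Agent.Helper5.FiZATC
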