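import Cfsg.Agent.Helper5.FiZATCDatD
import Cfsg.Agent.Helper5.TCIB

/-! kernel checks of edges, aliases, rows: FiZATC -/

set_option autoImplicit false
set_option Elab.async false

namespace Cfsg.Agent.Helper5.FiZATC
open Cfsg.Agent.Helper5.TC Cfsg.Agent.Helper5.TCI

set_option maxRecDepth 1000000 in
theorem cnt_9 : cntFrom RS 20000 180000 0 = 20000 := by decide +kernel

set_option maxRecDepth 1000000 in
theorem edges_0_96 : edgesRangeI iota E 0 1701 173931 = true := by decide +kernel

set_option maxRecDepth 1000000 in
theorem edges_2_130 : edgesRangeI iota E 2 1939 242911 = true := by decide +kernel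

set_option maxRecDepth 1000000 in
theorem edges_5_59 : edgesRangeI iota E 5 1827 107242 = true := by decide +kernel

set_option maxRecDepth 1000000 in
theorem edges_7_131 : edgesRangeI iota E 7 1915 244213 = true := by decide +kernel

set_option maxRecDepth 1000000 in
theorem edges_10_4 : edgesRangeI iota E 10 2535 10354 = true := by decide +kernel

set_option maxRecDepth 1000000 in
theorem edges_1_67 : edgesRangeI iota E 1 1936 122759 = true := by decide +kernel

set_option maxRecDepth 1000000 in
theorem edges_3_92 : edgesRangeI iota E 3 1793 174027 = true := by decide +kernel

set_option maxRecDepth 1000000 in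
theorem edges_6_38 : edgesRangeI iota E 6 1826 73226 = true := by decide +kernel

set_option maxRecDepth 1000000 in
theorem edges_8_54 : edgesRangeI iota E 8 1961 104295 = true := by decide +kernel

set_option maxRecDepth 1000000 in
theorem edges_0_39 : edgesRangeI iota E 0 1819 70638 = true := by decide +kernel

set_option maxRecDepth 1000000 in
theorem edges_2_109 : edgesRangeI iota E 2 1851 204412 = true := by decide +kernel

set_option maxRecDepth 1000000 in
theorem edges_4_129 : edgesRangeI iota E 4 1752 246172 = true := by decide +kernel

set_option maxRecDepth 1000000 in
theorem edges_7_90 : edgesRangeI iota E 7 1852 170224 = true := by decide +kernel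

set_option maxRecDepth 1000000 in
theorem edges_10_19 : edgesRangeI iota E 10 2341 48277 = true := by decide +kernel

set_option maxRecDepth 1000000 in
theorem edges_0_130 : edgesRangeI iota E 0 1855 235059 = true := by decide +kernel

set_option maxRecDepth 1000000 in
theorem edges_2_12 : edgesRangeI iota E 2 1838 21435 = true := by decide +kernel

set_option maxRecDepth 1000000 in
theorem edges_3_72 : edgesRangeI iota E 3 1905 135730 = true := by decide +kernel

set_option maxRecDepth 1000000 in
theorem edges_5_18 : edgesRangeI iota E 5 1801 32621 = true := by decide +kernel

set_option maxRecDepth 1000000 in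
theorem edges_6_108 : edgesRangeI iota E 6 1811 203429 = true := by decide +kernel

set_option maxRecDepth 1000000 in
theorem edges_8_42 : edgesRangeI iota E 8 2069 80889 = true := by decide +kernel

set_option maxRecDepth 1000000 in
theorem edges_9_125 : edgesRangeI iota E 9 1496 232258 = true := by decide +kernel

set_option maxRecDepth 1000000 in
theorem edges_11_99 : edgesRangeI iota E 11 2498 260372 = true := by decide +kernel

set_option maxRecDepth 1000000 in
theorem edges_1_68 : edgesRangeI iota E 1 1793 124695 = true := by decide +kernel

set_option maxRecDepth 1000000 in
theorem edges_2_78 : edgesRangeI iota E 2 1733 145983 = true := by decide +kernel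

set_option maxRecDepth 1000000 in
theorem edges_4_13 : edgesRangeI iota E 4 1811 23388 = true := by decide +kernel

set_option maxRecDepth 1000000 in
theorem edges_5_33 : edgesRangeI iota E 5 1856 59894 = true := by decide +kernel

set_option maxRecDepth 1000000 in
theorem edges_6_67 : edgesRangeI iota E 6 1759 128208 = true := by decide +kernel

set_option maxRecDepth 1000000 in
theorem edges_7_140 : edgesRangeI iota E 7 1769 259582 = true := by decide +kernel

set_option maxRecDepth 1000000 in
theorem edges_9_97 : edgesRangeI iota E 9 1621 181856 = true := by decide +kernel

set_option maxRecDepth 1000000 in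
theorem edges_10_128 : edgesRangeI iota E 10 1766 299810 = true := by decide +kernel

set_option maxRecDepth 1000000 in
theorem edges_0_104 : edgesRangeI iota E 0 1951 188494 = true := by decide +kernel

set_option maxRecDepth 1000000 in
theorem edges_2_8 : edgesRangeI iota E 2 1750 14343 = true := by decide +kernel

set_option maxRecDepth 1000000 in
theorem edges_3_67 : edgesRangeI iota E 3 1908 126467 = true := by decide +kernel

set_option maxRecDepth 1000000 in
theorem edges_4_124 : edgesRangeI iota E 4 1907 236665 = true := by decide +kernel

set_option maxRecDepth 1000000 in
theorem edges_6_17 : edgesRangeI iota E 6 2030 32291 = true := by decide +kernel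

set_option maxRecDepth 1000000 in
theorem edges_7_27 : edgesRangeI iota E 7 1797 53403 = true := by decide +kernel

set_option maxRecDepth 1000000 in
theorem edges_8_82 : edgesRangeI iota E 8 2172 159322 = true := by decide +kernel

set_option maxRecDepth 1000000 in
theorem edges_9_134 : edgesRangeI iota E 9 1428 248662 = true := by decide +kernel

set_option maxRecDepth 1000000 in
theorem edges_11_14 : edgesRangeI iota E 11 2525 36843 = true := by decide +kernel

set_option maxRecDepth 1000000 in
theorem aliases_18 : aliasRange E 7952 141482 = true := by decide +kernel

set_option maxRecDepth 1000000 in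
theorem rows_25 : rowsRange E RS 1500 37500 = true := by decide +kernel

set_option maxRecDepth 1000000 in
theorem rows_57 : rowsRange E RS 1500 85500 = true := by decide +kernel

set_option maxRecDepth 1000000 in
theorem rows_105 : rowsRange E RS 1500 157500 = true := by decide +kernel

set_option maxRecDepth 1000000 in
theorem rows_153 : rowsRange E RS 1500 229500 = true := by decide +kernel

set_option maxRecDepth 1000000 in
theorem rows_201 : rowsRange E RS 1500 301500 = true := by decide +kernel

end Cfsg.Agent.Helper5.FiZATC
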