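import Cfsg.Agent.Helper5.FiZATCDatD
import Cfsg.Agent.Helper5.FiZATCDatT
import Cfsg.Agent.Helper5.TCIB

/-! kernel checks of the coset table: FiZATC -/

set_option autoImplicit false
set_option Elab.async false

namespace Cfsg.Agent.Helper5.FiZATC
open Cfsg.Agent.Helper5.TC Cfsg.Agent.Helper5.TCI

set_option maxRecDepth 1000000 in
theorem relc_0_0 : fixPtsF W_0 100000 0 = true := by decide +kernel

set_option maxRecDepth 1000000 in
theorem relc_68_0 : fixPtsF W_68 100000 0 = true := by decide +kernel

set_option maxRecDepth 1000000 in
theorem relc_6_0 : fixPtsF W_6 50000 0 = true := by decide +kernel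

set_option maxRecDepth 1000000 in
theorem relc_11_0 : fixPtsF W_11 50000 0 = true := by decide +kernel

set_option maxRecDepth 1000000 in
theorem relc_17_0 : fixPtsF W_17 50000 0 = true := by decide +kernel

set_option maxRecDepth 1000000 in
theorem relc_21_0 : fixPtsF W_21 50000 0 = true := by decide +kernel

set_option maxRecDepth 1000000 in
theorem relc_28_0 : fixPtsF W_28 50000 0 = true := by decide +kernel

set_option maxRecDepth 1000000 in
theorem relc_32_0 : fixPtsF W_32 50000 0 = true := by decide +kernel

set_option maxRecDepth 1000000 in
theorem relc_38_0 : fixPtsF W_38 50000 0 = true := by decide +kernel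

set_option maxRecDepth 1000000 in
theorem relc_44_0 : fixPtsF W_44 50000 0 = true := by decide +kernel

set_option maxRecDepth 1000000 in
theorem relc_48_0 : fixPtsF W_48 50000 0 = true := by decide +kernel

set_option maxRecDepth 1000000 in
theorem relc_53_0 : fixPtsF W_53 50000 0 = true := by decide +kernel

set_option maxRecDepth 1000000 in
theorem relc_59_0 : fixPtsF W_59 50000 0 = true := by decide +kernel

set_option maxRecDepth 1000000 in
theorem relc_64_0 : fixPtsF W_64 50000 0 = true := by decide +kernel

set_option maxRecDepth 1000000 in
theorem relc_70_0 : fixPtsF W_70 50000 0 = true := by decide +kernel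

set_option maxRecDepth 1000000 in
theorem relc_1_6 : fixPtsF W_1 33333 199998 = true := by decide +kernel

set_option maxRecDepth 1000000 in
theorem relc_24_3 : fixPtsF W_24 33333 99999 = true := by decide +kernel

set_option maxRecDepth 1000000 in
theorem relc_43_0 : fixPtsF W_43 33333 0 = true := by decide +kernel

set_option maxRecDepth 1000000 in
theorem relc_65_6 : fixPtsF W_65 33333 199998 = true := by decide +kernel

set_option maxRecDepth 1000000 in
theorem relc_78_3 : fixPtsF W_78 3125 9375 = true := by decide +kernel

set_option maxRecDepth 1000000 in
theorem relc_78_27 : fixPtsF W_78 3125 84375 = true := by decide +kernel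

set_option maxRecDepth 1000000 in
theorem relc_78_51 : fixPtsF W_78 3125 159375 = true := by decide +kernel

set_option maxRecDepth 1000000 in
theorem relc_78_75 : fixPtsF W_78 3125 234375 = true := by decide +kernel

set_option maxRecDepth 1000000 in
theorem relc_80_1 : fixPtsF W_80 2222 2222 = true := by decide +kernel

set_option maxRecDepth 1000000 in
theorem relc_80_25 : fixPtsF W_80 2222 55550 = true := by decide +kernel

set_option maxRecDepth 1000000 in
theorem relc_80_49 : fixPtsF W_80 2222 108878 = true := by decide +kernel

set_option maxRecDepth 1000000 in
theorem relc_80_73 : fixPtsF W_80 2222 162206 = true := by decide +kernel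

set_option maxRecDepth 1000000 in
theorem relc_80_97 : fixPtsF W_80 2222 215534 = true := by decide +kernel

set_option maxRecDepth 1000000 in
theorem relc_80_121 : fixPtsF W_80 2222 268862 = true := by decide +kernel

set_option maxRecDepth 1000000 in
theorem relc_79_7 : fixPtsF W_79 840 5880 = true := by decide +kernel

set_option maxRecDepth 1000000 in
theorem relc_79_31 : fixPtsF W_79 840 26040 = true := by decide +kernel

set_option maxRecDepth 1000000 in
theorem relc_79_55 : fixPtsF W_79 840 46200 = true := by decide +kernel

set_option maxRecDepth 1000000 in
theorem relc_79_79 : fixPtsF W_79 840 66360 = true := by decide +kernel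

set_option maxRecDepth 1000000 in
theorem relc_79_103 : fixPtsF W_79 840 86520 = true := by decide +kernel

set_option maxRecDepth 1000000 in
theorem relc_79_127 : fixPtsF W_79 840 106680 = true := by decide +kernel

set_option maxRecDepth 1000000 in
theorem relc_79_151 : fixPtsF W_79 840 126840 = true := by decide +kernel

set_option maxRecDepth 1000000 in
theorem relc_79_175 : fixPtsF W_79 840 147000 = true := by decide +kernel

set_option maxRecDepth 1000000 in
theorem relc_79_199 : fixPtsF W_79 840 167160 = true := by decide +kernel

set_option maxRecDepth 1000000 in
theorem relc_79_223 : fixPtsF W_79 840 187320 = true := by decide +kernel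

set_option maxRecDepth 1000000 in
theorem relc_79_247 : fixPtsF W_79 840 207480 = true := by decide +kernel

set_option maxRecDepth 1000000 in
theorem relc_79_271 : fixPtsF W_79 840 227640 = true := by decide +kernel

set_option maxRecDepth 1000000 in
theorem relc_79_295 : fixPtsF W_79 840 247800 = true := by decide +kernel

set_option maxRecDepth 1000000 in
theorem relc_79_319 : fixPtsF W_79 840 267960 = true := by decide +kernel

set_option maxRecDepth 1000000 in
theorem relc_79_343 : fixPtsF W_79 840 288120 = true := by decide +kernel

set_option maxRecDepth 1000000 in
theorem inv_0_2 : invRowFI ctF 306936 0 0 50000 100000 = true := by decide +kernel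

set_option maxRecDepth 1000000 in
theorem inv_4_1 : invRowFI ctF 306936 4 4 50000 50000 = true := by decide +kernel

set_option maxRecDepth 1000000 in
theorem inv_8_1 : invRowFI ctF 306936 8 8 50000 50000 = true := by decide +kernel

set_option maxRecDepth 1000000 in
theorem conn_1 : connF ctF 12 50000 50000 = true := by decide +kernel

set_option maxRecDepth 1000000 in
theorem relc_6_6 : fixPtsF W_6 6936 300000 = true := by decide +kernel

set_option maxRecDepth 1000000 in
theorem relc_37_6 : fixPtsF W_37 6936 300000 = true := by decide +kernel

set_option maxRecDepth 1000000 in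
theorem relc_69_6 : fixPtsF W_69 6936 300000 = true := by decide +kernel

end Cfsg.Agent.Helper5.FiZATC
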