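import Cfsg.Agent.Helper5.FiZATCDatD
import Cfsg.Agent.Helper5.FiZATCDatT
import Cfsg.Agent.Helper5.TCIB

/-! kernel checks of the coset table: FiZATC -/

set_option autoImplicit false
set_option Elab.async false

namespace Cfsg.Agent.Helper5.FiZATC
open Cfsg.Agent.Helper5.TC Cfsg.Agent.Helper5.TCI

set_option maxRecDepth 1000000 in
theorem relc_0_1 : fixPtsF W_0 100000 100000 = true := by decide +kernel

set_option maxRecDepth 1000000 in
theorem relc_68_1 : fixPtsF W_68 100000 100000 = true := by decide +kernel

set_option maxRecDepth 1000000 in
theorem relc_6_1 : fixPtsF W_6 50000 50000 = true := by decide +kernel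

set_option maxRecDepth 1000000 in
theorem relc_11_1 : fixPtsF W_11 50000 50000 = true := by decide +kernel

set_option maxRecDepth 1000000 in
theorem relc_17_1 : fixPtsF W_17 50000 50000 = true := by decide +kernel

set_option maxRecDepth 1000000 in
theorem relc_21_1 : fixPtsF W_21 50000 50000 = true := by decide +kernel

set_option maxRecDepth 1000000 in
theorem relc_28_1 : fixPtsF W_28 50000 50000 = true := by decide +kernel

set_option maxRecDepth 1000000 in
theorem relc_32_1 : fixPtsF W_32 50000 50000 = true := by decide +kernel

set_option maxRecDepth 1000000 in
theorem relc_38_1 : fixPtsF W_38 50000 50000 = true := by decide +kernel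

set_option maxRecDepth 1000000 in
theorem relc_44_1 : fixPtsF W_44 50000 50000 = true := by decide +kernel

set_option maxRecDepth 1000000 in
theorem relc_48_1 : fixPtsF W_48 50000 50000 = true := by decide +kernel

set_option maxRecDepth 1000000 in
theorem relc_53_1 : fixPtsF W_53 50000 50000 = true := by decide +kernel

set_option maxRecDepth 1000000 in
theorem relc_59_1 : fixPtsF W_59 50000 50000 = true := by decide +kernel

set_option maxRecDepth 1000000 in
theorem relc_64_1 : fixPtsF W_64 50000 50000 = true := by decide +kernel

set_option maxRecDepth 1000000 in
theorem relc_70_1 : fixPtsF W_70 50000 50000 = true := by decide +kernel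

set_option maxRecDepth 1000000 in
theorem relc_1_7 : fixPtsF W_1 33333 233331 = true := by decide +kernel

set_option maxRecDepth 1000000 in
theorem relc_24_4 : fixPtsF W_24 33333 133332 = true := by decide +kernel

set_option maxRecDepth 1000000 in
theorem relc_43_1 : fixPtsF W_43 33333 33333 = true := by decide +kernel

set_option maxRecDepth 1000000 in
theorem relc_65_7 : fixPtsF W_65 33333 233331 = true := by decide +kernel

set_option maxRecDepth 1000000 in
theorem relc_78_4 : fixPtsF W_78 3125 12500 = true := by decide +kernel

set_option maxRecDepth 1000000 in
theorem relc_78_28 : fixPtsF W_78 3125 87500 = true := by decide +kernel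

set_option maxRecDepth 1000000 in
theorem relc_78_52 : fixPtsF W_78 3125 162500 = true := by decide +kernel

set_option maxRecDepth 1000000 in
theorem relc_78_76 : fixPtsF W_78 3125 237500 = true := by decide +kernel

set_option maxRecDepth 1000000 in
theorem relc_80_2 : fixPtsF W_80 2222 4444 = true := by decide +kernel

set_option maxRecDepth 1000000 in
theorem relc_80_26 : fixPtsF W_80 2222 57772 = true := by decide +kernel

set_option maxRecDepth 1000000 in
theorem relc_80_50 : fixPtsF W_80 2222 111100 = true := by decide +kernel

set_option maxRecDepth 1000000 in
theorem relc_80_74 : fixPtsF W_80 2222 164428 = true := by decide +kernel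

set_option maxRecDepth 1000000 in
theorem relc_80_98 : fixPtsF W_80 2222 217756 = true := by decide +kernel

set_option maxRecDepth 1000000 in
theorem relc_80_122 : fixPtsF W_80 2222 271084 = true := by decide +kernel

set_option maxRecDepth 1000000 in
theorem relc_79_8 : fixPtsF W_79 840 6720 = true := by decide +kernel

set_option maxRecDepth 1000000 in
theorem relc_79_32 : fixPtsF W_79 840 26880 = true := by decide +kernel

set_option maxRecDepth 1000000 in
theorem relc_79_56 : fixPtsF W_79 840 47040 = true := by decide +kernel

set_option maxRecDepth 1000000 in
theorem relc_79_80 : fixPtsF W_79 840 67200 = true := by decide +kernel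

set_option maxRecDepth 1000000 in
theorem relc_79_104 : fixPtsF W_79 840 87360 = true := by decide +kernel

set_option maxRecDepth 1000000 in
theorem relc_79_128 : fixPtsF W_79 840 107520 = true := by decide +kernel

set_option maxRecDepth 1000000 in
theorem relc_79_152 : fixPtsF W_79 840 127680 = true := by decide +kernel

set_option maxRecDepth 1000000 in
theorem relc_79_176 : fixPtsF W_79 840 147840 = true := by decide +kernel

set_option maxRecDepth 1000000 in
theorem relc_79_200 : fixPtsF W_79 840 168000 = true := by decide +kernel

set_option maxRecDepth 1000000 in
theorem relc_79_224 : fixPtsF W_79 840 188160 = true := by decide +kernel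

set_option maxRecDepth 1000000 in
theorem relc_79_248 : fixPtsF W_79 840 208320 = true := by decide +kernel

set_option maxRecDepth 1000000 in
theorem relc_79_272 : fixPtsF W_79 840 228480 = true := by decide +kernel

set_option maxRecDepth 1000000 in
theorem relc_79_296 : fixPtsF W_79 840 248640 = true := by decide +kernel

set_option maxRecDepth 1000000 in
theorem relc_79_320 : fixPtsF W_79 840 268800 = true := by decide +kernel

set_option maxRecDepth 1000000 in
theorem relc_79_344 : fixPtsF W_79 840 288960 = true := by decide +kernel

set_option maxRecDepth 1000000 in
theorem inv_0_3 : invRowFI ctF 306936 0 0 50000 150000 = true := by decide +kernel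

set_option maxRecDepth 1000000 in
theorem inv_4_2 : invRowFI ctF 306936 4 4 50000 100000 = true := by decide +kernel

set_option maxRecDepth 1000000 in
theorem inv_8_2 : invRowFI ctF 306936 8 8 50000 100000 = true := by decide +kernel

set_option maxRecDepth 1000000 in
theorem conn_2 : connF ctF 12 50000 100000 = true := by decide +kernel

set_option maxRecDepth 1000000 in
theorem relc_7_6 : fixPtsF W_7 6936 300000 = true := by decide +kernel

set_option maxRecDepth 1000000 in
theorem relc_38_6 : fixPtsF W_38 6936 300000 = true := by decide +kernel

set_option maxRecDepth 1000000 in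
theorem relc_70_6 : fixPtsF W_70 6936 300000 = true := by decide +kernel

end Cfsg.Agent.Helper5.FiZATC
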