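import Cfsg.Agent.Helper5.FiZATCDatD
import Cfsg.Agent.Helper5.FiZATCDatT
import Cfsg.Agent.Helper5.TCIB

/-! kernel checks of the coset table: FiZATC -/

set_option autoImplicit false
set_option Elab.async false

namespace Cfsg.Agent.Helper5.FiZATC
open Cfsg.Agent.Helper5.TC Cfsg.Agent.Helper5.TCI

set_option maxRecDepth 1000000 in
theorem relc_33_1 : fixPtsF W_33 100000 100000 = true := by decide +kernel

set_option maxRecDepth 1000000 in
theorem relc_77_1 : fixPtsF W_77 100000 100000 = true := by decide +kernel

set_option maxRecDepth 1000000 in
theorem relc_7_4 : fixPtsF W_7 50000 200000 = true := by decide +kernel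

set_option maxRecDepth 1000000 in
theorem relc_14_4 : fixPtsF W_14 50000 200000 = true := by decide +kernel

set_option maxRecDepth 1000000 in
theorem relc_18_4 : fixPtsF W_18 50000 200000 = true := by decide +kernel

set_option maxRecDepth 1000000 in
theorem relc_22_4 : fixPtsF W_22 50000 200000 = true := by decide +kernel

set_option maxRecDepth 1000000 in
theorem relc_29_4 : fixPtsF W_29 50000 200000 = true := by decide +kernel

set_option maxRecDepth 1000000 in
theorem relc_34_4 : fixPtsF W_34 50000 200000 = true := by decide +kernel

set_option maxRecDepth 1000000 in
theorem relc_39_4 : fixPtsF W_39 50000 200000 = true := by decide +kernel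

set_option maxRecDepth 1000000 in
theorem relc_45_4 : fixPtsF W_45 50000 200000 = true := by decide +kernel

set_option maxRecDepth 1000000 in
theorem relc_49_4 : fixPtsF W_49 50000 200000 = true := by decide +kernel

set_option maxRecDepth 1000000 in
theorem relc_54_4 : fixPtsF W_54 50000 200000 = true := by decide +kernel

set_option maxRecDepth 1000000 in
theorem relc_60_4 : fixPtsF W_60 50000 200000 = true := by decide +kernel

set_option maxRecDepth 1000000 in
theorem relc_66_4 : fixPtsF W_66 50000 200000 = true := by decide +kernel

set_option maxRecDepth 1000000 in
theorem relc_73_4 : fixPtsF W_73 50000 200000 = true := by decide +kernel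

set_option maxRecDepth 1000000 in
theorem relc_8_7 : fixPtsF W_8 33333 233331 = true := by decide +kernel

set_option maxRecDepth 1000000 in
theorem relc_25_4 : fixPtsF W_25 33333 133332 = true := by decide +kernel

set_option maxRecDepth 1000000 in
theorem relc_58_1 : fixPtsF W_58 33333 33333 = true := by decide +kernel

set_option maxRecDepth 1000000 in
theorem relc_71_7 : fixPtsF W_71 33333 233331 = true := by decide +kernel

set_option maxRecDepth 1000000 in
theorem relc_78_13 : fixPtsF W_78 3125 40625 = true := by decide +kernel

set_option maxRecDepth 1000000 in
theorem relc_78_37 : fixPtsF W_78 3125 115625 = true := by decide +kernel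

set_option maxRecDepth 1000000 in
theorem relc_78_61 : fixPtsF W_78 3125 190625 = true := by decide +kernel

set_option maxRecDepth 1000000 in
theorem relc_78_85 : fixPtsF W_78 3125 265625 = true := by decide +kernel

set_option maxRecDepth 1000000 in
theorem relc_80_11 : fixPtsF W_80 2222 24442 = true := by decide +kernel

set_option maxRecDepth 1000000 in
theorem relc_80_35 : fixPtsF W_80 2222 77770 = true := by decide +kernel

set_option maxRecDepth 1000000 in
theorem relc_80_59 : fixPtsF W_80 2222 131098 = true := by decide +kernel

set_option maxRecDepth 1000000 in
theorem relc_80_83 : fixPtsF W_80 2222 184426 = true := by decide +kernel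

set_option maxRecDepth 1000000 in
theorem relc_80_107 : fixPtsF W_80 2222 237754 = true := by decide +kernel

set_option maxRecDepth 1000000 in
theorem relc_80_131 : fixPtsF W_80 2222 291082 = true := by decide +kernel

set_option maxRecDepth 1000000 in
theorem relc_79_17 : fixPtsF W_79 840 14280 = true := by decide +kernel

set_option maxRecDepth 1000000 in
theorem relc_79_41 : fixPtsF W_79 840 34440 = true := by decide +kernel

set_option maxRecDepth 1000000 in
theorem relc_79_65 : fixPtsF W_79 840 54600 = true := by decide +kernel

set_option maxRecDepth 1000000 in
theorem relc_79_89 : fixPtsF W_79 840 74760 = true := by decide +kernel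

set_option maxRecDepth 1000000 in
theorem relc_79_113 : fixPtsF W_79 840 94920 = true := by decide +kernel

set_option maxRecDepth 1000000 in
theorem relc_79_137 : fixPtsF W_79 840 115080 = true := by decide +kernel

set_option maxRecDepth 1000000 in
theorem relc_79_161 : fixPtsF W_79 840 135240 = true := by decide +kernel

set_option maxRecDepth 1000000 in
theorem relc_79_185 : fixPtsF W_79 840 155400 = true := by decide +kernel

set_option maxRecDepth 1000000 in
theorem relc_79_209 : fixPtsF W_79 840 175560 = true := by decide +kernel

set_option maxRecDepth 1000000 in
theorem relc_79_233 : fixPtsF W_79 840 195720 = true := by decide +kernel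

set_option maxRecDepth 1000000 in
theorem relc_79_257 : fixPtsF W_79 840 215880 = true := by decide +kernel

set_option maxRecDepth 1000000 in
theorem relc_79_281 : fixPtsF W_79 840 236040 = true := by decide +kernel

set_option maxRecDepth 1000000 in
theorem relc_79_305 : fixPtsF W_79 840 256200 = true := by decide +kernel

set_option maxRecDepth 1000000 in
theorem relc_79_329 : fixPtsF W_79 840 276360 = true := by decide +kernel

set_option maxRecDepth 1000000 in
theorem relc_79_353 : fixPtsF W_79 840 296520 = true := by decide +kernel

set_option maxRecDepth 1000000 in
theorem inv_2_0 : invRowFI ctF 306936 2 2 50000 0 = true := by decide +kernel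

set_option maxRecDepth 1000000 in
theorem inv_5_5 : invRowFI ctF 306936 5 5 50000 250000 = true := by decide +kernel

set_option maxRecDepth 1000000 in
theorem inv_9_5 : invRowFI ctF 306936 9 9 50000 250000 = true := by decide +kernel

set_option maxRecDepth 1000000 in
theorem relc_25_9 : fixPtsF W_25 6939 299997 = true := by decide +kernel

set_option maxRecDepth 1000000 in
theorem relc_2_6 : fixPtsF W_2 6936 300000 = true := by decide +kernel

set_option maxRecDepth 1000000 in
theorem relc_18_6 : fixPtsF W_18 6936 300000 = true := by decide +kernel

set_option maxRecDepth 1000000 in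
theorem relc_49_6 : fixPtsF W_49 6936 300000 = true := by decide +kernel

set_option maxRecDepth 1000000 in
theorem relc_50_3 : fixPtsF W_50 6936 300000 = true := by decide +kernel

set_option maxRecDepth 1000000 in
theorem inv_6_6 : invRowFI ctF 306936 6 6 6936 300000 = true := by decide +kernel

end Cfsg.Agent.Helper5.FiZATC
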