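import Cfsg.Agent.Helper5.FiZATCDatD
import Cfsg.Agent.Helper5.FiZATCDatT
import Cfsg.Agent.Helper5.TCIB

/-! kernel checks of the coset table: FiZATC -/

set_option autoImplicit false
set_option Elab.async false

namespace Cfsg.Agent.Helper5.FiZATC
open Cfsg.Agent.Helper5.TC Cfsg.Agent.Helper5.TCI

set_option maxRecDepth 1000000 in
theorem relc_33_2 : fixPtsF W_33 100000 200000 = true := by decide +kernel

set_option maxRecDepth 1000000 in
theorem relc_77_2 : fixPtsF W_77 100000 200000 = true := by decide +kernel

set_option maxRecDepth 1000000 in
theorem relc_7_5 : fixPtsF W_7 50000 250000 = true := by decide +kernel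

set_option maxRecDepth 1000000 in
theorem relc_14_5 : fixPtsF W_14 50000 250000 = true := by decide +kernel

set_option maxRecDepth 1000000 in
theorem relc_18_5 : fixPtsF W_18 50000 250000 = true := by decide +kernel

set_option maxRecDepth 1000000 in
theorem relc_22_5 : fixPtsF W_22 50000 250000 = true := by decide +kernel

set_option maxRecDepth 1000000 in
theorem relc_29_5 : fixPtsF W_29 50000 250000 = true := by decide +kernel

set_option maxRecDepth 1000000 in
theorem relc_34_5 : fixPtsF W_34 50000 250000 = true := by decide +kernel

set_option maxRecDepth 1000000 in
theorem relc_39_5 : fixPtsF W_39 50000 250000 = true := by decide +kernel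

set_option maxRecDepth 1000000 in
theorem relc_45_5 : fixPtsF W_45 50000 250000 = true := by decide +kernel

set_option maxRecDepth 1000000 in
theorem relc_49_5 : fixPtsF W_49 50000 250000 = true := by decide +kernel

set_option maxRecDepth 1000000 in
theorem relc_54_5 : fixPtsF W_54 50000 250000 = true := by decide +kernel

set_option maxRecDepth 1000000 in
theorem relc_60_5 : fixPtsF W_60 50000 250000 = true := by decide +kernel

set_option maxRecDepth 1000000 in
theorem relc_66_5 : fixPtsF W_66 50000 250000 = true := by decide +kernel

set_option maxRecDepth 1000000 in
theorem relc_73_5 : fixPtsF W_73 50000 250000 = true := by decide +kernel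

set_option maxRecDepth 1000000 in
theorem relc_8_8 : fixPtsF W_8 33333 266664 = true := by decide +kernel

set_option maxRecDepth 1000000 in
theorem relc_25_5 : fixPtsF W_25 33333 166665 = true := by decide +kernel

set_option maxRecDepth 1000000 in
theorem relc_58_2 : fixPtsF W_58 33333 66666 = true := by decide +kernel

set_option maxRecDepth 1000000 in
theorem relc_71_8 : fixPtsF W_71 33333 266664 = true := by decide +kernel

set_option maxRecDepth 1000000 in
theorem relc_78_14 : fixPtsF W_78 3125 43750 = true := by decide +kernel

set_option maxRecDepth 1000000 in
theorem relc_78_38 : fixPtsF W_78 3125 118750 = true := by decide +kernel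

set_option maxRecDepth 1000000 in
theorem relc_78_62 : fixPtsF W_78 3125 193750 = true := by decide +kernel

set_option maxRecDepth 1000000 in
theorem relc_78_86 : fixPtsF W_78 3125 268750 = true := by decide +kernel

set_option maxRecDepth 1000000 in
theorem relc_80_12 : fixPtsF W_80 2222 26664 = true := by decide +kernel

set_option maxRecDepth 1000000 in
theorem relc_80_36 : fixPtsF W_80 2222 79992 = true := by decide +kernel

set_option maxRecDepth 1000000 in
theorem relc_80_60 : fixPtsF W_80 2222 133320 = true := by decide +kernel

set_option maxRecDepth 1000000 in
theorem relc_80_84 : fixPtsF W_80 2222 186648 = true := by decide +kernel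

set_option maxRecDepth 1000000 in
theorem relc_80_108 : fixPtsF W_80 2222 239976 = true := by decide +kernel

set_option maxRecDepth 1000000 in
theorem relc_80_132 : fixPtsF W_80 2222 293304 = true := by decide +kernel

set_option maxRecDepth 1000000 in
theorem relc_79_18 : fixPtsF W_79 840 15120 = true := by decide +kernel

set_option maxRecDepth 1000000 in
theorem relc_79_42 : fixPtsF W_79 840 35280 = true := by decide +kernel

set_option maxRecDepth 1000000 in
theorem relc_79_66 : fixPtsF W_79 840 55440 = true := by decide +kernel

set_option maxRecDepth 1000000 in
theorem relc_79_90 : fixPtsF W_79 840 75600 = true := by decide +kernel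

set_option maxRecDepth 1000000 in
theorem relc_79_114 : fixPtsF W_79 840 95760 = true := by decide +kernel

set_option maxRecDepth 1000000 in
theorem relc_79_138 : fixPtsF W_79 840 115920 = true := by decide +kernel

set_option maxRecDepth 1000000 in
theorem relc_79_162 : fixPtsF W_79 840 136080 = true := by decide +kernel

set_option maxRecDepth 1000000 in
theorem relc_79_186 : fixPtsF W_79 840 156240 = true := by decide +kernel

set_option maxRecDepth 1000000 in
theorem relc_79_210 : fixPtsF W_79 840 176400 = true := by decide +kernel

set_option maxRecDepth 1000000 in
theorem relc_79_234 : fixPtsF W_79 840 196560 = true := by decide +kernel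

set_option maxRecDepth 1000000 in
theorem relc_79_258 : fixPtsF W_79 840 216720 = true := by decide +kernel

set_option maxRecDepth 1000000 in
theorem relc_79_282 : fixPtsF W_79 840 236880 = true := by decide +kernel

set_option maxRecDepth 1000000 in
theorem relc_79_306 : fixPtsF W_79 840 257040 = true := by decide +kernel

set_option maxRecDepth 1000000 in
theorem relc_79_330 : fixPtsF W_79 840 277200 = true := by decide +kernel

set_option maxRecDepth 1000000 in
theorem relc_79_354 : fixPtsF W_79 840 297360 = true := by decide +kernel

set_option maxRecDepth 1000000 in
theorem inv_2_1 : invRowFI ctF 306936 2 2 50000 50000 = true := by decide +kernel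

set_option maxRecDepth 1000000 in
theorem inv_6_0 : invRowFI ctF 306936 6 6 50000 0 = true := by decide +kernel

set_option maxRecDepth 1000000 in
theorem inv_10_0 : invRowFI ctF 306936 10 10 50000 0 = true := by decide +kernel

set_option maxRecDepth 1000000 in
theorem relc_36_9 : fixPtsF W_36 6939 299997 = true := by decide +kernel

set_option maxRecDepth 1000000 in
theorem relc_3_6 : fixPtsF W_3 6936 300000 = true := by decide +kernel

set_option maxRecDepth 1000000 in
theorem relc_19_6 : fixPtsF W_19 6936 300000 = true := by decide +kernel

set_option maxRecDepth 1000000 in
theorem relc_51_6 : fixPtsF W_51 6936 300000 = true := by decide +kernel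

set_option maxRecDepth 1000000 in
theorem relc_57_3 : fixPtsF W_57 6936 300000 = true := by decide +kernel

set_option maxRecDepth 1000000 in
theorem inv_7_6 : invRowFI ctF 306936 7 7 6936 300000 = true := by decide +kernel

end Cfsg.Agent.Helper5.FiZATC
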