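import Cfsg.Agent.Helper5.FiZATCDatD
import Cfsg.Agent.Helper5.FiZATCDatT
import Cfsg.Agent.Helper5.TCIB

/-! kernel checks of the coset table: FiZATC -/

set_option autoImplicit false
set_option Elab.async false

namespace Cfsg.Agent.Helper5.FiZATC
open Cfsg.Agent.Helper5.TC Cfsg.Agent.Helper5.TCI

set_option maxRecDepth 1000000 in
theorem relc_42_0 : fixPtsF W_42 100000 0 = true := by decide +kernel

set_option maxRecDepth 1000000 in
theorem relc_2_0 : fixPtsF W_2 50000 0 = true := by decide +kernel

set_option maxRecDepth 1000000 in
theorem relc_4_0 : fixPtsF W_4 50000 0 = true := by decide +kernel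

set_option maxRecDepth 1000000 in
theorem relc_9_0 : fixPtsF W_9 50000 0 = true := by decide +kernel

set_option maxRecDepth 1000000 in
theorem relc_15_0 : fixPtsF W_15 50000 0 = true := by decide +kernel

set_option maxRecDepth 1000000 in
theorem relc_19_0 : fixPtsF W_19 50000 0 = true := by decide +kernel

set_option maxRecDepth 1000000 in
theorem relc_26_0 : fixPtsF W_26 50000 0 = true := by decide +kernel

set_option maxRecDepth 1000000 in
theorem relc_30_0 : fixPtsF W_30 50000 0 = true := by decide +kernel

set_option maxRecDepth 1000000 in
theorem relc_35_0 : fixPtsF W_35 50000 0 = true := by decide +kernel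

set_option maxRecDepth 1000000 in
theorem relc_40_0 : fixPtsF W_40 50000 0 = true := by decide +kernel

set_option maxRecDepth 1000000 in
theorem relc_46_0 : fixPtsF W_46 50000 0 = true := by decide +kernel

set_option maxRecDepth 1000000 in
theorem relc_51_0 : fixPtsF W_51 50000 0 = true := by decide +kernel

set_option maxRecDepth 1000000 in
theorem relc_55_0 : fixPtsF W_55 50000 0 = true := by decide +kernel

set_option maxRecDepth 1000000 in
theorem relc_61_0 : fixPtsF W_61 50000 0 = true := by decide +kernel

set_option maxRecDepth 1000000 in
theorem relc_67_0 : fixPtsF W_67 50000 0 = true := by decide +kernel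

set_option maxRecDepth 1000000 in
theorem relc_74_0 : fixPtsF W_74 50000 0 = true := by decide +kernel

set_option maxRecDepth 1000000 in
theorem relc_13_6 : fixPtsF W_13 33333 199998 = true := by decide +kernel

set_option maxRecDepth 1000000 in
theorem relc_36_3 : fixPtsF W_36 33333 99999 = true := by decide +kernel

set_option maxRecDepth 1000000 in
theorem relc_65_0 : fixPtsF W_65 33333 0 = true := by decide +kernel

set_option maxRecDepth 1000000 in
theorem relc_76_6 : fixPtsF W_76 33333 199998 = true := by decide +kernel

set_option maxRecDepth 1000000 in
theorem relc_78_24 : fixPtsF W_78 3125 75000 = true := by decide +kernel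

set_option maxRecDepth 1000000 in
theorem relc_78_48 : fixPtsF W_78 3125 150000 = true := by decide +kernel

set_option maxRecDepth 1000000 in
theorem relc_78_72 : fixPtsF W_78 3125 225000 = true := by decide +kernel

set_option maxRecDepth 1000000 in
theorem relc_78_96 : fixPtsF W_78 3125 300000 = true := by decide +kernel

set_option maxRecDepth 1000000 in
theorem relc_80_23 : fixPtsF W_80 2222 51106 = true := by decide +kernel

set_option maxRecDepth 1000000 in
theorem relc_80_47 : fixPtsF W_80 2222 104434 = true := by decide +kernel

set_option maxRecDepth 1000000 in
theorem relc_80_71 : fixPtsF W_80 2222 157762 = true := by decide +kernel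

set_option maxRecDepth 1000000 in
theorem relc_80_95 : fixPtsF W_80 2222 211090 = true := by decide +kernel

set_option maxRecDepth 1000000 in
theorem relc_80_119 : fixPtsF W_80 2222 264418 = true := by decide +kernel

set_option maxRecDepth 1000000 in
theorem relc_79_5 : fixPtsF W_79 840 4200 = true := by decide +kernel

set_option maxRecDepth 1000000 in
theorem relc_79_29 : fixPtsF W_79 840 24360 = true := by decide +kernel

set_option maxRecDepth 1000000 in
theorem relc_79_53 : fixPtsF W_79 840 44520 = true := by decide +kernel

set_option maxRecDepth 1000000 in
theorem relc_79_77 : fixPtsF W_79 840 64680 = true := by decide +kernel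

set_option maxRecDepth 1000000 in
theorem relc_79_101 : fixPtsF W_79 840 84840 = true := by decide +kernel

set_option maxRecDepth 1000000 in
theorem relc_79_125 : fixPtsF W_79 840 105000 = true := by decide +kernel

set_option maxRecDepth 1000000 in
theorem relc_79_149 : fixPtsF W_79 840 125160 = true := by decide +kernel

set_option maxRecDepth 1000000 in
theorem relc_79_173 : fixPtsF W_79 840 145320 = true := by decide +kernel

set_option maxRecDepth 1000000 in
theorem relc_79_197 : fixPtsF W_79 840 165480 = true := by decide +kernel

set_option maxRecDepth 1000000 in
theorem relc_79_221 : fixPtsF W_79 840 185640 = true := by decide +kernel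

set_option maxRecDepth 1000000 in
theorem relc_79_245 : fixPtsF W_79 840 205800 = true := by decide +kernel

set_option maxRecDepth 1000000 in
theorem relc_79_269 : fixPtsF W_79 840 225960 = true := by decide +kernel

set_option maxRecDepth 1000000 in
theorem relc_79_293 : fixPtsF W_79 840 246120 = true := by decide +kernel

set_option maxRecDepth 1000000 in
theorem relc_79_317 : fixPtsF W_79 840 266280 = true := by decide +kernel

set_option maxRecDepth 1000000 in
theorem relc_79_341 : fixPtsF W_79 840 286440 = true := by decide +kernel

set_option maxRecDepth 1000000 in
theorem inv_0_0 : invRowFI ctF 306936 0 0 50000 0 = true := by decide +kernel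

set_option maxRecDepth 1000000 in
theorem inv_2_5 : invRowFI ctF 306936 2 2 50000 250000 = true := by decide +kernel

set_option maxRecDepth 1000000 in
theorem inv_6_5 : invRowFI ctF 306936 6 6 50000 250000 = true := by decide +kernel

set_option maxRecDepth 1000000 in
theorem inv_10_5 : invRowFI ctF 306936 10 10 50000 250000 = true := by decide +kernel

set_option maxRecDepth 1000000 in
theorem relc_28_6 : fixPtsF W_28 6936 300000 = true := by decide +kernel

set_option maxRecDepth 1000000 in
theorem relc_59_6 : fixPtsF W_59 6936 300000 = true := by decide +kernel

set_option maxRecDepth 1000000 in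
theorem inv_1_6 : invRowFI ctF 306936 1 1 6936 300000 = true := by decide +kernel

end Cfsg.Agent.Helper5.FiZATC
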