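import Cfsg.Agent.Helper5.FiZATCDatD
import Cfsg.Agent.Helper5.FiZATCDatT
import Cfsg.Agent.Helper5.TCIB

/-! kernel checks of the coset table: FiZATC -/

set_option autoImplicit false
set_option Elab.async false

namespace Cfsg.Agent.Helper5.FiZATC
open Cfsg.Agent.Helper5.TC Cfsg.Agent.Helper5.TCI

set_option maxRecDepth 1000000 in
theorem relc_42_1 : fixPtsF W_42 100000 100000 = true := by decide +kernel

set_option maxRecDepth 1000000 in
theorem relc_2_1 : fixPtsF W_2 50000 50000 = true := by decide +kernel

set_option maxRecDepth 1000000 in
theorem relc_4_1 : fixPtsF W_4 50000 50000 = true := by decide +kernel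

set_option maxRecDepth 1000000 in
theorem relc_9_1 : fixPtsF W_9 50000 50000 = true := by decide +kernel

set_option maxRecDepth 1000000 in
theorem relc_15_1 : fixPtsF W_15 50000 50000 = true := by decide +kernel

set_option maxRecDepth 1000000 in
theorem relc_19_1 : fixPtsF W_19 50000 50000 = true := by decide +kernel

set_option maxRecDepth 1000000 in
theorem relc_26_1 : fixPtsF W_26 50000 50000 = true := by decide +kernel

set_option maxRecDepth 1000000 in
theorem relc_30_1 : fixPtsF W_30 50000 50000 = true := by decide +kernel

set_option maxRecDepth 1000000 in
theorem relc_35_1 : fixPtsF W_35 50000 50000 = true := by decide +kernel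

set_option maxRecDepth 1000000 in
theorem relc_40_1 : fixPtsF W_40 50000 50000 = true := by decide +kernel

set_option maxRecDepth 1000000 in
theorem relc_46_1 : fixPtsF W_46 50000 50000 = true := by decide +kernel

set_option maxRecDepth 1000000 in
theorem relc_51_1 : fixPtsF W_51 50000 50000 = true := by decide +kernel

set_option maxRecDepth 1000000 in
theorem relc_55_1 : fixPtsF W_55 50000 50000 = true := by decide +kernel

set_option maxRecDepth 1000000 in
theorem relc_61_1 : fixPtsF W_61 50000 50000 = true := by decide +kernel

set_option maxRecDepth 1000000 in
theorem relc_67_1 : fixPtsF W_67 50000 50000 = true := by decide +kernel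

set_option maxRecDepth 1000000 in
theorem relc_74_1 : fixPtsF W_74 50000 50000 = true := by decide +kernel

set_option maxRecDepth 1000000 in
theorem relc_13_7 : fixPtsF W_13 33333 233331 = true := by decide +kernel

set_option maxRecDepth 1000000 in
theorem relc_36_4 : fixPtsF W_36 33333 133332 = true := by decide +kernel

set_option maxRecDepth 1000000 in
theorem relc_65_1 : fixPtsF W_65 33333 33333 = true := by decide +kernel

set_option maxRecDepth 1000000 in
theorem relc_76_7 : fixPtsF W_76 33333 233331 = true := by decide +kernel

set_option maxRecDepth 1000000 in
theorem relc_78_25 : fixPtsF W_78 3125 78125 = true := by decide +kernel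

set_option maxRecDepth 1000000 in
theorem relc_78_49 : fixPtsF W_78 3125 153125 = true := by decide +kernel

set_option maxRecDepth 1000000 in
theorem relc_78_73 : fixPtsF W_78 3125 228125 = true := by decide +kernel

set_option maxRecDepth 1000000 in
theorem relc_78_97 : fixPtsF W_78 3125 303125 = true := by decide +kernel

set_option maxRecDepth 1000000 in
theorem relc_80_24 : fixPtsF W_80 2222 53328 = true := by decide +kernel

set_option maxRecDepth 1000000 in
theorem relc_80_48 : fixPtsF W_80 2222 106656 = true := by decide +kernel

set_option maxRecDepth 1000000 in
theorem relc_80_72 : fixPtsF W_80 2222 159984 = true := by decide +kernel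

set_option maxRecDepth 1000000 in
theorem relc_80_96 : fixPtsF W_80 2222 213312 = true := by decide +kernel

set_option maxRecDepth 1000000 in
theorem relc_80_120 : fixPtsF W_80 2222 266640 = true := by decide +kernel

set_option maxRecDepth 1000000 in
theorem relc_79_6 : fixPtsF W_79 840 5040 = true := by decide +kernel

set_option maxRecDepth 1000000 in
theorem relc_79_30 : fixPtsF W_79 840 25200 = true := by decide +kernel

set_option maxRecDepth 1000000 in
theorem relc_79_54 : fixPtsF W_79 840 45360 = true := by decide +kernel

set_option maxRecDepth 1000000 in
theorem relc_79_78 : fixPtsF W_79 840 65520 = true := by decide +kernel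

set_option maxRecDepth 1000000 in
theorem relc_79_102 : fixPtsF W_79 840 85680 = true := by decide +kernel

set_option maxRecDepth 1000000 in
theorem relc_79_126 : fixPtsF W_79 840 105840 = true := by decide +kernel

set_option maxRecDepth 1000000 in
theorem relc_79_150 : fixPtsF W_79 840 126000 = true := by decide +kernel

set_option maxRecDepth 1000000 in
theorem relc_79_174 : fixPtsF W_79 840 146160 = true := by decide +kernel

set_option maxRecDepth 1000000 in
theorem relc_79_198 : fixPtsF W_79 840 166320 = true := by decide +kernel

set_option maxRecDepth 1000000 in
theorem relc_79_222 : fixPtsF W_79 840 186480 = true := by decide +kernel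

set_option maxRecDepth 1000000 in
theorem relc_79_246 : fixPtsF W_79 840 206640 = true := by decide +kernel

set_option maxRecDepth 1000000 in
theorem relc_79_270 : fixPtsF W_79 840 226800 = true := by decide +kernel

set_option maxRecDepth 1000000 in
theorem relc_79_294 : fixPtsF W_79 840 246960 = true := by decide +kernel

set_option maxRecDepth 1000000 in
theorem relc_79_318 : fixPtsF W_79 840 267120 = true := by decide +kernel

set_option maxRecDepth 1000000 in
theorem relc_79_342 : fixPtsF W_79 840 287280 = true := by decide +kernel

set_option maxRecDepth 1000000 in
theorem inv_0_1 : invRowFI ctF 306936 0 0 50000 50000 = true := by decide +kernel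

set_option maxRecDepth 1000000 in
theorem inv_3_0 : invRowFI ctF 306936 3 3 50000 0 = true := by decide +kernel

set_option maxRecDepth 1000000 in
theorem inv_7_0 : invRowFI ctF 306936 7 7 50000 0 = true := by decide +kernel

set_option maxRecDepth 1000000 in
theorem inv_11_0 : invRowFI ctF 306936 11 11 50000 0 = true := by decide +kernel

set_option maxRecDepth 1000000 in
theorem relc_29_6 : fixPtsF W_29 6936 300000 = true := by decide +kernel

set_option maxRecDepth 1000000 in
theorem relc_60_6 : fixPtsF W_60 6936 300000 = true := by decide +kernel

set_option maxRecDepth 1000000 in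
theorem inv_2_6 : invRowFI ctF 306936 2 2 6936 300000 = true := by decide +kernel

end Cfsg.Agent.Helper5.FiZATC
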