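import Cfsg.Agent.Helper5.FiZATCDatD
import Cfsg.Agent.Helper5.FiZATCDatT
import Cfsg.Agent.Helper5.TCIB

/-! kernel checks of the coset table: FiZATC -/

set_option autoImplicit false
set_option Elab.async false

namespace Cfsg.Agent.Helper5.FiZATC
open Cfsg.Agent.Helper5.TC Cfsg.Agent.Helper5.TCI

set_option maxRecDepth 1000000 in
theorem relc_42_2 : fixPtsF W_42 100000 200000 = true := by decide +kernel

set_option maxRecDepth 1000000 in
theorem relc_2_2 : fixPtsF W_2 50000 100000 = true := by decide +kernel

set_option maxRecDepth 1000000 in
theorem relc_4_2 : fixPtsF W_4 50000 100000 = true := by decide +kernel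

set_option maxRecDepth 1000000 in
theorem relc_9_2 : fixPtsF W_9 50000 100000 = true := by decide +kernel

set_option maxRecDepth 1000000 in
theorem relc_15_2 : fixPtsF W_15 50000 100000 = true := by decide +kernel

set_option maxRecDepth 1000000 in
theorem relc_19_2 : fixPtsF W_19 50000 100000 = true := by decide +kernel

set_option maxRecDepth 1000000 in
theorem relc_26_2 : fixPtsF W_26 50000 100000 = true := by decide +kernel

set_option maxRecDepth 1000000 in
theorem relc_30_2 : fixPtsF W_30 50000 100000 = true := by decide +kernel

set_option maxRecDepth 1000000 in
theorem relc_35_2 : fixPtsF W_35 50000 100000 = true := by decide +kernel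

set_option maxRecDepth 1000000 in
theorem relc_40_2 : fixPtsF W_40 50000 100000 = true := by decide +kernel

set_option maxRecDepth 1000000 in
theorem relc_46_2 : fixPtsF W_46 50000 100000 = true := by decide +kernel

set_option maxRecDepth 1000000 in
theorem relc_51_2 : fixPtsF W_51 50000 100000 = true := by decide +kernel

set_option maxRecDepth 1000000 in
theorem relc_55_2 : fixPtsF W_55 50000 100000 = true := by decide +kernel

set_option maxRecDepth 1000000 in
theorem relc_61_2 : fixPtsF W_61 50000 100000 = true := by decide +kernel

set_option maxRecDepth 1000000 in
theorem relc_67_2 : fixPtsF W_67 50000 100000 = true := by decide +kernel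

set_option maxRecDepth 1000000 in
theorem relc_74_2 : fixPtsF W_74 50000 100000 = true := by decide +kernel

set_option maxRecDepth 1000000 in
theorem relc_13_8 : fixPtsF W_13 33333 266664 = true := by decide +kernel

set_option maxRecDepth 1000000 in
theorem relc_36_5 : fixPtsF W_36 33333 166665 = true := by decide +kernel

set_option maxRecDepth 1000000 in
theorem relc_65_2 : fixPtsF W_65 33333 66666 = true := by decide +kernel

set_option maxRecDepth 1000000 in
theorem relc_76_8 : fixPtsF W_76 33333 266664 = true := by decide +kernel

set_option maxRecDepth 1000000 in
theorem relc_78_26 : fixPtsF W_78 3125 81250 = true := by decide +kernel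

set_option maxRecDepth 1000000 in
theorem relc_78_50 : fixPtsF W_78 3125 156250 = true := by decide +kernel

set_option maxRecDepth 1000000 in
theorem relc_78_74 : fixPtsF W_78 3125 231250 = true := by decide +kernel

set_option maxRecDepth 1000000 in
theorem relc_80_0 : fixPtsF W_80 2222 0 = true := by decide +kernel

set_option maxRecDepth 1000000 in
theorem relc_80_22 : fixPtsF W_80 2222 48884 = true := by decide +kernel

set_option maxRecDepth 1000000 in
theorem relc_80_46 : fixPtsF W_80 2222 102212 = true := by decide +kernel

set_option maxRecDepth 1000000 in
theorem relc_80_70 : fixPtsF W_80 2222 155540 = true := by decide +kernel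

set_option maxRecDepth 1000000 in
theorem relc_80_94 : fixPtsF W_80 2222 208868 = true := by decide +kernel

set_option maxRecDepth 1000000 in
theorem relc_80_118 : fixPtsF W_80 2222 262196 = true := by decide +kernel

set_option maxRecDepth 1000000 in
theorem relc_79_4 : fixPtsF W_79 840 3360 = true := by decide +kernel

set_option maxRecDepth 1000000 in
theorem relc_79_28 : fixPtsF W_79 840 23520 = true := by decide +kernel

set_option maxRecDepth 1000000 in
theorem relc_79_52 : fixPtsF W_79 840 43680 = true := by decide +kernel

set_option maxRecDepth 1000000 in
theorem relc_79_76 : fixPtsF W_79 840 63840 = true := by decide +kernel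

set_option maxRecDepth 1000000 in
theorem relc_79_100 : fixPtsF W_79 840 84000 = true := by decide +kernel

set_option maxRecDepth 1000000 in
theorem relc_79_124 : fixPtsF W_79 840 104160 = true := by decide +kernel

set_option maxRecDepth 1000000 in
theorem relc_79_148 : fixPtsF W_79 840 124320 = true := by decide +kernel

set_option maxRecDepth 1000000 in
theorem relc_79_172 : fixPtsF W_79 840 144480 = true := by decide +kernel

set_option maxRecDepth 1000000 in
theorem relc_79_196 : fixPtsF W_79 840 164640 = true := by decide +kernel

set_option maxRecDepth 1000000 in
theorem relc_79_220 : fixPtsF W_79 840 184800 = true := by decide +kernel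

set_option maxRecDepth 1000000 in
theorem relc_79_244 : fixPtsF W_79 840 204960 = true := by decide +kernel

set_option maxRecDepth 1000000 in
theorem relc_79_268 : fixPtsF W_79 840 225120 = true := by decide +kernel

set_option maxRecDepth 1000000 in
theorem relc_79_292 : fixPtsF W_79 840 245280 = true := by decide +kernel

set_option maxRecDepth 1000000 in
theorem relc_79_316 : fixPtsF W_79 840 265440 = true := by decide +kernel

set_option maxRecDepth 1000000 in
theorem relc_79_340 : fixPtsF W_79 840 285600 = true := by decide +kernel

set_option maxRecDepth 1000000 in
theorem relc_79_364 : fixPtsF W_79 840 305760 = true := by decide +kernel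

set_option maxRecDepth 1000000 in
theorem inv_6_1 : invRowFI ctF 306936 6 6 50000 50000 = true := by decide +kernel

set_option maxRecDepth 1000000 in
theorem inv_10_1 : invRowFI ctF 306936 10 10 50000 50000 = true := by decide +kernel

set_option maxRecDepth 1000000 in
theorem relc_43_9 : fixPtsF W_43 6939 299997 = true := by decide +kernel

set_option maxRecDepth 1000000 in
theorem relc_14_6 : fixPtsF W_14 6936 300000 = true := by decide +kernel

set_option maxRecDepth 1000000 in
theorem relc_45_6 : fixPtsF W_45 6936 300000 = true := by decide +kernel

set_option maxRecDepth 1000000 in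
theorem relc_12_3 : fixPtsF W_12 6936 300000 = true := by decide +kernel

set_option maxRecDepth 1000000 in
theorem inv_0_6 : invRowFI ctF 306936 0 0 6936 300000 = true := by decide +kernel

end Cfsg.Agent.Helper5.FiZATC
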