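import Cfsg.Agent.Helper5.FiZATCDatD
import Cfsg.Agent.Helper5.FiZATCDatT
import Cfsg.Agent.Helper5.TCIB

/-! kernel checks of the coset table: FiZATC -/

set_option autoImplicit false
set_option Elab.async false

namespace Cfsg.Agent.Helper5.FiZATC
open Cfsg.Agent.Helper5.TC Cfsg.Agent.Helper5.TCI

set_option maxRecDepth 1000000 in
theorem relc_50_1 : fixPtsF W_50 100000 100000 = true := by decide +kernel

set_option maxRecDepth 1000000 in
theorem relc_2_4 : fixPtsF W_2 50000 200000 = true := by decide +kernel

set_option maxRecDepth 1000000 in
theorem relc_4_4 : fixPtsF W_4 50000 200000 = true := by decide +kernel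

set_option maxRecDepth 1000000 in
theorem relc_9_4 : fixPtsF W_9 50000 200000 = true := by decide +kernel

set_option maxRecDepth 1000000 in
theorem relc_15_4 : fixPtsF W_15 50000 200000 = true := by decide +kernel

set_option maxRecDepth 1000000 in
theorem relc_19_4 : fixPtsF W_19 50000 200000 = true := by decide +kernel

set_option maxRecDepth 1000000 in
theorem relc_26_4 : fixPtsF W_26 50000 200000 = true := by decide +kernel

set_option maxRecDepth 1000000 in
theorem relc_30_4 : fixPtsF W_30 50000 200000 = true := by decide +kernel

set_option maxRecDepth 1000000 in
theorem relc_35_4 : fixPtsF W_35 50000 200000 = true := by decide +kernel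

set_option maxRecDepth 1000000 in
theorem relc_40_4 : fixPtsF W_40 50000 200000 = true := by decide +kernel

set_option maxRecDepth 1000000 in
theorem relc_46_4 : fixPtsF W_46 50000 200000 = true := by decide +kernel

set_option maxRecDepth 1000000 in
theorem relc_51_4 : fixPtsF W_51 50000 200000 = true := by decide +kernel

set_option maxRecDepth 1000000 in
theorem relc_55_4 : fixPtsF W_55 50000 200000 = true := by decide +kernel

set_option maxRecDepth 1000000 in
theorem relc_61_4 : fixPtsF W_61 50000 200000 = true := by decide +kernel

set_option maxRecDepth 1000000 in
theorem relc_67_4 : fixPtsF W_67 50000 200000 = true := by decide +kernel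

set_option maxRecDepth 1000000 in
theorem relc_74_4 : fixPtsF W_74 50000 200000 = true := by decide +kernel

set_option maxRecDepth 1000000 in
theorem relc_24_1 : fixPtsF W_24 33333 33333 = true := by decide +kernel

set_option maxRecDepth 1000000 in
theorem relc_36_7 : fixPtsF W_36 33333 233331 = true := by decide +kernel

set_option maxRecDepth 1000000 in
theorem relc_65_4 : fixPtsF W_65 33333 133332 = true := by decide +kernel

set_option maxRecDepth 1000000 in
theorem relc_78_1 : fixPtsF W_78 3125 3125 = true := by decide +kernel

set_option maxRecDepth 1000000 in
theorem relc_78_16 : fixPtsF W_78 3125 50000 = true := by decide +kernel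

set_option maxRecDepth 1000000 in
theorem relc_78_40 : fixPtsF W_78 3125 125000 = true := by decide +kernel

set_option maxRecDepth 1000000 in
theorem relc_78_64 : fixPtsF W_78 3125 200000 = true := by decide +kernel

set_option maxRecDepth 1000000 in
theorem relc_78_88 : fixPtsF W_78 3125 275000 = true := by decide +kernel

set_option maxRecDepth 1000000 in
theorem relc_80_14 : fixPtsF W_80 2222 31108 = true := by decide +kernel

set_option maxRecDepth 1000000 in
theorem relc_80_38 : fixPtsF W_80 2222 84436 = true := by decide +kernel

set_option maxRecDepth 1000000 in
theorem relc_80_62 : fixPtsF W_80 2222 137764 = true := by decide +kernel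

set_option maxRecDepth 1000000 in
theorem relc_80_86 : fixPtsF W_80 2222 191092 = true := by decide +kernel

set_option maxRecDepth 1000000 in
theorem relc_80_110 : fixPtsF W_80 2222 244420 = true := by decide +kernel

set_option maxRecDepth 1000000 in
theorem relc_80_134 : fixPtsF W_80 2222 297748 = true := by decide +kernel

set_option maxRecDepth 1000000 in
theorem relc_79_20 : fixPtsF W_79 840 16800 = true := by decide +kernel

set_option maxRecDepth 1000000 in
theorem relc_79_44 : fixPtsF W_79 840 36960 = true := by decide +kernel

set_option maxRecDepth 1000000 in
theorem relc_79_68 : fixPtsF W_79 840 57120 = true := by decide +kernel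

set_option maxRecDepth 1000000 in
theorem relc_79_92 : fixPtsF W_79 840 77280 = true := by decide +kernel

set_option maxRecDepth 1000000 in
theorem relc_79_116 : fixPtsF W_79 840 97440 = true := by decide +kernel

set_option maxRecDepth 1000000 in
theorem relc_79_140 : fixPtsF W_79 840 117600 = true := by decide +kernel

set_option maxRecDepth 1000000 in
theorem relc_79_164 : fixPtsF W_79 840 137760 = true := by decide +kernel

set_option maxRecDepth 1000000 in
theorem relc_79_188 : fixPtsF W_79 840 157920 = true := by decide +kernel

set_option maxRecDepth 1000000 in
theorem relc_79_212 : fixPtsF W_79 840 178080 = true := by decide +kernel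

set_option maxRecDepth 1000000 in
theorem relc_79_236 : fixPtsF W_79 840 198240 = true := by decide +kernel

set_option maxRecDepth 1000000 in
theorem relc_79_260 : fixPtsF W_79 840 218400 = true := by decide +kernel

set_option maxRecDepth 1000000 in
theorem relc_79_284 : fixPtsF W_79 840 238560 = true := by decide +kernel

set_option maxRecDepth 1000000 in
theorem relc_79_308 : fixPtsF W_79 840 258720 = true := by decide +kernel

set_option maxRecDepth 1000000 in
theorem relc_79_332 : fixPtsF W_79 840 278880 = true := by decide +kernel

set_option maxRecDepth 1000000 in
theorem relc_79_356 : fixPtsF W_79 840 299040 = true := by decide +kernel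

set_option maxRecDepth 1000000 in
theorem inv_2_3 : invRowFI ctF 306936 2 2 50000 150000 = true := by decide +kernel

set_option maxRecDepth 1000000 in
theorem inv_6_3 : invRowFI ctF 306936 6 6 50000 150000 = true := by decide +kernel

set_option maxRecDepth 1000000 in
theorem inv_10_3 : invRowFI ctF 306936 10 10 50000 150000 = true := by decide +kernel

set_option maxRecDepth 1000000 in
theorem relc_16_6 : fixPtsF W_16 6936 300000 = true := by decide +kernel

set_option maxRecDepth 1000000 in
theorem relc_47_6 : fixPtsF W_47 6936 300000 = true := by decide +kernel

set_option maxRecDepth 1000000 in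
theorem relc_33_3 : fixPtsF W_33 6936 300000 = true := by decide +kernel

set_option maxRecDepth 1000000 in
theorem inv_4_6 : invRowFI ctF 306936 4 4 6936 300000 = true := by decide +kernel

end Cfsg.Agent.Helper5.FiZATC
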