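import Cfsg.Agent.Helper5.FiZATCDatD
import Cfsg.Agent.Helper5.FiZATCDatT
import Cfsg.Agent.Helper5.TCIB

/-! kernel checks of the coset table: FiZATC -/

set_option autoImplicit false
set_option Elab.async false

namespace Cfsg.Agent.Helper5.FiZATC
open Cfsg.Agent.Helper5.TC Cfsg.Agent.Helper5.TCI

set_option maxRecDepth 1000000 in
theorem relc_50_2 : fixPtsF W_50 100000 200000 = true := by decide +kernel

set_option maxRecDepth 1000000 in
theorem relc_2_5 : fixPtsF W_2 50000 250000 = true := by decide +kernel

set_option maxRecDepth 1000000 in
theorem relc_4_5 : fixPtsF W_4 50000 250000 = true := by decide +kernel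

set_option maxRecDepth 1000000 in
theorem relc_9_5 : fixPtsF W_9 50000 250000 = true := by decide +kernel

set_option maxRecDepth 1000000 in
theorem relc_15_5 : fixPtsF W_15 50000 250000 = true := by decide +kernel

set_option maxRecDepth 1000000 in
theorem relc_19_5 : fixPtsF W_19 50000 250000 = true := by decide +kernel

set_option maxRecDepth 1000000 in
theorem relc_26_5 : fixPtsF W_26 50000 250000 = true := by decide +kernel

set_option maxRecDepth 1000000 in
theorem relc_30_5 : fixPtsF W_30 50000 250000 = true := by decide +kernel

set_option maxRecDepth 1000000 in
theorem relc_35_5 : fixPtsF W_35 50000 250000 = true := by decide +kernel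

set_option maxRecDepth 1000000 in
theorem relc_40_5 : fixPtsF W_40 50000 250000 = true := by decide +kernel

set_option maxRecDepth 1000000 in
theorem relc_46_5 : fixPtsF W_46 50000 250000 = true := by decide +kernel

set_option maxRecDepth 1000000 in
theorem relc_51_5 : fixPtsF W_51 50000 250000 = true := by decide +kernel

set_option maxRecDepth 1000000 in
theorem relc_55_5 : fixPtsF W_55 50000 250000 = true := by decide +kernel

set_option maxRecDepth 1000000 in
theorem relc_61_5 : fixPtsF W_61 50000 250000 = true := by decide +kernel

set_option maxRecDepth 1000000 in
theorem relc_67_5 : fixPtsF W_67 50000 250000 = true := by decide +kernel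

set_option maxRecDepth 1000000 in
theorem relc_74_5 : fixPtsF W_74 50000 250000 = true := by decide +kernel

set_option maxRecDepth 1000000 in
theorem relc_24_2 : fixPtsF W_24 33333 66666 = true := by decide +kernel

set_option maxRecDepth 1000000 in
theorem relc_36_8 : fixPtsF W_36 33333 266664 = true := by decide +kernel

set_option maxRecDepth 1000000 in
theorem relc_65_5 : fixPtsF W_65 33333 166665 = true := by decide +kernel

set_option maxRecDepth 1000000 in
theorem relc_78_2 : fixPtsF W_78 3125 6250 = true := by decide +kernel

set_option maxRecDepth 1000000 in
theorem relc_78_17 : fixPtsF W_78 3125 53125 = true := by decide +kernel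

set_option maxRecDepth 1000000 in
theorem relc_78_41 : fixPtsF W_78 3125 128125 = true := by decide +kernel

set_option maxRecDepth 1000000 in
theorem relc_78_65 : fixPtsF W_78 3125 203125 = true := by decide +kernel

set_option maxRecDepth 1000000 in
theorem relc_78_89 : fixPtsF W_78 3125 278125 = true := by decide +kernel

set_option maxRecDepth 1000000 in
theorem relc_80_15 : fixPtsF W_80 2222 33330 = true := by decide +kernel

set_option maxRecDepth 1000000 in
theorem relc_80_39 : fixPtsF W_80 2222 86658 = true := by decide +kernel

set_option maxRecDepth 1000000 in
theorem relc_80_63 : fixPtsF W_80 2222 139986 = true := by decide +kernel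

set_option maxRecDepth 1000000 in
theorem relc_80_87 : fixPtsF W_80 2222 193314 = true := by decide +kernel

set_option maxRecDepth 1000000 in
theorem relc_80_111 : fixPtsF W_80 2222 246642 = true := by decide +kernel

set_option maxRecDepth 1000000 in
theorem relc_80_135 : fixPtsF W_80 2222 299970 = true := by decide +kernel

set_option maxRecDepth 1000000 in
theorem relc_79_21 : fixPtsF W_79 840 17640 = true := by decide +kernel

set_option maxRecDepth 1000000 in
theorem relc_79_45 : fixPtsF W_79 840 37800 = true := by decide +kernel

set_option maxRecDepth 1000000 in
theorem relc_79_69 : fixPtsF W_79 840 57960 = true := by decide +kernel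

set_option maxRecDepth 1000000 in
theorem relc_79_93 : fixPtsF W_79 840 78120 = true := by decide +kernel

set_option maxRecDepth 1000000 in
theorem relc_79_117 : fixPtsF W_79 840 98280 = true := by decide +kernel

set_option maxRecDepth 1000000 in
theorem relc_79_141 : fixPtsF W_79 840 118440 = true := by decide +kernel

set_option maxRecDepth 1000000 in
theorem relc_79_165 : fixPtsF W_79 840 138600 = true := by decide +kernel

set_option maxRecDepth 1000000 in
theorem relc_79_189 : fixPtsF W_79 840 158760 = true := by decide +kernel

set_option maxRecDepth 1000000 in
theorem relc_79_213 : fixPtsF W_79 840 178920 = true := by decide +kernel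

set_option maxRecDepth 1000000 in
theorem relc_79_237 : fixPtsF W_79 840 199080 = true := by decide +kernel

set_option maxRecDepth 1000000 in
theorem relc_79_261 : fixPtsF W_79 840 219240 = true := by decide +kernel

set_option maxRecDepth 1000000 in
theorem relc_79_285 : fixPtsF W_79 840 239400 = true := by decide +kernel

set_option maxRecDepth 1000000 in
theorem relc_79_309 : fixPtsF W_79 840 259560 = true := by decide +kernel

set_option maxRecDepth 1000000 in
theorem relc_79_333 : fixPtsF W_79 840 279720 = true := by decide +kernel

set_option maxRecDepth 1000000 in
theorem relc_79_357 : fixPtsF W_79 840 299880 = true := by decide +kernel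

set_option maxRecDepth 1000000 in
theorem inv_2_4 : invRowFI ctF 306936 2 2 50000 200000 = true := by decide +kernel

set_option maxRecDepth 1000000 in
theorem inv_6_4 : invRowFI ctF 306936 6 6 50000 200000 = true := by decide +kernel

set_option maxRecDepth 1000000 in
theorem inv_10_4 : invRowFI ctF 306936 10 10 50000 200000 = true := by decide +kernel

set_option maxRecDepth 1000000 in
theorem relc_17_6 : fixPtsF W_17 6936 300000 = true := by decide +kernel

set_option maxRecDepth 1000000 in
theorem relc_48_6 : fixPtsF W_48 6936 300000 = true := by decide +kernel

set_option maxRecDepth 1000000 in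
theorem relc_42_3 : fixPtsF W_42 6936 300000 = true := by decide +kernel

set_option maxRecDepth 1000000 in
theorem inv_5_6 : invRowFI ctF 306936 5 5 6936 300000 = true := by decide +kernel

end Cfsg.Agent.Helper5.FiZATC
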