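import Cfsg.Agent.Helper5.FiZATCDatD
import Cfsg.Agent.Helper5.FiZATCDatT
import Cfsg.Agent.Helper5.TCIB

/-! kernel checks of the coset table: FiZATC -/

set_option autoImplicit false
set_option Elab.async false

namespace Cfsg.Agent.Helper5.FiZATC
open Cfsg.Agent.Helper5.TC Cfsg.Agent.Helper5.TCI

set_option maxRecDepth 1000000 in
theorem relc_57_0 : fixPtsF W_57 100000 0 = true := by decide +kernel

set_option maxRecDepth 1000000 in
theorem relc_3_0 : fixPtsF W_3 50000 0 = true := by decide +kernel

set_option maxRecDepth 1000000 in
theorem relc_5_0 : fixPtsF W_5 50000 0 = true := by decide +kernel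

set_option maxRecDepth 1000000 in
theorem relc_10_0 : fixPtsF W_10 50000 0 = true := by decide +kernel

set_option maxRecDepth 1000000 in
theorem relc_16_0 : fixPtsF W_16 50000 0 = true := by decide +kernel

set_option maxRecDepth 1000000 in
theorem relc_20_0 : fixPtsF W_20 50000 0 = true := by decide +kernel

set_option maxRecDepth 1000000 in
theorem relc_27_0 : fixPtsF W_27 50000 0 = true := by decide +kernel

set_option maxRecDepth 1000000 in
theorem relc_31_0 : fixPtsF W_31 50000 0 = true := by decide +kernel

set_option maxRecDepth 1000000 in
theorem relc_37_0 : fixPtsF W_37 50000 0 = true := by decide +kernel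

set_option maxRecDepth 1000000 in
theorem relc_41_0 : fixPtsF W_41 50000 0 = true := by decide +kernel

set_option maxRecDepth 1000000 in
theorem relc_47_0 : fixPtsF W_47 50000 0 = true := by decide +kernel

set_option maxRecDepth 1000000 in
theorem relc_52_0 : fixPtsF W_52 50000 0 = true := by decide +kernel

set_option maxRecDepth 1000000 in
theorem relc_56_0 : fixPtsF W_56 50000 0 = true := by decide +kernel

set_option maxRecDepth 1000000 in
theorem relc_62_0 : fixPtsF W_62 50000 0 = true := by decide +kernel

set_option maxRecDepth 1000000 in
theorem relc_69_0 : fixPtsF W_69 50000 0 = true := by decide +kernel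

set_option maxRecDepth 1000000 in
theorem relc_1_0 : fixPtsF W_1 33333 0 = true := by decide +kernel

set_option maxRecDepth 1000000 in
theorem relc_13_0 : fixPtsF W_13 33333 0 = true := by decide +kernel

set_option maxRecDepth 1000000 in
theorem relc_25_6 : fixPtsF W_25 33333 199998 = true := by decide +kernel

set_option maxRecDepth 1000000 in
theorem relc_58_3 : fixPtsF W_58 33333 99999 = true := by decide +kernel

set_option maxRecDepth 1000000 in
theorem relc_76_0 : fixPtsF W_76 33333 0 = true := by decide +kernel

set_option maxRecDepth 1000000 in
theorem relc_78_18 : fixPtsF W_78 3125 56250 = true := by decide +kernel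

set_option maxRecDepth 1000000 in
theorem relc_78_42 : fixPtsF W_78 3125 131250 = true := by decide +kernel

set_option maxRecDepth 1000000 in
theorem relc_78_66 : fixPtsF W_78 3125 206250 = true := by decide +kernel

set_option maxRecDepth 1000000 in
theorem relc_78_90 : fixPtsF W_78 3125 281250 = true := by decide +kernel

set_option maxRecDepth 1000000 in
theorem relc_80_16 : fixPtsF W_80 2222 35552 = true := by decide +kernel

set_option maxRecDepth 1000000 in
theorem relc_80_40 : fixPtsF W_80 2222 88880 = true := by decide +kernel

set_option maxRecDepth 1000000 in
theorem relc_80_64 : fixPtsF W_80 2222 142208 = true := by decide +kernel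

set_option maxRecDepth 1000000 in
theorem relc_80_88 : fixPtsF W_80 2222 195536 = true := by decide +kernel

set_option maxRecDepth 1000000 in
theorem relc_80_112 : fixPtsF W_80 2222 248864 = true := by decide +kernel

set_option maxRecDepth 1000000 in
theorem relc_80_136 : fixPtsF W_80 2222 302192 = true := by decide +kernel

set_option maxRecDepth 1000000 in
theorem relc_79_26 : fixPtsF W_79 840 21840 = true := by decide +kernel

set_option maxRecDepth 1000000 in
theorem relc_79_50 : fixPtsF W_79 840 42000 = true := by decide +kernel

set_option maxRecDepth 1000000 in
theorem relc_79_74 : fixPtsF W_79 840 62160 = true := by decide +kernel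

set_option maxRecDepth 1000000 in
theorem relc_79_98 : fixPtsF W_79 840 82320 = true := by decide +kernel

set_option maxRecDepth 1000000 in
theorem relc_79_122 : fixPtsF W_79 840 102480 = true := by decide +kernel

set_option maxRecDepth 1000000 in
theorem relc_79_146 : fixPtsF W_79 840 122640 = true := by decide +kernel

set_option maxRecDepth 1000000 in
theorem relc_79_170 : fixPtsF W_79 840 142800 = true := by decide +kernel

set_option maxRecDepth 1000000 in
theorem relc_79_194 : fixPtsF W_79 840 162960 = true := by decide +kernel

set_option maxRecDepth 1000000 in
theorem relc_79_218 : fixPtsF W_79 840 183120 = true := by decide +kernel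

set_option maxRecDepth 1000000 in
theorem relc_79_242 : fixPtsF W_79 840 203280 = true := by decide +kernel

set_option maxRecDepth 1000000 in
theorem relc_79_266 : fixPtsF W_79 840 223440 = true := by decide +kernel

set_option maxRecDepth 1000000 in
theorem relc_79_290 : fixPtsF W_79 840 243600 = true := by decide +kernel

set_option maxRecDepth 1000000 in
theorem relc_79_314 : fixPtsF W_79 840 263760 = true := by decide +kernel

set_option maxRecDepth 1000000 in
theorem relc_79_338 : fixPtsF W_79 840 283920 = true := by decide +kernel

set_option maxRecDepth 1000000 in
theorem relc_79_362 : fixPtsF W_79 840 304080 = true := by decide +kernel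

set_option maxRecDepth 1000000 in
theorem inv_3_5 : invRowFI ctF 306936 3 3 50000 250000 = true := by decide +kernel

set_option maxRecDepth 1000000 in
theorem inv_7_5 : invRowFI ctF 306936 7 7 50000 250000 = true := by decide +kernel

set_option maxRecDepth 1000000 in
theorem inv_11_5 : invRowFI ctF 306936 11 11 50000 250000 = true := by decide +kernel

set_option maxRecDepth 1000000 in
theorem relc_44_6 : fixPtsF W_44 6936 300000 = true := by decide +kernel

set_option maxRecDepth 1000000 in
theorem relc_0_3 : fixPtsF W_0 6936 300000 = true := by decide +kernel

set_option maxRecDepth 1000000 in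
theorem relc_80_138 : fixPtsF W_80 300 306636 = true := by decide +kernel

end Cfsg.Agent.Helper5.FiZATC
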