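import Cfsg.Agent.Helper5.FiZATCDatD
import Cfsg.Agent.Helper5.FiZATCDatT
import Cfsg.Agent.Helper5.TCIB

/-! kernel checks of the coset table: FiZATC -/

set_option autoImplicit false
set_option Elab.async false

namespace Cfsg.Agent.Helper5.FiZATC
open Cfsg.Agent.Helper5.TC Cfsg.Agent.Helper5.TCI

set_option maxRecDepth 1000000 in
theorem relc_57_1 : fixPtsF W_57 100000 100000 = true := by decide +kernel

set_option maxRecDepth 1000000 in
theorem relc_3_1 : fixPtsF W_3 50000 50000 = true := by decide +kernel

set_option maxRecDepth 1000000 in
theorem relc_5_1 : fixPtsF W_5 50000 50000 = true := by decide +kernel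

set_option maxRecDepth 1000000 in
theorem relc_10_1 : fixPtsF W_10 50000 50000 = true := by decide +kernel

set_option maxRecDepth 1000000 in
theorem relc_16_1 : fixPtsF W_16 50000 50000 = true := by decide +kernel

set_option maxRecDepth 1000000 in
theorem relc_20_1 : fixPtsF W_20 50000 50000 = true := by decide +kernel

set_option maxRecDepth 1000000 in
theorem relc_27_1 : fixPtsF W_27 50000 50000 = true := by decide +kernel

set_option maxRecDepth 1000000 in
theorem relc_31_1 : fixPtsF W_31 50000 50000 = true := by decide +kernel

set_option maxRecDepth 1000000 in
theorem relc_37_1 : fixPtsF W_37 50000 50000 = true := by decide +kernel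

set_option maxRecDepth 1000000 in
theorem relc_41_1 : fixPtsF W_41 50000 50000 = true := by decide +kernel

set_option maxRecDepth 1000000 in
theorem relc_47_1 : fixPtsF W_47 50000 50000 = true := by decide +kernel

set_option maxRecDepth 1000000 in
theorem relc_52_1 : fixPtsF W_52 50000 50000 = true := by decide +kernel

set_option maxRecDepth 1000000 in
theorem relc_56_1 : fixPtsF W_56 50000 50000 = true := by decide +kernel

set_option maxRecDepth 1000000 in
theorem relc_62_1 : fixPtsF W_62 50000 50000 = true := by decide +kernel

set_option maxRecDepth 1000000 in
theorem relc_69_1 : fixPtsF W_69 50000 50000 = true := by decide +kernel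

set_option maxRecDepth 1000000 in
theorem relc_1_1 : fixPtsF W_1 33333 33333 = true := by decide +kernel

set_option maxRecDepth 1000000 in
theorem relc_13_1 : fixPtsF W_13 33333 33333 = true := by decide +kernel

set_option maxRecDepth 1000000 in
theorem relc_25_7 : fixPtsF W_25 33333 233331 = true := by decide +kernel

set_option maxRecDepth 1000000 in
theorem relc_58_4 : fixPtsF W_58 33333 133332 = true := by decide +kernel

set_option maxRecDepth 1000000 in
theorem relc_76_1 : fixPtsF W_76 33333 33333 = true := by decide +kernel

set_option maxRecDepth 1000000 in
theorem relc_78_19 : fixPtsF W_78 3125 59375 = true := by decide +kernel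

set_option maxRecDepth 1000000 in
theorem relc_78_43 : fixPtsF W_78 3125 134375 = true := by decide +kernel

set_option maxRecDepth 1000000 in
theorem relc_78_67 : fixPtsF W_78 3125 209375 = true := by decide +kernel

set_option maxRecDepth 1000000 in
theorem relc_78_91 : fixPtsF W_78 3125 284375 = true := by decide +kernel

set_option maxRecDepth 1000000 in
theorem relc_80_17 : fixPtsF W_80 2222 37774 = true := by decide +kernel

set_option maxRecDepth 1000000 in
theorem relc_80_41 : fixPtsF W_80 2222 91102 = true := by decide +kernel

set_option maxRecDepth 1000000 in
theorem relc_80_65 : fixPtsF W_80 2222 144430 = true := by decide +kernel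

set_option maxRecDepth 1000000 in
theorem relc_80_89 : fixPtsF W_80 2222 197758 = true := by decide +kernel

set_option maxRecDepth 1000000 in
theorem relc_80_113 : fixPtsF W_80 2222 251086 = true := by decide +kernel

set_option maxRecDepth 1000000 in
theorem relc_80_137 : fixPtsF W_80 2222 304414 = true := by decide +kernel

set_option maxRecDepth 1000000 in
theorem relc_79_27 : fixPtsF W_79 840 22680 = true := by decide +kernel

set_option maxRecDepth 1000000 in
theorem relc_79_51 : fixPtsF W_79 840 42840 = true := by decide +kernel

set_option maxRecDepth 1000000 in
theorem relc_79_75 : fixPtsF W_79 840 63000 = true := by decide +kernel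

set_option maxRecDepth 1000000 in
theorem relc_79_99 : fixPtsF W_79 840 83160 = true := by decide +kernel

set_option maxRecDepth 1000000 in
theorem relc_79_123 : fixPtsF W_79 840 103320 = true := by decide +kernel

set_option maxRecDepth 1000000 in
theorem relc_79_147 : fixPtsF W_79 840 123480 = true := by decide +kernel

set_option maxRecDepth 1000000 in
theorem relc_79_171 : fixPtsF W_79 840 143640 = true := by decide +kernel

set_option maxRecDepth 1000000 in
theorem relc_79_195 : fixPtsF W_79 840 163800 = true := by decide +kernel

set_option maxRecDepth 1000000 in
theorem relc_79_219 : fixPtsF W_79 840 183960 = true := by decide +kernel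

set_option maxRecDepth 1000000 in
theorem relc_79_243 : fixPtsF W_79 840 204120 = true := by decide +kernel

set_option maxRecDepth 1000000 in
theorem relc_79_267 : fixPtsF W_79 840 224280 = true := by decide +kernel

set_option maxRecDepth 1000000 in
theorem relc_79_291 : fixPtsF W_79 840 244440 = true := by decide +kernel

set_option maxRecDepth 1000000 in
theorem relc_79_315 : fixPtsF W_79 840 264600 = true := by decide +kernel

set_option maxRecDepth 1000000 in
theorem relc_79_339 : fixPtsF W_79 840 284760 = true := by decide +kernel

set_option maxRecDepth 1000000 in
theorem relc_79_363 : fixPtsF W_79 840 304920 = true := by decide +kernel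

set_option maxRecDepth 1000000 in
theorem inv_4_0 : invRowFI ctF 306936 4 4 50000 0 = true := by decide +kernel

set_option maxRecDepth 1000000 in
theorem inv_8_0 : invRowFI ctF 306936 8 8 50000 0 = true := by decide +kernel

set_option maxRecDepth 1000000 in
theorem conn_0 : connF ctF 12 50000 0 = true := by decide +kernel

set_option maxRecDepth 1000000 in
theorem relc_5_6 : fixPtsF W_5 6936 300000 = true := by decide +kernel

set_option maxRecDepth 1000000 in
theorem relc_35_6 : fixPtsF W_35 6936 300000 = true := by decide +kernel

set_option maxRecDepth 1000000 in
theorem relc_67_6 : fixPtsF W_67 6936 300000 = true := by decide +kernel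

end Cfsg.Agent.Helper5.FiZATC
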