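import Cfsg.Agent.Helper5.FiZATCDatD
import Cfsg.Agent.Helper5.FiZATCDatT
import Cfsg.Agent.Helper5.TCIB

/-! kernel checks of the coset table: FiZATC -/

set_option autoImplicit false
set_option Elab.async false

namespace Cfsg.Agent.Helper5.FiZATC
open Cfsg.Agent.Helper5.TC Cfsg.Agent.Helper5.TCI

set_option maxRecDepth 1000000 in
theorem relc_0_2 : fixPtsF W_0 100000 200000 = true := by decide +kernel

set_option maxRecDepth 1000000 in
theorem relc_68_2 : fixPtsF W_68 100000 200000 = true := by decide +kernel

set_option maxRecDepth 1000000 in
theorem relc_6_2 : fixPtsF W_6 50000 100000 = true := by decide +kernel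

set_option maxRecDepth 1000000 in
theorem relc_11_2 : fixPtsF W_11 50000 100000 = true := by decide +kernel

set_option maxRecDepth 1000000 in
theorem relc_17_2 : fixPtsF W_17 50000 100000 = true := by decide +kernel

set_option maxRecDepth 1000000 in
theorem relc_21_2 : fixPtsF W_21 50000 100000 = true := by decide +kernel

set_option maxRecDepth 1000000 in
theorem relc_28_2 : fixPtsF W_28 50000 100000 = true := by decide +kernel

set_option maxRecDepth 1000000 in
theorem relc_32_2 : fixPtsF W_32 50000 100000 = true := by decide +kernel

set_option maxRecDepth 1000000 in
theorem relc_38_2 : fixPtsF W_38 50000 100000 = true := by decide +kernel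

set_option maxRecDepth 1000000 in
theorem relc_44_2 : fixPtsF W_44 50000 100000 = true := by decide +kernel

set_option maxRecDepth 1000000 in
theorem relc_48_2 : fixPtsF W_48 50000 100000 = true := by decide +kernel

set_option maxRecDepth 1000000 in
theorem relc_53_2 : fixPtsF W_53 50000 100000 = true := by decide +kernel

set_option maxRecDepth 1000000 in
theorem relc_59_2 : fixPtsF W_59 50000 100000 = true := by decide +kernel

set_option maxRecDepth 1000000 in
theorem relc_64_2 : fixPtsF W_64 50000 100000 = true := by decide +kernel

set_option maxRecDepth 1000000 in
theorem relc_70_2 : fixPtsF W_70 50000 100000 = true := by decide +kernel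

set_option maxRecDepth 1000000 in
theorem relc_1_8 : fixPtsF W_1 33333 266664 = true := by decide +kernel

set_option maxRecDepth 1000000 in
theorem relc_24_5 : fixPtsF W_24 33333 166665 = true := by decide +kernel

set_option maxRecDepth 1000000 in
theorem relc_43_2 : fixPtsF W_43 33333 66666 = true := by decide +kernel

set_option maxRecDepth 1000000 in
theorem relc_65_8 : fixPtsF W_65 33333 266664 = true := by decide +kernel

set_option maxRecDepth 1000000 in
theorem relc_78_5 : fixPtsF W_78 3125 15625 = true := by decide +kernel

set_option maxRecDepth 1000000 in
theorem relc_78_29 : fixPtsF W_78 3125 90625 = true := by decide +kernel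

set_option maxRecDepth 1000000 in
theorem relc_78_53 : fixPtsF W_78 3125 165625 = true := by decide +kernel

set_option maxRecDepth 1000000 in
theorem relc_78_77 : fixPtsF W_78 3125 240625 = true := by decide +kernel

set_option maxRecDepth 1000000 in
theorem relc_80_3 : fixPtsF W_80 2222 6666 = true := by decide +kernel

set_option maxRecDepth 1000000 in
theorem relc_80_27 : fixPtsF W_80 2222 59994 = true := by decide +kernel

set_option maxRecDepth 1000000 in
theorem relc_80_51 : fixPtsF W_80 2222 113322 = true := by decide +kernel

set_option maxRecDepth 1000000 in
theorem relc_80_75 : fixPtsF W_80 2222 166650 = true := by decide +kernel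

set_option maxRecDepth 1000000 in
theorem relc_80_99 : fixPtsF W_80 2222 219978 = true := by decide +kernel

set_option maxRecDepth 1000000 in
theorem relc_80_123 : fixPtsF W_80 2222 273306 = true := by decide +kernel

set_option maxRecDepth 1000000 in
theorem relc_79_9 : fixPtsF W_79 840 7560 = true := by decide +kernel

set_option maxRecDepth 1000000 in
theorem relc_79_33 : fixPtsF W_79 840 27720 = true := by decide +kernel

set_option maxRecDepth 1000000 in
theorem relc_79_57 : fixPtsF W_79 840 47880 = true := by decide +kernel

set_option maxRecDepth 1000000 in
theorem relc_79_81 : fixPtsF W_79 840 68040 = true := by decide +kernel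

set_option maxRecDepth 1000000 in
theorem relc_79_105 : fixPtsF W_79 840 88200 = true := by decide +kernel

set_option maxRecDepth 1000000 in
theorem relc_79_129 : fixPtsF W_79 840 108360 = true := by decide +kernel

set_option maxRecDepth 1000000 in
theorem relc_79_153 : fixPtsF W_79 840 128520 = true := by decide +kernel

set_option maxRecDepth 1000000 in
theorem relc_79_177 : fixPtsF W_79 840 148680 = true := by decide +kernel

set_option maxRecDepth 1000000 in
theorem relc_79_201 : fixPtsF W_79 840 168840 = true := by decide +kernel

set_option maxRecDepth 1000000 in
theorem relc_79_225 : fixPtsF W_79 840 189000 = true := by decide +kernel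

set_option maxRecDepth 1000000 in
theorem relc_79_249 : fixPtsF W_79 840 209160 = true := by decide +kernel

set_option maxRecDepth 1000000 in
theorem relc_79_273 : fixPtsF W_79 840 229320 = true := by decide +kernel

set_option maxRecDepth 1000000 in
theorem relc_79_297 : fixPtsF W_79 840 249480 = true := by decide +kernel

set_option maxRecDepth 1000000 in
theorem relc_79_321 : fixPtsF W_79 840 269640 = true := by decide +kernel

set_option maxRecDepth 1000000 in
theorem relc_79_345 : fixPtsF W_79 840 289800 = true := by decide +kernel

set_option maxRecDepth 1000000 in
theorem inv_0_4 : invRowFI ctF 306936 0 0 50000 200000 = true := by decide +kernel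

set_option maxRecDepth 1000000 in
theorem inv_4_3 : invRowFI ctF 306936 4 4 50000 150000 = true := by decide +kernel

set_option maxRecDepth 1000000 in
theorem inv_8_3 : invRowFI ctF 306936 8 8 50000 150000 = true := by decide +kernel

set_option maxRecDepth 1000000 in
theorem conn_3 : connF ctF 12 50000 150000 = true := by decide +kernel

set_option maxRecDepth 1000000 in
theorem relc_9_6 : fixPtsF W_9 6936 300000 = true := by decide +kernel

set_option maxRecDepth 1000000 in
theorem relc_39_6 : fixPtsF W_39 6936 300000 = true := by decide +kernel

set_option maxRecDepth 1000000 in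
theorem relc_73_6 : fixPtsF W_73 6936 300000 = true := by decide +kernel

end Cfsg.Agent.Helper5.FiZATC
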