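import Cfsg.Agent.Helper5.FiZATCDatD
import Cfsg.Agent.Helper5.FiZATCDatT
import Cfsg.Agent.Helper5.TCIB

/-! kernel checks of the coset table: FiZATC -/

set_option autoImplicit false
set_option Elab.async false

namespace Cfsg.Agent.Helper5.FiZATC
open Cfsg.Agent.Helper5.TC Cfsg.Agent.Helper5.TCI

set_option maxRecDepth 1000000 in
theorem relc_57_2 : fixPtsF W_57 100000 200000 = true := by decide +kernel

set_option maxRecDepth 1000000 in
theorem relc_3_2 : fixPtsF W_3 50000 100000 = true := by decide +kernel

set_option maxRecDepth 1000000 in
theorem relc_5_2 : fixPtsF W_5 50000 100000 = true := by decide +kernel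

set_option maxRecDepth 1000000 in
theorem relc_10_2 : fixPtsF W_10 50000 100000 = true := by decide +kernel

set_option maxRecDepth 1000000 in
theorem relc_16_2 : fixPtsF W_16 50000 100000 = true := by decide +kernel

set_option maxRecDepth 1000000 in
theorem relc_20_2 : fixPtsF W_20 50000 100000 = true := by decide +kernel

set_option maxRecDepth 1000000 in
theorem relc_27_2 : fixPtsF W_27 50000 100000 = true := by decide +kernel

set_option maxRecDepth 1000000 in
theorem relc_31_2 : fixPtsF W_31 50000 100000 = true := by decide +kernel

set_option maxRecDepth 1000000 in
theorem relc_37_2 : fixPtsF W_37 50000 100000 = true := by decide +kernel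

set_option maxRecDepth 1000000 in
theorem relc_41_2 : fixPtsF W_41 50000 100000 = true := by decide +kernel

set_option maxRecDepth 1000000 in
theorem relc_47_2 : fixPtsF W_47 50000 100000 = true := by decide +kernel

set_option maxRecDepth 1000000 in
theorem relc_52_2 : fixPtsF W_52 50000 100000 = true := by decide +kernel

set_option maxRecDepth 1000000 in
theorem relc_56_2 : fixPtsF W_56 50000 100000 = true := by decide +kernel

set_option maxRecDepth 1000000 in
theorem relc_62_2 : fixPtsF W_62 50000 100000 = true := by decide +kernel

set_option maxRecDepth 1000000 in
theorem relc_69_2 : fixPtsF W_69 50000 100000 = true := by decide +kernel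

set_option maxRecDepth 1000000 in
theorem relc_1_2 : fixPtsF W_1 33333 66666 = true := by decide +kernel

set_option maxRecDepth 1000000 in
theorem relc_13_2 : fixPtsF W_13 33333 66666 = true := by decide +kernel

set_option maxRecDepth 1000000 in
theorem relc_25_8 : fixPtsF W_25 33333 266664 = true := by decide +kernel

set_option maxRecDepth 1000000 in
theorem relc_58_5 : fixPtsF W_58 33333 166665 = true := by decide +kernel

set_option maxRecDepth 1000000 in
theorem relc_76_2 : fixPtsF W_76 33333 66666 = true := by decide +kernel

set_option maxRecDepth 1000000 in
theorem relc_78_20 : fixPtsF W_78 3125 62500 = true := by decide +kernel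

set_option maxRecDepth 1000000 in
theorem relc_78_44 : fixPtsF W_78 3125 137500 = true := by decide +kernel

set_option maxRecDepth 1000000 in
theorem relc_78_68 : fixPtsF W_78 3125 212500 = true := by decide +kernel

set_option maxRecDepth 1000000 in
theorem relc_78_92 : fixPtsF W_78 3125 287500 = true := by decide +kernel

set_option maxRecDepth 1000000 in
theorem relc_80_18 : fixPtsF W_80 2222 39996 = true := by decide +kernel

set_option maxRecDepth 1000000 in
theorem relc_80_42 : fixPtsF W_80 2222 93324 = true := by decide +kernel

set_option maxRecDepth 1000000 in
theorem relc_80_66 : fixPtsF W_80 2222 146652 = true := by decide +kernel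

set_option maxRecDepth 1000000 in
theorem relc_80_90 : fixPtsF W_80 2222 199980 = true := by decide +kernel

set_option maxRecDepth 1000000 in
theorem relc_80_114 : fixPtsF W_80 2222 253308 = true := by decide +kernel

set_option maxRecDepth 1000000 in
theorem relc_79_0 : fixPtsF W_79 840 0 = true := by decide +kernel

set_option maxRecDepth 1000000 in
theorem relc_79_22 : fixPtsF W_79 840 18480 = true := by decide +kernel

set_option maxRecDepth 1000000 in
theorem relc_79_46 : fixPtsF W_79 840 38640 = true := by decide +kernel

set_option maxRecDepth 1000000 in
theorem relc_79_70 : fixPtsF W_79 840 58800 = true := by decide +kernel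

set_option maxRecDepth 1000000 in
theorem relc_79_94 : fixPtsF W_79 840 78960 = true := by decide +kernel

set_option maxRecDepth 1000000 in
theorem relc_79_118 : fixPtsF W_79 840 99120 = true := by decide +kernel

set_option maxRecDepth 1000000 in
theorem relc_79_142 : fixPtsF W_79 840 119280 = true := by decide +kernel

set_option maxRecDepth 1000000 in
theorem relc_79_166 : fixPtsF W_79 840 139440 = true := by decide +kernel

set_option maxRecDepth 1000000 in
theorem relc_79_190 : fixPtsF W_79 840 159600 = true := by decide +kernel

set_option maxRecDepth 1000000 in
theorem relc_79_214 : fixPtsF W_79 840 179760 = true := by decide +kernel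

set_option maxRecDepth 1000000 in
theorem relc_79_238 : fixPtsF W_79 840 199920 = true := by decide +kernel

set_option maxRecDepth 1000000 in
theorem relc_79_262 : fixPtsF W_79 840 220080 = true := by decide +kernel

set_option maxRecDepth 1000000 in
theorem relc_79_286 : fixPtsF W_79 840 240240 = true := by decide +kernel

set_option maxRecDepth 1000000 in
theorem relc_79_310 : fixPtsF W_79 840 260400 = true := by decide +kernel

set_option maxRecDepth 1000000 in
theorem relc_79_334 : fixPtsF W_79 840 280560 = true := by decide +kernel

set_option maxRecDepth 1000000 in
theorem relc_79_358 : fixPtsF W_79 840 300720 = true := by decide +kernel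

set_option maxRecDepth 1000000 in
theorem inv_3_1 : invRowFI ctF 306936 3 3 50000 50000 = true := by decide +kernel

set_option maxRecDepth 1000000 in
theorem inv_7_1 : invRowFI ctF 306936 7 7 50000 50000 = true := by decide +kernel

set_option maxRecDepth 1000000 in
theorem inv_11_1 : invRowFI ctF 306936 11 11 50000 50000 = true := by decide +kernel

set_option maxRecDepth 1000000 in
theorem relc_30_6 : fixPtsF W_30 6936 300000 = true := by decide +kernel

set_option maxRecDepth 1000000 in
theorem relc_61_6 : fixPtsF W_61 6936 300000 = true := by decide +kernel

set_option maxRecDepth 1000000 in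
theorem inv_8_6 : invRowFI ctF 306936 8 8 6936 300000 = true := by decide +kernel

end Cfsg.Agent.Helper5.FiZATC
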