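import Cfsg.Agent.Helper5.FiZATCDatD
import Cfsg.Agent.Helper5.FiZATCDatT
import Cfsg.Agent.Helper5.TCIB

/-! kernel checks of the coset table: FiZATC -/

set_option autoImplicit false
set_option Elab.async false

namespace Cfsg.Agent.Helper5.FiZATC
open Cfsg.Agent.Helper5.TC Cfsg.Agent.Helper5.TCI

set_option maxRecDepth 1000000 in
theorem relc_63_0 : fixPtsF W_63 100000 0 = true := by decide +kernel

set_option maxRecDepth 1000000 in
theorem relc_3_3 : fixPtsF W_3 50000 150000 = true := by decide +kernel

set_option maxRecDepth 1000000 in
theorem relc_5_3 : fixPtsF W_5 50000 150000 = true := by decide +kernel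

set_option maxRecDepth 1000000 in
theorem relc_10_3 : fixPtsF W_10 50000 150000 = true := by decide +kernel

set_option maxRecDepth 1000000 in
theorem relc_16_3 : fixPtsF W_16 50000 150000 = true := by decide +kernel

set_option maxRecDepth 1000000 in
theorem relc_20_3 : fixPtsF W_20 50000 150000 = true := by decide +kernel

set_option maxRecDepth 1000000 in
theorem relc_27_3 : fixPtsF W_27 50000 150000 = true := by decide +kernel

set_option maxRecDepth 1000000 in
theorem relc_31_3 : fixPtsF W_31 50000 150000 = true := by decide +kernel

set_option maxRecDepth 1000000 in
theorem relc_37_3 : fixPtsF W_37 50000 150000 = true := by decide +kernel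

set_option maxRecDepth 1000000 in
theorem relc_41_3 : fixPtsF W_41 50000 150000 = true := by decide +kernel

set_option maxRecDepth 1000000 in
theorem relc_47_3 : fixPtsF W_47 50000 150000 = true := by decide +kernel

set_option maxRecDepth 1000000 in
theorem relc_52_3 : fixPtsF W_52 50000 150000 = true := by decide +kernel

set_option maxRecDepth 1000000 in
theorem relc_56_3 : fixPtsF W_56 50000 150000 = true := by decide +kernel

set_option maxRecDepth 1000000 in
theorem relc_62_3 : fixPtsF W_62 50000 150000 = true := by decide +kernel

set_option maxRecDepth 1000000 in
theorem relc_69_3 : fixPtsF W_69 50000 150000 = true := by decide +kernel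

set_option maxRecDepth 1000000 in
theorem relc_1_3 : fixPtsF W_1 33333 99999 = true := by decide +kernel

set_option maxRecDepth 1000000 in
theorem relc_13_3 : fixPtsF W_13 33333 99999 = true := by decide +kernel

set_option maxRecDepth 1000000 in
theorem relc_36_0 : fixPtsF W_36 33333 0 = true := by decide +kernel

set_option maxRecDepth 1000000 in
theorem relc_58_6 : fixPtsF W_58 33333 199998 = true := by decide +kernel

set_option maxRecDepth 1000000 in
theorem relc_76_3 : fixPtsF W_76 33333 99999 = true := by decide +kernel

set_option maxRecDepth 1000000 in
theorem relc_78_21 : fixPtsF W_78 3125 65625 = true := by decide +kernel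

set_option maxRecDepth 1000000 in
theorem relc_78_45 : fixPtsF W_78 3125 140625 = true := by decide +kernel

set_option maxRecDepth 1000000 in
theorem relc_78_69 : fixPtsF W_78 3125 215625 = true := by decide +kernel

set_option maxRecDepth 1000000 in
theorem relc_78_93 : fixPtsF W_78 3125 290625 = true := by decide +kernel

set_option maxRecDepth 1000000 in
theorem relc_80_19 : fixPtsF W_80 2222 42218 = true := by decide +kernel

set_option maxRecDepth 1000000 in
theorem relc_80_43 : fixPtsF W_80 2222 95546 = true := by decide +kernel

set_option maxRecDepth 1000000 in
theorem relc_80_67 : fixPtsF W_80 2222 148874 = true := by decide +kernel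

set_option maxRecDepth 1000000 in
theorem relc_80_91 : fixPtsF W_80 2222 202202 = true := by decide +kernel

set_option maxRecDepth 1000000 in
theorem relc_80_115 : fixPtsF W_80 2222 255530 = true := by decide +kernel

set_option maxRecDepth 1000000 in
theorem relc_79_1 : fixPtsF W_79 840 840 = true := by decide +kernel

set_option maxRecDepth 1000000 in
theorem relc_79_23 : fixPtsF W_79 840 19320 = true := by decide +kernel

set_option maxRecDepth 1000000 in
theorem relc_79_47 : fixPtsF W_79 840 39480 = true := by decide +kernel

set_option maxRecDepth 1000000 in
theorem relc_79_71 : fixPtsF W_79 840 59640 = true := by decide +kernel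

set_option maxRecDepth 1000000 in
theorem relc_79_95 : fixPtsF W_79 840 79800 = true := by decide +kernel

set_option maxRecDepth 1000000 in
theorem relc_79_119 : fixPtsF W_79 840 99960 = true := by decide +kernel

set_option maxRecDepth 1000000 in
theorem relc_79_143 : fixPtsF W_79 840 120120 = true := by decide +kernel

set_option maxRecDepth 1000000 in
theorem relc_79_167 : fixPtsF W_79 840 140280 = true := by decide +kernel

set_option maxRecDepth 1000000 in
theorem relc_79_191 : fixPtsF W_79 840 160440 = true := by decide +kernel

set_option maxRecDepth 1000000 in
theorem relc_79_215 : fixPtsF W_79 840 180600 = true := by decide +kernel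

set_option maxRecDepth 1000000 in
theorem relc_79_239 : fixPtsF W_79 840 200760 = true := by decide +kernel

set_option maxRecDepth 1000000 in
theorem relc_79_263 : fixPtsF W_79 840 220920 = true := by decide +kernel

set_option maxRecDepth 1000000 in
theorem relc_79_287 : fixPtsF W_79 840 241080 = true := by decide +kernel

set_option maxRecDepth 1000000 in
theorem relc_79_311 : fixPtsF W_79 840 261240 = true := by decide +kernel

set_option maxRecDepth 1000000 in
theorem relc_79_335 : fixPtsF W_79 840 281400 = true := by decide +kernel

set_option maxRecDepth 1000000 in
theorem relc_79_359 : fixPtsF W_79 840 301560 = true := by decide +kernel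

set_option maxRecDepth 1000000 in
theorem inv_3_2 : invRowFI ctF 306936 3 3 50000 100000 = true := by decide +kernel

set_option maxRecDepth 1000000 in
theorem inv_7_2 : invRowFI ctF 306936 7 7 50000 100000 = true := by decide +kernel

set_option maxRecDepth 1000000 in
theorem inv_11_2 : invRowFI ctF 306936 11 11 50000 100000 = true := by decide +kernel

set_option maxRecDepth 1000000 in
theorem relc_31_6 : fixPtsF W_31 6936 300000 = true := by decide +kernel

set_option maxRecDepth 1000000 in
theorem relc_62_6 : fixPtsF W_62 6936 300000 = true := by decide +kernel

set_option maxRecDepth 1000000 in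
theorem inv_9_6 : invRowFI ctF 306936 9 9 6936 300000 = true := by decide +kernel

end Cfsg.Agent.Helper5.FiZATC
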