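import Cfsg.Agent.Helper5.FiZATCDatD
import Cfsg.Agent.Helper5.FiZATCDatT
import Cfsg.Agent.Helper5.TCIB

/-! kernel checks of the coset table: FiZATC -/

set_option autoImplicit false
set_option Elab.async false

namespace Cfsg.Agent.Helper5.FiZATC
open Cfsg.Agent.Helper5.TC Cfsg.Agent.Helper5.TCI

set_option maxRecDepth 1000000 in
theorem relc_63_1 : fixPtsF W_63 100000 100000 = true := by decide +kernel

set_option maxRecDepth 1000000 in
theorem relc_3_4 : fixPtsF W_3 50000 200000 = true := by decide +kernel

set_option maxRecDepth 1000000 in
theorem relc_5_4 : fixPtsF W_5 50000 200000 = true := by decide +kernel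

set_option maxRecDepth 1000000 in
theorem relc_10_4 : fixPtsF W_10 50000 200000 = true := by decide +kernel

set_option maxRecDepth 1000000 in
theorem relc_16_4 : fixPtsF W_16 50000 200000 = true := by decide +kernel

set_option maxRecDepth 1000000 in
theorem relc_20_4 : fixPtsF W_20 50000 200000 = true := by decide +kernel

set_option maxRecDepth 1000000 in
theorem relc_27_4 : fixPtsF W_27 50000 200000 = true := by decide +kernel

set_option maxRecDepth 1000000 in
theorem relc_31_4 : fixPtsF W_31 50000 200000 = true := by decide +kernel

set_option maxRecDepth 1000000 in
theorem relc_37_4 : fixPtsF W_37 50000 200000 = true := by decide +kernel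

set_option maxRecDepth 1000000 in
theorem relc_41_4 : fixPtsF W_41 50000 200000 = true := by decide +kernel

set_option maxRecDepth 1000000 in
theorem relc_47_4 : fixPtsF W_47 50000 200000 = true := by decide +kernel

set_option maxRecDepth 1000000 in
theorem relc_52_4 : fixPtsF W_52 50000 200000 = true := by decide +kernel

set_option maxRecDepth 1000000 in
theorem relc_56_4 : fixPtsF W_56 50000 200000 = true := by decide +kernel

set_option maxRecDepth 1000000 in
theorem relc_62_4 : fixPtsF W_62 50000 200000 = true := by decide +kernel

set_option maxRecDepth 1000000 in
theorem relc_69_4 : fixPtsF W_69 50000 200000 = true := by decide +kernel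

set_option maxRecDepth 1000000 in
theorem relc_1_4 : fixPtsF W_1 33333 133332 = true := by decide +kernel

set_option maxRecDepth 1000000 in
theorem relc_13_4 : fixPtsF W_13 33333 133332 = true := by decide +kernel

set_option maxRecDepth 1000000 in
theorem relc_36_1 : fixPtsF W_36 33333 33333 = true := by decide +kernel

set_option maxRecDepth 1000000 in
theorem relc_58_7 : fixPtsF W_58 33333 233331 = true := by decide +kernel

set_option maxRecDepth 1000000 in
theorem relc_76_4 : fixPtsF W_76 33333 133332 = true := by decide +kernel

set_option maxRecDepth 1000000 in
theorem relc_78_22 : fixPtsF W_78 3125 68750 = true := by decide +kernel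

set_option maxRecDepth 1000000 in
theorem relc_78_46 : fixPtsF W_78 3125 143750 = true := by decide +kernel

set_option maxRecDepth 1000000 in
theorem relc_78_70 : fixPtsF W_78 3125 218750 = true := by decide +kernel

set_option maxRecDepth 1000000 in
theorem relc_78_94 : fixPtsF W_78 3125 293750 = true := by decide +kernel

set_option maxRecDepth 1000000 in
theorem relc_80_20 : fixPtsF W_80 2222 44440 = true := by decide +kernel

set_option maxRecDepth 1000000 in
theorem relc_80_44 : fixPtsF W_80 2222 97768 = true := by decide +kernel

set_option maxRecDepth 1000000 in
theorem relc_80_68 : fixPtsF W_80 2222 151096 = true := by decide +kernel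

set_option maxRecDepth 1000000 in
theorem relc_80_92 : fixPtsF W_80 2222 204424 = true := by decide +kernel

set_option maxRecDepth 1000000 in
theorem relc_80_116 : fixPtsF W_80 2222 257752 = true := by decide +kernel

set_option maxRecDepth 1000000 in
theorem relc_79_2 : fixPtsF W_79 840 1680 = true := by decide +kernel

set_option maxRecDepth 1000000 in
theorem relc_79_24 : fixPtsF W_79 840 20160 = true := by decide +kernel

set_option maxRecDepth 1000000 in
theorem relc_79_48 : fixPtsF W_79 840 40320 = true := by decide +kernel

set_option maxRecDepth 1000000 in
theorem relc_79_72 : fixPtsF W_79 840 60480 = true := by decide +kernel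

set_option maxRecDepth 1000000 in
theorem relc_79_96 : fixPtsF W_79 840 80640 = true := by decide +kernel

set_option maxRecDepth 1000000 in
theorem relc_79_120 : fixPtsF W_79 840 100800 = true := by decide +kernel

set_option maxRecDepth 1000000 in
theorem relc_79_144 : fixPtsF W_79 840 120960 = true := by decide +kernel

set_option maxRecDepth 1000000 in
theorem relc_79_168 : fixPtsF W_79 840 141120 = true := by decide +kernel

set_option maxRecDepth 1000000 in
theorem relc_79_192 : fixPtsF W_79 840 161280 = true := by decide +kernel

set_option maxRecDepth 1000000 in
theorem relc_79_216 : fixPtsF W_79 840 181440 = true := by decide +kernel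

set_option maxRecDepth 1000000 in
theorem relc_79_240 : fixPtsF W_79 840 201600 = true := by decide +kernel

set_option maxRecDepth 1000000 in
theorem relc_79_264 : fixPtsF W_79 840 221760 = true := by decide +kernel

set_option maxRecDepth 1000000 in
theorem relc_79_288 : fixPtsF W_79 840 241920 = true := by decide +kernel

set_option maxRecDepth 1000000 in
theorem relc_79_312 : fixPtsF W_79 840 262080 = true := by decide +kernel

set_option maxRecDepth 1000000 in
theorem relc_79_336 : fixPtsF W_79 840 282240 = true := by decide +kernel

set_option maxRecDepth 1000000 in
theorem relc_79_360 : fixPtsF W_79 840 302400 = true := by decide +kernel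

set_option maxRecDepth 1000000 in
theorem inv_3_3 : invRowFI ctF 306936 3 3 50000 150000 = true := by decide +kernel

set_option maxRecDepth 1000000 in
theorem inv_7_3 : invRowFI ctF 306936 7 7 50000 150000 = true := by decide +kernel

set_option maxRecDepth 1000000 in
theorem inv_11_3 : invRowFI ctF 306936 11 11 50000 150000 = true := by decide +kernel

set_option maxRecDepth 1000000 in
theorem relc_32_6 : fixPtsF W_32 6936 300000 = true := by decide +kernel

set_option maxRecDepth 1000000 in
theorem relc_64_6 : fixPtsF W_64 6936 300000 = true := by decide +kernel

set_option maxRecDepth 1000000 in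
theorem inv_10_6 : invRowFI ctF 306936 10 10 6936 300000 = true := by decide +kernel

end Cfsg.Agent.Helper5.FiZATC
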