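import Cfsg.Agent.Helper5.FiZATCDatD
import Cfsg.Agent.Helper5.FiZATCDatT
import Cfsg.Agent.Helper5.TCIB

/-! kernel checks of the coset table: FiZATC -/

set_option autoImplicit false
set_option Elab.async false

namespace Cfsg.Agent.Helper5.FiZATC
open Cfsg.Agent.Helper5.TC Cfsg.Agent.Helper5.TCI

set_option maxRecDepth 1000000 in
theorem relc_63_2 : fixPtsF W_63 100000 200000 = true := by decide +kernel

set_option maxRecDepth 1000000 in
theorem relc_3_5 : fixPtsF W_3 50000 250000 = true := by decide +kernel

set_option maxRecDepth 1000000 in
theorem relc_5_5 : fixPtsF W_5 50000 250000 = true := by decide +kernel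

set_option maxRecDepth 1000000 in
theorem relc_10_5 : fixPtsF W_10 50000 250000 = true := by decide +kernel

set_option maxRecDepth 1000000 in
theorem relc_16_5 : fixPtsF W_16 50000 250000 = true := by decide +kernel

set_option maxRecDepth 1000000 in
theorem relc_20_5 : fixPtsF W_20 50000 250000 = true := by decide +kernel

set_option maxRecDepth 1000000 in
theorem relc_27_5 : fixPtsF W_27 50000 250000 = true := by decide +kernel

set_option maxRecDepth 1000000 in
theorem relc_31_5 : fixPtsF W_31 50000 250000 = true := by decide +kernel

set_option maxRecDepth 1000000 in
theorem relc_37_5 : fixPtsF W_37 50000 250000 = true := by decide +kernel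

set_option maxRecDepth 1000000 in
theorem relc_41_5 : fixPtsF W_41 50000 250000 = true := by decide +kernel

set_option maxRecDepth 1000000 in
theorem relc_47_5 : fixPtsF W_47 50000 250000 = true := by decide +kernel

set_option maxRecDepth 1000000 in
theorem relc_52_5 : fixPtsF W_52 50000 250000 = true := by decide +kernel

set_option maxRecDepth 1000000 in
theorem relc_56_5 : fixPtsF W_56 50000 250000 = true := by decide +kernel

set_option maxRecDepth 1000000 in
theorem relc_62_5 : fixPtsF W_62 50000 250000 = true := by decide +kernel

set_option maxRecDepth 1000000 in
theorem relc_69_5 : fixPtsF W_69 50000 250000 = true := by decide +kernel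

set_option maxRecDepth 1000000 in
theorem relc_1_5 : fixPtsF W_1 33333 166665 = true := by decide +kernel

set_option maxRecDepth 1000000 in
theorem relc_13_5 : fixPtsF W_13 33333 166665 = true := by decide +kernel

set_option maxRecDepth 1000000 in
theorem relc_36_2 : fixPtsF W_36 33333 66666 = true := by decide +kernel

set_option maxRecDepth 1000000 in
theorem relc_58_8 : fixPtsF W_58 33333 266664 = true := by decide +kernel

set_option maxRecDepth 1000000 in
theorem relc_76_5 : fixPtsF W_76 33333 166665 = true := by decide +kernel

set_option maxRecDepth 1000000 in
theorem relc_78_23 : fixPtsF W_78 3125 71875 = true := by decide +kernel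

set_option maxRecDepth 1000000 in
theorem relc_78_47 : fixPtsF W_78 3125 146875 = true := by decide +kernel

set_option maxRecDepth 1000000 in
theorem relc_78_71 : fixPtsF W_78 3125 221875 = true := by decide +kernel

set_option maxRecDepth 1000000 in
theorem relc_78_95 : fixPtsF W_78 3125 296875 = true := by decide +kernel

set_option maxRecDepth 1000000 in
theorem relc_80_21 : fixPtsF W_80 2222 46662 = true := by decide +kernel

set_option maxRecDepth 1000000 in
theorem relc_80_45 : fixPtsF W_80 2222 99990 = true := by decide +kernel

set_option maxRecDepth 1000000 in
theorem relc_80_69 : fixPtsF W_80 2222 153318 = true := by decide +kernel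

set_option maxRecDepth 1000000 in
theorem relc_80_93 : fixPtsF W_80 2222 206646 = true := by decide +kernel

set_option maxRecDepth 1000000 in
theorem relc_80_117 : fixPtsF W_80 2222 259974 = true := by decide +kernel

set_option maxRecDepth 1000000 in
theorem relc_79_3 : fixPtsF W_79 840 2520 = true := by decide +kernel

set_option maxRecDepth 1000000 in
theorem relc_79_25 : fixPtsF W_79 840 21000 = true := by decide +kernel

set_option maxRecDepth 1000000 in
theorem relc_79_49 : fixPtsF W_79 840 41160 = true := by decide +kernel

set_option maxRecDepth 1000000 in
theorem relc_79_73 : fixPtsF W_79 840 61320 = true := by decide +kernel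

set_option maxRecDepth 1000000 in
theorem relc_79_97 : fixPtsF W_79 840 81480 = true := by decide +kernel

set_option maxRecDepth 1000000 in
theorem relc_79_121 : fixPtsF W_79 840 101640 = true := by decide +kernel

set_option maxRecDepth 1000000 in
theorem relc_79_145 : fixPtsF W_79 840 121800 = true := by decide +kernel

set_option maxRecDepth 1000000 in
theorem relc_79_169 : fixPtsF W_79 840 141960 = true := by decide +kernel

set_option maxRecDepth 1000000 in
theorem relc_79_193 : fixPtsF W_79 840 162120 = true := by decide +kernel

set_option maxRecDepth 1000000 in
theorem relc_79_217 : fixPtsF W_79 840 182280 = true := by decide +kernel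

set_option maxRecDepth 1000000 in
theorem relc_79_241 : fixPtsF W_79 840 202440 = true := by decide +kernel

set_option maxRecDepth 1000000 in
theorem relc_79_265 : fixPtsF W_79 840 222600 = true := by decide +kernel

set_option maxRecDepth 1000000 in
theorem relc_79_289 : fixPtsF W_79 840 242760 = true := by decide +kernel

set_option maxRecDepth 1000000 in
theorem relc_79_313 : fixPtsF W_79 840 262920 = true := by decide +kernel

set_option maxRecDepth 1000000 in
theorem relc_79_337 : fixPtsF W_79 840 283080 = true := by decide +kernel

set_option maxRecDepth 1000000 in
theorem relc_79_361 : fixPtsF W_79 840 303240 = true := by decide +kernel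

set_option maxRecDepth 1000000 in
theorem inv_3_4 : invRowFI ctF 306936 3 3 50000 200000 = true := by decide +kernel

set_option maxRecDepth 1000000 in
theorem inv_7_4 : invRowFI ctF 306936 7 7 50000 200000 = true := by decide +kernel

set_option maxRecDepth 1000000 in
theorem inv_11_4 : invRowFI ctF 306936 11 11 50000 200000 = true := by decide +kernel

set_option maxRecDepth 1000000 in
theorem relc_34_6 : fixPtsF W_34 6936 300000 = true := by decide +kernel

set_option maxRecDepth 1000000 in
theorem relc_66_6 : fixPtsF W_66 6936 300000 = true := by decide +kernel

set_option maxRecDepth 1000000 in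
theorem inv_11_6 : invRowFI ctF 306936 11 11 6936 300000 = true := by decide +kernel

end Cfsg.Agent.Helper5.FiZATC
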