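import Cfsg.Agent.Helper5.FiZATCDatD
import Cfsg.Agent.Helper5.FiZATCDatT
import Cfsg.Agent.Helper5.TCIB

/-! kernel checks of the coset table: FiZATC -/

set_option autoImplicit false
set_option Elab.async false

namespace Cfsg.Agent.Helper5.FiZATC
open Cfsg.Agent.Helper5.TC Cfsg.Agent.Helper5.TCI

set_option maxRecDepth 1000000 in
theorem relc_12_0 : fixPtsF W_12 100000 0 = true := by decide +kernel

set_option maxRecDepth 1000000 in
theorem relc_72_0 : fixPtsF W_72 100000 0 = true := by decide +kernel

set_option maxRecDepth 1000000 in
theorem relc_6_3 : fixPtsF W_6 50000 150000 = true := by decide +kernel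

set_option maxRecDepth 1000000 in
theorem relc_11_3 : fixPtsF W_11 50000 150000 = true := by decide +kernel

set_option maxRecDepth 1000000 in
theorem relc_17_3 : fixPtsF W_17 50000 150000 = true := by decide +kernel

set_option maxRecDepth 1000000 in
theorem relc_21_3 : fixPtsF W_21 50000 150000 = true := by decide +kernel

set_option maxRecDepth 1000000 in
theorem relc_28_3 : fixPtsF W_28 50000 150000 = true := by decide +kernel

set_option maxRecDepth 1000000 in
theorem relc_32_3 : fixPtsF W_32 50000 150000 = true := by decide +kernel

set_option maxRecDepth 1000000 in
theorem relc_38_3 : fixPtsF W_38 50000 150000 = true := by decide +kernel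

set_option maxRecDepth 1000000 in
theorem relc_44_3 : fixPtsF W_44 50000 150000 = true := by decide +kernel

set_option maxRecDepth 1000000 in
theorem relc_48_3 : fixPtsF W_48 50000 150000 = true := by decide +kernel

set_option maxRecDepth 1000000 in
theorem relc_53_3 : fixPtsF W_53 50000 150000 = true := by decide +kernel

set_option maxRecDepth 1000000 in
theorem relc_59_3 : fixPtsF W_59 50000 150000 = true := by decide +kernel

set_option maxRecDepth 1000000 in
theorem relc_64_3 : fixPtsF W_64 50000 150000 = true := by decide +kernel

set_option maxRecDepth 1000000 in
theorem relc_70_3 : fixPtsF W_70 50000 150000 = true := by decide +kernel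

set_option maxRecDepth 1000000 in
theorem relc_8_0 : fixPtsF W_8 33333 0 = true := by decide +kernel

set_option maxRecDepth 1000000 in
theorem relc_24_6 : fixPtsF W_24 33333 199998 = true := by decide +kernel

set_option maxRecDepth 1000000 in
theorem relc_43_3 : fixPtsF W_43 33333 99999 = true := by decide +kernel

set_option maxRecDepth 1000000 in
theorem relc_71_0 : fixPtsF W_71 33333 0 = true := by decide +kernel

set_option maxRecDepth 1000000 in
theorem relc_78_6 : fixPtsF W_78 3125 18750 = true := by decide +kernel

set_option maxRecDepth 1000000 in
theorem relc_78_30 : fixPtsF W_78 3125 93750 = true := by decide +kernel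

set_option maxRecDepth 1000000 in
theorem relc_78_54 : fixPtsF W_78 3125 168750 = true := by decide +kernel

set_option maxRecDepth 1000000 in
theorem relc_78_78 : fixPtsF W_78 3125 243750 = true := by decide +kernel

set_option maxRecDepth 1000000 in
theorem relc_80_4 : fixPtsF W_80 2222 8888 = true := by decide +kernel

set_option maxRecDepth 1000000 in
theorem relc_80_28 : fixPtsF W_80 2222 62216 = true := by decide +kernel

set_option maxRecDepth 1000000 in
theorem relc_80_52 : fixPtsF W_80 2222 115544 = true := by decide +kernel

set_option maxRecDepth 1000000 in
theorem relc_80_76 : fixPtsF W_80 2222 168872 = true := by decide +kernel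

set_option maxRecDepth 1000000 in
theorem relc_80_100 : fixPtsF W_80 2222 222200 = true := by decide +kernel

set_option maxRecDepth 1000000 in
theorem relc_80_124 : fixPtsF W_80 2222 275528 = true := by decide +kernel

set_option maxRecDepth 1000000 in
theorem relc_79_10 : fixPtsF W_79 840 8400 = true := by decide +kernel

set_option maxRecDepth 1000000 in
theorem relc_79_34 : fixPtsF W_79 840 28560 = true := by decide +kernel

set_option maxRecDepth 1000000 in
theorem relc_79_58 : fixPtsF W_79 840 48720 = true := by decide +kernel

set_option maxRecDepth 1000000 in
theorem relc_79_82 : fixPtsF W_79 840 68880 = true := by decide +kernel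

set_option maxRecDepth 1000000 in
theorem relc_79_106 : fixPtsF W_79 840 89040 = true := by decide +kernel

set_option maxRecDepth 1000000 in
theorem relc_79_130 : fixPtsF W_79 840 109200 = true := by decide +kernel

set_option maxRecDepth 1000000 in
theorem relc_79_154 : fixPtsF W_79 840 129360 = true := by decide +kernel

set_option maxRecDepth 1000000 in
theorem relc_79_178 : fixPtsF W_79 840 149520 = true := by decide +kernel

set_option maxRecDepth 1000000 in
theorem relc_79_202 : fixPtsF W_79 840 169680 = true := by decide +kernel

set_option maxRecDepth 1000000 in
theorem relc_79_226 : fixPtsF W_79 840 189840 = true := by decide +kernel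

set_option maxRecDepth 1000000 in
theorem relc_79_250 : fixPtsF W_79 840 210000 = true := by decide +kernel

set_option maxRecDepth 1000000 in
theorem relc_79_274 : fixPtsF W_79 840 230160 = true := by decide +kernel

set_option maxRecDepth 1000000 in
theorem relc_79_298 : fixPtsF W_79 840 250320 = true := by decide +kernel

set_option maxRecDepth 1000000 in
theorem relc_79_322 : fixPtsF W_79 840 270480 = true := by decide +kernel

set_option maxRecDepth 1000000 in
theorem relc_79_346 : fixPtsF W_79 840 290640 = true := by decide +kernel

set_option maxRecDepth 1000000 in
theorem inv_0_5 : invRowFI ctF 306936 0 0 50000 250000 = true := by decide +kernel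

set_option maxRecDepth 1000000 in
theorem inv_4_4 : invRowFI ctF 306936 4 4 50000 200000 = true := by decide +kernel

set_option maxRecDepth 1000000 in
theorem inv_8_4 : invRowFI ctF 306936 8 8 50000 200000 = true := by decide +kernel

set_option maxRecDepth 1000000 in
theorem conn_4 : connF ctF 12 50000 200000 = true := by decide +kernel

set_option maxRecDepth 1000000 in
theorem relc_10_6 : fixPtsF W_10 6936 300000 = true := by decide +kernel

set_option maxRecDepth 1000000 in
theorem relc_40_6 : fixPtsF W_40 6936 300000 = true := by decide +kernel

set_option maxRecDepth 1000000 in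
theorem relc_74_6 : fixPtsF W_74 6936 300000 = true := by decide +kernel

end Cfsg.Agent.Helper5.FiZATC
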