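import Cfsg.Agent.Helper5.FiZATCDatD
import Cfsg.Agent.Helper5.FiZATCDatT
import Cfsg.Agent.Helper5.TCIB

/-! kernel checks of the coset table: FiZATC -/

set_option autoImplicit false
set_option Elab.async false

namespace Cfsg.Agent.Helper5.FiZATC
open Cfsg.Agent.Helper5.TC Cfsg.Agent.Helper5.TCI

set_option maxRecDepth 1000000 in
theorem relc_12_1 : fixPtsF W_12 100000 100000 = true := by decide +kernel

set_option maxRecDepth 1000000 in
theorem relc_72_1 : fixPtsF W_72 100000 100000 = true := by decide +kernel

set_option maxRecDepth 1000000 in
theorem relc_6_4 : fixPtsF W_6 50000 200000 = true := by decide +kernel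

set_option maxRecDepth 1000000 in
theorem relc_11_4 : fixPtsF W_11 50000 200000 = true := by decide +kernel

set_option maxRecDepth 1000000 in
theorem relc_17_4 : fixPtsF W_17 50000 200000 = true := by decide +kernel

set_option maxRecDepth 1000000 in
theorem relc_21_4 : fixPtsF W_21 50000 200000 = true := by decide +kernel

set_option maxRecDepth 1000000 in
theorem relc_28_4 : fixPtsF W_28 50000 200000 = true := by decide +kernel

set_option maxRecDepth 1000000 in
theorem relc_32_4 : fixPtsF W_32 50000 200000 = true := by decide +kernel

set_option maxRecDepth 1000000 in
theorem relc_38_4 : fixPtsF W_38 50000 200000 = true := by decide +kernel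

set_option maxRecDepth 1000000 in
theorem relc_44_4 : fixPtsF W_44 50000 200000 = true := by decide +kernel

set_option maxRecDepth 1000000 in
theorem relc_48_4 : fixPtsF W_48 50000 200000 = true := by decide +kernel

set_option maxRecDepth 1000000 in
theorem relc_53_4 : fixPtsF W_53 50000 200000 = true := by decide +kernel

set_option maxRecDepth 1000000 in
theorem relc_59_4 : fixPtsF W_59 50000 200000 = true := by decide +kernel

set_option maxRecDepth 1000000 in
theorem relc_64_4 : fixPtsF W_64 50000 200000 = true := by decide +kernel

set_option maxRecDepth 1000000 in
theorem relc_70_4 : fixPtsF W_70 50000 200000 = true := by decide +kernel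

set_option maxRecDepth 1000000 in
theorem relc_8_1 : fixPtsF W_8 33333 33333 = true := by decide +kernel

set_option maxRecDepth 1000000 in
theorem relc_24_7 : fixPtsF W_24 33333 233331 = true := by decide +kernel

set_option maxRecDepth 1000000 in
theorem relc_43_4 : fixPtsF W_43 33333 133332 = true := by decide +kernel

set_option maxRecDepth 1000000 in
theorem relc_71_1 : fixPtsF W_71 33333 33333 = true := by decide +kernel

set_option maxRecDepth 1000000 in
theorem relc_78_7 : fixPtsF W_78 3125 21875 = true := by decide +kernel

set_option maxRecDepth 1000000 in
theorem relc_78_31 : fixPtsF W_78 3125 96875 = true := by decide +kernel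

set_option maxRecDepth 1000000 in
theorem relc_78_55 : fixPtsF W_78 3125 171875 = true := by decide +kernel

set_option maxRecDepth 1000000 in
theorem relc_78_79 : fixPtsF W_78 3125 246875 = true := by decide +kernel

set_option maxRecDepth 1000000 in
theorem relc_80_5 : fixPtsF W_80 2222 11110 = true := by decide +kernel

set_option maxRecDepth 1000000 in
theorem relc_80_29 : fixPtsF W_80 2222 64438 = true := by decide +kernel

set_option maxRecDepth 1000000 in
theorem relc_80_53 : fixPtsF W_80 2222 117766 = true := by decide +kernel

set_option maxRecDepth 1000000 in
theorem relc_80_77 : fixPtsF W_80 2222 171094 = true := by decide +kernel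

set_option maxRecDepth 1000000 in
theorem relc_80_101 : fixPtsF W_80 2222 224422 = true := by decide +kernel

set_option maxRecDepth 1000000 in
theorem relc_80_125 : fixPtsF W_80 2222 277750 = true := by decide +kernel

set_option maxRecDepth 1000000 in
theorem relc_79_11 : fixPtsF W_79 840 9240 = true := by decide +kernel

set_option maxRecDepth 1000000 in
theorem relc_79_35 : fixPtsF W_79 840 29400 = true := by decide +kernel

set_option maxRecDepth 1000000 in
theorem relc_79_59 : fixPtsF W_79 840 49560 = true := by decide +kernel

set_option maxRecDepth 1000000 in
theorem relc_79_83 : fixPtsF W_79 840 69720 = true := by decide +kernel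

set_option maxRecDepth 1000000 in
theorem relc_79_107 : fixPtsF W_79 840 89880 = true := by decide +kernel

set_option maxRecDepth 1000000 in
theorem relc_79_131 : fixPtsF W_79 840 110040 = true := by decide +kernel

set_option maxRecDepth 1000000 in
theorem relc_79_155 : fixPtsF W_79 840 130200 = true := by decide +kernel

set_option maxRecDepth 1000000 in
theorem relc_79_179 : fixPtsF W_79 840 150360 = true := by decide +kernel

set_option maxRecDepth 1000000 in
theorem relc_79_203 : fixPtsF W_79 840 170520 = true := by decide +kernel

set_option maxRecDepth 1000000 in
theorem relc_79_227 : fixPtsF W_79 840 190680 = true := by decide +kernel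

set_option maxRecDepth 1000000 in
theorem relc_79_251 : fixPtsF W_79 840 210840 = true := by decide +kernel

set_option maxRecDepth 1000000 in
theorem relc_79_275 : fixPtsF W_79 840 231000 = true := by decide +kernel

set_option maxRecDepth 1000000 in
theorem relc_79_299 : fixPtsF W_79 840 251160 = true := by decide +kernel

set_option maxRecDepth 1000000 in
theorem relc_79_323 : fixPtsF W_79 840 271320 = true := by decide +kernel

set_option maxRecDepth 1000000 in
theorem relc_79_347 : fixPtsF W_79 840 291480 = true := by decide +kernel

set_option maxRecDepth 1000000 in
theorem inv_1_0 : invRowFI ctF 306936 1 1 50000 0 = true := by decide +kernel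

set_option maxRecDepth 1000000 in
theorem inv_4_5 : invRowFI ctF 306936 4 4 50000 250000 = true := by decide +kernel

set_option maxRecDepth 1000000 in
theorem inv_8_5 : invRowFI ctF 306936 8 8 50000 250000 = true := by decide +kernel

set_option maxRecDepth 1000000 in
theorem conn_5 : connF ctF 12 50000 250000 = true := by decide +kernel

set_option maxRecDepth 1000000 in
theorem relc_11_6 : fixPtsF W_11 6936 300000 = true := by decide +kernel

set_option maxRecDepth 1000000 in
theorem relc_41_6 : fixPtsF W_41 6936 300000 = true := by decide +kernel

set_option maxRecDepth 1000000 in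
theorem relc_78_98 : fixPtsF W_78 686 306250 = true := by decide +kernel

set_option maxRecDepth 1000000 in
theorem conn_6 : connF ctF 12 6936 300000 = true := by decide +kernel

end Cfsg.Agent.Helper5.FiZATC
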