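import Cfsg.Agent.Helper5.FiZATCDatD
import Cfsg.Agent.Helper5.FiZATCDatT
import Cfsg.Agent.Helper5.TCIB

/-! kernel checks of the coset table: FiZATC -/

set_option autoImplicit false
set_option Elab.async false

namespace Cfsg.Agent.Helper5.FiZATC
open Cfsg.Agent.Helper5.TC Cfsg.Agent.Helper5.TCI

set_option maxRecDepth 1000000 in
theorem relc_12_2 : fixPtsF W_12 100000 200000 = true := by decide +kernel

set_option maxRecDepth 1000000 in
theorem relc_72_2 : fixPtsF W_72 100000 200000 = true := by decide +kernel

set_option maxRecDepth 1000000 in
theorem relc_6_5 : fixPtsF W_6 50000 250000 = true := by decide +kernel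

set_option maxRecDepth 1000000 in
theorem relc_11_5 : fixPtsF W_11 50000 250000 = true := by decide +kernel

set_option maxRecDepth 1000000 in
theorem relc_17_5 : fixPtsF W_17 50000 250000 = true := by decide +kernel

set_option maxRecDepth 1000000 in
theorem relc_21_5 : fixPtsF W_21 50000 250000 = true := by decide +kernel

set_option maxRecDepth 1000000 in
theorem relc_28_5 : fixPtsF W_28 50000 250000 = true := by decide +kernel

set_option maxRecDepth 1000000 in
theorem relc_32_5 : fixPtsF W_32 50000 250000 = true := by decide +kernel

set_option maxRecDepth 1000000 in
theorem relc_38_5 : fixPtsF W_38 50000 250000 = true := by decide +kernel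

set_option maxRecDepth 1000000 in
theorem relc_44_5 : fixPtsF W_44 50000 250000 = true := by decide +kernel

set_option maxRecDepth 1000000 in
theorem relc_48_5 : fixPtsF W_48 50000 250000 = true := by decide +kernel

set_option maxRecDepth 1000000 in
theorem relc_53_5 : fixPtsF W_53 50000 250000 = true := by decide +kernel

set_option maxRecDepth 1000000 in
theorem relc_59_5 : fixPtsF W_59 50000 250000 = true := by decide +kernel

set_option maxRecDepth 1000000 in
theorem relc_64_5 : fixPtsF W_64 50000 250000 = true := by decide +kernel

set_option maxRecDepth 1000000 in
theorem relc_70_5 : fixPtsF W_70 50000 250000 = true := by decide +kernel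

set_option maxRecDepth 1000000 in
theorem relc_8_2 : fixPtsF W_8 33333 66666 = true := by decide +kernel

set_option maxRecDepth 1000000 in
theorem relc_24_8 : fixPtsF W_24 33333 266664 = true := by decide +kernel

set_option maxRecDepth 1000000 in
theorem relc_43_5 : fixPtsF W_43 33333 166665 = true := by decide +kernel

set_option maxRecDepth 1000000 in
theorem relc_71_2 : fixPtsF W_71 33333 66666 = true := by decide +kernel

set_option maxRecDepth 1000000 in
theorem relc_78_8 : fixPtsF W_78 3125 25000 = true := by decide +kernel

set_option maxRecDepth 1000000 in
theorem relc_78_32 : fixPtsF W_78 3125 100000 = true := by decide +kernel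

set_option maxRecDepth 1000000 in
theorem relc_78_56 : fixPtsF W_78 3125 175000 = true := by decide +kernel

set_option maxRecDepth 1000000 in
theorem relc_78_80 : fixPtsF W_78 3125 250000 = true := by decide +kernel

set_option maxRecDepth 1000000 in
theorem relc_80_6 : fixPtsF W_80 2222 13332 = true := by decide +kernel

set_option maxRecDepth 1000000 in
theorem relc_80_30 : fixPtsF W_80 2222 66660 = true := by decide +kernel

set_option maxRecDepth 1000000 in
theorem relc_80_54 : fixPtsF W_80 2222 119988 = true := by decide +kernel

set_option maxRecDepth 1000000 in
theorem relc_80_78 : fixPtsF W_80 2222 173316 = true := by decide +kernel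

set_option maxRecDepth 1000000 in
theorem relc_80_102 : fixPtsF W_80 2222 226644 = true := by decide +kernel

set_option maxRecDepth 1000000 in
theorem relc_80_126 : fixPtsF W_80 2222 279972 = true := by decide +kernel

set_option maxRecDepth 1000000 in
theorem relc_79_12 : fixPtsF W_79 840 10080 = true := by decide +kernel

set_option maxRecDepth 1000000 in
theorem relc_79_36 : fixPtsF W_79 840 30240 = true := by decide +kernel

set_option maxRecDepth 1000000 in
theorem relc_79_60 : fixPtsF W_79 840 50400 = true := by decide +kernel

set_option maxRecDepth 1000000 in
theorem relc_79_84 : fixPtsF W_79 840 70560 = true := by decide +kernel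

set_option maxRecDepth 1000000 in
theorem relc_79_108 : fixPtsF W_79 840 90720 = true := by decide +kernel

set_option maxRecDepth 1000000 in
theorem relc_79_132 : fixPtsF W_79 840 110880 = true := by decide +kernel

set_option maxRecDepth 1000000 in
theorem relc_79_156 : fixPtsF W_79 840 131040 = true := by decide +kernel

set_option maxRecDepth 1000000 in
theorem relc_79_180 : fixPtsF W_79 840 151200 = true := by decide +kernel

set_option maxRecDepth 1000000 in
theorem relc_79_204 : fixPtsF W_79 840 171360 = true := by decide +kernel

set_option maxRecDepth 1000000 in
theorem relc_79_228 : fixPtsF W_79 840 191520 = true := by decide +kernel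

set_option maxRecDepth 1000000 in
theorem relc_79_252 : fixPtsF W_79 840 211680 = true := by decide +kernel

set_option maxRecDepth 1000000 in
theorem relc_79_276 : fixPtsF W_79 840 231840 = true := by decide +kernel

set_option maxRecDepth 1000000 in
theorem relc_79_300 : fixPtsF W_79 840 252000 = true := by decide +kernel

set_option maxRecDepth 1000000 in
theorem relc_79_324 : fixPtsF W_79 840 272160 = true := by decide +kernel

set_option maxRecDepth 1000000 in
theorem relc_79_348 : fixPtsF W_79 840 292320 = true := by decide +kernel

set_option maxRecDepth 1000000 in
theorem inv_1_1 : invRowFI ctF 306936 1 1 50000 50000 = true := by decide +kernel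

set_option maxRecDepth 1000000 in
theorem inv_5_0 : invRowFI ctF 306936 5 5 50000 0 = true := by decide +kernel

set_option maxRecDepth 1000000 in
theorem inv_9_0 : invRowFI ctF 306936 9 9 50000 0 = true := by decide +kernel

set_option maxRecDepth 1000000 in
theorem relc_79_365 : fixPtsF W_79 336 306600 = true := by decide +kernel

set_option maxRecDepth 1000000 in
theorem relc_4_6 : fixPtsF W_4 6936 300000 = true := by decide +kernel

set_option maxRecDepth 1000000 in
theorem relc_27_6 : fixPtsF W_27 6936 300000 = true := by decide +kernel

set_option maxRecDepth 1000000 in
theorem relc_56_6 : fixPtsF W_56 6936 300000 = true := by decide +kernel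

set_option maxRecDepth 1000000 in
theorem relc_77_3 : fixPtsF W_77 6936 300000 = true := by decide +kernel

end Cfsg.Agent.Helper5.FiZATC
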