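import Cfsg.Agent.Helper5.FiZATCDatD
import Cfsg.Agent.Helper5.FiZATCDatT
import Cfsg.Agent.Helper5.TCIB

/-! kernel checks of the coset table: FiZATC -/

set_option autoImplicit false
set_option Elab.async false

namespace Cfsg.Agent.Helper5.FiZATC
open Cfsg.Agent.Helper5.TC Cfsg.Agent.Helper5.TCI

set_option maxRecDepth 1000000 in
theorem relc_23_0 : fixPtsF W_23 100000 0 = true := by decide +kernel

set_option maxRecDepth 1000000 in
theorem relc_75_0 : fixPtsF W_75 100000 0 = true := by decide +kernel

set_option maxRecDepth 1000000 in
theorem relc_7_0 : fixPtsF W_7 50000 0 = true := by decide +kernel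

set_option maxRecDepth 1000000 in
theorem relc_14_0 : fixPtsF W_14 50000 0 = true := by decide +kernel

set_option maxRecDepth 1000000 in
theorem relc_18_0 : fixPtsF W_18 50000 0 = true := by decide +kernel

set_option maxRecDepth 1000000 in
theorem relc_22_0 : fixPtsF W_22 50000 0 = true := by decide +kernel

set_option maxRecDepth 1000000 in
theorem relc_29_0 : fixPtsF W_29 50000 0 = true := by decide +kernel

set_option maxRecDepth 1000000 in
theorem relc_34_0 : fixPtsF W_34 50000 0 = true := by decide +kernel

set_option maxRecDepth 1000000 in
theorem relc_39_0 : fixPtsF W_39 50000 0 = true := by decide +kernel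

set_option maxRecDepth 1000000 in
theorem relc_45_0 : fixPtsF W_45 50000 0 = true := by decide +kernel

set_option maxRecDepth 1000000 in
theorem relc_49_0 : fixPtsF W_49 50000 0 = true := by decide +kernel

set_option maxRecDepth 1000000 in
theorem relc_54_0 : fixPtsF W_54 50000 0 = true := by decide +kernel

set_option maxRecDepth 1000000 in
theorem relc_60_0 : fixPtsF W_60 50000 0 = true := by decide +kernel

set_option maxRecDepth 1000000 in
theorem relc_66_0 : fixPtsF W_66 50000 0 = true := by decide +kernel

set_option maxRecDepth 1000000 in
theorem relc_73_0 : fixPtsF W_73 50000 0 = true := by decide +kernel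

set_option maxRecDepth 1000000 in
theorem relc_8_3 : fixPtsF W_8 33333 99999 = true := by decide +kernel

set_option maxRecDepth 1000000 in
theorem relc_25_0 : fixPtsF W_25 33333 0 = true := by decide +kernel

set_option maxRecDepth 1000000 in
theorem relc_43_6 : fixPtsF W_43 33333 199998 = true := by decide +kernel

set_option maxRecDepth 1000000 in
theorem relc_71_3 : fixPtsF W_71 33333 99999 = true := by decide +kernel

set_option maxRecDepth 1000000 in
theorem relc_78_9 : fixPtsF W_78 3125 28125 = true := by decide +kernel

set_option maxRecDepth 1000000 in
theorem relc_78_33 : fixPtsF W_78 3125 103125 = true := by decide +kernel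

set_option maxRecDepth 1000000 in
theorem relc_78_57 : fixPtsF W_78 3125 178125 = true := by decide +kernel

set_option maxRecDepth 1000000 in
theorem relc_78_81 : fixPtsF W_78 3125 253125 = true := by decide +kernel

set_option maxRecDepth 1000000 in
theorem relc_80_7 : fixPtsF W_80 2222 15554 = true := by decide +kernel

set_option maxRecDepth 1000000 in
theorem relc_80_31 : fixPtsF W_80 2222 68882 = true := by decide +kernel

set_option maxRecDepth 1000000 in
theorem relc_80_55 : fixPtsF W_80 2222 122210 = true := by decide +kernel

set_option maxRecDepth 1000000 in
theorem relc_80_79 : fixPtsF W_80 2222 175538 = true := by decide +kernel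

set_option maxRecDepth 1000000 in
theorem relc_80_103 : fixPtsF W_80 2222 228866 = true := by decide +kernel

set_option maxRecDepth 1000000 in
theorem relc_80_127 : fixPtsF W_80 2222 282194 = true := by decide +kernel

set_option maxRecDepth 1000000 in
theorem relc_79_13 : fixPtsF W_79 840 10920 = true := by decide +kernel

set_option maxRecDepth 1000000 in
theorem relc_79_37 : fixPtsF W_79 840 31080 = true := by decide +kernel

set_option maxRecDepth 1000000 in
theorem relc_79_61 : fixPtsF W_79 840 51240 = true := by decide +kernel

set_option maxRecDepth 1000000 in
theorem relc_79_85 : fixPtsF W_79 840 71400 = true := by decide +kernel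

set_option maxRecDepth 1000000 in
theorem relc_79_109 : fixPtsF W_79 840 91560 = true := by decide +kernel

set_option maxRecDepth 1000000 in
theorem relc_79_133 : fixPtsF W_79 840 111720 = true := by decide +kernel

set_option maxRecDepth 1000000 in
theorem relc_79_157 : fixPtsF W_79 840 131880 = true := by decide +kernel

set_option maxRecDepth 1000000 in
theorem relc_79_181 : fixPtsF W_79 840 152040 = true := by decide +kernel

set_option maxRecDepth 1000000 in
theorem relc_79_205 : fixPtsF W_79 840 172200 = true := by decide +kernel

set_option maxRecDepth 1000000 in
theorem relc_79_229 : fixPtsF W_79 840 192360 = true := by decide +kernel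

set_option maxRecDepth 1000000 in
theorem relc_79_253 : fixPtsF W_79 840 212520 = true := by decide +kernel

set_option maxRecDepth 1000000 in
theorem relc_79_277 : fixPtsF W_79 840 232680 = true := by decide +kernel

set_option maxRecDepth 1000000 in
theorem relc_79_301 : fixPtsF W_79 840 252840 = true := by decide +kernel

set_option maxRecDepth 1000000 in
theorem relc_79_325 : fixPtsF W_79 840 273000 = true := by decide +kernel

set_option maxRecDepth 1000000 in
theorem relc_79_349 : fixPtsF W_79 840 293160 = true := by decide +kernel

set_option maxRecDepth 1000000 in
theorem inv_1_2 : invRowFI ctF 306936 1 1 50000 100000 = true := by decide +kernel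

set_option maxRecDepth 1000000 in
theorem inv_5_1 : invRowFI ctF 306936 5 5 50000 50000 = true := by decide +kernel

set_option maxRecDepth 1000000 in
theorem inv_9_1 : invRowFI ctF 306936 9 9 50000 50000 = true := by decide +kernel

set_option maxRecDepth 1000000 in
theorem relc_1_9 : fixPtsF W_1 6939 299997 = true := by decide +kernel

set_option maxRecDepth 1000000 in
theorem relc_58_9 : fixPtsF W_58 6939 299997 = true := by decide +kernel

set_option maxRecDepth 1000000 in
theorem relc_20_6 : fixPtsF W_20 6936 300000 = true := by decide +kernel

set_option maxRecDepth 1000000 in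
theorem relc_52_6 : fixPtsF W_52 6936 300000 = true := by decide +kernel

set_option maxRecDepth 1000000 in
theorem relc_63_3 : fixPtsF W_63 6936 300000 = true := by decide +kernel

end Cfsg.Agent.Helper5.FiZATC
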