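import Cfsg.Agent.Helper5.FiZATCDatD
import Cfsg.Agent.Helper5.FiZATCDatT
import Cfsg.Agent.Helper5.TCIB

/-! kernel checks of the coset table: FiZATC -/

set_option autoImplicit false
set_option Elab.async false

namespace Cfsg.Agent.Helper5.FiZATC
open Cfsg.Agent.Helper5.TC Cfsg.Agent.Helper5.TCI

set_option maxRecDepth 1000000 in
theorem relc_23_1 : fixPtsF W_23 100000 100000 = true := by decide +kernel

set_option maxRecDepth 1000000 in
theorem relc_75_1 : fixPtsF W_75 100000 100000 = true := by decide +kernel

set_option maxRecDepth 1000000 in
theorem relc_7_1 : fixPtsF W_7 50000 50000 = true := by decide +kernel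

set_option maxRecDepth 1000000 in
theorem relc_14_1 : fixPtsF W_14 50000 50000 = true := by decide +kernel

set_option maxRecDepth 1000000 in
theorem relc_18_1 : fixPtsF W_18 50000 50000 = true := by decide +kernel

set_option maxRecDepth 1000000 in
theorem relc_22_1 : fixPtsF W_22 50000 50000 = true := by decide +kernel

set_option maxRecDepth 1000000 in
theorem relc_29_1 : fixPtsF W_29 50000 50000 = true := by decide +kernel

set_option maxRecDepth 1000000 in
theorem relc_34_1 : fixPtsF W_34 50000 50000 = true := by decide +kernel

set_option maxRecDepth 1000000 in
theorem relc_39_1 : fixPtsF W_39 50000 50000 = true := by decide +kernel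

set_option maxRecDepth 1000000 in
theorem relc_45_1 : fixPtsF W_45 50000 50000 = true := by decide +kernel

set_option maxRecDepth 1000000 in
theorem relc_49_1 : fixPtsF W_49 50000 50000 = true := by decide +kernel

set_option maxRecDepth 1000000 in
theorem relc_54_1 : fixPtsF W_54 50000 50000 = true := by decide +kernel

set_option maxRecDepth 1000000 in
theorem relc_60_1 : fixPtsF W_60 50000 50000 = true := by decide +kernel

set_option maxRecDepth 1000000 in
theorem relc_66_1 : fixPtsF W_66 50000 50000 = true := by decide +kernel

set_option maxRecDepth 1000000 in
theorem relc_73_1 : fixPtsF W_73 50000 50000 = true := by decide +kernel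

set_option maxRecDepth 1000000 in
theorem relc_8_4 : fixPtsF W_8 33333 133332 = true := by decide +kernel

set_option maxRecDepth 1000000 in
theorem relc_25_1 : fixPtsF W_25 33333 33333 = true := by decide +kernel

set_option maxRecDepth 1000000 in
theorem relc_43_7 : fixPtsF W_43 33333 233331 = true := by decide +kernel

set_option maxRecDepth 1000000 in
theorem relc_71_4 : fixPtsF W_71 33333 133332 = true := by decide +kernel

set_option maxRecDepth 1000000 in
theorem relc_78_10 : fixPtsF W_78 3125 31250 = true := by decide +kernel

set_option maxRecDepth 1000000 in
theorem relc_78_34 : fixPtsF W_78 3125 106250 = true := by decide +kernel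

set_option maxRecDepth 1000000 in
theorem relc_78_58 : fixPtsF W_78 3125 181250 = true := by decide +kernel

set_option maxRecDepth 1000000 in
theorem relc_78_82 : fixPtsF W_78 3125 256250 = true := by decide +kernel

set_option maxRecDepth 1000000 in
theorem relc_80_8 : fixPtsF W_80 2222 17776 = true := by decide +kernel

set_option maxRecDepth 1000000 in
theorem relc_80_32 : fixPtsF W_80 2222 71104 = true := by decide +kernel

set_option maxRecDepth 1000000 in
theorem relc_80_56 : fixPtsF W_80 2222 124432 = true := by decide +kernel

set_option maxRecDepth 1000000 in
theorem relc_80_80 : fixPtsF W_80 2222 177760 = true := by decide +kernel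

set_option maxRecDepth 1000000 in
theorem relc_80_104 : fixPtsF W_80 2222 231088 = true := by decide +kernel

set_option maxRecDepth 1000000 in
theorem relc_80_128 : fixPtsF W_80 2222 284416 = true := by decide +kernel

set_option maxRecDepth 1000000 in
theorem relc_79_14 : fixPtsF W_79 840 11760 = true := by decide +kernel

set_option maxRecDepth 1000000 in
theorem relc_79_38 : fixPtsF W_79 840 31920 = true := by decide +kernel

set_option maxRecDepth 1000000 in
theorem relc_79_62 : fixPtsF W_79 840 52080 = true := by decide +kernel

set_option maxRecDepth 1000000 in
theorem relc_79_86 : fixPtsF W_79 840 72240 = true := by decide +kernel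

set_option maxRecDepth 1000000 in
theorem relc_79_110 : fixPtsF W_79 840 92400 = true := by decide +kernel

set_option maxRecDepth 1000000 in
theorem relc_79_134 : fixPtsF W_79 840 112560 = true := by decide +kernel

set_option maxRecDepth 1000000 in
theorem relc_79_158 : fixPtsF W_79 840 132720 = true := by decide +kernel

set_option maxRecDepth 1000000 in
theorem relc_79_182 : fixPtsF W_79 840 152880 = true := by decide +kernel

set_option maxRecDepth 1000000 in
theorem relc_79_206 : fixPtsF W_79 840 173040 = true := by decide +kernel

set_option maxRecDepth 1000000 in
theorem relc_79_230 : fixPtsF W_79 840 193200 = true := by decide +kernel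

set_option maxRecDepth 1000000 in
theorem relc_79_254 : fixPtsF W_79 840 213360 = true := by decide +kernel

set_option maxRecDepth 1000000 in
theorem relc_79_278 : fixPtsF W_79 840 233520 = true := by decide +kernel

set_option maxRecDepth 1000000 in
theorem relc_79_302 : fixPtsF W_79 840 253680 = true := by decide +kernel

set_option maxRecDepth 1000000 in
theorem relc_79_326 : fixPtsF W_79 840 273840 = true := by decide +kernel

set_option maxRecDepth 1000000 in
theorem relc_79_350 : fixPtsF W_79 840 294000 = true := by decide +kernel

set_option maxRecDepth 1000000 in
theorem inv_1_3 : invRowFI ctF 306936 1 1 50000 150000 = true := by decide +kernel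

set_option maxRecDepth 1000000 in
theorem inv_5_2 : invRowFI ctF 306936 5 5 50000 100000 = true := by decide +kernel

set_option maxRecDepth 1000000 in
theorem inv_9_2 : invRowFI ctF 306936 9 9 50000 100000 = true := by decide +kernel

set_option maxRecDepth 1000000 in
theorem relc_8_9 : fixPtsF W_8 6939 299997 = true := by decide +kernel

set_option maxRecDepth 1000000 in
theorem relc_65_9 : fixPtsF W_65 6939 299997 = true := by decide +kernel

set_option maxRecDepth 1000000 in
theorem relc_21_6 : fixPtsF W_21 6936 300000 = true := by decide +kernel

set_option maxRecDepth 1000000 in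
theorem relc_53_6 : fixPtsF W_53 6936 300000 = true := by decide +kernel

set_option maxRecDepth 1000000 in
theorem relc_68_3 : fixPtsF W_68 6936 300000 = true := by decide +kernel

end Cfsg.Agent.Helper5.FiZATC
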