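import Cfsg.Agent.Helper5.FiZATCDatD
import Cfsg.Agent.Helper5.FiZATCDatT
import Cfsg.Agent.Helper5.TCIB

/-! kernel checks of the coset table: FiZATC -/

set_option autoImplicit false
set_option Elab.async false

namespace Cfsg.Agent.Helper5.FiZATC
open Cfsg.Agent.Helper5.TC Cfsg.Agent.Helper5.TCI

set_option maxRecDepth 1000000 in
theorem relc_23_2 : fixPtsF W_23 100000 200000 = true := by decide +kernel

set_option maxRecDepth 1000000 in
theorem relc_75_2 : fixPtsF W_75 100000 200000 = true := by decide +kernel

set_option maxRecDepth 1000000 in
theorem relc_7_2 : fixPtsF W_7 50000 100000 = true := by decide +kernel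

set_option maxRecDepth 1000000 in
theorem relc_14_2 : fixPtsF W_14 50000 100000 = true := by decide +kernel

set_option maxRecDepth 1000000 in
theorem relc_18_2 : fixPtsF W_18 50000 100000 = true := by decide +kernel

set_option maxRecDepth 1000000 in
theorem relc_22_2 : fixPtsF W_22 50000 100000 = true := by decide +kernel

set_option maxRecDepth 1000000 in
theorem relc_29_2 : fixPtsF W_29 50000 100000 = true := by decide +kernel

set_option maxRecDepth 1000000 in
theorem relc_34_2 : fixPtsF W_34 50000 100000 = true := by decide +kernel

set_option maxRecDepth 1000000 in
theorem relc_39_2 : fixPtsF W_39 50000 100000 = true := by decide +kernel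

set_option maxRecDepth 1000000 in
theorem relc_45_2 : fixPtsF W_45 50000 100000 = true := by decide +kernel

set_option maxRecDepth 1000000 in
theorem relc_49_2 : fixPtsF W_49 50000 100000 = true := by decide +kernel

set_option maxRecDepth 1000000 in
theorem relc_54_2 : fixPtsF W_54 50000 100000 = true := by decide +kernel

set_option maxRecDepth 1000000 in
theorem relc_60_2 : fixPtsF W_60 50000 100000 = true := by decide +kernel

set_option maxRecDepth 1000000 in
theorem relc_66_2 : fixPtsF W_66 50000 100000 = true := by decide +kernel

set_option maxRecDepth 1000000 in
theorem relc_73_2 : fixPtsF W_73 50000 100000 = true := by decide +kernel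

set_option maxRecDepth 1000000 in
theorem relc_8_5 : fixPtsF W_8 33333 166665 = true := by decide +kernel

set_option maxRecDepth 1000000 in
theorem relc_25_2 : fixPtsF W_25 33333 66666 = true := by decide +kernel

set_option maxRecDepth 1000000 in
theorem relc_43_8 : fixPtsF W_43 33333 266664 = true := by decide +kernel

set_option maxRecDepth 1000000 in
theorem relc_71_5 : fixPtsF W_71 33333 166665 = true := by decide +kernel

set_option maxRecDepth 1000000 in
theorem relc_78_11 : fixPtsF W_78 3125 34375 = true := by decide +kernel

set_option maxRecDepth 1000000 in
theorem relc_78_35 : fixPtsF W_78 3125 109375 = true := by decide +kernel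

set_option maxRecDepth 1000000 in
theorem relc_78_59 : fixPtsF W_78 3125 184375 = true := by decide +kernel

set_option maxRecDepth 1000000 in
theorem relc_78_83 : fixPtsF W_78 3125 259375 = true := by decide +kernel

set_option maxRecDepth 1000000 in
theorem relc_80_9 : fixPtsF W_80 2222 19998 = true := by decide +kernel

set_option maxRecDepth 1000000 in
theorem relc_80_33 : fixPtsF W_80 2222 73326 = true := by decide +kernel

set_option maxRecDepth 1000000 in
theorem relc_80_57 : fixPtsF W_80 2222 126654 = true := by decide +kernel

set_option maxRecDepth 1000000 in
theorem relc_80_81 : fixPtsF W_80 2222 179982 = true := by decide +kernel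

set_option maxRecDepth 1000000 in
theorem relc_80_105 : fixPtsF W_80 2222 233310 = true := by decide +kernel

set_option maxRecDepth 1000000 in
theorem relc_80_129 : fixPtsF W_80 2222 286638 = true := by decide +kernel

set_option maxRecDepth 1000000 in
theorem relc_79_15 : fixPtsF W_79 840 12600 = true := by decide +kernel

set_option maxRecDepth 1000000 in
theorem relc_79_39 : fixPtsF W_79 840 32760 = true := by decide +kernel

set_option maxRecDepth 1000000 in
theorem relc_79_63 : fixPtsF W_79 840 52920 = true := by decide +kernel

set_option maxRecDepth 1000000 in
theorem relc_79_87 : fixPtsF W_79 840 73080 = true := by decide +kernel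

set_option maxRecDepth 1000000 in
theorem relc_79_111 : fixPtsF W_79 840 93240 = true := by decide +kernel

set_option maxRecDepth 1000000 in
theorem relc_79_135 : fixPtsF W_79 840 113400 = true := by decide +kernel

set_option maxRecDepth 1000000 in
theorem relc_79_159 : fixPtsF W_79 840 133560 = true := by decide +kernel

set_option maxRecDepth 1000000 in
theorem relc_79_183 : fixPtsF W_79 840 153720 = true := by decide +kernel

set_option maxRecDepth 1000000 in
theorem relc_79_207 : fixPtsF W_79 840 173880 = true := by decide +kernel

set_option maxRecDepth 1000000 in
theorem relc_79_231 : fixPtsF W_79 840 194040 = true := by decide +kernel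

set_option maxRecDepth 1000000 in
theorem relc_79_255 : fixPtsF W_79 840 214200 = true := by decide +kernel

set_option maxRecDepth 1000000 in
theorem relc_79_279 : fixPtsF W_79 840 234360 = true := by decide +kernel

set_option maxRecDepth 1000000 in
theorem relc_79_303 : fixPtsF W_79 840 254520 = true := by decide +kernel

set_option maxRecDepth 1000000 in
theorem relc_79_327 : fixPtsF W_79 840 274680 = true := by decide +kernel

set_option maxRecDepth 1000000 in
theorem relc_79_351 : fixPtsF W_79 840 294840 = true := by decide +kernel

set_option maxRecDepth 1000000 in
theorem inv_1_4 : invRowFI ctF 306936 1 1 50000 200000 = true := by decide +kernel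

set_option maxRecDepth 1000000 in
theorem inv_5_3 : invRowFI ctF 306936 5 5 50000 150000 = true := by decide +kernel

set_option maxRecDepth 1000000 in
theorem inv_9_3 : invRowFI ctF 306936 9 9 50000 150000 = true := by decide +kernel

set_option maxRecDepth 1000000 in
theorem relc_13_9 : fixPtsF W_13 6939 299997 = true := by decide +kernel

set_option maxRecDepth 1000000 in
theorem relc_71_9 : fixPtsF W_71 6939 299997 = true := by decide +kernel

set_option maxRecDepth 1000000 in
theorem relc_22_6 : fixPtsF W_22 6936 300000 = true := by decide +kernel

set_option maxRecDepth 1000000 in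
theorem relc_54_6 : fixPtsF W_54 6936 300000 = true := by decide +kernel

set_option maxRecDepth 1000000 in
theorem relc_72_3 : fixPtsF W_72 6936 300000 = true := by decide +kernel

end Cfsg.Agent.Helper5.FiZATC
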