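import Cfsg.Agent.Helper5.FiZATCDatD
import Cfsg.Agent.Helper5.FiZATCDatT
import Cfsg.Agent.Helper5.TCIB

/-! kernel checks of the coset table: FiZATC -/

set_option autoImplicit false
set_option Elab.async false

namespace Cfsg.Agent.Helper5.FiZATC
open Cfsg.Agent.Helper5.TC Cfsg.Agent.Helper5.TCI

set_option maxRecDepth 1000000 in
theorem relc_33_0 : fixPtsF W_33 100000 0 = true := by decide +kernel

set_option maxRecDepth 1000000 in
theorem relc_77_0 : fixPtsF W_77 100000 0 = true := by decide +kernel

set_option maxRecDepth 1000000 in
theorem relc_7_3 : fixPtsF W_7 50000 150000 = true := by decide +kernel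

set_option maxRecDepth 1000000 in
theorem relc_14_3 : fixPtsF W_14 50000 150000 = true := by decide +kernel

set_option maxRecDepth 1000000 in
theorem relc_18_3 : fixPtsF W_18 50000 150000 = true := by decide +kernel

set_option maxRecDepth 1000000 in
theorem relc_22_3 : fixPtsF W_22 50000 150000 = true := by decide +kernel

set_option maxRecDepth 1000000 in
theorem relc_29_3 : fixPtsF W_29 50000 150000 = true := by decide +kernel

set_option maxRecDepth 1000000 in
theorem relc_34_3 : fixPtsF W_34 50000 150000 = true := by decide +kernel

set_option maxRecDepth 1000000 in
theorem relc_39_3 : fixPtsF W_39 50000 150000 = true := by decide +kernel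

set_option maxRecDepth 1000000 in
theorem relc_45_3 : fixPtsF W_45 50000 150000 = true := by decide +kernel

set_option maxRecDepth 1000000 in
theorem relc_49_3 : fixPtsF W_49 50000 150000 = true := by decide +kernel

set_option maxRecDepth 1000000 in
theorem relc_54_3 : fixPtsF W_54 50000 150000 = true := by decide +kernel

set_option maxRecDepth 1000000 in
theorem relc_60_3 : fixPtsF W_60 50000 150000 = true := by decide +kernel

set_option maxRecDepth 1000000 in
theorem relc_66_3 : fixPtsF W_66 50000 150000 = true := by decide +kernel

set_option maxRecDepth 1000000 in
theorem relc_73_3 : fixPtsF W_73 50000 150000 = true := by decide +kernel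

set_option maxRecDepth 1000000 in
theorem relc_8_6 : fixPtsF W_8 33333 199998 = true := by decide +kernel

set_option maxRecDepth 1000000 in
theorem relc_25_3 : fixPtsF W_25 33333 99999 = true := by decide +kernel

set_option maxRecDepth 1000000 in
theorem relc_58_0 : fixPtsF W_58 33333 0 = true := by decide +kernel

set_option maxRecDepth 1000000 in
theorem relc_71_6 : fixPtsF W_71 33333 199998 = true := by decide +kernel

set_option maxRecDepth 1000000 in
theorem relc_78_12 : fixPtsF W_78 3125 37500 = true := by decide +kernel

set_option maxRecDepth 1000000 in
theorem relc_78_36 : fixPtsF W_78 3125 112500 = true := by decide +kernel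

set_option maxRecDepth 1000000 in
theorem relc_78_60 : fixPtsF W_78 3125 187500 = true := by decide +kernel

set_option maxRecDepth 1000000 in
theorem relc_78_84 : fixPtsF W_78 3125 262500 = true := by decide +kernel

set_option maxRecDepth 1000000 in
theorem relc_80_10 : fixPtsF W_80 2222 22220 = true := by decide +kernel

set_option maxRecDepth 1000000 in
theorem relc_80_34 : fixPtsF W_80 2222 75548 = true := by decide +kernel

set_option maxRecDepth 1000000 in
theorem relc_80_58 : fixPtsF W_80 2222 128876 = true := by decide +kernel

set_option maxRecDepth 1000000 in
theorem relc_80_82 : fixPtsF W_80 2222 182204 = true := by decide +kernel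

set_option maxRecDepth 1000000 in
theorem relc_80_106 : fixPtsF W_80 2222 235532 = true := by decide +kernel

set_option maxRecDepth 1000000 in
theorem relc_80_130 : fixPtsF W_80 2222 288860 = true := by decide +kernel

set_option maxRecDepth 1000000 in
theorem relc_79_16 : fixPtsF W_79 840 13440 = true := by decide +kernel

set_option maxRecDepth 1000000 in
theorem relc_79_40 : fixPtsF W_79 840 33600 = true := by decide +kernel

set_option maxRecDepth 1000000 in
theorem relc_79_64 : fixPtsF W_79 840 53760 = true := by decide +kernel

set_option maxRecDepth 1000000 in
theorem relc_79_88 : fixPtsF W_79 840 73920 = true := by decide +kernel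

set_option maxRecDepth 1000000 in
theorem relc_79_112 : fixPtsF W_79 840 94080 = true := by decide +kernel

set_option maxRecDepth 1000000 in
theorem relc_79_136 : fixPtsF W_79 840 114240 = true := by decide +kernel

set_option maxRecDepth 1000000 in
theorem relc_79_160 : fixPtsF W_79 840 134400 = true := by decide +kernel

set_option maxRecDepth 1000000 in
theorem relc_79_184 : fixPtsF W_79 840 154560 = true := by decide +kernel

set_option maxRecDepth 1000000 in
theorem relc_79_208 : fixPtsF W_79 840 174720 = true := by decide +kernel

set_option maxRecDepth 1000000 in
theorem relc_79_232 : fixPtsF W_79 840 194880 = true := by decide +kernel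

set_option maxRecDepth 1000000 in
theorem relc_79_256 : fixPtsF W_79 840 215040 = true := by decide +kernel

set_option maxRecDepth 1000000 in
theorem relc_79_280 : fixPtsF W_79 840 235200 = true := by decide +kernel

set_option maxRecDepth 1000000 in
theorem relc_79_304 : fixPtsF W_79 840 255360 = true := by decide +kernel

set_option maxRecDepth 1000000 in
theorem relc_79_328 : fixPtsF W_79 840 275520 = true := by decide +kernel

set_option maxRecDepth 1000000 in
theorem relc_79_352 : fixPtsF W_79 840 295680 = true := by decide +kernel

set_option maxRecDepth 1000000 in
theorem inv_1_5 : invRowFI ctF 306936 1 1 50000 250000 = true := by decide +kernel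

set_option maxRecDepth 1000000 in
theorem inv_5_4 : invRowFI ctF 306936 5 5 50000 200000 = true := by decide +kernel

set_option maxRecDepth 1000000 in
theorem inv_9_4 : invRowFI ctF 306936 9 9 50000 200000 = true := by decide +kernel

set_option maxRecDepth 1000000 in
theorem relc_24_9 : fixPtsF W_24 6939 299997 = true := by decide +kernel

set_option maxRecDepth 1000000 in
theorem relc_76_9 : fixPtsF W_76 6939 299997 = true := by decide +kernel

set_option maxRecDepth 1000000 in
theorem relc_26_6 : fixPtsF W_26 6936 300000 = true := by decide +kernel

set_option maxRecDepth 1000000 in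
theorem relc_55_6 : fixPtsF W_55 6936 300000 = true := by decide +kernel

set_option maxRecDepth 1000000 in
theorem relc_75_3 : fixPtsF W_75 6936 300000 = true := by decide +kernel

end Cfsg.Agent.Helper5.FiZATC
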