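import Cfsg.Agent.Helper5.FiZATCChkE0
import Cfsg.Agent.Helper5.FiZATCChkE1
import Cfsg.Agent.Helper5.FiZATCChkE2
import Cfsg.Agent.Helper5.FiZATCChkE3
import Cfsg.Agent.Helper5.FiZATCChkE4
import Cfsg.Agent.Helper5.FiZATCChkE5
import Cfsg.Agent.Helper5.FiZATCChkE6
import Cfsg.Agent.Helper5.FiZATCChkE7
import Cfsg.Agent.Helper5.FiZATCChkE8
import Cfsg.Agent.Helper5.FiZATCChkE9
import Cfsg.Agent.Helper5.FiZATCChkE10
import Cfsg.Agent.Helper5.FiZATCChkE11
import Cfsg.Agent.Helper5.FiZATCChkE12
import Cfsg.Agent.Helper5.FiZATCChkE13
import Cfsg.Agent.Helper5.FiZATCChkE14
import Cfsg.Agent.Helper5.FiZATCChkE15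
import Cfsg.Agent.Helper5.FiZATCChkE16
import Cfsg.Agent.Helper5.FiZATCChkE17
import Cfsg.Agent.Helper5.FiZATCChkE18
import Cfsg.Agent.Helper5.FiZATCChkE19
import Cfsg.Agent.Helper5.FiZATCChkE20
import Cfsg.Agent.Helper5.FiZATCChkE21
import Cfsg.Agent.Helper5.FiZATCChkE22
import Cfsg.Agent.Helper5.FiZATCChkE23
import Cfsg.Agent.Helper5.FiZATCChkE24
import Cfsg.Agent.Helper5.FiZATCChkE25
import Cfsg.Agent.Helper5.FiZATCChkE26
import Cfsg.Agent.Helper5.FiZATCChkE27
import Cfsg.Agent.Helper5.FiZATCChkE28
import Cfsg.Agent.Helper5.FiZATCChkE29
import Cfsg.Agent.Helper5.FiZATCChkE30
import Cfsg.Agent.Helper5.FiZATCChkE31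
import Cfsg.Agent.Helper5.FiZATCChkE32
import Cfsg.Agent.Helper5.FiZATCChkE33
import Cfsg.Agent.Helper5.FiZATCChkE34
import Cfsg.Agent.Helper5.FiZATCChkE35
import Cfsg.Agent.Helper5.FiZATCChkE36
import Cfsg.Agent.Helper5.FiZATCChkE37
import Cfsg.Agent.Helper5.FiZATCChkE38
import Cfsg.Agent.Helper5.FiZATCChkE39
import Cfsg.Agent.Helper5.FiZATCChkE40
import Cfsg.Agent.Helper5.FiZATCChkE41
import Cfsg.Agent.Helper5.FiZATCChkE42
import Cfsg.Agent.Helper5.FiZATCChkE43
import Cfsg.Agent.Helper5.FiZATCChkE44
import Cfsg.Agent.Helper5.FiZATCChkE45
import Cfsg.Agent.Helper5.FiZATCChkE46
import Cfsg.Agent.Helper5.FiZATCChkE47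
import Cfsg.Agent.Helper5.FiZATCChkR0
import Cfsg.Agent.Helper5.FiZATCChkR1
import Cfsg.Agent.Helper5.FiZATCChkR2
import Cfsg.Agent.Helper5.FiZATCChkR3
import Cfsg.Agent.Helper5.FiZATCChkR4
import Cfsg.Agent.Helper5.FiZATCChkR5
import Cfsg.Agent.Helper5.FiZATCChkR6
import Cfsg.Agent.Helper5.FiZATCChkR7
import Cfsg.Agent.Helper5.FiZATCChkR8
import Cfsg.Agent.Helper5.FiZATCChkR9
import Cfsg.Agent.Helper5.FiZATCChkR10
import Cfsg.Agent.Helper5.FiZATCChkR11
import Cfsg.Agent.Helper5.FiZATCChkR12
import Cfsg.Agent.Helper5.FiZATCChkR13
import Cfsg.Agent.Helper5.FiZATCChkR14
import Cfsg.Agent.Helper5.FiZATCChkR15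
import Cfsg.Agent.Helper5.FiZATCChkR16
import Cfsg.Agent.Helper5.FiZATCChkR17
import Cfsg.Agent.Helper5.FiZATCChkR18
import Cfsg.Agent.Helper5.FiZATCChkR19
import Cfsg.Agent.Helper5.FiZATCChkR20
import Cfsg.Agent.Helper5.FiZATCChkR21
import Cfsg.Agent.Helper5.FiZATCChkR22
import Cfsg.Agent.Helper5.FiZATCChkR23
import Cfsg.Agent.Helper5.FiZATCChkA
import Cfsg.Agent.Helper5.TCIB

/-! summary of the kernel checks: FiZATC -/

set_option autoImplicit false
set_option Elab.async false

namespace Cfsg.Agent.Helper5.FiZATC
open Cfsg.Agent.Helper5.TC Cfsg.Agent.Helper5.TCI

theorem edgesx_0 : ∀ v, v < 307604 → edgeOKI iota E 0 v = true := by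
  intro v hv
  rcases Nat.lt_or_ge v 155623 with h | h
  · rcases Nat.lt_or_ge v 77851 with h | h
    · rcases Nat.lt_or_ge v 37802 with h | h
      · rcases Nat.lt_or_ge v 17926 with h | h
        · rcases Nat.lt_or_ge v 9028 with h | h
          · rcases Nat.lt_or_ge v 3642 with h | h
            · rcases Nat.lt_or_ge v 1729 with h | h
              · exact edgesRangeI_spec iota E 0 1729 0 edges_0_0 v (by omega) (by omega)
              · exact edgesRangeI_spec iota E 0 1913 1729 edges_0_1 v (by omega) (by omega)
            · rcases Nat.lt_or_ge v 5544 with h | h
              · exact edgesRangeI_spec iota E 0 1902 3642 edges_0_2 v (by omega) (by omega)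
              · rcases Nat.lt_or_ge v 7294 with h | h
                · exact edgesRangeI_spec iota E 0 1750 5544 edges_0_3 v (by omega) (by omega)
                · exact edgesRangeI_spec iota E 0 1734 7294 edges_0_4 v (by omega) (by omega)
          · rcases Nat.lt_or_ge v 12617 with h | h
            · rcases Nat.lt_or_ge v 10809 with h | h
              · exact edgesRangeI_spec iota E 0 1781 9028 edges_0_5 v (by omega) (by omega)
              · exact edgesRangeI_spec iota E 0 1808 10809 edges_0_6 v (by omega) (by omega)
            · rcases Nat.lt_or_ge v 14344 with h | h
              · exact edgesRangeI_spec iota E 0 1727 12617 edges_0_7 v (by omega) (by omega)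
              · rcases Nat.lt_or_ge v 16204 with h | h
                · exact edgesRangeI_spec iota E 0 1860 14344 edges_0_8 v (by omega) (by omega)
                · exact edgesRangeI_spec iota E 0 1722 16204 edges_0_9 v (by omega) (by omega)
        · rcases Nat.lt_or_ge v 26994 with h | h
          · rcases Nat.lt_or_ge v 21583 with h | h
            · rcases Nat.lt_or_ge v 19758 with h | h
              · exact edgesRangeI_spec iota E 0 1832 17926 edges_0_10 v (by omega) (by omega)
              · exact edgesRangeI_spec iota E 0 1825 19758 edges_0_11 v (by omega) (by omega)
            · rcases Nat.lt_or_ge v 23312 with h | h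
              · exact edgesRangeI_spec iota E 0 1729 21583 edges_0_12 v (by omega) (by omega)
              · rcases Nat.lt_or_ge v 25168 with h | h
                · exact edgesRangeI_spec iota E 0 1856 23312 edges_0_13 v (by omega) (by omega)
                · exact edgesRangeI_spec iota E 0 1826 25168 edges_0_14 v (by omega) (by omega)
          · rcases Nat.lt_or_ge v 32424 with h | h
            · rcases Nat.lt_or_ge v 28771 with h | h
              · exact edgesRangeI_spec iota E 0 1777 26994 edges_0_15 v (by omega) (by omega)
              · rcases Nat.lt_or_ge v 30555 with h | h
                · exact edgesRangeI_spec iota E 0 1784 28771 edges_0_16 v (by omega) (by omega)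
                · exact edgesRangeI_spec iota E 0 1869 30555 edges_0_17 v (by omega) (by omega)
            · rcases Nat.lt_or_ge v 34265 with h | h
              · exact edgesRangeI_spec iota E 0 1841 32424 edges_0_18 v (by omega) (by omega)
              · rcases Nat.lt_or_ge v 36046 with h | h
                · exact edgesRangeI_spec iota E 0 1781 34265 edges_0_19 v (by omega) (by omega)
                · exact edgesRangeI_spec iota E 0 1756 36046 edges_0_20 v (by omega) (by omega)
      · rcases Nat.lt_or_ge v 57843 with h | h
        · rcases Nat.lt_or_ge v 46900 with h | h
          · rcases Nat.lt_or_ge v 41515 with h | h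
            · rcases Nat.lt_or_ge v 39637 with h | h
              · exact edgesRangeI_spec iota E 0 1835 37802 edges_0_21 v (by omega) (by omega)
              · exact edgesRangeI_spec iota E 0 1878 39637 edges_0_22 v (by omega) (by omega)
            · rcases Nat.lt_or_ge v 43383 with h | h
              · exact edgesRangeI_spec iota E 0 1868 41515 edges_0_23 v (by omega) (by omega)
              · rcases Nat.lt_or_ge v 45145 with h | h
                · exact edgesRangeI_spec iota E 0 1762 43383 edges_0_24 v (by omega) (by omega)
                · exact edgesRangeI_spec iota E 0 1755 45145 edges_0_25 v (by omega) (by omega)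
          · rcases Nat.lt_or_ge v 52421 with h | h
            · rcases Nat.lt_or_ge v 48741 with h | h
              · exact edgesRangeI_spec iota E 0 1841 46900 edges_0_26 v (by omega) (by omega)
              · rcases Nat.lt_or_ge v 50521 with h | h
                · exact edgesRangeI_spec iota E 0 1780 48741 edges_0_27 v (by omega) (by omega)
                · exact edgesRangeI_spec iota E 0 1900 50521 edges_0_28 v (by omega) (by omega)
            · rcases Nat.lt_or_ge v 54257 with h | h
              · exact edgesRangeI_spec iota E 0 1836 52421 edges_0_29 v (by omega) (by omega)
              · rcases Nat.lt_or_ge v 56057 with h | h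
                · exact edgesRangeI_spec iota E 0 1800 54257 edges_0_30 v (by omega) (by omega)
                · exact edgesRangeI_spec iota E 0 1786 56057 edges_0_31 v (by omega) (by omega)
        · rcases Nat.lt_or_ge v 66952 with h | h
          · rcases Nat.lt_or_ge v 61449 with h | h
            · rcases Nat.lt_or_ge v 59611 with h | h
              · exact edgesRangeI_spec iota E 0 1768 57843 edges_0_32 v (by omega) (by omega)
              · exact edgesRangeI_spec iota E 0 1838 59611 edges_0_33 v (by omega) (by omega)
            · rcases Nat.lt_or_ge v 63221 with h | h
              · exact edgesRangeI_spec iota E 0 1772 61449 edges_0_34 v (by omega) (by omega)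
              · rcases Nat.lt_or_ge v 65075 with h | h
                · exact edgesRangeI_spec iota E 0 1854 63221 edges_0_35 v (by omega) (by omega)
                · exact edgesRangeI_spec iota E 0 1877 65075 edges_0_36 v (by omega) (by omega)
          · rcases Nat.lt_or_ge v 72457 with h | h
            · rcases Nat.lt_or_ge v 68870 with h | h
              · exact edgesRangeI_spec iota E 0 1918 66952 edges_0_37 v (by omega) (by omega)
              · rcases Nat.lt_or_ge v 70638 with h | h
                · exact edgesRangeI_spec iota E 0 1768 68870 edges_0_38 v (by omega) (by omega)
                · exact edgesRangeI_spec iota E 0 1819 70638 edges_0_39 v (by omega) (by omega)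
            · rcases Nat.lt_or_ge v 74243 with h | h
              · exact edgesRangeI_spec iota E 0 1786 72457 edges_0_40 v (by omega) (by omega)
              · rcases Nat.lt_or_ge v 76054 with h | h
                · exact edgesRangeI_spec iota E 0 1811 74243 edges_0_41 v (by omega) (by omega)
                · exact edgesRangeI_spec iota E 0 1797 76054 edges_0_42 v (by omega) (by omega)
    · rcases Nat.lt_or_ge v 115744 with h | h
      · rcases Nat.lt_or_ge v 95924 with h | h
        · rcases Nat.lt_or_ge v 87090 with h | h
          · rcases Nat.lt_or_ge v 81549 with h | h
            · rcases Nat.lt_or_ge v 79612 with h | h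
              · exact edgesRangeI_spec iota E 0 1761 77851 edges_0_43 v (by omega) (by omega)
              · exact edgesRangeI_spec iota E 0 1937 79612 edges_0_44 v (by omega) (by omega)
            · rcases Nat.lt_or_ge v 83353 with h | h
              · exact edgesRangeI_spec iota E 0 1804 81549 edges_0_45 v (by omega) (by omega)
              · rcases Nat.lt_or_ge v 85326 with h | h
                · exact edgesRangeI_spec iota E 0 1973 83353 edges_0_46 v (by omega) (by omega)
                · exact edgesRangeI_spec iota E 0 1764 85326 edges_0_47 v (by omega) (by omega)
          · rcases Nat.lt_or_ge v 90564 with h | h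
            · rcases Nat.lt_or_ge v 88825 with h | h
              · exact edgesRangeI_spec iota E 0 1735 87090 edges_0_48 v (by omega) (by omega)
              · exact edgesRangeI_spec iota E 0 1739 88825 edges_0_49 v (by omega) (by omega)
            · rcases Nat.lt_or_ge v 92348 with h | h
              · exact edgesRangeI_spec iota E 0 1784 90564 edges_0_50 v (by omega) (by omega)
              · rcases Nat.lt_or_ge v 94128 with h | h
                · exact edgesRangeI_spec iota E 0 1780 92348 edges_0_51 v (by omega) (by omega)
                · exact edgesRangeI_spec iota E 0 1796 94128 edges_0_52 v (by omega) (by omega)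
        · rcases Nat.lt_or_ge v 105228 with h | h
          · rcases Nat.lt_or_ge v 99700 with h | h
            · rcases Nat.lt_or_ge v 97734 with h | h
              · exact edgesRangeI_spec iota E 0 1810 95924 edges_0_53 v (by omega) (by omega)
              · exact edgesRangeI_spec iota E 0 1966 97734 edges_0_54 v (by omega) (by omega)
            · rcases Nat.lt_or_ge v 101541 with h | h
              · exact edgesRangeI_spec iota E 0 1841 99700 edges_0_55 v (by omega) (by omega)
              · rcases Nat.lt_or_ge v 103433 with h | h
                · exact edgesRangeI_spec iota E 0 1892 101541 edges_0_56 v (by omega) (by omega)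
                · exact edgesRangeI_spec iota E 0 1795 103433 edges_0_57 v (by omega) (by omega)
          · rcases Nat.lt_or_ge v 110446 with h | h
            · rcases Nat.lt_or_ge v 106961 with h | h
              · exact edgesRangeI_spec iota E 0 1733 105228 edges_0_58 v (by omega) (by omega)
              · rcases Nat.lt_or_ge v 108702 with h | h
                · exact edgesRangeI_spec iota E 0 1741 106961 edges_0_59 v (by omega) (by omega)
                · exact edgesRangeI_spec iota E 0 1744 108702 edges_0_60 v (by omega) (by omega)
            · rcases Nat.lt_or_ge v 112234 with h | h
              · exact edgesRangeI_spec iota E 0 1788 110446 edges_0_61 v (by omega) (by omega)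
              · rcases Nat.lt_or_ge v 114040 with h | h
                · exact edgesRangeI_spec iota E 0 1806 112234 edges_0_62 v (by omega) (by omega)
                · exact edgesRangeI_spec iota E 0 1704 114040 edges_0_63 v (by omega) (by omega)
      · rcases Nat.lt_or_ge v 135629 with h | h
        · rcases Nat.lt_or_ge v 125079 with h | h
          · rcases Nat.lt_or_ge v 119537 with h | h
            · rcases Nat.lt_or_ge v 117567 with h | h
              · exact edgesRangeI_spec iota E 0 1823 115744 edges_0_64 v (by omega) (by omega)
              · exact edgesRangeI_spec iota E 0 1970 117567 edges_0_65 v (by omega) (by omega)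
            · rcases Nat.lt_or_ge v 121459 with h | h
              · exact edgesRangeI_spec iota E 0 1922 119537 edges_0_66 v (by omega) (by omega)
              · rcases Nat.lt_or_ge v 123287 with h | h
                · exact edgesRangeI_spec iota E 0 1828 121459 edges_0_67 v (by omega) (by omega)
                · exact edgesRangeI_spec iota E 0 1792 123287 edges_0_68 v (by omega) (by omega)
          · rcases Nat.lt_or_ge v 130284 with h | h
            · rcases Nat.lt_or_ge v 126849 with h | h
              · exact edgesRangeI_spec iota E 0 1770 125079 edges_0_69 v (by omega) (by omega)
              · rcases Nat.lt_or_ge v 128594 with h | h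
                · exact edgesRangeI_spec iota E 0 1745 126849 edges_0_70 v (by omega) (by omega)
                · exact edgesRangeI_spec iota E 0 1690 128594 edges_0_71 v (by omega) (by omega)
            · rcases Nat.lt_or_ge v 132066 with h | h
              · exact edgesRangeI_spec iota E 0 1782 130284 edges_0_72 v (by omega) (by omega)
              · rcases Nat.lt_or_ge v 133832 with h | h
                · exact edgesRangeI_spec iota E 0 1766 132066 edges_0_73 v (by omega) (by omega)
                · exact edgesRangeI_spec iota E 0 1797 133832 edges_0_74 v (by omega) (by omega)
        · rcases Nat.lt_or_ge v 145020 with h | h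
          · rcases Nat.lt_or_ge v 139231 with h | h
            · rcases Nat.lt_or_ge v 137407 with h | h
              · exact edgesRangeI_spec iota E 0 1778 135629 edges_0_75 v (by omega) (by omega)
              · exact edgesRangeI_spec iota E 0 1824 137407 edges_0_76 v (by omega) (by omega)
            · rcases Nat.lt_or_ge v 141276 with h | h
              · exact edgesRangeI_spec iota E 0 2045 139231 edges_0_77 v (by omega) (by omega)
              · rcases Nat.lt_or_ge v 143196 with h | h
                · exact edgesRangeI_spec iota E 0 1920 141276 edges_0_78 v (by omega) (by omega)
                · exact edgesRangeI_spec iota E 0 1824 143196 edges_0_79 v (by omega) (by omega)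
          · rcases Nat.lt_or_ge v 150368 with h | h
            · rcases Nat.lt_or_ge v 146871 with h | h
              · exact edgesRangeI_spec iota E 0 1851 145020 edges_0_80 v (by omega) (by omega)
              · rcases Nat.lt_or_ge v 148641 with h | h
                · exact edgesRangeI_spec iota E 0 1770 146871 edges_0_81 v (by omega) (by omega)
                · exact edgesRangeI_spec iota E 0 1727 148641 edges_0_82 v (by omega) (by omega)
            · rcases Nat.lt_or_ge v 152067 with h | h
              · exact edgesRangeI_spec iota E 0 1699 150368 edges_0_83 v (by omega) (by omega)
              · rcases Nat.lt_or_ge v 153818 with h | h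
                · exact edgesRangeI_spec iota E 0 1751 152067 edges_0_84 v (by omega) (by omega)
                · exact edgesRangeI_spec iota E 0 1805 153818 edges_0_85 v (by omega) (by omega)
  · rcases Nat.lt_or_ge v 233318 with h | h
    · rcases Nat.lt_or_ge v 194103 with h | h
      · rcases Nat.lt_or_ge v 173931 with h | h
        · rcases Nat.lt_or_ge v 164982 with h | h
          · rcases Nat.lt_or_ge v 159144 with h | h
            · rcases Nat.lt_or_ge v 157355 with h | h
              · exact edgesRangeI_spec iota E 0 1732 155623 edges_0_86 v (by omega) (by omega)
              · exact edgesRangeI_spec iota E 0 1789 157355 edges_0_87 v (by omega) (by omega)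
            · rcases Nat.lt_or_ge v 161066 with h | h
              · exact edgesRangeI_spec iota E 0 1922 159144 edges_0_88 v (by omega) (by omega)
              · rcases Nat.lt_or_ge v 162988 with h | h
                · exact edgesRangeI_spec iota E 0 1922 161066 edges_0_89 v (by omega) (by omega)
                · exact edgesRangeI_spec iota E 0 1994 162988 edges_0_90 v (by omega) (by omega)
          · rcases Nat.lt_or_ge v 168733 with h | h
            · rcases Nat.lt_or_ge v 166875 with h | h
              · exact edgesRangeI_spec iota E 0 1893 164982 edges_0_91 v (by omega) (by omega)
              · exact edgesRangeI_spec iota E 0 1858 166875 edges_0_92 v (by omega) (by omega)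
            · rcases Nat.lt_or_ge v 170440 with h | h
              · exact edgesRangeI_spec iota E 0 1707 168733 edges_0_93 v (by omega) (by omega)
              · rcases Nat.lt_or_ge v 172197 with h | h
                · exact edgesRangeI_spec iota E 0 1757 170440 edges_0_94 v (by omega) (by omega)
                · exact edgesRangeI_spec iota E 0 1734 172197 edges_0_95 v (by omega) (by omega)
        · rcases Nat.lt_or_ge v 182721 with h | h
          · rcases Nat.lt_or_ge v 177380 with h | h
            · rcases Nat.lt_or_ge v 175632 with h | h
              · exact edgesRangeI_spec iota E 0 1701 173931 edges_0_96 v (by omega) (by omega)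
              · exact edgesRangeI_spec iota E 0 1748 175632 edges_0_97 v (by omega) (by omega)
            · rcases Nat.lt_or_ge v 179189 with h | h
              · exact edgesRangeI_spec iota E 0 1809 177380 edges_0_98 v (by omega) (by omega)
              · rcases Nat.lt_or_ge v 180960 with h | h
                · exact edgesRangeI_spec iota E 0 1771 179189 edges_0_99 v (by omega) (by omega)
                · exact edgesRangeI_spec iota E 0 1761 180960 edges_0_100 v (by omega) (by omega)
          · rcases Nat.lt_or_ge v 188494 with h | h
            · rcases Nat.lt_or_ge v 184563 with h | h
              · exact edgesRangeI_spec iota E 0 1842 182721 edges_0_101 v (by omega) (by omega)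
              · rcases Nat.lt_or_ge v 186444 with h | h
                · exact edgesRangeI_spec iota E 0 1881 184563 edges_0_102 v (by omega) (by omega)
                · exact edgesRangeI_spec iota E 0 2050 186444 edges_0_103 v (by omega) (by omega)
            · rcases Nat.lt_or_ge v 190445 with h | h
              · exact edgesRangeI_spec iota E 0 1951 188494 edges_0_104 v (by omega) (by omega)
              · rcases Nat.lt_or_ge v 192232 with h | h
                · exact edgesRangeI_spec iota E 0 1787 190445 edges_0_105 v (by omega) (by omega)
                · exact edgesRangeI_spec iota E 0 1871 192232 edges_0_106 v (by omega) (by omega)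
      · rcases Nat.lt_or_ge v 213760 with h | h
        · rcases Nat.lt_or_ge v 202790 with h | h
          · rcases Nat.lt_or_ge v 197611 with h | h
            · rcases Nat.lt_or_ge v 195908 with h | h
              · exact edgesRangeI_spec iota E 0 1805 194103 edges_0_107 v (by omega) (by omega)
              · exact edgesRangeI_spec iota E 0 1703 195908 edges_0_108 v (by omega) (by omega)
            · rcases Nat.lt_or_ge v 199317 with h | h
              · exact edgesRangeI_spec iota E 0 1706 197611 edges_0_109 v (by omega) (by omega)
              · rcases Nat.lt_or_ge v 201055 with h | h
                · exact edgesRangeI_spec iota E 0 1738 199317 edges_0_110 v (by omega) (by omega)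
                · exact edgesRangeI_spec iota E 0 1735 201055 edges_0_111 v (by omega) (by omega)
          · rcases Nat.lt_or_ge v 208078 with h | h
            · rcases Nat.lt_or_ge v 204590 with h | h
              · exact edgesRangeI_spec iota E 0 1800 202790 edges_0_112 v (by omega) (by omega)
              · rcases Nat.lt_or_ge v 206373 with h | h
                · exact edgesRangeI_spec iota E 0 1783 204590 edges_0_113 v (by omega) (by omega)
                · exact edgesRangeI_spec iota E 0 1705 206373 edges_0_114 v (by omega) (by omega)
            · rcases Nat.lt_or_ge v 209907 with h | h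
              · exact edgesRangeI_spec iota E 0 1829 208078 edges_0_115 v (by omega) (by omega)
              · rcases Nat.lt_or_ge v 211782 with h | h
                · exact edgesRangeI_spec iota E 0 1875 209907 edges_0_116 v (by omega) (by omega)
                · exact edgesRangeI_spec iota E 0 1978 211782 edges_0_117 v (by omega) (by omega)
        · rcases Nat.lt_or_ge v 222954 with h | h
          · rcases Nat.lt_or_ge v 217543 with h | h
            · rcases Nat.lt_or_ge v 215687 with h | h
              · exact edgesRangeI_spec iota E 0 1927 213760 edges_0_118 v (by omega) (by omega)
              · exact edgesRangeI_spec iota E 0 1856 215687 edges_0_119 v (by omega) (by omega)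
            · rcases Nat.lt_or_ge v 219428 with h | h
              · exact edgesRangeI_spec iota E 0 1885 217543 edges_0_120 v (by omega) (by omega)
              · rcases Nat.lt_or_ge v 221252 with h | h
                · exact edgesRangeI_spec iota E 0 1824 219428 edges_0_121 v (by omega) (by omega)
                · exact edgesRangeI_spec iota E 0 1702 221252 edges_0_122 v (by omega) (by omega)
          · rcases Nat.lt_or_ge v 228042 with h | h
            · rcases Nat.lt_or_ge v 224597 with h | h
              · exact edgesRangeI_spec iota E 0 1643 222954 edges_0_123 v (by omega) (by omega)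
              · rcases Nat.lt_or_ge v 226332 with h | h
                · exact edgesRangeI_spec iota E 0 1735 224597 edges_0_124 v (by omega) (by omega)
                · exact edgesRangeI_spec iota E 0 1710 226332 edges_0_125 v (by omega) (by omega)
            · rcases Nat.lt_or_ge v 229825 with h | h
              · exact edgesRangeI_spec iota E 0 1783 228042 edges_0_126 v (by omega) (by omega)
              · rcases Nat.lt_or_ge v 231567 with h | h
                · exact edgesRangeI_spec iota E 0 1742 229825 edges_0_127 v (by omega) (by omega)
                · exact edgesRangeI_spec iota E 0 1751 231567 edges_0_128 v (by omega) (by omega)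
    · rcases Nat.lt_or_ge v 271952 with h | h
      · rcases Nat.lt_or_ge v 252966 with h | h
        · rcases Nat.lt_or_ge v 242489 with h | h
          · rcases Nat.lt_or_ge v 236914 with h | h
            · rcases Nat.lt_or_ge v 235059 with h | h
              · exact edgesRangeI_spec iota E 0 1741 233318 edges_0_129 v (by omega) (by omega)
              · exact edgesRangeI_spec iota E 0 1855 235059 edges_0_130 v (by omega) (by omega)
            · rcases Nat.lt_or_ge v 238822 with h | h
              · exact edgesRangeI_spec iota E 0 1908 236914 edges_0_131 v (by omega) (by omega)
              · rcases Nat.lt_or_ge v 240678 with h | h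
                · exact edgesRangeI_spec iota E 0 1856 238822 edges_0_132 v (by omega) (by omega)
                · exact edgesRangeI_spec iota E 0 1811 240678 edges_0_133 v (by omega) (by omega)
          · rcases Nat.lt_or_ge v 247896 with h | h
            · rcases Nat.lt_or_ge v 244372 with h | h
              · exact edgesRangeI_spec iota E 0 1883 242489 edges_0_134 v (by omega) (by omega)
              · rcases Nat.lt_or_ge v 246242 with h | h
                · exact edgesRangeI_spec iota E 0 1870 244372 edges_0_135 v (by omega) (by omega)
                · exact edgesRangeI_spec iota E 0 1654 246242 edges_0_136 v (by omega) (by omega)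
            · rcases Nat.lt_or_ge v 249528 with h | h
              · exact edgesRangeI_spec iota E 0 1632 247896 edges_0_137 v (by omega) (by omega)
              · rcases Nat.lt_or_ge v 251202 with h | h
                · exact edgesRangeI_spec iota E 0 1674 249528 edges_0_138 v (by omega) (by omega)
                · exact edgesRangeI_spec iota E 0 1764 251202 edges_0_139 v (by omega) (by omega)
        · rcases Nat.lt_or_ge v 261646 with h | h
          · rcases Nat.lt_or_ge v 256425 with h | h
            · rcases Nat.lt_or_ge v 254688 with h | h
              · exact edgesRangeI_spec iota E 0 1722 252966 edges_0_140 v (by omega) (by omega)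
              · exact edgesRangeI_spec iota E 0 1737 254688 edges_0_141 v (by omega) (by omega)
            · rcases Nat.lt_or_ge v 258145 with h | h
              · exact edgesRangeI_spec iota E 0 1720 256425 edges_0_142 v (by omega) (by omega)
              · rcases Nat.lt_or_ge v 259887 with h | h
                · exact edgesRangeI_spec iota E 0 1742 258145 edges_0_143 v (by omega) (by omega)
                · exact edgesRangeI_spec iota E 0 1759 259887 edges_0_144 v (by omega) (by omega)
          · rcases Nat.lt_or_ge v 267120 with h | h
            · rcases Nat.lt_or_ge v 263487 with h | h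
              · exact edgesRangeI_spec iota E 0 1841 261646 edges_0_145 v (by omega) (by omega)
              · rcases Nat.lt_or_ge v 265261 with h | h
                · exact edgesRangeI_spec iota E 0 1774 263487 edges_0_146 v (by omega) (by omega)
                · exact edgesRangeI_spec iota E 0 1859 265261 edges_0_147 v (by omega) (by omega)
            · rcases Nat.lt_or_ge v 268910 with h | h
              · exact edgesRangeI_spec iota E 0 1790 267120 edges_0_148 v (by omega) (by omega)
              · rcases Nat.lt_or_ge v 270420 with h | h
                · exact edgesRangeI_spec iota E 0 1510 268910 edges_0_149 v (by omega) (by omega)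
                · exact edgesRangeI_spec iota E 0 1532 270420 edges_0_150 v (by omega) (by omega)
      · rcases Nat.lt_or_ge v 290296 with h | h
        · rcases Nat.lt_or_ge v 280276 with h | h
          · rcases Nat.lt_or_ge v 275319 with h | h
            · rcases Nat.lt_or_ge v 273713 with h | h
              · exact edgesRangeI_spec iota E 0 1761 271952 edges_0_151 v (by omega) (by omega)
              · exact edgesRangeI_spec iota E 0 1606 273713 edges_0_152 v (by omega) (by omega)
            · rcases Nat.lt_or_ge v 277018 with h | h
              · exact edgesRangeI_spec iota E 0 1699 275319 edges_0_153 v (by omega) (by omega)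
              · rcases Nat.lt_or_ge v 278666 with h | h
                · exact edgesRangeI_spec iota E 0 1648 277018 edges_0_154 v (by omega) (by omega)
                · exact edgesRangeI_spec iota E 0 1610 278666 edges_0_155 v (by omega) (by omega)
          · rcases Nat.lt_or_ge v 285571 with h | h
            · rcases Nat.lt_or_ge v 282012 with h | h
              · exact edgesRangeI_spec iota E 0 1736 280276 edges_0_156 v (by omega) (by omega)
              · rcases Nat.lt_or_ge v 283733 with h | h
                · exact edgesRangeI_spec iota E 0 1721 282012 edges_0_157 v (by omega) (by omega)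
                · exact edgesRangeI_spec iota E 0 1838 283733 edges_0_158 v (by omega) (by omega)
            · rcases Nat.lt_or_ge v 287070 with h | h
              · exact edgesRangeI_spec iota E 0 1499 285571 edges_0_159 v (by omega) (by omega)
              · rcases Nat.lt_or_ge v 288641 with h | h
                · exact edgesRangeI_spec iota E 0 1571 287070 edges_0_160 v (by omega) (by omega)
                · exact edgesRangeI_spec iota E 0 1655 288641 edges_0_161 v (by omega) (by omega)
        · rcases Nat.lt_or_ge v 298252 with h | h
          · rcases Nat.lt_or_ge v 293499 with h | h
            · rcases Nat.lt_or_ge v 291920 with h | h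
              · exact edgesRangeI_spec iota E 0 1624 290296 edges_0_162 v (by omega) (by omega)
              · exact edgesRangeI_spec iota E 0 1579 291920 edges_0_163 v (by omega) (by omega)
            · rcases Nat.lt_or_ge v 295118 with h | h
              · exact edgesRangeI_spec iota E 0 1619 293499 edges_0_164 v (by omega) (by omega)
              · rcases Nat.lt_or_ge v 296820 with h | h
                · exact edgesRangeI_spec iota E 0 1702 295118 edges_0_165 v (by omega) (by omega)
                · exact edgesRangeI_spec iota E 0 1432 296820 edges_0_166 v (by omega) (by omega)
          · rcases Nat.lt_or_ge v 303073 with h | h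
            · rcases Nat.lt_or_ge v 299838 with h | h
              · exact edgesRangeI_spec iota E 0 1586 298252 edges_0_167 v (by omega) (by omega)
              · rcases Nat.lt_or_ge v 301448 with h | h
                · exact edgesRangeI_spec iota E 0 1610 299838 edges_0_168 v (by omega) (by omega)
                · exact edgesRangeI_spec iota E 0 1625 301448 edges_0_169 v (by omega) (by omega)
            · rcases Nat.lt_or_ge v 304595 with h | h
              · exact edgesRangeI_spec iota E 0 1522 303073 edges_0_170 v (by omega) (by omega)
              · rcases Nat.lt_or_ge v 306175 with h | h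
                · exact edgesRangeI_spec iota E 0 1580 304595 edges_0_171 v (by omega) (by omega)
                · exact edgesRangeI_spec iota E 0 1429 306175 edges_0_172 v (by omega) (by omega)

theorem edgesx_1 : ∀ v, v < 307604 → edgeOKI iota E 1 v = true := by
  intro v hv
  rcases Nat.lt_or_ge v 157795 with h | h
  · rcases Nat.lt_or_ge v 77741 with h | h
    · rcases Nat.lt_or_ge v 37570 with h | h
      · rcases Nat.lt_or_ge v 17793 with h | h
        · rcases Nat.lt_or_ge v 8922 with h | h
          · rcases Nat.lt_or_ge v 3645 with h | h
            · rcases Nat.lt_or_ge v 1774 with h | h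
              · exact edgesRangeI_spec iota E 1 1774 0 edges_1_0 v (by omega) (by omega)
              · exact edgesRangeI_spec iota E 1 1871 1774 edges_1_1 v (by omega) (by omega)
            · rcases Nat.lt_or_ge v 5461 with h | h
              · exact edgesRangeI_spec iota E 1 1816 3645 edges_1_2 v (by omega) (by omega)
              · rcases Nat.lt_or_ge v 7183 with h | h
                · exact edgesRangeI_spec iota E 1 1722 5461 edges_1_3 v (by omega) (by omega)
                · exact edgesRangeI_spec iota E 1 1739 7183 edges_1_4 v (by omega) (by omega)
          · rcases Nat.lt_or_ge v 12441 with h | h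
            · rcases Nat.lt_or_ge v 10673 with h | h
              · exact edgesRangeI_spec iota E 1 1751 8922 edges_1_5 v (by omega) (by omega)
              · exact edgesRangeI_spec iota E 1 1768 10673 edges_1_6 v (by omega) (by omega)
            · rcases Nat.lt_or_ge v 14221 with h | h
              · exact edgesRangeI_spec iota E 1 1780 12441 edges_1_7 v (by omega) (by omega)
              · rcases Nat.lt_or_ge v 16041 with h | h
                · exact edgesRangeI_spec iota E 1 1820 14221 edges_1_8 v (by omega) (by omega)
                · exact edgesRangeI_spec iota E 1 1752 16041 edges_1_9 v (by omega) (by omega)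
        · rcases Nat.lt_or_ge v 26831 with h | h
          · rcases Nat.lt_or_ge v 21451 with h | h
            · rcases Nat.lt_or_ge v 19618 with h | h
              · exact edgesRangeI_spec iota E 1 1825 17793 edges_1_10 v (by omega) (by omega)
              · exact edgesRangeI_spec iota E 1 1833 19618 edges_1_11 v (by omega) (by omega)
            · rcases Nat.lt_or_ge v 23176 with h | h
              · exact edgesRangeI_spec iota E 1 1725 21451 edges_1_12 v (by omega) (by omega)
              · rcases Nat.lt_or_ge v 25009 with h | h
                · exact edgesRangeI_spec iota E 1 1833 23176 edges_1_13 v (by omega) (by omega)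
                · exact edgesRangeI_spec iota E 1 1822 25009 edges_1_14 v (by omega) (by omega)
          · rcases Nat.lt_or_ge v 32204 with h | h
            · rcases Nat.lt_or_ge v 28613 with h | h
              · exact edgesRangeI_spec iota E 1 1782 26831 edges_1_15 v (by omega) (by omega)
              · rcases Nat.lt_or_ge v 30356 with h | h
                · exact edgesRangeI_spec iota E 1 1743 28613 edges_1_16 v (by omega) (by omega)
                · exact edgesRangeI_spec iota E 1 1848 30356 edges_1_17 v (by omega) (by omega)
            · rcases Nat.lt_or_ge v 34069 with h | h
              · exact edgesRangeI_spec iota E 1 1865 32204 edges_1_18 v (by omega) (by omega)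
              · rcases Nat.lt_or_ge v 35858 with h | h
                · exact edgesRangeI_spec iota E 1 1789 34069 edges_1_19 v (by omega) (by omega)
                · exact edgesRangeI_spec iota E 1 1712 35858 edges_1_20 v (by omega) (by omega)
      · rcases Nat.lt_or_ge v 57672 with h | h
        · rcases Nat.lt_or_ge v 46682 with h | h
          · rcases Nat.lt_or_ge v 41212 with h | h
            · rcases Nat.lt_or_ge v 39294 with h | h
              · exact edgesRangeI_spec iota E 1 1724 37570 edges_1_21 v (by omega) (by omega)
              · exact edgesRangeI_spec iota E 1 1918 39294 edges_1_22 v (by omega) (by omega)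
            · rcases Nat.lt_or_ge v 43113 with h | h
              · exact edgesRangeI_spec iota E 1 1901 41212 edges_1_23 v (by omega) (by omega)
              · rcases Nat.lt_or_ge v 44861 with h | h
                · exact edgesRangeI_spec iota E 1 1748 43113 edges_1_24 v (by omega) (by omega)
                · exact edgesRangeI_spec iota E 1 1821 44861 edges_1_25 v (by omega) (by omega)
          · rcases Nat.lt_or_ge v 52087 with h | h
            · rcases Nat.lt_or_ge v 48386 with h | h
              · exact edgesRangeI_spec iota E 1 1704 46682 edges_1_26 v (by omega) (by omega)
              · rcases Nat.lt_or_ge v 50130 with h | h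
                · exact edgesRangeI_spec iota E 1 1744 48386 edges_1_27 v (by omega) (by omega)
                · exact edgesRangeI_spec iota E 1 1957 50130 edges_1_28 v (by omega) (by omega)
            · rcases Nat.lt_or_ge v 53974 with h | h
              · exact edgesRangeI_spec iota E 1 1887 52087 edges_1_29 v (by omega) (by omega)
              · rcases Nat.lt_or_ge v 55836 with h | h
                · exact edgesRangeI_spec iota E 1 1862 53974 edges_1_30 v (by omega) (by omega)
                · exact edgesRangeI_spec iota E 1 1836 55836 edges_1_31 v (by omega) (by omega)
        · rcases Nat.lt_or_ge v 66877 with h | h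
          · rcases Nat.lt_or_ge v 61170 with h | h
            · rcases Nat.lt_or_ge v 59471 with h | h
              · exact edgesRangeI_spec iota E 1 1799 57672 edges_1_32 v (by omega) (by omega)
              · exact edgesRangeI_spec iota E 1 1699 59471 edges_1_33 v (by omega) (by omega)
            · rcases Nat.lt_or_ge v 62892 with h | h
              · exact edgesRangeI_spec iota E 1 1722 61170 edges_1_34 v (by omega) (by omega)
              · rcases Nat.lt_or_ge v 64857 with h | h
                · exact edgesRangeI_spec iota E 1 1965 62892 edges_1_35 v (by omega) (by omega)
                · exact edgesRangeI_spec iota E 1 2020 64857 edges_1_36 v (by omega) (by omega)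
          · rcases Nat.lt_or_ge v 72473 with h | h
            · rcases Nat.lt_or_ge v 68801 with h | h
              · exact edgesRangeI_spec iota E 1 1924 66877 edges_1_37 v (by omega) (by omega)
              · rcases Nat.lt_or_ge v 70610 with h | h
                · exact edgesRangeI_spec iota E 1 1809 68801 edges_1_38 v (by omega) (by omega)
                · exact edgesRangeI_spec iota E 1 1863 70610 edges_1_39 v (by omega) (by omega)
            · rcases Nat.lt_or_ge v 74264 with h | h
              · exact edgesRangeI_spec iota E 1 1791 72473 edges_1_40 v (by omega) (by omega)
              · rcases Nat.lt_or_ge v 76036 with h | h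
                · exact edgesRangeI_spec iota E 1 1772 74264 edges_1_41 v (by omega) (by omega)
                · exact edgesRangeI_spec iota E 1 1705 76036 edges_1_42 v (by omega) (by omega)
    · rcases Nat.lt_or_ge v 116975 with h | h
      · rcases Nat.lt_or_ge v 96414 with h | h
        · rcases Nat.lt_or_ge v 87401 with h | h
          · rcases Nat.lt_or_ge v 81752 with h | h
            · rcases Nat.lt_or_ge v 79690 with h | h
              · exact edgesRangeI_spec iota E 1 1949 77741 edges_1_43 v (by omega) (by omega)
              · exact edgesRangeI_spec iota E 1 2062 79690 edges_1_44 v (by omega) (by omega)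
            · rcases Nat.lt_or_ge v 83679 with h | h
              · exact edgesRangeI_spec iota E 1 1927 81752 edges_1_45 v (by omega) (by omega)
              · rcases Nat.lt_or_ge v 85590 with h | h
                · exact edgesRangeI_spec iota E 1 1911 83679 edges_1_46 v (by omega) (by omega)
                · exact edgesRangeI_spec iota E 1 1811 85590 edges_1_47 v (by omega) (by omega)
          · rcases Nat.lt_or_ge v 91080 with h | h
            · rcases Nat.lt_or_ge v 89303 with h | h
              · exact edgesRangeI_spec iota E 1 1902 87401 edges_1_48 v (by omega) (by omega)
              · exact edgesRangeI_spec iota E 1 1777 89303 edges_1_49 v (by omega) (by omega)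
            · rcases Nat.lt_or_ge v 92876 with h | h
              · exact edgesRangeI_spec iota E 1 1796 91080 edges_1_50 v (by omega) (by omega)
              · rcases Nat.lt_or_ge v 94598 with h | h
                · exact edgesRangeI_spec iota E 1 1722 92876 edges_1_51 v (by omega) (by omega)
                · exact edgesRangeI_spec iota E 1 1816 94598 edges_1_52 v (by omega) (by omega)
        · rcases Nat.lt_or_ge v 106053 with h | h
          · rcases Nat.lt_or_ge v 100444 with h | h
            · rcases Nat.lt_or_ge v 98464 with h | h
              · exact edgesRangeI_spec iota E 1 2050 96414 edges_1_53 v (by omega) (by omega)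
              · exact edgesRangeI_spec iota E 1 1980 98464 edges_1_54 v (by omega) (by omega)
            · rcases Nat.lt_or_ge v 102352 with h | h
              · exact edgesRangeI_spec iota E 1 1908 100444 edges_1_55 v (by omega) (by omega)
              · rcases Nat.lt_or_ge v 104252 with h | h
                · exact edgesRangeI_spec iota E 1 1900 102352 edges_1_56 v (by omega) (by omega)
                · exact edgesRangeI_spec iota E 1 1801 104252 edges_1_57 v (by omega) (by omega)
          · rcases Nat.lt_or_ge v 111509 with h | h
            · rcases Nat.lt_or_ge v 107933 with h | h
              · exact edgesRangeI_spec iota E 1 1880 106053 edges_1_58 v (by omega) (by omega)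
              · rcases Nat.lt_or_ge v 109711 with h | h
                · exact edgesRangeI_spec iota E 1 1778 107933 edges_1_59 v (by omega) (by omega)
                · exact edgesRangeI_spec iota E 1 1798 109711 edges_1_60 v (by omega) (by omega)
            · rcases Nat.lt_or_ge v 113304 with h | h
              · exact edgesRangeI_spec iota E 1 1795 111509 edges_1_61 v (by omega) (by omega)
              · rcases Nat.lt_or_ge v 115061 with h | h
                · exact edgesRangeI_spec iota E 1 1757 113304 edges_1_62 v (by omega) (by omega)
                · exact edgesRangeI_spec iota E 1 1914 115061 edges_1_63 v (by omega) (by omega)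
      · rcases Nat.lt_or_ge v 137429 with h | h
        · rcases Nat.lt_or_ge v 126488 with h | h
          · rcases Nat.lt_or_ge v 120908 with h | h
            · rcases Nat.lt_or_ge v 118976 with h | h
              · exact edgesRangeI_spec iota E 1 2001 116975 edges_1_64 v (by omega) (by omega)
              · exact edgesRangeI_spec iota E 1 1932 118976 edges_1_65 v (by omega) (by omega)
            · rcases Nat.lt_or_ge v 122759 with h | h
              · exact edgesRangeI_spec iota E 1 1851 120908 edges_1_66 v (by omega) (by omega)
              · rcases Nat.lt_or_ge v 124695 with h | h
                · exact edgesRangeI_spec iota E 1 1936 122759 edges_1_67 v (by omega) (by omega)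
                · exact edgesRangeI_spec iota E 1 1793 124695 edges_1_68 v (by omega) (by omega)
          · rcases Nat.lt_or_ge v 131952 with h | h
            · rcases Nat.lt_or_ge v 128410 with h | h
              · exact edgesRangeI_spec iota E 1 1922 126488 edges_1_69 v (by omega) (by omega)
              · rcases Nat.lt_or_ge v 130161 with h | h
                · exact edgesRangeI_spec iota E 1 1751 128410 edges_1_70 v (by omega) (by omega)
                · exact edgesRangeI_spec iota E 1 1791 130161 edges_1_71 v (by omega) (by omega)
            · rcases Nat.lt_or_ge v 133800 with h | h
              · exact edgesRangeI_spec iota E 1 1848 131952 edges_1_72 v (by omega) (by omega)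
              · rcases Nat.lt_or_ge v 135606 with h | h
                · exact edgesRangeI_spec iota E 1 1806 133800 edges_1_73 v (by omega) (by omega)
                · exact edgesRangeI_spec iota E 1 1823 135606 edges_1_74 v (by omega) (by omega)
        · rcases Nat.lt_or_ge v 146950 with h | h
          · rcases Nat.lt_or_ge v 141309 with h | h
            · rcases Nat.lt_or_ge v 139373 with h | h
              · exact edgesRangeI_spec iota E 1 1944 137429 edges_1_75 v (by omega) (by omega)
              · exact edgesRangeI_spec iota E 1 1936 139373 edges_1_76 v (by omega) (by omega)
            · rcases Nat.lt_or_ge v 143233 with h | h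
              · exact edgesRangeI_spec iota E 1 1924 141309 edges_1_77 v (by omega) (by omega)
              · rcases Nat.lt_or_ge v 145101 with h | h
                · exact edgesRangeI_spec iota E 1 1868 143233 edges_1_78 v (by omega) (by omega)
                · exact edgesRangeI_spec iota E 1 1849 145101 edges_1_79 v (by omega) (by omega)
          · rcases Nat.lt_or_ge v 152351 with h | h
            · rcases Nat.lt_or_ge v 148804 with h | h
              · exact edgesRangeI_spec iota E 1 1854 146950 edges_1_80 v (by omega) (by omega)
              · rcases Nat.lt_or_ge v 150591 with h | h
                · exact edgesRangeI_spec iota E 1 1787 148804 edges_1_81 v (by omega) (by omega)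
                · exact edgesRangeI_spec iota E 1 1760 150591 edges_1_82 v (by omega) (by omega)
            · rcases Nat.lt_or_ge v 154179 with h | h
              · exact edgesRangeI_spec iota E 1 1828 152351 edges_1_83 v (by omega) (by omega)
              · rcases Nat.lt_or_ge v 155990 with h | h
                · exact edgesRangeI_spec iota E 1 1811 154179 edges_1_84 v (by omega) (by omega)
                · exact edgesRangeI_spec iota E 1 1805 155990 edges_1_85 v (by omega) (by omega)
  · rcases Nat.lt_or_ge v 235711 with h | h
    · rcases Nat.lt_or_ge v 196509 with h | h
      · rcases Nat.lt_or_ge v 176271 with h | h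
        · rcases Nat.lt_or_ge v 167170 with h | h
          · rcases Nat.lt_or_ge v 161456 with h | h
            · rcases Nat.lt_or_ge v 159575 with h | h
              · exact edgesRangeI_spec iota E 1 1780 157795 edges_1_86 v (by omega) (by omega)
              · exact edgesRangeI_spec iota E 1 1881 159575 edges_1_87 v (by omega) (by omega)
            · rcases Nat.lt_or_ge v 163406 with h | h
              · exact edgesRangeI_spec iota E 1 1950 161456 edges_1_88 v (by omega) (by omega)
              · rcases Nat.lt_or_ge v 165299 with h | h
                · exact edgesRangeI_spec iota E 1 1893 163406 edges_1_89 v (by omega) (by omega)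
                · exact edgesRangeI_spec iota E 1 1871 165299 edges_1_90 v (by omega) (by omega)
          · rcases Nat.lt_or_ge v 170852 with h | h
            · rcases Nat.lt_or_ge v 169137 with h | h
              · exact edgesRangeI_spec iota E 1 1967 167170 edges_1_91 v (by omega) (by omega)
              · exact edgesRangeI_spec iota E 1 1715 169137 edges_1_92 v (by omega) (by omega)
            · rcases Nat.lt_or_ge v 172725 with h | h
              · exact edgesRangeI_spec iota E 1 1873 170852 edges_1_93 v (by omega) (by omega)
              · rcases Nat.lt_or_ge v 174464 with h | h
                · exact edgesRangeI_spec iota E 1 1739 172725 edges_1_94 v (by omega) (by omega)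
                · exact edgesRangeI_spec iota E 1 1807 174464 edges_1_95 v (by omega) (by omega)
        · rcases Nat.lt_or_ge v 185399 with h | h
          · rcases Nat.lt_or_ge v 179911 with h | h
            · rcases Nat.lt_or_ge v 178087 with h | h
              · exact edgesRangeI_spec iota E 1 1816 176271 edges_1_96 v (by omega) (by omega)
              · exact edgesRangeI_spec iota E 1 1824 178087 edges_1_97 v (by omega) (by omega)
            · rcases Nat.lt_or_ge v 181721 with h | h
              · exact edgesRangeI_spec iota E 1 1810 179911 edges_1_98 v (by omega) (by omega)
              · rcases Nat.lt_or_ge v 183554 with h | h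
                · exact edgesRangeI_spec iota E 1 1833 181721 edges_1_99 v (by omega) (by omega)
                · exact edgesRangeI_spec iota E 1 1845 183554 edges_1_100 v (by omega) (by omega)
          · rcases Nat.lt_or_ge v 191061 with h | h
            · rcases Nat.lt_or_ge v 187304 with h | h
              · exact edgesRangeI_spec iota E 1 1905 185399 edges_1_101 v (by omega) (by omega)
              · rcases Nat.lt_or_ge v 189187 with h | h
                · exact edgesRangeI_spec iota E 1 1883 187304 edges_1_102 v (by omega) (by omega)
                · exact edgesRangeI_spec iota E 1 1874 189187 edges_1_103 v (by omega) (by omega)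
            · rcases Nat.lt_or_ge v 192854 with h | h
              · exact edgesRangeI_spec iota E 1 1793 191061 edges_1_104 v (by omega) (by omega)
              · rcases Nat.lt_or_ge v 194683 with h | h
                · exact edgesRangeI_spec iota E 1 1829 192854 edges_1_105 v (by omega) (by omega)
                · exact edgesRangeI_spec iota E 1 1826 194683 edges_1_106 v (by omega) (by omega)
      · rcases Nat.lt_or_ge v 216311 with h | h
        · rcases Nat.lt_or_ge v 205438 with h | h
          · rcases Nat.lt_or_ge v 200051 with h | h
            · rcases Nat.lt_or_ge v 198285 with h | h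
              · exact edgesRangeI_spec iota E 1 1776 196509 edges_1_107 v (by omega) (by omega)
              · exact edgesRangeI_spec iota E 1 1766 198285 edges_1_108 v (by omega) (by omega)
            · rcases Nat.lt_or_ge v 201866 with h | h
              · exact edgesRangeI_spec iota E 1 1815 200051 edges_1_109 v (by omega) (by omega)
              · rcases Nat.lt_or_ge v 203664 with h | h
                · exact edgesRangeI_spec iota E 1 1798 201866 edges_1_110 v (by omega) (by omega)
                · exact edgesRangeI_spec iota E 1 1774 203664 edges_1_111 v (by omega) (by omega)
          · rcases Nat.lt_or_ge v 210808 with h | h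
            · rcases Nat.lt_or_ge v 207215 with h | h
              · exact edgesRangeI_spec iota E 1 1777 205438 edges_1_112 v (by omega) (by omega)
              · rcases Nat.lt_or_ge v 209001 with h | h
                · exact edgesRangeI_spec iota E 1 1786 207215 edges_1_113 v (by omega) (by omega)
                · exact edgesRangeI_spec iota E 1 1807 209001 edges_1_114 v (by omega) (by omega)
            · rcases Nat.lt_or_ge v 212643 with h | h
              · exact edgesRangeI_spec iota E 1 1835 210808 edges_1_115 v (by omega) (by omega)
              · rcases Nat.lt_or_ge v 214476 with h | h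
                · exact edgesRangeI_spec iota E 1 1833 212643 edges_1_116 v (by omega) (by omega)
                · exact edgesRangeI_spec iota E 1 1835 214476 edges_1_117 v (by omega) (by omega)
        · rcases Nat.lt_or_ge v 225235 with h | h
          · rcases Nat.lt_or_ge v 219908 with h | h
            · rcases Nat.lt_or_ge v 218073 with h | h
              · exact edgesRangeI_spec iota E 1 1762 216311 edges_1_118 v (by omega) (by omega)
              · exact edgesRangeI_spec iota E 1 1835 218073 edges_1_119 v (by omega) (by omega)
            · rcases Nat.lt_or_ge v 221737 with h | h
              · exact edgesRangeI_spec iota E 1 1829 219908 edges_1_120 v (by omega) (by omega)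
              · rcases Nat.lt_or_ge v 223491 with h | h
                · exact edgesRangeI_spec iota E 1 1754 221737 edges_1_121 v (by omega) (by omega)
                · exact edgesRangeI_spec iota E 1 1744 223491 edges_1_122 v (by omega) (by omega)
          · rcases Nat.lt_or_ge v 230500 with h | h
            · rcases Nat.lt_or_ge v 227002 with h | h
              · exact edgesRangeI_spec iota E 1 1767 225235 edges_1_123 v (by omega) (by omega)
              · rcases Nat.lt_or_ge v 228724 with h | h
                · exact edgesRangeI_spec iota E 1 1722 227002 edges_1_124 v (by omega) (by omega)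
                · exact edgesRangeI_spec iota E 1 1776 228724 edges_1_125 v (by omega) (by omega)
            · rcases Nat.lt_or_ge v 232239 with h | h
              · exact edgesRangeI_spec iota E 1 1739 230500 edges_1_126 v (by omega) (by omega)
              · rcases Nat.lt_or_ge v 233961 with h | h
                · exact edgesRangeI_spec iota E 1 1722 232239 edges_1_127 v (by omega) (by omega)
                · exact edgesRangeI_spec iota E 1 1750 233961 edges_1_128 v (by omega) (by omega)
    · rcases Nat.lt_or_ge v 273173 with h | h
      · rcases Nat.lt_or_ge v 254714 with h | h
        · rcases Nat.lt_or_ge v 244554 with h | h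
          · rcases Nat.lt_or_ge v 239214 with h | h
            · rcases Nat.lt_or_ge v 237437 with h | h
              · exact edgesRangeI_spec iota E 1 1726 235711 edges_1_129 v (by omega) (by omega)
              · exact edgesRangeI_spec iota E 1 1777 237437 edges_1_130 v (by omega) (by omega)
            · rcases Nat.lt_or_ge v 241002 with h | h
              · exact edgesRangeI_spec iota E 1 1788 239214 edges_1_131 v (by omega) (by omega)
              · rcases Nat.lt_or_ge v 242747 with h | h
                · exact edgesRangeI_spec iota E 1 1745 241002 edges_1_132 v (by omega) (by omega)
                · exact edgesRangeI_spec iota E 1 1807 242747 edges_1_133 v (by omega) (by omega)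
          · rcases Nat.lt_or_ge v 249721 with h | h
            · rcases Nat.lt_or_ge v 246359 with h | h
              · exact edgesRangeI_spec iota E 1 1805 244554 edges_1_134 v (by omega) (by omega)
              · rcases Nat.lt_or_ge v 248047 with h | h
                · exact edgesRangeI_spec iota E 1 1688 246359 edges_1_135 v (by omega) (by omega)
                · exact edgesRangeI_spec iota E 1 1674 248047 edges_1_136 v (by omega) (by omega)
            · rcases Nat.lt_or_ge v 251407 with h | h
              · exact edgesRangeI_spec iota E 1 1686 249721 edges_1_137 v (by omega) (by omega)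
              · rcases Nat.lt_or_ge v 253070 with h | h
                · exact edgesRangeI_spec iota E 1 1663 251407 edges_1_138 v (by omega) (by omega)
                · exact edgesRangeI_spec iota E 1 1644 253070 edges_1_139 v (by omega) (by omega)
        · rcases Nat.lt_or_ge v 263170 with h | h
          · rcases Nat.lt_or_ge v 258094 with h | h
            · rcases Nat.lt_or_ge v 256421 with h | h
              · exact edgesRangeI_spec iota E 1 1707 254714 edges_1_140 v (by omega) (by omega)
              · exact edgesRangeI_spec iota E 1 1673 256421 edges_1_141 v (by omega) (by omega)
            · rcases Nat.lt_or_ge v 259786 with h | h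
              · exact edgesRangeI_spec iota E 1 1692 258094 edges_1_142 v (by omega) (by omega)
              · rcases Nat.lt_or_ge v 261449 with h | h
                · exact edgesRangeI_spec iota E 1 1663 259786 edges_1_143 v (by omega) (by omega)
                · exact edgesRangeI_spec iota E 1 1721 261449 edges_1_144 v (by omega) (by omega)
          · rcases Nat.lt_or_ge v 268432 with h | h
            · rcases Nat.lt_or_ge v 264940 with h | h
              · exact edgesRangeI_spec iota E 1 1770 263170 edges_1_145 v (by omega) (by omega)
              · rcases Nat.lt_or_ge v 266626 with h | h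
                · exact edgesRangeI_spec iota E 1 1686 264940 edges_1_146 v (by omega) (by omega)
                · exact edgesRangeI_spec iota E 1 1806 266626 edges_1_147 v (by omega) (by omega)
            · rcases Nat.lt_or_ge v 270007 with h | h
              · exact edgesRangeI_spec iota E 1 1575 268432 edges_1_148 v (by omega) (by omega)
              · rcases Nat.lt_or_ge v 271562 with h | h
                · exact edgesRangeI_spec iota E 1 1555 270007 edges_1_149 v (by omega) (by omega)
                · exact edgesRangeI_spec iota E 1 1611 271562 edges_1_150 v (by omega) (by omega)
      · rcases Nat.lt_or_ge v 290950 with h | h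
        · rcases Nat.lt_or_ge v 281307 with h | h
          · rcases Nat.lt_or_ge v 276331 with h | h
            · rcases Nat.lt_or_ge v 274753 with h | h
              · exact edgesRangeI_spec iota E 1 1580 273173 edges_1_151 v (by omega) (by omega)
              · exact edgesRangeI_spec iota E 1 1578 274753 edges_1_152 v (by omega) (by omega)
            · rcases Nat.lt_or_ge v 277987 with h | h
              · exact edgesRangeI_spec iota E 1 1656 276331 edges_1_153 v (by omega) (by omega)
              · rcases Nat.lt_or_ge v 279645 with h | h
                · exact edgesRangeI_spec iota E 1 1658 277987 edges_1_154 v (by omega) (by omega)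
                · exact edgesRangeI_spec iota E 1 1662 279645 edges_1_155 v (by omega) (by omega)
          · rcases Nat.lt_or_ge v 286354 with h | h
            · rcases Nat.lt_or_ge v 283038 with h | h
              · exact edgesRangeI_spec iota E 1 1731 281307 edges_1_156 v (by omega) (by omega)
              · rcases Nat.lt_or_ge v 284722 with h | h
                · exact edgesRangeI_spec iota E 1 1684 283038 edges_1_157 v (by omega) (by omega)
                · exact edgesRangeI_spec iota E 1 1632 284722 edges_1_158 v (by omega) (by omega)
            · rcases Nat.lt_or_ge v 287829 with h | h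
              · exact edgesRangeI_spec iota E 1 1475 286354 edges_1_159 v (by omega) (by omega)
              · rcases Nat.lt_or_ge v 289396 with h | h
                · exact edgesRangeI_spec iota E 1 1567 287829 edges_1_160 v (by omega) (by omega)
                · exact edgesRangeI_spec iota E 1 1554 289396 edges_1_161 v (by omega) (by omega)
        · rcases Nat.lt_or_ge v 298965 with h | h
          · rcases Nat.lt_or_ge v 294201 with h | h
            · rcases Nat.lt_or_ge v 292572 with h | h
              · exact edgesRangeI_spec iota E 1 1622 290950 edges_1_162 v (by omega) (by omega)
              · exact edgesRangeI_spec iota E 1 1629 292572 edges_1_163 v (by omega) (by omega)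
            · rcases Nat.lt_or_ge v 295898 with h | h
              · exact edgesRangeI_spec iota E 1 1697 294201 edges_1_164 v (by omega) (by omega)
              · rcases Nat.lt_or_ge v 297468 with h | h
                · exact edgesRangeI_spec iota E 1 1570 295898 edges_1_165 v (by omega) (by omega)
                · exact edgesRangeI_spec iota E 1 1497 297468 edges_1_166 v (by omega) (by omega)
          · rcases Nat.lt_or_ge v 303681 with h | h
            · rcases Nat.lt_or_ge v 300509 with h | h
              · exact edgesRangeI_spec iota E 1 1544 298965 edges_1_167 v (by omega) (by omega)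
              · rcases Nat.lt_or_ge v 302113 with h | h
                · exact edgesRangeI_spec iota E 1 1604 300509 edges_1_168 v (by omega) (by omega)
                · exact edgesRangeI_spec iota E 1 1568 302113 edges_1_169 v (by omega) (by omega)
            · rcases Nat.lt_or_ge v 305190 with h | h
              · exact edgesRangeI_spec iota E 1 1509 303681 edges_1_170 v (by omega) (by omega)
              · rcases Nat.lt_or_ge v 306748 with h | h
                · exact edgesRangeI_spec iota E 1 1558 305190 edges_1_171 v (by omega) (by omega)
                · exact edgesRangeI_spec iota E 1 856 306748 edges_1_172 v (by omega) (by omega)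

theorem edgesx_2 : ∀ v, v < 307604 → edgeOKI iota E 2 v = true := by
  intro v hv
  rcases Nat.lt_or_ge v 158811 with h | h
  · rcases Nat.lt_or_ge v 77674 with h | h
    · rcases Nat.lt_or_ge v 37985 with h | h
      · rcases Nat.lt_or_ge v 17884 with h | h
        · rcases Nat.lt_or_ge v 9033 with h | h
          · rcases Nat.lt_or_ge v 3629 with h | h
            · rcases Nat.lt_or_ge v 1778 with h | h
              · exact edgesRangeI_spec iota E 2 1778 0 edges_2_0 v (by omega) (by omega)
              · exact edgesRangeI_spec iota E 2 1851 1778 edges_2_1 v (by omega) (by omega)
            · rcases Nat.lt_or_ge v 5536 with h | h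
              · exact edgesRangeI_spec iota E 2 1907 3629 edges_2_2 v (by omega) (by omega)
              · rcases Nat.lt_or_ge v 7287 with h | h
                · exact edgesRangeI_spec iota E 2 1751 5536 edges_2_3 v (by omega) (by omega)
                · exact edgesRangeI_spec iota E 2 1746 7287 edges_2_4 v (by omega) (by omega)
          · rcases Nat.lt_or_ge v 12554 with h | h
            · rcases Nat.lt_or_ge v 10820 with h | h
              · exact edgesRangeI_spec iota E 2 1787 9033 edges_2_5 v (by omega) (by omega)
              · exact edgesRangeI_spec iota E 2 1734 10820 edges_2_6 v (by omega) (by omega)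
            · rcases Nat.lt_or_ge v 14343 with h | h
              · exact edgesRangeI_spec iota E 2 1789 12554 edges_2_7 v (by omega) (by omega)
              · rcases Nat.lt_or_ge v 16093 with h | h
                · exact edgesRangeI_spec iota E 2 1750 14343 edges_2_8 v (by omega) (by omega)
                · exact edgesRangeI_spec iota E 2 1791 16093 edges_2_9 v (by omega) (by omega)
        · rcases Nat.lt_or_ge v 26890 with h | h
          · rcases Nat.lt_or_ge v 21435 with h | h
            · rcases Nat.lt_or_ge v 19685 with h | h
              · exact edgesRangeI_spec iota E 2 1801 17884 edges_2_10 v (by omega) (by omega)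
              · exact edgesRangeI_spec iota E 2 1750 19685 edges_2_11 v (by omega) (by omega)
            · rcases Nat.lt_or_ge v 23273 with h | h
              · exact edgesRangeI_spec iota E 2 1838 21435 edges_2_12 v (by omega) (by omega)
              · rcases Nat.lt_or_ge v 25049 with h | h
                · exact edgesRangeI_spec iota E 2 1776 23273 edges_2_13 v (by omega) (by omega)
                · exact edgesRangeI_spec iota E 2 1841 25049 edges_2_14 v (by omega) (by omega)
          · rcases Nat.lt_or_ge v 32387 with h | h
            · rcases Nat.lt_or_ge v 28749 with h | h
              · exact edgesRangeI_spec iota E 2 1859 26890 edges_2_15 v (by omega) (by omega)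
              · rcases Nat.lt_or_ge v 30550 with h | h
                · exact edgesRangeI_spec iota E 2 1801 28749 edges_2_16 v (by omega) (by omega)
                · exact edgesRangeI_spec iota E 2 1837 30550 edges_2_17 v (by omega) (by omega)
            · rcases Nat.lt_or_ge v 34288 with h | h
              · exact edgesRangeI_spec iota E 2 1901 32387 edges_2_18 v (by omega) (by omega)
              · rcases Nat.lt_or_ge v 36132 with h | h
                · exact edgesRangeI_spec iota E 2 1844 34288 edges_2_19 v (by omega) (by omega)
                · exact edgesRangeI_spec iota E 2 1853 36132 edges_2_20 v (by omega) (by omega)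
      · rcases Nat.lt_or_ge v 56897 with h | h
        · rcases Nat.lt_or_ge v 47442 with h | h
          · rcases Nat.lt_or_ge v 41706 with h | h
            · rcases Nat.lt_or_ge v 39797 with h | h
              · exact edgesRangeI_spec iota E 2 1812 37985 edges_2_21 v (by omega) (by omega)
              · exact edgesRangeI_spec iota E 2 1909 39797 edges_2_22 v (by omega) (by omega)
            · rcases Nat.lt_or_ge v 43665 with h | h
              · exact edgesRangeI_spec iota E 2 1959 41706 edges_2_23 v (by omega) (by omega)
              · rcases Nat.lt_or_ge v 45530 with h | h
                · exact edgesRangeI_spec iota E 2 1865 43665 edges_2_24 v (by omega) (by omega)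
                · exact edgesRangeI_spec iota E 2 1912 45530 edges_2_25 v (by omega) (by omega)
          · rcases Nat.lt_or_ge v 51125 with h | h
            · rcases Nat.lt_or_ge v 49268 with h | h
              · exact edgesRangeI_spec iota E 2 1826 47442 edges_2_26 v (by omega) (by omega)
              · exact edgesRangeI_spec iota E 2 1857 49268 edges_2_27 v (by omega) (by omega)
            · rcases Nat.lt_or_ge v 53046 with h | h
              · exact edgesRangeI_spec iota E 2 1921 51125 edges_2_28 v (by omega) (by omega)
              · rcases Nat.lt_or_ge v 55042 with h | h
                · exact edgesRangeI_spec iota E 2 1996 53046 edges_2_29 v (by omega) (by omega)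
                · exact edgesRangeI_spec iota E 2 1855 55042 edges_2_30 v (by omega) (by omega)
        · rcases Nat.lt_or_ge v 66341 with h | h
          · rcases Nat.lt_or_ge v 60641 with h | h
            · rcases Nat.lt_or_ge v 58848 with h | h
              · exact edgesRangeI_spec iota E 2 1951 56897 edges_2_31 v (by omega) (by omega)
              · exact edgesRangeI_spec iota E 2 1793 58848 edges_2_32 v (by omega) (by omega)
            · rcases Nat.lt_or_ge v 62522 with h | h
              · exact edgesRangeI_spec iota E 2 1881 60641 edges_2_33 v (by omega) (by omega)
              · rcases Nat.lt_or_ge v 64455 with h | h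
                · exact edgesRangeI_spec iota E 2 1933 62522 edges_2_34 v (by omega) (by omega)
                · exact edgesRangeI_spec iota E 2 1886 64455 edges_2_35 v (by omega) (by omega)
          · rcases Nat.lt_or_ge v 72053 with h | h
            · rcases Nat.lt_or_ge v 68309 with h | h
              · exact edgesRangeI_spec iota E 2 1968 66341 edges_2_36 v (by omega) (by omega)
              · rcases Nat.lt_or_ge v 70188 with h | h
                · exact edgesRangeI_spec iota E 2 1879 68309 edges_2_37 v (by omega) (by omega)
                · exact edgesRangeI_spec iota E 2 1865 70188 edges_2_38 v (by omega) (by omega)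
            · rcases Nat.lt_or_ge v 73983 with h | h
              · exact edgesRangeI_spec iota E 2 1930 72053 edges_2_39 v (by omega) (by omega)
              · rcases Nat.lt_or_ge v 75766 with h | h
                · exact edgesRangeI_spec iota E 2 1783 73983 edges_2_40 v (by omega) (by omega)
                · exact edgesRangeI_spec iota E 2 1908 75766 edges_2_41 v (by omega) (by omega)
    · rcases Nat.lt_or_ge v 117218 with h | h
      · rcases Nat.lt_or_ge v 96454 with h | h
        · rcases Nat.lt_or_ge v 87164 with h | h
          · rcases Nat.lt_or_ge v 81495 with h | h
            · rcases Nat.lt_or_ge v 79576 with h | h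
              · exact edgesRangeI_spec iota E 2 1902 77674 edges_2_42 v (by omega) (by omega)
              · exact edgesRangeI_spec iota E 2 1919 79576 edges_2_43 v (by omega) (by omega)
            · rcases Nat.lt_or_ge v 83414 with h | h
              · exact edgesRangeI_spec iota E 2 1919 81495 edges_2_44 v (by omega) (by omega)
              · rcases Nat.lt_or_ge v 85341 with h | h
                · exact edgesRangeI_spec iota E 2 1927 83414 edges_2_45 v (by omega) (by omega)
                · exact edgesRangeI_spec iota E 2 1823 85341 edges_2_46 v (by omega) (by omega)
          · rcases Nat.lt_or_ge v 90906 with h | h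
            · rcases Nat.lt_or_ge v 89019 with h | h
              · exact edgesRangeI_spec iota E 2 1855 87164 edges_2_47 v (by omega) (by omega)
              · exact edgesRangeI_spec iota E 2 1887 89019 edges_2_48 v (by omega) (by omega)
            · rcases Nat.lt_or_ge v 92699 with h | h
              · exact edgesRangeI_spec iota E 2 1793 90906 edges_2_49 v (by omega) (by omega)
              · rcases Nat.lt_or_ge v 94599 with h | h
                · exact edgesRangeI_spec iota E 2 1900 92699 edges_2_50 v (by omega) (by omega)
                · exact edgesRangeI_spec iota E 2 1855 94599 edges_2_51 v (by omega) (by omega)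
        · rcases Nat.lt_or_ge v 105981 with h | h
          · rcases Nat.lt_or_ge v 100345 with h | h
            · rcases Nat.lt_or_ge v 98406 with h | h
              · exact edgesRangeI_spec iota E 2 1952 96454 edges_2_52 v (by omega) (by omega)
              · exact edgesRangeI_spec iota E 2 1939 98406 edges_2_53 v (by omega) (by omega)
            · rcases Nat.lt_or_ge v 102263 with h | h
              · exact edgesRangeI_spec iota E 2 1918 100345 edges_2_54 v (by omega) (by omega)
              · rcases Nat.lt_or_ge v 104150 with h | h
                · exact edgesRangeI_spec iota E 2 1887 102263 edges_2_55 v (by omega) (by omega)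
                · exact edgesRangeI_spec iota E 2 1831 104150 edges_2_56 v (by omega) (by omega)
          · rcases Nat.lt_or_ge v 111565 with h | h
            · rcases Nat.lt_or_ge v 107902 with h | h
              · exact edgesRangeI_spec iota E 2 1921 105981 edges_2_57 v (by omega) (by omega)
              · rcases Nat.lt_or_ge v 109743 with h | h
                · exact edgesRangeI_spec iota E 2 1841 107902 edges_2_58 v (by omega) (by omega)
                · exact edgesRangeI_spec iota E 2 1822 109743 edges_2_59 v (by omega) (by omega)
            · rcases Nat.lt_or_ge v 113424 with h | h
              · exact edgesRangeI_spec iota E 2 1859 111565 edges_2_60 v (by omega) (by omega)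
              · rcases Nat.lt_or_ge v 115283 with h | h
                · exact edgesRangeI_spec iota E 2 1859 113424 edges_2_61 v (by omega) (by omega)
                · exact edgesRangeI_spec iota E 2 1935 115283 edges_2_62 v (by omega) (by omega)
      · rcases Nat.lt_or_ge v 138000 with h | h
        · rcases Nat.lt_or_ge v 126812 with h | h
          · rcases Nat.lt_or_ge v 121219 with h | h
            · rcases Nat.lt_or_ge v 119201 with h | h
              · exact edgesRangeI_spec iota E 2 1983 117218 edges_2_63 v (by omega) (by omega)
              · exact edgesRangeI_spec iota E 2 2018 119201 edges_2_64 v (by omega) (by omega)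
            · rcases Nat.lt_or_ge v 123081 with h | h
              · exact edgesRangeI_spec iota E 2 1862 121219 edges_2_65 v (by omega) (by omega)
              · rcases Nat.lt_or_ge v 124931 with h | h
                · exact edgesRangeI_spec iota E 2 1850 123081 edges_2_66 v (by omega) (by omega)
                · exact edgesRangeI_spec iota E 2 1881 124931 edges_2_67 v (by omega) (by omega)
          · rcases Nat.lt_or_ge v 132392 with h | h
            · rcases Nat.lt_or_ge v 128711 with h | h
              · exact edgesRangeI_spec iota E 2 1899 126812 edges_2_68 v (by omega) (by omega)
              · rcases Nat.lt_or_ge v 130501 with h | h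
                · exact edgesRangeI_spec iota E 2 1790 128711 edges_2_69 v (by omega) (by omega)
                · exact edgesRangeI_spec iota E 2 1891 130501 edges_2_70 v (by omega) (by omega)
            · rcases Nat.lt_or_ge v 134246 with h | h
              · exact edgesRangeI_spec iota E 2 1854 132392 edges_2_71 v (by omega) (by omega)
              · rcases Nat.lt_or_ge v 136073 with h | h
                · exact edgesRangeI_spec iota E 2 1827 134246 edges_2_72 v (by omega) (by omega)
                · exact edgesRangeI_spec iota E 2 1927 136073 edges_2_73 v (by omega) (by omega)
        · rcases Nat.lt_or_ge v 147716 with h | h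
          · rcases Nat.lt_or_ge v 142128 with h | h
            · rcases Nat.lt_or_ge v 140050 with h | h
              · exact edgesRangeI_spec iota E 2 2050 138000 edges_2_74 v (by omega) (by omega)
              · exact edgesRangeI_spec iota E 2 2078 140050 edges_2_75 v (by omega) (by omega)
            · rcases Nat.lt_or_ge v 144026 with h | h
              · exact edgesRangeI_spec iota E 2 1898 142128 edges_2_76 v (by omega) (by omega)
              · rcases Nat.lt_or_ge v 145983 with h | h
                · exact edgesRangeI_spec iota E 2 1957 144026 edges_2_77 v (by omega) (by omega)
                · exact edgesRangeI_spec iota E 2 1733 145983 edges_2_78 v (by omega) (by omega)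
          · rcases Nat.lt_or_ge v 153258 with h | h
            · rcases Nat.lt_or_ge v 149603 with h | h
              · exact edgesRangeI_spec iota E 2 1887 147716 edges_2_79 v (by omega) (by omega)
              · rcases Nat.lt_or_ge v 151421 with h | h
                · exact edgesRangeI_spec iota E 2 1818 149603 edges_2_80 v (by omega) (by omega)
                · exact edgesRangeI_spec iota E 2 1837 151421 edges_2_81 v (by omega) (by omega)
            · rcases Nat.lt_or_ge v 155198 with h | h
              · exact edgesRangeI_spec iota E 2 1940 153258 edges_2_82 v (by omega) (by omega)
              · rcases Nat.lt_or_ge v 157007 with h | h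
                · exact edgesRangeI_spec iota E 2 1809 155198 edges_2_83 v (by omega) (by omega)
                · exact edgesRangeI_spec iota E 2 1804 157007 edges_2_84 v (by omega) (by omega)
  · rcases Nat.lt_or_ge v 237649 with h | h
    · rcases Nat.lt_or_ge v 198982 with h | h
      · rcases Nat.lt_or_ge v 177921 with h | h
        · rcases Nat.lt_or_ge v 168812 with h | h
          · rcases Nat.lt_or_ge v 162822 with h | h
            · rcases Nat.lt_or_ge v 160778 with h | h
              · exact edgesRangeI_spec iota E 2 1967 158811 edges_2_85 v (by omega) (by omega)
              · exact edgesRangeI_spec iota E 2 2044 160778 edges_2_86 v (by omega) (by omega)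
            · rcases Nat.lt_or_ge v 164864 with h | h
              · exact edgesRangeI_spec iota E 2 2042 162822 edges_2_87 v (by omega) (by omega)
              · rcases Nat.lt_or_ge v 166851 with h | h
                · exact edgesRangeI_spec iota E 2 1987 164864 edges_2_88 v (by omega) (by omega)
                · exact edgesRangeI_spec iota E 2 1961 166851 edges_2_89 v (by omega) (by omega)
          · rcases Nat.lt_or_ge v 172541 with h | h
            · rcases Nat.lt_or_ge v 170608 with h | h
              · exact edgesRangeI_spec iota E 2 1796 168812 edges_2_90 v (by omega) (by omega)
              · exact edgesRangeI_spec iota E 2 1933 170608 edges_2_91 v (by omega) (by omega)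
            · rcases Nat.lt_or_ge v 174271 with h | h
              · exact edgesRangeI_spec iota E 2 1730 172541 edges_2_92 v (by omega) (by omega)
              · rcases Nat.lt_or_ge v 176083 with h | h
                · exact edgesRangeI_spec iota E 2 1812 174271 edges_2_93 v (by omega) (by omega)
                · exact edgesRangeI_spec iota E 2 1838 176083 edges_2_94 v (by omega) (by omega)
        · rcases Nat.lt_or_ge v 187505 with h | h
          · rcases Nat.lt_or_ge v 181655 with h | h
            · rcases Nat.lt_or_ge v 179855 with h | h
              · exact edgesRangeI_spec iota E 2 1934 177921 edges_2_95 v (by omega) (by omega)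
              · exact edgesRangeI_spec iota E 2 1800 179855 edges_2_96 v (by omega) (by omega)
            · rcases Nat.lt_or_ge v 183500 with h | h
              · exact edgesRangeI_spec iota E 2 1845 181655 edges_2_97 v (by omega) (by omega)
              · rcases Nat.lt_or_ge v 185489 with h | h
                · exact edgesRangeI_spec iota E 2 1989 183500 edges_2_98 v (by omega) (by omega)
                · exact edgesRangeI_spec iota E 2 2016 185489 edges_2_99 v (by omega) (by omega)
          · rcases Nat.lt_or_ge v 193417 with h | h
            · rcases Nat.lt_or_ge v 189475 with h | h
              · exact edgesRangeI_spec iota E 2 1970 187505 edges_2_100 v (by omega) (by omega)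
              · rcases Nat.lt_or_ge v 191435 with h | h
                · exact edgesRangeI_spec iota E 2 1960 189475 edges_2_101 v (by omega) (by omega)
                · exact edgesRangeI_spec iota E 2 1982 191435 edges_2_102 v (by omega) (by omega)
            · rcases Nat.lt_or_ge v 195303 with h | h
              · exact edgesRangeI_spec iota E 2 1886 193417 edges_2_103 v (by omega) (by omega)
              · rcases Nat.lt_or_ge v 197214 with h | h
                · exact edgesRangeI_spec iota E 2 1911 195303 edges_2_104 v (by omega) (by omega)
                · exact edgesRangeI_spec iota E 2 1768 197214 edges_2_105 v (by omega) (by omega)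
      · rcases Nat.lt_or_ge v 217558 with h | h
        · rcases Nat.lt_or_ge v 208110 with h | h
          · rcases Nat.lt_or_ge v 202589 with h | h
            · rcases Nat.lt_or_ge v 200778 with h | h
              · exact edgesRangeI_spec iota E 2 1796 198982 edges_2_106 v (by omega) (by omega)
              · exact edgesRangeI_spec iota E 2 1811 200778 edges_2_107 v (by omega) (by omega)
            · rcases Nat.lt_or_ge v 204412 with h | h
              · exact edgesRangeI_spec iota E 2 1823 202589 edges_2_108 v (by omega) (by omega)
              · rcases Nat.lt_or_ge v 206263 with h | h
                · exact edgesRangeI_spec iota E 2 1851 204412 edges_2_109 v (by omega) (by omega)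
                · exact edgesRangeI_spec iota E 2 1847 206263 edges_2_110 v (by omega) (by omega)
          · rcases Nat.lt_or_ge v 211964 with h | h
            · rcases Nat.lt_or_ge v 210043 with h | h
              · exact edgesRangeI_spec iota E 2 1933 208110 edges_2_111 v (by omega) (by omega)
              · exact edgesRangeI_spec iota E 2 1921 210043 edges_2_112 v (by omega) (by omega)
            · rcases Nat.lt_or_ge v 213853 with h | h
              · exact edgesRangeI_spec iota E 2 1889 211964 edges_2_113 v (by omega) (by omega)
              · rcases Nat.lt_or_ge v 215709 with h | h
                · exact edgesRangeI_spec iota E 2 1856 213853 edges_2_114 v (by omega) (by omega)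
                · exact edgesRangeI_spec iota E 2 1849 215709 edges_2_115 v (by omega) (by omega)
        · rcases Nat.lt_or_ge v 226830 with h | h
          · rcases Nat.lt_or_ge v 221523 with h | h
            · rcases Nat.lt_or_ge v 219629 with h | h
              · exact edgesRangeI_spec iota E 2 2071 217558 edges_2_116 v (by omega) (by omega)
              · exact edgesRangeI_spec iota E 2 1894 219629 edges_2_117 v (by omega) (by omega)
            · rcases Nat.lt_or_ge v 223337 with h | h
              · exact edgesRangeI_spec iota E 2 1814 221523 edges_2_118 v (by omega) (by omega)
              · rcases Nat.lt_or_ge v 225072 with h | h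
                · exact edgesRangeI_spec iota E 2 1735 223337 edges_2_119 v (by omega) (by omega)
                · exact edgesRangeI_spec iota E 2 1758 225072 edges_2_120 v (by omega) (by omega)
          · rcases Nat.lt_or_ge v 232085 with h | h
            · rcases Nat.lt_or_ge v 228595 with h | h
              · exact edgesRangeI_spec iota E 2 1765 226830 edges_2_121 v (by omega) (by omega)
              · rcases Nat.lt_or_ge v 230340 with h | h
                · exact edgesRangeI_spec iota E 2 1745 228595 edges_2_122 v (by omega) (by omega)
                · exact edgesRangeI_spec iota E 2 1745 230340 edges_2_123 v (by omega) (by omega)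
            · rcases Nat.lt_or_ge v 233981 with h | h
              · exact edgesRangeI_spec iota E 2 1896 232085 edges_2_124 v (by omega) (by omega)
              · rcases Nat.lt_or_ge v 235864 with h | h
                · exact edgesRangeI_spec iota E 2 1883 233981 edges_2_125 v (by omega) (by omega)
                · exact edgesRangeI_spec iota E 2 1785 235864 edges_2_126 v (by omega) (by omega)
    · rcases Nat.lt_or_ge v 273638 with h | h
      · rcases Nat.lt_or_ge v 255175 with h | h
        · rcases Nat.lt_or_ge v 246716 with h | h
          · rcases Nat.lt_or_ge v 241153 with h | h
            · rcases Nat.lt_or_ge v 239413 with h | h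
              · exact edgesRangeI_spec iota E 2 1764 237649 edges_2_127 v (by omega) (by omega)
              · exact edgesRangeI_spec iota E 2 1740 239413 edges_2_128 v (by omega) (by omega)
            · rcases Nat.lt_or_ge v 242911 with h | h
              · exact edgesRangeI_spec iota E 2 1758 241153 edges_2_129 v (by omega) (by omega)
              · rcases Nat.lt_or_ge v 244850 with h | h
                · exact edgesRangeI_spec iota E 2 1939 242911 edges_2_130 v (by omega) (by omega)
                · exact edgesRangeI_spec iota E 2 1866 244850 edges_2_131 v (by omega) (by omega)
          · rcases Nat.lt_or_ge v 250152 with h | h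
            · rcases Nat.lt_or_ge v 248437 with h | h
              · exact edgesRangeI_spec iota E 2 1721 246716 edges_2_132 v (by omega) (by omega)
              · exact edgesRangeI_spec iota E 2 1715 248437 edges_2_133 v (by omega) (by omega)
            · rcases Nat.lt_or_ge v 251847 with h | h
              · exact edgesRangeI_spec iota E 2 1695 250152 edges_2_134 v (by omega) (by omega)
              · rcases Nat.lt_or_ge v 253531 with h | h
                · exact edgesRangeI_spec iota E 2 1684 251847 edges_2_135 v (by omega) (by omega)
                · exact edgesRangeI_spec iota E 2 1644 253531 edges_2_136 v (by omega) (by omega)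
        · rcases Nat.lt_or_ge v 263705 with h | h
          · rcases Nat.lt_or_ge v 258621 with h | h
            · rcases Nat.lt_or_ge v 256834 with h | h
              · exact edgesRangeI_spec iota E 2 1659 255175 edges_2_137 v (by omega) (by omega)
              · exact edgesRangeI_spec iota E 2 1787 256834 edges_2_138 v (by omega) (by omega)
            · rcases Nat.lt_or_ge v 260345 with h | h
              · exact edgesRangeI_spec iota E 2 1724 258621 edges_2_139 v (by omega) (by omega)
              · rcases Nat.lt_or_ge v 262010 with h | h
                · exact edgesRangeI_spec iota E 2 1665 260345 edges_2_140 v (by omega) (by omega)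
                · exact edgesRangeI_spec iota E 2 1695 262010 edges_2_141 v (by omega) (by omega)
          · rcases Nat.lt_or_ge v 268847 with h | h
            · rcases Nat.lt_or_ge v 265330 with h | h
              · exact edgesRangeI_spec iota E 2 1625 263705 edges_2_142 v (by omega) (by omega)
              · rcases Nat.lt_or_ge v 267100 with h | h
                · exact edgesRangeI_spec iota E 2 1770 265330 edges_2_143 v (by omega) (by omega)
                · exact edgesRangeI_spec iota E 2 1747 267100 edges_2_144 v (by omega) (by omega)
            · rcases Nat.lt_or_ge v 270456 with h | h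
              · exact edgesRangeI_spec iota E 2 1609 268847 edges_2_145 v (by omega) (by omega)
              · rcases Nat.lt_or_ge v 272018 with h | h
                · exact edgesRangeI_spec iota E 2 1562 270456 edges_2_146 v (by omega) (by omega)
                · exact edgesRangeI_spec iota E 2 1620 272018 edges_2_147 v (by omega) (by omega)
      · rcases Nat.lt_or_ge v 291332 with h | h
        · rcases Nat.lt_or_ge v 281696 with h | h
          · rcases Nat.lt_or_ge v 276840 with h | h
            · rcases Nat.lt_or_ge v 275236 with h | h
              · exact edgesRangeI_spec iota E 2 1598 273638 edges_2_148 v (by omega) (by omega)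
              · exact edgesRangeI_spec iota E 2 1604 275236 edges_2_149 v (by omega) (by omega)
            · rcases Nat.lt_or_ge v 278433 with h | h
              · exact edgesRangeI_spec iota E 2 1593 276840 edges_2_150 v (by omega) (by omega)
              · rcases Nat.lt_or_ge v 280052 with h | h
                · exact edgesRangeI_spec iota E 2 1619 278433 edges_2_151 v (by omega) (by omega)
                · exact edgesRangeI_spec iota E 2 1644 280052 edges_2_152 v (by omega) (by omega)
          · rcases Nat.lt_or_ge v 286666 with h | h
            · rcases Nat.lt_or_ge v 283325 with h | h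
              · exact edgesRangeI_spec iota E 2 1629 281696 edges_2_153 v (by omega) (by omega)
              · rcases Nat.lt_or_ge v 285001 with h | h
                · exact edgesRangeI_spec iota E 2 1676 283325 edges_2_154 v (by omega) (by omega)
                · exact edgesRangeI_spec iota E 2 1665 285001 edges_2_155 v (by omega) (by omega)
            · rcases Nat.lt_or_ge v 288170 with h | h
              · exact edgesRangeI_spec iota E 2 1504 286666 edges_2_156 v (by omega) (by omega)
              · rcases Nat.lt_or_ge v 289741 with h | h
                · exact edgesRangeI_spec iota E 2 1571 288170 edges_2_157 v (by omega) (by omega)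
                · exact edgesRangeI_spec iota E 2 1591 289741 edges_2_158 v (by omega) (by omega)
        · rcases Nat.lt_or_ge v 299204 with h | h
          · rcases Nat.lt_or_ge v 294462 with h | h
            · rcases Nat.lt_or_ge v 292887 with h | h
              · exact edgesRangeI_spec iota E 2 1555 291332 edges_2_159 v (by omega) (by omega)
              · exact edgesRangeI_spec iota E 2 1575 292887 edges_2_160 v (by omega) (by omega)
            · rcases Nat.lt_or_ge v 296128 with h | h
              · exact edgesRangeI_spec iota E 2 1666 294462 edges_2_161 v (by omega) (by omega)
              · rcases Nat.lt_or_ge v 297694 with h | h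
                · exact edgesRangeI_spec iota E 2 1566 296128 edges_2_162 v (by omega) (by omega)
                · exact edgesRangeI_spec iota E 2 1510 297694 edges_2_163 v (by omega) (by omega)
          · rcases Nat.lt_or_ge v 303833 with h | h
            · rcases Nat.lt_or_ge v 300737 with h | h
              · exact edgesRangeI_spec iota E 2 1533 299204 edges_2_164 v (by omega) (by omega)
              · rcases Nat.lt_or_ge v 302324 with h | h
                · exact edgesRangeI_spec iota E 2 1587 300737 edges_2_165 v (by omega) (by omega)
                · exact edgesRangeI_spec iota E 2 1509 302324 edges_2_166 v (by omega) (by omega)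
            · rcases Nat.lt_or_ge v 305264 with h | h
              · exact edgesRangeI_spec iota E 2 1431 303833 edges_2_167 v (by omega) (by omega)
              · rcases Nat.lt_or_ge v 306778 with h | h
                · exact edgesRangeI_spec iota E 2 1514 305264 edges_2_168 v (by omega) (by omega)
                · exact edgesRangeI_spec iota E 2 826 306778 edges_2_169 v (by omega) (by omega)

theorem edgesx_3 : ∀ v, v < 307604 → edgeOKI iota E 3 v = true := by
  intro v hv
  rcases Nat.lt_or_ge v 160591 with h | h
  · rcases Nat.lt_or_ge v 78695 with h | h
    · rcases Nat.lt_or_ge v 39106 with h | h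
      · rcases Nat.lt_or_ge v 18221 with h | h
        · rcases Nat.lt_or_ge v 9153 with h | h
          · rcases Nat.lt_or_ge v 3800 with h | h
            · rcases Nat.lt_or_ge v 1813 with h | h
              · exact edgesRangeI_spec iota E 3 1813 0 edges_3_0 v (by omega) (by omega)
              · exact edgesRangeI_spec iota E 3 1987 1813 edges_3_1 v (by omega) (by omega)
            · rcases Nat.lt_or_ge v 5664 with h | h
              · exact edgesRangeI_spec iota E 3 1864 3800 edges_3_2 v (by omega) (by omega)
              · rcases Nat.lt_or_ge v 7425 with h | h
                · exact edgesRangeI_spec iota E 3 1761 5664 edges_3_3 v (by omega) (by omega)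
                · exact edgesRangeI_spec iota E 3 1728 7425 edges_3_4 v (by omega) (by omega)
          · rcases Nat.lt_or_ge v 12704 with h | h
            · rcases Nat.lt_or_ge v 10902 with h | h
              · exact edgesRangeI_spec iota E 3 1749 9153 edges_3_5 v (by omega) (by omega)
              · exact edgesRangeI_spec iota E 3 1802 10902 edges_3_6 v (by omega) (by omega)
            · rcases Nat.lt_or_ge v 14489 with h | h
              · exact edgesRangeI_spec iota E 3 1785 12704 edges_3_7 v (by omega) (by omega)
              · rcases Nat.lt_or_ge v 16359 with h | h
                · exact edgesRangeI_spec iota E 3 1870 14489 edges_3_8 v (by omega) (by omega)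
                · exact edgesRangeI_spec iota E 3 1862 16359 edges_3_9 v (by omega) (by omega)
        · rcases Nat.lt_or_ge v 27700 with h | h
          · rcases Nat.lt_or_ge v 21982 with h | h
            · rcases Nat.lt_or_ge v 20050 with h | h
              · exact edgesRangeI_spec iota E 3 1829 18221 edges_3_10 v (by omega) (by omega)
              · exact edgesRangeI_spec iota E 3 1932 20050 edges_3_11 v (by omega) (by omega)
            · rcases Nat.lt_or_ge v 23866 with h | h
              · exact edgesRangeI_spec iota E 3 1884 21982 edges_3_12 v (by omega) (by omega)
              · rcases Nat.lt_or_ge v 25699 with h | h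
                · exact edgesRangeI_spec iota E 3 1833 23866 edges_3_13 v (by omega) (by omega)
                · exact edgesRangeI_spec iota E 3 2001 25699 edges_3_14 v (by omega) (by omega)
          · rcases Nat.lt_or_ge v 33375 with h | h
            · rcases Nat.lt_or_ge v 29652 with h | h
              · exact edgesRangeI_spec iota E 3 1952 27700 edges_3_15 v (by omega) (by omega)
              · rcases Nat.lt_or_ge v 31441 with h | h
                · exact edgesRangeI_spec iota E 3 1789 29652 edges_3_16 v (by omega) (by omega)
                · exact edgesRangeI_spec iota E 3 1934 31441 edges_3_17 v (by omega) (by omega)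
            · rcases Nat.lt_or_ge v 35332 with h | h
              · exact edgesRangeI_spec iota E 3 1957 33375 edges_3_18 v (by omega) (by omega)
              · rcases Nat.lt_or_ge v 37295 with h | h
                · exact edgesRangeI_spec iota E 3 1963 35332 edges_3_19 v (by omega) (by omega)
                · exact edgesRangeI_spec iota E 3 1811 37295 edges_3_20 v (by omega) (by omega)
      · rcases Nat.lt_or_ge v 58034 with h | h
        · rcases Nat.lt_or_ge v 48556 with h | h
          · rcases Nat.lt_or_ge v 42887 with h | h
            · rcases Nat.lt_or_ge v 40940 with h | h
              · exact edgesRangeI_spec iota E 3 1834 39106 edges_3_21 v (by omega) (by omega)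
              · exact edgesRangeI_spec iota E 3 1947 40940 edges_3_22 v (by omega) (by omega)
            · rcases Nat.lt_or_ge v 44819 with h | h
              · exact edgesRangeI_spec iota E 3 1932 42887 edges_3_23 v (by omega) (by omega)
              · rcases Nat.lt_or_ge v 46734 with h | h
                · exact edgesRangeI_spec iota E 3 1915 44819 edges_3_24 v (by omega) (by omega)
                · exact edgesRangeI_spec iota E 3 1822 46734 edges_3_25 v (by omega) (by omega)
          · rcases Nat.lt_or_ge v 52290 with h | h
            · rcases Nat.lt_or_ge v 50395 with h | h
              · exact edgesRangeI_spec iota E 3 1839 48556 edges_3_26 v (by omega) (by omega)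
              · exact edgesRangeI_spec iota E 3 1895 50395 edges_3_27 v (by omega) (by omega)
            · rcases Nat.lt_or_ge v 54295 with h | h
              · exact edgesRangeI_spec iota E 3 2005 52290 edges_3_28 v (by omega) (by omega)
              · rcases Nat.lt_or_ge v 56199 with h | h
                · exact edgesRangeI_spec iota E 3 1904 54295 edges_3_29 v (by omega) (by omega)
                · exact edgesRangeI_spec iota E 3 1835 56199 edges_3_30 v (by omega) (by omega)
        · rcases Nat.lt_or_ge v 67540 with h | h
          · rcases Nat.lt_or_ge v 61796 with h | h
            · rcases Nat.lt_or_ge v 59922 with h | h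
              · exact edgesRangeI_spec iota E 3 1888 58034 edges_3_31 v (by omega) (by omega)
              · exact edgesRangeI_spec iota E 3 1874 59922 edges_3_32 v (by omega) (by omega)
            · rcases Nat.lt_or_ge v 63571 with h | h
              · exact edgesRangeI_spec iota E 3 1775 61796 edges_3_33 v (by omega) (by omega)
              · rcases Nat.lt_or_ge v 65544 with h | h
                · exact edgesRangeI_spec iota E 3 1973 63571 edges_3_34 v (by omega) (by omega)
                · exact edgesRangeI_spec iota E 3 1996 65544 edges_3_35 v (by omega) (by omega)
          · rcases Nat.lt_or_ge v 73228 with h | h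
            · rcases Nat.lt_or_ge v 69447 with h | h
              · exact edgesRangeI_spec iota E 3 1907 67540 edges_3_36 v (by omega) (by omega)
              · rcases Nat.lt_or_ge v 71322 with h | h
                · exact edgesRangeI_spec iota E 3 1875 69447 edges_3_37 v (by omega) (by omega)
                · exact edgesRangeI_spec iota E 3 1906 71322 edges_3_38 v (by omega) (by omega)
            · rcases Nat.lt_or_ge v 75033 with h | h
              · exact edgesRangeI_spec iota E 3 1805 73228 edges_3_39 v (by omega) (by omega)
              · rcases Nat.lt_or_ge v 76898 with h | h
                · exact edgesRangeI_spec iota E 3 1865 75033 edges_3_40 v (by omega) (by omega)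
                · exact edgesRangeI_spec iota E 3 1797 76898 edges_3_41 v (by omega) (by omega)
    · rcases Nat.lt_or_ge v 118654 with h | h
      · rcases Nat.lt_or_ge v 97625 with h | h
        · rcases Nat.lt_or_ge v 88378 with h | h
          · rcases Nat.lt_or_ge v 82713 with h | h
            · rcases Nat.lt_or_ge v 80610 with h | h
              · exact edgesRangeI_spec iota E 3 1915 78695 edges_3_42 v (by omega) (by omega)
              · exact edgesRangeI_spec iota E 3 2103 80610 edges_3_43 v (by omega) (by omega)
            · rcases Nat.lt_or_ge v 84701 with h | h
              · exact edgesRangeI_spec iota E 3 1988 82713 edges_3_44 v (by omega) (by omega)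
              · rcases Nat.lt_or_ge v 86586 with h | h
                · exact edgesRangeI_spec iota E 3 1885 84701 edges_3_45 v (by omega) (by omega)
                · exact edgesRangeI_spec iota E 3 1792 86586 edges_3_46 v (by omega) (by omega)
          · rcases Nat.lt_or_ge v 91992 with h | h
            · rcases Nat.lt_or_ge v 90188 with h | h
              · exact edgesRangeI_spec iota E 3 1810 88378 edges_3_47 v (by omega) (by omega)
              · exact edgesRangeI_spec iota E 3 1804 90188 edges_3_48 v (by omega) (by omega)
            · rcases Nat.lt_or_ge v 93901 with h | h
              · exact edgesRangeI_spec iota E 3 1909 91992 edges_3_49 v (by omega) (by omega)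
              · rcases Nat.lt_or_ge v 95714 with h | h
                · exact edgesRangeI_spec iota E 3 1813 93901 edges_3_50 v (by omega) (by omega)
                · exact edgesRangeI_spec iota E 3 1911 95714 edges_3_51 v (by omega) (by omega)
        · rcases Nat.lt_or_ge v 107380 with h | h
          · rcases Nat.lt_or_ge v 101697 with h | h
            · rcases Nat.lt_or_ge v 99670 with h | h
              · exact edgesRangeI_spec iota E 3 2045 97625 edges_3_52 v (by omega) (by omega)
              · exact edgesRangeI_spec iota E 3 2027 99670 edges_3_53 v (by omega) (by omega)
            · rcases Nat.lt_or_ge v 103681 with h | h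
              · exact edgesRangeI_spec iota E 3 1984 101697 edges_3_54 v (by omega) (by omega)
              · rcases Nat.lt_or_ge v 105528 with h | h
                · exact edgesRangeI_spec iota E 3 1847 103681 edges_3_55 v (by omega) (by omega)
                · exact edgesRangeI_spec iota E 3 1852 105528 edges_3_56 v (by omega) (by omega)
          · rcases Nat.lt_or_ge v 112940 with h | h
            · rcases Nat.lt_or_ge v 109145 with h | h
              · exact edgesRangeI_spec iota E 3 1765 107380 edges_3_57 v (by omega) (by omega)
              · rcases Nat.lt_or_ge v 111028 with h | h
                · exact edgesRangeI_spec iota E 3 1883 109145 edges_3_58 v (by omega) (by omega)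
                · exact edgesRangeI_spec iota E 3 1912 111028 edges_3_59 v (by omega) (by omega)
            · rcases Nat.lt_or_ge v 114744 with h | h
              · exact edgesRangeI_spec iota E 3 1804 112940 edges_3_60 v (by omega) (by omega)
              · rcases Nat.lt_or_ge v 116616 with h | h
                · exact edgesRangeI_spec iota E 3 1872 114744 edges_3_61 v (by omega) (by omega)
                · exact edgesRangeI_spec iota E 3 2038 116616 edges_3_62 v (by omega) (by omega)
      · rcases Nat.lt_or_ge v 139675 with h | h
        · rcases Nat.lt_or_ge v 128375 with h | h
          · rcases Nat.lt_or_ge v 122683 with h | h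
            · rcases Nat.lt_or_ge v 120669 with h | h
              · exact edgesRangeI_spec iota E 3 2015 118654 edges_3_63 v (by omega) (by omega)
              · exact edgesRangeI_spec iota E 3 2014 120669 edges_3_64 v (by omega) (by omega)
            · rcases Nat.lt_or_ge v 124653 with h | h
              · exact edgesRangeI_spec iota E 3 1970 122683 edges_3_65 v (by omega) (by omega)
              · rcases Nat.lt_or_ge v 126467 with h | h
                · exact edgesRangeI_spec iota E 3 1814 124653 edges_3_66 v (by omega) (by omega)
                · exact edgesRangeI_spec iota E 3 1908 126467 edges_3_67 v (by omega) (by omega)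
          · rcases Nat.lt_or_ge v 133894 with h | h
            · rcases Nat.lt_or_ge v 130153 with h | h
              · exact edgesRangeI_spec iota E 3 1778 128375 edges_3_68 v (by omega) (by omega)
              · rcases Nat.lt_or_ge v 131991 with h | h
                · exact edgesRangeI_spec iota E 3 1838 130153 edges_3_69 v (by omega) (by omega)
                · exact edgesRangeI_spec iota E 3 1903 131991 edges_3_70 v (by omega) (by omega)
            · rcases Nat.lt_or_ge v 135730 with h | h
              · exact edgesRangeI_spec iota E 3 1836 133894 edges_3_71 v (by omega) (by omega)
              · rcases Nat.lt_or_ge v 137635 with h | h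
                · exact edgesRangeI_spec iota E 3 1905 135730 edges_3_72 v (by omega) (by omega)
                · exact edgesRangeI_spec iota E 3 2040 137635 edges_3_73 v (by omega) (by omega)
        · rcases Nat.lt_or_ge v 149436 with h | h
          · rcases Nat.lt_or_ge v 143609 with h | h
            · rcases Nat.lt_or_ge v 141645 with h | h
              · exact edgesRangeI_spec iota E 3 1970 139675 edges_3_74 v (by omega) (by omega)
              · exact edgesRangeI_spec iota E 3 1964 141645 edges_3_75 v (by omega) (by omega)
            · rcases Nat.lt_or_ge v 145659 with h | h
              · exact edgesRangeI_spec iota E 3 2050 143609 edges_3_76 v (by omega) (by omega)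
              · rcases Nat.lt_or_ge v 147483 with h | h
                · exact edgesRangeI_spec iota E 3 1824 145659 edges_3_77 v (by omega) (by omega)
                · exact edgesRangeI_spec iota E 3 1953 147483 edges_3_78 v (by omega) (by omega)
          · rcases Nat.lt_or_ge v 154950 with h | h
            · rcases Nat.lt_or_ge v 151233 with h | h
              · exact edgesRangeI_spec iota E 3 1797 149436 edges_3_79 v (by omega) (by omega)
              · rcases Nat.lt_or_ge v 153080 with h | h
                · exact edgesRangeI_spec iota E 3 1847 151233 edges_3_80 v (by omega) (by omega)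
                · exact edgesRangeI_spec iota E 3 1870 153080 edges_3_81 v (by omega) (by omega)
            · rcases Nat.lt_or_ge v 156780 with h | h
              · exact edgesRangeI_spec iota E 3 1830 154950 edges_3_82 v (by omega) (by omega)
              · rcases Nat.lt_or_ge v 158672 with h | h
                · exact edgesRangeI_spec iota E 3 1892 156780 edges_3_83 v (by omega) (by omega)
                · exact edgesRangeI_spec iota E 3 1919 158672 edges_3_84 v (by omega) (by omega)
  · rcases Nat.lt_or_ge v 237583 with h | h
    · rcases Nat.lt_or_ge v 199987 with h | h
      · rcases Nat.lt_or_ge v 179411 with h | h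
        · rcases Nat.lt_or_ge v 170205 with h | h
          · rcases Nat.lt_or_ge v 164479 with h | h
            · rcases Nat.lt_or_ge v 162622 with h | h
              · exact edgesRangeI_spec iota E 3 2031 160591 edges_3_85 v (by omega) (by omega)
              · exact edgesRangeI_spec iota E 3 1857 162622 edges_3_86 v (by omega) (by omega)
            · rcases Nat.lt_or_ge v 166370 with h | h
              · exact edgesRangeI_spec iota E 3 1891 164479 edges_3_87 v (by omega) (by omega)
              · rcases Nat.lt_or_ge v 168413 with h | h
                · exact edgesRangeI_spec iota E 3 2043 166370 edges_3_88 v (by omega) (by omega)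
                · exact edgesRangeI_spec iota E 3 1792 168413 edges_3_89 v (by omega) (by omega)
          · rcases Nat.lt_or_ge v 174027 with h | h
            · rcases Nat.lt_or_ge v 172213 with h | h
              · exact edgesRangeI_spec iota E 3 2008 170205 edges_3_90 v (by omega) (by omega)
              · exact edgesRangeI_spec iota E 3 1814 172213 edges_3_91 v (by omega) (by omega)
            · rcases Nat.lt_or_ge v 175820 with h | h
              · exact edgesRangeI_spec iota E 3 1793 174027 edges_3_92 v (by omega) (by omega)
              · rcases Nat.lt_or_ge v 177622 with h | h
                · exact edgesRangeI_spec iota E 3 1802 175820 edges_3_93 v (by omega) (by omega)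
                · exact edgesRangeI_spec iota E 3 1789 177622 edges_3_94 v (by omega) (by omega)
        · rcases Nat.lt_or_ge v 188771 with h | h
          · rcases Nat.lt_or_ge v 183153 with h | h
            · rcases Nat.lt_or_ge v 181227 with h | h
              · exact edgesRangeI_spec iota E 3 1816 179411 edges_3_95 v (by omega) (by omega)
              · exact edgesRangeI_spec iota E 3 1926 181227 edges_3_96 v (by omega) (by omega)
            · rcases Nat.lt_or_ge v 185011 with h | h
              · exact edgesRangeI_spec iota E 3 1858 183153 edges_3_97 v (by omega) (by omega)
              · rcases Nat.lt_or_ge v 186952 with h | h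
                · exact edgesRangeI_spec iota E 3 1941 185011 edges_3_98 v (by omega) (by omega)
                · exact edgesRangeI_spec iota E 3 1819 186952 edges_3_99 v (by omega) (by omega)
          · rcases Nat.lt_or_ge v 194400 with h | h
            · rcases Nat.lt_or_ge v 190615 with h | h
              · exact edgesRangeI_spec iota E 3 1844 188771 edges_3_100 v (by omega) (by omega)
              · rcases Nat.lt_or_ge v 192555 with h | h
                · exact edgesRangeI_spec iota E 3 1940 190615 edges_3_101 v (by omega) (by omega)
                · exact edgesRangeI_spec iota E 3 1845 192555 edges_3_102 v (by omega) (by omega)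
            · rcases Nat.lt_or_ge v 196415 with h | h
              · exact edgesRangeI_spec iota E 3 2015 194400 edges_3_103 v (by omega) (by omega)
              · rcases Nat.lt_or_ge v 198220 with h | h
                · exact edgesRangeI_spec iota E 3 1805 196415 edges_3_104 v (by omega) (by omega)
                · exact edgesRangeI_spec iota E 3 1767 198220 edges_3_105 v (by omega) (by omega)
      · rcases Nat.lt_or_ge v 218041 with h | h
        · rcases Nat.lt_or_ge v 208924 with h | h
          · rcases Nat.lt_or_ge v 203502 with h | h
            · rcases Nat.lt_or_ge v 201740 with h | h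
              · exact edgesRangeI_spec iota E 3 1753 199987 edges_3_106 v (by omega) (by omega)
              · exact edgesRangeI_spec iota E 3 1762 201740 edges_3_107 v (by omega) (by omega)
            · rcases Nat.lt_or_ge v 205219 with h | h
              · exact edgesRangeI_spec iota E 3 1717 203502 edges_3_108 v (by omega) (by omega)
              · rcases Nat.lt_or_ge v 207014 with h | h
                · exact edgesRangeI_spec iota E 3 1795 205219 edges_3_109 v (by omega) (by omega)
                · exact edgesRangeI_spec iota E 3 1910 207014 edges_3_110 v (by omega) (by omega)
          · rcases Nat.lt_or_ge v 212569 with h | h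
            · rcases Nat.lt_or_ge v 210713 with h | h
              · exact edgesRangeI_spec iota E 3 1789 208924 edges_3_111 v (by omega) (by omega)
              · exact edgesRangeI_spec iota E 3 1856 210713 edges_3_112 v (by omega) (by omega)
            · rcases Nat.lt_or_ge v 214362 with h | h
              · exact edgesRangeI_spec iota E 3 1793 212569 edges_3_113 v (by omega) (by omega)
              · rcases Nat.lt_or_ge v 216164 with h | h
                · exact edgesRangeI_spec iota E 3 1802 214362 edges_3_114 v (by omega) (by omega)
                · exact edgesRangeI_spec iota E 3 1877 216164 edges_3_115 v (by omega) (by omega)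
        · rcases Nat.lt_or_ge v 227078 with h | h
          · rcases Nat.lt_or_ge v 221899 with h | h
            · rcases Nat.lt_or_ge v 219937 with h | h
              · exact edgesRangeI_spec iota E 3 1896 218041 edges_3_116 v (by omega) (by omega)
              · exact edgesRangeI_spec iota E 3 1962 219937 edges_3_117 v (by omega) (by omega)
            · rcases Nat.lt_or_ge v 223651 with h | h
              · exact edgesRangeI_spec iota E 3 1752 221899 edges_3_118 v (by omega) (by omega)
              · rcases Nat.lt_or_ge v 225360 with h | h
                · exact edgesRangeI_spec iota E 3 1709 223651 edges_3_119 v (by omega) (by omega)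
                · exact edgesRangeI_spec iota E 3 1718 225360 edges_3_120 v (by omega) (by omega)
          · rcases Nat.lt_or_ge v 232165 with h | h
            · rcases Nat.lt_or_ge v 228755 with h | h
              · exact edgesRangeI_spec iota E 3 1677 227078 edges_3_121 v (by omega) (by omega)
              · rcases Nat.lt_or_ge v 230459 with h | h
                · exact edgesRangeI_spec iota E 3 1704 228755 edges_3_122 v (by omega) (by omega)
                · exact edgesRangeI_spec iota E 3 1706 230459 edges_3_123 v (by omega) (by omega)
            · rcases Nat.lt_or_ge v 233999 with h | h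
              · exact edgesRangeI_spec iota E 3 1834 232165 edges_3_124 v (by omega) (by omega)
              · rcases Nat.lt_or_ge v 235812 with h | h
                · exact edgesRangeI_spec iota E 3 1813 233999 edges_3_125 v (by omega) (by omega)
                · exact edgesRangeI_spec iota E 3 1771 235812 edges_3_126 v (by omega) (by omega)
    · rcases Nat.lt_or_ge v 273671 with h | h
      · rcases Nat.lt_or_ge v 254963 with h | h
        · rcases Nat.lt_or_ge v 246651 with h | h
          · rcases Nat.lt_or_ge v 241117 with h | h
            · rcases Nat.lt_or_ge v 239347 with h | h
              · exact edgesRangeI_spec iota E 3 1764 237583 edges_3_127 v (by omega) (by omega)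
              · exact edgesRangeI_spec iota E 3 1770 239347 edges_3_128 v (by omega) (by omega)
            · rcases Nat.lt_or_ge v 242900 with h | h
              · exact edgesRangeI_spec iota E 3 1783 241117 edges_3_129 v (by omega) (by omega)
              · rcases Nat.lt_or_ge v 244785 with h | h
                · exact edgesRangeI_spec iota E 3 1885 242900 edges_3_130 v (by omega) (by omega)
                · exact edgesRangeI_spec iota E 3 1866 244785 edges_3_131 v (by omega) (by omega)
          · rcases Nat.lt_or_ge v 249976 with h | h
            · rcases Nat.lt_or_ge v 248288 with h | h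
              · exact edgesRangeI_spec iota E 3 1637 246651 edges_3_132 v (by omega) (by omega)
              · exact edgesRangeI_spec iota E 3 1688 248288 edges_3_133 v (by omega) (by omega)
            · rcases Nat.lt_or_ge v 251661 with h | h
              · exact edgesRangeI_spec iota E 3 1685 249976 edges_3_134 v (by omega) (by omega)
              · rcases Nat.lt_or_ge v 253315 with h | h
                · exact edgesRangeI_spec iota E 3 1654 251661 edges_3_135 v (by omega) (by omega)
                · exact edgesRangeI_spec iota E 3 1648 253315 edges_3_136 v (by omega) (by omega)
        · rcases Nat.lt_or_ge v 263620 with h | h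
          · rcases Nat.lt_or_ge v 258387 with h | h
            · rcases Nat.lt_or_ge v 256626 with h | h
              · exact edgesRangeI_spec iota E 3 1663 254963 edges_3_137 v (by omega) (by omega)
              · exact edgesRangeI_spec iota E 3 1761 256626 edges_3_138 v (by omega) (by omega)
            · rcases Nat.lt_or_ge v 260145 with h | h
              · exact edgesRangeI_spec iota E 3 1758 258387 edges_3_139 v (by omega) (by omega)
              · rcases Nat.lt_or_ge v 261864 with h | h
                · exact edgesRangeI_spec iota E 3 1719 260145 edges_3_140 v (by omega) (by omega)
                · exact edgesRangeI_spec iota E 3 1756 261864 edges_3_141 v (by omega) (by omega)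
          · rcases Nat.lt_or_ge v 268865 with h | h
            · rcases Nat.lt_or_ge v 265342 with h | h
              · exact edgesRangeI_spec iota E 3 1722 263620 edges_3_142 v (by omega) (by omega)
              · rcases Nat.lt_or_ge v 267120 with h | h
                · exact edgesRangeI_spec iota E 3 1778 265342 edges_3_143 v (by omega) (by omega)
                · exact edgesRangeI_spec iota E 3 1745 267120 edges_3_144 v (by omega) (by omega)
            · rcases Nat.lt_or_ge v 270398 with h | h
              · exact edgesRangeI_spec iota E 3 1533 268865 edges_3_145 v (by omega) (by omega)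
              · rcases Nat.lt_or_ge v 272005 with h | h
                · exact edgesRangeI_spec iota E 3 1607 270398 edges_3_146 v (by omega) (by omega)
                · exact edgesRangeI_spec iota E 3 1666 272005 edges_3_147 v (by omega) (by omega)
      · rcases Nat.lt_or_ge v 291667 with h | h
        · rcases Nat.lt_or_ge v 281970 with h | h
          · rcases Nat.lt_or_ge v 276984 with h | h
            · rcases Nat.lt_or_ge v 275310 with h | h
              · exact edgesRangeI_spec iota E 3 1639 273671 edges_3_148 v (by omega) (by omega)
              · exact edgesRangeI_spec iota E 3 1674 275310 edges_3_149 v (by omega) (by omega)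
            · rcases Nat.lt_or_ge v 278588 with h | h
              · exact edgesRangeI_spec iota E 3 1604 276984 edges_3_150 v (by omega) (by omega)
              · rcases Nat.lt_or_ge v 280252 with h | h
                · exact edgesRangeI_spec iota E 3 1664 278588 edges_3_151 v (by omega) (by omega)
                · exact edgesRangeI_spec iota E 3 1718 280252 edges_3_152 v (by omega) (by omega)
          · rcases Nat.lt_or_ge v 286835 with h | h
            · rcases Nat.lt_or_ge v 283666 with h | h
              · exact edgesRangeI_spec iota E 3 1696 281970 edges_3_153 v (by omega) (by omega)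
              · rcases Nat.lt_or_ge v 285332 with h | h
                · exact edgesRangeI_spec iota E 3 1666 283666 edges_3_154 v (by omega) (by omega)
                · exact edgesRangeI_spec iota E 3 1503 285332 edges_3_155 v (by omega) (by omega)
            · rcases Nat.lt_or_ge v 288344 with h | h
              · exact edgesRangeI_spec iota E 3 1509 286835 edges_3_156 v (by omega) (by omega)
              · rcases Nat.lt_or_ge v 290005 with h | h
                · exact edgesRangeI_spec iota E 3 1661 288344 edges_3_157 v (by omega) (by omega)
                · exact edgesRangeI_spec iota E 3 1662 290005 edges_3_158 v (by omega) (by omega)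
        · rcases Nat.lt_or_ge v 299559 with h | h
          · rcases Nat.lt_or_ge v 294901 with h | h
            · rcases Nat.lt_or_ge v 293232 with h | h
              · exact edgesRangeI_spec iota E 3 1565 291667 edges_3_159 v (by omega) (by omega)
              · exact edgesRangeI_spec iota E 3 1669 293232 edges_3_160 v (by omega) (by omega)
            · rcases Nat.lt_or_ge v 296522 with h | h
              · exact edgesRangeI_spec iota E 3 1621 294901 edges_3_161 v (by omega) (by omega)
              · rcases Nat.lt_or_ge v 297954 with h | h
                · exact edgesRangeI_spec iota E 3 1432 296522 edges_3_162 v (by omega) (by omega)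
                · exact edgesRangeI_spec iota E 3 1605 297954 edges_3_163 v (by omega) (by omega)
          · rcases Nat.lt_or_ge v 304223 with h | h
            · rcases Nat.lt_or_ge v 301135 with h | h
              · exact edgesRangeI_spec iota E 3 1576 299559 edges_3_164 v (by omega) (by omega)
              · rcases Nat.lt_or_ge v 302765 with h | h
                · exact edgesRangeI_spec iota E 3 1630 301135 edges_3_165 v (by omega) (by omega)
                · exact edgesRangeI_spec iota E 3 1458 302765 edges_3_166 v (by omega) (by omega)
            · rcases Nat.lt_or_ge v 305789 with h | h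
              · exact edgesRangeI_spec iota E 3 1566 304223 edges_3_167 v (by omega) (by omega)
              · rcases Nat.lt_or_ge v 307297 with h | h
                · exact edgesRangeI_spec iota E 3 1508 305789 edges_3_168 v (by omega) (by omega)
                · exact edgesRangeI_spec iota E 3 307 307297 edges_3_169 v (by omega) (by omega)

theorem edgesx_4 : ∀ v, v < 307604 → edgeOKI iota E 4 v = true := by
  intro v hv
  rcases Nat.lt_or_ge v 157879 with h | h
  · rcases Nat.lt_or_ge v 75461 with h | h
    · rcases Nat.lt_or_ge v 36008 with h | h
      · rcases Nat.lt_or_ge v 17952 with h | h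
        · rcases Nat.lt_or_ge v 8946 with h | h
          · rcases Nat.lt_or_ge v 3645 with h | h
            · rcases Nat.lt_or_ge v 1792 with h | h
              · exact edgesRangeI_spec iota E 4 1792 0 edges_4_0 v (by omega) (by omega)
              · exact edgesRangeI_spec iota E 4 1853 1792 edges_4_1 v (by omega) (by omega)
            · rcases Nat.lt_or_ge v 5499 with h | h
              · exact edgesRangeI_spec iota E 4 1854 3645 edges_4_2 v (by omega) (by omega)
              · rcases Nat.lt_or_ge v 7250 with h | h
                · exact edgesRangeI_spec iota E 4 1751 5499 edges_4_3 v (by omega) (by omega)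
                · exact edgesRangeI_spec iota E 4 1696 7250 edges_4_4 v (by omega) (by omega)
          · rcases Nat.lt_or_ge v 12556 with h | h
            · rcases Nat.lt_or_ge v 10754 with h | h
              · exact edgesRangeI_spec iota E 4 1808 8946 edges_4_5 v (by omega) (by omega)
              · exact edgesRangeI_spec iota E 4 1802 10754 edges_4_6 v (by omega) (by omega)
            · rcases Nat.lt_or_ge v 14317 with h | h
              · exact edgesRangeI_spec iota E 4 1761 12556 edges_4_7 v (by omega) (by omega)
              · rcases Nat.lt_or_ge v 16149 with h | h
                · exact edgesRangeI_spec iota E 4 1832 14317 edges_4_8 v (by omega) (by omega)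
                · exact edgesRangeI_spec iota E 4 1803 16149 edges_4_9 v (by omega) (by omega)
        · rcases Nat.lt_or_ge v 26959 with h | h
          · rcases Nat.lt_or_ge v 21528 with h | h
            · rcases Nat.lt_or_ge v 19787 with h | h
              · exact edgesRangeI_spec iota E 4 1835 17952 edges_4_10 v (by omega) (by omega)
              · exact edgesRangeI_spec iota E 4 1741 19787 edges_4_11 v (by omega) (by omega)
            · rcases Nat.lt_or_ge v 23388 with h | h
              · exact edgesRangeI_spec iota E 4 1860 21528 edges_4_12 v (by omega) (by omega)
              · rcases Nat.lt_or_ge v 25199 with h | h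
                · exact edgesRangeI_spec iota E 4 1811 23388 edges_4_13 v (by omega) (by omega)
                · exact edgesRangeI_spec iota E 4 1760 25199 edges_4_14 v (by omega) (by omega)
          · rcases Nat.lt_or_ge v 30629 with h | h
            · rcases Nat.lt_or_ge v 28802 with h | h
              · exact edgesRangeI_spec iota E 4 1843 26959 edges_4_15 v (by omega) (by omega)
              · exact edgesRangeI_spec iota E 4 1827 28802 edges_4_16 v (by omega) (by omega)
            · rcases Nat.lt_or_ge v 32441 with h | h
              · exact edgesRangeI_spec iota E 4 1812 30629 edges_4_17 v (by omega) (by omega)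
              · rcases Nat.lt_or_ge v 34230 with h | h
                · exact edgesRangeI_spec iota E 4 1789 32441 edges_4_18 v (by omega) (by omega)
                · exact edgesRangeI_spec iota E 4 1778 34230 edges_4_19 v (by omega) (by omega)
      · rcases Nat.lt_or_ge v 54584 with h | h
        · rcases Nat.lt_or_ge v 45170 with h | h
          · rcases Nat.lt_or_ge v 39698 with h | h
            · rcases Nat.lt_or_ge v 37910 with h | h
              · exact edgesRangeI_spec iota E 4 1902 36008 edges_4_20 v (by omega) (by omega)
              · exact edgesRangeI_spec iota E 4 1788 37910 edges_4_21 v (by omega) (by omega)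
            · rcases Nat.lt_or_ge v 41578 with h | h
              · exact edgesRangeI_spec iota E 4 1880 39698 edges_4_22 v (by omega) (by omega)
              · rcases Nat.lt_or_ge v 43401 with h | h
                · exact edgesRangeI_spec iota E 4 1823 41578 edges_4_23 v (by omega) (by omega)
                · exact edgesRangeI_spec iota E 4 1769 43401 edges_4_24 v (by omega) (by omega)
          · rcases Nat.lt_or_ge v 49004 with h | h
            · rcases Nat.lt_or_ge v 47181 with h | h
              · exact edgesRangeI_spec iota E 4 2011 45170 edges_4_25 v (by omega) (by omega)
              · exact edgesRangeI_spec iota E 4 1823 47181 edges_4_26 v (by omega) (by omega)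
            · rcases Nat.lt_or_ge v 50771 with h | h
              · exact edgesRangeI_spec iota E 4 1767 49004 edges_4_27 v (by omega) (by omega)
              · rcases Nat.lt_or_ge v 52691 with h | h
                · exact edgesRangeI_spec iota E 4 1920 50771 edges_4_28 v (by omega) (by omega)
                · exact edgesRangeI_spec iota E 4 1893 52691 edges_4_29 v (by omega) (by omega)
        · rcases Nat.lt_or_ge v 63901 with h | h
          · rcases Nat.lt_or_ge v 58364 with h | h
            · rcases Nat.lt_or_ge v 56417 with h | h
              · exact edgesRangeI_spec iota E 4 1833 54584 edges_4_30 v (by omega) (by omega)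
              · exact edgesRangeI_spec iota E 4 1947 56417 edges_4_31 v (by omega) (by omega)
            · rcases Nat.lt_or_ge v 60231 with h | h
              · exact edgesRangeI_spec iota E 4 1867 58364 edges_4_32 v (by omega) (by omega)
              · rcases Nat.lt_or_ge v 62100 with h | h
                · exact edgesRangeI_spec iota E 4 1869 60231 edges_4_33 v (by omega) (by omega)
                · exact edgesRangeI_spec iota E 4 1801 62100 edges_4_34 v (by omega) (by omega)
          · rcases Nat.lt_or_ge v 69714 with h | h
            · rcases Nat.lt_or_ge v 65833 with h | h
              · exact edgesRangeI_spec iota E 4 1932 63901 edges_4_35 v (by omega) (by omega)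
              · rcases Nat.lt_or_ge v 67804 with h | h
                · exact edgesRangeI_spec iota E 4 1971 65833 edges_4_36 v (by omega) (by omega)
                · exact edgesRangeI_spec iota E 4 1910 67804 edges_4_37 v (by omega) (by omega)
            · rcases Nat.lt_or_ge v 71639 with h | h
              · exact edgesRangeI_spec iota E 4 1925 69714 edges_4_38 v (by omega) (by omega)
              · rcases Nat.lt_or_ge v 73646 with h | h
                · exact edgesRangeI_spec iota E 4 2007 71639 edges_4_39 v (by omega) (by omega)
                · exact edgesRangeI_spec iota E 4 1815 73646 edges_4_40 v (by omega) (by omega)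
    · rcases Nat.lt_or_ge v 116406 with h | h
      · rcases Nat.lt_or_ge v 94841 with h | h
        · rcases Nat.lt_or_ge v 85242 with h | h
          · rcases Nat.lt_or_ge v 79226 with h | h
            · rcases Nat.lt_or_ge v 77373 with h | h
              · exact edgesRangeI_spec iota E 4 1912 75461 edges_4_41 v (by omega) (by omega)
              · exact edgesRangeI_spec iota E 4 1853 77373 edges_4_42 v (by omega) (by omega)
            · rcases Nat.lt_or_ge v 81197 with h | h
              · exact edgesRangeI_spec iota E 4 1971 79226 edges_4_43 v (by omega) (by omega)
              · rcases Nat.lt_or_ge v 83248 with h | h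
                · exact edgesRangeI_spec iota E 4 2051 81197 edges_4_44 v (by omega) (by omega)
                · exact edgesRangeI_spec iota E 4 1994 83248 edges_4_45 v (by omega) (by omega)
          · rcases Nat.lt_or_ge v 89151 with h | h
            · rcases Nat.lt_or_ge v 87233 with h | h
              · exact edgesRangeI_spec iota E 4 1991 85242 edges_4_46 v (by omega) (by omega)
              · exact edgesRangeI_spec iota E 4 1918 87233 edges_4_47 v (by omega) (by omega)
            · rcases Nat.lt_or_ge v 90998 with h | h
              · exact edgesRangeI_spec iota E 4 1847 89151 edges_4_48 v (by omega) (by omega)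
              · rcases Nat.lt_or_ge v 92900 with h | h
                · exact edgesRangeI_spec iota E 4 1902 90998 edges_4_49 v (by omega) (by omega)
                · exact edgesRangeI_spec iota E 4 1941 92900 edges_4_50 v (by omega) (by omega)
        · rcases Nat.lt_or_ge v 104767 with h | h
          · rcases Nat.lt_or_ge v 98728 with h | h
            · rcases Nat.lt_or_ge v 96718 with h | h
              · exact edgesRangeI_spec iota E 4 1877 94841 edges_4_51 v (by omega) (by omega)
              · exact edgesRangeI_spec iota E 4 2010 96718 edges_4_52 v (by omega) (by omega)
            · rcases Nat.lt_or_ge v 100801 with h | h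
              · exact edgesRangeI_spec iota E 4 2073 98728 edges_4_53 v (by omega) (by omega)
              · rcases Nat.lt_or_ge v 102783 with h | h
                · exact edgesRangeI_spec iota E 4 1982 100801 edges_4_54 v (by omega) (by omega)
                · exact edgesRangeI_spec iota E 4 1984 102783 edges_4_55 v (by omega) (by omega)
          · rcases Nat.lt_or_ge v 110526 with h | h
            · rcases Nat.lt_or_ge v 106683 with h | h
              · exact edgesRangeI_spec iota E 4 1916 104767 edges_4_56 v (by omega) (by omega)
              · rcases Nat.lt_or_ge v 108722 with h | h
                · exact edgesRangeI_spec iota E 4 2039 106683 edges_4_57 v (by omega) (by omega)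
                · exact edgesRangeI_spec iota E 4 1804 108722 edges_4_58 v (by omega) (by omega)
            · rcases Nat.lt_or_ge v 112504 with h | h
              · exact edgesRangeI_spec iota E 4 1978 110526 edges_4_59 v (by omega) (by omega)
              · rcases Nat.lt_or_ge v 114447 with h | h
                · exact edgesRangeI_spec iota E 4 1943 112504 edges_4_60 v (by omega) (by omega)
                · exact edgesRangeI_spec iota E 4 1959 114447 edges_4_61 v (by omega) (by omega)
      · rcases Nat.lt_or_ge v 136096 with h | h
        · rcases Nat.lt_or_ge v 126419 with h | h
          · rcases Nat.lt_or_ge v 120467 with h | h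
            · rcases Nat.lt_or_ge v 118435 with h | h
              · exact edgesRangeI_spec iota E 4 2029 116406 edges_4_62 v (by omega) (by omega)
              · exact edgesRangeI_spec iota E 4 2032 118435 edges_4_63 v (by omega) (by omega)
            · rcases Nat.lt_or_ge v 122465 with h | h
              · exact edgesRangeI_spec iota E 4 1998 120467 edges_4_64 v (by omega) (by omega)
              · rcases Nat.lt_or_ge v 124493 with h | h
                · exact edgesRangeI_spec iota E 4 2028 122465 edges_4_65 v (by omega) (by omega)
                · exact edgesRangeI_spec iota E 4 1926 124493 edges_4_66 v (by omega) (by omega)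
          · rcases Nat.lt_or_ge v 130294 with h | h
            · rcases Nat.lt_or_ge v 128457 with h | h
              · exact edgesRangeI_spec iota E 4 2038 126419 edges_4_67 v (by omega) (by omega)
              · exact edgesRangeI_spec iota E 4 1837 128457 edges_4_68 v (by omega) (by omega)
            · rcases Nat.lt_or_ge v 132228 with h | h
              · exact edgesRangeI_spec iota E 4 1934 130294 edges_4_69 v (by omega) (by omega)
              · rcases Nat.lt_or_ge v 134202 with h | h
                · exact edgesRangeI_spec iota E 4 1974 132228 edges_4_70 v (by omega) (by omega)
                · exact edgesRangeI_spec iota E 4 1894 134202 edges_4_71 v (by omega) (by omega)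
        · rcases Nat.lt_or_ge v 146298 with h | h
          · rcases Nat.lt_or_ge v 140216 with h | h
            · rcases Nat.lt_or_ge v 138190 with h | h
              · exact edgesRangeI_spec iota E 4 2094 136096 edges_4_72 v (by omega) (by omega)
              · exact edgesRangeI_spec iota E 4 2026 138190 edges_4_73 v (by omega) (by omega)
            · rcases Nat.lt_or_ge v 142260 with h | h
              · exact edgesRangeI_spec iota E 4 2044 140216 edges_4_74 v (by omega) (by omega)
              · rcases Nat.lt_or_ge v 144221 with h | h
                · exact edgesRangeI_spec iota E 4 1961 142260 edges_4_75 v (by omega) (by omega)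
                · exact edgesRangeI_spec iota E 4 2077 144221 edges_4_76 v (by omega) (by omega)
          · rcases Nat.lt_or_ge v 152076 with h | h
            · rcases Nat.lt_or_ge v 148176 with h | h
              · exact edgesRangeI_spec iota E 4 1878 146298 edges_4_77 v (by omega) (by omega)
              · rcases Nat.lt_or_ge v 150215 with h | h
                · exact edgesRangeI_spec iota E 4 2039 148176 edges_4_78 v (by omega) (by omega)
                · exact edgesRangeI_spec iota E 4 1861 150215 edges_4_79 v (by omega) (by omega)
            · rcases Nat.lt_or_ge v 154010 with h | h
              · exact edgesRangeI_spec iota E 4 1934 152076 edges_4_80 v (by omega) (by omega)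
              · rcases Nat.lt_or_ge v 155921 with h | h
                · exact edgesRangeI_spec iota E 4 1911 154010 edges_4_81 v (by omega) (by omega)
                · exact edgesRangeI_spec iota E 4 1958 155921 edges_4_82 v (by omega) (by omega)
  · rcases Nat.lt_or_ge v 238572 with h | h
    · rcases Nat.lt_or_ge v 199217 with h | h
      · rcases Nat.lt_or_ge v 177690 with h | h
        · rcases Nat.lt_or_ge v 167953 with h | h
          · rcases Nat.lt_or_ge v 161998 with h | h
            · rcases Nat.lt_or_ge v 159912 with h | h
              · exact edgesRangeI_spec iota E 4 2033 157879 edges_4_83 v (by omega) (by omega)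
              · exact edgesRangeI_spec iota E 4 2086 159912 edges_4_84 v (by omega) (by omega)
            · rcases Nat.lt_or_ge v 164000 with h | h
              · exact edgesRangeI_spec iota E 4 2002 161998 edges_4_85 v (by omega) (by omega)
              · rcases Nat.lt_or_ge v 166040 with h | h
                · exact edgesRangeI_spec iota E 4 2040 164000 edges_4_86 v (by omega) (by omega)
                · exact edgesRangeI_spec iota E 4 1913 166040 edges_4_87 v (by omega) (by omega)
          · rcases Nat.lt_or_ge v 171942 with h | h
            · rcases Nat.lt_or_ge v 170005 with h | h
              · exact edgesRangeI_spec iota E 4 2052 167953 edges_4_88 v (by omega) (by omega)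
              · exact edgesRangeI_spec iota E 4 1937 170005 edges_4_89 v (by omega) (by omega)
            · rcases Nat.lt_or_ge v 173921 with h | h
              · exact edgesRangeI_spec iota E 4 1979 171942 edges_4_90 v (by omega) (by omega)
              · rcases Nat.lt_or_ge v 175769 with h | h
                · exact edgesRangeI_spec iota E 4 1848 173921 edges_4_91 v (by omega) (by omega)
                · exact edgesRangeI_spec iota E 4 1921 175769 edges_4_92 v (by omega) (by omega)
        · rcases Nat.lt_or_ge v 187560 with h | h
          · rcases Nat.lt_or_ge v 181544 with h | h
            · rcases Nat.lt_or_ge v 179576 with h | h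
              · exact edgesRangeI_spec iota E 4 1886 177690 edges_4_93 v (by omega) (by omega)
              · exact edgesRangeI_spec iota E 4 1968 179576 edges_4_94 v (by omega) (by omega)
            · rcases Nat.lt_or_ge v 183489 with h | h
              · exact edgesRangeI_spec iota E 4 1945 181544 edges_4_95 v (by omega) (by omega)
              · rcases Nat.lt_or_ge v 185557 with h | h
                · exact edgesRangeI_spec iota E 4 2068 183489 edges_4_96 v (by omega) (by omega)
                · exact edgesRangeI_spec iota E 4 2003 185557 edges_4_97 v (by omega) (by omega)
          · rcases Nat.lt_or_ge v 193498 with h | h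
            · rcases Nat.lt_or_ge v 189575 with h | h
              · exact edgesRangeI_spec iota E 4 2015 187560 edges_4_98 v (by omega) (by omega)
              · rcases Nat.lt_or_ge v 191547 with h | h
                · exact edgesRangeI_spec iota E 4 1972 189575 edges_4_99 v (by omega) (by omega)
                · exact edgesRangeI_spec iota E 4 1951 191547 edges_4_100 v (by omega) (by omega)
            · rcases Nat.lt_or_ge v 195328 with h | h
              · exact edgesRangeI_spec iota E 4 1830 193498 edges_4_101 v (by omega) (by omega)
              · rcases Nat.lt_or_ge v 197285 with h | h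
                · exact edgesRangeI_spec iota E 4 1957 195328 edges_4_102 v (by omega) (by omega)
                · exact edgesRangeI_spec iota E 4 1932 197285 edges_4_103 v (by omega) (by omega)
      · rcases Nat.lt_or_ge v 218294 with h | h
        · rcases Nat.lt_or_ge v 208537 with h | h
          · rcases Nat.lt_or_ge v 202941 with h | h
            · rcases Nat.lt_or_ge v 201034 with h | h
              · exact edgesRangeI_spec iota E 4 1817 199217 edges_4_104 v (by omega) (by omega)
              · exact edgesRangeI_spec iota E 4 1907 201034 edges_4_105 v (by omega) (by omega)
            · rcases Nat.lt_or_ge v 204835 with h | h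
              · exact edgesRangeI_spec iota E 4 1894 202941 edges_4_106 v (by omega) (by omega)
              · rcases Nat.lt_or_ge v 206724 with h | h
                · exact edgesRangeI_spec iota E 4 1889 204835 edges_4_107 v (by omega) (by omega)
                · exact edgesRangeI_spec iota E 4 1813 206724 edges_4_108 v (by omega) (by omega)
          · rcases Nat.lt_or_ge v 212522 with h | h
            · rcases Nat.lt_or_ge v 210516 with h | h
              · exact edgesRangeI_spec iota E 4 1979 208537 edges_4_109 v (by omega) (by omega)
              · exact edgesRangeI_spec iota E 4 2006 210516 edges_4_110 v (by omega) (by omega)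
            · rcases Nat.lt_or_ge v 214474 with h | h
              · exact edgesRangeI_spec iota E 4 1952 212522 edges_4_111 v (by omega) (by omega)
              · rcases Nat.lt_or_ge v 216451 with h | h
                · exact edgesRangeI_spec iota E 4 1977 214474 edges_4_112 v (by omega) (by omega)
                · exact edgesRangeI_spec iota E 4 1843 216451 edges_4_113 v (by omega) (by omega)
        · rcases Nat.lt_or_ge v 227604 with h | h
          · rcases Nat.lt_or_ge v 222158 with h | h
            · rcases Nat.lt_or_ge v 220236 with h | h
              · exact edgesRangeI_spec iota E 4 1942 218294 edges_4_114 v (by omega) (by omega)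
              · exact edgesRangeI_spec iota E 4 1922 220236 edges_4_115 v (by omega) (by omega)
            · rcases Nat.lt_or_ge v 224035 with h | h
              · exact edgesRangeI_spec iota E 4 1877 222158 edges_4_116 v (by omega) (by omega)
              · rcases Nat.lt_or_ge v 225814 with h | h
                · exact edgesRangeI_spec iota E 4 1779 224035 edges_4_117 v (by omega) (by omega)
                · exact edgesRangeI_spec iota E 4 1790 225814 edges_4_118 v (by omega) (by omega)
          · rcases Nat.lt_or_ge v 233036 with h | h
            · rcases Nat.lt_or_ge v 229414 with h | h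
              · exact edgesRangeI_spec iota E 4 1810 227604 edges_4_119 v (by omega) (by omega)
              · rcases Nat.lt_or_ge v 231259 with h | h
                · exact edgesRangeI_spec iota E 4 1845 229414 edges_4_120 v (by omega) (by omega)
                · exact edgesRangeI_spec iota E 4 1777 231259 edges_4_121 v (by omega) (by omega)
            · rcases Nat.lt_or_ge v 234825 with h | h
              · exact edgesRangeI_spec iota E 4 1789 233036 edges_4_122 v (by omega) (by omega)
              · rcases Nat.lt_or_ge v 236665 with h | h
                · exact edgesRangeI_spec iota E 4 1840 234825 edges_4_123 v (by omega) (by omega)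
                · exact edgesRangeI_spec iota E 4 1907 236665 edges_4_124 v (by omega) (by omega)
    · rcases Nat.lt_or_ge v 275284 with h | h
      · rcases Nat.lt_or_ge v 256557 with h | h
        · rcases Nat.lt_or_ge v 247924 with h | h
          · rcases Nat.lt_or_ge v 242343 with h | h
            · rcases Nat.lt_or_ge v 240486 with h | h
              · exact edgesRangeI_spec iota E 4 1914 238572 edges_4_125 v (by omega) (by omega)
              · exact edgesRangeI_spec iota E 4 1857 240486 edges_4_126 v (by omega) (by omega)
            · rcases Nat.lt_or_ge v 244263 with h | h
              · exact edgesRangeI_spec iota E 4 1920 242343 edges_4_127 v (by omega) (by omega)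
              · rcases Nat.lt_or_ge v 246172 with h | h
                · exact edgesRangeI_spec iota E 4 1909 244263 edges_4_128 v (by omega) (by omega)
                · exact edgesRangeI_spec iota E 4 1752 246172 edges_4_129 v (by omega) (by omega)
          · rcases Nat.lt_or_ge v 251400 with h | h
            · rcases Nat.lt_or_ge v 249673 with h | h
              · exact edgesRangeI_spec iota E 4 1749 247924 edges_4_130 v (by omega) (by omega)
              · exact edgesRangeI_spec iota E 4 1727 249673 edges_4_131 v (by omega) (by omega)
            · rcases Nat.lt_or_ge v 253082 with h | h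
              · exact edgesRangeI_spec iota E 4 1682 251400 edges_4_132 v (by omega) (by omega)
              · rcases Nat.lt_or_ge v 254769 with h | h
                · exact edgesRangeI_spec iota E 4 1687 253082 edges_4_133 v (by omega) (by omega)
                · exact edgesRangeI_spec iota E 4 1788 254769 edges_4_134 v (by omega) (by omega)
        · rcases Nat.lt_or_ge v 265300 with h | h
          · rcases Nat.lt_or_ge v 259926 with h | h
            · rcases Nat.lt_or_ge v 258202 with h | h
              · exact edgesRangeI_spec iota E 4 1645 256557 edges_4_135 v (by omega) (by omega)
              · exact edgesRangeI_spec iota E 4 1724 258202 edges_4_136 v (by omega) (by omega)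
            · rcases Nat.lt_or_ge v 261682 with h | h
              · exact edgesRangeI_spec iota E 4 1756 259926 edges_4_137 v (by omega) (by omega)
              · rcases Nat.lt_or_ge v 263534 with h | h
                · exact edgesRangeI_spec iota E 4 1852 261682 edges_4_138 v (by omega) (by omega)
                · exact edgesRangeI_spec iota E 4 1766 263534 edges_4_139 v (by omega) (by omega)
          · rcases Nat.lt_or_ge v 270525 with h | h
            · rcases Nat.lt_or_ge v 267136 with h | h
              · exact edgesRangeI_spec iota E 4 1836 265300 edges_4_140 v (by omega) (by omega)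
              · rcases Nat.lt_or_ge v 268888 with h | h
                · exact edgesRangeI_spec iota E 4 1752 267136 edges_4_141 v (by omega) (by omega)
                · exact edgesRangeI_spec iota E 4 1637 268888 edges_4_142 v (by omega) (by omega)
            · rcases Nat.lt_or_ge v 272089 with h | h
              · exact edgesRangeI_spec iota E 4 1564 270525 edges_4_143 v (by omega) (by omega)
              · rcases Nat.lt_or_ge v 273701 with h | h
                · exact edgesRangeI_spec iota E 4 1612 272089 edges_4_144 v (by omega) (by omega)
                · exact edgesRangeI_spec iota E 4 1583 273701 edges_4_145 v (by omega) (by omega)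
      · rcases Nat.lt_or_ge v 291628 with h | h
        · rcases Nat.lt_or_ge v 283666 with h | h
          · rcases Nat.lt_or_ge v 278548 with h | h
            · rcases Nat.lt_or_ge v 276941 with h | h
              · exact edgesRangeI_spec iota E 4 1657 275284 edges_4_146 v (by omega) (by omega)
              · exact edgesRangeI_spec iota E 4 1607 276941 edges_4_147 v (by omega) (by omega)
            · rcases Nat.lt_or_ge v 280220 with h | h
              · exact edgesRangeI_spec iota E 4 1672 278548 edges_4_148 v (by omega) (by omega)
              · rcases Nat.lt_or_ge v 281938 with h | h
                · exact edgesRangeI_spec iota E 4 1718 280220 edges_4_149 v (by omega) (by omega)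
                · exact edgesRangeI_spec iota E 4 1728 281938 edges_4_150 v (by omega) (by omega)
          · rcases Nat.lt_or_ge v 287013 with h | h
            · rcases Nat.lt_or_ge v 285492 with h | h
              · exact edgesRangeI_spec iota E 4 1826 283666 edges_4_151 v (by omega) (by omega)
              · exact edgesRangeI_spec iota E 4 1521 285492 edges_4_152 v (by omega) (by omega)
            · rcases Nat.lt_or_ge v 288497 with h | h
              · exact edgesRangeI_spec iota E 4 1484 287013 edges_4_153 v (by omega) (by omega)
              · rcases Nat.lt_or_ge v 290058 with h | h
                · exact edgesRangeI_spec iota E 4 1561 288497 edges_4_154 v (by omega) (by omega)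
                · exact edgesRangeI_spec iota E 4 1570 290058 edges_4_155 v (by omega) (by omega)
        · rcases Nat.lt_or_ge v 299497 with h | h
          · rcases Nat.lt_or_ge v 294867 with h | h
            · rcases Nat.lt_or_ge v 293246 with h | h
              · exact edgesRangeI_spec iota E 4 1618 291628 edges_4_156 v (by omega) (by omega)
              · exact edgesRangeI_spec iota E 4 1621 293246 edges_4_157 v (by omega) (by omega)
            · rcases Nat.lt_or_ge v 296620 with h | h
              · exact edgesRangeI_spec iota E 4 1753 294867 edges_4_158 v (by omega) (by omega)
              · rcases Nat.lt_or_ge v 298008 with h | h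
                · exact edgesRangeI_spec iota E 4 1388 296620 edges_4_159 v (by omega) (by omega)
                · exact edgesRangeI_spec iota E 4 1489 298008 edges_4_160 v (by omega) (by omega)
          · rcases Nat.lt_or_ge v 304135 with h | h
            · rcases Nat.lt_or_ge v 301067 with h | h
              · exact edgesRangeI_spec iota E 4 1570 299497 edges_4_161 v (by omega) (by omega)
              · rcases Nat.lt_or_ge v 302724 with h | h
                · exact edgesRangeI_spec iota E 4 1657 301067 edges_4_162 v (by omega) (by omega)
                · exact edgesRangeI_spec iota E 4 1411 302724 edges_4_163 v (by omega) (by omega)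
            · rcases Nat.lt_or_ge v 305711 with h | h
              · exact edgesRangeI_spec iota E 4 1576 304135 edges_4_164 v (by omega) (by omega)
              · rcases Nat.lt_or_ge v 307184 with h | h
                · exact edgesRangeI_spec iota E 4 1473 305711 edges_4_165 v (by omega) (by omega)
                · exact edgesRangeI_spec iota E 4 420 307184 edges_4_166 v (by omega) (by omega)

theorem edgesx_5 : ∀ v, v < 307604 → edgeOKI iota E 5 v = true := by
  intro v hv
  rcases Nat.lt_or_ge v 152091 with h | h
  · rcases Nat.lt_or_ge v 74421 with h | h
    · rcases Nat.lt_or_ge v 36160 with h | h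
      · rcases Nat.lt_or_ge v 17808 with h | h
        · rcases Nat.lt_or_ge v 8814 with h | h
          · rcases Nat.lt_or_ge v 3585 with h | h
            · rcases Nat.lt_or_ge v 1756 with h | h
              · exact edgesRangeI_spec iota E 5 1756 0 edges_5_0 v (by omega) (by omega)
              · exact edgesRangeI_spec iota E 5 1829 1756 edges_5_1 v (by omega) (by omega)
            · rcases Nat.lt_or_ge v 5383 with h | h
              · exact edgesRangeI_spec iota E 5 1798 3585 edges_5_2 v (by omega) (by omega)
              · rcases Nat.lt_or_ge v 7104 with h | h
                · exact edgesRangeI_spec iota E 5 1721 5383 edges_5_3 v (by omega) (by omega)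
                · exact edgesRangeI_spec iota E 5 1710 7104 edges_5_4 v (by omega) (by omega)
          · rcases Nat.lt_or_ge v 12393 with h | h
            · rcases Nat.lt_or_ge v 10593 with h | h
              · exact edgesRangeI_spec iota E 5 1779 8814 edges_5_5 v (by omega) (by omega)
              · exact edgesRangeI_spec iota E 5 1800 10593 edges_5_6 v (by omega) (by omega)
            · rcases Nat.lt_or_ge v 14162 with h | h
              · exact edgesRangeI_spec iota E 5 1769 12393 edges_5_7 v (by omega) (by omega)
              · rcases Nat.lt_or_ge v 16016 with h | h
                · exact edgesRangeI_spec iota E 5 1854 14162 edges_5_8 v (by omega) (by omega)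
                · exact edgesRangeI_spec iota E 5 1792 16016 edges_5_9 v (by omega) (by omega)
        · rcases Nat.lt_or_ge v 27063 with h | h
          · rcases Nat.lt_or_ge v 21520 with h | h
            · rcases Nat.lt_or_ge v 19687 with h | h
              · exact edgesRangeI_spec iota E 5 1879 17808 edges_5_10 v (by omega) (by omega)
              · exact edgesRangeI_spec iota E 5 1833 19687 edges_5_11 v (by omega) (by omega)
            · rcases Nat.lt_or_ge v 23320 with h | h
              · exact edgesRangeI_spec iota E 5 1800 21520 edges_5_12 v (by omega) (by omega)
              · rcases Nat.lt_or_ge v 25222 with h | h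
                · exact edgesRangeI_spec iota E 5 1902 23320 edges_5_13 v (by omega) (by omega)
                · exact edgesRangeI_spec iota E 5 1841 25222 edges_5_14 v (by omega) (by omega)
          · rcases Nat.lt_or_ge v 30713 with h | h
            · rcases Nat.lt_or_ge v 28874 with h | h
              · exact edgesRangeI_spec iota E 5 1811 27063 edges_5_15 v (by omega) (by omega)
              · exact edgesRangeI_spec iota E 5 1839 28874 edges_5_16 v (by omega) (by omega)
            · rcases Nat.lt_or_ge v 32621 with h | h
              · exact edgesRangeI_spec iota E 5 1908 30713 edges_5_17 v (by omega) (by omega)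
              · rcases Nat.lt_or_ge v 34422 with h | h
                · exact edgesRangeI_spec iota E 5 1801 32621 edges_5_18 v (by omega) (by omega)
                · exact edgesRangeI_spec iota E 5 1738 34422 edges_5_19 v (by omega) (by omega)
      · rcases Nat.lt_or_ge v 54470 with h | h
        · rcases Nat.lt_or_ge v 45332 with h | h
          · rcases Nat.lt_or_ge v 39893 with h | h
            · rcases Nat.lt_or_ge v 38050 with h | h
              · exact edgesRangeI_spec iota E 5 1890 36160 edges_5_20 v (by omega) (by omega)
              · exact edgesRangeI_spec iota E 5 1843 38050 edges_5_21 v (by omega) (by omega)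
            · rcases Nat.lt_or_ge v 41773 with h | h
              · exact edgesRangeI_spec iota E 5 1880 39893 edges_5_22 v (by omega) (by omega)
              · rcases Nat.lt_or_ge v 43555 with h | h
                · exact edgesRangeI_spec iota E 5 1782 41773 edges_5_23 v (by omega) (by omega)
                · exact edgesRangeI_spec iota E 5 1777 43555 edges_5_24 v (by omega) (by omega)
          · rcases Nat.lt_or_ge v 49035 with h | h
            · rcases Nat.lt_or_ge v 47189 with h | h
              · exact edgesRangeI_spec iota E 5 1857 45332 edges_5_25 v (by omega) (by omega)
              · exact edgesRangeI_spec iota E 5 1846 47189 edges_5_26 v (by omega) (by omega)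
            · rcases Nat.lt_or_ge v 50805 with h | h
              · exact edgesRangeI_spec iota E 5 1770 49035 edges_5_27 v (by omega) (by omega)
              · rcases Nat.lt_or_ge v 52660 with h | h
                · exact edgesRangeI_spec iota E 5 1855 50805 edges_5_28 v (by omega) (by omega)
                · exact edgesRangeI_spec iota E 5 1810 52660 edges_5_29 v (by omega) (by omega)
        · rcases Nat.lt_or_ge v 63500 with h | h
          · rcases Nat.lt_or_ge v 57980 with h | h
            · rcases Nat.lt_or_ge v 56209 with h | h
              · exact edgesRangeI_spec iota E 5 1739 54470 edges_5_30 v (by omega) (by omega)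
              · exact edgesRangeI_spec iota E 5 1771 56209 edges_5_31 v (by omega) (by omega)
            · rcases Nat.lt_or_ge v 59894 with h | h
              · exact edgesRangeI_spec iota E 5 1914 57980 edges_5_32 v (by omega) (by omega)
              · rcases Nat.lt_or_ge v 61750 with h | h
                · exact edgesRangeI_spec iota E 5 1856 59894 edges_5_33 v (by omega) (by omega)
                · exact edgesRangeI_spec iota E 5 1750 61750 edges_5_34 v (by omega) (by omega)
          · rcases Nat.lt_or_ge v 68957 with h | h
            · rcases Nat.lt_or_ge v 65295 with h | h
              · exact edgesRangeI_spec iota E 5 1795 63500 edges_5_35 v (by omega) (by omega)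
              · rcases Nat.lt_or_ge v 67177 with h | h
                · exact edgesRangeI_spec iota E 5 1882 65295 edges_5_36 v (by omega) (by omega)
                · exact edgesRangeI_spec iota E 5 1780 67177 edges_5_37 v (by omega) (by omega)
            · rcases Nat.lt_or_ge v 70736 with h | h
              · exact edgesRangeI_spec iota E 5 1779 68957 edges_5_38 v (by omega) (by omega)
              · rcases Nat.lt_or_ge v 72571 with h | h
                · exact edgesRangeI_spec iota E 5 1835 70736 edges_5_39 v (by omega) (by omega)
                · exact edgesRangeI_spec iota E 5 1850 72571 edges_5_40 v (by omega) (by omega)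
    · rcases Nat.lt_or_ge v 112763 with h | h
      · rcases Nat.lt_or_ge v 92593 with h | h
        · rcases Nat.lt_or_ge v 83553 with h | h
          · rcases Nat.lt_or_ge v 78013 with h | h
            · rcases Nat.lt_or_ge v 76283 with h | h
              · exact edgesRangeI_spec iota E 5 1862 74421 edges_5_41 v (by omega) (by omega)
              · exact edgesRangeI_spec iota E 5 1730 76283 edges_5_42 v (by omega) (by omega)
            · rcases Nat.lt_or_ge v 79808 with h | h
              · exact edgesRangeI_spec iota E 5 1795 78013 edges_5_43 v (by omega) (by omega)
              · rcases Nat.lt_or_ge v 81658 with h | h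
                · exact edgesRangeI_spec iota E 5 1850 79808 edges_5_44 v (by omega) (by omega)
                · exact edgesRangeI_spec iota E 5 1895 81658 edges_5_45 v (by omega) (by omega)
          · rcases Nat.lt_or_ge v 87163 with h | h
            · rcases Nat.lt_or_ge v 85316 with h | h
              · exact edgesRangeI_spec iota E 5 1763 83553 edges_5_46 v (by omega) (by omega)
              · exact edgesRangeI_spec iota E 5 1847 85316 edges_5_47 v (by omega) (by omega)
            · rcases Nat.lt_or_ge v 88925 with h | h
              · exact edgesRangeI_spec iota E 5 1762 87163 edges_5_48 v (by omega) (by omega)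
              · rcases Nat.lt_or_ge v 90759 with h | h
                · exact edgesRangeI_spec iota E 5 1834 88925 edges_5_49 v (by omega) (by omega)
                · exact edgesRangeI_spec iota E 5 1834 90759 edges_5_50 v (by omega) (by omega)
        · rcases Nat.lt_or_ge v 101865 with h | h
          · rcases Nat.lt_or_ge v 96133 with h | h
            · rcases Nat.lt_or_ge v 94422 with h | h
              · exact edgesRangeI_spec iota E 5 1829 92593 edges_5_51 v (by omega) (by omega)
              · exact edgesRangeI_spec iota E 5 1711 94422 edges_5_52 v (by omega) (by omega)
            · rcases Nat.lt_or_ge v 97999 with h | h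
              · exact edgesRangeI_spec iota E 5 1866 96133 edges_5_53 v (by omega) (by omega)
              · rcases Nat.lt_or_ge v 99897 with h | h
                · exact edgesRangeI_spec iota E 5 1898 97999 edges_5_54 v (by omega) (by omega)
                · exact edgesRangeI_spec iota E 5 1968 99897 edges_5_55 v (by omega) (by omega)
          · rcases Nat.lt_or_ge v 107242 with h | h
            · rcases Nat.lt_or_ge v 103581 with h | h
              · exact edgesRangeI_spec iota E 5 1716 101865 edges_5_56 v (by omega) (by omega)
              · rcases Nat.lt_or_ge v 105437 with h | h
                · exact edgesRangeI_spec iota E 5 1856 103581 edges_5_57 v (by omega) (by omega)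
                · exact edgesRangeI_spec iota E 5 1805 105437 edges_5_58 v (by omega) (by omega)
            · rcases Nat.lt_or_ge v 109069 with h | h
              · exact edgesRangeI_spec iota E 5 1827 107242 edges_5_59 v (by omega) (by omega)
              · rcases Nat.lt_or_ge v 110830 with h | h
                · exact edgesRangeI_spec iota E 5 1761 109069 edges_5_60 v (by omega) (by omega)
                · exact edgesRangeI_spec iota E 5 1933 110830 edges_5_61 v (by omega) (by omega)
      · rcases Nat.lt_or_ge v 131195 with h | h
        · rcases Nat.lt_or_ge v 122215 with h | h
          · rcases Nat.lt_or_ge v 116292 with h | h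
            · rcases Nat.lt_or_ge v 114538 with h | h
              · exact edgesRangeI_spec iota E 5 1775 112763 edges_5_62 v (by omega) (by omega)
              · exact edgesRangeI_spec iota E 5 1754 114538 edges_5_63 v (by omega) (by omega)
            · rcases Nat.lt_or_ge v 118178 with h | h
              · exact edgesRangeI_spec iota E 5 1886 116292 edges_5_64 v (by omega) (by omega)
              · rcases Nat.lt_or_ge v 120215 with h | h
                · exact edgesRangeI_spec iota E 5 2037 118178 edges_5_65 v (by omega) (by omega)
                · exact edgesRangeI_spec iota E 5 2000 120215 edges_5_66 v (by omega) (by omega)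
          · rcases Nat.lt_or_ge v 125791 with h | h
            · rcases Nat.lt_or_ge v 123942 with h | h
              · exact edgesRangeI_spec iota E 5 1727 122215 edges_5_67 v (by omega) (by omega)
              · exact edgesRangeI_spec iota E 5 1849 123942 edges_5_68 v (by omega) (by omega)
            · rcases Nat.lt_or_ge v 127642 with h | h
              · exact edgesRangeI_spec iota E 5 1851 125791 edges_5_69 v (by omega) (by omega)
              · rcases Nat.lt_or_ge v 129435 with h | h
                · exact edgesRangeI_spec iota E 5 1793 127642 edges_5_70 v (by omega) (by omega)
                · exact edgesRangeI_spec iota E 5 1760 129435 edges_5_71 v (by omega) (by omega)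
        · rcases Nat.lt_or_ge v 140715 with h | h
          · rcases Nat.lt_or_ge v 135084 with h | h
            · rcases Nat.lt_or_ge v 133257 with h | h
              · exact edgesRangeI_spec iota E 5 2062 131195 edges_5_72 v (by omega) (by omega)
              · exact edgesRangeI_spec iota E 5 1827 133257 edges_5_73 v (by omega) (by omega)
            · rcases Nat.lt_or_ge v 136822 with h | h
              · exact edgesRangeI_spec iota E 5 1738 135084 edges_5_74 v (by omega) (by omega)
              · rcases Nat.lt_or_ge v 138832 with h | h
                · exact edgesRangeI_spec iota E 5 2010 136822 edges_5_75 v (by omega) (by omega)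
                · exact edgesRangeI_spec iota E 5 1883 138832 edges_5_76 v (by omega) (by omega)
          · rcases Nat.lt_or_ge v 146587 with h | h
            · rcases Nat.lt_or_ge v 142886 with h | h
              · exact edgesRangeI_spec iota E 5 2171 140715 edges_5_77 v (by omega) (by omega)
              · rcases Nat.lt_or_ge v 144705 with h | h
                · exact edgesRangeI_spec iota E 5 1819 142886 edges_5_78 v (by omega) (by omega)
                · exact edgesRangeI_spec iota E 5 1882 144705 edges_5_79 v (by omega) (by omega)
            · rcases Nat.lt_or_ge v 148508 with h | h
              · exact edgesRangeI_spec iota E 5 1921 146587 edges_5_80 v (by omega) (by omega)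
              · rcases Nat.lt_or_ge v 150381 with h | h
                · exact edgesRangeI_spec iota E 5 1873 148508 edges_5_81 v (by omega) (by omega)
                · exact edgesRangeI_spec iota E 5 1710 150381 edges_5_82 v (by omega) (by omega)
  · rcases Nat.lt_or_ge v 233625 with h | h
    · rcases Nat.lt_or_ge v 193041 with h | h
      · rcases Nat.lt_or_ge v 171683 with h | h
        · rcases Nat.lt_or_ge v 161774 with h | h
          · rcases Nat.lt_or_ge v 156150 with h | h
            · rcases Nat.lt_or_ge v 154031 with h | h
              · exact edgesRangeI_spec iota E 5 1940 152091 edges_5_83 v (by omega) (by omega)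
              · exact edgesRangeI_spec iota E 5 2119 154031 edges_5_84 v (by omega) (by omega)
            · rcases Nat.lt_or_ge v 157986 with h | h
              · exact edgesRangeI_spec iota E 5 1836 156150 edges_5_85 v (by omega) (by omega)
              · rcases Nat.lt_or_ge v 159751 with h | h
                · exact edgesRangeI_spec iota E 5 1765 157986 edges_5_86 v (by omega) (by omega)
                · exact edgesRangeI_spec iota E 5 2023 159751 edges_5_87 v (by omega) (by omega)
          · rcases Nat.lt_or_ge v 165912 with h | h
            · rcases Nat.lt_or_ge v 163742 with h | h
              · exact edgesRangeI_spec iota E 5 1968 161774 edges_5_88 v (by omega) (by omega)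
              · exact edgesRangeI_spec iota E 5 2170 163742 edges_5_89 v (by omega) (by omega)
            · rcases Nat.lt_or_ge v 167842 with h | h
              · exact edgesRangeI_spec iota E 5 1930 165912 edges_5_90 v (by omega) (by omega)
              · rcases Nat.lt_or_ge v 169745 with h | h
                · exact edgesRangeI_spec iota E 5 1903 167842 edges_5_91 v (by omega) (by omega)
                · exact edgesRangeI_spec iota E 5 1938 169745 edges_5_92 v (by omega) (by omega)
        · rcases Nat.lt_or_ge v 181216 with h | h
          · rcases Nat.lt_or_ge v 175331 with h | h
            · rcases Nat.lt_or_ge v 173592 with h | h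
              · exact edgesRangeI_spec iota E 5 1909 171683 edges_5_93 v (by omega) (by omega)
              · exact edgesRangeI_spec iota E 5 1739 173592 edges_5_94 v (by omega) (by omega)
            · rcases Nat.lt_or_ge v 177197 with h | h
              · exact edgesRangeI_spec iota E 5 1866 175331 edges_5_95 v (by omega) (by omega)
              · rcases Nat.lt_or_ge v 179281 with h | h
                · exact edgesRangeI_spec iota E 5 2084 177197 edges_5_96 v (by omega) (by omega)
                · exact edgesRangeI_spec iota E 5 1935 179281 edges_5_97 v (by omega) (by omega)
          · rcases Nat.lt_or_ge v 186938 with h | h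
            · rcases Nat.lt_or_ge v 183026 with h | h
              · exact edgesRangeI_spec iota E 5 1810 181216 edges_5_98 v (by omega) (by omega)
              · rcases Nat.lt_or_ge v 185061 with h | h
                · exact edgesRangeI_spec iota E 5 2035 183026 edges_5_99 v (by omega) (by omega)
                · exact edgesRangeI_spec iota E 5 1877 185061 edges_5_100 v (by omega) (by omega)
            · rcases Nat.lt_or_ge v 189088 with h | h
              · exact edgesRangeI_spec iota E 5 2150 186938 edges_5_101 v (by omega) (by omega)
              · rcases Nat.lt_or_ge v 191157 with h | h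
                · exact edgesRangeI_spec iota E 5 2069 189088 edges_5_102 v (by omega) (by omega)
                · exact edgesRangeI_spec iota E 5 1884 191157 edges_5_103 v (by omega) (by omega)
      · rcases Nat.lt_or_ge v 212318 with h | h
        · rcases Nat.lt_or_ge v 202521 with h | h
          · rcases Nat.lt_or_ge v 197039 with h | h
            · rcases Nat.lt_or_ge v 195050 with h | h
              · exact edgesRangeI_spec iota E 5 2009 193041 edges_5_104 v (by omega) (by omega)
              · exact edgesRangeI_spec iota E 5 1989 195050 edges_5_105 v (by omega) (by omega)
            · rcases Nat.lt_or_ge v 198928 with h | h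
              · exact edgesRangeI_spec iota E 5 1889 197039 edges_5_106 v (by omega) (by omega)
              · rcases Nat.lt_or_ge v 200624 with h | h
                · exact edgesRangeI_spec iota E 5 1696 198928 edges_5_107 v (by omega) (by omega)
                · exact edgesRangeI_spec iota E 5 1897 200624 edges_5_108 v (by omega) (by omega)
          · rcases Nat.lt_or_ge v 206542 with h | h
            · rcases Nat.lt_or_ge v 204620 with h | h
              · exact edgesRangeI_spec iota E 5 2099 202521 edges_5_109 v (by omega) (by omega)
              · exact edgesRangeI_spec iota E 5 1922 204620 edges_5_110 v (by omega) (by omega)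
            · rcases Nat.lt_or_ge v 208390 with h | h
              · exact edgesRangeI_spec iota E 5 1848 206542 edges_5_111 v (by omega) (by omega)
              · rcases Nat.lt_or_ge v 210395 with h | h
                · exact edgesRangeI_spec iota E 5 2005 208390 edges_5_112 v (by omega) (by omega)
                · exact edgesRangeI_spec iota E 5 1923 210395 edges_5_113 v (by omega) (by omega)
        · rcases Nat.lt_or_ge v 222452 with h | h
          · rcases Nat.lt_or_ge v 216386 with h | h
            · rcases Nat.lt_or_ge v 214366 with h | h
              · exact edgesRangeI_spec iota E 5 2048 212318 edges_5_114 v (by omega) (by omega)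
              · exact edgesRangeI_spec iota E 5 2020 214366 edges_5_115 v (by omega) (by omega)
            · rcases Nat.lt_or_ge v 218335 with h | h
              · exact edgesRangeI_spec iota E 5 1949 216386 edges_5_116 v (by omega) (by omega)
              · rcases Nat.lt_or_ge v 220424 with h | h
                · exact edgesRangeI_spec iota E 5 2089 218335 edges_5_117 v (by omega) (by omega)
                · exact edgesRangeI_spec iota E 5 2028 220424 edges_5_118 v (by omega) (by omega)
          · rcases Nat.lt_or_ge v 227890 with h | h
            · rcases Nat.lt_or_ge v 224337 with h | h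
              · exact edgesRangeI_spec iota E 5 1885 222452 edges_5_119 v (by omega) (by omega)
              · rcases Nat.lt_or_ge v 226055 with h | h
                · exact edgesRangeI_spec iota E 5 1718 224337 edges_5_120 v (by omega) (by omega)
                · exact edgesRangeI_spec iota E 5 1835 226055 edges_5_121 v (by omega) (by omega)
            · rcases Nat.lt_or_ge v 229847 with h | h
              · exact edgesRangeI_spec iota E 5 1957 227890 edges_5_122 v (by omega) (by omega)
              · rcases Nat.lt_or_ge v 231830 with h | h
                · exact edgesRangeI_spec iota E 5 1983 229847 edges_5_123 v (by omega) (by omega)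
                · exact edgesRangeI_spec iota E 5 1795 231830 edges_5_124 v (by omega) (by omega)
    · rcases Nat.lt_or_ge v 273077 with h | h
      · rcases Nat.lt_or_ge v 252760 with h | h
        · rcases Nat.lt_or_ge v 243301 with h | h
          · rcases Nat.lt_or_ge v 237518 with h | h
            · rcases Nat.lt_or_ge v 235592 with h | h
              · exact edgesRangeI_spec iota E 5 1967 233625 edges_5_125 v (by omega) (by omega)
              · exact edgesRangeI_spec iota E 5 1926 235592 edges_5_126 v (by omega) (by omega)
            · rcases Nat.lt_or_ge v 239495 with h | h
              · exact edgesRangeI_spec iota E 5 1977 237518 edges_5_127 v (by omega) (by omega)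
              · rcases Nat.lt_or_ge v 241386 with h | h
                · exact edgesRangeI_spec iota E 5 1891 239495 edges_5_128 v (by omega) (by omega)
                · exact edgesRangeI_spec iota E 5 1915 241386 edges_5_129 v (by omega) (by omega)
          · rcases Nat.lt_or_ge v 247483 with h | h
            · rcases Nat.lt_or_ge v 245437 with h | h
              · exact edgesRangeI_spec iota E 5 2136 243301 edges_5_130 v (by omega) (by omega)
              · exact edgesRangeI_spec iota E 5 2046 245437 edges_5_131 v (by omega) (by omega)
            · rcases Nat.lt_or_ge v 249312 with h | h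
              · exact edgesRangeI_spec iota E 5 1829 247483 edges_5_132 v (by omega) (by omega)
              · rcases Nat.lt_or_ge v 251002 with h | h
                · exact edgesRangeI_spec iota E 5 1690 249312 edges_5_133 v (by omega) (by omega)
                · exact edgesRangeI_spec iota E 5 1758 251002 edges_5_134 v (by omega) (by omega)
        · rcases Nat.lt_or_ge v 261956 with h | h
          · rcases Nat.lt_or_ge v 256534 with h | h
            · rcases Nat.lt_or_ge v 254650 with h | h
              · exact edgesRangeI_spec iota E 5 1890 252760 edges_5_135 v (by omega) (by omega)
              · exact edgesRangeI_spec iota E 5 1884 254650 edges_5_136 v (by omega) (by omega)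
            · rcases Nat.lt_or_ge v 258240 with h | h
              · exact edgesRangeI_spec iota E 5 1706 256534 edges_5_137 v (by omega) (by omega)
              · rcases Nat.lt_or_ge v 260125 with h | h
                · exact edgesRangeI_spec iota E 5 1885 258240 edges_5_138 v (by omega) (by omega)
                · exact edgesRangeI_spec iota E 5 1831 260125 edges_5_139 v (by omega) (by omega)
          · rcases Nat.lt_or_ge v 267694 with h | h
            · rcases Nat.lt_or_ge v 263818 with h | h
              · exact edgesRangeI_spec iota E 5 1862 261956 edges_5_140 v (by omega) (by omega)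
              · rcases Nat.lt_or_ge v 265644 with h | h
                · exact edgesRangeI_spec iota E 5 1826 263818 edges_5_141 v (by omega) (by omega)
                · exact edgesRangeI_spec iota E 5 2050 265644 edges_5_142 v (by omega) (by omega)
            · rcases Nat.lt_or_ge v 269672 with h | h
              · exact edgesRangeI_spec iota E 5 1978 267694 edges_5_143 v (by omega) (by omega)
              · rcases Nat.lt_or_ge v 271420 with h | h
                · exact edgesRangeI_spec iota E 5 1748 269672 edges_5_144 v (by omega) (by omega)
                · exact edgesRangeI_spec iota E 5 1657 271420 edges_5_145 v (by omega) (by omega)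
      · rcases Nat.lt_or_ge v 290385 with h | h
        · rcases Nat.lt_or_ge v 281664 with h | h
          · rcases Nat.lt_or_ge v 276586 with h | h
            · rcases Nat.lt_or_ge v 274845 with h | h
              · exact edgesRangeI_spec iota E 5 1768 273077 edges_5_146 v (by omega) (by omega)
              · exact edgesRangeI_spec iota E 5 1741 274845 edges_5_147 v (by omega) (by omega)
            · rcases Nat.lt_or_ge v 278238 with h | h
              · exact edgesRangeI_spec iota E 5 1652 276586 edges_5_148 v (by omega) (by omega)
              · rcases Nat.lt_or_ge v 279893 with h | h
                · exact edgesRangeI_spec iota E 5 1655 278238 edges_5_149 v (by omega) (by omega)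
                · exact edgesRangeI_spec iota E 5 1771 279893 edges_5_150 v (by omega) (by omega)
          · rcases Nat.lt_or_ge v 285402 with h | h
            · rcases Nat.lt_or_ge v 283406 with h | h
              · exact edgesRangeI_spec iota E 5 1742 281664 edges_5_151 v (by omega) (by omega)
              · exact edgesRangeI_spec iota E 5 1996 283406 edges_5_152 v (by omega) (by omega)
            · rcases Nat.lt_or_ge v 287115 with h | h
              · exact edgesRangeI_spec iota E 5 1713 285402 edges_5_153 v (by omega) (by omega)
              · rcases Nat.lt_or_ge v 288715 with h | h
                · exact edgesRangeI_spec iota E 5 1600 287115 edges_5_154 v (by omega) (by omega)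
                · exact edgesRangeI_spec iota E 5 1670 288715 edges_5_155 v (by omega) (by omega)
        · rcases Nat.lt_or_ge v 298868 with h | h
          · rcases Nat.lt_or_ge v 293677 with h | h
            · rcases Nat.lt_or_ge v 292038 with h | h
              · exact edgesRangeI_spec iota E 5 1653 290385 edges_5_156 v (by omega) (by omega)
              · exact edgesRangeI_spec iota E 5 1639 292038 edges_5_157 v (by omega) (by omega)
            · rcases Nat.lt_or_ge v 295435 with h | h
              · exact edgesRangeI_spec iota E 5 1758 293677 edges_5_158 v (by omega) (by omega)
              · rcases Nat.lt_or_ge v 297277 with h | h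
                · exact edgesRangeI_spec iota E 5 1842 295435 edges_5_159 v (by omega) (by omega)
                · exact edgesRangeI_spec iota E 5 1591 297277 edges_5_160 v (by omega) (by omega)
          · rcases Nat.lt_or_ge v 303813 with h | h
            · rcases Nat.lt_or_ge v 300456 with h | h
              · exact edgesRangeI_spec iota E 5 1588 298868 edges_5_161 v (by omega) (by omega)
              · rcases Nat.lt_or_ge v 302170 with h | h
                · exact edgesRangeI_spec iota E 5 1714 300456 edges_5_162 v (by omega) (by omega)
                · exact edgesRangeI_spec iota E 5 1643 302170 edges_5_163 v (by omega) (by omega)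
            · rcases Nat.lt_or_ge v 305406 with h | h
              · exact edgesRangeI_spec iota E 5 1593 303813 edges_5_164 v (by omega) (by omega)
              · rcases Nat.lt_or_ge v 306993 with h | h
                · exact edgesRangeI_spec iota E 5 1587 305406 edges_5_165 v (by omega) (by omega)
                · exact edgesRangeI_spec iota E 5 611 306993 edges_5_166 v (by omega) (by omega)

theorem edgesx_6 : ∀ v, v < 307604 → edgeOKI iota E 6 v = true := by
  intro v hv
  rcases Nat.lt_or_ge v 159312 with h | h
  · rcases Nat.lt_or_ge v 80820 with h | h
    · rcases Nat.lt_or_ge v 40025 with h | h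
      · rcases Nat.lt_or_ge v 18674 with h | h
        · rcases Nat.lt_or_ge v 9262 with h | h
          · rcases Nat.lt_or_ge v 3759 with h | h
            · rcases Nat.lt_or_ge v 1828 with h | h
              · exact edgesRangeI_spec iota E 6 1828 0 edges_6_0 v (by omega) (by omega)
              · exact edgesRangeI_spec iota E 6 1931 1828 edges_6_1 v (by omega) (by omega)
            · rcases Nat.lt_or_ge v 5628 with h | h
              · exact edgesRangeI_spec iota E 6 1869 3759 edges_6_2 v (by omega) (by omega)
              · rcases Nat.lt_or_ge v 7458 with h | h
                · exact edgesRangeI_spec iota E 6 1830 5628 edges_6_3 v (by omega) (by omega)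
                · exact edgesRangeI_spec iota E 6 1804 7458 edges_6_4 v (by omega) (by omega)
          · rcases Nat.lt_or_ge v 13079 with h | h
            · rcases Nat.lt_or_ge v 11173 with h | h
              · exact edgesRangeI_spec iota E 6 1911 9262 edges_6_5 v (by omega) (by omega)
              · exact edgesRangeI_spec iota E 6 1906 11173 edges_6_6 v (by omega) (by omega)
            · rcases Nat.lt_or_ge v 14851 with h | h
              · exact edgesRangeI_spec iota E 6 1772 13079 edges_6_7 v (by omega) (by omega)
              · rcases Nat.lt_or_ge v 16881 with h | h
                · exact edgesRangeI_spec iota E 6 2030 14851 edges_6_8 v (by omega) (by omega)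
                · exact edgesRangeI_spec iota E 6 1793 16881 edges_6_9 v (by omega) (by omega)
        · rcases Nat.lt_or_ge v 28482 with h | h
          · rcases Nat.lt_or_ge v 22613 with h | h
            · rcases Nat.lt_or_ge v 20557 with h | h
              · exact edgesRangeI_spec iota E 6 1883 18674 edges_6_10 v (by omega) (by omega)
              · exact edgesRangeI_spec iota E 6 2056 20557 edges_6_11 v (by omega) (by omega)
            · rcases Nat.lt_or_ge v 24469 with h | h
              · exact edgesRangeI_spec iota E 6 1856 22613 edges_6_12 v (by omega) (by omega)
              · rcases Nat.lt_or_ge v 26437 with h | h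
                · exact edgesRangeI_spec iota E 6 1968 24469 edges_6_13 v (by omega) (by omega)
                · exact edgesRangeI_spec iota E 6 2045 26437 edges_6_14 v (by omega) (by omega)
          · rcases Nat.lt_or_ge v 34321 with h | h
            · rcases Nat.lt_or_ge v 30335 with h | h
              · exact edgesRangeI_spec iota E 6 1853 28482 edges_6_15 v (by omega) (by omega)
              · rcases Nat.lt_or_ge v 32291 with h | h
                · exact edgesRangeI_spec iota E 6 1956 30335 edges_6_16 v (by omega) (by omega)
                · exact edgesRangeI_spec iota E 6 2030 32291 edges_6_17 v (by omega) (by omega)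
            · rcases Nat.lt_or_ge v 36279 with h | h
              · exact edgesRangeI_spec iota E 6 1958 34321 edges_6_18 v (by omega) (by omega)
              · rcases Nat.lt_or_ge v 38098 with h | h
                · exact edgesRangeI_spec iota E 6 1819 36279 edges_6_19 v (by omega) (by omega)
                · exact edgesRangeI_spec iota E 6 1927 38098 edges_6_20 v (by omega) (by omega)
      · rcases Nat.lt_or_ge v 59597 with h | h
        · rcases Nat.lt_or_ge v 49763 with h | h
          · rcases Nat.lt_or_ge v 44113 with h | h
            · rcases Nat.lt_or_ge v 42059 with h | h
              · exact edgesRangeI_spec iota E 6 2034 40025 edges_6_21 v (by omega) (by omega)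
              · exact edgesRangeI_spec iota E 6 2054 42059 edges_6_22 v (by omega) (by omega)
            · rcases Nat.lt_or_ge v 46026 with h | h
              · exact edgesRangeI_spec iota E 6 1913 44113 edges_6_23 v (by omega) (by omega)
              · rcases Nat.lt_or_ge v 47871 with h | h
                · exact edgesRangeI_spec iota E 6 1845 46026 edges_6_24 v (by omega) (by omega)
                · exact edgesRangeI_spec iota E 6 1892 47871 edges_6_25 v (by omega) (by omega)
          · rcases Nat.lt_or_ge v 53806 with h | h
            · rcases Nat.lt_or_ge v 51789 with h | h
              · exact edgesRangeI_spec iota E 6 2026 49763 edges_6_26 v (by omega) (by omega)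
              · exact edgesRangeI_spec iota E 6 2017 51789 edges_6_27 v (by omega) (by omega)
            · rcases Nat.lt_or_ge v 55841 with h | h
              · exact edgesRangeI_spec iota E 6 2035 53806 edges_6_28 v (by omega) (by omega)
              · rcases Nat.lt_or_ge v 57708 with h | h
                · exact edgesRangeI_spec iota E 6 1867 55841 edges_6_29 v (by omega) (by omega)
                · exact edgesRangeI_spec iota E 6 1889 57708 edges_6_30 v (by omega) (by omega)
        · rcases Nat.lt_or_ge v 69499 with h | h
          · rcases Nat.lt_or_ge v 63355 with h | h
            · rcases Nat.lt_or_ge v 61505 with h | h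
              · exact edgesRangeI_spec iota E 6 1908 59597 edges_6_31 v (by omega) (by omega)
              · exact edgesRangeI_spec iota E 6 1850 61505 edges_6_32 v (by omega) (by omega)
            · rcases Nat.lt_or_ge v 65404 with h | h
              · exact edgesRangeI_spec iota E 6 2049 63355 edges_6_33 v (by omega) (by omega)
              · rcases Nat.lt_or_ge v 67432 with h | h
                · exact edgesRangeI_spec iota E 6 2028 65404 edges_6_34 v (by omega) (by omega)
                · exact edgesRangeI_spec iota E 6 2067 67432 edges_6_35 v (by omega) (by omega)
          · rcases Nat.lt_or_ge v 75052 with h | h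
            · rcases Nat.lt_or_ge v 71327 with h | h
              · exact edgesRangeI_spec iota E 6 1828 69499 edges_6_36 v (by omega) (by omega)
              · rcases Nat.lt_or_ge v 73226 with h | h
                · exact edgesRangeI_spec iota E 6 1899 71327 edges_6_37 v (by omega) (by omega)
                · exact edgesRangeI_spec iota E 6 1826 73226 edges_6_38 v (by omega) (by omega)
            · rcases Nat.lt_or_ge v 77036 with h | h
              · exact edgesRangeI_spec iota E 6 1984 75052 edges_6_39 v (by omega) (by omega)
              · rcases Nat.lt_or_ge v 78855 with h | h
                · exact edgesRangeI_spec iota E 6 1819 77036 edges_6_40 v (by omega) (by omega)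
                · exact edgesRangeI_spec iota E 6 1965 78855 edges_6_41 v (by omega) (by omega)
    · rcases Nat.lt_or_ge v 120441 with h | h
      · rcases Nat.lt_or_ge v 99780 with h | h
        · rcases Nat.lt_or_ge v 90504 with h | h
          · rcases Nat.lt_or_ge v 84789 with h | h
            · rcases Nat.lt_or_ge v 82754 with h | h
              · exact edgesRangeI_spec iota E 6 1934 80820 edges_6_42 v (by omega) (by omega)
              · exact edgesRangeI_spec iota E 6 2035 82754 edges_6_43 v (by omega) (by omega)
            · rcases Nat.lt_or_ge v 86773 with h | h
              · exact edgesRangeI_spec iota E 6 1984 84789 edges_6_44 v (by omega) (by omega)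
              · rcases Nat.lt_or_ge v 88631 with h | h
                · exact edgesRangeI_spec iota E 6 1858 86773 edges_6_45 v (by omega) (by omega)
                · exact edgesRangeI_spec iota E 6 1873 88631 edges_6_46 v (by omega) (by omega)
          · rcases Nat.lt_or_ge v 94284 with h | h
            · rcases Nat.lt_or_ge v 92317 with h | h
              · exact edgesRangeI_spec iota E 6 1813 90504 edges_6_47 v (by omega) (by omega)
              · exact edgesRangeI_spec iota E 6 1967 92317 edges_6_48 v (by omega) (by omega)
            · rcases Nat.lt_or_ge v 95986 with h | h
              · exact edgesRangeI_spec iota E 6 1702 94284 edges_6_49 v (by omega) (by omega)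
              · rcases Nat.lt_or_ge v 97938 with h | h
                · exact edgesRangeI_spec iota E 6 1952 95986 edges_6_50 v (by omega) (by omega)
                · exact edgesRangeI_spec iota E 6 1842 97938 edges_6_51 v (by omega) (by omega)
        · rcases Nat.lt_or_ge v 109433 with h | h
          · rcases Nat.lt_or_ge v 103841 with h | h
            · rcases Nat.lt_or_ge v 101870 with h | h
              · exact edgesRangeI_spec iota E 6 2090 99780 edges_6_52 v (by omega) (by omega)
              · exact edgesRangeI_spec iota E 6 1971 101870 edges_6_53 v (by omega) (by omega)
            · rcases Nat.lt_or_ge v 105689 with h | h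
              · exact edgesRangeI_spec iota E 6 1848 103841 edges_6_54 v (by omega) (by omega)
              · rcases Nat.lt_or_ge v 107626 with h | h
                · exact edgesRangeI_spec iota E 6 1937 105689 edges_6_55 v (by omega) (by omega)
                · exact edgesRangeI_spec iota E 6 1807 107626 edges_6_56 v (by omega) (by omega)
          · rcases Nat.lt_or_ge v 114915 with h | h
            · rcases Nat.lt_or_ge v 111210 with h | h
              · exact edgesRangeI_spec iota E 6 1777 109433 edges_6_57 v (by omega) (by omega)
              · rcases Nat.lt_or_ge v 113122 with h | h
                · exact edgesRangeI_spec iota E 6 1912 111210 edges_6_58 v (by omega) (by omega)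
                · exact edgesRangeI_spec iota E 6 1793 113122 edges_6_59 v (by omega) (by omega)
            · rcases Nat.lt_or_ge v 116665 with h | h
              · exact edgesRangeI_spec iota E 6 1750 114915 edges_6_60 v (by omega) (by omega)
              · rcases Nat.lt_or_ge v 118580 with h | h
                · exact edgesRangeI_spec iota E 6 1915 116665 edges_6_61 v (by omega) (by omega)
                · exact edgesRangeI_spec iota E 6 1861 118580 edges_6_62 v (by omega) (by omega)
      · rcases Nat.lt_or_ge v 139004 with h | h
        · rcases Nat.lt_or_ge v 129967 with h | h
          · rcases Nat.lt_or_ge v 124409 with h | h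
            · rcases Nat.lt_or_ge v 122512 with h | h
              · exact edgesRangeI_spec iota E 6 2071 120441 edges_6_63 v (by omega) (by omega)
              · exact edgesRangeI_spec iota E 6 1897 122512 edges_6_64 v (by omega) (by omega)
            · rcases Nat.lt_or_ge v 126272 with h | h
              · exact edgesRangeI_spec iota E 6 1863 124409 edges_6_65 v (by omega) (by omega)
              · rcases Nat.lt_or_ge v 128208 with h | h
                · exact edgesRangeI_spec iota E 6 1936 126272 edges_6_66 v (by omega) (by omega)
                · exact edgesRangeI_spec iota E 6 1759 128208 edges_6_67 v (by omega) (by omega)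
          · rcases Nat.lt_or_ge v 133544 with h | h
            · rcases Nat.lt_or_ge v 131713 with h | h
              · exact edgesRangeI_spec iota E 6 1746 129967 edges_6_68 v (by omega) (by omega)
              · exact edgesRangeI_spec iota E 6 1831 131713 edges_6_69 v (by omega) (by omega)
            · rcases Nat.lt_or_ge v 135461 with h | h
              · exact edgesRangeI_spec iota E 6 1917 133544 edges_6_70 v (by omega) (by omega)
              · rcases Nat.lt_or_ge v 137136 with h | h
                · exact edgesRangeI_spec iota E 6 1675 135461 edges_6_71 v (by omega) (by omega)
                · exact edgesRangeI_spec iota E 6 1868 137136 edges_6_72 v (by omega) (by omega)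
        · rcases Nat.lt_or_ge v 148662 with h | h
          · rcases Nat.lt_or_ge v 142777 with h | h
            · rcases Nat.lt_or_ge v 140867 with h | h
              · exact edgesRangeI_spec iota E 6 1863 139004 edges_6_73 v (by omega) (by omega)
              · exact edgesRangeI_spec iota E 6 1910 140867 edges_6_74 v (by omega) (by omega)
            · rcases Nat.lt_or_ge v 144860 with h | h
              · exact edgesRangeI_spec iota E 6 2083 142777 edges_6_75 v (by omega) (by omega)
              · rcases Nat.lt_or_ge v 146649 with h | h
                · exact edgesRangeI_spec iota E 6 1789 144860 edges_6_76 v (by omega) (by omega)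
                · exact edgesRangeI_spec iota E 6 2013 146649 edges_6_77 v (by omega) (by omega)
          · rcases Nat.lt_or_ge v 153920 with h | h
            · rcases Nat.lt_or_ge v 150438 with h | h
              · exact edgesRangeI_spec iota E 6 1776 148662 edges_6_78 v (by omega) (by omega)
              · rcases Nat.lt_or_ge v 152170 with h | h
                · exact edgesRangeI_spec iota E 6 1732 150438 edges_6_79 v (by omega) (by omega)
                · exact edgesRangeI_spec iota E 6 1750 152170 edges_6_80 v (by omega) (by omega)
            · rcases Nat.lt_or_ge v 155745 with h | h
              · exact edgesRangeI_spec iota E 6 1825 153920 edges_6_81 v (by omega) (by omega)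
              · rcases Nat.lt_or_ge v 157565 with h | h
                · exact edgesRangeI_spec iota E 6 1820 155745 edges_6_82 v (by omega) (by omega)
                · exact edgesRangeI_spec iota E 6 1747 157565 edges_6_83 v (by omega) (by omega)
  · rcases Nat.lt_or_ge v 236060 with h | h
    · rcases Nat.lt_or_ge v 198241 with h | h
      · rcases Nat.lt_or_ge v 177813 with h | h
        · rcases Nat.lt_or_ge v 168863 with h | h
          · rcases Nat.lt_or_ge v 163061 with h | h
            · rcases Nat.lt_or_ge v 161110 with h | h
              · exact edgesRangeI_spec iota E 6 1798 159312 edges_6_84 v (by omega) (by omega)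
              · exact edgesRangeI_spec iota E 6 1951 161110 edges_6_85 v (by omega) (by omega)
            · rcases Nat.lt_or_ge v 164908 with h | h
              · exact edgesRangeI_spec iota E 6 1847 163061 edges_6_86 v (by omega) (by omega)
              · rcases Nat.lt_or_ge v 166902 with h | h
                · exact edgesRangeI_spec iota E 6 1994 164908 edges_6_87 v (by omega) (by omega)
                · exact edgesRangeI_spec iota E 6 1961 166902 edges_6_88 v (by omega) (by omega)
          · rcases Nat.lt_or_ge v 172608 with h | h
            · rcases Nat.lt_or_ge v 170662 with h | h
              · exact edgesRangeI_spec iota E 6 1799 168863 edges_6_89 v (by omega) (by omega)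
              · exact edgesRangeI_spec iota E 6 1946 170662 edges_6_90 v (by omega) (by omega)
            · rcases Nat.lt_or_ge v 174287 with h | h
              · exact edgesRangeI_spec iota E 6 1679 172608 edges_6_91 v (by omega) (by omega)
              · rcases Nat.lt_or_ge v 176071 with h | h
                · exact edgesRangeI_spec iota E 6 1784 174287 edges_6_92 v (by omega) (by omega)
                · exact edgesRangeI_spec iota E 6 1742 176071 edges_6_93 v (by omega) (by omega)
        · rcases Nat.lt_or_ge v 186890 with h | h
          · rcases Nat.lt_or_ge v 181415 with h | h
            · rcases Nat.lt_or_ge v 179621 with h | h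
              · exact edgesRangeI_spec iota E 6 1808 177813 edges_6_94 v (by omega) (by omega)
              · exact edgesRangeI_spec iota E 6 1794 179621 edges_6_95 v (by omega) (by omega)
            · rcases Nat.lt_or_ge v 183238 with h | h
              · exact edgesRangeI_spec iota E 6 1823 181415 edges_6_96 v (by omega) (by omega)
              · rcases Nat.lt_or_ge v 184954 with h | h
                · exact edgesRangeI_spec iota E 6 1716 183238 edges_6_97 v (by omega) (by omega)
                · exact edgesRangeI_spec iota E 6 1936 184954 edges_6_98 v (by omega) (by omega)
          · rcases Nat.lt_or_ge v 192736 with h | h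
            · rcases Nat.lt_or_ge v 188777 with h | h
              · exact edgesRangeI_spec iota E 6 1887 186890 edges_6_99 v (by omega) (by omega)
              · rcases Nat.lt_or_ge v 190756 with h | h
                · exact edgesRangeI_spec iota E 6 1979 188777 edges_6_100 v (by omega) (by omega)
                · exact edgesRangeI_spec iota E 6 1980 190756 edges_6_101 v (by omega) (by omega)
            · rcases Nat.lt_or_ge v 194583 with h | h
              · exact edgesRangeI_spec iota E 6 1847 192736 edges_6_102 v (by omega) (by omega)
              · rcases Nat.lt_or_ge v 196556 with h | h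
                · exact edgesRangeI_spec iota E 6 1973 194583 edges_6_103 v (by omega) (by omega)
                · exact edgesRangeI_spec iota E 6 1685 196556 edges_6_104 v (by omega) (by omega)
      · rcases Nat.lt_or_ge v 216376 with h | h
        · rcases Nat.lt_or_ge v 207059 with h | h
          · rcases Nat.lt_or_ge v 201713 with h | h
            · rcases Nat.lt_or_ge v 199898 with h | h
              · exact edgesRangeI_spec iota E 6 1657 198241 edges_6_105 v (by omega) (by omega)
              · exact edgesRangeI_spec iota E 6 1815 199898 edges_6_106 v (by omega) (by omega)
            · rcases Nat.lt_or_ge v 203429 with h | h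
              · exact edgesRangeI_spec iota E 6 1716 201713 edges_6_107 v (by omega) (by omega)
              · rcases Nat.lt_or_ge v 205240 with h | h
                · exact edgesRangeI_spec iota E 6 1811 203429 edges_6_108 v (by omega) (by omega)
                · exact edgesRangeI_spec iota E 6 1819 205240 edges_6_109 v (by omega) (by omega)
          · rcases Nat.lt_or_ge v 210602 with h | h
            · rcases Nat.lt_or_ge v 208850 with h | h
              · exact edgesRangeI_spec iota E 6 1791 207059 edges_6_110 v (by omega) (by omega)
              · exact edgesRangeI_spec iota E 6 1752 208850 edges_6_111 v (by omega) (by omega)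
            · rcases Nat.lt_or_ge v 212515 with h | h
              · exact edgesRangeI_spec iota E 6 1913 210602 edges_6_112 v (by omega) (by omega)
              · rcases Nat.lt_or_ge v 214420 with h | h
                · exact edgesRangeI_spec iota E 6 1905 212515 edges_6_113 v (by omega) (by omega)
                · exact edgesRangeI_spec iota E 6 1956 214420 edges_6_114 v (by omega) (by omega)
        · rcases Nat.lt_or_ge v 225454 with h | h
          · rcases Nat.lt_or_ge v 220253 with h | h
            · rcases Nat.lt_or_ge v 218317 with h | h
              · exact edgesRangeI_spec iota E 6 1941 216376 edges_6_115 v (by omega) (by omega)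
              · exact edgesRangeI_spec iota E 6 1936 218317 edges_6_116 v (by omega) (by omega)
            · rcases Nat.lt_or_ge v 222164 with h | h
              · exact edgesRangeI_spec iota E 6 1911 220253 edges_6_117 v (by omega) (by omega)
              · rcases Nat.lt_or_ge v 223793 with h | h
                · exact edgesRangeI_spec iota E 6 1629 222164 edges_6_118 v (by omega) (by omega)
                · exact edgesRangeI_spec iota E 6 1661 223793 edges_6_119 v (by omega) (by omega)
          · rcases Nat.lt_or_ge v 230707 with h | h
            · rcases Nat.lt_or_ge v 227243 with h | h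
              · exact edgesRangeI_spec iota E 6 1789 225454 edges_6_120 v (by omega) (by omega)
              · rcases Nat.lt_or_ge v 228960 with h | h
                · exact edgesRangeI_spec iota E 6 1717 227243 edges_6_121 v (by omega) (by omega)
                · exact edgesRangeI_spec iota E 6 1747 228960 edges_6_122 v (by omega) (by omega)
            · rcases Nat.lt_or_ge v 232515 with h | h
              · exact edgesRangeI_spec iota E 6 1808 230707 edges_6_123 v (by omega) (by omega)
              · rcases Nat.lt_or_ge v 234267 with h | h
                · exact edgesRangeI_spec iota E 6 1752 232515 edges_6_124 v (by omega) (by omega)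
                · exact edgesRangeI_spec iota E 6 1793 234267 edges_6_125 v (by omega) (by omega)
    · rcases Nat.lt_or_ge v 273611 with h | h
      · rcases Nat.lt_or_ge v 254140 with h | h
        · rcases Nat.lt_or_ge v 245719 with h | h
          · rcases Nat.lt_or_ge v 239861 with h | h
            · rcases Nat.lt_or_ge v 237921 with h | h
              · exact edgesRangeI_spec iota E 6 1861 236060 edges_6_126 v (by omega) (by omega)
              · exact edgesRangeI_spec iota E 6 1940 237921 edges_6_127 v (by omega) (by omega)
            · rcases Nat.lt_or_ge v 241751 with h | h
              · exact edgesRangeI_spec iota E 6 1890 239861 edges_6_128 v (by omega) (by omega)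
              · rcases Nat.lt_or_ge v 243643 with h | h
                · exact edgesRangeI_spec iota E 6 1892 241751 edges_6_129 v (by omega) (by omega)
                · exact edgesRangeI_spec iota E 6 2076 243643 edges_6_130 v (by omega) (by omega)
          · rcases Nat.lt_or_ge v 249012 with h | h
            · rcases Nat.lt_or_ge v 247464 with h | h
              · exact edgesRangeI_spec iota E 6 1745 245719 edges_6_131 v (by omega) (by omega)
              · exact edgesRangeI_spec iota E 6 1548 247464 edges_6_132 v (by omega) (by omega)
            · rcases Nat.lt_or_ge v 250642 with h | h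
              · exact edgesRangeI_spec iota E 6 1630 249012 edges_6_133 v (by omega) (by omega)
              · rcases Nat.lt_or_ge v 252421 with h | h
                · exact edgesRangeI_spec iota E 6 1779 250642 edges_6_134 v (by omega) (by omega)
                · exact edgesRangeI_spec iota E 6 1719 252421 edges_6_135 v (by omega) (by omega)
        · rcases Nat.lt_or_ge v 263139 with h | h
          · rcases Nat.lt_or_ge v 257634 with h | h
            · rcases Nat.lt_or_ge v 255892 with h | h
              · exact edgesRangeI_spec iota E 6 1752 254140 edges_6_136 v (by omega) (by omega)
              · exact edgesRangeI_spec iota E 6 1742 255892 edges_6_137 v (by omega) (by omega)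
            · rcases Nat.lt_or_ge v 259385 with h | h
              · exact edgesRangeI_spec iota E 6 1751 257634 edges_6_138 v (by omega) (by omega)
              · rcases Nat.lt_or_ge v 261223 with h | h
                · exact edgesRangeI_spec iota E 6 1838 259385 edges_6_139 v (by omega) (by omega)
                · exact edgesRangeI_spec iota E 6 1916 261223 edges_6_140 v (by omega) (by omega)
          · rcases Nat.lt_or_ge v 268756 with h | h
            · rcases Nat.lt_or_ge v 264949 with h | h
              · exact edgesRangeI_spec iota E 6 1810 263139 edges_6_141 v (by omega) (by omega)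
              · rcases Nat.lt_or_ge v 266831 with h | h
                · exact edgesRangeI_spec iota E 6 1882 264949 edges_6_142 v (by omega) (by omega)
                · exact edgesRangeI_spec iota E 6 1925 266831 edges_6_143 v (by omega) (by omega)
            · rcases Nat.lt_or_ge v 270335 with h | h
              · exact edgesRangeI_spec iota E 6 1579 268756 edges_6_144 v (by omega) (by omega)
              · rcases Nat.lt_or_ge v 271887 with h | h
                · exact edgesRangeI_spec iota E 6 1552 270335 edges_6_145 v (by omega) (by omega)
                · exact edgesRangeI_spec iota E 6 1724 271887 edges_6_146 v (by omega) (by omega)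
      · rcases Nat.lt_or_ge v 290792 with h | h
        · rcases Nat.lt_or_ge v 282302 with h | h
          · rcases Nat.lt_or_ge v 277077 with h | h
            · rcases Nat.lt_or_ge v 275353 with h | h
              · exact edgesRangeI_spec iota E 6 1742 273611 edges_6_147 v (by omega) (by omega)
              · exact edgesRangeI_spec iota E 6 1724 275353 edges_6_148 v (by omega) (by omega)
            · rcases Nat.lt_or_ge v 278762 with h | h
              · exact edgesRangeI_spec iota E 6 1685 277077 edges_6_149 v (by omega) (by omega)
              · rcases Nat.lt_or_ge v 280463 with h | h
                · exact edgesRangeI_spec iota E 6 1701 278762 edges_6_150 v (by omega) (by omega)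
                · exact edgesRangeI_spec iota E 6 1839 280463 edges_6_151 v (by omega) (by omega)
          · rcases Nat.lt_or_ge v 285962 with h | h
            · rcases Nat.lt_or_ge v 284067 with h | h
              · exact edgesRangeI_spec iota E 6 1765 282302 edges_6_152 v (by omega) (by omega)
              · exact edgesRangeI_spec iota E 6 1895 284067 edges_6_153 v (by omega) (by omega)
            · rcases Nat.lt_or_ge v 287484 with h | h
              · exact edgesRangeI_spec iota E 6 1522 285962 edges_6_154 v (by omega) (by omega)
              · rcases Nat.lt_or_ge v 289107 with h | h
                · exact edgesRangeI_spec iota E 6 1623 287484 edges_6_155 v (by omega) (by omega)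
                · exact edgesRangeI_spec iota E 6 1685 289107 edges_6_156 v (by omega) (by omega)
        · rcases Nat.lt_or_ge v 299251 with h | h
          · rcases Nat.lt_or_ge v 294159 with h | h
            · rcases Nat.lt_or_ge v 292460 with h | h
              · exact edgesRangeI_spec iota E 6 1668 290792 edges_6_157 v (by omega) (by omega)
              · exact edgesRangeI_spec iota E 6 1699 292460 edges_6_158 v (by omega) (by omega)
            · rcases Nat.lt_or_ge v 295951 with h | h
              · exact edgesRangeI_spec iota E 6 1792 294159 edges_6_159 v (by omega) (by omega)
              · rcases Nat.lt_or_ge v 297617 with h | h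
                · exact edgesRangeI_spec iota E 6 1666 295951 edges_6_160 v (by omega) (by omega)
                · exact edgesRangeI_spec iota E 6 1634 297617 edges_6_161 v (by omega) (by omega)
          · rcases Nat.lt_or_ge v 304136 with h | h
            · rcases Nat.lt_or_ge v 300841 with h | h
              · exact edgesRangeI_spec iota E 6 1590 299251 edges_6_162 v (by omega) (by omega)
              · rcases Nat.lt_or_ge v 302576 with h | h
                · exact edgesRangeI_spec iota E 6 1735 300841 edges_6_163 v (by omega) (by omega)
                · exact edgesRangeI_spec iota E 6 1560 302576 edges_6_164 v (by omega) (by omega)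
            · rcases Nat.lt_or_ge v 305709 with h | h
              · exact edgesRangeI_spec iota E 6 1573 304136 edges_6_165 v (by omega) (by omega)
              · rcases Nat.lt_or_ge v 307319 with h | h
                · exact edgesRangeI_spec iota E 6 1610 305709 edges_6_166 v (by omega) (by omega)
                · exact edgesRangeI_spec iota E 6 285 307319 edges_6_167 v (by omega) (by omega)

theorem edgesx_7 : ∀ v, v < 307604 → edgeOKI iota E 7 v = true := by
  intro v hv
  rcases Nat.lt_or_ge v 158750 with h | h
  · rcases Nat.lt_or_ge v 82135 with h | h
    · rcases Nat.lt_or_ge v 41642 with h | h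
      · rcases Nat.lt_or_ge v 19759 with h | h
        · rcases Nat.lt_or_ge v 9797 with h | h
          · rcases Nat.lt_or_ge v 4040 with h | h
            · rcases Nat.lt_or_ge v 1930 with h | h
              · exact edgesRangeI_spec iota E 7 1930 0 edges_7_0 v (by omega) (by omega)
              · exact edgesRangeI_spec iota E 7 2110 1930 edges_7_1 v (by omega) (by omega)
            · rcases Nat.lt_or_ge v 5924 with h | h
              · exact edgesRangeI_spec iota E 7 1884 4040 edges_7_2 v (by omega) (by omega)
              · rcases Nat.lt_or_ge v 7828 with h | h
                · exact edgesRangeI_spec iota E 7 1904 5924 edges_7_3 v (by omega) (by omega)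
                · exact edgesRangeI_spec iota E 7 1969 7828 edges_7_4 v (by omega) (by omega)
          · rcases Nat.lt_or_ge v 13760 with h | h
            · rcases Nat.lt_or_ge v 11717 with h | h
              · exact edgesRangeI_spec iota E 7 1920 9797 edges_7_5 v (by omega) (by omega)
              · exact edgesRangeI_spec iota E 7 2043 11717 edges_7_6 v (by omega) (by omega)
            · rcases Nat.lt_or_ge v 15829 with h | h
              · exact edgesRangeI_spec iota E 7 2069 13760 edges_7_7 v (by omega) (by omega)
              · rcases Nat.lt_or_ge v 17714 with h | h
                · exact edgesRangeI_spec iota E 7 1885 15829 edges_7_8 v (by omega) (by omega)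
                · exact edgesRangeI_spec iota E 7 2045 17714 edges_7_9 v (by omega) (by omega)
        · rcases Nat.lt_or_ge v 29705 with h | h
          · rcases Nat.lt_or_ge v 23724 with h | h
            · rcases Nat.lt_or_ge v 21817 with h | h
              · exact edgesRangeI_spec iota E 7 2058 19759 edges_7_10 v (by omega) (by omega)
              · exact edgesRangeI_spec iota E 7 1907 21817 edges_7_11 v (by omega) (by omega)
            · rcases Nat.lt_or_ge v 25781 with h | h
              · exact edgesRangeI_spec iota E 7 2057 23724 edges_7_12 v (by omega) (by omega)
              · rcases Nat.lt_or_ge v 27861 with h | h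
                · exact edgesRangeI_spec iota E 7 2080 25781 edges_7_13 v (by omega) (by omega)
                · exact edgesRangeI_spec iota E 7 1844 27861 edges_7_14 v (by omega) (by omega)
          · rcases Nat.lt_or_ge v 35832 with h | h
            · rcases Nat.lt_or_ge v 31609 with h | h
              · exact edgesRangeI_spec iota E 7 1904 29705 edges_7_15 v (by omega) (by omega)
              · rcases Nat.lt_or_ge v 33746 with h | h
                · exact edgesRangeI_spec iota E 7 2137 31609 edges_7_16 v (by omega) (by omega)
                · exact edgesRangeI_spec iota E 7 2086 33746 edges_7_17 v (by omega) (by omega)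
            · rcases Nat.lt_or_ge v 37675 with h | h
              · exact edgesRangeI_spec iota E 7 1843 35832 edges_7_18 v (by omega) (by omega)
              · rcases Nat.lt_or_ge v 39573 with h | h
                · exact edgesRangeI_spec iota E 7 1898 37675 edges_7_19 v (by omega) (by omega)
                · exact edgesRangeI_spec iota E 7 2069 39573 edges_7_20 v (by omega) (by omega)
      · rcases Nat.lt_or_ge v 61180 with h | h
        · rcases Nat.lt_or_ge v 51308 with h | h
          · rcases Nat.lt_or_ge v 45752 with h | h
            · rcases Nat.lt_or_ge v 43516 with h | h
              · exact edgesRangeI_spec iota E 7 1874 41642 edges_7_21 v (by omega) (by omega)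
              · exact edgesRangeI_spec iota E 7 2236 43516 edges_7_22 v (by omega) (by omega)
            · rcases Nat.lt_or_ge v 47543 with h | h
              · exact edgesRangeI_spec iota E 7 1791 45752 edges_7_23 v (by omega) (by omega)
              · rcases Nat.lt_or_ge v 49444 with h | h
                · exact edgesRangeI_spec iota E 7 1901 47543 edges_7_24 v (by omega) (by omega)
                · exact edgesRangeI_spec iota E 7 1864 49444 edges_7_25 v (by omega) (by omega)
          · rcases Nat.lt_or_ge v 55200 with h | h
            · rcases Nat.lt_or_ge v 53403 with h | h
              · exact edgesRangeI_spec iota E 7 2095 51308 edges_7_26 v (by omega) (by omega)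
              · exact edgesRangeI_spec iota E 7 1797 53403 edges_7_27 v (by omega) (by omega)
            · rcases Nat.lt_or_ge v 57521 with h | h
              · exact edgesRangeI_spec iota E 7 2321 55200 edges_7_28 v (by omega) (by omega)
              · rcases Nat.lt_or_ge v 59252 with h | h
                · exact edgesRangeI_spec iota E 7 1731 57521 edges_7_29 v (by omega) (by omega)
                · exact edgesRangeI_spec iota E 7 1928 59252 edges_7_30 v (by omega) (by omega)
        · rcases Nat.lt_or_ge v 70871 with h | h
          · rcases Nat.lt_or_ge v 64796 with h | h
            · rcases Nat.lt_or_ge v 62915 with h | h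
              · exact edgesRangeI_spec iota E 7 1735 61180 edges_7_31 v (by omega) (by omega)
              · exact edgesRangeI_spec iota E 7 1881 62915 edges_7_32 v (by omega) (by omega)
            · rcases Nat.lt_or_ge v 66950 with h | h
              · exact edgesRangeI_spec iota E 7 2154 64796 edges_7_33 v (by omega) (by omega)
              · rcases Nat.lt_or_ge v 68696 with h | h
                · exact edgesRangeI_spec iota E 7 1746 66950 edges_7_34 v (by omega) (by omega)
                · exact edgesRangeI_spec iota E 7 2175 68696 edges_7_35 v (by omega) (by omega)
          · rcases Nat.lt_or_ge v 76500 with h | h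
            · rcases Nat.lt_or_ge v 72721 with h | h
              · exact edgesRangeI_spec iota E 7 1850 70871 edges_7_36 v (by omega) (by omega)
              · rcases Nat.lt_or_ge v 74569 with h | h
                · exact edgesRangeI_spec iota E 7 1848 72721 edges_7_37 v (by omega) (by omega)
                · exact edgesRangeI_spec iota E 7 1931 74569 edges_7_38 v (by omega) (by omega)
            · rcases Nat.lt_or_ge v 78157 with h | h
              · exact edgesRangeI_spec iota E 7 1657 76500 edges_7_39 v (by omega) (by omega)
              · rcases Nat.lt_or_ge v 80055 with h | h
                · exact edgesRangeI_spec iota E 7 1898 78157 edges_7_40 v (by omega) (by omega)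
                · exact edgesRangeI_spec iota E 7 2080 80055 edges_7_41 v (by omega) (by omega)
    · rcases Nat.lt_or_ge v 121021 with h | h
      · rcases Nat.lt_or_ge v 100838 with h | h
        · rcases Nat.lt_or_ge v 91485 with h | h
          · rcases Nat.lt_or_ge v 85682 with h | h
            · rcases Nat.lt_or_ge v 83870 with h | h
              · exact edgesRangeI_spec iota E 7 1735 82135 edges_7_42 v (by omega) (by omega)
              · exact edgesRangeI_spec iota E 7 1812 83870 edges_7_43 v (by omega) (by omega)
            · rcases Nat.lt_or_ge v 88015 with h | h
              · exact edgesRangeI_spec iota E 7 2333 85682 edges_7_44 v (by omega) (by omega)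
              · rcases Nat.lt_or_ge v 89706 with h | h
                · exact edgesRangeI_spec iota E 7 1691 88015 edges_7_45 v (by omega) (by omega)
                · exact edgesRangeI_spec iota E 7 1779 89706 edges_7_46 v (by omega) (by omega)
          · rcases Nat.lt_or_ge v 95021 with h | h
            · rcases Nat.lt_or_ge v 93457 with h | h
              · exact edgesRangeI_spec iota E 7 1972 91485 edges_7_47 v (by omega) (by omega)
              · exact edgesRangeI_spec iota E 7 1564 93457 edges_7_48 v (by omega) (by omega)
            · rcases Nat.lt_or_ge v 96816 with h | h
              · exact edgesRangeI_spec iota E 7 1795 95021 edges_7_49 v (by omega) (by omega)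
              · rcases Nat.lt_or_ge v 98693 with h | h
                · exact edgesRangeI_spec iota E 7 1877 96816 edges_7_50 v (by omega) (by omega)
                · exact edgesRangeI_spec iota E 7 2145 98693 edges_7_51 v (by omega) (by omega)
        · rcases Nat.lt_or_ge v 109941 with h | h
          · rcases Nat.lt_or_ge v 104234 with h | h
            · rcases Nat.lt_or_ge v 102402 with h | h
              · exact edgesRangeI_spec iota E 7 1564 100838 edges_7_52 v (by omega) (by omega)
              · exact edgesRangeI_spec iota E 7 1832 102402 edges_7_53 v (by omega) (by omega)
            · rcases Nat.lt_or_ge v 106514 with h | h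
              · exact edgesRangeI_spec iota E 7 2280 104234 edges_7_54 v (by omega) (by omega)
              · rcases Nat.lt_or_ge v 108179 with h | h
                · exact edgesRangeI_spec iota E 7 1665 106514 edges_7_55 v (by omega) (by omega)
                · exact edgesRangeI_spec iota E 7 1762 108179 edges_7_56 v (by omega) (by omega)
          · rcases Nat.lt_or_ge v 115136 with h | h
            · rcases Nat.lt_or_ge v 111814 with h | h
              · exact edgesRangeI_spec iota E 7 1873 109941 edges_7_57 v (by omega) (by omega)
              · rcases Nat.lt_or_ge v 113627 with h | h
                · exact edgesRangeI_spec iota E 7 1813 111814 edges_7_58 v (by omega) (by omega)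
                · exact edgesRangeI_spec iota E 7 1509 113627 edges_7_59 v (by omega) (by omega)
            · rcases Nat.lt_or_ge v 117067 with h | h
              · exact edgesRangeI_spec iota E 7 1931 115136 edges_7_60 v (by omega) (by omega)
              · rcases Nat.lt_or_ge v 118944 with h | h
                · exact edgesRangeI_spec iota E 7 1877 117067 edges_7_61 v (by omega) (by omega)
                · exact edgesRangeI_spec iota E 7 2077 118944 edges_7_62 v (by omega) (by omega)
      · rcases Nat.lt_or_ge v 138852 with h | h
        · rcases Nat.lt_or_ge v 129996 with h | h
          · rcases Nat.lt_or_ge v 124374 with h | h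
            · rcases Nat.lt_or_ge v 122576 with h | h
              · exact edgesRangeI_spec iota E 7 1555 121021 edges_7_63 v (by omega) (by omega)
              · exact edgesRangeI_spec iota E 7 1798 122576 edges_7_64 v (by omega) (by omega)
            · rcases Nat.lt_or_ge v 126653 with h | h
              · exact edgesRangeI_spec iota E 7 2279 124374 edges_7_65 v (by omega) (by omega)
              · rcases Nat.lt_or_ge v 128323 with h | h
                · exact edgesRangeI_spec iota E 7 1670 126653 edges_7_66 v (by omega) (by omega)
                · exact edgesRangeI_spec iota E 7 1673 128323 edges_7_67 v (by omega) (by omega)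
          · rcases Nat.lt_or_ge v 133794 with h | h
            · rcases Nat.lt_or_ge v 131715 with h | h
              · exact edgesRangeI_spec iota E 7 1719 129996 edges_7_68 v (by omega) (by omega)
              · exact edgesRangeI_spec iota E 7 2079 131715 edges_7_69 v (by omega) (by omega)
            · rcases Nat.lt_or_ge v 135333 with h | h
              · exact edgesRangeI_spec iota E 7 1539 133794 edges_7_70 v (by omega) (by omega)
              · rcases Nat.lt_or_ge v 136978 with h | h
                · exact edgesRangeI_spec iota E 7 1645 135333 edges_7_71 v (by omega) (by omega)
                · exact edgesRangeI_spec iota E 7 1874 136978 edges_7_72 v (by omega) (by omega)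
        · rcases Nat.lt_or_ge v 148496 with h | h
          · rcases Nat.lt_or_ge v 142904 with h | h
            · rcases Nat.lt_or_ge v 140766 with h | h
              · exact edgesRangeI_spec iota E 7 1914 138852 edges_7_73 v (by omega) (by omega)
              · exact edgesRangeI_spec iota E 7 2138 140766 edges_7_74 v (by omega) (by omega)
            · rcases Nat.lt_or_ge v 144430 with h | h
              · exact edgesRangeI_spec iota E 7 1526 142904 edges_7_75 v (by omega) (by omega)
              · rcases Nat.lt_or_ge v 146354 with h | h
                · exact edgesRangeI_spec iota E 7 1924 144430 edges_7_76 v (by omega) (by omega)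
                · exact edgesRangeI_spec iota E 7 2142 146354 edges_7_77 v (by omega) (by omega)
          · rcases Nat.lt_or_ge v 153459 with h | h
            · rcases Nat.lt_or_ge v 150126 with h | h
              · exact edgesRangeI_spec iota E 7 1630 148496 edges_7_78 v (by omega) (by omega)
              · rcases Nat.lt_or_ge v 151798 with h | h
                · exact edgesRangeI_spec iota E 7 1672 150126 edges_7_79 v (by omega) (by omega)
                · exact edgesRangeI_spec iota E 7 1661 151798 edges_7_80 v (by omega) (by omega)
            · rcases Nat.lt_or_ge v 155468 with h | h
              · exact edgesRangeI_spec iota E 7 2009 153459 edges_7_81 v (by omega) (by omega)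
              · rcases Nat.lt_or_ge v 157220 with h | h
                · exact edgesRangeI_spec iota E 7 1752 155468 edges_7_82 v (by omega) (by omega)
                · exact edgesRangeI_spec iota E 7 1530 157220 edges_7_83 v (by omega) (by omega)
  · rcases Nat.lt_or_ge v 234760 with h | h
    · rcases Nat.lt_or_ge v 197391 with h | h
      · rcases Nat.lt_or_ge v 177020 with h | h
        · rcases Nat.lt_or_ge v 168085 with h | h
          · rcases Nat.lt_or_ge v 162440 with h | h
            · rcases Nat.lt_or_ge v 160620 with h | h
              · exact edgesRangeI_spec iota E 7 1870 158750 edges_7_84 v (by omega) (by omega)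
              · exact edgesRangeI_spec iota E 7 1820 160620 edges_7_85 v (by omega) (by omega)
            · rcases Nat.lt_or_ge v 164343 with h | h
              · exact edgesRangeI_spec iota E 7 1903 162440 edges_7_86 v (by omega) (by omega)
              · rcases Nat.lt_or_ge v 166538 with h | h
                · exact edgesRangeI_spec iota E 7 2195 164343 edges_7_87 v (by omega) (by omega)
                · exact edgesRangeI_spec iota E 7 1547 166538 edges_7_88 v (by omega) (by omega)
          · rcases Nat.lt_or_ge v 172076 with h | h
            · rcases Nat.lt_or_ge v 170224 with h | h
              · exact edgesRangeI_spec iota E 7 2139 168085 edges_7_89 v (by omega) (by omega)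
              · exact edgesRangeI_spec iota E 7 1852 170224 edges_7_90 v (by omega) (by omega)
            · rcases Nat.lt_or_ge v 173638 with h | h
              · exact edgesRangeI_spec iota E 7 1562 172076 edges_7_91 v (by omega) (by omega)
              · rcases Nat.lt_or_ge v 175338 with h | h
                · exact edgesRangeI_spec iota E 7 1700 173638 edges_7_92 v (by omega) (by omega)
                · exact edgesRangeI_spec iota E 7 1682 175338 edges_7_93 v (by omega) (by omega)
        · rcases Nat.lt_or_ge v 186050 with h | h
          · rcases Nat.lt_or_ge v 180881 with h | h
            · rcases Nat.lt_or_ge v 178871 with h | h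
              · exact edgesRangeI_spec iota E 7 1851 177020 edges_7_94 v (by omega) (by omega)
              · exact edgesRangeI_spec iota E 7 2010 178871 edges_7_95 v (by omega) (by omega)
            · rcases Nat.lt_or_ge v 182422 with h | h
              · exact edgesRangeI_spec iota E 7 1541 180881 edges_7_96 v (by omega) (by omega)
              · rcases Nat.lt_or_ge v 184173 with h | h
                · exact edgesRangeI_spec iota E 7 1751 182422 edges_7_97 v (by omega) (by omega)
                · exact edgesRangeI_spec iota E 7 1877 184173 edges_7_98 v (by omega) (by omega)
          · rcases Nat.lt_or_ge v 191879 with h | h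
            · rcases Nat.lt_or_ge v 188021 with h | h
              · exact edgesRangeI_spec iota E 7 1971 186050 edges_7_99 v (by omega) (by omega)
              · rcases Nat.lt_or_ge v 189948 with h | h
                · exact edgesRangeI_spec iota E 7 1927 188021 edges_7_100 v (by omega) (by omega)
                · exact edgesRangeI_spec iota E 7 1931 189948 edges_7_101 v (by omega) (by omega)
            · rcases Nat.lt_or_ge v 193737 with h | h
              · exact edgesRangeI_spec iota E 7 1858 191879 edges_7_102 v (by omega) (by omega)
              · rcases Nat.lt_or_ge v 195796 with h | h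
                · exact edgesRangeI_spec iota E 7 2059 193737 edges_7_103 v (by omega) (by omega)
                · exact edgesRangeI_spec iota E 7 1595 195796 edges_7_104 v (by omega) (by omega)
      · rcases Nat.lt_or_ge v 215201 with h | h
        · rcases Nat.lt_or_ge v 206244 with h | h
          · rcases Nat.lt_or_ge v 200704 with h | h
            · rcases Nat.lt_or_ge v 198885 with h | h
              · exact edgesRangeI_spec iota E 7 1494 197391 edges_7_105 v (by omega) (by omega)
              · exact edgesRangeI_spec iota E 7 1819 198885 edges_7_106 v (by omega) (by omega)
            · rcases Nat.lt_or_ge v 202329 with h | h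
              · exact edgesRangeI_spec iota E 7 1625 200704 edges_7_107 v (by omega) (by omega)
              · rcases Nat.lt_or_ge v 204177 with h | h
                · exact edgesRangeI_spec iota E 7 1848 202329 edges_7_108 v (by omega) (by omega)
                · exact edgesRangeI_spec iota E 7 2067 204177 edges_7_109 v (by omega) (by omega)
          · rcases Nat.lt_or_ge v 209543 with h | h
            · rcases Nat.lt_or_ge v 207859 with h | h
              · exact edgesRangeI_spec iota E 7 1615 206244 edges_7_110 v (by omega) (by omega)
              · exact edgesRangeI_spec iota E 7 1684 207859 edges_7_111 v (by omega) (by omega)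
            · rcases Nat.lt_or_ge v 211463 with h | h
              · exact edgesRangeI_spec iota E 7 1920 209543 edges_7_112 v (by omega) (by omega)
              · rcases Nat.lt_or_ge v 213435 with h | h
                · exact edgesRangeI_spec iota E 7 1972 211463 edges_7_113 v (by omega) (by omega)
                · exact edgesRangeI_spec iota E 7 1766 213435 edges_7_114 v (by omega) (by omega)
        · rcases Nat.lt_or_ge v 224219 with h | h
          · rcases Nat.lt_or_ge v 219121 with h | h
            · rcases Nat.lt_or_ge v 217324 with h | h
              · exact edgesRangeI_spec iota E 7 2123 215201 edges_7_115 v (by omega) (by omega)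
              · exact edgesRangeI_spec iota E 7 1797 217324 edges_7_116 v (by omega) (by omega)
            · rcases Nat.lt_or_ge v 221129 with h | h
              · exact edgesRangeI_spec iota E 7 2008 219121 edges_7_117 v (by omega) (by omega)
              · rcases Nat.lt_or_ge v 222744 with h | h
                · exact edgesRangeI_spec iota E 7 1615 221129 edges_7_118 v (by omega) (by omega)
                · exact edgesRangeI_spec iota E 7 1475 222744 edges_7_119 v (by omega) (by omega)
          · rcases Nat.lt_or_ge v 229287 with h | h
            · rcases Nat.lt_or_ge v 225949 with h | h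
              · exact edgesRangeI_spec iota E 7 1730 224219 edges_7_120 v (by omega) (by omega)
              · rcases Nat.lt_or_ge v 227650 with h | h
                · exact edgesRangeI_spec iota E 7 1701 225949 edges_7_121 v (by omega) (by omega)
                · exact edgesRangeI_spec iota E 7 1637 227650 edges_7_122 v (by omega) (by omega)
            · rcases Nat.lt_or_ge v 231255 with h | h
              · exact edgesRangeI_spec iota E 7 1968 229287 edges_7_123 v (by omega) (by omega)
              · rcases Nat.lt_or_ge v 233129 with h | h
                · exact edgesRangeI_spec iota E 7 1874 231255 edges_7_124 v (by omega) (by omega)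
                · exact edgesRangeI_spec iota E 7 1631 233129 edges_7_125 v (by omega) (by omega)
    · rcases Nat.lt_or_ge v 271829 with h | h
      · rcases Nat.lt_or_ge v 252583 with h | h
        · rcases Nat.lt_or_ge v 244213 with h | h
          · rcases Nat.lt_or_ge v 238405 with h | h
            · rcases Nat.lt_or_ge v 236482 with h | h
              · exact edgesRangeI_spec iota E 7 1722 234760 edges_7_126 v (by omega) (by omega)
              · exact edgesRangeI_spec iota E 7 1923 236482 edges_7_127 v (by omega) (by omega)
            · rcases Nat.lt_or_ge v 240245 with h | h
              · exact edgesRangeI_spec iota E 7 1840 238405 edges_7_128 v (by omega) (by omega)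
              · rcases Nat.lt_or_ge v 242429 with h | h
                · exact edgesRangeI_spec iota E 7 2184 240245 edges_7_129 v (by omega) (by omega)
                · exact edgesRangeI_spec iota E 7 1784 242429 edges_7_130 v (by omega) (by omega)
          · rcases Nat.lt_or_ge v 247726 with h | h
            · rcases Nat.lt_or_ge v 246128 with h | h
              · exact edgesRangeI_spec iota E 7 1915 244213 edges_7_131 v (by omega) (by omega)
              · exact edgesRangeI_spec iota E 7 1598 246128 edges_7_132 v (by omega) (by omega)
            · rcases Nat.lt_or_ge v 249171 with h | h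
              · exact edgesRangeI_spec iota E 7 1445 247726 edges_7_133 v (by omega) (by omega)
              · rcases Nat.lt_or_ge v 250858 with h | h
                · exact edgesRangeI_spec iota E 7 1687 249171 edges_7_134 v (by omega) (by omega)
                · exact edgesRangeI_spec iota E 7 1725 250858 edges_7_135 v (by omega) (by omega)
        · rcases Nat.lt_or_ge v 261351 with h | h
          · rcases Nat.lt_or_ge v 256039 with h | h
            · rcases Nat.lt_or_ge v 254239 with h | h
              · exact edgesRangeI_spec iota E 7 1656 252583 edges_7_136 v (by omega) (by omega)
              · exact edgesRangeI_spec iota E 7 1800 254239 edges_7_137 v (by omega) (by omega)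
            · rcases Nat.lt_or_ge v 257939 with h | h
              · exact edgesRangeI_spec iota E 7 1900 256039 edges_7_138 v (by omega) (by omega)
              · rcases Nat.lt_or_ge v 259582 with h | h
                · exact edgesRangeI_spec iota E 7 1643 257939 edges_7_139 v (by omega) (by omega)
                · exact edgesRangeI_spec iota E 7 1769 259582 edges_7_140 v (by omega) (by omega)
          · rcases Nat.lt_or_ge v 267060 with h | h
            · rcases Nat.lt_or_ge v 263296 with h | h
              · exact edgesRangeI_spec iota E 7 1945 261351 edges_7_141 v (by omega) (by omega)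
              · rcases Nat.lt_or_ge v 265270 with h | h
                · exact edgesRangeI_spec iota E 7 1974 263296 edges_7_142 v (by omega) (by omega)
                · exact edgesRangeI_spec iota E 7 1790 265270 edges_7_143 v (by omega) (by omega)
            · rcases Nat.lt_or_ge v 268816 with h | h
              · exact edgesRangeI_spec iota E 7 1756 267060 edges_7_144 v (by omega) (by omega)
              · rcases Nat.lt_or_ge v 270345 with h | h
                · exact edgesRangeI_spec iota E 7 1529 268816 edges_7_145 v (by omega) (by omega)
                · exact edgesRangeI_spec iota E 7 1484 270345 edges_7_146 v (by omega) (by omega)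
      · rcases Nat.lt_or_ge v 290691 with h | h
        · rcases Nat.lt_or_ge v 280394 with h | h
          · rcases Nat.lt_or_ge v 275189 with h | h
            · rcases Nat.lt_or_ge v 273512 with h | h
              · exact edgesRangeI_spec iota E 7 1683 271829 edges_7_147 v (by omega) (by omega)
              · exact edgesRangeI_spec iota E 7 1677 273512 edges_7_148 v (by omega) (by omega)
            · rcases Nat.lt_or_ge v 276971 with h | h
              · exact edgesRangeI_spec iota E 7 1782 275189 edges_7_149 v (by omega) (by omega)
              · rcases Nat.lt_or_ge v 278770 with h | h
                · exact edgesRangeI_spec iota E 7 1799 276971 edges_7_150 v (by omega) (by omega)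
                · exact edgesRangeI_spec iota E 7 1624 278770 edges_7_151 v (by omega) (by omega)
          · rcases Nat.lt_or_ge v 285865 with h | h
            · rcases Nat.lt_or_ge v 282291 with h | h
              · exact edgesRangeI_spec iota E 7 1897 280394 edges_7_152 v (by omega) (by omega)
              · rcases Nat.lt_or_ge v 284134 with h | h
                · exact edgesRangeI_spec iota E 7 1843 282291 edges_7_153 v (by omega) (by omega)
                · exact edgesRangeI_spec iota E 7 1731 284134 edges_7_154 v (by omega) (by omega)
            · rcases Nat.lt_or_ge v 287353 with h | h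
              · exact edgesRangeI_spec iota E 7 1488 285865 edges_7_155 v (by omega) (by omega)
              · rcases Nat.lt_or_ge v 288945 with h | h
                · exact edgesRangeI_spec iota E 7 1592 287353 edges_7_156 v (by omega) (by omega)
                · exact edgesRangeI_spec iota E 7 1746 288945 edges_7_157 v (by omega) (by omega)
        · rcases Nat.lt_or_ge v 299070 with h | h
          · rcases Nat.lt_or_ge v 294095 with h | h
            · rcases Nat.lt_or_ge v 292441 with h | h
              · exact edgesRangeI_spec iota E 7 1750 290691 edges_7_158 v (by omega) (by omega)
              · exact edgesRangeI_spec iota E 7 1654 292441 edges_7_159 v (by omega) (by omega)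
            · rcases Nat.lt_or_ge v 295901 with h | h
              · exact edgesRangeI_spec iota E 7 1806 294095 edges_7_160 v (by omega) (by omega)
              · rcases Nat.lt_or_ge v 297483 with h | h
                · exact edgesRangeI_spec iota E 7 1582 295901 edges_7_161 v (by omega) (by omega)
                · exact edgesRangeI_spec iota E 7 1587 297483 edges_7_162 v (by omega) (by omega)
          · rcases Nat.lt_or_ge v 303888 with h | h
            · rcases Nat.lt_or_ge v 300742 with h | h
              · exact edgesRangeI_spec iota E 7 1672 299070 edges_7_163 v (by omega) (by omega)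
              · rcases Nat.lt_or_ge v 302404 with h | h
                · exact edgesRangeI_spec iota E 7 1662 300742 edges_7_164 v (by omega) (by omega)
                · exact edgesRangeI_spec iota E 7 1484 302404 edges_7_165 v (by omega) (by omega)
            · rcases Nat.lt_or_ge v 305503 with h | h
              · exact edgesRangeI_spec iota E 7 1615 303888 edges_7_166 v (by omega) (by omega)
              · rcases Nat.lt_or_ge v 306978 with h | h
                · exact edgesRangeI_spec iota E 7 1475 305503 edges_7_167 v (by omega) (by omega)
                · exact edgesRangeI_spec iota E 7 626 306978 edges_7_168 v (by omega) (by omega)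

theorem edgesx_8 : ∀ v, v < 307604 → edgeOKI iota E 8 v = true := by
  intro v hv
  rcases Nat.lt_or_ge v 153332 with h | h
  · rcases Nat.lt_or_ge v 75265 with h | h
    · rcases Nat.lt_or_ge v 37129 with h | h
      · rcases Nat.lt_or_ge v 17909 with h | h
        · rcases Nat.lt_or_ge v 8188 with h | h
          · rcases Nat.lt_or_ge v 4262 with h | h
            · rcases Nat.lt_or_ge v 2072 with h | h
              · exact edgesRangeI_spec iota E 8 2072 0 edges_8_0 v (by omega) (by omega)
              · exact edgesRangeI_spec iota E 8 2190 2072 edges_8_1 v (by omega) (by omega)
            · rcases Nat.lt_or_ge v 6210 with h | h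
              · exact edgesRangeI_spec iota E 8 1948 4262 edges_8_2 v (by omega) (by omega)
              · exact edgesRangeI_spec iota E 8 1978 6210 edges_8_3 v (by omega) (by omega)
          · rcases Nat.lt_or_ge v 12106 with h | h
            · rcases Nat.lt_or_ge v 10134 with h | h
              · exact edgesRangeI_spec iota E 8 1946 8188 edges_8_4 v (by omega) (by omega)
              · exact edgesRangeI_spec iota E 8 1972 10134 edges_8_5 v (by omega) (by omega)
            · rcases Nat.lt_or_ge v 14041 with h | h
              · exact edgesRangeI_spec iota E 8 1935 12106 edges_8_6 v (by omega) (by omega)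
              · rcases Nat.lt_or_ge v 15984 with h | h
                · exact edgesRangeI_spec iota E 8 1943 14041 edges_8_7 v (by omega) (by omega)
                · exact edgesRangeI_spec iota E 8 1925 15984 edges_8_8 v (by omega) (by omega)
        · rcases Nat.lt_or_ge v 27595 with h | h
          · rcases Nat.lt_or_ge v 21801 with h | h
            · rcases Nat.lt_or_ge v 19834 with h | h
              · exact edgesRangeI_spec iota E 8 1925 17909 edges_8_9 v (by omega) (by omega)
              · exact edgesRangeI_spec iota E 8 1967 19834 edges_8_10 v (by omega) (by omega)
            · rcases Nat.lt_or_ge v 23665 with h | h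
              · exact edgesRangeI_spec iota E 8 1864 21801 edges_8_11 v (by omega) (by omega)
              · rcases Nat.lt_or_ge v 25624 with h | h
                · exact edgesRangeI_spec iota E 8 1959 23665 edges_8_12 v (by omega) (by omega)
                · exact edgesRangeI_spec iota E 8 1971 25624 edges_8_13 v (by omega) (by omega)
          · rcases Nat.lt_or_ge v 31325 with h | h
            · rcases Nat.lt_or_ge v 29462 with h | h
              · exact edgesRangeI_spec iota E 8 1867 27595 edges_8_14 v (by omega) (by omega)
              · exact edgesRangeI_spec iota E 8 1863 29462 edges_8_15 v (by omega) (by omega)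
            · rcases Nat.lt_or_ge v 33326 with h | h
              · exact edgesRangeI_spec iota E 8 2001 31325 edges_8_16 v (by omega) (by omega)
              · rcases Nat.lt_or_ge v 35279 with h | h
                · exact edgesRangeI_spec iota E 8 1953 33326 edges_8_17 v (by omega) (by omega)
                · exact edgesRangeI_spec iota E 8 1850 35279 edges_8_18 v (by omega) (by omega)
      · rcases Nat.lt_or_ge v 56284 with h | h
        · rcases Nat.lt_or_ge v 46714 with h | h
          · rcases Nat.lt_or_ge v 40853 with h | h
            · rcases Nat.lt_or_ge v 39034 with h | h
              · exact edgesRangeI_spec iota E 8 1905 37129 edges_8_19 v (by omega) (by omega)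
              · exact edgesRangeI_spec iota E 8 1819 39034 edges_8_20 v (by omega) (by omega)
            · rcases Nat.lt_or_ge v 42844 with h | h
              · exact edgesRangeI_spec iota E 8 1991 40853 edges_8_21 v (by omega) (by omega)
              · rcases Nat.lt_or_ge v 44840 with h | h
                · exact edgesRangeI_spec iota E 8 1996 42844 edges_8_22 v (by omega) (by omega)
                · exact edgesRangeI_spec iota E 8 1874 44840 edges_8_23 v (by omega) (by omega)
          · rcases Nat.lt_or_ge v 50448 with h | h
            · rcases Nat.lt_or_ge v 48555 with h | h
              · exact edgesRangeI_spec iota E 8 1841 46714 edges_8_24 v (by omega) (by omega)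
              · exact edgesRangeI_spec iota E 8 1893 48555 edges_8_25 v (by omega) (by omega)
            · rcases Nat.lt_or_ge v 52339 with h | h
              · exact edgesRangeI_spec iota E 8 1891 50448 edges_8_26 v (by omega) (by omega)
              · rcases Nat.lt_or_ge v 54309 with h | h
                · exact edgesRangeI_spec iota E 8 1970 52339 edges_8_27 v (by omega) (by omega)
                · exact edgesRangeI_spec iota E 8 1975 54309 edges_8_28 v (by omega) (by omega)
        · rcases Nat.lt_or_ge v 65665 with h | h
          · rcases Nat.lt_or_ge v 60008 with h | h
            · rcases Nat.lt_or_ge v 58220 with h | h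
              · exact edgesRangeI_spec iota E 8 1936 56284 edges_8_29 v (by omega) (by omega)
              · exact edgesRangeI_spec iota E 8 1788 58220 edges_8_30 v (by omega) (by omega)
            · rcases Nat.lt_or_ge v 61990 with h | h
              · exact edgesRangeI_spec iota E 8 1982 60008 edges_8_31 v (by omega) (by omega)
              · rcases Nat.lt_or_ge v 63749 with h | h
                · exact edgesRangeI_spec iota E 8 1759 61990 edges_8_32 v (by omega) (by omega)
                · exact edgesRangeI_spec iota E 8 1916 63749 edges_8_33 v (by omega) (by omega)
          · rcases Nat.lt_or_ge v 69672 with h | h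
            · rcases Nat.lt_or_ge v 67680 with h | h
              · exact edgesRangeI_spec iota E 8 2015 65665 edges_8_34 v (by omega) (by omega)
              · exact edgesRangeI_spec iota E 8 1992 67680 edges_8_35 v (by omega) (by omega)
            · rcases Nat.lt_or_ge v 71638 with h | h
              · exact edgesRangeI_spec iota E 8 1966 69672 edges_8_36 v (by omega) (by omega)
              · rcases Nat.lt_or_ge v 73468 with h | h
                · exact edgesRangeI_spec iota E 8 1830 71638 edges_8_37 v (by omega) (by omega)
                · exact edgesRangeI_spec iota E 8 1797 73468 edges_8_38 v (by omega) (by omega)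
    · rcases Nat.lt_or_ge v 113797 with h | h
      · rcases Nat.lt_or_ge v 94469 with h | h
        · rcases Nat.lt_or_ge v 85027 with h | h
          · rcases Nat.lt_or_ge v 78999 with h | h
            · rcases Nat.lt_or_ge v 77229 with h | h
              · exact edgesRangeI_spec iota E 8 1964 75265 edges_8_39 v (by omega) (by omega)
              · exact edgesRangeI_spec iota E 8 1770 77229 edges_8_40 v (by omega) (by omega)
            · rcases Nat.lt_or_ge v 80889 with h | h
              · exact edgesRangeI_spec iota E 8 1890 78999 edges_8_41 v (by omega) (by omega)
              · rcases Nat.lt_or_ge v 82958 with h | h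
                · exact edgesRangeI_spec iota E 8 2069 80889 edges_8_42 v (by omega) (by omega)
                · exact edgesRangeI_spec iota E 8 2069 82958 edges_8_43 v (by omega) (by omega)
          · rcases Nat.lt_or_ge v 88843 with h | h
            · rcases Nat.lt_or_ge v 86950 with h | h
              · exact edgesRangeI_spec iota E 8 1923 85027 edges_8_44 v (by omega) (by omega)
              · exact edgesRangeI_spec iota E 8 1893 86950 edges_8_45 v (by omega) (by omega)
            · rcases Nat.lt_or_ge v 90585 with h | h
              · exact edgesRangeI_spec iota E 8 1742 88843 edges_8_46 v (by omega) (by omega)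
              · rcases Nat.lt_or_ge v 92474 with h | h
                · exact edgesRangeI_spec iota E 8 1889 90585 edges_8_47 v (by omega) (by omega)
                · exact edgesRangeI_spec iota E 8 1995 92474 edges_8_48 v (by omega) (by omega)
        · rcases Nat.lt_or_ge v 104295 with h | h
          · rcases Nat.lt_or_ge v 98157 with h | h
            · rcases Nat.lt_or_ge v 96178 with h | h
              · exact edgesRangeI_spec iota E 8 1709 94469 edges_8_49 v (by omega) (by omega)
              · exact edgesRangeI_spec iota E 8 1979 96178 edges_8_50 v (by omega) (by omega)
            · rcases Nat.lt_or_ge v 100193 with h | h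
              · exact edgesRangeI_spec iota E 8 2036 98157 edges_8_51 v (by omega) (by omega)
              · rcases Nat.lt_or_ge v 102289 with h | h
                · exact edgesRangeI_spec iota E 8 2096 100193 edges_8_52 v (by omega) (by omega)
                · exact edgesRangeI_spec iota E 8 2006 102289 edges_8_53 v (by omega) (by omega)
          · rcases Nat.lt_or_ge v 108133 with h | h
            · rcases Nat.lt_or_ge v 106256 with h | h
              · exact edgesRangeI_spec iota E 8 1961 104295 edges_8_54 v (by omega) (by omega)
              · exact edgesRangeI_spec iota E 8 1877 106256 edges_8_55 v (by omega) (by omega)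
            · rcases Nat.lt_or_ge v 109874 with h | h
              · exact edgesRangeI_spec iota E 8 1741 108133 edges_8_56 v (by omega) (by omega)
              · rcases Nat.lt_or_ge v 111762 with h | h
                · exact edgesRangeI_spec iota E 8 1888 109874 edges_8_57 v (by omega) (by omega)
                · exact edgesRangeI_spec iota E 8 2035 111762 edges_8_58 v (by omega) (by omega)
      · rcases Nat.lt_or_ge v 133401 with h | h
        · rcases Nat.lt_or_ge v 123913 with h | h
          · rcases Nat.lt_or_ge v 117610 with h | h
            · rcases Nat.lt_or_ge v 115577 with h | h
              · exact edgesRangeI_spec iota E 8 1780 113797 edges_8_59 v (by omega) (by omega)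
              · exact edgesRangeI_spec iota E 8 2033 115577 edges_8_60 v (by omega) (by omega)
            · rcases Nat.lt_or_ge v 119612 with h | h
              · exact edgesRangeI_spec iota E 8 2002 117610 edges_8_61 v (by omega) (by omega)
              · rcases Nat.lt_or_ge v 121760 with h | h
                · exact edgesRangeI_spec iota E 8 2148 119612 edges_8_62 v (by omega) (by omega)
                · exact edgesRangeI_spec iota E 8 2153 121760 edges_8_63 v (by omega) (by omega)
          · rcases Nat.lt_or_ge v 127787 with h | h
            · rcases Nat.lt_or_ge v 125854 with h | h
              · exact edgesRangeI_spec iota E 8 1941 123913 edges_8_64 v (by omega) (by omega)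
              · exact edgesRangeI_spec iota E 8 1933 125854 edges_8_65 v (by omega) (by omega)
            · rcases Nat.lt_or_ge v 129501 with h | h
              · exact edgesRangeI_spec iota E 8 1714 127787 edges_8_66 v (by omega) (by omega)
              · rcases Nat.lt_or_ge v 131340 with h | h
                · exact edgesRangeI_spec iota E 8 1839 129501 edges_8_67 v (by omega) (by omega)
                · exact edgesRangeI_spec iota E 8 2061 131340 edges_8_68 v (by omega) (by omega)
        · rcases Nat.lt_or_ge v 143631 with h | h
          · rcases Nat.lt_or_ge v 137209 with h | h
            · rcases Nat.lt_or_ge v 135409 with h | h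
              · exact edgesRangeI_spec iota E 8 2008 133401 edges_8_69 v (by omega) (by omega)
              · exact edgesRangeI_spec iota E 8 1800 135409 edges_8_70 v (by omega) (by omega)
            · rcases Nat.lt_or_ge v 139306 with h | h
              · exact edgesRangeI_spec iota E 8 2097 137209 edges_8_71 v (by omega) (by omega)
              · rcases Nat.lt_or_ge v 141464 with h | h
                · exact edgesRangeI_spec iota E 8 2158 139306 edges_8_72 v (by omega) (by omega)
                · exact edgesRangeI_spec iota E 8 2167 141464 edges_8_73 v (by omega) (by omega)
          · rcases Nat.lt_or_ge v 147794 with h | h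
            · rcases Nat.lt_or_ge v 145796 with h | h
              · exact edgesRangeI_spec iota E 8 2165 143631 edges_8_74 v (by omega) (by omega)
              · exact edgesRangeI_spec iota E 8 1998 145796 edges_8_75 v (by omega) (by omega)
            · rcases Nat.lt_or_ge v 149706 with h | h
              · exact edgesRangeI_spec iota E 8 1912 147794 edges_8_76 v (by omega) (by omega)
              · rcases Nat.lt_or_ge v 151435 with h | h
                · exact edgesRangeI_spec iota E 8 1729 149706 edges_8_77 v (by omega) (by omega)
                · exact edgesRangeI_spec iota E 8 1897 151435 edges_8_78 v (by omega) (by omega)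
  · rcases Nat.lt_or_ge v 232881 with h | h
    · rcases Nat.lt_or_ge v 192549 with h | h
      · rcases Nat.lt_or_ge v 172166 with h | h
        · rcases Nat.lt_or_ge v 161494 with h | h
          · rcases Nat.lt_or_ge v 157409 with h | h
            · rcases Nat.lt_or_ge v 155310 with h | h
              · exact edgesRangeI_spec iota E 8 1978 153332 edges_8_79 v (by omega) (by omega)
              · exact edgesRangeI_spec iota E 8 2099 155310 edges_8_80 v (by omega) (by omega)
            · rcases Nat.lt_or_ge v 159322 with h | h
              · exact edgesRangeI_spec iota E 8 1913 157409 edges_8_81 v (by omega) (by omega)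
              · exact edgesRangeI_spec iota E 8 2172 159322 edges_8_82 v (by omega) (by omega)
          · rcases Nat.lt_or_ge v 165818 with h | h
            · rcases Nat.lt_or_ge v 163538 with h | h
              · exact edgesRangeI_spec iota E 8 2044 161494 edges_8_83 v (by omega) (by omega)
              · exact edgesRangeI_spec iota E 8 2280 163538 edges_8_84 v (by omega) (by omega)
            · rcases Nat.lt_or_ge v 167965 with h | h
              · exact edgesRangeI_spec iota E 8 2147 165818 edges_8_85 v (by omega) (by omega)
              · rcases Nat.lt_or_ge v 170080 with h | h
                · exact edgesRangeI_spec iota E 8 2115 167965 edges_8_86 v (by omega) (by omega)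
                · exact edgesRangeI_spec iota E 8 2086 170080 edges_8_87 v (by omega) (by omega)
        · rcases Nat.lt_or_ge v 181848 with h | h
          · rcases Nat.lt_or_ge v 175768 with h | h
            · rcases Nat.lt_or_ge v 173923 with h | h
              · exact edgesRangeI_spec iota E 8 1757 172166 edges_8_88 v (by omega) (by omega)
              · exact edgesRangeI_spec iota E 8 1845 173923 edges_8_89 v (by omega) (by omega)
            · rcases Nat.lt_or_ge v 177776 with h | h
              · exact edgesRangeI_spec iota E 8 2008 175768 edges_8_90 v (by omega) (by omega)
              · rcases Nat.lt_or_ge v 179741 with h | h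
                · exact edgesRangeI_spec iota E 8 1965 177776 edges_8_91 v (by omega) (by omega)
                · exact edgesRangeI_spec iota E 8 2107 179741 edges_8_92 v (by omega) (by omega)
          · rcases Nat.lt_or_ge v 185965 with h | h
            · rcases Nat.lt_or_ge v 183725 with h | h
              · exact edgesRangeI_spec iota E 8 1877 181848 edges_8_93 v (by omega) (by omega)
              · exact edgesRangeI_spec iota E 8 2240 183725 edges_8_94 v (by omega) (by omega)
            · rcases Nat.lt_or_ge v 188071 with h | h
              · exact edgesRangeI_spec iota E 8 2106 185965 edges_8_95 v (by omega) (by omega)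
              · rcases Nat.lt_or_ge v 190294 with h | h
                · exact edgesRangeI_spec iota E 8 2223 188071 edges_8_96 v (by omega) (by omega)
                · exact edgesRangeI_spec iota E 8 2255 190294 edges_8_97 v (by omega) (by omega)
      · rcases Nat.lt_or_ge v 212478 with h | h
        · rcases Nat.lt_or_ge v 202178 with h | h
          · rcases Nat.lt_or_ge v 196725 with h | h
            · rcases Nat.lt_or_ge v 194575 with h | h
              · exact edgesRangeI_spec iota E 8 2026 192549 edges_8_98 v (by omega) (by omega)
              · exact edgesRangeI_spec iota E 8 2150 194575 edges_8_99 v (by omega) (by omega)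
            · rcases Nat.lt_or_ge v 198476 with h | h
              · exact edgesRangeI_spec iota E 8 1751 196725 edges_8_100 v (by omega) (by omega)
              · rcases Nat.lt_or_ge v 200201 with h | h
                · exact edgesRangeI_spec iota E 8 1725 198476 edges_8_101 v (by omega) (by omega)
                · exact edgesRangeI_spec iota E 8 1977 200201 edges_8_102 v (by omega) (by omega)
          · rcases Nat.lt_or_ge v 206339 with h | h
            · rcases Nat.lt_or_ge v 204219 with h | h
              · exact edgesRangeI_spec iota E 8 2041 202178 edges_8_103 v (by omega) (by omega)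
              · exact edgesRangeI_spec iota E 8 2120 204219 edges_8_104 v (by omega) (by omega)
            · rcases Nat.lt_or_ge v 208294 with h | h
              · exact edgesRangeI_spec iota E 8 1955 206339 edges_8_105 v (by omega) (by omega)
              · rcases Nat.lt_or_ge v 210176 with h | h
                · exact edgesRangeI_spec iota E 8 1882 208294 edges_8_106 v (by omega) (by omega)
                · exact edgesRangeI_spec iota E 8 2302 210176 edges_8_107 v (by omega) (by omega)
        · rcases Nat.lt_or_ge v 223299 with h | h
          · rcases Nat.lt_or_ge v 217067 with h | h
            · rcases Nat.lt_or_ge v 214737 with h | h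
              · exact edgesRangeI_spec iota E 8 2259 212478 edges_8_108 v (by omega) (by omega)
              · exact edgesRangeI_spec iota E 8 2330 214737 edges_8_109 v (by omega) (by omega)
            · rcases Nat.lt_or_ge v 219259 with h | h
              · exact edgesRangeI_spec iota E 8 2192 217067 edges_8_110 v (by omega) (by omega)
              · rcases Nat.lt_or_ge v 221423 with h | h
                · exact edgesRangeI_spec iota E 8 2164 219259 edges_8_111 v (by omega) (by omega)
                · exact edgesRangeI_spec iota E 8 1876 221423 edges_8_112 v (by omega) (by omega)
          · rcases Nat.lt_or_ge v 226950 with h | h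
            · rcases Nat.lt_or_ge v 224990 with h | h
              · exact edgesRangeI_spec iota E 8 1691 223299 edges_8_113 v (by omega) (by omega)
              · exact edgesRangeI_spec iota E 8 1960 224990 edges_8_114 v (by omega) (by omega)
            · rcases Nat.lt_or_ge v 228792 with h | h
              · exact edgesRangeI_spec iota E 8 1842 226950 edges_8_115 v (by omega) (by omega)
              · rcases Nat.lt_or_ge v 230785 with h | h
                · exact edgesRangeI_spec iota E 8 1993 228792 edges_8_116 v (by omega) (by omega)
                · exact edgesRangeI_spec iota E 8 2096 230785 edges_8_117 v (by omega) (by omega)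
    · rcases Nat.lt_or_ge v 272647 with h | h
      · rcases Nat.lt_or_ge v 253047 with h | h
        · rcases Nat.lt_or_ge v 243462 with h | h
          · rcases Nat.lt_or_ge v 236931 with h | h
            · rcases Nat.lt_or_ge v 234814 with h | h
              · exact edgesRangeI_spec iota E 8 1933 232881 edges_8_118 v (by omega) (by omega)
              · exact edgesRangeI_spec iota E 8 2117 234814 edges_8_119 v (by omega) (by omega)
            · rcases Nat.lt_or_ge v 239081 with h | h
              · exact edgesRangeI_spec iota E 8 2150 236931 edges_8_120 v (by omega) (by omega)
              · rcases Nat.lt_or_ge v 241286 with h | h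
                · exact edgesRangeI_spec iota E 8 2205 239081 edges_8_121 v (by omega) (by omega)
                · exact edgesRangeI_spec iota E 8 2176 241286 edges_8_122 v (by omega) (by omega)
          · rcases Nat.lt_or_ge v 247692 with h | h
            · rcases Nat.lt_or_ge v 245756 with h | h
              · exact edgesRangeI_spec iota E 8 2294 243462 edges_8_123 v (by omega) (by omega)
              · exact edgesRangeI_spec iota E 8 1936 245756 edges_8_124 v (by omega) (by omega)
            · rcases Nat.lt_or_ge v 249363 with h | h
              · exact edgesRangeI_spec iota E 8 1671 247692 edges_8_125 v (by omega) (by omega)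
              · rcases Nat.lt_or_ge v 251112 with h | h
                · exact edgesRangeI_spec iota E 8 1749 249363 edges_8_126 v (by omega) (by omega)
                · exact edgesRangeI_spec iota E 8 1935 251112 edges_8_127 v (by omega) (by omega)
        · rcases Nat.lt_or_ge v 262915 with h | h
          · rcases Nat.lt_or_ge v 256907 with h | h
            · rcases Nat.lt_or_ge v 254976 with h | h
              · exact edgesRangeI_spec iota E 8 1929 253047 edges_8_128 v (by omega) (by omega)
              · exact edgesRangeI_spec iota E 8 1931 254976 edges_8_129 v (by omega) (by omega)
            · rcases Nat.lt_or_ge v 258934 with h | h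
              · exact edgesRangeI_spec iota E 8 2027 256907 edges_8_130 v (by omega) (by omega)
              · rcases Nat.lt_or_ge v 260808 with h | h
                · exact edgesRangeI_spec iota E 8 1874 258934 edges_8_131 v (by omega) (by omega)
                · exact edgesRangeI_spec iota E 8 2107 260808 edges_8_132 v (by omega) (by omega)
          · rcases Nat.lt_or_ge v 267175 with h | h
            · rcases Nat.lt_or_ge v 264992 with h | h
              · exact edgesRangeI_spec iota E 8 2077 262915 edges_8_133 v (by omega) (by omega)
              · exact edgesRangeI_spec iota E 8 2183 264992 edges_8_134 v (by omega) (by omega)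
            · rcases Nat.lt_or_ge v 269364 with h | h
              · exact edgesRangeI_spec iota E 8 2189 267175 edges_8_135 v (by omega) (by omega)
              · rcases Nat.lt_or_ge v 271049 with h | h
                · exact edgesRangeI_spec iota E 8 1685 269364 edges_8_136 v (by omega) (by omega)
                · exact edgesRangeI_spec iota E 8 1598 271049 edges_8_137 v (by omega) (by omega)
      · rcases Nat.lt_or_ge v 291268 with h | h
        · rcases Nat.lt_or_ge v 282055 with h | h
          · rcases Nat.lt_or_ge v 276371 with h | h
            · rcases Nat.lt_or_ge v 274584 with h | h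
              · exact edgesRangeI_spec iota E 8 1937 272647 edges_8_138 v (by omega) (by omega)
              · exact edgesRangeI_spec iota E 8 1787 274584 edges_8_139 v (by omega) (by omega)
            · rcases Nat.lt_or_ge v 278027 with h | h
              · exact edgesRangeI_spec iota E 8 1656 276371 edges_8_140 v (by omega) (by omega)
              · rcases Nat.lt_or_ge v 279941 with h | h
                · exact edgesRangeI_spec iota E 8 1914 278027 edges_8_141 v (by omega) (by omega)
                · exact edgesRangeI_spec iota E 8 2114 279941 edges_8_142 v (by omega) (by omega)
          · rcases Nat.lt_or_ge v 286204 with h | h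
            · rcases Nat.lt_or_ge v 284043 with h | h
              · exact edgesRangeI_spec iota E 8 1988 282055 edges_8_143 v (by omega) (by omega)
              · exact edgesRangeI_spec iota E 8 2161 284043 edges_8_144 v (by omega) (by omega)
            · rcases Nat.lt_or_ge v 287740 with h | h
              · exact edgesRangeI_spec iota E 8 1536 286204 edges_8_145 v (by omega) (by omega)
              · rcases Nat.lt_or_ge v 289496 with h | h
                · exact edgesRangeI_spec iota E 8 1756 287740 edges_8_146 v (by omega) (by omega)
                · exact edgesRangeI_spec iota E 8 1772 289496 edges_8_147 v (by omega) (by omega)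
        · rcases Nat.lt_or_ge v 300144 with h | h
          · rcases Nat.lt_or_ge v 295005 with h | h
            · rcases Nat.lt_or_ge v 293067 with h | h
              · exact edgesRangeI_spec iota E 8 1799 291268 edges_8_148 v (by omega) (by omega)
              · exact edgesRangeI_spec iota E 8 1938 293067 edges_8_149 v (by omega) (by omega)
            · rcases Nat.lt_or_ge v 297049 with h | h
              · exact edgesRangeI_spec iota E 8 2044 295005 edges_8_150 v (by omega) (by omega)
              · rcases Nat.lt_or_ge v 298679 with h | h
                · exact edgesRangeI_spec iota E 8 1630 297049 edges_8_151 v (by omega) (by omega)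
                · exact edgesRangeI_spec iota E 8 1465 298679 edges_8_152 v (by omega) (by omega)
          · rcases Nat.lt_or_ge v 303797 with h | h
            · rcases Nat.lt_or_ge v 302068 with h | h
              · exact edgesRangeI_spec iota E 8 1924 300144 edges_8_153 v (by omega) (by omega)
              · exact edgesRangeI_spec iota E 8 1729 302068 edges_8_154 v (by omega) (by omega)
            · rcases Nat.lt_or_ge v 305712 with h | h
              · exact edgesRangeI_spec iota E 8 1915 303797 edges_8_155 v (by omega) (by omega)
              · rcases Nat.lt_or_ge v 307571 with h | h
                · exact edgesRangeI_spec iota E 8 1859 305712 edges_8_156 v (by omega) (by omega)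
                · exact edgesRangeI_spec iota E 8 33 307571 edges_8_157 v (by omega) (by omega)

theorem edgesx_9 : ∀ v, v < 307604 → edgeOKI iota E 9 v = true := by
  intro v hv
  rcases Nat.lt_or_ge v 158356 with h | h
  · rcases Nat.lt_or_ge v 82515 with h | h
    · rcases Nat.lt_or_ge v 42981 with h | h
      · rcases Nat.lt_or_ge v 21122 with h | h
        · rcases Nat.lt_or_ge v 10830 with h | h
          · rcases Nat.lt_or_ge v 4459 with h | h
            · rcases Nat.lt_or_ge v 2155 with h | h
              · exact edgesRangeI_spec iota E 9 2155 0 edges_9_0 v (by omega) (by omega)
              · exact edgesRangeI_spec iota E 9 2304 2155 edges_9_1 v (by omega) (by omega)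
            · rcases Nat.lt_or_ge v 6562 with h | h
              · exact edgesRangeI_spec iota E 9 2103 4459 edges_9_2 v (by omega) (by omega)
              · rcases Nat.lt_or_ge v 8651 with h | h
                · exact edgesRangeI_spec iota E 9 2089 6562 edges_9_3 v (by omega) (by omega)
                · exact edgesRangeI_spec iota E 9 2179 8651 edges_9_4 v (by omega) (by omega)
          · rcases Nat.lt_or_ge v 14843 with h | h
            · rcases Nat.lt_or_ge v 12924 with h | h
              · exact edgesRangeI_spec iota E 9 2094 10830 edges_9_5 v (by omega) (by omega)
              · exact edgesRangeI_spec iota E 9 1919 12924 edges_9_6 v (by omega) (by omega)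
            · rcases Nat.lt_or_ge v 16918 with h | h
              · exact edgesRangeI_spec iota E 9 2075 14843 edges_9_7 v (by omega) (by omega)
              · rcases Nat.lt_or_ge v 18874 with h | h
                · exact edgesRangeI_spec iota E 9 1956 16918 edges_9_8 v (by omega) (by omega)
                · exact edgesRangeI_spec iota E 9 2248 18874 edges_9_9 v (by omega) (by omega)
        · rcases Nat.lt_or_ge v 30799 with h | h
          · rcases Nat.lt_or_ge v 24870 with h | h
            · rcases Nat.lt_or_ge v 22894 with h | h
              · exact edgesRangeI_spec iota E 9 1772 21122 edges_9_10 v (by omega) (by omega)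
              · exact edgesRangeI_spec iota E 9 1976 22894 edges_9_11 v (by omega) (by omega)
            · rcases Nat.lt_or_ge v 27165 with h | h
              · exact edgesRangeI_spec iota E 9 2295 24870 edges_9_12 v (by omega) (by omega)
              · rcases Nat.lt_or_ge v 28871 with h | h
                · exact edgesRangeI_spec iota E 9 1706 27165 edges_9_13 v (by omega) (by omega)
                · exact edgesRangeI_spec iota E 9 1928 28871 edges_9_14 v (by omega) (by omega)
          · rcases Nat.lt_or_ge v 36711 with h | h
            · rcases Nat.lt_or_ge v 32976 with h | h
              · exact edgesRangeI_spec iota E 9 2177 30799 edges_9_15 v (by omega) (by omega)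
              · rcases Nat.lt_or_ge v 35068 with h | h
                · exact edgesRangeI_spec iota E 9 2092 32976 edges_9_16 v (by omega) (by omega)
                · exact edgesRangeI_spec iota E 9 1643 35068 edges_9_17 v (by omega) (by omega)
            · rcases Nat.lt_or_ge v 38663 with h | h
              · exact edgesRangeI_spec iota E 9 1952 36711 edges_9_18 v (by omega) (by omega)
              · rcases Nat.lt_or_ge v 40572 with h | h
                · exact edgesRangeI_spec iota E 9 1909 38663 edges_9_19 v (by omega) (by omega)
                · exact edgesRangeI_spec iota E 9 2409 40572 edges_9_20 v (by omega) (by omega)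
      · rcases Nat.lt_or_ge v 61789 with h | h
        · rcases Nat.lt_or_ge v 52177 with h | h
          · rcases Nat.lt_or_ge v 46434 with h | h
            · rcases Nat.lt_or_ge v 44837 with h | h
              · exact edgesRangeI_spec iota E 9 1856 42981 edges_9_21 v (by omega) (by omega)
              · exact edgesRangeI_spec iota E 9 1597 44837 edges_9_22 v (by omega) (by omega)
            · rcases Nat.lt_or_ge v 48386 with h | h
              · exact edgesRangeI_spec iota E 9 1952 46434 edges_9_23 v (by omega) (by omega)
              · rcases Nat.lt_or_ge v 50323 with h | h
                · exact edgesRangeI_spec iota E 9 1937 48386 edges_9_24 v (by omega) (by omega)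
                · exact edgesRangeI_spec iota E 9 1854 50323 edges_9_25 v (by omega) (by omega)
          · rcases Nat.lt_or_ge v 56470 with h | h
            · rcases Nat.lt_or_ge v 54716 with h | h
              · exact edgesRangeI_spec iota E 9 2539 52177 edges_9_26 v (by omega) (by omega)
              · exact edgesRangeI_spec iota E 9 1754 54716 edges_9_27 v (by omega) (by omega)
            · rcases Nat.lt_or_ge v 57926 with h | h
              · exact edgesRangeI_spec iota E 9 1456 56470 edges_9_28 v (by omega) (by omega)
              · rcases Nat.lt_or_ge v 59804 with h | h
                · exact edgesRangeI_spec iota E 9 1878 57926 edges_9_29 v (by omega) (by omega)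
                · exact edgesRangeI_spec iota E 9 1985 59804 edges_9_30 v (by omega) (by omega)
        · rcases Nat.lt_or_ge v 71353 with h | h
          · rcases Nat.lt_or_ge v 65406 with h | h
            · rcases Nat.lt_or_ge v 63526 with h | h
              · exact edgesRangeI_spec iota E 9 1737 61789 edges_9_31 v (by omega) (by omega)
              · exact edgesRangeI_spec iota E 9 1880 63526 edges_9_32 v (by omega) (by omega)
            · rcases Nat.lt_or_ge v 67898 with h | h
              · exact edgesRangeI_spec iota E 9 2492 65406 edges_9_33 v (by omega) (by omega)
              · rcases Nat.lt_or_ge v 69929 with h | h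
                · exact edgesRangeI_spec iota E 9 2031 67898 edges_9_34 v (by omega) (by omega)
                · exact edgesRangeI_spec iota E 9 1424 69929 edges_9_35 v (by omega) (by omega)
          · rcases Nat.lt_or_ge v 76794 with h | h
            · rcases Nat.lt_or_ge v 73079 with h | h
              · exact edgesRangeI_spec iota E 9 1726 71353 edges_9_36 v (by omega) (by omega)
              · rcases Nat.lt_or_ge v 74905 with h | h
                · exact edgesRangeI_spec iota E 9 1826 73079 edges_9_37 v (by omega) (by omega)
                · exact edgesRangeI_spec iota E 9 1889 74905 edges_9_38 v (by omega) (by omega)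
            · rcases Nat.lt_or_ge v 78515 with h | h
              · exact edgesRangeI_spec iota E 9 1721 76794 edges_9_39 v (by omega) (by omega)
              · rcases Nat.lt_or_ge v 80174 with h | h
                · exact edgesRangeI_spec iota E 9 1659 78515 edges_9_40 v (by omega) (by omega)
                · exact edgesRangeI_spec iota E 9 2341 80174 edges_9_41 v (by omega) (by omega)
    · rcases Nat.lt_or_ge v 120941 with h | h
      · rcases Nat.lt_or_ge v 100942 with h | h
        · rcases Nat.lt_or_ge v 91581 with h | h
          · rcases Nat.lt_or_ge v 86620 with h | h
            · rcases Nat.lt_or_ge v 85022 with h | h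
              · exact edgesRangeI_spec iota E 9 2507 82515 edges_9_42 v (by omega) (by omega)
              · exact edgesRangeI_spec iota E 9 1598 85022 edges_9_43 v (by omega) (by omega)
            · rcases Nat.lt_or_ge v 88023 with h | h
              · exact edgesRangeI_spec iota E 9 1403 86620 edges_9_44 v (by omega) (by omega)
              · rcases Nat.lt_or_ge v 89843 with h | h
                · exact edgesRangeI_spec iota E 9 1820 88023 edges_9_45 v (by omega) (by omega)
                · exact edgesRangeI_spec iota E 9 1738 89843 edges_9_46 v (by omega) (by omega)
          · rcases Nat.lt_or_ge v 95109 with h | h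
            · rcases Nat.lt_or_ge v 93462 with h | h
              · exact edgesRangeI_spec iota E 9 1881 91581 edges_9_47 v (by omega) (by omega)
              · exact edgesRangeI_spec iota E 9 1647 93462 edges_9_48 v (by omega) (by omega)
            · rcases Nat.lt_or_ge v 96734 with h | h
              · exact edgesRangeI_spec iota E 9 1625 95109 edges_9_49 v (by omega) (by omega)
              · rcases Nat.lt_or_ge v 98432 with h | h
                · exact edgesRangeI_spec iota E 9 1698 96734 edges_9_50 v (by omega) (by omega)
                · exact edgesRangeI_spec iota E 9 2510 98432 edges_9_51 v (by omega) (by omega)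
        · rcases Nat.lt_or_ge v 109932 with h | h
          · rcases Nat.lt_or_ge v 105049 with h | h
            · rcases Nat.lt_or_ge v 103414 with h | h
              · exact edgesRangeI_spec iota E 9 2472 100942 edges_9_52 v (by omega) (by omega)
              · exact edgesRangeI_spec iota E 9 1635 103414 edges_9_53 v (by omega) (by omega)
            · rcases Nat.lt_or_ge v 106446 with h | h
              · exact edgesRangeI_spec iota E 9 1397 105049 edges_9_54 v (by omega) (by omega)
              · rcases Nat.lt_or_ge v 108267 with h | h
                · exact edgesRangeI_spec iota E 9 1821 106446 edges_9_55 v (by omega) (by omega)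
                · exact edgesRangeI_spec iota E 9 1665 108267 edges_9_56 v (by omega) (by omega)
          · rcases Nat.lt_or_ge v 115078 with h | h
            · rcases Nat.lt_or_ge v 111765 with h | h
              · exact edgesRangeI_spec iota E 9 1833 109932 edges_9_57 v (by omega) (by omega)
              · rcases Nat.lt_or_ge v 113432 with h | h
                · exact edgesRangeI_spec iota E 9 1667 111765 edges_9_58 v (by omega) (by omega)
                · exact edgesRangeI_spec iota E 9 1646 113432 edges_9_59 v (by omega) (by omega)
            · rcases Nat.lt_or_ge v 116692 with h | h
              · exact edgesRangeI_spec iota E 9 1614 115078 edges_9_60 v (by omega) (by omega)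
              · rcases Nat.lt_or_ge v 118382 with h | h
                · exact edgesRangeI_spec iota E 9 1690 116692 edges_9_61 v (by omega) (by omega)
                · exact edgesRangeI_spec iota E 9 2559 118382 edges_9_62 v (by omega) (by omega)
      · rcases Nat.lt_or_ge v 138249 with h | h
        · rcases Nat.lt_or_ge v 129843 with h | h
          · rcases Nat.lt_or_ge v 125122 with h | h
            · rcases Nat.lt_or_ge v 123366 with h | h
              · exact edgesRangeI_spec iota E 9 2425 120941 edges_9_63 v (by omega) (by omega)
              · exact edgesRangeI_spec iota E 9 1756 123366 edges_9_64 v (by omega) (by omega)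
            · rcases Nat.lt_or_ge v 126516 with h | h
              · exact edgesRangeI_spec iota E 9 1394 125122 edges_9_65 v (by omega) (by omega)
              · rcases Nat.lt_or_ge v 128305 with h | h
                · exact edgesRangeI_spec iota E 9 1789 126516 edges_9_66 v (by omega) (by omega)
                · exact edgesRangeI_spec iota E 9 1538 128305 edges_9_67 v (by omega) (by omega)
          · rcases Nat.lt_or_ge v 133426 with h | h
            · rcases Nat.lt_or_ge v 131713 with h | h
              · exact edgesRangeI_spec iota E 9 1870 129843 edges_9_68 v (by omega) (by omega)
              · exact edgesRangeI_spec iota E 9 1713 131713 edges_9_69 v (by omega) (by omega)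
            · rcases Nat.lt_or_ge v 135030 with h | h
              · exact edgesRangeI_spec iota E 9 1604 133426 edges_9_70 v (by omega) (by omega)
              · rcases Nat.lt_or_ge v 136601 with h | h
                · exact edgesRangeI_spec iota E 9 1571 135030 edges_9_71 v (by omega) (by omega)
                · exact edgesRangeI_spec iota E 9 1648 136601 edges_9_72 v (by omega) (by omega)
        · rcases Nat.lt_or_ge v 148374 with h | h
          · rcases Nat.lt_or_ge v 142708 with h | h
            · rcases Nat.lt_or_ge v 140131 with h | h
              · exact edgesRangeI_spec iota E 9 1882 138249 edges_9_73 v (by omega) (by omega)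
              · exact edgesRangeI_spec iota E 9 2577 140131 edges_9_74 v (by omega) (by omega)
            · rcases Nat.lt_or_ge v 145127 with h | h
              · exact edgesRangeI_spec iota E 9 2419 142708 edges_9_75 v (by omega) (by omega)
              · rcases Nat.lt_or_ge v 146867 with h | h
                · exact edgesRangeI_spec iota E 9 1740 145127 edges_9_76 v (by omega) (by omega)
                · exact edgesRangeI_spec iota E 9 1507 146867 edges_9_77 v (by omega) (by omega)
          · rcases Nat.lt_or_ge v 153229 with h | h
            · rcases Nat.lt_or_ge v 150030 with h | h
              · exact edgesRangeI_spec iota E 9 1656 148374 edges_9_78 v (by omega) (by omega)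
              · rcases Nat.lt_or_ge v 151543 with h | h
                · exact edgesRangeI_spec iota E 9 1513 150030 edges_9_79 v (by omega) (by omega)
                · exact edgesRangeI_spec iota E 9 1686 151543 edges_9_80 v (by omega) (by omega)
            · rcases Nat.lt_or_ge v 155098 with h | h
              · exact edgesRangeI_spec iota E 9 1869 153229 edges_9_81 v (by omega) (by omega)
              · rcases Nat.lt_or_ge v 156714 with h | h
                · exact edgesRangeI_spec iota E 9 1616 155098 edges_9_82 v (by omega) (by omega)
                · exact edgesRangeI_spec iota E 9 1642 156714 edges_9_83 v (by omega) (by omega)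
  · rcases Nat.lt_or_ge v 233754 with h | h
    · rcases Nat.lt_or_ge v 197243 with h | h
      · rcases Nat.lt_or_ge v 176716 with h | h
        · rcases Nat.lt_or_ge v 168792 with h | h
          · rcases Nat.lt_or_ge v 161506 with h | h
            · rcases Nat.lt_or_ge v 159918 with h | h
              · exact edgesRangeI_spec iota E 9 1562 158356 edges_9_84 v (by omega) (by omega)
              · exact edgesRangeI_spec iota E 9 1588 159918 edges_9_85 v (by omega) (by omega)
            · rcases Nat.lt_or_ge v 163804 with h | h
              · exact edgesRangeI_spec iota E 9 2298 161506 edges_9_86 v (by omega) (by omega)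
              · rcases Nat.lt_or_ge v 166363 with h | h
                · exact edgesRangeI_spec iota E 9 2559 163804 edges_9_87 v (by omega) (by omega)
                · exact edgesRangeI_spec iota E 9 2429 166363 edges_9_88 v (by omega) (by omega)
          · rcases Nat.lt_or_ge v 172019 with h | h
            · rcases Nat.lt_or_ge v 170344 with h | h
              · exact edgesRangeI_spec iota E 9 1552 168792 edges_9_89 v (by omega) (by omega)
              · exact edgesRangeI_spec iota E 9 1675 170344 edges_9_90 v (by omega) (by omega)
            · rcases Nat.lt_or_ge v 173497 with h | h
              · exact edgesRangeI_spec iota E 9 1478 172019 edges_9_91 v (by omega) (by omega)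
              · rcases Nat.lt_or_ge v 175047 with h | h
                · exact edgesRangeI_spec iota E 9 1550 173497 edges_9_92 v (by omega) (by omega)
                · exact edgesRangeI_spec iota E 9 1669 175047 edges_9_93 v (by omega) (by omega)
        · rcases Nat.lt_or_ge v 185133 with h | h
          · rcases Nat.lt_or_ge v 180329 with h | h
            · rcases Nat.lt_or_ge v 178547 with h | h
              · exact edgesRangeI_spec iota E 9 1831 176716 edges_9_94 v (by omega) (by omega)
              · exact edgesRangeI_spec iota E 9 1782 178547 edges_9_95 v (by omega) (by omega)
            · rcases Nat.lt_or_ge v 181856 with h | h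
              · exact edgesRangeI_spec iota E 9 1527 180329 edges_9_96 v (by omega) (by omega)
              · rcases Nat.lt_or_ge v 183477 with h | h
                · exact edgesRangeI_spec iota E 9 1621 181856 edges_9_97 v (by omega) (by omega)
                · exact edgesRangeI_spec iota E 9 1656 183477 edges_9_98 v (by omega) (by omega)
          · rcases Nat.lt_or_ge v 191838 with h | h
            · rcases Nat.lt_or_ge v 186866 with h | h
              · exact edgesRangeI_spec iota E 9 1733 185133 edges_9_99 v (by omega) (by omega)
              · rcases Nat.lt_or_ge v 189411 with h | h
                · exact edgesRangeI_spec iota E 9 2545 186866 edges_9_100 v (by omega) (by omega)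
                · exact edgesRangeI_spec iota E 9 2427 189411 edges_9_101 v (by omega) (by omega)
            · rcases Nat.lt_or_ge v 194130 with h | h
              · exact edgesRangeI_spec iota E 9 2292 191838 edges_9_102 v (by omega) (by omega)
              · rcases Nat.lt_or_ge v 195591 with h | h
                · exact edgesRangeI_spec iota E 9 1461 194130 edges_9_103 v (by omega) (by omega)
                · exact edgesRangeI_spec iota E 9 1652 195591 edges_9_104 v (by omega) (by omega)
      · rcases Nat.lt_or_ge v 214359 with h | h
        · rcases Nat.lt_or_ge v 205537 with h | h
          · rcases Nat.lt_or_ge v 200309 with h | h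
            · rcases Nat.lt_or_ge v 198657 with h | h
              · exact edgesRangeI_spec iota E 9 1414 197243 edges_9_105 v (by omega) (by omega)
              · exact edgesRangeI_spec iota E 9 1652 198657 edges_9_106 v (by omega) (by omega)
            · rcases Nat.lt_or_ge v 201926 with h | h
              · exact edgesRangeI_spec iota E 9 1617 200309 edges_9_107 v (by omega) (by omega)
              · rcases Nat.lt_or_ge v 203828 with h | h
                · exact edgesRangeI_spec iota E 9 1902 201926 edges_9_108 v (by omega) (by omega)
                · exact edgesRangeI_spec iota E 9 1709 203828 edges_9_109 v (by omega) (by omega)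
          · rcases Nat.lt_or_ge v 208738 with h | h
            · rcases Nat.lt_or_ge v 207077 with h | h
              · exact edgesRangeI_spec iota E 9 1540 205537 edges_9_110 v (by omega) (by omega)
              · exact edgesRangeI_spec iota E 9 1661 207077 edges_9_111 v (by omega) (by omega)
            · rcases Nat.lt_or_ge v 210416 with h | h
              · exact edgesRangeI_spec iota E 9 1678 208738 edges_9_112 v (by omega) (by omega)
              · rcases Nat.lt_or_ge v 211860 with h | h
                · exact edgesRangeI_spec iota E 9 1444 210416 edges_9_113 v (by omega) (by omega)
                · exact edgesRangeI_spec iota E 9 2499 211860 edges_9_114 v (by omega) (by omega)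
        · rcases Nat.lt_or_ge v 223845 with h | h
          · rcases Nat.lt_or_ge v 219280 with h | h
            · rcases Nat.lt_or_ge v 216911 with h | h
              · exact edgesRangeI_spec iota E 9 2552 214359 edges_9_115 v (by omega) (by omega)
              · exact edgesRangeI_spec iota E 9 2369 216911 edges_9_116 v (by omega) (by omega)
            · rcases Nat.lt_or_ge v 220724 with h | h
              · exact edgesRangeI_spec iota E 9 1444 219280 edges_9_117 v (by omega) (by omega)
              · rcases Nat.lt_or_ge v 222415 with h | h
                · exact edgesRangeI_spec iota E 9 1691 220724 edges_9_118 v (by omega) (by omega)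
                · exact edgesRangeI_spec iota E 9 1430 222415 edges_9_119 v (by omega) (by omega)
          · rcases Nat.lt_or_ge v 228787 with h | h
            · rcases Nat.lt_or_ge v 225386 with h | h
              · exact edgesRangeI_spec iota E 9 1541 223845 edges_9_120 v (by omega) (by omega)
              · rcases Nat.lt_or_ge v 227126 with h | h
                · exact edgesRangeI_spec iota E 9 1740 225386 edges_9_121 v (by omega) (by omega)
                · exact edgesRangeI_spec iota E 9 1661 227126 edges_9_122 v (by omega) (by omega)
            · rcases Nat.lt_or_ge v 230559 with h | h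
              · exact edgesRangeI_spec iota E 9 1772 228787 edges_9_123 v (by omega) (by omega)
              · rcases Nat.lt_or_ge v 232258 with h | h
                · exact edgesRangeI_spec iota E 9 1699 230559 edges_9_124 v (by omega) (by omega)
                · exact edgesRangeI_spec iota E 9 1496 232258 edges_9_125 v (by omega) (by omega)
    · rcases Nat.lt_or_ge v 271074 with h | h
      · rcases Nat.lt_or_ge v 251806 with h | h
        · rcases Nat.lt_or_ge v 243906 with h | h
          · rcases Nat.lt_or_ge v 236995 with h | h
            · rcases Nat.lt_or_ge v 235405 with h | h
              · exact edgesRangeI_spec iota E 9 1651 233754 edges_9_126 v (by omega) (by omega)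
              · exact edgesRangeI_spec iota E 9 1590 235405 edges_9_127 v (by omega) (by omega)
            · rcases Nat.lt_or_ge v 239017 with h | h
              · exact edgesRangeI_spec iota E 9 2022 236995 edges_9_128 v (by omega) (by omega)
              · rcases Nat.lt_or_ge v 241506 with h | h
                · exact edgesRangeI_spec iota E 9 2489 239017 edges_9_129 v (by omega) (by omega)
                · exact edgesRangeI_spec iota E 9 2400 241506 edges_9_130 v (by omega) (by omega)
          · rcases Nat.lt_or_ge v 247239 with h | h
            · rcases Nat.lt_or_ge v 245576 with h | h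
              · exact edgesRangeI_spec iota E 9 1670 243906 edges_9_131 v (by omega) (by omega)
              · exact edgesRangeI_spec iota E 9 1663 245576 edges_9_132 v (by omega) (by omega)
            · rcases Nat.lt_or_ge v 248662 with h | h
              · exact edgesRangeI_spec iota E 9 1423 247239 edges_9_133 v (by omega) (by omega)
              · rcases Nat.lt_or_ge v 250090 with h | h
                · exact edgesRangeI_spec iota E 9 1428 248662 edges_9_134 v (by omega) (by omega)
                · exact edgesRangeI_spec iota E 9 1716 250090 edges_9_135 v (by omega) (by omega)
        · rcases Nat.lt_or_ge v 260018 with h | h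
          · rcases Nat.lt_or_ge v 255234 with h | h
            · rcases Nat.lt_or_ge v 253366 with h | h
              · exact edgesRangeI_spec iota E 9 1560 251806 edges_9_136 v (by omega) (by omega)
              · exact edgesRangeI_spec iota E 9 1868 253366 edges_9_137 v (by omega) (by omega)
            · rcases Nat.lt_or_ge v 256876 with h | h
              · exact edgesRangeI_spec iota E 9 1642 255234 edges_9_138 v (by omega) (by omega)
              · rcases Nat.lt_or_ge v 258394 with h | h
                · exact edgesRangeI_spec iota E 9 1518 256876 edges_9_139 v (by omega) (by omega)
                · exact edgesRangeI_spec iota E 9 1624 258394 edges_9_140 v (by omega) (by omega)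
          · rcases Nat.lt_or_ge v 266345 with h | h
            · rcases Nat.lt_or_ge v 261572 with h | h
              · exact edgesRangeI_spec iota E 9 1554 260018 edges_9_141 v (by omega) (by omega)
              · rcases Nat.lt_or_ge v 263932 with h | h
                · exact edgesRangeI_spec iota E 9 2360 261572 edges_9_142 v (by omega) (by omega)
                · exact edgesRangeI_spec iota E 9 2413 263932 edges_9_143 v (by omega) (by omega)
            · rcases Nat.lt_or_ge v 268045 with h | h
              · exact edgesRangeI_spec iota E 9 1700 266345 edges_9_144 v (by omega) (by omega)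
              · rcases Nat.lt_or_ge v 269689 with h | h
                · exact edgesRangeI_spec iota E 9 1644 268045 edges_9_145 v (by omega) (by omega)
                · exact edgesRangeI_spec iota E 9 1385 269689 edges_9_146 v (by omega) (by omega)
      · rcases Nat.lt_or_ge v 289563 with h | h
        · rcases Nat.lt_or_ge v 279129 with h | h
          · rcases Nat.lt_or_ge v 274278 with h | h
            · rcases Nat.lt_or_ge v 272601 with h | h
              · exact edgesRangeI_spec iota E 9 1527 271074 edges_9_147 v (by omega) (by omega)
              · exact edgesRangeI_spec iota E 9 1677 272601 edges_9_148 v (by omega) (by omega)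
            · rcases Nat.lt_or_ge v 276083 with h | h
              · exact edgesRangeI_spec iota E 9 1805 274278 edges_9_149 v (by omega) (by omega)
              · rcases Nat.lt_or_ge v 277634 with h | h
                · exact edgesRangeI_spec iota E 9 1551 276083 edges_9_150 v (by omega) (by omega)
                · exact edgesRangeI_spec iota E 9 1495 277634 edges_9_151 v (by omega) (by omega)
          · rcases Nat.lt_or_ge v 284960 with h | h
            · rcases Nat.lt_or_ge v 280759 with h | h
              · exact edgesRangeI_spec iota E 9 1630 279129 edges_9_152 v (by omega) (by omega)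
              · rcases Nat.lt_or_ge v 282977 with h | h
                · exact edgesRangeI_spec iota E 9 2218 280759 edges_9_153 v (by omega) (by omega)
                · exact edgesRangeI_spec iota E 9 1983 282977 edges_9_154 v (by omega) (by omega)
            · rcases Nat.lt_or_ge v 286547 with h | h
              · exact edgesRangeI_spec iota E 9 1587 284960 edges_9_155 v (by omega) (by omega)
              · rcases Nat.lt_or_ge v 287926 with h | h
                · exact edgesRangeI_spec iota E 9 1379 286547 edges_9_156 v (by omega) (by omega)
                · exact edgesRangeI_spec iota E 9 1637 287926 edges_9_157 v (by omega) (by omega)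
        · rcases Nat.lt_or_ge v 297970 with h | h
          · rcases Nat.lt_or_ge v 292812 with h | h
            · rcases Nat.lt_or_ge v 291322 with h | h
              · exact edgesRangeI_spec iota E 9 1759 289563 edges_9_158 v (by omega) (by omega)
              · exact edgesRangeI_spec iota E 9 1490 291322 edges_9_159 v (by omega) (by omega)
            · rcases Nat.lt_or_ge v 294585 with h | h
              · exact edgesRangeI_spec iota E 9 1773 292812 edges_9_160 v (by omega) (by omega)
              · rcases Nat.lt_or_ge v 296515 with h | h
                · exact edgesRangeI_spec iota E 9 1930 294585 edges_9_161 v (by omega) (by omega)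
                · exact edgesRangeI_spec iota E 9 1455 296515 edges_9_162 v (by omega) (by omega)
          · rcases Nat.lt_or_ge v 303002 with h | h
            · rcases Nat.lt_or_ge v 299565 with h | h
              · exact edgesRangeI_spec iota E 9 1595 297970 edges_9_163 v (by omega) (by omega)
              · rcases Nat.lt_or_ge v 301160 with h | h
                · exact edgesRangeI_spec iota E 9 1595 299565 edges_9_164 v (by omega) (by omega)
                · exact edgesRangeI_spec iota E 9 1842 301160 edges_9_165 v (by omega) (by omega)
            · rcases Nat.lt_or_ge v 304461 with h | h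
              · exact edgesRangeI_spec iota E 9 1459 303002 edges_9_166 v (by omega) (by omega)
              · rcases Nat.lt_or_ge v 306091 with h | h
                · exact edgesRangeI_spec iota E 9 1630 304461 edges_9_167 v (by omega) (by omega)
                · exact edgesRangeI_spec iota E 9 1513 306091 edges_9_168 v (by omega) (by omega)

theorem edgesx_10 : ∀ v, v < 307604 → edgeOKI iota E 10 v = true := by
  intro v hv
  rcases Nat.lt_or_ge v 160387 with h | h
  · rcases Nat.lt_or_ge v 82107 with h | h
    · rcases Nat.lt_or_ge v 40508 with h | h
      · rcases Nat.lt_or_ge v 20427 with h | h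
        · rcases Nat.lt_or_ge v 10354 with h | h
          · rcases Nat.lt_or_ge v 5374 with h | h
            · rcases Nat.lt_or_ge v 2646 with h | h
              · exact edgesRangeI_spec iota E 10 2646 0 edges_10_0 v (by omega) (by omega)
              · exact edgesRangeI_spec iota E 10 2728 2646 edges_10_1 v (by omega) (by omega)
            · rcases Nat.lt_or_ge v 7861 with h | h
              · exact edgesRangeI_spec iota E 10 2487 5374 edges_10_2 v (by omega) (by omega)
              · exact edgesRangeI_spec iota E 10 2493 7861 edges_10_3 v (by omega) (by omega)
          · rcases Nat.lt_or_ge v 15361 with h | h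
            · rcases Nat.lt_or_ge v 12889 with h | h
              · exact edgesRangeI_spec iota E 10 2535 10354 edges_10_4 v (by omega) (by omega)
              · exact edgesRangeI_spec iota E 10 2472 12889 edges_10_5 v (by omega) (by omega)
            · rcases Nat.lt_or_ge v 17994 with h | h
              · exact edgesRangeI_spec iota E 10 2633 15361 edges_10_6 v (by omega) (by omega)
              · exact edgesRangeI_spec iota E 10 2433 17994 edges_10_7 v (by omega) (by omega)
        · rcases Nat.lt_or_ge v 30880 with h | h
          · rcases Nat.lt_or_ge v 25639 with h | h
            · rcases Nat.lt_or_ge v 23124 with h | h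
              · exact edgesRangeI_spec iota E 10 2697 20427 edges_10_8 v (by omega) (by omega)
              · exact edgesRangeI_spec iota E 10 2515 23124 edges_10_9 v (by omega) (by omega)
            · rcases Nat.lt_or_ge v 28117 with h | h
              · exact edgesRangeI_spec iota E 10 2478 25639 edges_10_10 v (by omega) (by omega)
              · exact edgesRangeI_spec iota E 10 2763 28117 edges_10_11 v (by omega) (by omega)
          · rcases Nat.lt_or_ge v 35751 with h | h
            · rcases Nat.lt_or_ge v 33374 with h | h
              · exact edgesRangeI_spec iota E 10 2494 30880 edges_10_12 v (by omega) (by omega)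
              · exact edgesRangeI_spec iota E 10 2377 33374 edges_10_13 v (by omega) (by omega)
            · rcases Nat.lt_or_ge v 38342 with h | h
              · exact edgesRangeI_spec iota E 10 2591 35751 edges_10_14 v (by omega) (by omega)
              · exact edgesRangeI_spec iota E 10 2166 38342 edges_10_15 v (by omega) (by omega)
      · rcases Nat.lt_or_ge v 60511 with h | h
        · rcases Nat.lt_or_ge v 50618 with h | h
          · rcases Nat.lt_or_ge v 45691 with h | h
            · rcases Nat.lt_or_ge v 43197 with h | h
              · exact edgesRangeI_spec iota E 10 2689 40508 edges_10_16 v (by omega) (by omega)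
              · exact edgesRangeI_spec iota E 10 2494 43197 edges_10_17 v (by omega) (by omega)
            · rcases Nat.lt_or_ge v 48277 with h | h
              · exact edgesRangeI_spec iota E 10 2586 45691 edges_10_18 v (by omega) (by omega)
              · exact edgesRangeI_spec iota E 10 2341 48277 edges_10_19 v (by omega) (by omega)
          · rcases Nat.lt_or_ge v 55346 with h | h
            · rcases Nat.lt_or_ge v 53080 with h | h
              · exact edgesRangeI_spec iota E 10 2462 50618 edges_10_20 v (by omega) (by omega)
              · exact edgesRangeI_spec iota E 10 2266 53080 edges_10_21 v (by omega) (by omega)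
            · rcases Nat.lt_or_ge v 58030 with h | h
              · exact edgesRangeI_spec iota E 10 2684 55346 edges_10_22 v (by omega) (by omega)
              · exact edgesRangeI_spec iota E 10 2481 58030 edges_10_23 v (by omega) (by omega)
        · rcases Nat.lt_or_ge v 70000 with h | h
          · rcases Nat.lt_or_ge v 64959 with h | h
            · rcases Nat.lt_or_ge v 63044 with h | h
              · exact edgesRangeI_spec iota E 10 2533 60511 edges_10_24 v (by omega) (by omega)
              · exact edgesRangeI_spec iota E 10 1915 63044 edges_10_25 v (by omega) (by omega)
            · rcases Nat.lt_or_ge v 67944 with h | h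
              · exact edgesRangeI_spec iota E 10 2985 64959 edges_10_26 v (by omega) (by omega)
              · exact edgesRangeI_spec iota E 10 2056 67944 edges_10_27 v (by omega) (by omega)
          · rcases Nat.lt_or_ge v 75005 with h | h
            · rcases Nat.lt_or_ge v 72699 with h | h
              · exact edgesRangeI_spec iota E 10 2699 70000 edges_10_28 v (by omega) (by omega)
              · exact edgesRangeI_spec iota E 10 2306 72699 edges_10_29 v (by omega) (by omega)
            · rcases Nat.lt_or_ge v 77754 with h | h
              · exact edgesRangeI_spec iota E 10 2749 75005 edges_10_30 v (by omega) (by omega)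
              · rcases Nat.lt_or_ge v 79414 with h | h
                · exact edgesRangeI_spec iota E 10 1660 77754 edges_10_31 v (by omega) (by omega)
                · exact edgesRangeI_spec iota E 10 2693 79414 edges_10_32 v (by omega) (by omega)
    · rcases Nat.lt_or_ge v 120311 with h | h
      · rcases Nat.lt_or_ge v 101485 with h | h
        · rcases Nat.lt_or_ge v 91746 with h | h
          · rcases Nat.lt_or_ge v 87083 with h | h
            · rcases Nat.lt_or_ge v 84699 with h | h
              · exact edgesRangeI_spec iota E 10 2592 82107 edges_10_33 v (by omega) (by omega)
              · exact edgesRangeI_spec iota E 10 2384 84699 edges_10_34 v (by omega) (by omega)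
            · rcases Nat.lt_or_ge v 89457 with h | h
              · exact edgesRangeI_spec iota E 10 2374 87083 edges_10_35 v (by omega) (by omega)
              · exact edgesRangeI_spec iota E 10 2289 89457 edges_10_36 v (by omega) (by omega)
          · rcases Nat.lt_or_ge v 96356 with h | h
            · rcases Nat.lt_or_ge v 94568 with h | h
              · exact edgesRangeI_spec iota E 10 2822 91746 edges_10_37 v (by omega) (by omega)
              · exact edgesRangeI_spec iota E 10 1788 94568 edges_10_38 v (by omega) (by omega)
            · rcases Nat.lt_or_ge v 98633 with h | h
              · exact edgesRangeI_spec iota E 10 2277 96356 edges_10_39 v (by omega) (by omega)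
              · exact edgesRangeI_spec iota E 10 2852 98633 edges_10_40 v (by omega) (by omega)
        · rcases Nat.lt_or_ge v 110833 with h | h
          · rcases Nat.lt_or_ge v 106372 with h | h
            · rcases Nat.lt_or_ge v 103654 with h | h
              · exact edgesRangeI_spec iota E 10 2169 101485 edges_10_41 v (by omega) (by omega)
              · exact edgesRangeI_spec iota E 10 2718 103654 edges_10_42 v (by omega) (by omega)
            · rcases Nat.lt_or_ge v 108176 with h | h
              · exact edgesRangeI_spec iota E 10 1804 106372 edges_10_43 v (by omega) (by omega)
              · exact edgesRangeI_spec iota E 10 2657 108176 edges_10_44 v (by omega) (by omega)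
          · rcases Nat.lt_or_ge v 115547 with h | h
            · rcases Nat.lt_or_ge v 113558 with h | h
              · exact edgesRangeI_spec iota E 10 2725 110833 edges_10_45 v (by omega) (by omega)
              · exact edgesRangeI_spec iota E 10 1989 113558 edges_10_46 v (by omega) (by omega)
            · rcases Nat.lt_or_ge v 117451 with h | h
              · exact edgesRangeI_spec iota E 10 1904 115547 edges_10_47 v (by omega) (by omega)
              · exact edgesRangeI_spec iota E 10 2860 117451 edges_10_48 v (by omega) (by omega)
      · rcases Nat.lt_or_ge v 138866 with h | h
        · rcases Nat.lt_or_ge v 129176 with h | h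
          · rcases Nat.lt_or_ge v 125176 with h | h
            · rcases Nat.lt_or_ge v 123176 with h | h
              · exact edgesRangeI_spec iota E 10 2865 120311 edges_10_49 v (by omega) (by omega)
              · exact edgesRangeI_spec iota E 10 2000 123176 edges_10_50 v (by omega) (by omega)
            · rcases Nat.lt_or_ge v 127493 with h | h
              · exact edgesRangeI_spec iota E 10 2317 125176 edges_10_51 v (by omega) (by omega)
              · exact edgesRangeI_spec iota E 10 1683 127493 edges_10_52 v (by omega) (by omega)
          · rcases Nat.lt_or_ge v 134991 with h | h
            · rcases Nat.lt_or_ge v 132185 with h | h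
              · exact edgesRangeI_spec iota E 10 3009 129176 edges_10_53 v (by omega) (by omega)
              · exact edgesRangeI_spec iota E 10 2806 132185 edges_10_54 v (by omega) (by omega)
            · rcases Nat.lt_or_ge v 136806 with h | h
              · exact edgesRangeI_spec iota E 10 1815 134991 edges_10_55 v (by omega) (by omega)
              · exact edgesRangeI_spec iota E 10 2060 136806 edges_10_56 v (by omega) (by omega)
        · rcases Nat.lt_or_ge v 148881 with h | h
          · rcases Nat.lt_or_ge v 144656 with h | h
            · rcases Nat.lt_or_ge v 141690 with h | h
              · exact edgesRangeI_spec iota E 10 2824 138866 edges_10_57 v (by omega) (by omega)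
              · exact edgesRangeI_spec iota E 10 2966 141690 edges_10_58 v (by omega) (by omega)
            · rcases Nat.lt_or_ge v 146609 with h | h
              · exact edgesRangeI_spec iota E 10 1953 144656 edges_10_59 v (by omega) (by omega)
              · exact edgesRangeI_spec iota E 10 2272 146609 edges_10_60 v (by omega) (by omega)
          · rcases Nat.lt_or_ge v 153415 with h | h
            · rcases Nat.lt_or_ge v 150359 with h | h
              · exact edgesRangeI_spec iota E 10 1478 148881 edges_10_61 v (by omega) (by omega)
              · exact edgesRangeI_spec iota E 10 3056 150359 edges_10_62 v (by omega) (by omega)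
            · rcases Nat.lt_or_ge v 156269 with h | h
              · exact edgesRangeI_spec iota E 10 2854 153415 edges_10_63 v (by omega) (by omega)
              · rcases Nat.lt_or_ge v 158742 with h | h
                · exact edgesRangeI_spec iota E 10 2473 156269 edges_10_64 v (by omega) (by omega)
                · exact edgesRangeI_spec iota E 10 1645 158742 edges_10_65 v (by omega) (by omega)
  · rcases Nat.lt_or_ge v 238523 with h | h
    · rcases Nat.lt_or_ge v 197873 with h | h
      · rcases Nat.lt_or_ge v 180177 with h | h
        · rcases Nat.lt_or_ge v 170588 with h | h
          · rcases Nat.lt_or_ge v 165825 with h | h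
            · rcases Nat.lt_or_ge v 162989 with h | h
              · exact edgesRangeI_spec iota E 10 2602 160387 edges_10_66 v (by omega) (by omega)
              · exact edgesRangeI_spec iota E 10 2836 162989 edges_10_67 v (by omega) (by omega)
            · rcases Nat.lt_or_ge v 168504 with h | h
              · exact edgesRangeI_spec iota E 10 2679 165825 edges_10_68 v (by omega) (by omega)
              · exact edgesRangeI_spec iota E 10 2084 168504 edges_10_69 v (by omega) (by omega)
          · rcases Nat.lt_or_ge v 174239 with h | h
            · rcases Nat.lt_or_ge v 172312 with h | h
              · exact edgesRangeI_spec iota E 10 1724 170588 edges_10_70 v (by omega) (by omega)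
              · exact edgesRangeI_spec iota E 10 1927 172312 edges_10_71 v (by omega) (by omega)
            · rcases Nat.lt_or_ge v 177317 with h | h
              · exact edgesRangeI_spec iota E 10 3078 174239 edges_10_72 v (by omega) (by omega)
              · exact edgesRangeI_spec iota E 10 2860 177317 edges_10_73 v (by omega) (by omega)
        · rcases Nat.lt_or_ge v 189472 with h | h
          · rcases Nat.lt_or_ge v 184258 with h | h
            · rcases Nat.lt_or_ge v 182768 with h | h
              · exact edgesRangeI_spec iota E 10 2591 180177 edges_10_74 v (by omega) (by omega)
              · exact edgesRangeI_spec iota E 10 1490 182768 edges_10_75 v (by omega) (by omega)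
            · rcases Nat.lt_or_ge v 186775 with h | h
              · exact edgesRangeI_spec iota E 10 2517 184258 edges_10_76 v (by omega) (by omega)
              · exact edgesRangeI_spec iota E 10 2697 186775 edges_10_77 v (by omega) (by omega)
          · rcases Nat.lt_or_ge v 194479 with h | h
            · rcases Nat.lt_or_ge v 192266 with h | h
              · exact edgesRangeI_spec iota E 10 2794 189472 edges_10_78 v (by omega) (by omega)
              · exact edgesRangeI_spec iota E 10 2213 192266 edges_10_79 v (by omega) (by omega)
            · rcases Nat.lt_or_ge v 196396 with h | h
              · exact edgesRangeI_spec iota E 10 1917 194479 edges_10_80 v (by omega) (by omega)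
              · exact edgesRangeI_spec iota E 10 1477 196396 edges_10_81 v (by omega) (by omega)
      · rcases Nat.lt_or_ge v 218287 with h | h
        · rcases Nat.lt_or_ge v 208672 with h | h
          · rcases Nat.lt_or_ge v 203540 with h | h
            · rcases Nat.lt_or_ge v 200813 with h | h
              · exact edgesRangeI_spec iota E 10 2940 197873 edges_10_82 v (by omega) (by omega)
              · exact edgesRangeI_spec iota E 10 2727 200813 edges_10_83 v (by omega) (by omega)
            · rcases Nat.lt_or_ge v 206280 with h | h
              · exact edgesRangeI_spec iota E 10 2740 203540 edges_10_84 v (by omega) (by omega)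
              · exact edgesRangeI_spec iota E 10 2392 206280 edges_10_85 v (by omega) (by omega)
          · rcases Nat.lt_or_ge v 212898 with h | h
            · rcases Nat.lt_or_ge v 210338 with h | h
              · exact edgesRangeI_spec iota E 10 1666 208672 edges_10_86 v (by omega) (by omega)
              · exact edgesRangeI_spec iota E 10 2560 210338 edges_10_87 v (by omega) (by omega)
            · rcases Nat.lt_or_ge v 215544 with h | h
              · exact edgesRangeI_spec iota E 10 2646 212898 edges_10_88 v (by omega) (by omega)
              · exact edgesRangeI_spec iota E 10 2743 215544 edges_10_89 v (by omega) (by omega)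
        · rcases Nat.lt_or_ge v 226545 with h | h
          · rcases Nat.lt_or_ge v 222077 with h | h
            · rcases Nat.lt_or_ge v 220454 with h | h
              · exact edgesRangeI_spec iota E 10 2167 218287 edges_10_90 v (by omega) (by omega)
              · exact edgesRangeI_spec iota E 10 1623 220454 edges_10_91 v (by omega) (by omega)
            · rcases Nat.lt_or_ge v 223576 with h | h
              · exact edgesRangeI_spec iota E 10 1499 222077 edges_10_92 v (by omega) (by omega)
              · exact edgesRangeI_spec iota E 10 2969 223576 edges_10_93 v (by omega) (by omega)
          · rcases Nat.lt_or_ge v 231971 with h | h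
            · rcases Nat.lt_or_ge v 229335 with h | h
              · exact edgesRangeI_spec iota E 10 2790 226545 edges_10_94 v (by omega) (by omega)
              · exact edgesRangeI_spec iota E 10 2636 229335 edges_10_95 v (by omega) (by omega)
            · rcases Nat.lt_or_ge v 234441 with h | h
              · exact edgesRangeI_spec iota E 10 2470 231971 edges_10_96 v (by omega) (by omega)
              · rcases Nat.lt_or_ge v 235977 with h | h
                · exact edgesRangeI_spec iota E 10 1536 234441 edges_10_97 v (by omega) (by omega)
                · exact edgesRangeI_spec iota E 10 2546 235977 edges_10_98 v (by omega) (by omega)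
    · rcases Nat.lt_or_ge v 276150 with h | h
      · rcases Nat.lt_or_ge v 256847 with h | h
        · rcases Nat.lt_or_ge v 247279 with h | h
          · rcases Nat.lt_or_ge v 243666 with h | h
            · rcases Nat.lt_or_ge v 241064 with h | h
              · exact edgesRangeI_spec iota E 10 2541 238523 edges_10_99 v (by omega) (by omega)
              · exact edgesRangeI_spec iota E 10 2602 241064 edges_10_100 v (by omega) (by omega)
            · rcases Nat.lt_or_ge v 245847 with h | h
              · exact edgesRangeI_spec iota E 10 2181 243666 edges_10_101 v (by omega) (by omega)
              · exact edgesRangeI_spec iota E 10 1432 245847 edges_10_102 v (by omega) (by omega)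
          · rcases Nat.lt_or_ge v 251680 with h | h
            · rcases Nat.lt_or_ge v 248753 with h | h
              · exact edgesRangeI_spec iota E 10 1474 247279 edges_10_103 v (by omega) (by omega)
              · exact edgesRangeI_spec iota E 10 2927 248753 edges_10_104 v (by omega) (by omega)
            · rcases Nat.lt_or_ge v 254490 with h | h
              · exact edgesRangeI_spec iota E 10 2810 251680 edges_10_105 v (by omega) (by omega)
              · exact edgesRangeI_spec iota E 10 2357 254490 edges_10_106 v (by omega) (by omega)
        · rcases Nat.lt_or_ge v 265716 with h | h
          · rcases Nat.lt_or_ge v 260842 with h | h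
            · rcases Nat.lt_or_ge v 259235 with h | h
              · exact edgesRangeI_spec iota E 10 2388 256847 edges_10_107 v (by omega) (by omega)
              · exact edgesRangeI_spec iota E 10 1607 259235 edges_10_108 v (by omega) (by omega)
            · rcases Nat.lt_or_ge v 263331 with h | h
              · exact edgesRangeI_spec iota E 10 2489 260842 edges_10_109 v (by omega) (by omega)
              · exact edgesRangeI_spec iota E 10 2385 263331 edges_10_110 v (by omega) (by omega)
          · rcases Nat.lt_or_ge v 269390 with h | h
            · rcases Nat.lt_or_ge v 267802 with h | h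
              · exact edgesRangeI_spec iota E 10 2086 265716 edges_10_111 v (by omega) (by omega)
              · exact edgesRangeI_spec iota E 10 1588 267802 edges_10_112 v (by omega) (by omega)
            · rcases Nat.lt_or_ge v 270805 with h | h
              · exact edgesRangeI_spec iota E 10 1415 269390 edges_10_113 v (by omega) (by omega)
              · rcases Nat.lt_or_ge v 273559 with h | h
                · exact edgesRangeI_spec iota E 10 2754 270805 edges_10_114 v (by omega) (by omega)
                · exact edgesRangeI_spec iota E 10 2591 273559 edges_10_115 v (by omega) (by omega)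
      · rcases Nat.lt_or_ge v 292274 with h | h
        · rcases Nat.lt_or_ge v 284391 with h | h
          · rcases Nat.lt_or_ge v 280181 with h | h
            · rcases Nat.lt_or_ge v 278287 with h | h
              · exact edgesRangeI_spec iota E 10 2137 276150 edges_10_116 v (by omega) (by omega)
              · exact edgesRangeI_spec iota E 10 1894 278287 edges_10_117 v (by omega) (by omega)
            · rcases Nat.lt_or_ge v 282329 with h | h
              · exact edgesRangeI_spec iota E 10 2148 280181 edges_10_118 v (by omega) (by omega)
              · exact edgesRangeI_spec iota E 10 2062 282329 edges_10_119 v (by omega) (by omega)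
          · rcases Nat.lt_or_ge v 287553 with h | h
            · rcases Nat.lt_or_ge v 286133 with h | h
              · exact edgesRangeI_spec iota E 10 1742 284391 edges_10_120 v (by omega) (by omega)
              · exact edgesRangeI_spec iota E 10 1420 286133 edges_10_121 v (by omega) (by omega)
            · rcases Nat.lt_or_ge v 290294 with h | h
              · exact edgesRangeI_spec iota E 10 2741 287553 edges_10_122 v (by omega) (by omega)
              · exact edgesRangeI_spec iota E 10 1980 290294 edges_10_123 v (by omega) (by omega)
        · rcases Nat.lt_or_ge v 299810 with h | h
          · rcases Nat.lt_or_ge v 295964 with h | h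
            · rcases Nat.lt_or_ge v 294013 with h | h
              · exact edgesRangeI_spec iota E 10 1739 292274 edges_10_124 v (by omega) (by omega)
              · exact edgesRangeI_spec iota E 10 1951 294013 edges_10_125 v (by omega) (by omega)
            · rcases Nat.lt_or_ge v 297502 with h | h
              · exact edgesRangeI_spec iota E 10 1538 295964 edges_10_126 v (by omega) (by omega)
              · exact edgesRangeI_spec iota E 10 2308 297502 edges_10_127 v (by omega) (by omega)
          · rcases Nat.lt_or_ge v 303203 with h | h
            · rcases Nat.lt_or_ge v 301576 with h | h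
              · exact edgesRangeI_spec iota E 10 1766 299810 edges_10_128 v (by omega) (by omega)
              · exact edgesRangeI_spec iota E 10 1627 301576 edges_10_129 v (by omega) (by omega)
            · rcases Nat.lt_or_ge v 305090 with h | h
              · exact edgesRangeI_spec iota E 10 1887 303203 edges_10_130 v (by omega) (by omega)
              · rcases Nat.lt_or_ge v 306682 with h | h
                · exact edgesRangeI_spec iota E 10 1592 305090 edges_10_131 v (by omega) (by omega)
                · exact edgesRangeI_spec iota E 10 922 306682 edges_10_132 v (by omega) (by omega)

theorem edgesx_11 : ∀ v, v < 307604 → edgeOKI iota E 11 v = true := by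
  intro v hv
  rcases Nat.lt_or_ge v 169130 with h | h
  · rcases Nat.lt_or_ge v 82776 with h | h
    · rcases Nat.lt_or_ge v 39368 with h | h
      · rcases Nat.lt_or_ge v 18008 with h | h
        · rcases Nat.lt_or_ge v 7641 with h | h
          · rcases Nat.lt_or_ge v 2438 with h | h
            · exact edgesRangeI_spec iota E 11 2438 0 edges_11_0 v (by omega) (by omega)
            · rcases Nat.lt_or_ge v 5061 with h | h
              · exact edgesRangeI_spec iota E 11 2623 2438 edges_11_1 v (by omega) (by omega)
              · exact edgesRangeI_spec iota E 11 2580 5061 edges_11_2 v (by omega) (by omega)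
          · rcases Nat.lt_or_ge v 12771 with h | h
            · rcases Nat.lt_or_ge v 10204 with h | h
              · exact edgesRangeI_spec iota E 11 2563 7641 edges_11_3 v (by omega) (by omega)
              · exact edgesRangeI_spec iota E 11 2567 10204 edges_11_4 v (by omega) (by omega)
            · rcases Nat.lt_or_ge v 15308 with h | h
              · exact edgesRangeI_spec iota E 11 2537 12771 edges_11_5 v (by omega) (by omega)
              · exact edgesRangeI_spec iota E 11 2700 15308 edges_11_6 v (by omega) (by omega)
        · rcases Nat.lt_or_ge v 28792 with h | h
          · rcases Nat.lt_or_ge v 23300 with h | h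
            · rcases Nat.lt_or_ge v 20752 with h | h
              · exact edgesRangeI_spec iota E 11 2744 18008 edges_11_7 v (by omega) (by omega)
              · exact edgesRangeI_spec iota E 11 2548 20752 edges_11_8 v (by omega) (by omega)
            · rcases Nat.lt_or_ge v 26012 with h | h
              · exact edgesRangeI_spec iota E 11 2712 23300 edges_11_9 v (by omega) (by omega)
              · exact edgesRangeI_spec iota E 11 2780 26012 edges_11_10 v (by omega) (by omega)
          · rcases Nat.lt_or_ge v 34197 with h | h
            · rcases Nat.lt_or_ge v 31448 with h | h
              · exact edgesRangeI_spec iota E 11 2656 28792 edges_11_11 v (by omega) (by omega)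
              · exact edgesRangeI_spec iota E 11 2749 31448 edges_11_12 v (by omega) (by omega)
            · rcases Nat.lt_or_ge v 36843 with h | h
              · exact edgesRangeI_spec iota E 11 2646 34197 edges_11_13 v (by omega) (by omega)
              · exact edgesRangeI_spec iota E 11 2525 36843 edges_11_14 v (by omega) (by omega)
      · rcases Nat.lt_or_ge v 60922 with h | h
        · rcases Nat.lt_or_ge v 50134 with h | h
          · rcases Nat.lt_or_ge v 44940 with h | h
            · rcases Nat.lt_or_ge v 42208 with h | h
              · exact edgesRangeI_spec iota E 11 2840 39368 edges_11_15 v (by omega) (by omega)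
              · exact edgesRangeI_spec iota E 11 2732 42208 edges_11_16 v (by omega) (by omega)
            · rcases Nat.lt_or_ge v 47525 with h | h
              · exact edgesRangeI_spec iota E 11 2585 44940 edges_11_17 v (by omega) (by omega)
              · exact edgesRangeI_spec iota E 11 2609 47525 edges_11_18 v (by omega) (by omega)
          · rcases Nat.lt_or_ge v 55774 with h | h
            · rcases Nat.lt_or_ge v 52994 with h | h
              · exact edgesRangeI_spec iota E 11 2860 50134 edges_11_19 v (by omega) (by omega)
              · exact edgesRangeI_spec iota E 11 2780 52994 edges_11_20 v (by omega) (by omega)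
            · rcases Nat.lt_or_ge v 58456 with h | h
              · exact edgesRangeI_spec iota E 11 2682 55774 edges_11_21 v (by omega) (by omega)
              · exact edgesRangeI_spec iota E 11 2466 58456 edges_11_22 v (by omega) (by omega)
        · rcases Nat.lt_or_ge v 71935 with h | h
          · rcases Nat.lt_or_ge v 66507 with h | h
            · rcases Nat.lt_or_ge v 63750 with h | h
              · exact edgesRangeI_spec iota E 11 2828 60922 edges_11_23 v (by omega) (by omega)
              · exact edgesRangeI_spec iota E 11 2757 63750 edges_11_24 v (by omega) (by omega)
            · rcases Nat.lt_or_ge v 69313 with h | h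
              · exact edgesRangeI_spec iota E 11 2806 66507 edges_11_25 v (by omega) (by omega)
              · exact edgesRangeI_spec iota E 11 2622 69313 edges_11_26 v (by omega) (by omega)
          · rcases Nat.lt_or_ge v 77150 with h | h
            · rcases Nat.lt_or_ge v 74408 with h | h
              · exact edgesRangeI_spec iota E 11 2473 71935 edges_11_27 v (by omega) (by omega)
              · exact edgesRangeI_spec iota E 11 2742 74408 edges_11_28 v (by omega) (by omega)
            · rcases Nat.lt_or_ge v 79912 with h | h
              · exact edgesRangeI_spec iota E 11 2762 77150 edges_11_29 v (by omega) (by omega)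
              · exact edgesRangeI_spec iota E 11 2864 79912 edges_11_30 v (by omega) (by omega)
    · rcases Nat.lt_or_ge v 126067 with h | h
      · rcases Nat.lt_or_ge v 104508 with h | h
        · rcases Nat.lt_or_ge v 93299 with h | h
          · rcases Nat.lt_or_ge v 88160 with h | h
            · rcases Nat.lt_or_ge v 85622 with h | h
              · exact edgesRangeI_spec iota E 11 2846 82776 edges_11_31 v (by omega) (by omega)
              · exact edgesRangeI_spec iota E 11 2538 85622 edges_11_32 v (by omega) (by omega)
            · rcases Nat.lt_or_ge v 90615 with h | h
              · exact edgesRangeI_spec iota E 11 2455 88160 edges_11_33 v (by omega) (by omega)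
              · exact edgesRangeI_spec iota E 11 2684 90615 edges_11_34 v (by omega) (by omega)
          · rcases Nat.lt_or_ge v 98782 with h | h
            · rcases Nat.lt_or_ge v 96101 with h | h
              · exact edgesRangeI_spec iota E 11 2802 93299 edges_11_35 v (by omega) (by omega)
              · exact edgesRangeI_spec iota E 11 2681 96101 edges_11_36 v (by omega) (by omega)
            · rcases Nat.lt_or_ge v 101771 with h | h
              · exact edgesRangeI_spec iota E 11 2989 98782 edges_11_37 v (by omega) (by omega)
              · exact edgesRangeI_spec iota E 11 2737 101771 edges_11_38 v (by omega) (by omega)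
        · rcases Nat.lt_or_ge v 114828 with h | h
          · rcases Nat.lt_or_ge v 109497 with h | h
            · rcases Nat.lt_or_ge v 107129 with h | h
              · exact edgesRangeI_spec iota E 11 2621 104508 edges_11_39 v (by omega) (by omega)
              · exact edgesRangeI_spec iota E 11 2368 107129 edges_11_40 v (by omega) (by omega)
            · rcases Nat.lt_or_ge v 112139 with h | h
              · exact edgesRangeI_spec iota E 11 2642 109497 edges_11_41 v (by omega) (by omega)
              · exact edgesRangeI_spec iota E 11 2689 112139 edges_11_42 v (by omega) (by omega)
          · rcases Nat.lt_or_ge v 120467 with h | h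
            · rcases Nat.lt_or_ge v 117554 with h | h
              · exact edgesRangeI_spec iota E 11 2726 114828 edges_11_43 v (by omega) (by omega)
              · exact edgesRangeI_spec iota E 11 2913 117554 edges_11_44 v (by omega) (by omega)
            · rcases Nat.lt_or_ge v 123215 with h | h
              · exact edgesRangeI_spec iota E 11 2748 120467 edges_11_45 v (by omega) (by omega)
              · exact edgesRangeI_spec iota E 11 2852 123215 edges_11_46 v (by omega) (by omega)
      · rcases Nat.lt_or_ge v 147547 with h | h
        · rcases Nat.lt_or_ge v 136284 with h | h
          · rcases Nat.lt_or_ge v 130929 with h | h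
            · rcases Nat.lt_or_ge v 128568 with h | h
              · exact edgesRangeI_spec iota E 11 2501 126067 edges_11_47 v (by omega) (by omega)
              · exact edgesRangeI_spec iota E 11 2361 128568 edges_11_48 v (by omega) (by omega)
            · rcases Nat.lt_or_ge v 133654 with h | h
              · exact edgesRangeI_spec iota E 11 2725 130929 edges_11_49 v (by omega) (by omega)
              · exact edgesRangeI_spec iota E 11 2630 133654 edges_11_50 v (by omega) (by omega)
          · rcases Nat.lt_or_ge v 141961 with h | h
            · rcases Nat.lt_or_ge v 138928 with h | h
              · exact edgesRangeI_spec iota E 11 2644 136284 edges_11_51 v (by omega) (by omega)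
              · exact edgesRangeI_spec iota E 11 3033 138928 edges_11_52 v (by omega) (by omega)
            · rcases Nat.lt_or_ge v 144738 with h | h
              · exact edgesRangeI_spec iota E 11 2777 141961 edges_11_53 v (by omega) (by omega)
              · exact edgesRangeI_spec iota E 11 2809 144738 edges_11_54 v (by omega) (by omega)
        · rcases Nat.lt_or_ge v 157899 with h | h
          · rcases Nat.lt_or_ge v 152508 with h | h
            · rcases Nat.lt_or_ge v 150154 with h | h
              · exact edgesRangeI_spec iota E 11 2607 147547 edges_11_55 v (by omega) (by omega)
              · exact edgesRangeI_spec iota E 11 2354 150154 edges_11_56 v (by omega) (by omega)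
            · rcases Nat.lt_or_ge v 155143 with h | h
              · exact edgesRangeI_spec iota E 11 2635 152508 edges_11_57 v (by omega) (by omega)
              · exact edgesRangeI_spec iota E 11 2756 155143 edges_11_58 v (by omega) (by omega)
          · rcases Nat.lt_or_ge v 163278 with h | h
            · rcases Nat.lt_or_ge v 160567 with h | h
              · exact edgesRangeI_spec iota E 11 2668 157899 edges_11_59 v (by omega) (by omega)
              · exact edgesRangeI_spec iota E 11 2711 160567 edges_11_60 v (by omega) (by omega)
            · rcases Nat.lt_or_ge v 166371 with h | h
              · exact edgesRangeI_spec iota E 11 3093 163278 edges_11_61 v (by omega) (by omega)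
              · exact edgesRangeI_spec iota E 11 2759 166371 edges_11_62 v (by omega) (by omega)
  · rcases Nat.lt_or_ge v 248725 with h | h
    · rcases Nat.lt_or_ge v 208222 with h | h
      · rcases Nat.lt_or_ge v 187473 with h | h
        · rcases Nat.lt_or_ge v 176680 with h | h
          · rcases Nat.lt_or_ge v 171972 with h | h
            · exact edgesRangeI_spec iota E 11 2842 169130 edges_11_63 v (by omega) (by omega)
            · rcases Nat.lt_or_ge v 174158 with h | h
              · exact edgesRangeI_spec iota E 11 2186 171972 edges_11_64 v (by omega) (by omega)
              · exact edgesRangeI_spec iota E 11 2522 174158 edges_11_65 v (by omega) (by omega)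
          · rcases Nat.lt_or_ge v 182064 with h | h
            · rcases Nat.lt_or_ge v 179356 with h | h
              · exact edgesRangeI_spec iota E 11 2676 176680 edges_11_66 v (by omega) (by omega)
              · exact edgesRangeI_spec iota E 11 2708 179356 edges_11_67 v (by omega) (by omega)
            · rcases Nat.lt_or_ge v 184757 with h | h
              · exact edgesRangeI_spec iota E 11 2693 182064 edges_11_68 v (by omega) (by omega)
              · exact edgesRangeI_spec iota E 11 2716 184757 edges_11_69 v (by omega) (by omega)
        · rcases Nat.lt_or_ge v 198284 with h | h
          · rcases Nat.lt_or_ge v 193027 with h | h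
            · rcases Nat.lt_or_ge v 190319 with h | h
              · exact edgesRangeI_spec iota E 11 2846 187473 edges_11_70 v (by omega) (by omega)
              · exact edgesRangeI_spec iota E 11 2708 190319 edges_11_71 v (by omega) (by omega)
            · rcases Nat.lt_or_ge v 195924 with h | h
              · exact edgesRangeI_spec iota E 11 2897 193027 edges_11_72 v (by omega) (by omega)
              · exact edgesRangeI_spec iota E 11 2360 195924 edges_11_73 v (by omega) (by omega)
          · rcases Nat.lt_or_ge v 203120 with h | h
            · rcases Nat.lt_or_ge v 200559 with h | h
              · exact edgesRangeI_spec iota E 11 2275 198284 edges_11_74 v (by omega) (by omega)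
              · exact edgesRangeI_spec iota E 11 2561 200559 edges_11_75 v (by omega) (by omega)
            · rcases Nat.lt_or_ge v 205488 with h | h
              · exact edgesRangeI_spec iota E 11 2368 203120 edges_11_76 v (by omega) (by omega)
              · exact edgesRangeI_spec iota E 11 2734 205488 edges_11_77 v (by omega) (by omega)
      · rcases Nat.lt_or_ge v 228698 with h | h
        · rcases Nat.lt_or_ge v 218722 with h | h
          · rcases Nat.lt_or_ge v 213423 with h | h
            · rcases Nat.lt_or_ge v 210858 with h | h
              · exact edgesRangeI_spec iota E 11 2636 208222 edges_11_78 v (by omega) (by omega)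
              · exact edgesRangeI_spec iota E 11 2565 210858 edges_11_79 v (by omega) (by omega)
            · rcases Nat.lt_or_ge v 216138 with h | h
              · exact edgesRangeI_spec iota E 11 2715 213423 edges_11_80 v (by omega) (by omega)
              · exact edgesRangeI_spec iota E 11 2584 216138 edges_11_81 v (by omega) (by omega)
          · rcases Nat.lt_or_ge v 223904 with h | h
            · rcases Nat.lt_or_ge v 221748 with h | h
              · exact edgesRangeI_spec iota E 11 3026 218722 edges_11_82 v (by omega) (by omega)
              · exact edgesRangeI_spec iota E 11 2156 221748 edges_11_83 v (by omega) (by omega)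
            · rcases Nat.lt_or_ge v 226199 with h | h
              · exact edgesRangeI_spec iota E 11 2295 223904 edges_11_84 v (by omega) (by omega)
              · exact edgesRangeI_spec iota E 11 2499 226199 edges_11_85 v (by omega) (by omega)
        · rcases Nat.lt_or_ge v 238694 with h | h
          · rcases Nat.lt_or_ge v 233794 with h | h
            · rcases Nat.lt_or_ge v 231139 with h | h
              · exact edgesRangeI_spec iota E 11 2441 228698 edges_11_86 v (by omega) (by omega)
              · exact edgesRangeI_spec iota E 11 2655 231139 edges_11_87 v (by omega) (by omega)
            · rcases Nat.lt_or_ge v 236196 with h | h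
              · exact edgesRangeI_spec iota E 11 2402 233794 edges_11_88 v (by omega) (by omega)
              · exact edgesRangeI_spec iota E 11 2498 236196 edges_11_89 v (by omega) (by omega)
          · rcases Nat.lt_or_ge v 243778 with h | h
            · rcases Nat.lt_or_ge v 241302 with h | h
              · exact edgesRangeI_spec iota E 11 2608 238694 edges_11_90 v (by omega) (by omega)
              · exact edgesRangeI_spec iota E 11 2476 241302 edges_11_91 v (by omega) (by omega)
            · rcases Nat.lt_or_ge v 246600 with h | h
              · exact edgesRangeI_spec iota E 11 2822 243778 edges_11_92 v (by omega) (by omega)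
              · exact edgesRangeI_spec iota E 11 2125 246600 edges_11_93 v (by omega) (by omega)
    · rcases Nat.lt_or_ge v 284204 with h | h
      · rcases Nat.lt_or_ge v 267788 with h | h
        · rcases Nat.lt_or_ge v 258078 with h | h
          · rcases Nat.lt_or_ge v 253185 with h | h
            · rcases Nat.lt_or_ge v 250839 with h | h
              · exact edgesRangeI_spec iota E 11 2114 248725 edges_11_94 v (by omega) (by omega)
              · exact edgesRangeI_spec iota E 11 2346 250839 edges_11_95 v (by omega) (by omega)
            · rcases Nat.lt_or_ge v 255553 with h | h
              · exact edgesRangeI_spec iota E 11 2368 253185 edges_11_96 v (by omega) (by omega)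
              · exact edgesRangeI_spec iota E 11 2525 255553 edges_11_97 v (by omega) (by omega)
          · rcases Nat.lt_or_ge v 262870 with h | h
            · rcases Nat.lt_or_ge v 260372 with h | h
              · exact edgesRangeI_spec iota E 11 2294 258078 edges_11_98 v (by omega) (by omega)
              · exact edgesRangeI_spec iota E 11 2498 260372 edges_11_99 v (by omega) (by omega)
            · rcases Nat.lt_or_ge v 265277 with h | h
              · exact edgesRangeI_spec iota E 11 2407 262870 edges_11_100 v (by omega) (by omega)
              · exact edgesRangeI_spec iota E 11 2511 265277 edges_11_101 v (by omega) (by omega)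
        · rcases Nat.lt_or_ge v 276000 with h | h
          · rcases Nat.lt_or_ge v 271913 with h | h
            · rcases Nat.lt_or_ge v 270081 with h | h
              · exact edgesRangeI_spec iota E 11 2293 267788 edges_11_102 v (by omega) (by omega)
              · exact edgesRangeI_spec iota E 11 1832 270081 edges_11_103 v (by omega) (by omega)
            · rcases Nat.lt_or_ge v 273943 with h | h
              · exact edgesRangeI_spec iota E 11 2030 271913 edges_11_104 v (by omega) (by omega)
              · exact edgesRangeI_spec iota E 11 2057 273943 edges_11_105 v (by omega) (by omega)
          · rcases Nat.lt_or_ge v 279846 with h | h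
            · rcases Nat.lt_or_ge v 277787 with h | h
              · exact edgesRangeI_spec iota E 11 1787 276000 edges_11_106 v (by omega) (by omega)
              · exact edgesRangeI_spec iota E 11 2059 277787 edges_11_107 v (by omega) (by omega)
            · rcases Nat.lt_or_ge v 282021 with h | h
              · exact edgesRangeI_spec iota E 11 2175 279846 edges_11_108 v (by omega) (by omega)
              · exact edgesRangeI_spec iota E 11 2183 282021 edges_11_109 v (by omega) (by omega)
      · rcases Nat.lt_or_ge v 298424 with h | h
        · rcases Nat.lt_or_ge v 290981 with h | h
          · rcases Nat.lt_or_ge v 287879 with h | h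
            · rcases Nat.lt_or_ge v 286355 with h | h
              · exact edgesRangeI_spec iota E 11 2151 284204 edges_11_110 v (by omega) (by omega)
              · exact edgesRangeI_spec iota E 11 1524 286355 edges_11_111 v (by omega) (by omega)
            · rcases Nat.lt_or_ge v 289400 with h | h
              · exact edgesRangeI_spec iota E 11 1521 287879 edges_11_112 v (by omega) (by omega)
              · exact edgesRangeI_spec iota E 11 1581 289400 edges_11_113 v (by omega) (by omega)
          · rcases Nat.lt_or_ge v 295005 with h | h
            · rcases Nat.lt_or_ge v 293036 with h | h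
              · exact edgesRangeI_spec iota E 11 2055 290981 edges_11_114 v (by omega) (by omega)
              · exact edgesRangeI_spec iota E 11 1969 293036 edges_11_115 v (by omega) (by omega)
            · rcases Nat.lt_or_ge v 296868 with h | h
              · exact edgesRangeI_spec iota E 11 1863 295005 edges_11_116 v (by omega) (by omega)
              · exact edgesRangeI_spec iota E 11 1556 296868 edges_11_117 v (by omega) (by omega)
        · rcases Nat.lt_or_ge v 304068 with h | h
          · rcases Nat.lt_or_ge v 300917 with h | h
            · rcases Nat.lt_or_ge v 299338 with h | h
              · exact edgesRangeI_spec iota E 11 914 298424 edges_11_118 v (by omega) (by omega)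
              · exact edgesRangeI_spec iota E 11 1579 299338 edges_11_119 v (by omega) (by omega)
            · rcases Nat.lt_or_ge v 302627 with h | h
              · exact edgesRangeI_spec iota E 11 1710 300917 edges_11_120 v (by omega) (by omega)
              · exact edgesRangeI_spec iota E 11 1441 302627 edges_11_121 v (by omega) (by omega)
          · rcases Nat.lt_or_ge v 306335 with h | h
            · rcases Nat.lt_or_ge v 305244 with h | h
              · exact edgesRangeI_spec iota E 11 1176 304068 edges_11_122 v (by omega) (by omega)
              · exact edgesRangeI_spec iota E 11 1091 305244 edges_11_123 v (by omega) (by omega)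
            · rcases Nat.lt_or_ge v 307283 with h | h
              · exact edgesRangeI_spec iota E 11 948 306335 edges_11_124 v (by omega) (by omega)
              · exact edgesRangeI_spec iota E 11 321 307283 edges_11_125 v (by omega) (by omega)

theorem hA0 : ∀ v, v < 307604 → aliasOK E v = true := by
  intro v hv
  rcases Nat.lt_or_ge v 149434 with h | h
  · rcases Nat.lt_or_ge v 69518 with h | h
    · rcases Nat.lt_or_ge v 29518 with h | h
      · rcases Nat.lt_or_ge v 13596 with h | h
        · rcases Nat.lt_or_ge v 5704 with h | h
          · exact aliasRange_spec E 5704 0 aliases_0 v (by omega) (by omega)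
          · exact aliasRange_spec E 7892 5704 aliases_1 v (by omega) (by omega)
        · rcases Nat.lt_or_ge v 21596 with h | h
          · exact aliasRange_spec E 8000 13596 aliases_2 v (by omega) (by omega)
          · exact aliasRange_spec E 7922 21596 aliases_3 v (by omega) (by omega)
      · rcases Nat.lt_or_ge v 45518 with h | h
        · rcases Nat.lt_or_ge v 37518 with h | h
          · exact aliasRange_spec E 8000 29518 aliases_4 v (by omega) (by omega)
          · exact aliasRange_spec E 8000 37518 aliases_5 v (by omega) (by omega)
        · rcases Nat.lt_or_ge v 53518 with h | h
          · exact aliasRange_spec E 8000 45518 aliases_6 v (by omega) (by omega)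
          · rcases Nat.lt_or_ge v 61518 with h | h
            · exact aliasRange_spec E 8000 53518 aliases_7 v (by omega) (by omega)
            · exact aliasRange_spec E 8000 61518 aliases_8 v (by omega) (by omega)
    · rcases Nat.lt_or_ge v 109482 with h | h
      · rcases Nat.lt_or_ge v 85482 with h | h
        · rcases Nat.lt_or_ge v 77482 with h | h
          · exact aliasRange_spec E 7964 69518 aliases_9 v (by omega) (by omega)
          · exact aliasRange_spec E 8000 77482 aliases_10 v (by omega) (by omega)
        · rcases Nat.lt_or_ge v 93482 with h | h
          · exact aliasRange_spec E 8000 85482 aliases_11 v (by omega) (by omega)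
          · rcases Nat.lt_or_ge v 101482 with h | h
            · exact aliasRange_spec E 8000 93482 aliases_12 v (by omega) (by omega)
            · exact aliasRange_spec E 8000 101482 aliases_13 v (by omega) (by omega)
      · rcases Nat.lt_or_ge v 125482 with h | h
        · rcases Nat.lt_or_ge v 117482 with h | h
          · exact aliasRange_spec E 8000 109482 aliases_14 v (by omega) (by omega)
          · exact aliasRange_spec E 8000 117482 aliases_15 v (by omega) (by omega)
        · rcases Nat.lt_or_ge v 133482 with h | h
          · exact aliasRange_spec E 8000 125482 aliases_16 v (by omega) (by omega)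
          · rcases Nat.lt_or_ge v 141482 with h | h
            · exact aliasRange_spec E 8000 133482 aliases_17 v (by omega) (by omega)
            · exact aliasRange_spec E 7952 141482 aliases_18 v (by omega) (by omega)
  · rcases Nat.lt_or_ge v 229434 with h | h
    · rcases Nat.lt_or_ge v 189434 with h | h
      · rcases Nat.lt_or_ge v 165434 with h | h
        · rcases Nat.lt_or_ge v 157434 with h | h
          · exact aliasRange_spec E 8000 149434 aliases_19 v (by omega) (by omega)
          · exact aliasRange_spec E 8000 157434 aliases_20 v (by omega) (by omega)
        · rcases Nat.lt_or_ge v 173434 with h | h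
          · exact aliasRange_spec E 8000 165434 aliases_21 v (by omega) (by omega)
          · rcases Nat.lt_or_ge v 181434 with h | h
            · exact aliasRange_spec E 8000 173434 aliases_22 v (by omega) (by omega)
            · exact aliasRange_spec E 8000 181434 aliases_23 v (by omega) (by omega)
      · rcases Nat.lt_or_ge v 205434 with h | h
        · rcases Nat.lt_or_ge v 197434 with h | h
          · exact aliasRange_spec E 8000 189434 aliases_24 v (by omega) (by omega)
          · exact aliasRange_spec E 8000 197434 aliases_25 v (by omega) (by omega)
        · rcases Nat.lt_or_ge v 213434 with h | h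
          · exact aliasRange_spec E 8000 205434 aliases_26 v (by omega) (by omega)
          · rcases Nat.lt_or_ge v 221434 with h | h
            · exact aliasRange_spec E 8000 213434 aliases_27 v (by omega) (by omega)
            · exact aliasRange_spec E 8000 221434 aliases_28 v (by omega) (by omega)
    · rcases Nat.lt_or_ge v 269434 with h | h
      · rcases Nat.lt_or_ge v 245434 with h | h
        · rcases Nat.lt_or_ge v 237434 with h | h
          · exact aliasRange_spec E 8000 229434 aliases_29 v (by omega) (by omega)
          · exact aliasRange_spec E 8000 237434 aliases_30 v (by omega) (by omega)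
        · rcases Nat.lt_or_ge v 253434 with h | h
          · exact aliasRange_spec E 8000 245434 aliases_31 v (by omega) (by omega)
          · rcases Nat.lt_or_ge v 261434 with h | h
            · exact aliasRange_spec E 8000 253434 aliases_32 v (by omega) (by omega)
            · exact aliasRange_spec E 8000 261434 aliases_33 v (by omega) (by omega)
      · rcases Nat.lt_or_ge v 285434 with h | h
        · rcases Nat.lt_or_ge v 277434 with h | h
          · exact aliasRange_spec E 8000 269434 aliases_34 v (by omega) (by omega)
          · exact aliasRange_spec E 8000 277434 aliases_35 v (by omega) (by omega)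
        · rcases Nat.lt_or_ge v 293434 with h | h
          · exact aliasRange_spec E 8000 285434 aliases_36 v (by omega) (by omega)
          · rcases Nat.lt_or_ge v 301434 with h | h
            · exact aliasRange_spec E 8000 293434 aliases_37 v (by omega) (by omega)
            · exact aliasRange_spec E 6170 301434 aliases_38 v (by omega) (by omega)

theorem hrows0 : ∀ v, v < 307604 → tb RS v = true → rowOK2 E RS v E.D.k = true := by
  intro v hv
  rcases Nat.lt_or_ge v 154500 with h | h
  · rcases Nat.lt_or_ge v 76500 with h | h
    · rcases Nat.lt_or_ge v 37500 with h | h
      · rcases Nat.lt_or_ge v 18000 with h | h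
        · rcases Nat.lt_or_ge v 9000 with h | h
          · rcases Nat.lt_or_ge v 4500 with h | h
            · rcases Nat.lt_or_ge v 1500 with h | h
              · exact rowsRange_spec E RS 1500 0 rows_0 v (by omega) (by omega)
              · rcases Nat.lt_or_ge v 3000 with h | h
                · exact rowsRange_spec E RS 1500 1500 rows_1 v (by omega) (by omega)
                · exact rowsRange_spec E RS 1500 3000 rows_2 v (by omega) (by omega)
            · rcases Nat.lt_or_ge v 6000 with h | h
              · exact rowsRange_spec E RS 1500 4500 rows_3 v (by omega) (by omega)
              · rcases Nat.lt_or_ge v 7500 with h | h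
                · exact rowsRange_spec E RS 1500 6000 rows_4 v (by omega) (by omega)
                · exact rowsRange_spec E RS 1500 7500 rows_5 v (by omega) (by omega)
          · rcases Nat.lt_or_ge v 13500 with h | h
            · rcases Nat.lt_or_ge v 10500 with h | h
              · exact rowsRange_spec E RS 1500 9000 rows_6 v (by omega) (by omega)
              · rcases Nat.lt_or_ge v 12000 with h | h
                · exact rowsRange_spec E RS 1500 10500 rows_7 v (by omega) (by omega)
                · exact rowsRange_spec E RS 1500 12000 rows_8 v (by omega) (by omega)
            · rcases Nat.lt_or_ge v 15000 with h | h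
              · exact rowsRange_spec E RS 1500 13500 rows_9 v (by omega) (by omega)
              · rcases Nat.lt_or_ge v 16500 with h | h
                · exact rowsRange_spec E RS 1500 15000 rows_10 v (by omega) (by omega)
                · exact rowsRange_spec E RS 1500 16500 rows_11 v (by omega) (by omega)
        · rcases Nat.lt_or_ge v 27000 with h | h
          · rcases Nat.lt_or_ge v 22500 with h | h
            · rcases Nat.lt_or_ge v 19500 with h | h
              · exact rowsRange_spec E RS 1500 18000 rows_12 v (by omega) (by omega)
              · rcases Nat.lt_or_ge v 21000 with h | h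
                · exact rowsRange_spec E RS 1500 19500 rows_13 v (by omega) (by omega)
                · exact rowsRange_spec E RS 1500 21000 rows_14 v (by omega) (by omega)
            · rcases Nat.lt_or_ge v 24000 with h | h
              · exact rowsRange_spec E RS 1500 22500 rows_15 v (by omega) (by omega)
              · rcases Nat.lt_or_ge v 25500 with h | h
                · exact rowsRange_spec E RS 1500 24000 rows_16 v (by omega) (by omega)
                · exact rowsRange_spec E RS 1500 25500 rows_17 v (by omega) (by omega)
          · rcases Nat.lt_or_ge v 31500 with h | h
            · rcases Nat.lt_or_ge v 28500 with h | h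
              · exact rowsRange_spec E RS 1500 27000 rows_18 v (by omega) (by omega)
              · rcases Nat.lt_or_ge v 30000 with h | h
                · exact rowsRange_spec E RS 1500 28500 rows_19 v (by omega) (by omega)
                · exact rowsRange_spec E RS 1500 30000 rows_20 v (by omega) (by omega)
            · rcases Nat.lt_or_ge v 34500 with h | h
              · rcases Nat.lt_or_ge v 33000 with h | h
                · exact rowsRange_spec E RS 1500 31500 rows_21 v (by omega) (by omega)
                · exact rowsRange_spec E RS 1500 33000 rows_22 v (by omega) (by omega)
              · rcases Nat.lt_or_ge v 36000 with h | h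
                · exact rowsRange_spec E RS 1500 34500 rows_23 v (by omega) (by omega)
                · exact rowsRange_spec E RS 1500 36000 rows_24 v (by omega) (by omega)
      · rcases Nat.lt_or_ge v 57000 with h | h
        · rcases Nat.lt_or_ge v 46500 with h | h
          · rcases Nat.lt_or_ge v 42000 with h | h
            · rcases Nat.lt_or_ge v 39000 with h | h
              · exact rowsRange_spec E RS 1500 37500 rows_25 v (by omega) (by omega)
              · rcases Nat.lt_or_ge v 40500 with h | h
                · exact rowsRange_spec E RS 1500 39000 rows_26 v (by omega) (by omega)
                · exact rowsRange_spec E RS 1500 40500 rows_27 v (by omega) (by omega)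
            · rcases Nat.lt_or_ge v 43500 with h | h
              · exact rowsRange_spec E RS 1500 42000 rows_28 v (by omega) (by omega)
              · rcases Nat.lt_or_ge v 45000 with h | h
                · exact rowsRange_spec E RS 1500 43500 rows_29 v (by omega) (by omega)
                · exact rowsRange_spec E RS 1500 45000 rows_30 v (by omega) (by omega)
          · rcases Nat.lt_or_ge v 51000 with h | h
            · rcases Nat.lt_or_ge v 48000 with h | h
              · exact rowsRange_spec E RS 1500 46500 rows_31 v (by omega) (by omega)
              · rcases Nat.lt_or_ge v 49500 with h | h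
                · exact rowsRange_spec E RS 1500 48000 rows_32 v (by omega) (by omega)
                · exact rowsRange_spec E RS 1500 49500 rows_33 v (by omega) (by omega)
            · rcases Nat.lt_or_ge v 54000 with h | h
              · rcases Nat.lt_or_ge v 52500 with h | h
                · exact rowsRange_spec E RS 1500 51000 rows_34 v (by omega) (by omega)
                · exact rowsRange_spec E RS 1500 52500 rows_35 v (by omega) (by omega)
              · rcases Nat.lt_or_ge v 55500 with h | h
                · exact rowsRange_spec E RS 1500 54000 rows_36 v (by omega) (by omega)
                · exact rowsRange_spec E RS 1500 55500 rows_37 v (by omega) (by omega)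
        · rcases Nat.lt_or_ge v 66000 with h | h
          · rcases Nat.lt_or_ge v 61500 with h | h
            · rcases Nat.lt_or_ge v 58500 with h | h
              · exact rowsRange_spec E RS 1500 57000 rows_38 v (by omega) (by omega)
              · rcases Nat.lt_or_ge v 60000 with h | h
                · exact rowsRange_spec E RS 1500 58500 rows_39 v (by omega) (by omega)
                · exact rowsRange_spec E RS 1500 60000 rows_40 v (by omega) (by omega)
            · rcases Nat.lt_or_ge v 63000 with h | h
              · exact rowsRange_spec E RS 1500 61500 rows_41 v (by omega) (by omega)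
              · rcases Nat.lt_or_ge v 64500 with h | h
                · exact rowsRange_spec E RS 1500 63000 rows_42 v (by omega) (by omega)
                · exact rowsRange_spec E RS 1500 64500 rows_43 v (by omega) (by omega)
          · rcases Nat.lt_or_ge v 70500 with h | h
            · rcases Nat.lt_or_ge v 67500 with h | h
              · exact rowsRange_spec E RS 1500 66000 rows_44 v (by omega) (by omega)
              · rcases Nat.lt_or_ge v 69000 with h | h
                · exact rowsRange_spec E RS 1500 67500 rows_45 v (by omega) (by omega)
                · exact rowsRange_spec E RS 1500 69000 rows_46 v (by omega) (by omega)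
            · rcases Nat.lt_or_ge v 73500 with h | h
              · rcases Nat.lt_or_ge v 72000 with h | h
                · exact rowsRange_spec E RS 1500 70500 rows_47 v (by omega) (by omega)
                · exact rowsRange_spec E RS 1500 72000 rows_48 v (by omega) (by omega)
              · rcases Nat.lt_or_ge v 75000 with h | h
                · exact rowsRange_spec E RS 1500 73500 rows_49 v (by omega) (by omega)
                · exact rowsRange_spec E RS 1500 75000 rows_50 v (by omega) (by omega)
    · rcases Nat.lt_or_ge v 115500 with h | h
      · rcases Nat.lt_or_ge v 96000 with h | h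
        · rcases Nat.lt_or_ge v 85500 with h | h
          · rcases Nat.lt_or_ge v 81000 with h | h
            · rcases Nat.lt_or_ge v 78000 with h | h
              · exact rowsRange_spec E RS 1500 76500 rows_51 v (by omega) (by omega)
              · rcases Nat.lt_or_ge v 79500 with h | h
                · exact rowsRange_spec E RS 1500 78000 rows_52 v (by omega) (by omega)
                · exact rowsRange_spec E RS 1500 79500 rows_53 v (by omega) (by omega)
            · rcases Nat.lt_or_ge v 82500 with h | h
              · exact rowsRange_spec E RS 1500 81000 rows_54 v (by omega) (by omega)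
              · rcases Nat.lt_or_ge v 84000 with h | h
                · exact rowsRange_spec E RS 1500 82500 rows_55 v (by omega) (by omega)
                · exact rowsRange_spec E RS 1500 84000 rows_56 v (by omega) (by omega)
          · rcases Nat.lt_or_ge v 90000 with h | h
            · rcases Nat.lt_or_ge v 87000 with h | h
              · exact rowsRange_spec E RS 1500 85500 rows_57 v (by omega) (by omega)
              · rcases Nat.lt_or_ge v 88500 with h | h
                · exact rowsRange_spec E RS 1500 87000 rows_58 v (by omega) (by omega)
                · exact rowsRange_spec E RS 1500 88500 rows_59 v (by omega) (by omega)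
            · rcases Nat.lt_or_ge v 93000 with h | h
              · rcases Nat.lt_or_ge v 91500 with h | h
                · exact rowsRange_spec E RS 1500 90000 rows_60 v (by omega) (by omega)
                · exact rowsRange_spec E RS 1500 91500 rows_61 v (by omega) (by omega)
              · rcases Nat.lt_or_ge v 94500 with h | h
                · exact rowsRange_spec E RS 1500 93000 rows_62 v (by omega) (by omega)
                · exact rowsRange_spec E RS 1500 94500 rows_63 v (by omega) (by omega)
        · rcases Nat.lt_or_ge v 105000 with h | h
          · rcases Nat.lt_or_ge v 100500 with h | h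
            · rcases Nat.lt_or_ge v 97500 with h | h
              · exact rowsRange_spec E RS 1500 96000 rows_64 v (by omega) (by omega)
              · rcases Nat.lt_or_ge v 99000 with h | h
                · exact rowsRange_spec E RS 1500 97500 rows_65 v (by omega) (by omega)
                · exact rowsRange_spec E RS 1500 99000 rows_66 v (by omega) (by omega)
            · rcases Nat.lt_or_ge v 102000 with h | h
              · exact rowsRange_spec E RS 1500 100500 rows_67 v (by omega) (by omega)
              · rcases Nat.lt_or_ge v 103500 with h | h
                · exact rowsRange_spec E RS 1500 102000 rows_68 v (by omega) (by omega)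
                · exact rowsRange_spec E RS 1500 103500 rows_69 v (by omega) (by omega)
          · rcases Nat.lt_or_ge v 109500 with h | h
            · rcases Nat.lt_or_ge v 106500 with h | h
              · exact rowsRange_spec E RS 1500 105000 rows_70 v (by omega) (by omega)
              · rcases Nat.lt_or_ge v 108000 with h | h
                · exact rowsRange_spec E RS 1500 106500 rows_71 v (by omega) (by omega)
                · exact rowsRange_spec E RS 1500 108000 rows_72 v (by omega) (by omega)
            · rcases Nat.lt_or_ge v 112500 with h | h
              · rcases Nat.lt_or_ge v 111000 with h | h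
                · exact rowsRange_spec E RS 1500 109500 rows_73 v (by omega) (by omega)
                · exact rowsRange_spec E RS 1500 111000 rows_74 v (by omega) (by omega)
              · rcases Nat.lt_or_ge v 114000 with h | h
                · exact rowsRange_spec E RS 1500 112500 rows_75 v (by omega) (by omega)
                · exact rowsRange_spec E RS 1500 114000 rows_76 v (by omega) (by omega)
      · rcases Nat.lt_or_ge v 135000 with h | h
        · rcases Nat.lt_or_ge v 124500 with h | h
          · rcases Nat.lt_or_ge v 120000 with h | h
            · rcases Nat.lt_or_ge v 117000 with h | h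
              · exact rowsRange_spec E RS 1500 115500 rows_77 v (by omega) (by omega)
              · rcases Nat.lt_or_ge v 118500 with h | h
                · exact rowsRange_spec E RS 1500 117000 rows_78 v (by omega) (by omega)
                · exact rowsRange_spec E RS 1500 118500 rows_79 v (by omega) (by omega)
            · rcases Nat.lt_or_ge v 121500 with h | h
              · exact rowsRange_spec E RS 1500 120000 rows_80 v (by omega) (by omega)
              · rcases Nat.lt_or_ge v 123000 with h | h
                · exact rowsRange_spec E RS 1500 121500 rows_81 v (by omega) (by omega)
                · exact rowsRange_spec E RS 1500 123000 rows_82 v (by omega) (by omega)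
          · rcases Nat.lt_or_ge v 129000 with h | h
            · rcases Nat.lt_or_ge v 126000 with h | h
              · exact rowsRange_spec E RS 1500 124500 rows_83 v (by omega) (by omega)
              · rcases Nat.lt_or_ge v 127500 with h | h
                · exact rowsRange_spec E RS 1500 126000 rows_84 v (by omega) (by omega)
                · exact rowsRange_spec E RS 1500 127500 rows_85 v (by omega) (by omega)
            · rcases Nat.lt_or_ge v 132000 with h | h
              · rcases Nat.lt_or_ge v 130500 with h | h
                · exact rowsRange_spec E RS 1500 129000 rows_86 v (by omega) (by omega)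
                · exact rowsRange_spec E RS 1500 130500 rows_87 v (by omega) (by omega)
              · rcases Nat.lt_or_ge v 133500 with h | h
                · exact rowsRange_spec E RS 1500 132000 rows_88 v (by omega) (by omega)
                · exact rowsRange_spec E RS 1500 133500 rows_89 v (by omega) (by omega)
        · rcases Nat.lt_or_ge v 144000 with h | h
          · rcases Nat.lt_or_ge v 139500 with h | h
            · rcases Nat.lt_or_ge v 136500 with h | h
              · exact rowsRange_spec E RS 1500 135000 rows_90 v (by omega) (by omega)
              · rcases Nat.lt_or_ge v 138000 with h | h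
                · exact rowsRange_spec E RS 1500 136500 rows_91 v (by omega) (by omega)
                · exact rowsRange_spec E RS 1500 138000 rows_92 v (by omega) (by omega)
            · rcases Nat.lt_or_ge v 141000 with h | h
              · exact rowsRange_spec E RS 1500 139500 rows_93 v (by omega) (by omega)
              · rcases Nat.lt_or_ge v 142500 with h | h
                · exact rowsRange_spec E RS 1500 141000 rows_94 v (by omega) (by omega)
                · exact rowsRange_spec E RS 1500 142500 rows_95 v (by omega) (by omega)
          · rcases Nat.lt_or_ge v 148500 with h | h
            · rcases Nat.lt_or_ge v 145500 with h | h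
              · exact rowsRange_spec E RS 1500 144000 rows_96 v (by omega) (by omega)
              · rcases Nat.lt_or_ge v 147000 with h | h
                · exact rowsRange_spec E RS 1500 145500 rows_97 v (by omega) (by omega)
                · exact rowsRange_spec E RS 1500 147000 rows_98 v (by omega) (by omega)
            · rcases Nat.lt_or_ge v 151500 with h | h
              · rcases Nat.lt_or_ge v 150000 with h | h
                · exact rowsRange_spec E RS 1500 148500 rows_99 v (by omega) (by omega)
                · exact rowsRange_spec E RS 1500 150000 rows_100 v (by omega) (by omega)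
              · rcases Nat.lt_or_ge v 153000 with h | h
                · exact rowsRange_spec E RS 1500 151500 rows_101 v (by omega) (by omega)
                · exact rowsRange_spec E RS 1500 153000 rows_102 v (by omega) (by omega)
  · rcases Nat.lt_or_ge v 231000 with h | h
    · rcases Nat.lt_or_ge v 192000 with h | h
      · rcases Nat.lt_or_ge v 172500 with h | h
        · rcases Nat.lt_or_ge v 163500 with h | h
          · rcases Nat.lt_or_ge v 159000 with h | h
            · rcases Nat.lt_or_ge v 156000 with h | h
              · exact rowsRange_spec E RS 1500 154500 rows_103 v (by omega) (by omega)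
              · rcases Nat.lt_or_ge v 157500 with h | h
                · exact rowsRange_spec E RS 1500 156000 rows_104 v (by omega) (by omega)
                · exact rowsRange_spec E RS 1500 157500 rows_105 v (by omega) (by omega)
            · rcases Nat.lt_or_ge v 160500 with h | h
              · exact rowsRange_spec E RS 1500 159000 rows_106 v (by omega) (by omega)
              · rcases Nat.lt_or_ge v 162000 with h | h
                · exact rowsRange_spec E RS 1500 160500 rows_107 v (by omega) (by omega)
                · exact rowsRange_spec E RS 1500 162000 rows_108 v (by omega) (by omega)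
          · rcases Nat.lt_or_ge v 168000 with h | h
            · rcases Nat.lt_or_ge v 165000 with h | h
              · exact rowsRange_spec E RS 1500 163500 rows_109 v (by omega) (by omega)
              · rcases Nat.lt_or_ge v 166500 with h | h
                · exact rowsRange_spec E RS 1500 165000 rows_110 v (by omega) (by omega)
                · exact rowsRange_spec E RS 1500 166500 rows_111 v (by omega) (by omega)
            · rcases Nat.lt_or_ge v 169500 with h | h
              · exact rowsRange_spec E RS 1500 168000 rows_112 v (by omega) (by omega)
              · rcases Nat.lt_or_ge v 171000 with h | h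
                · exact rowsRange_spec E RS 1500 169500 rows_113 v (by omega) (by omega)
                · exact rowsRange_spec E RS 1500 171000 rows_114 v (by omega) (by omega)
        · rcases Nat.lt_or_ge v 181500 with h | h
          · rcases Nat.lt_or_ge v 177000 with h | h
            · rcases Nat.lt_or_ge v 174000 with h | h
              · exact rowsRange_spec E RS 1500 172500 rows_115 v (by omega) (by omega)
              · rcases Nat.lt_or_ge v 175500 with h | h
                · exact rowsRange_spec E RS 1500 174000 rows_116 v (by omega) (by omega)
                · exact rowsRange_spec E RS 1500 175500 rows_117 v (by omega) (by omega)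
            · rcases Nat.lt_or_ge v 178500 with h | h
              · exact rowsRange_spec E RS 1500 177000 rows_118 v (by omega) (by omega)
              · rcases Nat.lt_or_ge v 180000 with h | h
                · exact rowsRange_spec E RS 1500 178500 rows_119 v (by omega) (by omega)
                · exact rowsRange_spec E RS 1500 180000 rows_120 v (by omega) (by omega)
          · rcases Nat.lt_or_ge v 186000 with h | h
            · rcases Nat.lt_or_ge v 183000 with h | h
              · exact rowsRange_spec E RS 1500 181500 rows_121 v (by omega) (by omega)
              · rcases Nat.lt_or_ge v 184500 with h | h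
                · exact rowsRange_spec E RS 1500 183000 rows_122 v (by omega) (by omega)
                · exact rowsRange_spec E RS 1500 184500 rows_123 v (by omega) (by omega)
            · rcases Nat.lt_or_ge v 189000 with h | h
              · rcases Nat.lt_or_ge v 187500 with h | h
                · exact rowsRange_spec E RS 1500 186000 rows_124 v (by omega) (by omega)
                · exact rowsRange_spec E RS 1500 187500 rows_125 v (by omega) (by omega)
              · rcases Nat.lt_or_ge v 190500 with h | h
                · exact rowsRange_spec E RS 1500 189000 rows_126 v (by omega) (by omega)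
                · exact rowsRange_spec E RS 1500 190500 rows_127 v (by omega) (by omega)
      · rcases Nat.lt_or_ge v 211500 with h | h
        · rcases Nat.lt_or_ge v 201000 with h | h
          · rcases Nat.lt_or_ge v 196500 with h | h
            · rcases Nat.lt_or_ge v 193500 with h | h
              · exact rowsRange_spec E RS 1500 192000 rows_128 v (by omega) (by omega)
              · rcases Nat.lt_or_ge v 195000 with h | h
                · exact rowsRange_spec E RS 1500 193500 rows_129 v (by omega) (by omega)
                · exact rowsRange_spec E RS 1500 195000 rows_130 v (by omega) (by omega)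
            · rcases Nat.lt_or_ge v 198000 with h | h
              · exact rowsRange_spec E RS 1500 196500 rows_131 v (by omega) (by omega)
              · rcases Nat.lt_or_ge v 199500 with h | h
                · exact rowsRange_spec E RS 1500 198000 rows_132 v (by omega) (by omega)
                · exact rowsRange_spec E RS 1500 199500 rows_133 v (by omega) (by omega)
          · rcases Nat.lt_or_ge v 205500 with h | h
            · rcases Nat.lt_or_ge v 202500 with h | h
              · exact rowsRange_spec E RS 1500 201000 rows_134 v (by omega) (by omega)
              · rcases Nat.lt_or_ge v 204000 with h | h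
                · exact rowsRange_spec E RS 1500 202500 rows_135 v (by omega) (by omega)
                · exact rowsRange_spec E RS 1500 204000 rows_136 v (by omega) (by omega)
            · rcases Nat.lt_or_ge v 208500 with h | h
              · rcases Nat.lt_or_ge v 207000 with h | h
                · exact rowsRange_spec E RS 1500 205500 rows_137 v (by omega) (by omega)
                · exact rowsRange_spec E RS 1500 207000 rows_138 v (by omega) (by omega)
              · rcases Nat.lt_or_ge v 210000 with h | h
                · exact rowsRange_spec E RS 1500 208500 rows_139 v (by omega) (by omega)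
                · exact rowsRange_spec E RS 1500 210000 rows_140 v (by omega) (by omega)
        · rcases Nat.lt_or_ge v 220500 with h | h
          · rcases Nat.lt_or_ge v 216000 with h | h
            · rcases Nat.lt_or_ge v 213000 with h | h
              · exact rowsRange_spec E RS 1500 211500 rows_141 v (by omega) (by omega)
              · rcases Nat.lt_or_ge v 214500 with h | h
                · exact rowsRange_spec E RS 1500 213000 rows_142 v (by omega) (by omega)
                · exact rowsRange_spec E RS 1500 214500 rows_143 v (by omega) (by omega)
            · rcases Nat.lt_or_ge v 217500 with h | h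
              · exact rowsRange_spec E RS 1500 216000 rows_144 v (by omega) (by omega)
              · rcases Nat.lt_or_ge v 219000 with h | h
                · exact rowsRange_spec E RS 1500 217500 rows_145 v (by omega) (by omega)
                · exact rowsRange_spec E RS 1500 219000 rows_146 v (by omega) (by omega)
          · rcases Nat.lt_or_ge v 225000 with h | h
            · rcases Nat.lt_or_ge v 222000 with h | h
              · exact rowsRange_spec E RS 1500 220500 rows_147 v (by omega) (by omega)
              · rcases Nat.lt_or_ge v 223500 with h | h
                · exact rowsRange_spec E RS 1500 222000 rows_148 v (by omega) (by omega)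
                · exact rowsRange_spec E RS 1500 223500 rows_149 v (by omega) (by omega)
            · rcases Nat.lt_or_ge v 228000 with h | h
              · rcases Nat.lt_or_ge v 226500 with h | h
                · exact rowsRange_spec E RS 1500 225000 rows_150 v (by omega) (by omega)
                · exact rowsRange_spec E RS 1500 226500 rows_151 v (by omega) (by omega)
              · rcases Nat.lt_or_ge v 229500 with h | h
                · exact rowsRange_spec E RS 1500 228000 rows_152 v (by omega) (by omega)
                · exact rowsRange_spec E RS 1500 229500 rows_153 v (by omega) (by omega)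
    · rcases Nat.lt_or_ge v 270000 with h | h
      · rcases Nat.lt_or_ge v 250500 with h | h
        · rcases Nat.lt_or_ge v 240000 with h | h
          · rcases Nat.lt_or_ge v 235500 with h | h
            · rcases Nat.lt_or_ge v 232500 with h | h
              · exact rowsRange_spec E RS 1500 231000 rows_154 v (by omega) (by omega)
              · rcases Nat.lt_or_ge v 234000 with h | h
                · exact rowsRange_spec E RS 1500 232500 rows_155 v (by omega) (by omega)
                · exact rowsRange_spec E RS 1500 234000 rows_156 v (by omega) (by omega)
            · rcases Nat.lt_or_ge v 237000 with h | h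
              · exact rowsRange_spec E RS 1500 235500 rows_157 v (by omega) (by omega)
              · rcases Nat.lt_or_ge v 238500 with h | h
                · exact rowsRange_spec E RS 1500 237000 rows_158 v (by omega) (by omega)
                · exact rowsRange_spec E RS 1500 238500 rows_159 v (by omega) (by omega)
          · rcases Nat.lt_or_ge v 244500 with h | h
            · rcases Nat.lt_or_ge v 241500 with h | h
              · exact rowsRange_spec E RS 1500 240000 rows_160 v (by omega) (by omega)
              · rcases Nat.lt_or_ge v 243000 with h | h
                · exact rowsRange_spec E RS 1500 241500 rows_161 v (by omega) (by omega)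
                · exact rowsRange_spec E RS 1500 243000 rows_162 v (by omega) (by omega)
            · rcases Nat.lt_or_ge v 247500 with h | h
              · rcases Nat.lt_or_ge v 246000 with h | h
                · exact rowsRange_spec E RS 1500 244500 rows_163 v (by omega) (by omega)
                · exact rowsRange_spec E RS 1500 246000 rows_164 v (by omega) (by omega)
              · rcases Nat.lt_or_ge v 249000 with h | h
                · exact rowsRange_spec E RS 1500 247500 rows_165 v (by omega) (by omega)
                · exact rowsRange_spec E RS 1500 249000 rows_166 v (by omega) (by omega)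
        · rcases Nat.lt_or_ge v 259500 with h | h
          · rcases Nat.lt_or_ge v 255000 with h | h
            · rcases Nat.lt_or_ge v 252000 with h | h
              · exact rowsRange_spec E RS 1500 250500 rows_167 v (by omega) (by omega)
              · rcases Nat.lt_or_ge v 253500 with h | h
                · exact rowsRange_spec E RS 1500 252000 rows_168 v (by omega) (by omega)
                · exact rowsRange_spec E RS 1500 253500 rows_169 v (by omega) (by omega)
            · rcases Nat.lt_or_ge v 256500 with h | h
              · exact rowsRange_spec E RS 1500 255000 rows_170 v (by omega) (by omega)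
              · rcases Nat.lt_or_ge v 258000 with h | h
                · exact rowsRange_spec E RS 1500 256500 rows_171 v (by omega) (by omega)
                · exact rowsRange_spec E RS 1500 258000 rows_172 v (by omega) (by omega)
          · rcases Nat.lt_or_ge v 264000 with h | h
            · rcases Nat.lt_or_ge v 261000 with h | h
              · exact rowsRange_spec E RS 1500 259500 rows_173 v (by omega) (by omega)
              · rcases Nat.lt_or_ge v 262500 with h | h
                · exact rowsRange_spec E RS 1500 261000 rows_174 v (by omega) (by omega)
                · exact rowsRange_spec E RS 1500 262500 rows_175 v (by omega) (by omega)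
            · rcases Nat.lt_or_ge v 267000 with h | h
              · rcases Nat.lt_or_ge v 265500 with h | h
                · exact rowsRange_spec E RS 1500 264000 rows_176 v (by omega) (by omega)
                · exact rowsRange_spec E RS 1500 265500 rows_177 v (by omega) (by omega)
              · rcases Nat.lt_or_ge v 268500 with h | h
                · exact rowsRange_spec E RS 1500 267000 rows_178 v (by omega) (by omega)
                · exact rowsRange_spec E RS 1500 268500 rows_179 v (by omega) (by omega)
      · rcases Nat.lt_or_ge v 289500 with h | h
        · rcases Nat.lt_or_ge v 279000 with h | h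
          · rcases Nat.lt_or_ge v 274500 with h | h
            · rcases Nat.lt_or_ge v 271500 with h | h
              · exact rowsRange_spec E RS 1500 270000 rows_180 v (by omega) (by omega)
              · rcases Nat.lt_or_ge v 273000 with h | h
                · exact rowsRange_spec E RS 1500 271500 rows_181 v (by omega) (by omega)
                · exact rowsRange_spec E RS 1500 273000 rows_182 v (by omega) (by omega)
            · rcases Nat.lt_or_ge v 276000 with h | h
              · exact rowsRange_spec E RS 1500 274500 rows_183 v (by omega) (by omega)
              · rcases Nat.lt_or_ge v 277500 with h | h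
                · exact rowsRange_spec E RS 1500 276000 rows_184 v (by omega) (by omega)
                · exact rowsRange_spec E RS 1500 277500 rows_185 v (by omega) (by omega)
          · rcases Nat.lt_or_ge v 283500 with h | h
            · rcases Nat.lt_or_ge v 280500 with h | h
              · exact rowsRange_spec E RS 1500 279000 rows_186 v (by omega) (by omega)
              · rcases Nat.lt_or_ge v 282000 with h | h
                · exact rowsRange_spec E RS 1500 280500 rows_187 v (by omega) (by omega)
                · exact rowsRange_spec E RS 1500 282000 rows_188 v (by omega) (by omega)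
            · rcases Nat.lt_or_ge v 286500 with h | h
              · rcases Nat.lt_or_ge v 285000 with h | h
                · exact rowsRange_spec E RS 1500 283500 rows_189 v (by omega) (by omega)
                · exact rowsRange_spec E RS 1500 285000 rows_190 v (by omega) (by omega)
              · rcases Nat.lt_or_ge v 288000 with h | h
                · exact rowsRange_spec E RS 1500 286500 rows_191 v (by omega) (by omega)
                · exact rowsRange_spec E RS 1500 288000 rows_192 v (by omega) (by omega)
        · rcases Nat.lt_or_ge v 298500 with h | h
          · rcases Nat.lt_or_ge v 294000 with h | h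
            · rcases Nat.lt_or_ge v 291000 with h | h
              · exact rowsRange_spec E RS 1500 289500 rows_193 v (by omega) (by omega)
              · rcases Nat.lt_or_ge v 292500 with h | h
                · exact rowsRange_spec E RS 1500 291000 rows_194 v (by omega) (by omega)
                · exact rowsRange_spec E RS 1500 292500 rows_195 v (by omega) (by omega)
            · rcases Nat.lt_or_ge v 295500 with h | h
              · exact rowsRange_spec E RS 1500 294000 rows_196 v (by omega) (by omega)
              · rcases Nat.lt_or_ge v 297000 with h | h
                · exact rowsRange_spec E RS 1500 295500 rows_197 v (by omega) (by omega)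
                · exact rowsRange_spec E RS 1500 297000 rows_198 v (by omega) (by omega)
          · rcases Nat.lt_or_ge v 303000 with h | h
            · rcases Nat.lt_or_ge v 300000 with h | h
              · exact rowsRange_spec E RS 1500 298500 rows_199 v (by omega) (by omega)
              · rcases Nat.lt_or_ge v 301500 with h | h
                · exact rowsRange_spec E RS 1500 300000 rows_200 v (by omega) (by omega)
                · exact rowsRange_spec E RS 1500 301500 rows_201 v (by omega) (by omega)
            · rcases Nat.lt_or_ge v 306000 with h | h
              · rcases Nat.lt_or_ge v 304500 with h | h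
                · exact rowsRange_spec E RS 1500 303000 rows_202 v (by omega) (by omega)
                · exact rowsRange_spec E RS 1500 304500 rows_203 v (by omega) (by omega)
              · rcases Nat.lt_or_ge v 307500 with h | h
                · exact rowsRange_spec E RS 1500 306000 rows_204 v (by omega) (by omega)
                · exact rowsRange_spec E RS 104 307500 rows_205 v (by omega) (by omega)

theorem cb_0 : cntBits RS 0 = 0 := rfl

theorem cb_1 : cntBits RS 20000 = 19362 := by
  have h := cntBits_step RS 0 20000
  rw [cb_0, cnt_0] at h
  exact h

theorem cb_2 : cntBits RS 40000 = 39348 := by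
  have h := cntBits_step RS 20000 20000
  rw [cb_1, cnt_1] at h
  exact h

theorem cb_3 : cntBits RS 60000 = 59348 := by
  have h := cntBits_step RS 40000 20000
  rw [cb_2, cnt_2] at h
  exact h

theorem cb_4 : cntBits RS 80000 = 79342 := by
  have h := cntBits_step RS 60000 20000
  rw [cb_3, cnt_3] at h
  exact h

theorem cb_5 : cntBits RS 100000 = 99342 := by
  have h := cntBits_step RS 80000 20000
  rw [cb_4, cnt_4] at h
  exact h

theorem cb_6 : cntBits RS 120000 = 119342 := by
  have h := cntBits_step RS 100000 20000
  rw [cb_5, cnt_5] at h
  exact h

theorem cb_7 : cntBits RS 140000 = 139342 := by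
  have h := cntBits_step RS 120000 20000
  rw [cb_6, cnt_6] at h
  exact h

theorem cb_8 : cntBits RS 160000 = 159332 := by
  have h := cntBits_step RS 140000 20000
  rw [cb_7, cnt_7] at h
  exact h

theorem cb_9 : cntBits RS 180000 = 179332 := by
  have h := cntBits_step RS 160000 20000
  rw [cb_8, cnt_8] at h
  exact h

theorem cb_10 : cntBits RS 200000 = 199332 := by
  have h := cntBits_step RS 180000 20000
  rw [cb_9, cnt_9] at h
  exact h

theorem cb_11 : cntBits RS 220000 = 219332 := by
  have h := cntBits_step RS 200000 20000
  rw [cb_10, cnt_10] at h
  exact h

theorem cb_12 : cntBits RS 240000 = 239332 := by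
  have h := cntBits_step RS 220000 20000
  rw [cb_11, cnt_11] at h
  exact h

theorem cb_13 : cntBits RS 260000 = 259332 := by
  have h := cntBits_step RS 240000 20000
  rw [cb_12, cnt_12] at h
  exact h

theorem cb_14 : cntBits RS 280000 = 279332 := by
  have h := cntBits_step RS 260000 20000
  rw [cb_13, cnt_13] at h
  exact h

theorem cb_15 : cntBits RS 300000 = 299332 := by
  have h := cntBits_step RS 280000 20000
  rw [cb_14, cnt_14] at h
  exact h

theorem cb_16 : cntBits RS 307604 = 306936 := by
  have h := cntBits_step RS 300000 7604
  rw [cb_15, cnt_15] at h
  exact h

theorem set_ok : setOK 307604 306936 RS = true :=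
  setOK_of_parts cb_16 set_zero set_lt

theorem relf_0 : ∀ v, v < 306936 → W_0 v = v := by
  intro v hv
  rcases Nat.lt_or_ge v 200000 with h | h
  · rcases Nat.lt_or_ge v 100000 with h | h
    · exact fixPtsF_spec W_0 100000 0 relc_0_0 v (by omega) (by omega)
    · exact fixPtsF_spec W_0 100000 100000 relc_0_1 v (by omega) (by omega)
  · rcases Nat.lt_or_ge v 300000 with h | h
    · exact fixPtsF_spec W_0 100000 200000 relc_0_2 v (by omega) (by omega)
    · exact fixPtsF_spec W_0 6936 300000 relc_0_3 v (by omega) (by omega)

set_option maxRecDepth 1000000 in
theorem walk_0 : ∀ v, walkT ctF (D.wlen 0) (D.wordP 0) v = W_0 v := by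
  intro v
  simp only [W_0, forceL_eq]
  rfl

theorem relw_0 : ∀ v, v < 306936 → walkT ctF (D.wlen 0) (D.wordP 0) v = v := by
  intro v hv
  rw [walk_0]
  exact relf_0 v hv

theorem relf_1 : ∀ v, v < 306936 → W_1 v = v := by
  intro v hv
  rcases Nat.lt_or_ge v 166665 with h | h
  · rcases Nat.lt_or_ge v 66666 with h | h
    · rcases Nat.lt_or_ge v 33333 with h | h
      · exact fixPtsF_spec W_1 33333 0 relc_1_0 v (by omega) (by omega)
      · exact fixPtsF_spec W_1 33333 33333 relc_1_1 v (by omega) (by omega)
    · rcases Nat.lt_or_ge v 99999 with h | h
      · exact fixPtsF_spec W_1 33333 66666 relc_1_2 v (by omega) (by omega)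
      · rcases Nat.lt_or_ge v 133332 with h | h
        · exact fixPtsF_spec W_1 33333 99999 relc_1_3 v (by omega) (by omega)
        · exact fixPtsF_spec W_1 33333 133332 relc_1_4 v (by omega) (by omega)
  · rcases Nat.lt_or_ge v 233331 with h | h
    · rcases Nat.lt_or_ge v 199998 with h | h
      · exact fixPtsF_spec W_1 33333 166665 relc_1_5 v (by omega) (by omega)
      · exact fixPtsF_spec W_1 33333 199998 relc_1_6 v (by omega) (by omega)
    · rcases Nat.lt_or_ge v 266664 with h | h
      · exact fixPtsF_spec W_1 33333 233331 relc_1_7 v (by omega) (by omega)
      · rcases Nat.lt_or_ge v 299997 with h | h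
        · exact fixPtsF_spec W_1 33333 266664 relc_1_8 v (by omega) (by omega)
        · exact fixPtsF_spec W_1 6939 299997 relc_1_9 v (by omega) (by omega)

set_option maxRecDepth 1000000 in
theorem walk_1 : ∀ v, walkT ctF (D.wlen 1) (D.wordP 1) v = W_1 v := by
  intro v
  simp only [W_1, forceL_eq]
  rfl

theorem relw_1 : ∀ v, v < 306936 → walkT ctF (D.wlen 1) (D.wordP 1) v = v := by
  intro v hv
  rw [walk_1]
  exact relf_1 v hv

theorem relf_2 : ∀ v, v < 306936 → W_2 v = v := by
  intro v hv
  rcases Nat.lt_or_ge v 150000 with h | h
  · rcases Nat.lt_or_ge v 50000 with h | h
    · exact fixPtsF_spec W_2 50000 0 relc_2_0 v (by omega) (by omega)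
    · rcases Nat.lt_or_ge v 100000 with h | h
      · exact fixPtsF_spec W_2 50000 50000 relc_2_1 v (by omega) (by omega)
      · exact fixPtsF_spec W_2 50000 100000 relc_2_2 v (by omega) (by omega)
  · rcases Nat.lt_or_ge v 250000 with h | h
    · rcases Nat.lt_or_ge v 200000 with h | h
      · exact fixPtsF_spec W_2 50000 150000 relc_2_3 v (by omega) (by omega)
      · exact fixPtsF_spec W_2 50000 200000 relc_2_4 v (by omega) (by omega)
    · rcases Nat.lt_or_ge v 300000 with h | h
      · exact fixPtsF_spec W_2 50000 250000 relc_2_5 v (by omega) (by omega)
      · exact fixPtsF_spec W_2 6936 300000 relc_2_6 v (by omega) (by omega)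

set_option maxRecDepth 1000000 in
theorem walk_2 : ∀ v, walkT ctF (D.wlen 2) (D.wordP 2) v = W_2 v := by
  intro v
  simp only [W_2, forceL_eq]
  rfl

theorem relw_2 : ∀ v, v < 306936 → walkT ctF (D.wlen 2) (D.wordP 2) v = v := by
  intro v hv
  rw [walk_2]
  exact relf_2 v hv

theorem relf_3 : ∀ v, v < 306936 → W_3 v = v := by
  intro v hv
  rcases Nat.lt_or_ge v 150000 with h | h
  · rcases Nat.lt_or_ge v 50000 with h | h
    · exact fixPtsF_spec W_3 50000 0 relc_3_0 v (by omega) (by omega)
    · rcases Nat.lt_or_ge v 100000 with h | h
      · exact fixPtsF_spec W_3 50000 50000 relc_3_1 v (by omega) (by omega)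
      · exact fixPtsF_spec W_3 50000 100000 relc_3_2 v (by omega) (by omega)
  · rcases Nat.lt_or_ge v 250000 with h | h
    · rcases Nat.lt_or_ge v 200000 with h | h
      · exact fixPtsF_spec W_3 50000 150000 relc_3_3 v (by omega) (by omega)
      · exact fixPtsF_spec W_3 50000 200000 relc_3_4 v (by omega) (by omega)
    · rcases Nat.lt_or_ge v 300000 with h | h
      · exact fixPtsF_spec W_3 50000 250000 relc_3_5 v (by omega) (by omega)
      · exact fixPtsF_spec W_3 6936 300000 relc_3_6 v (by omega) (by omega)

set_option maxRecDepth 1000000 in
theorem walk_3 : ∀ v, walkT ctF (D.wlen 3) (D.wordP 3) v = W_3 v := by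
  intro v
  simp only [W_3, forceL_eq]
  rfl

theorem relw_3 : ∀ v, v < 306936 → walkT ctF (D.wlen 3) (D.wordP 3) v = v := by
  intro v hv
  rw [walk_3]
  exact relf_3 v hv

theorem relf_4 : ∀ v, v < 306936 → W_4 v = v := by
  intro v hv
  rcases Nat.lt_or_ge v 150000 with h | h
  · rcases Nat.lt_or_ge v 50000 with h | h
    · exact fixPtsF_spec W_4 50000 0 relc_4_0 v (by omega) (by omega)
    · rcases Nat.lt_or_ge v 100000 with h | h
      · exact fixPtsF_spec W_4 50000 50000 relc_4_1 v (by omega) (by omega)
      · exact fixPtsF_spec W_4 50000 100000 relc_4_2 v (by omega) (by omega)
  · rcases Nat.lt_or_ge v 250000 with h | h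
    · rcases Nat.lt_or_ge v 200000 with h | h
      · exact fixPtsF_spec W_4 50000 150000 relc_4_3 v (by omega) (by omega)
      · exact fixPtsF_spec W_4 50000 200000 relc_4_4 v (by omega) (by omega)
    · rcases Nat.lt_or_ge v 300000 with h | h
      · exact fixPtsF_spec W_4 50000 250000 relc_4_5 v (by omega) (by omega)
      · exact fixPtsF_spec W_4 6936 300000 relc_4_6 v (by omega) (by omega)

set_option maxRecDepth 1000000 in
theorem walk_4 : ∀ v, walkT ctF (D.wlen 4) (D.wordP 4) v = W_4 v := by
  intro v
  simp only [W_4, forceL_eq]
  rfl

theorem relw_4 : ∀ v, v < 306936 → walkT ctF (D.wlen 4) (D.wordP 4) v = v := by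
  intro v hv
  rw [walk_4]
  exact relf_4 v hv

theorem relf_5 : ∀ v, v < 306936 → W_5 v = v := by
  intro v hv
  rcases Nat.lt_or_ge v 150000 with h | h
  · rcases Nat.lt_or_ge v 50000 with h | h
    · exact fixPtsF_spec W_5 50000 0 relc_5_0 v (by omega) (by omega)
    · rcases Nat.lt_or_ge v 100000 with h | h
      · exact fixPtsF_spec W_5 50000 50000 relc_5_1 v (by omega) (by omega)
      · exact fixPtsF_spec W_5 50000 100000 relc_5_2 v (by omega) (by omega)
  · rcases Nat.lt_or_ge v 250000 with h | h
    · rcases Nat.lt_or_ge v 200000 with h | h
      · exact fixPtsF_spec W_5 50000 150000 relc_5_3 v (by omega) (by omega)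
      · exact fixPtsF_spec W_5 50000 200000 relc_5_4 v (by omega) (by omega)
    · rcases Nat.lt_or_ge v 300000 with h | h
      · exact fixPtsF_spec W_5 50000 250000 relc_5_5 v (by omega) (by omega)
      · exact fixPtsF_spec W_5 6936 300000 relc_5_6 v (by omega) (by omega)

set_option maxRecDepth 1000000 in
theorem walk_5 : ∀ v, walkT ctF (D.wlen 5) (D.wordP 5) v = W_5 v := by
  intro v
  simp only [W_5, forceL_eq]
  rfl

theorem relw_5 : ∀ v, v < 306936 → walkT ctF (D.wlen 5) (D.wordP 5) v = v := by
  intro v hv
  rw [walk_5]
  exact relf_5 v hv

theorem relf_6 : ∀ v, v < 306936 → W_6 v = v := by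
  intro v hv
  rcases Nat.lt_or_ge v 150000 with h | h
  · rcases Nat.lt_or_ge v 50000 with h | h
    · exact fixPtsF_spec W_6 50000 0 relc_6_0 v (by omega) (by omega)
    · rcases Nat.lt_or_ge v 100000 with h | h
      · exact fixPtsF_spec W_6 50000 50000 relc_6_1 v (by omega) (by omega)
      · exact fixPtsF_spec W_6 50000 100000 relc_6_2 v (by omega) (by omega)
  · rcases Nat.lt_or_ge v 250000 with h | h
    · rcases Nat.lt_or_ge v 200000 with h | h
      · exact fixPtsF_spec W_6 50000 150000 relc_6_3 v (by omega) (by omega)
      · exact fixPtsF_spec W_6 50000 200000 relc_6_4 v (by omega) (by omega)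
    · rcases Nat.lt_or_ge v 300000 with h | h
      · exact fixPtsF_spec W_6 50000 250000 relc_6_5 v (by omega) (by omega)
      · exact fixPtsF_spec W_6 6936 300000 relc_6_6 v (by omega) (by omega)

set_option maxRecDepth 1000000 in
theorem walk_6 : ∀ v, walkT ctF (D.wlen 6) (D.wordP 6) v = W_6 v := by
  intro v
  simp only [W_6, forceL_eq]
  rfl

theorem relw_6 : ∀ v, v < 306936 → walkT ctF (D.wlen 6) (D.wordP 6) v = v := by
  intro v hv
  rw [walk_6]
  exact relf_6 v hv

theorem relf_7 : ∀ v, v < 306936 → W_7 v = v := by
  intro v hv
  rcases Nat.lt_or_ge v 150000 with h | h
  · rcases Nat.lt_or_ge v 50000 with h | h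
    · exact fixPtsF_spec W_7 50000 0 relc_7_0 v (by omega) (by omega)
    · rcases Nat.lt_or_ge v 100000 with h | h
      · exact fixPtsF_spec W_7 50000 50000 relc_7_1 v (by omega) (by omega)
      · exact fixPtsF_spec W_7 50000 100000 relc_7_2 v (by omega) (by omega)
  · rcases Nat.lt_or_ge v 250000 with h | h
    · rcases Nat.lt_or_ge v 200000 with h | h
      · exact fixPtsF_spec W_7 50000 150000 relc_7_3 v (by omega) (by omega)
      · exact fixPtsF_spec W_7 50000 200000 relc_7_4 v (by omega) (by omega)
    · rcases Nat.lt_or_ge v 300000 with h | h
      · exact fixPtsF_spec W_7 50000 250000 relc_7_5 v (by omega) (by omega)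
      · exact fixPtsF_spec W_7 6936 300000 relc_7_6 v (by omega) (by omega)

set_option maxRecDepth 1000000 in
theorem walk_7 : ∀ v, walkT ctF (D.wlen 7) (D.wordP 7) v = W_7 v := by
  intro v
  simp only [W_7, forceL_eq]
  rfl

theorem relw_7 : ∀ v, v < 306936 → walkT ctF (D.wlen 7) (D.wordP 7) v = v := by
  intro v hv
  rw [walk_7]
  exact relf_7 v hv

theorem relf_8 : ∀ v, v < 306936 → W_8 v = v := by
  intro v hv
  rcases Nat.lt_or_ge v 166665 with h | h
  · rcases Nat.lt_or_ge v 66666 with h | h
    · rcases Nat.lt_or_ge v 33333 with h | h
      · exact fixPtsF_spec W_8 33333 0 relc_8_0 v (by omega) (by omega)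
      · exact fixPtsF_spec W_8 33333 33333 relc_8_1 v (by omega) (by omega)
    · rcases Nat.lt_or_ge v 99999 with h | h
      · exact fixPtsF_spec W_8 33333 66666 relc_8_2 v (by omega) (by omega)
      · rcases Nat.lt_or_ge v 133332 with h | h
        · exact fixPtsF_spec W_8 33333 99999 relc_8_3 v (by omega) (by omega)
        · exact fixPtsF_spec W_8 33333 133332 relc_8_4 v (by omega) (by omega)
  · rcases Nat.lt_or_ge v 233331 with h | h
    · rcases Nat.lt_or_ge v 199998 with h | h
      · exact fixPtsF_spec W_8 33333 166665 relc_8_5 v (by omega) (by omega)
      · exact fixPtsF_spec W_8 33333 199998 relc_8_6 v (by omega) (by omega)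
    · rcases Nat.lt_or_ge v 266664 with h | h
      · exact fixPtsF_spec W_8 33333 233331 relc_8_7 v (by omega) (by omega)
      · rcases Nat.lt_or_ge v 299997 with h | h
        · exact fixPtsF_spec W_8 33333 266664 relc_8_8 v (by omega) (by omega)
        · exact fixPtsF_spec W_8 6939 299997 relc_8_9 v (by omega) (by omega)

set_option maxRecDepth 1000000 in
theorem walk_8 : ∀ v, walkT ctF (D.wlen 8) (D.wordP 8) v = W_8 v := by
  intro v
  simp only [W_8, forceL_eq]
  rfl

theorem relw_8 : ∀ v, v < 306936 → walkT ctF (D.wlen 8) (D.wordP 8) v = v := by
  intro v hv
  rw [walk_8]
  exact relf_8 v hv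

theorem relf_9 : ∀ v, v < 306936 → W_9 v = v := by
  intro v hv
  rcases Nat.lt_or_ge v 150000 with h | h
  · rcases Nat.lt_or_ge v 50000 with h | h
    · exact fixPtsF_spec W_9 50000 0 relc_9_0 v (by omega) (by omega)
    · rcases Nat.lt_or_ge v 100000 with h | h
      · exact fixPtsF_spec W_9 50000 50000 relc_9_1 v (by omega) (by omega)
      · exact fixPtsF_spec W_9 50000 100000 relc_9_2 v (by omega) (by omega)
  · rcases Nat.lt_or_ge v 250000 with h | h
    · rcases Nat.lt_or_ge v 200000 with h | h
      · exact fixPtsF_spec W_9 50000 150000 relc_9_3 v (by omega) (by omega)
      · exact fixPtsF_spec W_9 50000 200000 relc_9_4 v (by omega) (by omega)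
    · rcases Nat.lt_or_ge v 300000 with h | h
      · exact fixPtsF_spec W_9 50000 250000 relc_9_5 v (by omega) (by omega)
      · exact fixPtsF_spec W_9 6936 300000 relc_9_6 v (by omega) (by omega)

set_option maxRecDepth 1000000 in
theorem walk_9 : ∀ v, walkT ctF (D.wlen 9) (D.wordP 9) v = W_9 v := by
  intro v
  simp only [W_9, forceL_eq]
  rfl

theorem relw_9 : ∀ v, v < 306936 → walkT ctF (D.wlen 9) (D.wordP 9) v = v := by
  intro v hv
  rw [walk_9]
  exact relf_9 v hv

theorem relf_10 : ∀ v, v < 306936 → W_10 v = v := by
  intro v hv
  rcases Nat.lt_or_ge v 150000 with h | h
  · rcases Nat.lt_or_ge v 50000 with h | h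
    · exact fixPtsF_spec W_10 50000 0 relc_10_0 v (by omega) (by omega)
    · rcases Nat.lt_or_ge v 100000 with h | h
      · exact fixPtsF_spec W_10 50000 50000 relc_10_1 v (by omega) (by omega)
      · exact fixPtsF_spec W_10 50000 100000 relc_10_2 v (by omega) (by omega)
  · rcases Nat.lt_or_ge v 250000 with h | h
    · rcases Nat.lt_or_ge v 200000 with h | h
      · exact fixPtsF_spec W_10 50000 150000 relc_10_3 v (by omega) (by omega)
      · exact fixPtsF_spec W_10 50000 200000 relc_10_4 v (by omega) (by omega)
    · rcases Nat.lt_or_ge v 300000 with h | h
      · exact fixPtsF_spec W_10 50000 250000 relc_10_5 v (by omega) (by omega)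
      · exact fixPtsF_spec W_10 6936 300000 relc_10_6 v (by omega) (by omega)

set_option maxRecDepth 1000000 in
theorem walk_10 : ∀ v, walkT ctF (D.wlen 10) (D.wordP 10) v = W_10 v := by
  intro v
  simp only [W_10, forceL_eq]
  rfl

theorem relw_10 : ∀ v, v < 306936 → walkT ctF (D.wlen 10) (D.wordP 10) v = v := by
  intro v hv
  rw [walk_10]
  exact relf_10 v hv

theorem relf_11 : ∀ v, v < 306936 → W_11 v = v := by
  intro v hv
  rcases Nat.lt_or_ge v 150000 with h | h
  · rcases Nat.lt_or_ge v 50000 with h | h
    · exact fixPtsF_spec W_11 50000 0 relc_11_0 v (by omega) (by omega)
    · rcases Nat.lt_or_ge v 100000 with h | h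
      · exact fixPtsF_spec W_11 50000 50000 relc_11_1 v (by omega) (by omega)
      · exact fixPtsF_spec W_11 50000 100000 relc_11_2 v (by omega) (by omega)
  · rcases Nat.lt_or_ge v 250000 with h | h
    · rcases Nat.lt_or_ge v 200000 with h | h
      · exact fixPtsF_spec W_11 50000 150000 relc_11_3 v (by omega) (by omega)
      · exact fixPtsF_spec W_11 50000 200000 relc_11_4 v (by omega) (by omega)
    · rcases Nat.lt_or_ge v 300000 with h | h
      · exact fixPtsF_spec W_11 50000 250000 relc_11_5 v (by omega) (by omega)
      · exact fixPtsF_spec W_11 6936 300000 relc_11_6 v (by omega) (by omega)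

set_option maxRecDepth 1000000 in
theorem walk_11 : ∀ v, walkT ctF (D.wlen 11) (D.wordP 11) v = W_11 v := by
  intro v
  simp only [W_11, forceL_eq]
  rfl

theorem relw_11 : ∀ v, v < 306936 → walkT ctF (D.wlen 11) (D.wordP 11) v = v := by
  intro v hv
  rw [walk_11]
  exact relf_11 v hv

theorem relf_12 : ∀ v, v < 306936 → W_12 v = v := by
  intro v hv
  rcases Nat.lt_or_ge v 200000 with h | h
  · rcases Nat.lt_or_ge v 100000 with h | h
    · exact fixPtsF_spec W_12 100000 0 relc_12_0 v (by omega) (by omega)
    · exact fixPtsF_spec W_12 100000 100000 relc_12_1 v (by omega) (by omega)
  · rcases Nat.lt_or_ge v 300000 with h | h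
    · exact fixPtsF_spec W_12 100000 200000 relc_12_2 v (by omega) (by omega)
    · exact fixPtsF_spec W_12 6936 300000 relc_12_3 v (by omega) (by omega)

set_option maxRecDepth 1000000 in
theorem walk_12 : ∀ v, walkT ctF (D.wlen 12) (D.wordP 12) v = W_12 v := by
  intro v
  simp only [W_12, forceL_eq]
  rfl

theorem relw_12 : ∀ v, v < 306936 → walkT ctF (D.wlen 12) (D.wordP 12) v = v := by
  intro v hv
  rw [walk_12]
  exact relf_12 v hv

theorem relf_13 : ∀ v, v < 306936 → W_13 v = v := by
  intro v hv
  rcases Nat.lt_or_ge v 166665 with h | h
  · rcases Nat.lt_or_ge v 66666 with h | h
    · rcases Nat.lt_or_ge v 33333 with h | h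
      · exact fixPtsF_spec W_13 33333 0 relc_13_0 v (by omega) (by omega)
      · exact fixPtsF_spec W_13 33333 33333 relc_13_1 v (by omega) (by omega)
    · rcases Nat.lt_or_ge v 99999 with h | h
      · exact fixPtsF_spec W_13 33333 66666 relc_13_2 v (by omega) (by omega)
      · rcases Nat.lt_or_ge v 133332 with h | h
        · exact fixPtsF_spec W_13 33333 99999 relc_13_3 v (by omega) (by omega)
        · exact fixPtsF_spec W_13 33333 133332 relc_13_4 v (by omega) (by omega)
  · rcases Nat.lt_or_ge v 233331 with h | h
    · rcases Nat.lt_or_ge v 199998 with h | h
      · exact fixPtsF_spec W_13 33333 166665 relc_13_5 v (by omega) (by omega)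
      · exact fixPtsF_spec W_13 33333 199998 relc_13_6 v (by omega) (by omega)
    · rcases Nat.lt_or_ge v 266664 with h | h
      · exact fixPtsF_spec W_13 33333 233331 relc_13_7 v (by omega) (by omega)
      · rcases Nat.lt_or_ge v 299997 with h | h
        · exact fixPtsF_spec W_13 33333 266664 relc_13_8 v (by omega) (by omega)
        · exact fixPtsF_spec W_13 6939 299997 relc_13_9 v (by omega) (by omega)

set_option maxRecDepth 1000000 in
theorem walk_13 : ∀ v, walkT ctF (D.wlen 13) (D.wordP 13) v = W_13 v := by
  intro v
  simp only [W_13, forceL_eq]
  rfl

theorem relw_13 : ∀ v, v < 306936 → walkT ctF (D.wlen 13) (D.wordP 13) v = v := by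
  intro v hv
  rw [walk_13]
  exact relf_13 v hv

theorem relf_14 : ∀ v, v < 306936 → W_14 v = v := by
  intro v hv
  rcases Nat.lt_or_ge v 150000 with h | h
  · rcases Nat.lt_or_ge v 50000 with h | h
    · exact fixPtsF_spec W_14 50000 0 relc_14_0 v (by omega) (by omega)
    · rcases Nat.lt_or_ge v 100000 with h | h
      · exact fixPtsF_spec W_14 50000 50000 relc_14_1 v (by omega) (by omega)
      · exact fixPtsF_spec W_14 50000 100000 relc_14_2 v (by omega) (by omega)
  · rcases Nat.lt_or_ge v 250000 with h | h
    · rcases Nat.lt_or_ge v 200000 with h | h
      · exact fixPtsF_spec W_14 50000 150000 relc_14_3 v (by omega) (by omega)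
      · exact fixPtsF_spec W_14 50000 200000 relc_14_4 v (by omega) (by omega)
    · rcases Nat.lt_or_ge v 300000 with h | h
      · exact fixPtsF_spec W_14 50000 250000 relc_14_5 v (by omega) (by omega)
      · exact fixPtsF_spec W_14 6936 300000 relc_14_6 v (by omega) (by omega)

set_option maxRecDepth 1000000 in
theorem walk_14 : ∀ v, walkT ctF (D.wlen 14) (D.wordP 14) v = W_14 v := by
  intro v
  simp only [W_14, forceL_eq]
  rfl

theorem relw_14 : ∀ v, v < 306936 → walkT ctF (D.wlen 14) (D.wordP 14) v = v := by
  intro v hv
  rw [walk_14]
  exact relf_14 v hv

theorem relf_15 : ∀ v, v < 306936 → W_15 v = v := by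
  intro v hv
  rcases Nat.lt_or_ge v 150000 with h | h
  · rcases Nat.lt_or_ge v 50000 with h | h
    · exact fixPtsF_spec W_15 50000 0 relc_15_0 v (by omega) (by omega)
    · rcases Nat.lt_or_ge v 100000 with h | h
      · exact fixPtsF_spec W_15 50000 50000 relc_15_1 v (by omega) (by omega)
      · exact fixPtsF_spec W_15 50000 100000 relc_15_2 v (by omega) (by omega)
  · rcases Nat.lt_or_ge v 250000 with h | h
    · rcases Nat.lt_or_ge v 200000 with h | h
      · exact fixPtsF_spec W_15 50000 150000 relc_15_3 v (by omega) (by omega)
      · exact fixPtsF_spec W_15 50000 200000 relc_15_4 v (by omega) (by omega)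
    · rcases Nat.lt_or_ge v 300000 with h | h
      · exact fixPtsF_spec W_15 50000 250000 relc_15_5 v (by omega) (by omega)
      · exact fixPtsF_spec W_15 6936 300000 relc_15_6 v (by omega) (by omega)

set_option maxRecDepth 1000000 in
theorem walk_15 : ∀ v, walkT ctF (D.wlen 15) (D.wordP 15) v = W_15 v := by
  intro v
  simp only [W_15, forceL_eq]
  rfl

theorem relw_15 : ∀ v, v < 306936 → walkT ctF (D.wlen 15) (D.wordP 15) v = v := by
  intro v hv
  rw [walk_15]
  exact relf_15 v hv

theorem relf_16 : ∀ v, v < 306936 → W_16 v = v := by
  intro v hv
  rcases Nat.lt_or_ge v 150000 with h | h
  · rcases Nat.lt_or_ge v 50000 with h | h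
    · exact fixPtsF_spec W_16 50000 0 relc_16_0 v (by omega) (by omega)
    · rcases Nat.lt_or_ge v 100000 with h | h
      · exact fixPtsF_spec W_16 50000 50000 relc_16_1 v (by omega) (by omega)
      · exact fixPtsF_spec W_16 50000 100000 relc_16_2 v (by omega) (by omega)
  · rcases Nat.lt_or_ge v 250000 with h | h
    · rcases Nat.lt_or_ge v 200000 with h | h
      · exact fixPtsF_spec W_16 50000 150000 relc_16_3 v (by omega) (by omega)
      · exact fixPtsF_spec W_16 50000 200000 relc_16_4 v (by omega) (by omega)
    · rcases Nat.lt_or_ge v 300000 with h | h
      · exact fixPtsF_spec W_16 50000 250000 relc_16_5 v (by omega) (by omega)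
      · exact fixPtsF_spec W_16 6936 300000 relc_16_6 v (by omega) (by omega)

set_option maxRecDepth 1000000 in
theorem walk_16 : ∀ v, walkT ctF (D.wlen 16) (D.wordP 16) v = W_16 v := by
  intro v
  simp only [W_16, forceL_eq]
  rfl

theorem relw_16 : ∀ v, v < 306936 → walkT ctF (D.wlen 16) (D.wordP 16) v = v := by
  intro v hv
  rw [walk_16]
  exact relf_16 v hv

theorem relf_17 : ∀ v, v < 306936 → W_17 v = v := by
  intro v hv
  rcases Nat.lt_or_ge v 150000 with h | h
  · rcases Nat.lt_or_ge v 50000 with h | h
    · exact fixPtsF_spec W_17 50000 0 relc_17_0 v (by omega) (by omega)
    · rcases Nat.lt_or_ge v 100000 with h | h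
      · exact fixPtsF_spec W_17 50000 50000 relc_17_1 v (by omega) (by omega)
      · exact fixPtsF_spec W_17 50000 100000 relc_17_2 v (by omega) (by omega)
  · rcases Nat.lt_or_ge v 250000 with h | h
    · rcases Nat.lt_or_ge v 200000 with h | h
      · exact fixPtsF_spec W_17 50000 150000 relc_17_3 v (by omega) (by omega)
      · exact fixPtsF_spec W_17 50000 200000 relc_17_4 v (by omega) (by omega)
    · rcases Nat.lt_or_ge v 300000 with h | h
      · exact fixPtsF_spec W_17 50000 250000 relc_17_5 v (by omega) (by omega)
      · exact fixPtsF_spec W_17 6936 300000 relc_17_6 v (by omega) (by omega)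

set_option maxRecDepth 1000000 in
theorem walk_17 : ∀ v, walkT ctF (D.wlen 17) (D.wordP 17) v = W_17 v := by
  intro v
  simp only [W_17, forceL_eq]
  rfl

theorem relw_17 : ∀ v, v < 306936 → walkT ctF (D.wlen 17) (D.wordP 17) v = v := by
  intro v hv
  rw [walk_17]
  exact relf_17 v hv

theorem relf_18 : ∀ v, v < 306936 → W_18 v = v := by
  intro v hv
  rcases Nat.lt_or_ge v 150000 with h | h
  · rcases Nat.lt_or_ge v 50000 with h | h
    · exact fixPtsF_spec W_18 50000 0 relc_18_0 v (by omega) (by omega)
    · rcases Nat.lt_or_ge v 100000 with h | h
      · exact fixPtsF_spec W_18 50000 50000 relc_18_1 v (by omega) (by omega)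
      · exact fixPtsF_spec W_18 50000 100000 relc_18_2 v (by omega) (by omega)
  · rcases Nat.lt_or_ge v 250000 with h | h
    · rcases Nat.lt_or_ge v 200000 with h | h
      · exact fixPtsF_spec W_18 50000 150000 relc_18_3 v (by omega) (by omega)
      · exact fixPtsF_spec W_18 50000 200000 relc_18_4 v (by omega) (by omega)
    · rcases Nat.lt_or_ge v 300000 with h | h
      · exact fixPtsF_spec W_18 50000 250000 relc_18_5 v (by omega) (by omega)
      · exact fixPtsF_spec W_18 6936 300000 relc_18_6 v (by omega) (by omega)

set_option maxRecDepth 1000000 in
theorem walk_18 : ∀ v, walkT ctF (D.wlen 18) (D.wordP 18) v = W_18 v := by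
  intro v
  simp only [W_18, forceL_eq]
  rfl

theorem relw_18 : ∀ v, v < 306936 → walkT ctF (D.wlen 18) (D.wordP 18) v = v := by
  intro v hv
  rw [walk_18]
  exact relf_18 v hv

theorem relf_19 : ∀ v, v < 306936 → W_19 v = v := by
  intro v hv
  rcases Nat.lt_or_ge v 150000 with h | h
  · rcases Nat.lt_or_ge v 50000 with h | h
    · exact fixPtsF_spec W_19 50000 0 relc_19_0 v (by omega) (by omega)
    · rcases Nat.lt_or_ge v 100000 with h | h
      · exact fixPtsF_spec W_19 50000 50000 relc_19_1 v (by omega) (by omega)
      · exact fixPtsF_spec W_19 50000 100000 relc_19_2 v (by omega) (by omega)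
  · rcases Nat.lt_or_ge v 250000 with h | h
    · rcases Nat.lt_or_ge v 200000 with h | h
      · exact fixPtsF_spec W_19 50000 150000 relc_19_3 v (by omega) (by omega)
      · exact fixPtsF_spec W_19 50000 200000 relc_19_4 v (by omega) (by omega)
    · rcases Nat.lt_or_ge v 300000 with h | h
      · exact fixPtsF_spec W_19 50000 250000 relc_19_5 v (by omega) (by omega)
      · exact fixPtsF_spec W_19 6936 300000 relc_19_6 v (by omega) (by omega)

set_option maxRecDepth 1000000 in
theorem walk_19 : ∀ v, walkT ctF (D.wlen 19) (D.wordP 19) v = W_19 v := by
  intro v
  simp only [W_19, forceL_eq]
  rfl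

theorem relw_19 : ∀ v, v < 306936 → walkT ctF (D.wlen 19) (D.wordP 19) v = v := by
  intro v hv
  rw [walk_19]
  exact relf_19 v hv

theorem relf_20 : ∀ v, v < 306936 → W_20 v = v := by
  intro v hv
  rcases Nat.lt_or_ge v 150000 with h | h
  · rcases Nat.lt_or_ge v 50000 with h | h
    · exact fixPtsF_spec W_20 50000 0 relc_20_0 v (by omega) (by omega)
    · rcases Nat.lt_or_ge v 100000 with h | h
      · exact fixPtsF_spec W_20 50000 50000 relc_20_1 v (by omega) (by omega)
      · exact fixPtsF_spec W_20 50000 100000 relc_20_2 v (by omega) (by omega)
  · rcases Nat.lt_or_ge v 250000 with h | h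
    · rcases Nat.lt_or_ge v 200000 with h | h
      · exact fixPtsF_spec W_20 50000 150000 relc_20_3 v (by omega) (by omega)
      · exact fixPtsF_spec W_20 50000 200000 relc_20_4 v (by omega) (by omega)
    · rcases Nat.lt_or_ge v 300000 with h | h
      · exact fixPtsF_spec W_20 50000 250000 relc_20_5 v (by omega) (by omega)
      · exact fixPtsF_spec W_20 6936 300000 relc_20_6 v (by omega) (by omega)

set_option maxRecDepth 1000000 in
theorem walk_20 : ∀ v, walkT ctF (D.wlen 20) (D.wordP 20) v = W_20 v := by
  intro v
  simp only [W_20, forceL_eq]
  rfl

theorem relw_20 : ∀ v, v < 306936 → walkT ctF (D.wlen 20) (D.wordP 20) v = v := by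
  intro v hv
  rw [walk_20]
  exact relf_20 v hv

theorem relf_21 : ∀ v, v < 306936 → W_21 v = v := by
  intro v hv
  rcases Nat.lt_or_ge v 150000 with h | h
  · rcases Nat.lt_or_ge v 50000 with h | h
    · exact fixPtsF_spec W_21 50000 0 relc_21_0 v (by omega) (by omega)
    · rcases Nat.lt_or_ge v 100000 with h | h
      · exact fixPtsF_spec W_21 50000 50000 relc_21_1 v (by omega) (by omega)
      · exact fixPtsF_spec W_21 50000 100000 relc_21_2 v (by omega) (by omega)
  · rcases Nat.lt_or_ge v 250000 with h | h
    · rcases Nat.lt_or_ge v 200000 with h | h
      · exact fixPtsF_spec W_21 50000 150000 relc_21_3 v (by omega) (by omega)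
      · exact fixPtsF_spec W_21 50000 200000 relc_21_4 v (by omega) (by omega)
    · rcases Nat.lt_or_ge v 300000 with h | h
      · exact fixPtsF_spec W_21 50000 250000 relc_21_5 v (by omega) (by omega)
      · exact fixPtsF_spec W_21 6936 300000 relc_21_6 v (by omega) (by omega)

set_option maxRecDepth 1000000 in
theorem walk_21 : ∀ v, walkT ctF (D.wlen 21) (D.wordP 21) v = W_21 v := by
  intro v
  simp only [W_21, forceL_eq]
  rfl

theorem relw_21 : ∀ v, v < 306936 → walkT ctF (D.wlen 21) (D.wordP 21) v = v := by
  intro v hv
  rw [walk_21]
  exact relf_21 v hv

theorem relf_22 : ∀ v, v < 306936 → W_22 v = v := by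
  intro v hv
  rcases Nat.lt_or_ge v 150000 with h | h
  · rcases Nat.lt_or_ge v 50000 with h | h
    · exact fixPtsF_spec W_22 50000 0 relc_22_0 v (by omega) (by omega)
    · rcases Nat.lt_or_ge v 100000 with h | h
      · exact fixPtsF_spec W_22 50000 50000 relc_22_1 v (by omega) (by omega)
      · exact fixPtsF_spec W_22 50000 100000 relc_22_2 v (by omega) (by omega)
  · rcases Nat.lt_or_ge v 250000 with h | h
    · rcases Nat.lt_or_ge v 200000 with h | h
      · exact fixPtsF_spec W_22 50000 150000 relc_22_3 v (by omega) (by omega)
      · exact fixPtsF_spec W_22 50000 200000 relc_22_4 v (by omega) (by omega)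
    · rcases Nat.lt_or_ge v 300000 with h | h
      · exact fixPtsF_spec W_22 50000 250000 relc_22_5 v (by omega) (by omega)
      · exact fixPtsF_spec W_22 6936 300000 relc_22_6 v (by omega) (by omega)

set_option maxRecDepth 1000000 in
theorem walk_22 : ∀ v, walkT ctF (D.wlen 22) (D.wordP 22) v = W_22 v := by
  intro v
  simp only [W_22, forceL_eq]
  rfl

theorem relw_22 : ∀ v, v < 306936 → walkT ctF (D.wlen 22) (D.wordP 22) v = v := by
  intro v hv
  rw [walk_22]
  exact relf_22 v hv

theorem relf_23 : ∀ v, v < 306936 → W_23 v = v := by
  intro v hv
  rcases Nat.lt_or_ge v 200000 with h | h
  · rcases Nat.lt_or_ge v 100000 with h | h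
    · exact fixPtsF_spec W_23 100000 0 relc_23_0 v (by omega) (by omega)
    · exact fixPtsF_spec W_23 100000 100000 relc_23_1 v (by omega) (by omega)
  · rcases Nat.lt_or_ge v 300000 with h | h
    · exact fixPtsF_spec W_23 100000 200000 relc_23_2 v (by omega) (by omega)
    · exact fixPtsF_spec W_23 6936 300000 relc_23_3 v (by omega) (by omega)

set_option maxRecDepth 1000000 in
theorem walk_23 : ∀ v, walkT ctF (D.wlen 23) (D.wordP 23) v = W_23 v := by
  intro v
  simp only [W_23, forceL_eq]
  rfl

theorem relw_23 : ∀ v, v < 306936 → walkT ctF (D.wlen 23) (D.wordP 23) v = v := by
  intro v hv
  rw [walk_23]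
  exact relf_23 v hv

theorem relf_24 : ∀ v, v < 306936 → W_24 v = v := by
  intro v hv
  rcases Nat.lt_or_ge v 166665 with h | h
  · rcases Nat.lt_or_ge v 66666 with h | h
    · rcases Nat.lt_or_ge v 33333 with h | h
      · exact fixPtsF_spec W_24 33333 0 relc_24_0 v (by omega) (by omega)
      · exact fixPtsF_spec W_24 33333 33333 relc_24_1 v (by omega) (by omega)
    · rcases Nat.lt_or_ge v 99999 with h | h
      · exact fixPtsF_spec W_24 33333 66666 relc_24_2 v (by omega) (by omega)
      · rcases Nat.lt_or_ge v 133332 with h | h
        · exact fixPtsF_spec W_24 33333 99999 relc_24_3 v (by omega) (by omega)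
        · exact fixPtsF_spec W_24 33333 133332 relc_24_4 v (by omega) (by omega)
  · rcases Nat.lt_or_ge v 233331 with h | h
    · rcases Nat.lt_or_ge v 199998 with h | h
      · exact fixPtsF_spec W_24 33333 166665 relc_24_5 v (by omega) (by omega)
      · exact fixPtsF_spec W_24 33333 199998 relc_24_6 v (by omega) (by omega)
    · rcases Nat.lt_or_ge v 266664 with h | h
      · exact fixPtsF_spec W_24 33333 233331 relc_24_7 v (by omega) (by omega)
      · rcases Nat.lt_or_ge v 299997 with h | h
        · exact fixPtsF_spec W_24 33333 266664 relc_24_8 v (by omega) (by omega)
        · exact fixPtsF_spec W_24 6939 299997 relc_24_9 v (by omega) (by omega)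

set_option maxRecDepth 1000000 in
theorem walk_24 : ∀ v, walkT ctF (D.wlen 24) (D.wordP 24) v = W_24 v := by
  intro v
  simp only [W_24, forceL_eq]
  rfl

theorem relw_24 : ∀ v, v < 306936 → walkT ctF (D.wlen 24) (D.wordP 24) v = v := by
  intro v hv
  rw [walk_24]
  exact relf_24 v hv

theorem relf_25 : ∀ v, v < 306936 → W_25 v = v := by
  intro v hv
  rcases Nat.lt_or_ge v 166665 with h | h
  · rcases Nat.lt_or_ge v 66666 with h | h
    · rcases Nat.lt_or_ge v 33333 with h | h
      · exact fixPtsF_spec W_25 33333 0 relc_25_0 v (by omega) (by omega)
      · exact fixPtsF_spec W_25 33333 33333 relc_25_1 v (by omega) (by omega)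
    · rcases Nat.lt_or_ge v 99999 with h | h
      · exact fixPtsF_spec W_25 33333 66666 relc_25_2 v (by omega) (by omega)
      · rcases Nat.lt_or_ge v 133332 with h | h
        · exact fixPtsF_spec W_25 33333 99999 relc_25_3 v (by omega) (by omega)
        · exact fixPtsF_spec W_25 33333 133332 relc_25_4 v (by omega) (by omega)
  · rcases Nat.lt_or_ge v 233331 with h | h
    · rcases Nat.lt_or_ge v 199998 with h | h
      · exact fixPtsF_spec W_25 33333 166665 relc_25_5 v (by omega) (by omega)
      · exact fixPtsF_spec W_25 33333 199998 relc_25_6 v (by omega) (by omega)
    · rcases Nat.lt_or_ge v 266664 with h | h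
      · exact fixPtsF_spec W_25 33333 233331 relc_25_7 v (by omega) (by omega)
      · rcases Nat.lt_or_ge v 299997 with h | h
        · exact fixPtsF_spec W_25 33333 266664 relc_25_8 v (by omega) (by omega)
        · exact fixPtsF_spec W_25 6939 299997 relc_25_9 v (by omega) (by omega)

set_option maxRecDepth 1000000 in
theorem walk_25 : ∀ v, walkT ctF (D.wlen 25) (D.wordP 25) v = W_25 v := by
  intro v
  simp only [W_25, forceL_eq]
  rfl

theorem relw_25 : ∀ v, v < 306936 → walkT ctF (D.wlen 25) (D.wordP 25) v = v := by
  intro v hv
  rw [walk_25]
  exact relf_25 v hv

theorem relf_26 : ∀ v, v < 306936 → W_26 v = v := by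
  intro v hv
  rcases Nat.lt_or_ge v 150000 with h | h
  · rcases Nat.lt_or_ge v 50000 with h | h
    · exact fixPtsF_spec W_26 50000 0 relc_26_0 v (by omega) (by omega)
    · rcases Nat.lt_or_ge v 100000 with h | h
      · exact fixPtsF_spec W_26 50000 50000 relc_26_1 v (by omega) (by omega)
      · exact fixPtsF_spec W_26 50000 100000 relc_26_2 v (by omega) (by omega)
  · rcases Nat.lt_or_ge v 250000 with h | h
    · rcases Nat.lt_or_ge v 200000 with h | h
      · exact fixPtsF_spec W_26 50000 150000 relc_26_3 v (by omega) (by omega)
      · exact fixPtsF_spec W_26 50000 200000 relc_26_4 v (by omega) (by omega)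
    · rcases Nat.lt_or_ge v 300000 with h | h
      · exact fixPtsF_spec W_26 50000 250000 relc_26_5 v (by omega) (by omega)
      · exact fixPtsF_spec W_26 6936 300000 relc_26_6 v (by omega) (by omega)

set_option maxRecDepth 1000000 in
theorem walk_26 : ∀ v, walkT ctF (D.wlen 26) (D.wordP 26) v = W_26 v := by
  intro v
  simp only [W_26, forceL_eq]
  rfl

theorem relw_26 : ∀ v, v < 306936 → walkT ctF (D.wlen 26) (D.wordP 26) v = v := by
  intro v hv
  rw [walk_26]
  exact relf_26 v hv

theorem relf_27 : ∀ v, v < 306936 → W_27 v = v := by
  intro v hv
  rcases Nat.lt_or_ge v 150000 with h | h
  · rcases Nat.lt_or_ge v 50000 with h | h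
    · exact fixPtsF_spec W_27 50000 0 relc_27_0 v (by omega) (by omega)
    · rcases Nat.lt_or_ge v 100000 with h | h
      · exact fixPtsF_spec W_27 50000 50000 relc_27_1 v (by omega) (by omega)
      · exact fixPtsF_spec W_27 50000 100000 relc_27_2 v (by omega) (by omega)
  · rcases Nat.lt_or_ge v 250000 with h | h
    · rcases Nat.lt_or_ge v 200000 with h | h
      · exact fixPtsF_spec W_27 50000 150000 relc_27_3 v (by omega) (by omega)
      · exact fixPtsF_spec W_27 50000 200000 relc_27_4 v (by omega) (by omega)
    · rcases Nat.lt_or_ge v 300000 with h | h
      · exact fixPtsF_spec W_27 50000 250000 relc_27_5 v (by omega) (by omega)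
      · exact fixPtsF_spec W_27 6936 300000 relc_27_6 v (by omega) (by omega)

set_option maxRecDepth 1000000 in
theorem walk_27 : ∀ v, walkT ctF (D.wlen 27) (D.wordP 27) v = W_27 v := by
  intro v
  simp only [W_27, forceL_eq]
  rfl

theorem relw_27 : ∀ v, v < 306936 → walkT ctF (D.wlen 27) (D.wordP 27) v = v := by
  intro v hv
  rw [walk_27]
  exact relf_27 v hv

theorem relf_28 : ∀ v, v < 306936 → W_28 v = v := by
  intro v hv
  rcases Nat.lt_or_ge v 150000 with h | h
  · rcases Nat.lt_or_ge v 50000 with h | h
    · exact fixPtsF_spec W_28 50000 0 relc_28_0 v (by omega) (by omega)
    · rcases Nat.lt_or_ge v 100000 with h | h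
      · exact fixPtsF_spec W_28 50000 50000 relc_28_1 v (by omega) (by omega)
      · exact fixPtsF_spec W_28 50000 100000 relc_28_2 v (by omega) (by omega)
  · rcases Nat.lt_or_ge v 250000 with h | h
    · rcases Nat.lt_or_ge v 200000 with h | h
      · exact fixPtsF_spec W_28 50000 150000 relc_28_3 v (by omega) (by omega)
      · exact fixPtsF_spec W_28 50000 200000 relc_28_4 v (by omega) (by omega)
    · rcases Nat.lt_or_ge v 300000 with h | h
      · exact fixPtsF_spec W_28 50000 250000 relc_28_5 v (by omega) (by omega)
      · exact fixPtsF_spec W_28 6936 300000 relc_28_6 v (by omega) (by omega)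

set_option maxRecDepth 1000000 in
theorem walk_28 : ∀ v, walkT ctF (D.wlen 28) (D.wordP 28) v = W_28 v := by
  intro v
  simp only [W_28, forceL_eq]
  rfl

theorem relw_28 : ∀ v, v < 306936 → walkT ctF (D.wlen 28) (D.wordP 28) v = v := by
  intro v hv
  rw [walk_28]
  exact relf_28 v hv

theorem relf_29 : ∀ v, v < 306936 → W_29 v = v := by
  intro v hv
  rcases Nat.lt_or_ge v 150000 with h | h
  · rcases Nat.lt_or_ge v 50000 with h | h
    · exact fixPtsF_spec W_29 50000 0 relc_29_0 v (by omega) (by omega)
    · rcases Nat.lt_or_ge v 100000 with h | h
      · exact fixPtsF_spec W_29 50000 50000 relc_29_1 v (by omega) (by omega)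
      · exact fixPtsF_spec W_29 50000 100000 relc_29_2 v (by omega) (by omega)
  · rcases Nat.lt_or_ge v 250000 with h | h
    · rcases Nat.lt_or_ge v 200000 with h | h
      · exact fixPtsF_spec W_29 50000 150000 relc_29_3 v (by omega) (by omega)
      · exact fixPtsF_spec W_29 50000 200000 relc_29_4 v (by omega) (by omega)
    · rcases Nat.lt_or_ge v 300000 with h | h
      · exact fixPtsF_spec W_29 50000 250000 relc_29_5 v (by omega) (by omega)
      · exact fixPtsF_spec W_29 6936 300000 relc_29_6 v (by omega) (by omega)

set_option maxRecDepth 1000000 in
theorem walk_29 : ∀ v, walkT ctF (D.wlen 29) (D.wordP 29) v = W_29 v := by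
  intro v
  simp only [W_29, forceL_eq]
  rfl

theorem relw_29 : ∀ v, v < 306936 → walkT ctF (D.wlen 29) (D.wordP 29) v = v := by
  intro v hv
  rw [walk_29]
  exact relf_29 v hv

theorem relf_30 : ∀ v, v < 306936 → W_30 v = v := by
  intro v hv
  rcases Nat.lt_or_ge v 150000 with h | h
  · rcases Nat.lt_or_ge v 50000 with h | h
    · exact fixPtsF_spec W_30 50000 0 relc_30_0 v (by omega) (by omega)
    · rcases Nat.lt_or_ge v 100000 with h | h
      · exact fixPtsF_spec W_30 50000 50000 relc_30_1 v (by omega) (by omega)
      · exact fixPtsF_spec W_30 50000 100000 relc_30_2 v (by omega) (by omega)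
  · rcases Nat.lt_or_ge v 250000 with h | h
    · rcases Nat.lt_or_ge v 200000 with h | h
      · exact fixPtsF_spec W_30 50000 150000 relc_30_3 v (by omega) (by omega)
      · exact fixPtsF_spec W_30 50000 200000 relc_30_4 v (by omega) (by omega)
    · rcases Nat.lt_or_ge v 300000 with h | h
      · exact fixPtsF_spec W_30 50000 250000 relc_30_5 v (by omega) (by omega)
      · exact fixPtsF_spec W_30 6936 300000 relc_30_6 v (by omega) (by omega)

set_option maxRecDepth 1000000 in
theorem walk_30 : ∀ v, walkT ctF (D.wlen 30) (D.wordP 30) v = W_30 v := by
  intro v
  simp only [W_30, forceL_eq]
  rfl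

theorem relw_30 : ∀ v, v < 306936 → walkT ctF (D.wlen 30) (D.wordP 30) v = v := by
  intro v hv
  rw [walk_30]
  exact relf_30 v hv

theorem relf_31 : ∀ v, v < 306936 → W_31 v = v := by
  intro v hv
  rcases Nat.lt_or_ge v 150000 with h | h
  · rcases Nat.lt_or_ge v 50000 with h | h
    · exact fixPtsF_spec W_31 50000 0 relc_31_0 v (by omega) (by omega)
    · rcases Nat.lt_or_ge v 100000 with h | h
      · exact fixPtsF_spec W_31 50000 50000 relc_31_1 v (by omega) (by omega)
      · exact fixPtsF_spec W_31 50000 100000 relc_31_2 v (by omega) (by omega)
  · rcases Nat.lt_or_ge v 250000 with h | h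
    · rcases Nat.lt_or_ge v 200000 with h | h
      · exact fixPtsF_spec W_31 50000 150000 relc_31_3 v (by omega) (by omega)
      · exact fixPtsF_spec W_31 50000 200000 relc_31_4 v (by omega) (by omega)
    · rcases Nat.lt_or_ge v 300000 with h | h
      · exact fixPtsF_spec W_31 50000 250000 relc_31_5 v (by omega) (by omega)
      · exact fixPtsF_spec W_31 6936 300000 relc_31_6 v (by omega) (by omega)

set_option maxRecDepth 1000000 in
theorem walk_31 : ∀ v, walkT ctF (D.wlen 31) (D.wordP 31) v = W_31 v := by
  intro v
  simp only [W_31, forceL_eq]
  rfl

theorem relw_31 : ∀ v, v < 306936 → walkT ctF (D.wlen 31) (D.wordP 31) v = v := by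
  intro v hv
  rw [walk_31]
  exact relf_31 v hv

theorem relf_32 : ∀ v, v < 306936 → W_32 v = v := by
  intro v hv
  rcases Nat.lt_or_ge v 150000 with h | h
  · rcases Nat.lt_or_ge v 50000 with h | h
    · exact fixPtsF_spec W_32 50000 0 relc_32_0 v (by omega) (by omega)
    · rcases Nat.lt_or_ge v 100000 with h | h
      · exact fixPtsF_spec W_32 50000 50000 relc_32_1 v (by omega) (by omega)
      · exact fixPtsF_spec W_32 50000 100000 relc_32_2 v (by omega) (by omega)
  · rcases Nat.lt_or_ge v 250000 with h | h
    · rcases Nat.lt_or_ge v 200000 with h | h
      · exact fixPtsF_spec W_32 50000 150000 relc_32_3 v (by omega) (by omega)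
      · exact fixPtsF_spec W_32 50000 200000 relc_32_4 v (by omega) (by omega)
    · rcases Nat.lt_or_ge v 300000 with h | h
      · exact fixPtsF_spec W_32 50000 250000 relc_32_5 v (by omega) (by omega)
      · exact fixPtsF_spec W_32 6936 300000 relc_32_6 v (by omega) (by omega)

set_option maxRecDepth 1000000 in
theorem walk_32 : ∀ v, walkT ctF (D.wlen 32) (D.wordP 32) v = W_32 v := by
  intro v
  simp only [W_32, forceL_eq]
  rfl

theorem relw_32 : ∀ v, v < 306936 → walkT ctF (D.wlen 32) (D.wordP 32) v = v := by
  intro v hv
  rw [walk_32]
  exact relf_32 v hv

theorem relf_33 : ∀ v, v < 306936 → W_33 v = v := by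
  intro v hv
  rcases Nat.lt_or_ge v 200000 with h | h
  · rcases Nat.lt_or_ge v 100000 with h | h
    · exact fixPtsF_spec W_33 100000 0 relc_33_0 v (by omega) (by omega)
    · exact fixPtsF_spec W_33 100000 100000 relc_33_1 v (by omega) (by omega)
  · rcases Nat.lt_or_ge v 300000 with h | h
    · exact fixPtsF_spec W_33 100000 200000 relc_33_2 v (by omega) (by omega)
    · exact fixPtsF_spec W_33 6936 300000 relc_33_3 v (by omega) (by omega)

set_option maxRecDepth 1000000 in
theorem walk_33 : ∀ v, walkT ctF (D.wlen 33) (D.wordP 33) v = W_33 v := by
  intro v
  simp only [W_33, forceL_eq]
  rfl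

theorem relw_33 : ∀ v, v < 306936 → walkT ctF (D.wlen 33) (D.wordP 33) v = v := by
  intro v hv
  rw [walk_33]
  exact relf_33 v hv

theorem relf_34 : ∀ v, v < 306936 → W_34 v = v := by
  intro v hv
  rcases Nat.lt_or_ge v 150000 with h | h
  · rcases Nat.lt_or_ge v 50000 with h | h
    · exact fixPtsF_spec W_34 50000 0 relc_34_0 v (by omega) (by omega)
    · rcases Nat.lt_or_ge v 100000 with h | h
      · exact fixPtsF_spec W_34 50000 50000 relc_34_1 v (by omega) (by omega)
      · exact fixPtsF_spec W_34 50000 100000 relc_34_2 v (by omega) (by omega)
  · rcases Nat.lt_or_ge v 250000 with h | h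
    · rcases Nat.lt_or_ge v 200000 with h | h
      · exact fixPtsF_spec W_34 50000 150000 relc_34_3 v (by omega) (by omega)
      · exact fixPtsF_spec W_34 50000 200000 relc_34_4 v (by omega) (by omega)
    · rcases Nat.lt_or_ge v 300000 with h | h
      · exact fixPtsF_spec W_34 50000 250000 relc_34_5 v (by omega) (by omega)
      · exact fixPtsF_spec W_34 6936 300000 relc_34_6 v (by omega) (by omega)

set_option maxRecDepth 1000000 in
theorem walk_34 : ∀ v, walkT ctF (D.wlen 34) (D.wordP 34) v = W_34 v := by
  intro v
  simp only [W_34, forceL_eq]
  rfl

theorem relw_34 : ∀ v, v < 306936 → walkT ctF (D.wlen 34) (D.wordP 34) v = v := by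
  intro v hv
  rw [walk_34]
  exact relf_34 v hv

theorem relf_35 : ∀ v, v < 306936 → W_35 v = v := by
  intro v hv
  rcases Nat.lt_or_ge v 150000 with h | h
  · rcases Nat.lt_or_ge v 50000 with h | h
    · exact fixPtsF_spec W_35 50000 0 relc_35_0 v (by omega) (by omega)
    · rcases Nat.lt_or_ge v 100000 with h | h
      · exact fixPtsF_spec W_35 50000 50000 relc_35_1 v (by omega) (by omega)
      · exact fixPtsF_spec W_35 50000 100000 relc_35_2 v (by omega) (by omega)
  · rcases Nat.lt_or_ge v 250000 with h | h
    · rcases Nat.lt_or_ge v 200000 with h | h
      · exact fixPtsF_spec W_35 50000 150000 relc_35_3 v (by omega) (by omega)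
      · exact fixPtsF_spec W_35 50000 200000 relc_35_4 v (by omega) (by omega)
    · rcases Nat.lt_or_ge v 300000 with h | h
      · exact fixPtsF_spec W_35 50000 250000 relc_35_5 v (by omega) (by omega)
      · exact fixPtsF_spec W_35 6936 300000 relc_35_6 v (by omega) (by omega)

set_option maxRecDepth 1000000 in
theorem walk_35 : ∀ v, walkT ctF (D.wlen 35) (D.wordP 35) v = W_35 v := by
  intro v
  simp only [W_35, forceL_eq]
  rfl

theorem relw_35 : ∀ v, v < 306936 → walkT ctF (D.wlen 35) (D.wordP 35) v = v := by
  intro v hv
  rw [walk_35]
  exact relf_35 v hv

theorem relf_36 : ∀ v, v < 306936 → W_36 v = v := by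
  intro v hv
  rcases Nat.lt_or_ge v 166665 with h | h
  · rcases Nat.lt_or_ge v 66666 with h | h
    · rcases Nat.lt_or_ge v 33333 with h | h
      · exact fixPtsF_spec W_36 33333 0 relc_36_0 v (by omega) (by omega)
      · exact fixPtsF_spec W_36 33333 33333 relc_36_1 v (by omega) (by omega)
    · rcases Nat.lt_or_ge v 99999 with h | h
      · exact fixPtsF_spec W_36 33333 66666 relc_36_2 v (by omega) (by omega)
      · rcases Nat.lt_or_ge v 133332 with h | h
        · exact fixPtsF_spec W_36 33333 99999 relc_36_3 v (by omega) (by omega)
        · exact fixPtsF_spec W_36 33333 133332 relc_36_4 v (by omega) (by omega)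
  · rcases Nat.lt_or_ge v 233331 with h | h
    · rcases Nat.lt_or_ge v 199998 with h | h
      · exact fixPtsF_spec W_36 33333 166665 relc_36_5 v (by omega) (by omega)
      · exact fixPtsF_spec W_36 33333 199998 relc_36_6 v (by omega) (by omega)
    · rcases Nat.lt_or_ge v 266664 with h | h
      · exact fixPtsF_spec W_36 33333 233331 relc_36_7 v (by omega) (by omega)
      · rcases Nat.lt_or_ge v 299997 with h | h
        · exact fixPtsF_spec W_36 33333 266664 relc_36_8 v (by omega) (by omega)
        · exact fixPtsF_spec W_36 6939 299997 relc_36_9 v (by omega) (by omega)

set_option maxRecDepth 1000000 in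
theorem walk_36 : ∀ v, walkT ctF (D.wlen 36) (D.wordP 36) v = W_36 v := by
  intro v
  simp only [W_36, forceL_eq]
  rfl

theorem relw_36 : ∀ v, v < 306936 → walkT ctF (D.wlen 36) (D.wordP 36) v = v := by
  intro v hv
  rw [walk_36]
  exact relf_36 v hv

theorem relf_37 : ∀ v, v < 306936 → W_37 v = v := by
  intro v hv
  rcases Nat.lt_or_ge v 150000 with h | h
  · rcases Nat.lt_or_ge v 50000 with h | h
    · exact fixPtsF_spec W_37 50000 0 relc_37_0 v (by omega) (by omega)
    · rcases Nat.lt_or_ge v 100000 with h | h
      · exact fixPtsF_spec W_37 50000 50000 relc_37_1 v (by omega) (by omega)
      · exact fixPtsF_spec W_37 50000 100000 relc_37_2 v (by omega) (by omega)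
  · rcases Nat.lt_or_ge v 250000 with h | h
    · rcases Nat.lt_or_ge v 200000 with h | h
      · exact fixPtsF_spec W_37 50000 150000 relc_37_3 v (by omega) (by omega)
      · exact fixPtsF_spec W_37 50000 200000 relc_37_4 v (by omega) (by omega)
    · rcases Nat.lt_or_ge v 300000 with h | h
      · exact fixPtsF_spec W_37 50000 250000 relc_37_5 v (by omega) (by omega)
      · exact fixPtsF_spec W_37 6936 300000 relc_37_6 v (by omega) (by omega)

set_option maxRecDepth 1000000 in
theorem walk_37 : ∀ v, walkT ctF (D.wlen 37) (D.wordP 37) v = W_37 v := by
  intro v
  simp only [W_37, forceL_eq]
  rfl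

theorem relw_37 : ∀ v, v < 306936 → walkT ctF (D.wlen 37) (D.wordP 37) v = v := by
  intro v hv
  rw [walk_37]
  exact relf_37 v hv

theorem relf_38 : ∀ v, v < 306936 → W_38 v = v := by
  intro v hv
  rcases Nat.lt_or_ge v 150000 with h | h
  · rcases Nat.lt_or_ge v 50000 with h | h
    · exact fixPtsF_spec W_38 50000 0 relc_38_0 v (by omega) (by omega)
    · rcases Nat.lt_or_ge v 100000 with h | h
      · exact fixPtsF_spec W_38 50000 50000 relc_38_1 v (by omega) (by omega)
      · exact fixPtsF_spec W_38 50000 100000 relc_38_2 v (by omega) (by omega)
  · rcases Nat.lt_or_ge v 250000 with h | h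
    · rcases Nat.lt_or_ge v 200000 with h | h
      · exact fixPtsF_spec W_38 50000 150000 relc_38_3 v (by omega) (by omega)
      · exact fixPtsF_spec W_38 50000 200000 relc_38_4 v (by omega) (by omega)
    · rcases Nat.lt_or_ge v 300000 with h | h
      · exact fixPtsF_spec W_38 50000 250000 relc_38_5 v (by omega) (by omega)
      · exact fixPtsF_spec W_38 6936 300000 relc_38_6 v (by omega) (by omega)

set_option maxRecDepth 1000000 in
theorem walk_38 : ∀ v, walkT ctF (D.wlen 38) (D.wordP 38) v = W_38 v := by
  intro v
  simp only [W_38, forceL_eq]
  rfl

theorem relw_38 : ∀ v, v < 306936 → walkT ctF (D.wlen 38) (D.wordP 38) v = v := by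
  intro v hv
  rw [walk_38]
  exact relf_38 v hv

theorem relf_39 : ∀ v, v < 306936 → W_39 v = v := by
  intro v hv
  rcases Nat.lt_or_ge v 150000 with h | h
  · rcases Nat.lt_or_ge v 50000 with h | h
    · exact fixPtsF_spec W_39 50000 0 relc_39_0 v (by omega) (by omega)
    · rcases Nat.lt_or_ge v 100000 with h | h
      · exact fixPtsF_spec W_39 50000 50000 relc_39_1 v (by omega) (by omega)
      · exact fixPtsF_spec W_39 50000 100000 relc_39_2 v (by omega) (by omega)
  · rcases Nat.lt_or_ge v 250000 with h | h
    · rcases Nat.lt_or_ge v 200000 with h | h
      · exact fixPtsF_spec W_39 50000 150000 relc_39_3 v (by omega) (by omega)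
      · exact fixPtsF_spec W_39 50000 200000 relc_39_4 v (by omega) (by omega)
    · rcases Nat.lt_or_ge v 300000 with h | h
      · exact fixPtsF_spec W_39 50000 250000 relc_39_5 v (by omega) (by omega)
      · exact fixPtsF_spec W_39 6936 300000 relc_39_6 v (by omega) (by omega)

set_option maxRecDepth 1000000 in
theorem walk_39 : ∀ v, walkT ctF (D.wlen 39) (D.wordP 39) v = W_39 v := by
  intro v
  simp only [W_39, forceL_eq]
  rfl

theorem relw_39 : ∀ v, v < 306936 → walkT ctF (D.wlen 39) (D.wordP 39) v = v := by
  intro v hv
  rw [walk_39]
  exact relf_39 v hv

theorem relf_40 : ∀ v, v < 306936 → W_40 v = v := by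
  intro v hv
  rcases Nat.lt_or_ge v 150000 with h | h
  · rcases Nat.lt_or_ge v 50000 with h | h
    · exact fixPtsF_spec W_40 50000 0 relc_40_0 v (by omega) (by omega)
    · rcases Nat.lt_or_ge v 100000 with h | h
      · exact fixPtsF_spec W_40 50000 50000 relc_40_1 v (by omega) (by omega)
      · exact fixPtsF_spec W_40 50000 100000 relc_40_2 v (by omega) (by omega)
  · rcases Nat.lt_or_ge v 250000 with h | h
    · rcases Nat.lt_or_ge v 200000 with h | h
      · exact fixPtsF_spec W_40 50000 150000 relc_40_3 v (by omega) (by omega)
      · exact fixPtsF_spec W_40 50000 200000 relc_40_4 v (by omega) (by omega)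
    · rcases Nat.lt_or_ge v 300000 with h | h
      · exact fixPtsF_spec W_40 50000 250000 relc_40_5 v (by omega) (by omega)
      · exact fixPtsF_spec W_40 6936 300000 relc_40_6 v (by omega) (by omega)

set_option maxRecDepth 1000000 in
theorem walk_40 : ∀ v, walkT ctF (D.wlen 40) (D.wordP 40) v = W_40 v := by
  intro v
  simp only [W_40, forceL_eq]
  rfl

theorem relw_40 : ∀ v, v < 306936 → walkT ctF (D.wlen 40) (D.wordP 40) v = v := by
  intro v hv
  rw [walk_40]
  exact relf_40 v hv

theorem relf_41 : ∀ v, v < 306936 → W_41 v = v := by
  intro v hv
  rcases Nat.lt_or_ge v 150000 with h | h
  · rcases Nat.lt_or_ge v 50000 with h | h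
    · exact fixPtsF_spec W_41 50000 0 relc_41_0 v (by omega) (by omega)
    · rcases Nat.lt_or_ge v 100000 with h | h
      · exact fixPtsF_spec W_41 50000 50000 relc_41_1 v (by omega) (by omega)
      · exact fixPtsF_spec W_41 50000 100000 relc_41_2 v (by omega) (by omega)
  · rcases Nat.lt_or_ge v 250000 with h | h
    · rcases Nat.lt_or_ge v 200000 with h | h
      · exact fixPtsF_spec W_41 50000 150000 relc_41_3 v (by omega) (by omega)
      · exact fixPtsF_spec W_41 50000 200000 relc_41_4 v (by omega) (by omega)
    · rcases Nat.lt_or_ge v 300000 with h | h
      · exact fixPtsF_spec W_41 50000 250000 relc_41_5 v (by omega) (by omega)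
      · exact fixPtsF_spec W_41 6936 300000 relc_41_6 v (by omega) (by omega)

set_option maxRecDepth 1000000 in
theorem walk_41 : ∀ v, walkT ctF (D.wlen 41) (D.wordP 41) v = W_41 v := by
  intro v
  simp only [W_41, forceL_eq]
  rfl

theorem relw_41 : ∀ v, v < 306936 → walkT ctF (D.wlen 41) (D.wordP 41) v = v := by
  intro v hv
  rw [walk_41]
  exact relf_41 v hv

theorem relf_42 : ∀ v, v < 306936 → W_42 v = v := by
  intro v hv
  rcases Nat.lt_or_ge v 200000 with h | h
  · rcases Nat.lt_or_ge v 100000 with h | h
    · exact fixPtsF_spec W_42 100000 0 relc_42_0 v (by omega) (by omega)
    · exact fixPtsF_spec W_42 100000 100000 relc_42_1 v (by omega) (by omega)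
  · rcases Nat.lt_or_ge v 300000 with h | h
    · exact fixPtsF_spec W_42 100000 200000 relc_42_2 v (by omega) (by omega)
    · exact fixPtsF_spec W_42 6936 300000 relc_42_3 v (by omega) (by omega)

set_option maxRecDepth 1000000 in
theorem walk_42 : ∀ v, walkT ctF (D.wlen 42) (D.wordP 42) v = W_42 v := by
  intro v
  simp only [W_42, forceL_eq]
  rfl

theorem relw_42 : ∀ v, v < 306936 → walkT ctF (D.wlen 42) (D.wordP 42) v = v := by
  intro v hv
  rw [walk_42]
  exact relf_42 v hv

theorem relf_43 : ∀ v, v < 306936 → W_43 v = v := by
  intro v hv
  rcases Nat.lt_or_ge v 166665 with h | h
  · rcases Nat.lt_or_ge v 66666 with h | h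
    · rcases Nat.lt_or_ge v 33333 with h | h
      · exact fixPtsF_spec W_43 33333 0 relc_43_0 v (by omega) (by omega)
      · exact fixPtsF_spec W_43 33333 33333 relc_43_1 v (by omega) (by omega)
    · rcases Nat.lt_or_ge v 99999 with h | h
      · exact fixPtsF_spec W_43 33333 66666 relc_43_2 v (by omega) (by omega)
      · rcases Nat.lt_or_ge v 133332 with h | h
        · exact fixPtsF_spec W_43 33333 99999 relc_43_3 v (by omega) (by omega)
        · exact fixPtsF_spec W_43 33333 133332 relc_43_4 v (by omega) (by omega)
  · rcases Nat.lt_or_ge v 233331 with h | h
    · rcases Nat.lt_or_ge v 199998 with h | h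
      · exact fixPtsF_spec W_43 33333 166665 relc_43_5 v (by omega) (by omega)
      · exact fixPtsF_spec W_43 33333 199998 relc_43_6 v (by omega) (by omega)
    · rcases Nat.lt_or_ge v 266664 with h | h
      · exact fixPtsF_spec W_43 33333 233331 relc_43_7 v (by omega) (by omega)
      · rcases Nat.lt_or_ge v 299997 with h | h
        · exact fixPtsF_spec W_43 33333 266664 relc_43_8 v (by omega) (by omega)
        · exact fixPtsF_spec W_43 6939 299997 relc_43_9 v (by omega) (by omega)

set_option maxRecDepth 1000000 in
theorem walk_43 : ∀ v, walkT ctF (D.wlen 43) (D.wordP 43) v = W_43 v := by
  intro v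
  simp only [W_43, forceL_eq]
  rfl

theorem relw_43 : ∀ v, v < 306936 → walkT ctF (D.wlen 43) (D.wordP 43) v = v := by
  intro v hv
  rw [walk_43]
  exact relf_43 v hv

theorem relf_44 : ∀ v, v < 306936 → W_44 v = v := by
  intro v hv
  rcases Nat.lt_or_ge v 150000 with h | h
  · rcases Nat.lt_or_ge v 50000 with h | h
    · exact fixPtsF_spec W_44 50000 0 relc_44_0 v (by omega) (by omega)
    · rcases Nat.lt_or_ge v 100000 with h | h
      · exact fixPtsF_spec W_44 50000 50000 relc_44_1 v (by omega) (by omega)
      · exact fixPtsF_spec W_44 50000 100000 relc_44_2 v (by omega) (by omega)
  · rcases Nat.lt_or_ge v 250000 with h | h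
    · rcases Nat.lt_or_ge v 200000 with h | h
      · exact fixPtsF_spec W_44 50000 150000 relc_44_3 v (by omega) (by omega)
      · exact fixPtsF_spec W_44 50000 200000 relc_44_4 v (by omega) (by omega)
    · rcases Nat.lt_or_ge v 300000 with h | h
      · exact fixPtsF_spec W_44 50000 250000 relc_44_5 v (by omega) (by omega)
      · exact fixPtsF_spec W_44 6936 300000 relc_44_6 v (by omega) (by omega)

set_option maxRecDepth 1000000 in
theorem walk_44 : ∀ v, walkT ctF (D.wlen 44) (D.wordP 44) v = W_44 v := by
  intro v
  simp only [W_44, forceL_eq]
  rfl

theorem relw_44 : ∀ v, v < 306936 → walkT ctF (D.wlen 44) (D.wordP 44) v = v := by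
  intro v hv
  rw [walk_44]
  exact relf_44 v hv

theorem relf_45 : ∀ v, v < 306936 → W_45 v = v := by
  intro v hv
  rcases Nat.lt_or_ge v 150000 with h | h
  · rcases Nat.lt_or_ge v 50000 with h | h
    · exact fixPtsF_spec W_45 50000 0 relc_45_0 v (by omega) (by omega)
    · rcases Nat.lt_or_ge v 100000 with h | h
      · exact fixPtsF_spec W_45 50000 50000 relc_45_1 v (by omega) (by omega)
      · exact fixPtsF_spec W_45 50000 100000 relc_45_2 v (by omega) (by omega)
  · rcases Nat.lt_or_ge v 250000 with h | h
    · rcases Nat.lt_or_ge v 200000 with h | h
      · exact fixPtsF_spec W_45 50000 150000 relc_45_3 v (by omega) (by omega)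
      · exact fixPtsF_spec W_45 50000 200000 relc_45_4 v (by omega) (by omega)
    · rcases Nat.lt_or_ge v 300000 with h | h
      · exact fixPtsF_spec W_45 50000 250000 relc_45_5 v (by omega) (by omega)
      · exact fixPtsF_spec W_45 6936 300000 relc_45_6 v (by omega) (by omega)

set_option maxRecDepth 1000000 in
theorem walk_45 : ∀ v, walkT ctF (D.wlen 45) (D.wordP 45) v = W_45 v := by
  intro v
  simp only [W_45, forceL_eq]
  rfl

theorem relw_45 : ∀ v, v < 306936 → walkT ctF (D.wlen 45) (D.wordP 45) v = v := by
  intro v hv
  rw [walk_45]
  exact relf_45 v hv

theorem relf_46 : ∀ v, v < 306936 → W_46 v = v := by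
  intro v hv
  rcases Nat.lt_or_ge v 150000 with h | h
  · rcases Nat.lt_or_ge v 50000 with h | h
    · exact fixPtsF_spec W_46 50000 0 relc_46_0 v (by omega) (by omega)
    · rcases Nat.lt_or_ge v 100000 with h | h
      · exact fixPtsF_spec W_46 50000 50000 relc_46_1 v (by omega) (by omega)
      · exact fixPtsF_spec W_46 50000 100000 relc_46_2 v (by omega) (by omega)
  · rcases Nat.lt_or_ge v 250000 with h | h
    · rcases Nat.lt_or_ge v 200000 with h | h
      · exact fixPtsF_spec W_46 50000 150000 relc_46_3 v (by omega) (by omega)
      · exact fixPtsF_spec W_46 50000 200000 relc_46_4 v (by omega) (by omega)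
    · rcases Nat.lt_or_ge v 300000 with h | h
      · exact fixPtsF_spec W_46 50000 250000 relc_46_5 v (by omega) (by omega)
      · exact fixPtsF_spec W_46 6936 300000 relc_46_6 v (by omega) (by omega)

set_option maxRecDepth 1000000 in
theorem walk_46 : ∀ v, walkT ctF (D.wlen 46) (D.wordP 46) v = W_46 v := by
  intro v
  simp only [W_46, forceL_eq]
  rfl

theorem relw_46 : ∀ v, v < 306936 → walkT ctF (D.wlen 46) (D.wordP 46) v = v := by
  intro v hv
  rw [walk_46]
  exact relf_46 v hv

theorem relf_47 : ∀ v, v < 306936 → W_47 v = v := by
  intro v hv
  rcases Nat.lt_or_ge v 150000 with h | h
  · rcases Nat.lt_or_ge v 50000 with h | h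
    · exact fixPtsF_spec W_47 50000 0 relc_47_0 v (by omega) (by omega)
    · rcases Nat.lt_or_ge v 100000 with h | h
      · exact fixPtsF_spec W_47 50000 50000 relc_47_1 v (by omega) (by omega)
      · exact fixPtsF_spec W_47 50000 100000 relc_47_2 v (by omega) (by omega)
  · rcases Nat.lt_or_ge v 250000 with h | h
    · rcases Nat.lt_or_ge v 200000 with h | h
      · exact fixPtsF_spec W_47 50000 150000 relc_47_3 v (by omega) (by omega)
      · exact fixPtsF_spec W_47 50000 200000 relc_47_4 v (by omega) (by omega)
    · rcases Nat.lt_or_ge v 300000 with h | h
      · exact fixPtsF_spec W_47 50000 250000 relc_47_5 v (by omega) (by omega)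
      · exact fixPtsF_spec W_47 6936 300000 relc_47_6 v (by omega) (by omega)

set_option maxRecDepth 1000000 in
theorem walk_47 : ∀ v, walkT ctF (D.wlen 47) (D.wordP 47) v = W_47 v := by
  intro v
  simp only [W_47, forceL_eq]
  rfl

theorem relw_47 : ∀ v, v < 306936 → walkT ctF (D.wlen 47) (D.wordP 47) v = v := by
  intro v hv
  rw [walk_47]
  exact relf_47 v hv

theorem relf_48 : ∀ v, v < 306936 → W_48 v = v := by
  intro v hv
  rcases Nat.lt_or_ge v 150000 with h | h
  · rcases Nat.lt_or_ge v 50000 with h | h
    · exact fixPtsF_spec W_48 50000 0 relc_48_0 v (by omega) (by omega)
    · rcases Nat.lt_or_ge v 100000 with h | h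
      · exact fixPtsF_spec W_48 50000 50000 relc_48_1 v (by omega) (by omega)
      · exact fixPtsF_spec W_48 50000 100000 relc_48_2 v (by omega) (by omega)
  · rcases Nat.lt_or_ge v 250000 with h | h
    · rcases Nat.lt_or_ge v 200000 with h | h
      · exact fixPtsF_spec W_48 50000 150000 relc_48_3 v (by omega) (by omega)
      · exact fixPtsF_spec W_48 50000 200000 relc_48_4 v (by omega) (by omega)
    · rcases Nat.lt_or_ge v 300000 with h | h
      · exact fixPtsF_spec W_48 50000 250000 relc_48_5 v (by omega) (by omega)
      · exact fixPtsF_spec W_48 6936 300000 relc_48_6 v (by omega) (by omega)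

set_option maxRecDepth 1000000 in
theorem walk_48 : ∀ v, walkT ctF (D.wlen 48) (D.wordP 48) v = W_48 v := by
  intro v
  simp only [W_48, forceL_eq]
  rfl

theorem relw_48 : ∀ v, v < 306936 → walkT ctF (D.wlen 48) (D.wordP 48) v = v := by
  intro v hv
  rw [walk_48]
  exact relf_48 v hv

theorem relf_49 : ∀ v, v < 306936 → W_49 v = v := by
  intro v hv
  rcases Nat.lt_or_ge v 150000 with h | h
  · rcases Nat.lt_or_ge v 50000 with h | h
    · exact fixPtsF_spec W_49 50000 0 relc_49_0 v (by omega) (by omega)
    · rcases Nat.lt_or_ge v 100000 with h | h
      · exact fixPtsF_spec W_49 50000 50000 relc_49_1 v (by omega) (by omega)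
      · exact fixPtsF_spec W_49 50000 100000 relc_49_2 v (by omega) (by omega)
  · rcases Nat.lt_or_ge v 250000 with h | h
    · rcases Nat.lt_or_ge v 200000 with h | h
      · exact fixPtsF_spec W_49 50000 150000 relc_49_3 v (by omega) (by omega)
      · exact fixPtsF_spec W_49 50000 200000 relc_49_4 v (by omega) (by omega)
    · rcases Nat.lt_or_ge v 300000 with h | h
      · exact fixPtsF_spec W_49 50000 250000 relc_49_5 v (by omega) (by omega)
      · exact fixPtsF_spec W_49 6936 300000 relc_49_6 v (by omega) (by omega)

set_option maxRecDepth 1000000 in
theorem walk_49 : ∀ v, walkT ctF (D.wlen 49) (D.wordP 49) v = W_49 v := by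
  intro v
  simp only [W_49, forceL_eq]
  rfl

theorem relw_49 : ∀ v, v < 306936 → walkT ctF (D.wlen 49) (D.wordP 49) v = v := by
  intro v hv
  rw [walk_49]
  exact relf_49 v hv

theorem relf_50 : ∀ v, v < 306936 → W_50 v = v := by
  intro v hv
  rcases Nat.lt_or_ge v 200000 with h | h
  · rcases Nat.lt_or_ge v 100000 with h | h
    · exact fixPtsF_spec W_50 100000 0 relc_50_0 v (by omega) (by omega)
    · exact fixPtsF_spec W_50 100000 100000 relc_50_1 v (by omega) (by omega)
  · rcases Nat.lt_or_ge v 300000 with h | h
    · exact fixPtsF_spec W_50 100000 200000 relc_50_2 v (by omega) (by omega)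
    · exact fixPtsF_spec W_50 6936 300000 relc_50_3 v (by omega) (by omega)

set_option maxRecDepth 1000000 in
theorem walk_50 : ∀ v, walkT ctF (D.wlen 50) (D.wordP 50) v = W_50 v := by
  intro v
  simp only [W_50, forceL_eq]
  rfl

theorem relw_50 : ∀ v, v < 306936 → walkT ctF (D.wlen 50) (D.wordP 50) v = v := by
  intro v hv
  rw [walk_50]
  exact relf_50 v hv

theorem relf_51 : ∀ v, v < 306936 → W_51 v = v := by
  intro v hv
  rcases Nat.lt_or_ge v 150000 with h | h
  · rcases Nat.lt_or_ge v 50000 with h | h
    · exact fixPtsF_spec W_51 50000 0 relc_51_0 v (by omega) (by omega)
    · rcases Nat.lt_or_ge v 100000 with h | h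
      · exact fixPtsF_spec W_51 50000 50000 relc_51_1 v (by omega) (by omega)
      · exact fixPtsF_spec W_51 50000 100000 relc_51_2 v (by omega) (by omega)
  · rcases Nat.lt_or_ge v 250000 with h | h
    · rcases Nat.lt_or_ge v 200000 with h | h
      · exact fixPtsF_spec W_51 50000 150000 relc_51_3 v (by omega) (by omega)
      · exact fixPtsF_spec W_51 50000 200000 relc_51_4 v (by omega) (by omega)
    · rcases Nat.lt_or_ge v 300000 with h | h
      · exact fixPtsF_spec W_51 50000 250000 relc_51_5 v (by omega) (by omega)
      · exact fixPtsF_spec W_51 6936 300000 relc_51_6 v (by omega) (by omega)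

set_option maxRecDepth 1000000 in
theorem walk_51 : ∀ v, walkT ctF (D.wlen 51) (D.wordP 51) v = W_51 v := by
  intro v
  simp only [W_51, forceL_eq]
  rfl

theorem relw_51 : ∀ v, v < 306936 → walkT ctF (D.wlen 51) (D.wordP 51) v = v := by
  intro v hv
  rw [walk_51]
  exact relf_51 v hv

theorem relf_52 : ∀ v, v < 306936 → W_52 v = v := by
  intro v hv
  rcases Nat.lt_or_ge v 150000 with h | h
  · rcases Nat.lt_or_ge v 50000 with h | h
    · exact fixPtsF_spec W_52 50000 0 relc_52_0 v (by omega) (by omega)
    · rcases Nat.lt_or_ge v 100000 with h | h
      · exact fixPtsF_spec W_52 50000 50000 relc_52_1 v (by omega) (by omega)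
      · exact fixPtsF_spec W_52 50000 100000 relc_52_2 v (by omega) (by omega)
  · rcases Nat.lt_or_ge v 250000 with h | h
    · rcases Nat.lt_or_ge v 200000 with h | h
      · exact fixPtsF_spec W_52 50000 150000 relc_52_3 v (by omega) (by omega)
      · exact fixPtsF_spec W_52 50000 200000 relc_52_4 v (by omega) (by omega)
    · rcases Nat.lt_or_ge v 300000 with h | h
      · exact fixPtsF_spec W_52 50000 250000 relc_52_5 v (by omega) (by omega)
      · exact fixPtsF_spec W_52 6936 300000 relc_52_6 v (by omega) (by omega)

set_option maxRecDepth 1000000 in
theorem walk_52 : ∀ v, walkT ctF (D.wlen 52) (D.wordP 52) v = W_52 v := by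
  intro v
  simp only [W_52, forceL_eq]
  rfl

theorem relw_52 : ∀ v, v < 306936 → walkT ctF (D.wlen 52) (D.wordP 52) v = v := by
  intro v hv
  rw [walk_52]
  exact relf_52 v hv

theorem relf_53 : ∀ v, v < 306936 → W_53 v = v := by
  intro v hv
  rcases Nat.lt_or_ge v 150000 with h | h
  · rcases Nat.lt_or_ge v 50000 with h | h
    · exact fixPtsF_spec W_53 50000 0 relc_53_0 v (by omega) (by omega)
    · rcases Nat.lt_or_ge v 100000 with h | h
      · exact fixPtsF_spec W_53 50000 50000 relc_53_1 v (by omega) (by omega)
      · exact fixPtsF_spec W_53 50000 100000 relc_53_2 v (by omega) (by omega)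
  · rcases Nat.lt_or_ge v 250000 with h | h
    · rcases Nat.lt_or_ge v 200000 with h | h
      · exact fixPtsF_spec W_53 50000 150000 relc_53_3 v (by omega) (by omega)
      · exact fixPtsF_spec W_53 50000 200000 relc_53_4 v (by omega) (by omega)
    · rcases Nat.lt_or_ge v 300000 with h | h
      · exact fixPtsF_spec W_53 50000 250000 relc_53_5 v (by omega) (by omega)
      · exact fixPtsF_spec W_53 6936 300000 relc_53_6 v (by omega) (by omega)

set_option maxRecDepth 1000000 in
theorem walk_53 : ∀ v, walkT ctF (D.wlen 53) (D.wordP 53) v = W_53 v := by
  intro v
  simp only [W_53, forceL_eq]
  rfl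

theorem relw_53 : ∀ v, v < 306936 → walkT ctF (D.wlen 53) (D.wordP 53) v = v := by
  intro v hv
  rw [walk_53]
  exact relf_53 v hv

theorem relf_54 : ∀ v, v < 306936 → W_54 v = v := by
  intro v hv
  rcases Nat.lt_or_ge v 150000 with h | h
  · rcases Nat.lt_or_ge v 50000 with h | h
    · exact fixPtsF_spec W_54 50000 0 relc_54_0 v (by omega) (by omega)
    · rcases Nat.lt_or_ge v 100000 with h | h
      · exact fixPtsF_spec W_54 50000 50000 relc_54_1 v (by omega) (by omega)
      · exact fixPtsF_spec W_54 50000 100000 relc_54_2 v (by omega) (by omega)
  · rcases Nat.lt_or_ge v 250000 with h | h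
    · rcases Nat.lt_or_ge v 200000 with h | h
      · exact fixPtsF_spec W_54 50000 150000 relc_54_3 v (by omega) (by omega)
      · exact fixPtsF_spec W_54 50000 200000 relc_54_4 v (by omega) (by omega)
    · rcases Nat.lt_or_ge v 300000 with h | h
      · exact fixPtsF_spec W_54 50000 250000 relc_54_5 v (by omega) (by omega)
      · exact fixPtsF_spec W_54 6936 300000 relc_54_6 v (by omega) (by omega)

set_option maxRecDepth 1000000 in
theorem walk_54 : ∀ v, walkT ctF (D.wlen 54) (D.wordP 54) v = W_54 v := by
  intro v
  simp only [W_54, forceL_eq]
  rfl

theorem relw_54 : ∀ v, v < 306936 → walkT ctF (D.wlen 54) (D.wordP 54) v = v := by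
  intro v hv
  rw [walk_54]
  exact relf_54 v hv

theorem relf_55 : ∀ v, v < 306936 → W_55 v = v := by
  intro v hv
  rcases Nat.lt_or_ge v 150000 with h | h
  · rcases Nat.lt_or_ge v 50000 with h | h
    · exact fixPtsF_spec W_55 50000 0 relc_55_0 v (by omega) (by omega)
    · rcases Nat.lt_or_ge v 100000 with h | h
      · exact fixPtsF_spec W_55 50000 50000 relc_55_1 v (by omega) (by omega)
      · exact fixPtsF_spec W_55 50000 100000 relc_55_2 v (by omega) (by omega)
  · rcases Nat.lt_or_ge v 250000 with h | h
    · rcases Nat.lt_or_ge v 200000 with h | h
      · exact fixPtsF_spec W_55 50000 150000 relc_55_3 v (by omega) (by omega)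
      · exact fixPtsF_spec W_55 50000 200000 relc_55_4 v (by omega) (by omega)
    · rcases Nat.lt_or_ge v 300000 with h | h
      · exact fixPtsF_spec W_55 50000 250000 relc_55_5 v (by omega) (by omega)
      · exact fixPtsF_spec W_55 6936 300000 relc_55_6 v (by omega) (by omega)

set_option maxRecDepth 1000000 in
theorem walk_55 : ∀ v, walkT ctF (D.wlen 55) (D.wordP 55) v = W_55 v := by
  intro v
  simp only [W_55, forceL_eq]
  rfl

theorem relw_55 : ∀ v, v < 306936 → walkT ctF (D.wlen 55) (D.wordP 55) v = v := by
  intro v hv
  rw [walk_55]
  exact relf_55 v hv

theorem relf_56 : ∀ v, v < 306936 → W_56 v = v := by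
  intro v hv
  rcases Nat.lt_or_ge v 150000 with h | h
  · rcases Nat.lt_or_ge v 50000 with h | h
    · exact fixPtsF_spec W_56 50000 0 relc_56_0 v (by omega) (by omega)
    · rcases Nat.lt_or_ge v 100000 with h | h
      · exact fixPtsF_spec W_56 50000 50000 relc_56_1 v (by omega) (by omega)
      · exact fixPtsF_spec W_56 50000 100000 relc_56_2 v (by omega) (by omega)
  · rcases Nat.lt_or_ge v 250000 with h | h
    · rcases Nat.lt_or_ge v 200000 with h | h
      · exact fixPtsF_spec W_56 50000 150000 relc_56_3 v (by omega) (by omega)
      · exact fixPtsF_spec W_56 50000 200000 relc_56_4 v (by omega) (by omega)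
    · rcases Nat.lt_or_ge v 300000 with h | h
      · exact fixPtsF_spec W_56 50000 250000 relc_56_5 v (by omega) (by omega)
      · exact fixPtsF_spec W_56 6936 300000 relc_56_6 v (by omega) (by omega)

set_option maxRecDepth 1000000 in
theorem walk_56 : ∀ v, walkT ctF (D.wlen 56) (D.wordP 56) v = W_56 v := by
  intro v
  simp only [W_56, forceL_eq]
  rfl

theorem relw_56 : ∀ v, v < 306936 → walkT ctF (D.wlen 56) (D.wordP 56) v = v := by
  intro v hv
  rw [walk_56]
  exact relf_56 v hv

theorem relf_57 : ∀ v, v < 306936 → W_57 v = v := by
  intro v hv
  rcases Nat.lt_or_ge v 200000 with h | h
  · rcases Nat.lt_or_ge v 100000 with h | h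
    · exact fixPtsF_spec W_57 100000 0 relc_57_0 v (by omega) (by omega)
    · exact fixPtsF_spec W_57 100000 100000 relc_57_1 v (by omega) (by omega)
  · rcases Nat.lt_or_ge v 300000 with h | h
    · exact fixPtsF_spec W_57 100000 200000 relc_57_2 v (by omega) (by omega)
    · exact fixPtsF_spec W_57 6936 300000 relc_57_3 v (by omega) (by omega)

set_option maxRecDepth 1000000 in
theorem walk_57 : ∀ v, walkT ctF (D.wlen 57) (D.wordP 57) v = W_57 v := by
  intro v
  simp only [W_57, forceL_eq]
  rfl

theorem relw_57 : ∀ v, v < 306936 → walkT ctF (D.wlen 57) (D.wordP 57) v = v := by
  intro v hv
  rw [walk_57]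
  exact relf_57 v hv

theorem relf_58 : ∀ v, v < 306936 → W_58 v = v := by
  intro v hv
  rcases Nat.lt_or_ge v 166665 with h | h
  · rcases Nat.lt_or_ge v 66666 with h | h
    · rcases Nat.lt_or_ge v 33333 with h | h
      · exact fixPtsF_spec W_58 33333 0 relc_58_0 v (by omega) (by omega)
      · exact fixPtsF_spec W_58 33333 33333 relc_58_1 v (by omega) (by omega)
    · rcases Nat.lt_or_ge v 99999 with h | h
      · exact fixPtsF_spec W_58 33333 66666 relc_58_2 v (by omega) (by omega)
      · rcases Nat.lt_or_ge v 133332 with h | h
        · exact fixPtsF_spec W_58 33333 99999 relc_58_3 v (by omega) (by omega)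
        · exact fixPtsF_spec W_58 33333 133332 relc_58_4 v (by omega) (by omega)
  · rcases Nat.lt_or_ge v 233331 with h | h
    · rcases Nat.lt_or_ge v 199998 with h | h
      · exact fixPtsF_spec W_58 33333 166665 relc_58_5 v (by omega) (by omega)
      · exact fixPtsF_spec W_58 33333 199998 relc_58_6 v (by omega) (by omega)
    · rcases Nat.lt_or_ge v 266664 with h | h
      · exact fixPtsF_spec W_58 33333 233331 relc_58_7 v (by omega) (by omega)
      · rcases Nat.lt_or_ge v 299997 with h | h
        · exact fixPtsF_spec W_58 33333 266664 relc_58_8 v (by omega) (by omega)
        · exact fixPtsF_spec W_58 6939 299997 relc_58_9 v (by omega) (by omega)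

set_option maxRecDepth 1000000 in
theorem walk_58 : ∀ v, walkT ctF (D.wlen 58) (D.wordP 58) v = W_58 v := by
  intro v
  simp only [W_58, forceL_eq]
  rfl

theorem relw_58 : ∀ v, v < 306936 → walkT ctF (D.wlen 58) (D.wordP 58) v = v := by
  intro v hv
  rw [walk_58]
  exact relf_58 v hv

theorem relf_59 : ∀ v, v < 306936 → W_59 v = v := by
  intro v hv
  rcases Nat.lt_or_ge v 150000 with h | h
  · rcases Nat.lt_or_ge v 50000 with h | h
    · exact fixPtsF_spec W_59 50000 0 relc_59_0 v (by omega) (by omega)
    · rcases Nat.lt_or_ge v 100000 with h | h
      · exact fixPtsF_spec W_59 50000 50000 relc_59_1 v (by omega) (by omega)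
      · exact fixPtsF_spec W_59 50000 100000 relc_59_2 v (by omega) (by omega)
  · rcases Nat.lt_or_ge v 250000 with h | h
    · rcases Nat.lt_or_ge v 200000 with h | h
      · exact fixPtsF_spec W_59 50000 150000 relc_59_3 v (by omega) (by omega)
      · exact fixPtsF_spec W_59 50000 200000 relc_59_4 v (by omega) (by omega)
    · rcases Nat.lt_or_ge v 300000 with h | h
      · exact fixPtsF_spec W_59 50000 250000 relc_59_5 v (by omega) (by omega)
      · exact fixPtsF_spec W_59 6936 300000 relc_59_6 v (by omega) (by omega)

set_option maxRecDepth 1000000 in
theorem walk_59 : ∀ v, walkT ctF (D.wlen 59) (D.wordP 59) v = W_59 v := by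
  intro v
  simp only [W_59, forceL_eq]
  rfl

theorem relw_59 : ∀ v, v < 306936 → walkT ctF (D.wlen 59) (D.wordP 59) v = v := by
  intro v hv
  rw [walk_59]
  exact relf_59 v hv

theorem relf_60 : ∀ v, v < 306936 → W_60 v = v := by
  intro v hv
  rcases Nat.lt_or_ge v 150000 with h | h
  · rcases Nat.lt_or_ge v 50000 with h | h
    · exact fixPtsF_spec W_60 50000 0 relc_60_0 v (by omega) (by omega)
    · rcases Nat.lt_or_ge v 100000 with h | h
      · exact fixPtsF_spec W_60 50000 50000 relc_60_1 v (by omega) (by omega)
      · exact fixPtsF_spec W_60 50000 100000 relc_60_2 v (by omega) (by omega)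
  · rcases Nat.lt_or_ge v 250000 with h | h
    · rcases Nat.lt_or_ge v 200000 with h | h
      · exact fixPtsF_spec W_60 50000 150000 relc_60_3 v (by omega) (by omega)
      · exact fixPtsF_spec W_60 50000 200000 relc_60_4 v (by omega) (by omega)
    · rcases Nat.lt_or_ge v 300000 with h | h
      · exact fixPtsF_spec W_60 50000 250000 relc_60_5 v (by omega) (by omega)
      · exact fixPtsF_spec W_60 6936 300000 relc_60_6 v (by omega) (by omega)

set_option maxRecDepth 1000000 in
theorem walk_60 : ∀ v, walkT ctF (D.wlen 60) (D.wordP 60) v = W_60 v := by
  intro v
  simp only [W_60, forceL_eq]
  rfl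

theorem relw_60 : ∀ v, v < 306936 → walkT ctF (D.wlen 60) (D.wordP 60) v = v := by
  intro v hv
  rw [walk_60]
  exact relf_60 v hv

theorem relf_61 : ∀ v, v < 306936 → W_61 v = v := by
  intro v hv
  rcases Nat.lt_or_ge v 150000 with h | h
  · rcases Nat.lt_or_ge v 50000 with h | h
    · exact fixPtsF_spec W_61 50000 0 relc_61_0 v (by omega) (by omega)
    · rcases Nat.lt_or_ge v 100000 with h | h
      · exact fixPtsF_spec W_61 50000 50000 relc_61_1 v (by omega) (by omega)
      · exact fixPtsF_spec W_61 50000 100000 relc_61_2 v (by omega) (by omega)
  · rcases Nat.lt_or_ge v 250000 with h | h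
    · rcases Nat.lt_or_ge v 200000 with h | h
      · exact fixPtsF_spec W_61 50000 150000 relc_61_3 v (by omega) (by omega)
      · exact fixPtsF_spec W_61 50000 200000 relc_61_4 v (by omega) (by omega)
    · rcases Nat.lt_or_ge v 300000 with h | h
      · exact fixPtsF_spec W_61 50000 250000 relc_61_5 v (by omega) (by omega)
      · exact fixPtsF_spec W_61 6936 300000 relc_61_6 v (by omega) (by omega)

set_option maxRecDepth 1000000 in
theorem walk_61 : ∀ v, walkT ctF (D.wlen 61) (D.wordP 61) v = W_61 v := by
  intro v
  simp only [W_61, forceL_eq]
  rfl

theorem relw_61 : ∀ v, v < 306936 → walkT ctF (D.wlen 61) (D.wordP 61) v = v := by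
  intro v hv
  rw [walk_61]
  exact relf_61 v hv

theorem relf_62 : ∀ v, v < 306936 → W_62 v = v := by
  intro v hv
  rcases Nat.lt_or_ge v 150000 with h | h
  · rcases Nat.lt_or_ge v 50000 with h | h
    · exact fixPtsF_spec W_62 50000 0 relc_62_0 v (by omega) (by omega)
    · rcases Nat.lt_or_ge v 100000 with h | h
      · exact fixPtsF_spec W_62 50000 50000 relc_62_1 v (by omega) (by omega)
      · exact fixPtsF_spec W_62 50000 100000 relc_62_2 v (by omega) (by omega)
  · rcases Nat.lt_or_ge v 250000 with h | h
    · rcases Nat.lt_or_ge v 200000 with h | h
      · exact fixPtsF_spec W_62 50000 150000 relc_62_3 v (by omega) (by omega)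
      · exact fixPtsF_spec W_62 50000 200000 relc_62_4 v (by omega) (by omega)
    · rcases Nat.lt_or_ge v 300000 with h | h
      · exact fixPtsF_spec W_62 50000 250000 relc_62_5 v (by omega) (by omega)
      · exact fixPtsF_spec W_62 6936 300000 relc_62_6 v (by omega) (by omega)

set_option maxRecDepth 1000000 in
theorem walk_62 : ∀ v, walkT ctF (D.wlen 62) (D.wordP 62) v = W_62 v := by
  intro v
  simp only [W_62, forceL_eq]
  rfl

theorem relw_62 : ∀ v, v < 306936 → walkT ctF (D.wlen 62) (D.wordP 62) v = v := by
  intro v hv
  rw [walk_62]
  exact relf_62 v hv

theorem relf_63 : ∀ v, v < 306936 → W_63 v = v := by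
  intro v hv
  rcases Nat.lt_or_ge v 200000 with h | h
  · rcases Nat.lt_or_ge v 100000 with h | h
    · exact fixPtsF_spec W_63 100000 0 relc_63_0 v (by omega) (by omega)
    · exact fixPtsF_spec W_63 100000 100000 relc_63_1 v (by omega) (by omega)
  · rcases Nat.lt_or_ge v 300000 with h | h
    · exact fixPtsF_spec W_63 100000 200000 relc_63_2 v (by omega) (by omega)
    · exact fixPtsF_spec W_63 6936 300000 relc_63_3 v (by omega) (by omega)

set_option maxRecDepth 1000000 in
theorem walk_63 : ∀ v, walkT ctF (D.wlen 63) (D.wordP 63) v = W_63 v := by
  intro v
  simp only [W_63, forceL_eq]
  rfl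

theorem relw_63 : ∀ v, v < 306936 → walkT ctF (D.wlen 63) (D.wordP 63) v = v := by
  intro v hv
  rw [walk_63]
  exact relf_63 v hv

theorem relf_64 : ∀ v, v < 306936 → W_64 v = v := by
  intro v hv
  rcases Nat.lt_or_ge v 150000 with h | h
  · rcases Nat.lt_or_ge v 50000 with h | h
    · exact fixPtsF_spec W_64 50000 0 relc_64_0 v (by omega) (by omega)
    · rcases Nat.lt_or_ge v 100000 with h | h
      · exact fixPtsF_spec W_64 50000 50000 relc_64_1 v (by omega) (by omega)
      · exact fixPtsF_spec W_64 50000 100000 relc_64_2 v (by omega) (by omega)
  · rcases Nat.lt_or_ge v 250000 with h | h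
    · rcases Nat.lt_or_ge v 200000 with h | h
      · exact fixPtsF_spec W_64 50000 150000 relc_64_3 v (by omega) (by omega)
      · exact fixPtsF_spec W_64 50000 200000 relc_64_4 v (by omega) (by omega)
    · rcases Nat.lt_or_ge v 300000 with h | h
      · exact fixPtsF_spec W_64 50000 250000 relc_64_5 v (by omega) (by omega)
      · exact fixPtsF_spec W_64 6936 300000 relc_64_6 v (by omega) (by omega)

set_option maxRecDepth 1000000 in
theorem walk_64 : ∀ v, walkT ctF (D.wlen 64) (D.wordP 64) v = W_64 v := by
  intro v
  simp only [W_64, forceL_eq]
  rfl

theorem relw_64 : ∀ v, v < 306936 → walkT ctF (D.wlen 64) (D.wordP 64) v = v := by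
  intro v hv
  rw [walk_64]
  exact relf_64 v hv

theorem relf_65 : ∀ v, v < 306936 → W_65 v = v := by
  intro v hv
  rcases Nat.lt_or_ge v 166665 with h | h
  · rcases Nat.lt_or_ge v 66666 with h | h
    · rcases Nat.lt_or_ge v 33333 with h | h
      · exact fixPtsF_spec W_65 33333 0 relc_65_0 v (by omega) (by omega)
      · exact fixPtsF_spec W_65 33333 33333 relc_65_1 v (by omega) (by omega)
    · rcases Nat.lt_or_ge v 99999 with h | h
      · exact fixPtsF_spec W_65 33333 66666 relc_65_2 v (by omega) (by omega)
      · rcases Nat.lt_or_ge v 133332 with h | h
        · exact fixPtsF_spec W_65 33333 99999 relc_65_3 v (by omega) (by omega)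
        · exact fixPtsF_spec W_65 33333 133332 relc_65_4 v (by omega) (by omega)
  · rcases Nat.lt_or_ge v 233331 with h | h
    · rcases Nat.lt_or_ge v 199998 with h | h
      · exact fixPtsF_spec W_65 33333 166665 relc_65_5 v (by omega) (by omega)
      · exact fixPtsF_spec W_65 33333 199998 relc_65_6 v (by omega) (by omega)
    · rcases Nat.lt_or_ge v 266664 with h | h
      · exact fixPtsF_spec W_65 33333 233331 relc_65_7 v (by omega) (by omega)
      · rcases Nat.lt_or_ge v 299997 with h | h
        · exact fixPtsF_spec W_65 33333 266664 relc_65_8 v (by omega) (by omega)
        · exact fixPtsF_spec W_65 6939 299997 relc_65_9 v (by omega) (by omega)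

set_option maxRecDepth 1000000 in
theorem walk_65 : ∀ v, walkT ctF (D.wlen 65) (D.wordP 65) v = W_65 v := by
  intro v
  simp only [W_65, forceL_eq]
  rfl

theorem relw_65 : ∀ v, v < 306936 → walkT ctF (D.wlen 65) (D.wordP 65) v = v := by
  intro v hv
  rw [walk_65]
  exact relf_65 v hv

theorem relf_66 : ∀ v, v < 306936 → W_66 v = v := by
  intro v hv
  rcases Nat.lt_or_ge v 150000 with h | h
  · rcases Nat.lt_or_ge v 50000 with h | h
    · exact fixPtsF_spec W_66 50000 0 relc_66_0 v (by omega) (by omega)
    · rcases Nat.lt_or_ge v 100000 with h | h
      · exact fixPtsF_spec W_66 50000 50000 relc_66_1 v (by omega) (by omega)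
      · exact fixPtsF_spec W_66 50000 100000 relc_66_2 v (by omega) (by omega)
  · rcases Nat.lt_or_ge v 250000 with h | h
    · rcases Nat.lt_or_ge v 200000 with h | h
      · exact fixPtsF_spec W_66 50000 150000 relc_66_3 v (by omega) (by omega)
      · exact fixPtsF_spec W_66 50000 200000 relc_66_4 v (by omega) (by omega)
    · rcases Nat.lt_or_ge v 300000 with h | h
      · exact fixPtsF_spec W_66 50000 250000 relc_66_5 v (by omega) (by omega)
      · exact fixPtsF_spec W_66 6936 300000 relc_66_6 v (by omega) (by omega)

set_option maxRecDepth 1000000 in
theorem walk_66 : ∀ v, walkT ctF (D.wlen 66) (D.wordP 66) v = W_66 v := by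
  intro v
  simp only [W_66, forceL_eq]
  rfl

theorem relw_66 : ∀ v, v < 306936 → walkT ctF (D.wlen 66) (D.wordP 66) v = v := by
  intro v hv
  rw [walk_66]
  exact relf_66 v hv

theorem relf_67 : ∀ v, v < 306936 → W_67 v = v := by
  intro v hv
  rcases Nat.lt_or_ge v 150000 with h | h
  · rcases Nat.lt_or_ge v 50000 with h | h
    · exact fixPtsF_spec W_67 50000 0 relc_67_0 v (by omega) (by omega)
    · rcases Nat.lt_or_ge v 100000 with h | h
      · exact fixPtsF_spec W_67 50000 50000 relc_67_1 v (by omega) (by omega)
      · exact fixPtsF_spec W_67 50000 100000 relc_67_2 v (by omega) (by omega)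
  · rcases Nat.lt_or_ge v 250000 with h | h
    · rcases Nat.lt_or_ge v 200000 with h | h
      · exact fixPtsF_spec W_67 50000 150000 relc_67_3 v (by omega) (by omega)
      · exact fixPtsF_spec W_67 50000 200000 relc_67_4 v (by omega) (by omega)
    · rcases Nat.lt_or_ge v 300000 with h | h
      · exact fixPtsF_spec W_67 50000 250000 relc_67_5 v (by omega) (by omega)
      · exact fixPtsF_spec W_67 6936 300000 relc_67_6 v (by omega) (by omega)

set_option maxRecDepth 1000000 in
theorem walk_67 : ∀ v, walkT ctF (D.wlen 67) (D.wordP 67) v = W_67 v := by
  intro v
  simp only [W_67, forceL_eq]
  rfl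

theorem relw_67 : ∀ v, v < 306936 → walkT ctF (D.wlen 67) (D.wordP 67) v = v := by
  intro v hv
  rw [walk_67]
  exact relf_67 v hv

theorem relf_68 : ∀ v, v < 306936 → W_68 v = v := by
  intro v hv
  rcases Nat.lt_or_ge v 200000 with h | h
  · rcases Nat.lt_or_ge v 100000 with h | h
    · exact fixPtsF_spec W_68 100000 0 relc_68_0 v (by omega) (by omega)
    · exact fixPtsF_spec W_68 100000 100000 relc_68_1 v (by omega) (by omega)
  · rcases Nat.lt_or_ge v 300000 with h | h
    · exact fixPtsF_spec W_68 100000 200000 relc_68_2 v (by omega) (by omega)
    · exact fixPtsF_spec W_68 6936 300000 relc_68_3 v (by omega) (by omega)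

set_option maxRecDepth 1000000 in
theorem walk_68 : ∀ v, walkT ctF (D.wlen 68) (D.wordP 68) v = W_68 v := by
  intro v
  simp only [W_68, forceL_eq]
  rfl

theorem relw_68 : ∀ v, v < 306936 → walkT ctF (D.wlen 68) (D.wordP 68) v = v := by
  intro v hv
  rw [walk_68]
  exact relf_68 v hv

theorem relf_69 : ∀ v, v < 306936 → W_69 v = v := by
  intro v hv
  rcases Nat.lt_or_ge v 150000 with h | h
  · rcases Nat.lt_or_ge v 50000 with h | h
    · exact fixPtsF_spec W_69 50000 0 relc_69_0 v (by omega) (by omega)
    · rcases Nat.lt_or_ge v 100000 with h | h
      · exact fixPtsF_spec W_69 50000 50000 relc_69_1 v (by omega) (by omega)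
      · exact fixPtsF_spec W_69 50000 100000 relc_69_2 v (by omega) (by omega)
  · rcases Nat.lt_or_ge v 250000 with h | h
    · rcases Nat.lt_or_ge v 200000 with h | h
      · exact fixPtsF_spec W_69 50000 150000 relc_69_3 v (by omega) (by omega)
      · exact fixPtsF_spec W_69 50000 200000 relc_69_4 v (by omega) (by omega)
    · rcases Nat.lt_or_ge v 300000 with h | h
      · exact fixPtsF_spec W_69 50000 250000 relc_69_5 v (by omega) (by omega)
      · exact fixPtsF_spec W_69 6936 300000 relc_69_6 v (by omega) (by omega)

set_option maxRecDepth 1000000 in
theorem walk_69 : ∀ v, walkT ctF (D.wlen 69) (D.wordP 69) v = W_69 v := by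
  intro v
  simp only [W_69, forceL_eq]
  rfl

theorem relw_69 : ∀ v, v < 306936 → walkT ctF (D.wlen 69) (D.wordP 69) v = v := by
  intro v hv
  rw [walk_69]
  exact relf_69 v hv

theorem relf_70 : ∀ v, v < 306936 → W_70 v = v := by
  intro v hv
  rcases Nat.lt_or_ge v 150000 with h | h
  · rcases Nat.lt_or_ge v 50000 with h | h
    · exact fixPtsF_spec W_70 50000 0 relc_70_0 v (by omega) (by omega)
    · rcases Nat.lt_or_ge v 100000 with h | h
      · exact fixPtsF_spec W_70 50000 50000 relc_70_1 v (by omega) (by omega)
      · exact fixPtsF_spec W_70 50000 100000 relc_70_2 v (by omega) (by omega)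
  · rcases Nat.lt_or_ge v 250000 with h | h
    · rcases Nat.lt_or_ge v 200000 with h | h
      · exact fixPtsF_spec W_70 50000 150000 relc_70_3 v (by omega) (by omega)
      · exact fixPtsF_spec W_70 50000 200000 relc_70_4 v (by omega) (by omega)
    · rcases Nat.lt_or_ge v 300000 with h | h
      · exact fixPtsF_spec W_70 50000 250000 relc_70_5 v (by omega) (by omega)
      · exact fixPtsF_spec W_70 6936 300000 relc_70_6 v (by omega) (by omega)

set_option maxRecDepth 1000000 in
theorem walk_70 : ∀ v, walkT ctF (D.wlen 70) (D.wordP 70) v = W_70 v := by
  intro v
  simp only [W_70, forceL_eq]
  rfl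

theorem relw_70 : ∀ v, v < 306936 → walkT ctF (D.wlen 70) (D.wordP 70) v = v := by
  intro v hv
  rw [walk_70]
  exact relf_70 v hv

theorem relf_71 : ∀ v, v < 306936 → W_71 v = v := by
  intro v hv
  rcases Nat.lt_or_ge v 166665 with h | h
  · rcases Nat.lt_or_ge v 66666 with h | h
    · rcases Nat.lt_or_ge v 33333 with h | h
      · exact fixPtsF_spec W_71 33333 0 relc_71_0 v (by omega) (by omega)
      · exact fixPtsF_spec W_71 33333 33333 relc_71_1 v (by omega) (by omega)
    · rcases Nat.lt_or_ge v 99999 with h | h
      · exact fixPtsF_spec W_71 33333 66666 relc_71_2 v (by omega) (by omega)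
      · rcases Nat.lt_or_ge v 133332 with h | h
        · exact fixPtsF_spec W_71 33333 99999 relc_71_3 v (by omega) (by omega)
        · exact fixPtsF_spec W_71 33333 133332 relc_71_4 v (by omega) (by omega)
  · rcases Nat.lt_or_ge v 233331 with h | h
    · rcases Nat.lt_or_ge v 199998 with h | h
      · exact fixPtsF_spec W_71 33333 166665 relc_71_5 v (by omega) (by omega)
      · exact fixPtsF_spec W_71 33333 199998 relc_71_6 v (by omega) (by omega)
    · rcases Nat.lt_or_ge v 266664 with h | h
      · exact fixPtsF_spec W_71 33333 233331 relc_71_7 v (by omega) (by omega)
      · rcases Nat.lt_or_ge v 299997 with h | h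
        · exact fixPtsF_spec W_71 33333 266664 relc_71_8 v (by omega) (by omega)
        · exact fixPtsF_spec W_71 6939 299997 relc_71_9 v (by omega) (by omega)

set_option maxRecDepth 1000000 in
theorem walk_71 : ∀ v, walkT ctF (D.wlen 71) (D.wordP 71) v = W_71 v := by
  intro v
  simp only [W_71, forceL_eq]
  rfl

theorem relw_71 : ∀ v, v < 306936 → walkT ctF (D.wlen 71) (D.wordP 71) v = v := by
  intro v hv
  rw [walk_71]
  exact relf_71 v hv

theorem relf_72 : ∀ v, v < 306936 → W_72 v = v := by
  intro v hv
  rcases Nat.lt_or_ge v 200000 with h | h
  · rcases Nat.lt_or_ge v 100000 with h | h
    · exact fixPtsF_spec W_72 100000 0 relc_72_0 v (by omega) (by omega)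
    · exact fixPtsF_spec W_72 100000 100000 relc_72_1 v (by omega) (by omega)
  · rcases Nat.lt_or_ge v 300000 with h | h
    · exact fixPtsF_spec W_72 100000 200000 relc_72_2 v (by omega) (by omega)
    · exact fixPtsF_spec W_72 6936 300000 relc_72_3 v (by omega) (by omega)

set_option maxRecDepth 1000000 in
theorem walk_72 : ∀ v, walkT ctF (D.wlen 72) (D.wordP 72) v = W_72 v := by
  intro v
  simp only [W_72, forceL_eq]
  rfl

theorem relw_72 : ∀ v, v < 306936 → walkT ctF (D.wlen 72) (D.wordP 72) v = v := by
  intro v hv
  rw [walk_72]
  exact relf_72 v hv

theorem relf_73 : ∀ v, v < 306936 → W_73 v = v := by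
  intro v hv
  rcases Nat.lt_or_ge v 150000 with h | h
  · rcases Nat.lt_or_ge v 50000 with h | h
    · exact fixPtsF_spec W_73 50000 0 relc_73_0 v (by omega) (by omega)
    · rcases Nat.lt_or_ge v 100000 with h | h
      · exact fixPtsF_spec W_73 50000 50000 relc_73_1 v (by omega) (by omega)
      · exact fixPtsF_spec W_73 50000 100000 relc_73_2 v (by omega) (by omega)
  · rcases Nat.lt_or_ge v 250000 with h | h
    · rcases Nat.lt_or_ge v 200000 with h | h
      · exact fixPtsF_spec W_73 50000 150000 relc_73_3 v (by omega) (by omega)
      · exact fixPtsF_spec W_73 50000 200000 relc_73_4 v (by omega) (by omega)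
    · rcases Nat.lt_or_ge v 300000 with h | h
      · exact fixPtsF_spec W_73 50000 250000 relc_73_5 v (by omega) (by omega)
      · exact fixPtsF_spec W_73 6936 300000 relc_73_6 v (by omega) (by omega)

set_option maxRecDepth 1000000 in
theorem walk_73 : ∀ v, walkT ctF (D.wlen 73) (D.wordP 73) v = W_73 v := by
  intro v
  simp only [W_73, forceL_eq]
  rfl

theorem relw_73 : ∀ v, v < 306936 → walkT ctF (D.wlen 73) (D.wordP 73) v = v := by
  intro v hv
  rw [walk_73]
  exact relf_73 v hv

theorem relf_74 : ∀ v, v < 306936 → W_74 v = v := by
  intro v hv
  rcases Nat.lt_or_ge v 150000 with h | h
  · rcases Nat.lt_or_ge v 50000 with h | h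
    · exact fixPtsF_spec W_74 50000 0 relc_74_0 v (by omega) (by omega)
    · rcases Nat.lt_or_ge v 100000 with h | h
      · exact fixPtsF_spec W_74 50000 50000 relc_74_1 v (by omega) (by omega)
      · exact fixPtsF_spec W_74 50000 100000 relc_74_2 v (by omega) (by omega)
  · rcases Nat.lt_or_ge v 250000 with h | h
    · rcases Nat.lt_or_ge v 200000 with h | h
      · exact fixPtsF_spec W_74 50000 150000 relc_74_3 v (by omega) (by omega)
      · exact fixPtsF_spec W_74 50000 200000 relc_74_4 v (by omega) (by omega)
    · rcases Nat.lt_or_ge v 300000 with h | h
      · exact fixPtsF_spec W_74 50000 250000 relc_74_5 v (by omega) (by omega)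
      · exact fixPtsF_spec W_74 6936 300000 relc_74_6 v (by omega) (by omega)

set_option maxRecDepth 1000000 in
theorem walk_74 : ∀ v, walkT ctF (D.wlen 74) (D.wordP 74) v = W_74 v := by
  intro v
  simp only [W_74, forceL_eq]
  rfl

theorem relw_74 : ∀ v, v < 306936 → walkT ctF (D.wlen 74) (D.wordP 74) v = v := by
  intro v hv
  rw [walk_74]
  exact relf_74 v hv

theorem relf_75 : ∀ v, v < 306936 → W_75 v = v := by
  intro v hv
  rcases Nat.lt_or_ge v 200000 with h | h
  · rcases Nat.lt_or_ge v 100000 with h | h
    · exact fixPtsF_spec W_75 100000 0 relc_75_0 v (by omega) (by omega)
    · exact fixPtsF_spec W_75 100000 100000 relc_75_1 v (by omega) (by omega)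
  · rcases Nat.lt_or_ge v 300000 with h | h
    · exact fixPtsF_spec W_75 100000 200000 relc_75_2 v (by omega) (by omega)
    · exact fixPtsF_spec W_75 6936 300000 relc_75_3 v (by omega) (by omega)

set_option maxRecDepth 1000000 in
theorem walk_75 : ∀ v, walkT ctF (D.wlen 75) (D.wordP 75) v = W_75 v := by
  intro v
  simp only [W_75, forceL_eq]
  rfl

theorem relw_75 : ∀ v, v < 306936 → walkT ctF (D.wlen 75) (D.wordP 75) v = v := by
  intro v hv
  rw [walk_75]
  exact relf_75 v hv

theorem relf_76 : ∀ v, v < 306936 → W_76 v = v := by
  intro v hv
  rcases Nat.lt_or_ge v 166665 with h | h
  · rcases Nat.lt_or_ge v 66666 with h | h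
    · rcases Nat.lt_or_ge v 33333 with h | h
      · exact fixPtsF_spec W_76 33333 0 relc_76_0 v (by omega) (by omega)
      · exact fixPtsF_spec W_76 33333 33333 relc_76_1 v (by omega) (by omega)
    · rcases Nat.lt_or_ge v 99999 with h | h
      · exact fixPtsF_spec W_76 33333 66666 relc_76_2 v (by omega) (by omega)
      · rcases Nat.lt_or_ge v 133332 with h | h
        · exact fixPtsF_spec W_76 33333 99999 relc_76_3 v (by omega) (by omega)
        · exact fixPtsF_spec W_76 33333 133332 relc_76_4 v (by omega) (by omega)
  · rcases Nat.lt_or_ge v 233331 with h | h
    · rcases Nat.lt_or_ge v 199998 with h | h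
      · exact fixPtsF_spec W_76 33333 166665 relc_76_5 v (by omega) (by omega)
      · exact fixPtsF_spec W_76 33333 199998 relc_76_6 v (by omega) (by omega)
    · rcases Nat.lt_or_ge v 266664 with h | h
      · exact fixPtsF_spec W_76 33333 233331 relc_76_7 v (by omega) (by omega)
      · rcases Nat.lt_or_ge v 299997 with h | h
        · exact fixPtsF_spec W_76 33333 266664 relc_76_8 v (by omega) (by omega)
        · exact fixPtsF_spec W_76 6939 299997 relc_76_9 v (by omega) (by omega)

set_option maxRecDepth 1000000 in
theorem walk_76 : ∀ v, walkT ctF (D.wlen 76) (D.wordP 76) v = W_76 v := by
  intro v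
  simp only [W_76, forceL_eq]
  rfl

theorem relw_76 : ∀ v, v < 306936 → walkT ctF (D.wlen 76) (D.wordP 76) v = v := by
  intro v hv
  rw [walk_76]
  exact relf_76 v hv

theorem relf_77 : ∀ v, v < 306936 → W_77 v = v := by
  intro v hv
  rcases Nat.lt_or_ge v 200000 with h | h
  · rcases Nat.lt_or_ge v 100000 with h | h
    · exact fixPtsF_spec W_77 100000 0 relc_77_0 v (by omega) (by omega)
    · exact fixPtsF_spec W_77 100000 100000 relc_77_1 v (by omega) (by omega)
  · rcases Nat.lt_or_ge v 300000 with h | h
    · exact fixPtsF_spec W_77 100000 200000 relc_77_2 v (by omega) (by omega)
    · exact fixPtsF_spec W_77 6936 300000 relc_77_3 v (by omega) (by omega)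

set_option maxRecDepth 1000000 in
theorem walk_77 : ∀ v, walkT ctF (D.wlen 77) (D.wordP 77) v = W_77 v := by
  intro v
  simp only [W_77, forceL_eq]
  rfl

theorem relw_77 : ∀ v, v < 306936 → walkT ctF (D.wlen 77) (D.wordP 77) v = v := by
  intro v hv
  rw [walk_77]
  exact relf_77 v hv

theorem relf_78 : ∀ v, v < 306936 → W_78 v = v := by
  intro v hv
  rcases Nat.lt_or_ge v 153125 with h | h
  · rcases Nat.lt_or_ge v 75000 with h | h
    · rcases Nat.lt_or_ge v 37500 with h | h
      · rcases Nat.lt_or_ge v 18750 with h | h
        · rcases Nat.lt_or_ge v 9375 with h | h
          · rcases Nat.lt_or_ge v 3125 with h | h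
            · exact fixPtsF_spec W_78 3125 0 relc_78_0 v (by omega) (by omega)
            · rcases Nat.lt_or_ge v 6250 with h | h
              · exact fixPtsF_spec W_78 3125 3125 relc_78_1 v (by omega) (by omega)
              · exact fixPtsF_spec W_78 3125 6250 relc_78_2 v (by omega) (by omega)
          · rcases Nat.lt_or_ge v 12500 with h | h
            · exact fixPtsF_spec W_78 3125 9375 relc_78_3 v (by omega) (by omega)
            · rcases Nat.lt_or_ge v 15625 with h | h
              · exact fixPtsF_spec W_78 3125 12500 relc_78_4 v (by omega) (by omega)
              · exact fixPtsF_spec W_78 3125 15625 relc_78_5 v (by omega) (by omega)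
        · rcases Nat.lt_or_ge v 28125 with h | h
          · rcases Nat.lt_or_ge v 21875 with h | h
            · exact fixPtsF_spec W_78 3125 18750 relc_78_6 v (by omega) (by omega)
            · rcases Nat.lt_or_ge v 25000 with h | h
              · exact fixPtsF_spec W_78 3125 21875 relc_78_7 v (by omega) (by omega)
              · exact fixPtsF_spec W_78 3125 25000 relc_78_8 v (by omega) (by omega)
          · rcases Nat.lt_or_ge v 31250 with h | h
            · exact fixPtsF_spec W_78 3125 28125 relc_78_9 v (by omega) (by omega)
            · rcases Nat.lt_or_ge v 34375 with h | h
              · exact fixPtsF_spec W_78 3125 31250 relc_78_10 v (by omega) (by omega)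
              · exact fixPtsF_spec W_78 3125 34375 relc_78_11 v (by omega) (by omega)
      · rcases Nat.lt_or_ge v 56250 with h | h
        · rcases Nat.lt_or_ge v 46875 with h | h
          · rcases Nat.lt_or_ge v 40625 with h | h
            · exact fixPtsF_spec W_78 3125 37500 relc_78_12 v (by omega) (by omega)
            · rcases Nat.lt_or_ge v 43750 with h | h
              · exact fixPtsF_spec W_78 3125 40625 relc_78_13 v (by omega) (by omega)
              · exact fixPtsF_spec W_78 3125 43750 relc_78_14 v (by omega) (by omega)
          · rcases Nat.lt_or_ge v 50000 with h | h
            · exact fixPtsF_spec W_78 3125 46875 relc_78_15 v (by omega) (by omega)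
            · rcases Nat.lt_or_ge v 53125 with h | h
              · exact fixPtsF_spec W_78 3125 50000 relc_78_16 v (by omega) (by omega)
              · exact fixPtsF_spec W_78 3125 53125 relc_78_17 v (by omega) (by omega)
        · rcases Nat.lt_or_ge v 65625 with h | h
          · rcases Nat.lt_or_ge v 59375 with h | h
            · exact fixPtsF_spec W_78 3125 56250 relc_78_18 v (by omega) (by omega)
            · rcases Nat.lt_or_ge v 62500 with h | h
              · exact fixPtsF_spec W_78 3125 59375 relc_78_19 v (by omega) (by omega)
              · exact fixPtsF_spec W_78 3125 62500 relc_78_20 v (by omega) (by omega)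
          · rcases Nat.lt_or_ge v 68750 with h | h
            · exact fixPtsF_spec W_78 3125 65625 relc_78_21 v (by omega) (by omega)
            · rcases Nat.lt_or_ge v 71875 with h | h
              · exact fixPtsF_spec W_78 3125 68750 relc_78_22 v (by omega) (by omega)
              · exact fixPtsF_spec W_78 3125 71875 relc_78_23 v (by omega) (by omega)
    · rcases Nat.lt_or_ge v 112500 with h | h
      · rcases Nat.lt_or_ge v 93750 with h | h
        · rcases Nat.lt_or_ge v 84375 with h | h
          · rcases Nat.lt_or_ge v 78125 with h | h
            · exact fixPtsF_spec W_78 3125 75000 relc_78_24 v (by omega) (by omega)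
            · rcases Nat.lt_or_ge v 81250 with h | h
              · exact fixPtsF_spec W_78 3125 78125 relc_78_25 v (by omega) (by omega)
              · exact fixPtsF_spec W_78 3125 81250 relc_78_26 v (by omega) (by omega)
          · rcases Nat.lt_or_ge v 87500 with h | h
            · exact fixPtsF_spec W_78 3125 84375 relc_78_27 v (by omega) (by omega)
            · rcases Nat.lt_or_ge v 90625 with h | h
              · exact fixPtsF_spec W_78 3125 87500 relc_78_28 v (by omega) (by omega)
              · exact fixPtsF_spec W_78 3125 90625 relc_78_29 v (by omega) (by omega)
        · rcases Nat.lt_or_ge v 103125 with h | h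
          · rcases Nat.lt_or_ge v 96875 with h | h
            · exact fixPtsF_spec W_78 3125 93750 relc_78_30 v (by omega) (by omega)
            · rcases Nat.lt_or_ge v 100000 with h | h
              · exact fixPtsF_spec W_78 3125 96875 relc_78_31 v (by omega) (by omega)
              · exact fixPtsF_spec W_78 3125 100000 relc_78_32 v (by omega) (by omega)
          · rcases Nat.lt_or_ge v 106250 with h | h
            · exact fixPtsF_spec W_78 3125 103125 relc_78_33 v (by omega) (by omega)
            · rcases Nat.lt_or_ge v 109375 with h | h
              · exact fixPtsF_spec W_78 3125 106250 relc_78_34 v (by omega) (by omega)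
              · exact fixPtsF_spec W_78 3125 109375 relc_78_35 v (by omega) (by omega)
      · rcases Nat.lt_or_ge v 131250 with h | h
        · rcases Nat.lt_or_ge v 121875 with h | h
          · rcases Nat.lt_or_ge v 115625 with h | h
            · exact fixPtsF_spec W_78 3125 112500 relc_78_36 v (by omega) (by omega)
            · rcases Nat.lt_or_ge v 118750 with h | h
              · exact fixPtsF_spec W_78 3125 115625 relc_78_37 v (by omega) (by omega)
              · exact fixPtsF_spec W_78 3125 118750 relc_78_38 v (by omega) (by omega)
          · rcases Nat.lt_or_ge v 125000 with h | h
            · exact fixPtsF_spec W_78 3125 121875 relc_78_39 v (by omega) (by omega)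
            · rcases Nat.lt_or_ge v 128125 with h | h
              · exact fixPtsF_spec W_78 3125 125000 relc_78_40 v (by omega) (by omega)
              · exact fixPtsF_spec W_78 3125 128125 relc_78_41 v (by omega) (by omega)
        · rcases Nat.lt_or_ge v 140625 with h | h
          · rcases Nat.lt_or_ge v 134375 with h | h
            · exact fixPtsF_spec W_78 3125 131250 relc_78_42 v (by omega) (by omega)
            · rcases Nat.lt_or_ge v 137500 with h | h
              · exact fixPtsF_spec W_78 3125 134375 relc_78_43 v (by omega) (by omega)
              · exact fixPtsF_spec W_78 3125 137500 relc_78_44 v (by omega) (by omega)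
          · rcases Nat.lt_or_ge v 146875 with h | h
            · rcases Nat.lt_or_ge v 143750 with h | h
              · exact fixPtsF_spec W_78 3125 140625 relc_78_45 v (by omega) (by omega)
              · exact fixPtsF_spec W_78 3125 143750 relc_78_46 v (by omega) (by omega)
            · rcases Nat.lt_or_ge v 150000 with h | h
              · exact fixPtsF_spec W_78 3125 146875 relc_78_47 v (by omega) (by omega)
              · exact fixPtsF_spec W_78 3125 150000 relc_78_48 v (by omega) (by omega)
  · rcases Nat.lt_or_ge v 231250 with h | h
    · rcases Nat.lt_or_ge v 190625 with h | h
      · rcases Nat.lt_or_ge v 171875 with h | h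
        · rcases Nat.lt_or_ge v 162500 with h | h
          · rcases Nat.lt_or_ge v 156250 with h | h
            · exact fixPtsF_spec W_78 3125 153125 relc_78_49 v (by omega) (by omega)
            · rcases Nat.lt_or_ge v 159375 with h | h
              · exact fixPtsF_spec W_78 3125 156250 relc_78_50 v (by omega) (by omega)
              · exact fixPtsF_spec W_78 3125 159375 relc_78_51 v (by omega) (by omega)
          · rcases Nat.lt_or_ge v 165625 with h | h
            · exact fixPtsF_spec W_78 3125 162500 relc_78_52 v (by omega) (by omega)
            · rcases Nat.lt_or_ge v 168750 with h | h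
              · exact fixPtsF_spec W_78 3125 165625 relc_78_53 v (by omega) (by omega)
              · exact fixPtsF_spec W_78 3125 168750 relc_78_54 v (by omega) (by omega)
        · rcases Nat.lt_or_ge v 181250 with h | h
          · rcases Nat.lt_or_ge v 175000 with h | h
            · exact fixPtsF_spec W_78 3125 171875 relc_78_55 v (by omega) (by omega)
            · rcases Nat.lt_or_ge v 178125 with h | h
              · exact fixPtsF_spec W_78 3125 175000 relc_78_56 v (by omega) (by omega)
              · exact fixPtsF_spec W_78 3125 178125 relc_78_57 v (by omega) (by omega)
          · rcases Nat.lt_or_ge v 184375 with h | h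
            · exact fixPtsF_spec W_78 3125 181250 relc_78_58 v (by omega) (by omega)
            · rcases Nat.lt_or_ge v 187500 with h | h
              · exact fixPtsF_spec W_78 3125 184375 relc_78_59 v (by omega) (by omega)
              · exact fixPtsF_spec W_78 3125 187500 relc_78_60 v (by omega) (by omega)
      · rcases Nat.lt_or_ge v 209375 with h | h
        · rcases Nat.lt_or_ge v 200000 with h | h
          · rcases Nat.lt_or_ge v 193750 with h | h
            · exact fixPtsF_spec W_78 3125 190625 relc_78_61 v (by omega) (by omega)
            · rcases Nat.lt_or_ge v 196875 with h | h
              · exact fixPtsF_spec W_78 3125 193750 relc_78_62 v (by omega) (by omega)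
              · exact fixPtsF_spec W_78 3125 196875 relc_78_63 v (by omega) (by omega)
          · rcases Nat.lt_or_ge v 203125 with h | h
            · exact fixPtsF_spec W_78 3125 200000 relc_78_64 v (by omega) (by omega)
            · rcases Nat.lt_or_ge v 206250 with h | h
              · exact fixPtsF_spec W_78 3125 203125 relc_78_65 v (by omega) (by omega)
              · exact fixPtsF_spec W_78 3125 206250 relc_78_66 v (by omega) (by omega)
        · rcases Nat.lt_or_ge v 218750 with h | h
          · rcases Nat.lt_or_ge v 212500 with h | h
            · exact fixPtsF_spec W_78 3125 209375 relc_78_67 v (by omega) (by omega)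
            · rcases Nat.lt_or_ge v 215625 with h | h
              · exact fixPtsF_spec W_78 3125 212500 relc_78_68 v (by omega) (by omega)
              · exact fixPtsF_spec W_78 3125 215625 relc_78_69 v (by omega) (by omega)
          · rcases Nat.lt_or_ge v 225000 with h | h
            · rcases Nat.lt_or_ge v 221875 with h | h
              · exact fixPtsF_spec W_78 3125 218750 relc_78_70 v (by omega) (by omega)
              · exact fixPtsF_spec W_78 3125 221875 relc_78_71 v (by omega) (by omega)
            · rcases Nat.lt_or_ge v 228125 with h | h
              · exact fixPtsF_spec W_78 3125 225000 relc_78_72 v (by omega) (by omega)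
              · exact fixPtsF_spec W_78 3125 228125 relc_78_73 v (by omega) (by omega)
    · rcases Nat.lt_or_ge v 268750 with h | h
      · rcases Nat.lt_or_ge v 250000 with h | h
        · rcases Nat.lt_or_ge v 240625 with h | h
          · rcases Nat.lt_or_ge v 234375 with h | h
            · exact fixPtsF_spec W_78 3125 231250 relc_78_74 v (by omega) (by omega)
            · rcases Nat.lt_or_ge v 237500 with h | h
              · exact fixPtsF_spec W_78 3125 234375 relc_78_75 v (by omega) (by omega)
              · exact fixPtsF_spec W_78 3125 237500 relc_78_76 v (by omega) (by omega)
          · rcases Nat.lt_or_ge v 243750 with h | h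
            · exact fixPtsF_spec W_78 3125 240625 relc_78_77 v (by omega) (by omega)
            · rcases Nat.lt_or_ge v 246875 with h | h
              · exact fixPtsF_spec W_78 3125 243750 relc_78_78 v (by omega) (by omega)
              · exact fixPtsF_spec W_78 3125 246875 relc_78_79 v (by omega) (by omega)
        · rcases Nat.lt_or_ge v 259375 with h | h
          · rcases Nat.lt_or_ge v 253125 with h | h
            · exact fixPtsF_spec W_78 3125 250000 relc_78_80 v (by omega) (by omega)
            · rcases Nat.lt_or_ge v 256250 with h | h
              · exact fixPtsF_spec W_78 3125 253125 relc_78_81 v (by omega) (by omega)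
              · exact fixPtsF_spec W_78 3125 256250 relc_78_82 v (by omega) (by omega)
          · rcases Nat.lt_or_ge v 262500 with h | h
            · exact fixPtsF_spec W_78 3125 259375 relc_78_83 v (by omega) (by omega)
            · rcases Nat.lt_or_ge v 265625 with h | h
              · exact fixPtsF_spec W_78 3125 262500 relc_78_84 v (by omega) (by omega)
              · exact fixPtsF_spec W_78 3125 265625 relc_78_85 v (by omega) (by omega)
      · rcases Nat.lt_or_ge v 287500 with h | h
        · rcases Nat.lt_or_ge v 278125 with h | h
          · rcases Nat.lt_or_ge v 271875 with h | h
            · exact fixPtsF_spec W_78 3125 268750 relc_78_86 v (by omega) (by omega)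
            · rcases Nat.lt_or_ge v 275000 with h | h
              · exact fixPtsF_spec W_78 3125 271875 relc_78_87 v (by omega) (by omega)
              · exact fixPtsF_spec W_78 3125 275000 relc_78_88 v (by omega) (by omega)
          · rcases Nat.lt_or_ge v 281250 with h | h
            · exact fixPtsF_spec W_78 3125 278125 relc_78_89 v (by omega) (by omega)
            · rcases Nat.lt_or_ge v 284375 with h | h
              · exact fixPtsF_spec W_78 3125 281250 relc_78_90 v (by omega) (by omega)
              · exact fixPtsF_spec W_78 3125 284375 relc_78_91 v (by omega) (by omega)
        · rcases Nat.lt_or_ge v 296875 with h | h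
          · rcases Nat.lt_or_ge v 290625 with h | h
            · exact fixPtsF_spec W_78 3125 287500 relc_78_92 v (by omega) (by omega)
            · rcases Nat.lt_or_ge v 293750 with h | h
              · exact fixPtsF_spec W_78 3125 290625 relc_78_93 v (by omega) (by omega)
              · exact fixPtsF_spec W_78 3125 293750 relc_78_94 v (by omega) (by omega)
          · rcases Nat.lt_or_ge v 303125 with h | h
            · rcases Nat.lt_or_ge v 300000 with h | h
              · exact fixPtsF_spec W_78 3125 296875 relc_78_95 v (by omega) (by omega)
              · exact fixPtsF_spec W_78 3125 300000 relc_78_96 v (by omega) (by omega)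
            · rcases Nat.lt_or_ge v 306250 with h | h
              · exact fixPtsF_spec W_78 3125 303125 relc_78_97 v (by omega) (by omega)
              · exact fixPtsF_spec W_78 686 306250 relc_78_98 v (by omega) (by omega)

set_option maxRecDepth 1000000 in
theorem walk_78 : ∀ v, walkT ctF (D.wlen 78) (D.wordP 78) v = W_78 v := by
  intro v
  simp only [W_78, forceL_eq]
  rfl

theorem relw_78 : ∀ v, v < 306936 → walkT ctF (D.wlen 78) (D.wordP 78) v = v := by
  intro v hv
  rw [walk_78]
  exact relf_78 v hv

theorem relf_79 : ∀ v, v < 306936 → W_79 v = v := by
  intro v hv
  rcases Nat.lt_or_ge v 153720 with h | h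
  · rcases Nat.lt_or_ge v 76440 with h | h
    · rcases Nat.lt_or_ge v 37800 with h | h
      · rcases Nat.lt_or_ge v 18480 with h | h
        · rcases Nat.lt_or_ge v 9240 with h | h
          · rcases Nat.lt_or_ge v 4200 with h | h
            · rcases Nat.lt_or_ge v 1680 with h | h
              · rcases Nat.lt_or_ge v 840 with h | h
                · exact fixPtsF_spec W_79 840 0 relc_79_0 v (by omega) (by omega)
                · exact fixPtsF_spec W_79 840 840 relc_79_1 v (by omega) (by omega)
              · rcases Nat.lt_or_ge v 2520 with h | h
                · exact fixPtsF_spec W_79 840 1680 relc_79_2 v (by omega) (by omega)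
                · rcases Nat.lt_or_ge v 3360 with h | h
                  · exact fixPtsF_spec W_79 840 2520 relc_79_3 v (by omega) (by omega)
                  · exact fixPtsF_spec W_79 840 3360 relc_79_4 v (by omega) (by omega)
            · rcases Nat.lt_or_ge v 6720 with h | h
              · rcases Nat.lt_or_ge v 5040 with h | h
                · exact fixPtsF_spec W_79 840 4200 relc_79_5 v (by omega) (by omega)
                · rcases Nat.lt_or_ge v 5880 with h | h
                  · exact fixPtsF_spec W_79 840 5040 relc_79_6 v (by omega) (by omega)
                  · exact fixPtsF_spec W_79 840 5880 relc_79_7 v (by omega) (by omega)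
              · rcases Nat.lt_or_ge v 7560 with h | h
                · exact fixPtsF_spec W_79 840 6720 relc_79_8 v (by omega) (by omega)
                · rcases Nat.lt_or_ge v 8400 with h | h
                  · exact fixPtsF_spec W_79 840 7560 relc_79_9 v (by omega) (by omega)
                  · exact fixPtsF_spec W_79 840 8400 relc_79_10 v (by omega) (by omega)
          · rcases Nat.lt_or_ge v 13440 with h | h
            · rcases Nat.lt_or_ge v 10920 with h | h
              · rcases Nat.lt_or_ge v 10080 with h | h
                · exact fixPtsF_spec W_79 840 9240 relc_79_11 v (by omega) (by omega)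
                · exact fixPtsF_spec W_79 840 10080 relc_79_12 v (by omega) (by omega)
              · rcases Nat.lt_or_ge v 11760 with h | h
                · exact fixPtsF_spec W_79 840 10920 relc_79_13 v (by omega) (by omega)
                · rcases Nat.lt_or_ge v 12600 with h | h
                  · exact fixPtsF_spec W_79 840 11760 relc_79_14 v (by omega) (by omega)
                  · exact fixPtsF_spec W_79 840 12600 relc_79_15 v (by omega) (by omega)
            · rcases Nat.lt_or_ge v 15960 with h | h
              · rcases Nat.lt_or_ge v 14280 with h | h
                · exact fixPtsF_spec W_79 840 13440 relc_79_16 v (by omega) (by omega)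
                · rcases Nat.lt_or_ge v 15120 with h | h
                  · exact fixPtsF_spec W_79 840 14280 relc_79_17 v (by omega) (by omega)
                  · exact fixPtsF_spec W_79 840 15120 relc_79_18 v (by omega) (by omega)
              · rcases Nat.lt_or_ge v 16800 with h | h
                · exact fixPtsF_spec W_79 840 15960 relc_79_19 v (by omega) (by omega)
                · rcases Nat.lt_or_ge v 17640 with h | h
                  · exact fixPtsF_spec W_79 840 16800 relc_79_20 v (by omega) (by omega)
                  · exact fixPtsF_spec W_79 840 17640 relc_79_21 v (by omega) (by omega)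
        · rcases Nat.lt_or_ge v 27720 with h | h
          · rcases Nat.lt_or_ge v 22680 with h | h
            · rcases Nat.lt_or_ge v 20160 with h | h
              · rcases Nat.lt_or_ge v 19320 with h | h
                · exact fixPtsF_spec W_79 840 18480 relc_79_22 v (by omega) (by omega)
                · exact fixPtsF_spec W_79 840 19320 relc_79_23 v (by omega) (by omega)
              · rcases Nat.lt_or_ge v 21000 with h | h
                · exact fixPtsF_spec W_79 840 20160 relc_79_24 v (by omega) (by omega)
                · rcases Nat.lt_or_ge v 21840 with h | h
                  · exact fixPtsF_spec W_79 840 21000 relc_79_25 v (by omega) (by omega)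
                  · exact fixPtsF_spec W_79 840 21840 relc_79_26 v (by omega) (by omega)
            · rcases Nat.lt_or_ge v 25200 with h | h
              · rcases Nat.lt_or_ge v 23520 with h | h
                · exact fixPtsF_spec W_79 840 22680 relc_79_27 v (by omega) (by omega)
                · rcases Nat.lt_or_ge v 24360 with h | h
                  · exact fixPtsF_spec W_79 840 23520 relc_79_28 v (by omega) (by omega)
                  · exact fixPtsF_spec W_79 840 24360 relc_79_29 v (by omega) (by omega)
              · rcases Nat.lt_or_ge v 26040 with h | h
                · exact fixPtsF_spec W_79 840 25200 relc_79_30 v (by omega) (by omega)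
                · rcases Nat.lt_or_ge v 26880 with h | h
                  · exact fixPtsF_spec W_79 840 26040 relc_79_31 v (by omega) (by omega)
                  · exact fixPtsF_spec W_79 840 26880 relc_79_32 v (by omega) (by omega)
          · rcases Nat.lt_or_ge v 32760 with h | h
            · rcases Nat.lt_or_ge v 30240 with h | h
              · rcases Nat.lt_or_ge v 28560 with h | h
                · exact fixPtsF_spec W_79 840 27720 relc_79_33 v (by omega) (by omega)
                · rcases Nat.lt_or_ge v 29400 with h | h
                  · exact fixPtsF_spec W_79 840 28560 relc_79_34 v (by omega) (by omega)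
                  · exact fixPtsF_spec W_79 840 29400 relc_79_35 v (by omega) (by omega)
              · rcases Nat.lt_or_ge v 31080 with h | h
                · exact fixPtsF_spec W_79 840 30240 relc_79_36 v (by omega) (by omega)
                · rcases Nat.lt_or_ge v 31920 with h | h
                  · exact fixPtsF_spec W_79 840 31080 relc_79_37 v (by omega) (by omega)
                  · exact fixPtsF_spec W_79 840 31920 relc_79_38 v (by omega) (by omega)
            · rcases Nat.lt_or_ge v 35280 with h | h
              · rcases Nat.lt_or_ge v 33600 with h | h
                · exact fixPtsF_spec W_79 840 32760 relc_79_39 v (by omega) (by omega)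
                · rcases Nat.lt_or_ge v 34440 with h | h
                  · exact fixPtsF_spec W_79 840 33600 relc_79_40 v (by omega) (by omega)
                  · exact fixPtsF_spec W_79 840 34440 relc_79_41 v (by omega) (by omega)
              · rcases Nat.lt_or_ge v 36120 with h | h
                · exact fixPtsF_spec W_79 840 35280 relc_79_42 v (by omega) (by omega)
                · rcases Nat.lt_or_ge v 36960 with h | h
                  · exact fixPtsF_spec W_79 840 36120 relc_79_43 v (by omega) (by omega)
                  · exact fixPtsF_spec W_79 840 36960 relc_79_44 v (by omega) (by omega)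
      · rcases Nat.lt_or_ge v 57120 with h | h
        · rcases Nat.lt_or_ge v 47040 with h | h
          · rcases Nat.lt_or_ge v 42000 with h | h
            · rcases Nat.lt_or_ge v 39480 with h | h
              · rcases Nat.lt_or_ge v 38640 with h | h
                · exact fixPtsF_spec W_79 840 37800 relc_79_45 v (by omega) (by omega)
                · exact fixPtsF_spec W_79 840 38640 relc_79_46 v (by omega) (by omega)
              · rcases Nat.lt_or_ge v 40320 with h | h
                · exact fixPtsF_spec W_79 840 39480 relc_79_47 v (by omega) (by omega)
                · rcases Nat.lt_or_ge v 41160 with h | h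
                  · exact fixPtsF_spec W_79 840 40320 relc_79_48 v (by omega) (by omega)
                  · exact fixPtsF_spec W_79 840 41160 relc_79_49 v (by omega) (by omega)
            · rcases Nat.lt_or_ge v 44520 with h | h
              · rcases Nat.lt_or_ge v 42840 with h | h
                · exact fixPtsF_spec W_79 840 42000 relc_79_50 v (by omega) (by omega)
                · rcases Nat.lt_or_ge v 43680 with h | h
                  · exact fixPtsF_spec W_79 840 42840 relc_79_51 v (by omega) (by omega)
                  · exact fixPtsF_spec W_79 840 43680 relc_79_52 v (by omega) (by omega)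
              · rcases Nat.lt_or_ge v 45360 with h | h
                · exact fixPtsF_spec W_79 840 44520 relc_79_53 v (by omega) (by omega)
                · rcases Nat.lt_or_ge v 46200 with h | h
                  · exact fixPtsF_spec W_79 840 45360 relc_79_54 v (by omega) (by omega)
                  · exact fixPtsF_spec W_79 840 46200 relc_79_55 v (by omega) (by omega)
          · rcases Nat.lt_or_ge v 52080 with h | h
            · rcases Nat.lt_or_ge v 49560 with h | h
              · rcases Nat.lt_or_ge v 47880 with h | h
                · exact fixPtsF_spec W_79 840 47040 relc_79_56 v (by omega) (by omega)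
                · rcases Nat.lt_or_ge v 48720 with h | h
                  · exact fixPtsF_spec W_79 840 47880 relc_79_57 v (by omega) (by omega)
                  · exact fixPtsF_spec W_79 840 48720 relc_79_58 v (by omega) (by omega)
              · rcases Nat.lt_or_ge v 50400 with h | h
                · exact fixPtsF_spec W_79 840 49560 relc_79_59 v (by omega) (by omega)
                · rcases Nat.lt_or_ge v 51240 with h | h
                  · exact fixPtsF_spec W_79 840 50400 relc_79_60 v (by omega) (by omega)
                  · exact fixPtsF_spec W_79 840 51240 relc_79_61 v (by omega) (by omega)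
            · rcases Nat.lt_or_ge v 54600 with h | h
              · rcases Nat.lt_or_ge v 52920 with h | h
                · exact fixPtsF_spec W_79 840 52080 relc_79_62 v (by omega) (by omega)
                · rcases Nat.lt_or_ge v 53760 with h | h
                  · exact fixPtsF_spec W_79 840 52920 relc_79_63 v (by omega) (by omega)
                  · exact fixPtsF_spec W_79 840 53760 relc_79_64 v (by omega) (by omega)
              · rcases Nat.lt_or_ge v 55440 with h | h
                · exact fixPtsF_spec W_79 840 54600 relc_79_65 v (by omega) (by omega)
                · rcases Nat.lt_or_ge v 56280 with h | h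
                  · exact fixPtsF_spec W_79 840 55440 relc_79_66 v (by omega) (by omega)
                  · exact fixPtsF_spec W_79 840 56280 relc_79_67 v (by omega) (by omega)
        · rcases Nat.lt_or_ge v 66360 with h | h
          · rcases Nat.lt_or_ge v 61320 with h | h
            · rcases Nat.lt_or_ge v 58800 with h | h
              · rcases Nat.lt_or_ge v 57960 with h | h
                · exact fixPtsF_spec W_79 840 57120 relc_79_68 v (by omega) (by omega)
                · exact fixPtsF_spec W_79 840 57960 relc_79_69 v (by omega) (by omega)
              · rcases Nat.lt_or_ge v 59640 with h | h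
                · exact fixPtsF_spec W_79 840 58800 relc_79_70 v (by omega) (by omega)
                · rcases Nat.lt_or_ge v 60480 with h | h
                  · exact fixPtsF_spec W_79 840 59640 relc_79_71 v (by omega) (by omega)
                  · exact fixPtsF_spec W_79 840 60480 relc_79_72 v (by omega) (by omega)
            · rcases Nat.lt_or_ge v 63840 with h | h
              · rcases Nat.lt_or_ge v 62160 with h | h
                · exact fixPtsF_spec W_79 840 61320 relc_79_73 v (by omega) (by omega)
                · rcases Nat.lt_or_ge v 63000 with h | h
                  · exact fixPtsF_spec W_79 840 62160 relc_79_74 v (by omega) (by omega)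
                  · exact fixPtsF_spec W_79 840 63000 relc_79_75 v (by omega) (by omega)
              · rcases Nat.lt_or_ge v 64680 with h | h
                · exact fixPtsF_spec W_79 840 63840 relc_79_76 v (by omega) (by omega)
                · rcases Nat.lt_or_ge v 65520 with h | h
                  · exact fixPtsF_spec W_79 840 64680 relc_79_77 v (by omega) (by omega)
                  · exact fixPtsF_spec W_79 840 65520 relc_79_78 v (by omega) (by omega)
          · rcases Nat.lt_or_ge v 71400 with h | h
            · rcases Nat.lt_or_ge v 68880 with h | h
              · rcases Nat.lt_or_ge v 67200 with h | h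
                · exact fixPtsF_spec W_79 840 66360 relc_79_79 v (by omega) (by omega)
                · rcases Nat.lt_or_ge v 68040 with h | h
                  · exact fixPtsF_spec W_79 840 67200 relc_79_80 v (by omega) (by omega)
                  · exact fixPtsF_spec W_79 840 68040 relc_79_81 v (by omega) (by omega)
              · rcases Nat.lt_or_ge v 69720 with h | h
                · exact fixPtsF_spec W_79 840 68880 relc_79_82 v (by omega) (by omega)
                · rcases Nat.lt_or_ge v 70560 with h | h
                  · exact fixPtsF_spec W_79 840 69720 relc_79_83 v (by omega) (by omega)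
                  · exact fixPtsF_spec W_79 840 70560 relc_79_84 v (by omega) (by omega)
            · rcases Nat.lt_or_ge v 73920 with h | h
              · rcases Nat.lt_or_ge v 72240 with h | h
                · exact fixPtsF_spec W_79 840 71400 relc_79_85 v (by omega) (by omega)
                · rcases Nat.lt_or_ge v 73080 with h | h
                  · exact fixPtsF_spec W_79 840 72240 relc_79_86 v (by omega) (by omega)
                  · exact fixPtsF_spec W_79 840 73080 relc_79_87 v (by omega) (by omega)
              · rcases Nat.lt_or_ge v 74760 with h | h
                · exact fixPtsF_spec W_79 840 73920 relc_79_88 v (by omega) (by omega)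
                · rcases Nat.lt_or_ge v 75600 with h | h
                  · exact fixPtsF_spec W_79 840 74760 relc_79_89 v (by omega) (by omega)
                  · exact fixPtsF_spec W_79 840 75600 relc_79_90 v (by omega) (by omega)
    · rcases Nat.lt_or_ge v 115080 with h | h
      · rcases Nat.lt_or_ge v 95760 with h | h
        · rcases Nat.lt_or_ge v 85680 with h | h
          · rcases Nat.lt_or_ge v 80640 with h | h
            · rcases Nat.lt_or_ge v 78120 with h | h
              · rcases Nat.lt_or_ge v 77280 with h | h
                · exact fixPtsF_spec W_79 840 76440 relc_79_91 v (by omega) (by omega)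
                · exact fixPtsF_spec W_79 840 77280 relc_79_92 v (by omega) (by omega)
              · rcases Nat.lt_or_ge v 78960 with h | h
                · exact fixPtsF_spec W_79 840 78120 relc_79_93 v (by omega) (by omega)
                · rcases Nat.lt_or_ge v 79800 with h | h
                  · exact fixPtsF_spec W_79 840 78960 relc_79_94 v (by omega) (by omega)
                  · exact fixPtsF_spec W_79 840 79800 relc_79_95 v (by omega) (by omega)
            · rcases Nat.lt_or_ge v 83160 with h | h
              · rcases Nat.lt_or_ge v 81480 with h | h
                · exact fixPtsF_spec W_79 840 80640 relc_79_96 v (by omega) (by omega)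
                · rcases Nat.lt_or_ge v 82320 with h | h
                  · exact fixPtsF_spec W_79 840 81480 relc_79_97 v (by omega) (by omega)
                  · exact fixPtsF_spec W_79 840 82320 relc_79_98 v (by omega) (by omega)
              · rcases Nat.lt_or_ge v 84000 with h | h
                · exact fixPtsF_spec W_79 840 83160 relc_79_99 v (by omega) (by omega)
                · rcases Nat.lt_or_ge v 84840 with h | h
                  · exact fixPtsF_spec W_79 840 84000 relc_79_100 v (by omega) (by omega)
                  · exact fixPtsF_spec W_79 840 84840 relc_79_101 v (by omega) (by omega)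
          · rcases Nat.lt_or_ge v 90720 with h | h
            · rcases Nat.lt_or_ge v 88200 with h | h
              · rcases Nat.lt_or_ge v 86520 with h | h
                · exact fixPtsF_spec W_79 840 85680 relc_79_102 v (by omega) (by omega)
                · rcases Nat.lt_or_ge v 87360 with h | h
                  · exact fixPtsF_spec W_79 840 86520 relc_79_103 v (by omega) (by omega)
                  · exact fixPtsF_spec W_79 840 87360 relc_79_104 v (by omega) (by omega)
              · rcases Nat.lt_or_ge v 89040 with h | h
                · exact fixPtsF_spec W_79 840 88200 relc_79_105 v (by omega) (by omega)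
                · rcases Nat.lt_or_ge v 89880 with h | h
                  · exact fixPtsF_spec W_79 840 89040 relc_79_106 v (by omega) (by omega)
                  · exact fixPtsF_spec W_79 840 89880 relc_79_107 v (by omega) (by omega)
            · rcases Nat.lt_or_ge v 93240 with h | h
              · rcases Nat.lt_or_ge v 91560 with h | h
                · exact fixPtsF_spec W_79 840 90720 relc_79_108 v (by omega) (by omega)
                · rcases Nat.lt_or_ge v 92400 with h | h
                  · exact fixPtsF_spec W_79 840 91560 relc_79_109 v (by omega) (by omega)
                  · exact fixPtsF_spec W_79 840 92400 relc_79_110 v (by omega) (by omega)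
              · rcases Nat.lt_or_ge v 94080 with h | h
                · exact fixPtsF_spec W_79 840 93240 relc_79_111 v (by omega) (by omega)
                · rcases Nat.lt_or_ge v 94920 with h | h
                  · exact fixPtsF_spec W_79 840 94080 relc_79_112 v (by omega) (by omega)
                  · exact fixPtsF_spec W_79 840 94920 relc_79_113 v (by omega) (by omega)
        · rcases Nat.lt_or_ge v 105000 with h | h
          · rcases Nat.lt_or_ge v 99960 with h | h
            · rcases Nat.lt_or_ge v 97440 with h | h
              · rcases Nat.lt_or_ge v 96600 with h | h
                · exact fixPtsF_spec W_79 840 95760 relc_79_114 v (by omega) (by omega)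
                · exact fixPtsF_spec W_79 840 96600 relc_79_115 v (by omega) (by omega)
              · rcases Nat.lt_or_ge v 98280 with h | h
                · exact fixPtsF_spec W_79 840 97440 relc_79_116 v (by omega) (by omega)
                · rcases Nat.lt_or_ge v 99120 with h | h
                  · exact fixPtsF_spec W_79 840 98280 relc_79_117 v (by omega) (by omega)
                  · exact fixPtsF_spec W_79 840 99120 relc_79_118 v (by omega) (by omega)
            · rcases Nat.lt_or_ge v 102480 with h | h
              · rcases Nat.lt_or_ge v 100800 with h | h
                · exact fixPtsF_spec W_79 840 99960 relc_79_119 v (by omega) (by omega)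
                · rcases Nat.lt_or_ge v 101640 with h | h
                  · exact fixPtsF_spec W_79 840 100800 relc_79_120 v (by omega) (by omega)
                  · exact fixPtsF_spec W_79 840 101640 relc_79_121 v (by omega) (by omega)
              · rcases Nat.lt_or_ge v 103320 with h | h
                · exact fixPtsF_spec W_79 840 102480 relc_79_122 v (by omega) (by omega)
                · rcases Nat.lt_or_ge v 104160 with h | h
                  · exact fixPtsF_spec W_79 840 103320 relc_79_123 v (by omega) (by omega)
                  · exact fixPtsF_spec W_79 840 104160 relc_79_124 v (by omega) (by omega)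
          · rcases Nat.lt_or_ge v 110040 with h | h
            · rcases Nat.lt_or_ge v 107520 with h | h
              · rcases Nat.lt_or_ge v 105840 with h | h
                · exact fixPtsF_spec W_79 840 105000 relc_79_125 v (by omega) (by omega)
                · rcases Nat.lt_or_ge v 106680 with h | h
                  · exact fixPtsF_spec W_79 840 105840 relc_79_126 v (by omega) (by omega)
                  · exact fixPtsF_spec W_79 840 106680 relc_79_127 v (by omega) (by omega)
              · rcases Nat.lt_or_ge v 108360 with h | h
                · exact fixPtsF_spec W_79 840 107520 relc_79_128 v (by omega) (by omega)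
                · rcases Nat.lt_or_ge v 109200 with h | h
                  · exact fixPtsF_spec W_79 840 108360 relc_79_129 v (by omega) (by omega)
                  · exact fixPtsF_spec W_79 840 109200 relc_79_130 v (by omega) (by omega)
            · rcases Nat.lt_or_ge v 112560 with h | h
              · rcases Nat.lt_or_ge v 110880 with h | h
                · exact fixPtsF_spec W_79 840 110040 relc_79_131 v (by omega) (by omega)
                · rcases Nat.lt_or_ge v 111720 with h | h
                  · exact fixPtsF_spec W_79 840 110880 relc_79_132 v (by omega) (by omega)
                  · exact fixPtsF_spec W_79 840 111720 relc_79_133 v (by omega) (by omega)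
              · rcases Nat.lt_or_ge v 113400 with h | h
                · exact fixPtsF_spec W_79 840 112560 relc_79_134 v (by omega) (by omega)
                · rcases Nat.lt_or_ge v 114240 with h | h
                  · exact fixPtsF_spec W_79 840 113400 relc_79_135 v (by omega) (by omega)
                  · exact fixPtsF_spec W_79 840 114240 relc_79_136 v (by omega) (by omega)
      · rcases Nat.lt_or_ge v 134400 with h | h
        · rcases Nat.lt_or_ge v 124320 with h | h
          · rcases Nat.lt_or_ge v 119280 with h | h
            · rcases Nat.lt_or_ge v 116760 with h | h
              · rcases Nat.lt_or_ge v 115920 with h | h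
                · exact fixPtsF_spec W_79 840 115080 relc_79_137 v (by omega) (by omega)
                · exact fixPtsF_spec W_79 840 115920 relc_79_138 v (by omega) (by omega)
              · rcases Nat.lt_or_ge v 117600 with h | h
                · exact fixPtsF_spec W_79 840 116760 relc_79_139 v (by omega) (by omega)
                · rcases Nat.lt_or_ge v 118440 with h | h
                  · exact fixPtsF_spec W_79 840 117600 relc_79_140 v (by omega) (by omega)
                  · exact fixPtsF_spec W_79 840 118440 relc_79_141 v (by omega) (by omega)
            · rcases Nat.lt_or_ge v 121800 with h | h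
              · rcases Nat.lt_or_ge v 120120 with h | h
                · exact fixPtsF_spec W_79 840 119280 relc_79_142 v (by omega) (by omega)
                · rcases Nat.lt_or_ge v 120960 with h | h
                  · exact fixPtsF_spec W_79 840 120120 relc_79_143 v (by omega) (by omega)
                  · exact fixPtsF_spec W_79 840 120960 relc_79_144 v (by omega) (by omega)
              · rcases Nat.lt_or_ge v 122640 with h | h
                · exact fixPtsF_spec W_79 840 121800 relc_79_145 v (by omega) (by omega)
                · rcases Nat.lt_or_ge v 123480 with h | h
                  · exact fixPtsF_spec W_79 840 122640 relc_79_146 v (by omega) (by omega)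
                  · exact fixPtsF_spec W_79 840 123480 relc_79_147 v (by omega) (by omega)
          · rcases Nat.lt_or_ge v 129360 with h | h
            · rcases Nat.lt_or_ge v 126840 with h | h
              · rcases Nat.lt_or_ge v 125160 with h | h
                · exact fixPtsF_spec W_79 840 124320 relc_79_148 v (by omega) (by omega)
                · rcases Nat.lt_or_ge v 126000 with h | h
                  · exact fixPtsF_spec W_79 840 125160 relc_79_149 v (by omega) (by omega)
                  · exact fixPtsF_spec W_79 840 126000 relc_79_150 v (by omega) (by omega)
              · rcases Nat.lt_or_ge v 127680 with h | h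
                · exact fixPtsF_spec W_79 840 126840 relc_79_151 v (by omega) (by omega)
                · rcases Nat.lt_or_ge v 128520 with h | h
                  · exact fixPtsF_spec W_79 840 127680 relc_79_152 v (by omega) (by omega)
                  · exact fixPtsF_spec W_79 840 128520 relc_79_153 v (by omega) (by omega)
            · rcases Nat.lt_or_ge v 131880 with h | h
              · rcases Nat.lt_or_ge v 130200 with h | h
                · exact fixPtsF_spec W_79 840 129360 relc_79_154 v (by omega) (by omega)
                · rcases Nat.lt_or_ge v 131040 with h | h
                  · exact fixPtsF_spec W_79 840 130200 relc_79_155 v (by omega) (by omega)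
                  · exact fixPtsF_spec W_79 840 131040 relc_79_156 v (by omega) (by omega)
              · rcases Nat.lt_or_ge v 132720 with h | h
                · exact fixPtsF_spec W_79 840 131880 relc_79_157 v (by omega) (by omega)
                · rcases Nat.lt_or_ge v 133560 with h | h
                  · exact fixPtsF_spec W_79 840 132720 relc_79_158 v (by omega) (by omega)
                  · exact fixPtsF_spec W_79 840 133560 relc_79_159 v (by omega) (by omega)
        · rcases Nat.lt_or_ge v 143640 with h | h
          · rcases Nat.lt_or_ge v 138600 with h | h
            · rcases Nat.lt_or_ge v 136080 with h | h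
              · rcases Nat.lt_or_ge v 135240 with h | h
                · exact fixPtsF_spec W_79 840 134400 relc_79_160 v (by omega) (by omega)
                · exact fixPtsF_spec W_79 840 135240 relc_79_161 v (by omega) (by omega)
              · rcases Nat.lt_or_ge v 136920 with h | h
                · exact fixPtsF_spec W_79 840 136080 relc_79_162 v (by omega) (by omega)
                · rcases Nat.lt_or_ge v 137760 with h | h
                  · exact fixPtsF_spec W_79 840 136920 relc_79_163 v (by omega) (by omega)
                  · exact fixPtsF_spec W_79 840 137760 relc_79_164 v (by omega) (by omega)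
            · rcases Nat.lt_or_ge v 141120 with h | h
              · rcases Nat.lt_or_ge v 139440 with h | h
                · exact fixPtsF_spec W_79 840 138600 relc_79_165 v (by omega) (by omega)
                · rcases Nat.lt_or_ge v 140280 with h | h
                  · exact fixPtsF_spec W_79 840 139440 relc_79_166 v (by omega) (by omega)
                  · exact fixPtsF_spec W_79 840 140280 relc_79_167 v (by omega) (by omega)
              · rcases Nat.lt_or_ge v 141960 with h | h
                · exact fixPtsF_spec W_79 840 141120 relc_79_168 v (by omega) (by omega)
                · rcases Nat.lt_or_ge v 142800 with h | h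
                  · exact fixPtsF_spec W_79 840 141960 relc_79_169 v (by omega) (by omega)
                  · exact fixPtsF_spec W_79 840 142800 relc_79_170 v (by omega) (by omega)
          · rcases Nat.lt_or_ge v 148680 with h | h
            · rcases Nat.lt_or_ge v 146160 with h | h
              · rcases Nat.lt_or_ge v 144480 with h | h
                · exact fixPtsF_spec W_79 840 143640 relc_79_171 v (by omega) (by omega)
                · rcases Nat.lt_or_ge v 145320 with h | h
                  · exact fixPtsF_spec W_79 840 144480 relc_79_172 v (by omega) (by omega)
                  · exact fixPtsF_spec W_79 840 145320 relc_79_173 v (by omega) (by omega)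
              · rcases Nat.lt_or_ge v 147000 with h | h
                · exact fixPtsF_spec W_79 840 146160 relc_79_174 v (by omega) (by omega)
                · rcases Nat.lt_or_ge v 147840 with h | h
                  · exact fixPtsF_spec W_79 840 147000 relc_79_175 v (by omega) (by omega)
                  · exact fixPtsF_spec W_79 840 147840 relc_79_176 v (by omega) (by omega)
            · rcases Nat.lt_or_ge v 151200 with h | h
              · rcases Nat.lt_or_ge v 149520 with h | h
                · exact fixPtsF_spec W_79 840 148680 relc_79_177 v (by omega) (by omega)
                · rcases Nat.lt_or_ge v 150360 with h | h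
                  · exact fixPtsF_spec W_79 840 149520 relc_79_178 v (by omega) (by omega)
                  · exact fixPtsF_spec W_79 840 150360 relc_79_179 v (by omega) (by omega)
              · rcases Nat.lt_or_ge v 152040 with h | h
                · exact fixPtsF_spec W_79 840 151200 relc_79_180 v (by omega) (by omega)
                · rcases Nat.lt_or_ge v 152880 with h | h
                  · exact fixPtsF_spec W_79 840 152040 relc_79_181 v (by omega) (by omega)
                  · exact fixPtsF_spec W_79 840 152880 relc_79_182 v (by omega) (by omega)
  · rcases Nat.lt_or_ge v 230160 with h | h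
    · rcases Nat.lt_or_ge v 191520 with h | h
      · rcases Nat.lt_or_ge v 172200 with h | h
        · rcases Nat.lt_or_ge v 162960 with h | h
          · rcases Nat.lt_or_ge v 157920 with h | h
            · rcases Nat.lt_or_ge v 155400 with h | h
              · rcases Nat.lt_or_ge v 154560 with h | h
                · exact fixPtsF_spec W_79 840 153720 relc_79_183 v (by omega) (by omega)
                · exact fixPtsF_spec W_79 840 154560 relc_79_184 v (by omega) (by omega)
              · rcases Nat.lt_or_ge v 156240 with h | h
                · exact fixPtsF_spec W_79 840 155400 relc_79_185 v (by omega) (by omega)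
                · rcases Nat.lt_or_ge v 157080 with h | h
                  · exact fixPtsF_spec W_79 840 156240 relc_79_186 v (by omega) (by omega)
                  · exact fixPtsF_spec W_79 840 157080 relc_79_187 v (by omega) (by omega)
            · rcases Nat.lt_or_ge v 160440 with h | h
              · rcases Nat.lt_or_ge v 158760 with h | h
                · exact fixPtsF_spec W_79 840 157920 relc_79_188 v (by omega) (by omega)
                · rcases Nat.lt_or_ge v 159600 with h | h
                  · exact fixPtsF_spec W_79 840 158760 relc_79_189 v (by omega) (by omega)
                  · exact fixPtsF_spec W_79 840 159600 relc_79_190 v (by omega) (by omega)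
              · rcases Nat.lt_or_ge v 161280 with h | h
                · exact fixPtsF_spec W_79 840 160440 relc_79_191 v (by omega) (by omega)
                · rcases Nat.lt_or_ge v 162120 with h | h
                  · exact fixPtsF_spec W_79 840 161280 relc_79_192 v (by omega) (by omega)
                  · exact fixPtsF_spec W_79 840 162120 relc_79_193 v (by omega) (by omega)
          · rcases Nat.lt_or_ge v 167160 with h | h
            · rcases Nat.lt_or_ge v 164640 with h | h
              · rcases Nat.lt_or_ge v 163800 with h | h
                · exact fixPtsF_spec W_79 840 162960 relc_79_194 v (by omega) (by omega)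
                · exact fixPtsF_spec W_79 840 163800 relc_79_195 v (by omega) (by omega)
              · rcases Nat.lt_or_ge v 165480 with h | h
                · exact fixPtsF_spec W_79 840 164640 relc_79_196 v (by omega) (by omega)
                · rcases Nat.lt_or_ge v 166320 with h | h
                  · exact fixPtsF_spec W_79 840 165480 relc_79_197 v (by omega) (by omega)
                  · exact fixPtsF_spec W_79 840 166320 relc_79_198 v (by omega) (by omega)
            · rcases Nat.lt_or_ge v 169680 with h | h
              · rcases Nat.lt_or_ge v 168000 with h | h
                · exact fixPtsF_spec W_79 840 167160 relc_79_199 v (by omega) (by omega)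
                · rcases Nat.lt_or_ge v 168840 with h | h
                  · exact fixPtsF_spec W_79 840 168000 relc_79_200 v (by omega) (by omega)
                  · exact fixPtsF_spec W_79 840 168840 relc_79_201 v (by omega) (by omega)
              · rcases Nat.lt_or_ge v 170520 with h | h
                · exact fixPtsF_spec W_79 840 169680 relc_79_202 v (by omega) (by omega)
                · rcases Nat.lt_or_ge v 171360 with h | h
                  · exact fixPtsF_spec W_79 840 170520 relc_79_203 v (by omega) (by omega)
                  · exact fixPtsF_spec W_79 840 171360 relc_79_204 v (by omega) (by omega)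
        · rcases Nat.lt_or_ge v 181440 with h | h
          · rcases Nat.lt_or_ge v 176400 with h | h
            · rcases Nat.lt_or_ge v 173880 with h | h
              · rcases Nat.lt_or_ge v 173040 with h | h
                · exact fixPtsF_spec W_79 840 172200 relc_79_205 v (by omega) (by omega)
                · exact fixPtsF_spec W_79 840 173040 relc_79_206 v (by omega) (by omega)
              · rcases Nat.lt_or_ge v 174720 with h | h
                · exact fixPtsF_spec W_79 840 173880 relc_79_207 v (by omega) (by omega)
                · rcases Nat.lt_or_ge v 175560 with h | h
                  · exact fixPtsF_spec W_79 840 174720 relc_79_208 v (by omega) (by omega)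
                  · exact fixPtsF_spec W_79 840 175560 relc_79_209 v (by omega) (by omega)
            · rcases Nat.lt_or_ge v 178920 with h | h
              · rcases Nat.lt_or_ge v 177240 with h | h
                · exact fixPtsF_spec W_79 840 176400 relc_79_210 v (by omega) (by omega)
                · rcases Nat.lt_or_ge v 178080 with h | h
                  · exact fixPtsF_spec W_79 840 177240 relc_79_211 v (by omega) (by omega)
                  · exact fixPtsF_spec W_79 840 178080 relc_79_212 v (by omega) (by omega)
              · rcases Nat.lt_or_ge v 179760 with h | h
                · exact fixPtsF_spec W_79 840 178920 relc_79_213 v (by omega) (by omega)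
                · rcases Nat.lt_or_ge v 180600 with h | h
                  · exact fixPtsF_spec W_79 840 179760 relc_79_214 v (by omega) (by omega)
                  · exact fixPtsF_spec W_79 840 180600 relc_79_215 v (by omega) (by omega)
          · rcases Nat.lt_or_ge v 186480 with h | h
            · rcases Nat.lt_or_ge v 183960 with h | h
              · rcases Nat.lt_or_ge v 182280 with h | h
                · exact fixPtsF_spec W_79 840 181440 relc_79_216 v (by omega) (by omega)
                · rcases Nat.lt_or_ge v 183120 with h | h
                  · exact fixPtsF_spec W_79 840 182280 relc_79_217 v (by omega) (by omega)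
                  · exact fixPtsF_spec W_79 840 183120 relc_79_218 v (by omega) (by omega)
              · rcases Nat.lt_or_ge v 184800 with h | h
                · exact fixPtsF_spec W_79 840 183960 relc_79_219 v (by omega) (by omega)
                · rcases Nat.lt_or_ge v 185640 with h | h
                  · exact fixPtsF_spec W_79 840 184800 relc_79_220 v (by omega) (by omega)
                  · exact fixPtsF_spec W_79 840 185640 relc_79_221 v (by omega) (by omega)
            · rcases Nat.lt_or_ge v 189000 with h | h
              · rcases Nat.lt_or_ge v 187320 with h | h
                · exact fixPtsF_spec W_79 840 186480 relc_79_222 v (by omega) (by omega)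
                · rcases Nat.lt_or_ge v 188160 with h | h
                  · exact fixPtsF_spec W_79 840 187320 relc_79_223 v (by omega) (by omega)
                  · exact fixPtsF_spec W_79 840 188160 relc_79_224 v (by omega) (by omega)
              · rcases Nat.lt_or_ge v 189840 with h | h
                · exact fixPtsF_spec W_79 840 189000 relc_79_225 v (by omega) (by omega)
                · rcases Nat.lt_or_ge v 190680 with h | h
                  · exact fixPtsF_spec W_79 840 189840 relc_79_226 v (by omega) (by omega)
                  · exact fixPtsF_spec W_79 840 190680 relc_79_227 v (by omega) (by omega)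
      · rcases Nat.lt_or_ge v 210840 with h | h
        · rcases Nat.lt_or_ge v 200760 with h | h
          · rcases Nat.lt_or_ge v 195720 with h | h
            · rcases Nat.lt_or_ge v 193200 with h | h
              · rcases Nat.lt_or_ge v 192360 with h | h
                · exact fixPtsF_spec W_79 840 191520 relc_79_228 v (by omega) (by omega)
                · exact fixPtsF_spec W_79 840 192360 relc_79_229 v (by omega) (by omega)
              · rcases Nat.lt_or_ge v 194040 with h | h
                · exact fixPtsF_spec W_79 840 193200 relc_79_230 v (by omega) (by omega)
                · rcases Nat.lt_or_ge v 194880 with h | h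
                  · exact fixPtsF_spec W_79 840 194040 relc_79_231 v (by omega) (by omega)
                  · exact fixPtsF_spec W_79 840 194880 relc_79_232 v (by omega) (by omega)
            · rcases Nat.lt_or_ge v 198240 with h | h
              · rcases Nat.lt_or_ge v 196560 with h | h
                · exact fixPtsF_spec W_79 840 195720 relc_79_233 v (by omega) (by omega)
                · rcases Nat.lt_or_ge v 197400 with h | h
                  · exact fixPtsF_spec W_79 840 196560 relc_79_234 v (by omega) (by omega)
                  · exact fixPtsF_spec W_79 840 197400 relc_79_235 v (by omega) (by omega)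
              · rcases Nat.lt_or_ge v 199080 with h | h
                · exact fixPtsF_spec W_79 840 198240 relc_79_236 v (by omega) (by omega)
                · rcases Nat.lt_or_ge v 199920 with h | h
                  · exact fixPtsF_spec W_79 840 199080 relc_79_237 v (by omega) (by omega)
                  · exact fixPtsF_spec W_79 840 199920 relc_79_238 v (by omega) (by omega)
          · rcases Nat.lt_or_ge v 205800 with h | h
            · rcases Nat.lt_or_ge v 203280 with h | h
              · rcases Nat.lt_or_ge v 201600 with h | h
                · exact fixPtsF_spec W_79 840 200760 relc_79_239 v (by omega) (by omega)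
                · rcases Nat.lt_or_ge v 202440 with h | h
                  · exact fixPtsF_spec W_79 840 201600 relc_79_240 v (by omega) (by omega)
                  · exact fixPtsF_spec W_79 840 202440 relc_79_241 v (by omega) (by omega)
              · rcases Nat.lt_or_ge v 204120 with h | h
                · exact fixPtsF_spec W_79 840 203280 relc_79_242 v (by omega) (by omega)
                · rcases Nat.lt_or_ge v 204960 with h | h
                  · exact fixPtsF_spec W_79 840 204120 relc_79_243 v (by omega) (by omega)
                  · exact fixPtsF_spec W_79 840 204960 relc_79_244 v (by omega) (by omega)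
            · rcases Nat.lt_or_ge v 208320 with h | h
              · rcases Nat.lt_or_ge v 206640 with h | h
                · exact fixPtsF_spec W_79 840 205800 relc_79_245 v (by omega) (by omega)
                · rcases Nat.lt_or_ge v 207480 with h | h
                  · exact fixPtsF_spec W_79 840 206640 relc_79_246 v (by omega) (by omega)
                  · exact fixPtsF_spec W_79 840 207480 relc_79_247 v (by omega) (by omega)
              · rcases Nat.lt_or_ge v 209160 with h | h
                · exact fixPtsF_spec W_79 840 208320 relc_79_248 v (by omega) (by omega)
                · rcases Nat.lt_or_ge v 210000 with h | h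
                  · exact fixPtsF_spec W_79 840 209160 relc_79_249 v (by omega) (by omega)
                  · exact fixPtsF_spec W_79 840 210000 relc_79_250 v (by omega) (by omega)
        · rcases Nat.lt_or_ge v 220080 with h | h
          · rcases Nat.lt_or_ge v 215040 with h | h
            · rcases Nat.lt_or_ge v 212520 with h | h
              · rcases Nat.lt_or_ge v 211680 with h | h
                · exact fixPtsF_spec W_79 840 210840 relc_79_251 v (by omega) (by omega)
                · exact fixPtsF_spec W_79 840 211680 relc_79_252 v (by omega) (by omega)
              · rcases Nat.lt_or_ge v 213360 with h | h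
                · exact fixPtsF_spec W_79 840 212520 relc_79_253 v (by omega) (by omega)
                · rcases Nat.lt_or_ge v 214200 with h | h
                  · exact fixPtsF_spec W_79 840 213360 relc_79_254 v (by omega) (by omega)
                  · exact fixPtsF_spec W_79 840 214200 relc_79_255 v (by omega) (by omega)
            · rcases Nat.lt_or_ge v 217560 with h | h
              · rcases Nat.lt_or_ge v 215880 with h | h
                · exact fixPtsF_spec W_79 840 215040 relc_79_256 v (by omega) (by omega)
                · rcases Nat.lt_or_ge v 216720 with h | h
                  · exact fixPtsF_spec W_79 840 215880 relc_79_257 v (by omega) (by omega)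
                  · exact fixPtsF_spec W_79 840 216720 relc_79_258 v (by omega) (by omega)
              · rcases Nat.lt_or_ge v 218400 with h | h
                · exact fixPtsF_spec W_79 840 217560 relc_79_259 v (by omega) (by omega)
                · rcases Nat.lt_or_ge v 219240 with h | h
                  · exact fixPtsF_spec W_79 840 218400 relc_79_260 v (by omega) (by omega)
                  · exact fixPtsF_spec W_79 840 219240 relc_79_261 v (by omega) (by omega)
          · rcases Nat.lt_or_ge v 225120 with h | h
            · rcases Nat.lt_or_ge v 222600 with h | h
              · rcases Nat.lt_or_ge v 220920 with h | h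
                · exact fixPtsF_spec W_79 840 220080 relc_79_262 v (by omega) (by omega)
                · rcases Nat.lt_or_ge v 221760 with h | h
                  · exact fixPtsF_spec W_79 840 220920 relc_79_263 v (by omega) (by omega)
                  · exact fixPtsF_spec W_79 840 221760 relc_79_264 v (by omega) (by omega)
              · rcases Nat.lt_or_ge v 223440 with h | h
                · exact fixPtsF_spec W_79 840 222600 relc_79_265 v (by omega) (by omega)
                · rcases Nat.lt_or_ge v 224280 with h | h
                  · exact fixPtsF_spec W_79 840 223440 relc_79_266 v (by omega) (by omega)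
                  · exact fixPtsF_spec W_79 840 224280 relc_79_267 v (by omega) (by omega)
            · rcases Nat.lt_or_ge v 227640 with h | h
              · rcases Nat.lt_or_ge v 225960 with h | h
                · exact fixPtsF_spec W_79 840 225120 relc_79_268 v (by omega) (by omega)
                · rcases Nat.lt_or_ge v 226800 with h | h
                  · exact fixPtsF_spec W_79 840 225960 relc_79_269 v (by omega) (by omega)
                  · exact fixPtsF_spec W_79 840 226800 relc_79_270 v (by omega) (by omega)
              · rcases Nat.lt_or_ge v 228480 with h | h
                · exact fixPtsF_spec W_79 840 227640 relc_79_271 v (by omega) (by omega)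
                · rcases Nat.lt_or_ge v 229320 with h | h
                  · exact fixPtsF_spec W_79 840 228480 relc_79_272 v (by omega) (by omega)
                  · exact fixPtsF_spec W_79 840 229320 relc_79_273 v (by omega) (by omega)
    · rcases Nat.lt_or_ge v 268800 with h | h
      · rcases Nat.lt_or_ge v 249480 with h | h
        · rcases Nat.lt_or_ge v 239400 with h | h
          · rcases Nat.lt_or_ge v 234360 with h | h
            · rcases Nat.lt_or_ge v 231840 with h | h
              · rcases Nat.lt_or_ge v 231000 with h | h
                · exact fixPtsF_spec W_79 840 230160 relc_79_274 v (by omega) (by omega)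
                · exact fixPtsF_spec W_79 840 231000 relc_79_275 v (by omega) (by omega)
              · rcases Nat.lt_or_ge v 232680 with h | h
                · exact fixPtsF_spec W_79 840 231840 relc_79_276 v (by omega) (by omega)
                · rcases Nat.lt_or_ge v 233520 with h | h
                  · exact fixPtsF_spec W_79 840 232680 relc_79_277 v (by omega) (by omega)
                  · exact fixPtsF_spec W_79 840 233520 relc_79_278 v (by omega) (by omega)
            · rcases Nat.lt_or_ge v 236880 with h | h
              · rcases Nat.lt_or_ge v 235200 with h | h
                · exact fixPtsF_spec W_79 840 234360 relc_79_279 v (by omega) (by omega)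
                · rcases Nat.lt_or_ge v 236040 with h | h
                  · exact fixPtsF_spec W_79 840 235200 relc_79_280 v (by omega) (by omega)
                  · exact fixPtsF_spec W_79 840 236040 relc_79_281 v (by omega) (by omega)
              · rcases Nat.lt_or_ge v 237720 with h | h
                · exact fixPtsF_spec W_79 840 236880 relc_79_282 v (by omega) (by omega)
                · rcases Nat.lt_or_ge v 238560 with h | h
                  · exact fixPtsF_spec W_79 840 237720 relc_79_283 v (by omega) (by omega)
                  · exact fixPtsF_spec W_79 840 238560 relc_79_284 v (by omega) (by omega)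
          · rcases Nat.lt_or_ge v 244440 with h | h
            · rcases Nat.lt_or_ge v 241920 with h | h
              · rcases Nat.lt_or_ge v 240240 with h | h
                · exact fixPtsF_spec W_79 840 239400 relc_79_285 v (by omega) (by omega)
                · rcases Nat.lt_or_ge v 241080 with h | h
                  · exact fixPtsF_spec W_79 840 240240 relc_79_286 v (by omega) (by omega)
                  · exact fixPtsF_spec W_79 840 241080 relc_79_287 v (by omega) (by omega)
              · rcases Nat.lt_or_ge v 242760 with h | h
                · exact fixPtsF_spec W_79 840 241920 relc_79_288 v (by omega) (by omega)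
                · rcases Nat.lt_or_ge v 243600 with h | h
                  · exact fixPtsF_spec W_79 840 242760 relc_79_289 v (by omega) (by omega)
                  · exact fixPtsF_spec W_79 840 243600 relc_79_290 v (by omega) (by omega)
            · rcases Nat.lt_or_ge v 246960 with h | h
              · rcases Nat.lt_or_ge v 245280 with h | h
                · exact fixPtsF_spec W_79 840 244440 relc_79_291 v (by omega) (by omega)
                · rcases Nat.lt_or_ge v 246120 with h | h
                  · exact fixPtsF_spec W_79 840 245280 relc_79_292 v (by omega) (by omega)
                  · exact fixPtsF_spec W_79 840 246120 relc_79_293 v (by omega) (by omega)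
              · rcases Nat.lt_or_ge v 247800 with h | h
                · exact fixPtsF_spec W_79 840 246960 relc_79_294 v (by omega) (by omega)
                · rcases Nat.lt_or_ge v 248640 with h | h
                  · exact fixPtsF_spec W_79 840 247800 relc_79_295 v (by omega) (by omega)
                  · exact fixPtsF_spec W_79 840 248640 relc_79_296 v (by omega) (by omega)
        · rcases Nat.lt_or_ge v 258720 with h | h
          · rcases Nat.lt_or_ge v 253680 with h | h
            · rcases Nat.lt_or_ge v 251160 with h | h
              · rcases Nat.lt_or_ge v 250320 with h | h
                · exact fixPtsF_spec W_79 840 249480 relc_79_297 v (by omega) (by omega)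
                · exact fixPtsF_spec W_79 840 250320 relc_79_298 v (by omega) (by omega)
              · rcases Nat.lt_or_ge v 252000 with h | h
                · exact fixPtsF_spec W_79 840 251160 relc_79_299 v (by omega) (by omega)
                · rcases Nat.lt_or_ge v 252840 with h | h
                  · exact fixPtsF_spec W_79 840 252000 relc_79_300 v (by omega) (by omega)
                  · exact fixPtsF_spec W_79 840 252840 relc_79_301 v (by omega) (by omega)
            · rcases Nat.lt_or_ge v 256200 with h | h
              · rcases Nat.lt_or_ge v 254520 with h | h
                · exact fixPtsF_spec W_79 840 253680 relc_79_302 v (by omega) (by omega)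
                · rcases Nat.lt_or_ge v 255360 with h | h
                  · exact fixPtsF_spec W_79 840 254520 relc_79_303 v (by omega) (by omega)
                  · exact fixPtsF_spec W_79 840 255360 relc_79_304 v (by omega) (by omega)
              · rcases Nat.lt_or_ge v 257040 with h | h
                · exact fixPtsF_spec W_79 840 256200 relc_79_305 v (by omega) (by omega)
                · rcases Nat.lt_or_ge v 257880 with h | h
                  · exact fixPtsF_spec W_79 840 257040 relc_79_306 v (by omega) (by omega)
                  · exact fixPtsF_spec W_79 840 257880 relc_79_307 v (by omega) (by omega)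
          · rcases Nat.lt_or_ge v 263760 with h | h
            · rcases Nat.lt_or_ge v 261240 with h | h
              · rcases Nat.lt_or_ge v 259560 with h | h
                · exact fixPtsF_spec W_79 840 258720 relc_79_308 v (by omega) (by omega)
                · rcases Nat.lt_or_ge v 260400 with h | h
                  · exact fixPtsF_spec W_79 840 259560 relc_79_309 v (by omega) (by omega)
                  · exact fixPtsF_spec W_79 840 260400 relc_79_310 v (by omega) (by omega)
              · rcases Nat.lt_or_ge v 262080 with h | h
                · exact fixPtsF_spec W_79 840 261240 relc_79_311 v (by omega) (by omega)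
                · rcases Nat.lt_or_ge v 262920 with h | h
                  · exact fixPtsF_spec W_79 840 262080 relc_79_312 v (by omega) (by omega)
                  · exact fixPtsF_spec W_79 840 262920 relc_79_313 v (by omega) (by omega)
            · rcases Nat.lt_or_ge v 266280 with h | h
              · rcases Nat.lt_or_ge v 264600 with h | h
                · exact fixPtsF_spec W_79 840 263760 relc_79_314 v (by omega) (by omega)
                · rcases Nat.lt_or_ge v 265440 with h | h
                  · exact fixPtsF_spec W_79 840 264600 relc_79_315 v (by omega) (by omega)
                  · exact fixPtsF_spec W_79 840 265440 relc_79_316 v (by omega) (by omega)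
              · rcases Nat.lt_or_ge v 267120 with h | h
                · exact fixPtsF_spec W_79 840 266280 relc_79_317 v (by omega) (by omega)
                · rcases Nat.lt_or_ge v 267960 with h | h
                  · exact fixPtsF_spec W_79 840 267120 relc_79_318 v (by omega) (by omega)
                  · exact fixPtsF_spec W_79 840 267960 relc_79_319 v (by omega) (by omega)
      · rcases Nat.lt_or_ge v 288120 with h | h
        · rcases Nat.lt_or_ge v 278040 with h | h
          · rcases Nat.lt_or_ge v 273000 with h | h
            · rcases Nat.lt_or_ge v 270480 with h | h
              · rcases Nat.lt_or_ge v 269640 with h | h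
                · exact fixPtsF_spec W_79 840 268800 relc_79_320 v (by omega) (by omega)
                · exact fixPtsF_spec W_79 840 269640 relc_79_321 v (by omega) (by omega)
              · rcases Nat.lt_or_ge v 271320 with h | h
                · exact fixPtsF_spec W_79 840 270480 relc_79_322 v (by omega) (by omega)
                · rcases Nat.lt_or_ge v 272160 with h | h
                  · exact fixPtsF_spec W_79 840 271320 relc_79_323 v (by omega) (by omega)
                  · exact fixPtsF_spec W_79 840 272160 relc_79_324 v (by omega) (by omega)
            · rcases Nat.lt_or_ge v 275520 with h | h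
              · rcases Nat.lt_or_ge v 273840 with h | h
                · exact fixPtsF_spec W_79 840 273000 relc_79_325 v (by omega) (by omega)
                · rcases Nat.lt_or_ge v 274680 with h | h
                  · exact fixPtsF_spec W_79 840 273840 relc_79_326 v (by omega) (by omega)
                  · exact fixPtsF_spec W_79 840 274680 relc_79_327 v (by omega) (by omega)
              · rcases Nat.lt_or_ge v 276360 with h | h
                · exact fixPtsF_spec W_79 840 275520 relc_79_328 v (by omega) (by omega)
                · rcases Nat.lt_or_ge v 277200 with h | h
                  · exact fixPtsF_spec W_79 840 276360 relc_79_329 v (by omega) (by omega)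
                  · exact fixPtsF_spec W_79 840 277200 relc_79_330 v (by omega) (by omega)
          · rcases Nat.lt_or_ge v 283080 with h | h
            · rcases Nat.lt_or_ge v 280560 with h | h
              · rcases Nat.lt_or_ge v 278880 with h | h
                · exact fixPtsF_spec W_79 840 278040 relc_79_331 v (by omega) (by omega)
                · rcases Nat.lt_or_ge v 279720 with h | h
                  · exact fixPtsF_spec W_79 840 278880 relc_79_332 v (by omega) (by omega)
                  · exact fixPtsF_spec W_79 840 279720 relc_79_333 v (by omega) (by omega)
              · rcases Nat.lt_or_ge v 281400 with h | h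
                · exact fixPtsF_spec W_79 840 280560 relc_79_334 v (by omega) (by omega)
                · rcases Nat.lt_or_ge v 282240 with h | h
                  · exact fixPtsF_spec W_79 840 281400 relc_79_335 v (by omega) (by omega)
                  · exact fixPtsF_spec W_79 840 282240 relc_79_336 v (by omega) (by omega)
            · rcases Nat.lt_or_ge v 285600 with h | h
              · rcases Nat.lt_or_ge v 283920 with h | h
                · exact fixPtsF_spec W_79 840 283080 relc_79_337 v (by omega) (by omega)
                · rcases Nat.lt_or_ge v 284760 with h | h
                  · exact fixPtsF_spec W_79 840 283920 relc_79_338 v (by omega) (by omega)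
                  · exact fixPtsF_spec W_79 840 284760 relc_79_339 v (by omega) (by omega)
              · rcases Nat.lt_or_ge v 286440 with h | h
                · exact fixPtsF_spec W_79 840 285600 relc_79_340 v (by omega) (by omega)
                · rcases Nat.lt_or_ge v 287280 with h | h
                  · exact fixPtsF_spec W_79 840 286440 relc_79_341 v (by omega) (by omega)
                  · exact fixPtsF_spec W_79 840 287280 relc_79_342 v (by omega) (by omega)
        · rcases Nat.lt_or_ge v 297360 with h | h
          · rcases Nat.lt_or_ge v 292320 with h | h
            · rcases Nat.lt_or_ge v 289800 with h | h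
              · rcases Nat.lt_or_ge v 288960 with h | h
                · exact fixPtsF_spec W_79 840 288120 relc_79_343 v (by omega) (by omega)
                · exact fixPtsF_spec W_79 840 288960 relc_79_344 v (by omega) (by omega)
              · rcases Nat.lt_or_ge v 290640 with h | h
                · exact fixPtsF_spec W_79 840 289800 relc_79_345 v (by omega) (by omega)
                · rcases Nat.lt_or_ge v 291480 with h | h
                  · exact fixPtsF_spec W_79 840 290640 relc_79_346 v (by omega) (by omega)
                  · exact fixPtsF_spec W_79 840 291480 relc_79_347 v (by omega) (by omega)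
            · rcases Nat.lt_or_ge v 294840 with h | h
              · rcases Nat.lt_or_ge v 293160 with h | h
                · exact fixPtsF_spec W_79 840 292320 relc_79_348 v (by omega) (by omega)
                · rcases Nat.lt_or_ge v 294000 with h | h
                  · exact fixPtsF_spec W_79 840 293160 relc_79_349 v (by omega) (by omega)
                  · exact fixPtsF_spec W_79 840 294000 relc_79_350 v (by omega) (by omega)
              · rcases Nat.lt_or_ge v 295680 with h | h
                · exact fixPtsF_spec W_79 840 294840 relc_79_351 v (by omega) (by omega)
                · rcases Nat.lt_or_ge v 296520 with h | h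
                  · exact fixPtsF_spec W_79 840 295680 relc_79_352 v (by omega) (by omega)
                  · exact fixPtsF_spec W_79 840 296520 relc_79_353 v (by omega) (by omega)
          · rcases Nat.lt_or_ge v 302400 with h | h
            · rcases Nat.lt_or_ge v 299880 with h | h
              · rcases Nat.lt_or_ge v 298200 with h | h
                · exact fixPtsF_spec W_79 840 297360 relc_79_354 v (by omega) (by omega)
                · rcases Nat.lt_or_ge v 299040 with h | h
                  · exact fixPtsF_spec W_79 840 298200 relc_79_355 v (by omega) (by omega)
                  · exact fixPtsF_spec W_79 840 299040 relc_79_356 v (by omega) (by omega)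
              · rcases Nat.lt_or_ge v 300720 with h | h
                · exact fixPtsF_spec W_79 840 299880 relc_79_357 v (by omega) (by omega)
                · rcases Nat.lt_or_ge v 301560 with h | h
                  · exact fixPtsF_spec W_79 840 300720 relc_79_358 v (by omega) (by omega)
                  · exact fixPtsF_spec W_79 840 301560 relc_79_359 v (by omega) (by omega)
            · rcases Nat.lt_or_ge v 304920 with h | h
              · rcases Nat.lt_or_ge v 303240 with h | h
                · exact fixPtsF_spec W_79 840 302400 relc_79_360 v (by omega) (by omega)
                · rcases Nat.lt_or_ge v 304080 with h | h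
                  · exact fixPtsF_spec W_79 840 303240 relc_79_361 v (by omega) (by omega)
                  · exact fixPtsF_spec W_79 840 304080 relc_79_362 v (by omega) (by omega)
              · rcases Nat.lt_or_ge v 305760 with h | h
                · exact fixPtsF_spec W_79 840 304920 relc_79_363 v (by omega) (by omega)
                · rcases Nat.lt_or_ge v 306600 with h | h
                  · exact fixPtsF_spec W_79 840 305760 relc_79_364 v (by omega) (by omega)
                  · exact fixPtsF_spec W_79 336 306600 relc_79_365 v (by omega) (by omega)

set_option maxRecDepth 1000000 in
theorem walk_79 : ∀ v, walkT ctF (D.wlen 79) (D.wordP 79) v = W_79 v := by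
  intro v
  simp only [W_79, forceL_eq]
  rfl

theorem relw_79 : ∀ v, v < 306936 → walkT ctF (D.wlen 79) (D.wordP 79) v = v := by
  intro v hv
  rw [walk_79]
  exact relf_79 v hv

theorem relf_80 : ∀ v, v < 306936 → W_80 v = v := by
  intro v hv
  rcases Nat.lt_or_ge v 153318 with h | h
  · rcases Nat.lt_or_ge v 75548 with h | h
    · rcases Nat.lt_or_ge v 37774 with h | h
      · rcases Nat.lt_or_ge v 17776 with h | h
        · rcases Nat.lt_or_ge v 8888 with h | h
          · rcases Nat.lt_or_ge v 4444 with h | h
            · rcases Nat.lt_or_ge v 2222 with h | h
              · exact fixPtsF_spec W_80 2222 0 relc_80_0 v (by omega) (by omega)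
              · exact fixPtsF_spec W_80 2222 2222 relc_80_1 v (by omega) (by omega)
            · rcases Nat.lt_or_ge v 6666 with h | h
              · exact fixPtsF_spec W_80 2222 4444 relc_80_2 v (by omega) (by omega)
              · exact fixPtsF_spec W_80 2222 6666 relc_80_3 v (by omega) (by omega)
          · rcases Nat.lt_or_ge v 13332 with h | h
            · rcases Nat.lt_or_ge v 11110 with h | h
              · exact fixPtsF_spec W_80 2222 8888 relc_80_4 v (by omega) (by omega)
              · exact fixPtsF_spec W_80 2222 11110 relc_80_5 v (by omega) (by omega)
            · rcases Nat.lt_or_ge v 15554 with h | h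
              · exact fixPtsF_spec W_80 2222 13332 relc_80_6 v (by omega) (by omega)
              · exact fixPtsF_spec W_80 2222 15554 relc_80_7 v (by omega) (by omega)
        · rcases Nat.lt_or_ge v 26664 with h | h
          · rcases Nat.lt_or_ge v 22220 with h | h
            · rcases Nat.lt_or_ge v 19998 with h | h
              · exact fixPtsF_spec W_80 2222 17776 relc_80_8 v (by omega) (by omega)
              · exact fixPtsF_spec W_80 2222 19998 relc_80_9 v (by omega) (by omega)
            · rcases Nat.lt_or_ge v 24442 with h | h
              · exact fixPtsF_spec W_80 2222 22220 relc_80_10 v (by omega) (by omega)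
              · exact fixPtsF_spec W_80 2222 24442 relc_80_11 v (by omega) (by omega)
          · rcases Nat.lt_or_ge v 31108 with h | h
            · rcases Nat.lt_or_ge v 28886 with h | h
              · exact fixPtsF_spec W_80 2222 26664 relc_80_12 v (by omega) (by omega)
              · exact fixPtsF_spec W_80 2222 28886 relc_80_13 v (by omega) (by omega)
            · rcases Nat.lt_or_ge v 33330 with h | h
              · exact fixPtsF_spec W_80 2222 31108 relc_80_14 v (by omega) (by omega)
              · rcases Nat.lt_or_ge v 35552 with h | h
                · exact fixPtsF_spec W_80 2222 33330 relc_80_15 v (by omega) (by omega)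
                · exact fixPtsF_spec W_80 2222 35552 relc_80_16 v (by omega) (by omega)
      · rcases Nat.lt_or_ge v 55550 with h | h
        · rcases Nat.lt_or_ge v 46662 with h | h
          · rcases Nat.lt_or_ge v 42218 with h | h
            · rcases Nat.lt_or_ge v 39996 with h | h
              · exact fixPtsF_spec W_80 2222 37774 relc_80_17 v (by omega) (by omega)
              · exact fixPtsF_spec W_80 2222 39996 relc_80_18 v (by omega) (by omega)
            · rcases Nat.lt_or_ge v 44440 with h | h
              · exact fixPtsF_spec W_80 2222 42218 relc_80_19 v (by omega) (by omega)
              · exact fixPtsF_spec W_80 2222 44440 relc_80_20 v (by omega) (by omega)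
          · rcases Nat.lt_or_ge v 51106 with h | h
            · rcases Nat.lt_or_ge v 48884 with h | h
              · exact fixPtsF_spec W_80 2222 46662 relc_80_21 v (by omega) (by omega)
              · exact fixPtsF_spec W_80 2222 48884 relc_80_22 v (by omega) (by omega)
            · rcases Nat.lt_or_ge v 53328 with h | h
              · exact fixPtsF_spec W_80 2222 51106 relc_80_23 v (by omega) (by omega)
              · exact fixPtsF_spec W_80 2222 53328 relc_80_24 v (by omega) (by omega)
        · rcases Nat.lt_or_ge v 64438 with h | h
          · rcases Nat.lt_or_ge v 59994 with h | h
            · rcases Nat.lt_or_ge v 57772 with h | h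
              · exact fixPtsF_spec W_80 2222 55550 relc_80_25 v (by omega) (by omega)
              · exact fixPtsF_spec W_80 2222 57772 relc_80_26 v (by omega) (by omega)
            · rcases Nat.lt_or_ge v 62216 with h | h
              · exact fixPtsF_spec W_80 2222 59994 relc_80_27 v (by omega) (by omega)
              · exact fixPtsF_spec W_80 2222 62216 relc_80_28 v (by omega) (by omega)
          · rcases Nat.lt_or_ge v 68882 with h | h
            · rcases Nat.lt_or_ge v 66660 with h | h
              · exact fixPtsF_spec W_80 2222 64438 relc_80_29 v (by omega) (by omega)
              · exact fixPtsF_spec W_80 2222 66660 relc_80_30 v (by omega) (by omega)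
            · rcases Nat.lt_or_ge v 71104 with h | h
              · exact fixPtsF_spec W_80 2222 68882 relc_80_31 v (by omega) (by omega)
              · rcases Nat.lt_or_ge v 73326 with h | h
                · exact fixPtsF_spec W_80 2222 71104 relc_80_32 v (by omega) (by omega)
                · exact fixPtsF_spec W_80 2222 73326 relc_80_33 v (by omega) (by omega)
    · rcases Nat.lt_or_ge v 113322 with h | h
      · rcases Nat.lt_or_ge v 93324 with h | h
        · rcases Nat.lt_or_ge v 84436 with h | h
          · rcases Nat.lt_or_ge v 79992 with h | h
            · rcases Nat.lt_or_ge v 77770 with h | h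
              · exact fixPtsF_spec W_80 2222 75548 relc_80_34 v (by omega) (by omega)
              · exact fixPtsF_spec W_80 2222 77770 relc_80_35 v (by omega) (by omega)
            · rcases Nat.lt_or_ge v 82214 with h | h
              · exact fixPtsF_spec W_80 2222 79992 relc_80_36 v (by omega) (by omega)
              · exact fixPtsF_spec W_80 2222 82214 relc_80_37 v (by omega) (by omega)
          · rcases Nat.lt_or_ge v 88880 with h | h
            · rcases Nat.lt_or_ge v 86658 with h | h
              · exact fixPtsF_spec W_80 2222 84436 relc_80_38 v (by omega) (by omega)
              · exact fixPtsF_spec W_80 2222 86658 relc_80_39 v (by omega) (by omega)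
            · rcases Nat.lt_or_ge v 91102 with h | h
              · exact fixPtsF_spec W_80 2222 88880 relc_80_40 v (by omega) (by omega)
              · exact fixPtsF_spec W_80 2222 91102 relc_80_41 v (by omega) (by omega)
        · rcases Nat.lt_or_ge v 102212 with h | h
          · rcases Nat.lt_or_ge v 97768 with h | h
            · rcases Nat.lt_or_ge v 95546 with h | h
              · exact fixPtsF_spec W_80 2222 93324 relc_80_42 v (by omega) (by omega)
              · exact fixPtsF_spec W_80 2222 95546 relc_80_43 v (by omega) (by omega)
            · rcases Nat.lt_or_ge v 99990 with h | h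
              · exact fixPtsF_spec W_80 2222 97768 relc_80_44 v (by omega) (by omega)
              · exact fixPtsF_spec W_80 2222 99990 relc_80_45 v (by omega) (by omega)
          · rcases Nat.lt_or_ge v 106656 with h | h
            · rcases Nat.lt_or_ge v 104434 with h | h
              · exact fixPtsF_spec W_80 2222 102212 relc_80_46 v (by omega) (by omega)
              · exact fixPtsF_spec W_80 2222 104434 relc_80_47 v (by omega) (by omega)
            · rcases Nat.lt_or_ge v 108878 with h | h
              · exact fixPtsF_spec W_80 2222 106656 relc_80_48 v (by omega) (by omega)
              · rcases Nat.lt_or_ge v 111100 with h | h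
                · exact fixPtsF_spec W_80 2222 108878 relc_80_49 v (by omega) (by omega)
                · exact fixPtsF_spec W_80 2222 111100 relc_80_50 v (by omega) (by omega)
      · rcases Nat.lt_or_ge v 133320 with h | h
        · rcases Nat.lt_or_ge v 122210 with h | h
          · rcases Nat.lt_or_ge v 117766 with h | h
            · rcases Nat.lt_or_ge v 115544 with h | h
              · exact fixPtsF_spec W_80 2222 113322 relc_80_51 v (by omega) (by omega)
              · exact fixPtsF_spec W_80 2222 115544 relc_80_52 v (by omega) (by omega)
            · rcases Nat.lt_or_ge v 119988 with h | h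
              · exact fixPtsF_spec W_80 2222 117766 relc_80_53 v (by omega) (by omega)
              · exact fixPtsF_spec W_80 2222 119988 relc_80_54 v (by omega) (by omega)
          · rcases Nat.lt_or_ge v 126654 with h | h
            · rcases Nat.lt_or_ge v 124432 with h | h
              · exact fixPtsF_spec W_80 2222 122210 relc_80_55 v (by omega) (by omega)
              · exact fixPtsF_spec W_80 2222 124432 relc_80_56 v (by omega) (by omega)
            · rcases Nat.lt_or_ge v 128876 with h | h
              · exact fixPtsF_spec W_80 2222 126654 relc_80_57 v (by omega) (by omega)
              · rcases Nat.lt_or_ge v 131098 with h | h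
                · exact fixPtsF_spec W_80 2222 128876 relc_80_58 v (by omega) (by omega)
                · exact fixPtsF_spec W_80 2222 131098 relc_80_59 v (by omega) (by omega)
        · rcases Nat.lt_or_ge v 142208 with h | h
          · rcases Nat.lt_or_ge v 137764 with h | h
            · rcases Nat.lt_or_ge v 135542 with h | h
              · exact fixPtsF_spec W_80 2222 133320 relc_80_60 v (by omega) (by omega)
              · exact fixPtsF_spec W_80 2222 135542 relc_80_61 v (by omega) (by omega)
            · rcases Nat.lt_or_ge v 139986 with h | h
              · exact fixPtsF_spec W_80 2222 137764 relc_80_62 v (by omega) (by omega)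
              · exact fixPtsF_spec W_80 2222 139986 relc_80_63 v (by omega) (by omega)
          · rcases Nat.lt_or_ge v 146652 with h | h
            · rcases Nat.lt_or_ge v 144430 with h | h
              · exact fixPtsF_spec W_80 2222 142208 relc_80_64 v (by omega) (by omega)
              · exact fixPtsF_spec W_80 2222 144430 relc_80_65 v (by omega) (by omega)
            · rcases Nat.lt_or_ge v 148874 with h | h
              · exact fixPtsF_spec W_80 2222 146652 relc_80_66 v (by omega) (by omega)
              · rcases Nat.lt_or_ge v 151096 with h | h
                · exact fixPtsF_spec W_80 2222 148874 relc_80_67 v (by omega) (by omega)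
                · exact fixPtsF_spec W_80 2222 151096 relc_80_68 v (by omega) (by omega)
  · rcases Nat.lt_or_ge v 231088 with h | h
    · rcases Nat.lt_or_ge v 191092 with h | h
      · rcases Nat.lt_or_ge v 171094 with h | h
        · rcases Nat.lt_or_ge v 162206 with h | h
          · rcases Nat.lt_or_ge v 157762 with h | h
            · rcases Nat.lt_or_ge v 155540 with h | h
              · exact fixPtsF_spec W_80 2222 153318 relc_80_69 v (by omega) (by omega)
              · exact fixPtsF_spec W_80 2222 155540 relc_80_70 v (by omega) (by omega)
            · rcases Nat.lt_or_ge v 159984 with h | h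
              · exact fixPtsF_spec W_80 2222 157762 relc_80_71 v (by omega) (by omega)
              · exact fixPtsF_spec W_80 2222 159984 relc_80_72 v (by omega) (by omega)
          · rcases Nat.lt_or_ge v 166650 with h | h
            · rcases Nat.lt_or_ge v 164428 with h | h
              · exact fixPtsF_spec W_80 2222 162206 relc_80_73 v (by omega) (by omega)
              · exact fixPtsF_spec W_80 2222 164428 relc_80_74 v (by omega) (by omega)
            · rcases Nat.lt_or_ge v 168872 with h | h
              · exact fixPtsF_spec W_80 2222 166650 relc_80_75 v (by omega) (by omega)
              · exact fixPtsF_spec W_80 2222 168872 relc_80_76 v (by omega) (by omega)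
        · rcases Nat.lt_or_ge v 179982 with h | h
          · rcases Nat.lt_or_ge v 175538 with h | h
            · rcases Nat.lt_or_ge v 173316 with h | h
              · exact fixPtsF_spec W_80 2222 171094 relc_80_77 v (by omega) (by omega)
              · exact fixPtsF_spec W_80 2222 173316 relc_80_78 v (by omega) (by omega)
            · rcases Nat.lt_or_ge v 177760 with h | h
              · exact fixPtsF_spec W_80 2222 175538 relc_80_79 v (by omega) (by omega)
              · exact fixPtsF_spec W_80 2222 177760 relc_80_80 v (by omega) (by omega)
          · rcases Nat.lt_or_ge v 184426 with h | h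
            · rcases Nat.lt_or_ge v 182204 with h | h
              · exact fixPtsF_spec W_80 2222 179982 relc_80_81 v (by omega) (by omega)
              · exact fixPtsF_spec W_80 2222 182204 relc_80_82 v (by omega) (by omega)
            · rcases Nat.lt_or_ge v 186648 with h | h
              · exact fixPtsF_spec W_80 2222 184426 relc_80_83 v (by omega) (by omega)
              · rcases Nat.lt_or_ge v 188870 with h | h
                · exact fixPtsF_spec W_80 2222 186648 relc_80_84 v (by omega) (by omega)
                · exact fixPtsF_spec W_80 2222 188870 relc_80_85 v (by omega) (by omega)
      · rcases Nat.lt_or_ge v 211090 with h | h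
        · rcases Nat.lt_or_ge v 199980 with h | h
          · rcases Nat.lt_or_ge v 195536 with h | h
            · rcases Nat.lt_or_ge v 193314 with h | h
              · exact fixPtsF_spec W_80 2222 191092 relc_80_86 v (by omega) (by omega)
              · exact fixPtsF_spec W_80 2222 193314 relc_80_87 v (by omega) (by omega)
            · rcases Nat.lt_or_ge v 197758 with h | h
              · exact fixPtsF_spec W_80 2222 195536 relc_80_88 v (by omega) (by omega)
              · exact fixPtsF_spec W_80 2222 197758 relc_80_89 v (by omega) (by omega)
          · rcases Nat.lt_or_ge v 204424 with h | h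
            · rcases Nat.lt_or_ge v 202202 with h | h
              · exact fixPtsF_spec W_80 2222 199980 relc_80_90 v (by omega) (by omega)
              · exact fixPtsF_spec W_80 2222 202202 relc_80_91 v (by omega) (by omega)
            · rcases Nat.lt_or_ge v 206646 with h | h
              · exact fixPtsF_spec W_80 2222 204424 relc_80_92 v (by omega) (by omega)
              · rcases Nat.lt_or_ge v 208868 with h | h
                · exact fixPtsF_spec W_80 2222 206646 relc_80_93 v (by omega) (by omega)
                · exact fixPtsF_spec W_80 2222 208868 relc_80_94 v (by omega) (by omega)
        · rcases Nat.lt_or_ge v 219978 with h | h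
          · rcases Nat.lt_or_ge v 215534 with h | h
            · rcases Nat.lt_or_ge v 213312 with h | h
              · exact fixPtsF_spec W_80 2222 211090 relc_80_95 v (by omega) (by omega)
              · exact fixPtsF_spec W_80 2222 213312 relc_80_96 v (by omega) (by omega)
            · rcases Nat.lt_or_ge v 217756 with h | h
              · exact fixPtsF_spec W_80 2222 215534 relc_80_97 v (by omega) (by omega)
              · exact fixPtsF_spec W_80 2222 217756 relc_80_98 v (by omega) (by omega)
          · rcases Nat.lt_or_ge v 224422 with h | h
            · rcases Nat.lt_or_ge v 222200 with h | h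
              · exact fixPtsF_spec W_80 2222 219978 relc_80_99 v (by omega) (by omega)
              · exact fixPtsF_spec W_80 2222 222200 relc_80_100 v (by omega) (by omega)
            · rcases Nat.lt_or_ge v 226644 with h | h
              · exact fixPtsF_spec W_80 2222 224422 relc_80_101 v (by omega) (by omega)
              · rcases Nat.lt_or_ge v 228866 with h | h
                · exact fixPtsF_spec W_80 2222 226644 relc_80_102 v (by omega) (by omega)
                · exact fixPtsF_spec W_80 2222 228866 relc_80_103 v (by omega) (by omega)
    · rcases Nat.lt_or_ge v 268862 with h | h
      · rcases Nat.lt_or_ge v 248864 with h | h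
        · rcases Nat.lt_or_ge v 239976 with h | h
          · rcases Nat.lt_or_ge v 235532 with h | h
            · rcases Nat.lt_or_ge v 233310 with h | h
              · exact fixPtsF_spec W_80 2222 231088 relc_80_104 v (by omega) (by omega)
              · exact fixPtsF_spec W_80 2222 233310 relc_80_105 v (by omega) (by omega)
            · rcases Nat.lt_or_ge v 237754 with h | h
              · exact fixPtsF_spec W_80 2222 235532 relc_80_106 v (by omega) (by omega)
              · exact fixPtsF_spec W_80 2222 237754 relc_80_107 v (by omega) (by omega)
          · rcases Nat.lt_or_ge v 244420 with h | h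
            · rcases Nat.lt_or_ge v 242198 with h | h
              · exact fixPtsF_spec W_80 2222 239976 relc_80_108 v (by omega) (by omega)
              · exact fixPtsF_spec W_80 2222 242198 relc_80_109 v (by omega) (by omega)
            · rcases Nat.lt_or_ge v 246642 with h | h
              · exact fixPtsF_spec W_80 2222 244420 relc_80_110 v (by omega) (by omega)
              · exact fixPtsF_spec W_80 2222 246642 relc_80_111 v (by omega) (by omega)
        · rcases Nat.lt_or_ge v 257752 with h | h
          · rcases Nat.lt_or_ge v 253308 with h | h
            · rcases Nat.lt_or_ge v 251086 with h | h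
              · exact fixPtsF_spec W_80 2222 248864 relc_80_112 v (by omega) (by omega)
              · exact fixPtsF_spec W_80 2222 251086 relc_80_113 v (by omega) (by omega)
            · rcases Nat.lt_or_ge v 255530 with h | h
              · exact fixPtsF_spec W_80 2222 253308 relc_80_114 v (by omega) (by omega)
              · exact fixPtsF_spec W_80 2222 255530 relc_80_115 v (by omega) (by omega)
          · rcases Nat.lt_or_ge v 262196 with h | h
            · rcases Nat.lt_or_ge v 259974 with h | h
              · exact fixPtsF_spec W_80 2222 257752 relc_80_116 v (by omega) (by omega)
              · exact fixPtsF_spec W_80 2222 259974 relc_80_117 v (by omega) (by omega)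
            · rcases Nat.lt_or_ge v 264418 with h | h
              · exact fixPtsF_spec W_80 2222 262196 relc_80_118 v (by omega) (by omega)
              · rcases Nat.lt_or_ge v 266640 with h | h
                · exact fixPtsF_spec W_80 2222 264418 relc_80_119 v (by omega) (by omega)
                · exact fixPtsF_spec W_80 2222 266640 relc_80_120 v (by omega) (by omega)
      · rcases Nat.lt_or_ge v 288860 with h | h
        · rcases Nat.lt_or_ge v 277750 with h | h
          · rcases Nat.lt_or_ge v 273306 with h | h
            · rcases Nat.lt_or_ge v 271084 with h | h
              · exact fixPtsF_spec W_80 2222 268862 relc_80_121 v (by omega) (by omega)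
              · exact fixPtsF_spec W_80 2222 271084 relc_80_122 v (by omega) (by omega)
            · rcases Nat.lt_or_ge v 275528 with h | h
              · exact fixPtsF_spec W_80 2222 273306 relc_80_123 v (by omega) (by omega)
              · exact fixPtsF_spec W_80 2222 275528 relc_80_124 v (by omega) (by omega)
          · rcases Nat.lt_or_ge v 282194 with h | h
            · rcases Nat.lt_or_ge v 279972 with h | h
              · exact fixPtsF_spec W_80 2222 277750 relc_80_125 v (by omega) (by omega)
              · exact fixPtsF_spec W_80 2222 279972 relc_80_126 v (by omega) (by omega)
            · rcases Nat.lt_or_ge v 284416 with h | h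
              · exact fixPtsF_spec W_80 2222 282194 relc_80_127 v (by omega) (by omega)
              · rcases Nat.lt_or_ge v 286638 with h | h
                · exact fixPtsF_spec W_80 2222 284416 relc_80_128 v (by omega) (by omega)
                · exact fixPtsF_spec W_80 2222 286638 relc_80_129 v (by omega) (by omega)
        · rcases Nat.lt_or_ge v 297748 with h | h
          · rcases Nat.lt_or_ge v 293304 with h | h
            · rcases Nat.lt_or_ge v 291082 with h | h
              · exact fixPtsF_spec W_80 2222 288860 relc_80_130 v (by omega) (by omega)
              · exact fixPtsF_spec W_80 2222 291082 relc_80_131 v (by omega) (by omega)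
            · rcases Nat.lt_or_ge v 295526 with h | h
              · exact fixPtsF_spec W_80 2222 293304 relc_80_132 v (by omega) (by omega)
              · exact fixPtsF_spec W_80 2222 295526 relc_80_133 v (by omega) (by omega)
          · rcases Nat.lt_or_ge v 302192 with h | h
            · rcases Nat.lt_or_ge v 299970 with h | h
              · exact fixPtsF_spec W_80 2222 297748 relc_80_134 v (by omega) (by omega)
              · exact fixPtsF_spec W_80 2222 299970 relc_80_135 v (by omega) (by omega)
            · rcases Nat.lt_or_ge v 304414 with h | h
              · exact fixPtsF_spec W_80 2222 302192 relc_80_136 v (by omega) (by omega)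
              · rcases Nat.lt_or_ge v 306636 with h | h
                · exact fixPtsF_spec W_80 2222 304414 relc_80_137 v (by omega) (by omega)
                · exact fixPtsF_spec W_80 300 306636 relc_80_138 v (by omega) (by omega)

set_option maxRecDepth 1000000 in
theorem walk_80 : ∀ v, walkT ctF (D.wlen 80) (D.wordP 80) v = W_80 v := by
  intro v
  simp only [W_80, forceL_eq]
  rfl

theorem relw_80 : ∀ v, v < 306936 → walkT ctF (D.wlen 80) (D.wordP 80) v = v := by
  intro v hv
  rw [walk_80]
  exact relf_80 v hv

theorem invx_0 : ∀ v, v < 306936 → ctF 0 v < 306936 ∧ ctF 0 (ctF 0 v) = v := by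
  intro v hv
  rcases Nat.lt_or_ge v 150000 with h | h
  · rcases Nat.lt_or_ge v 50000 with h | h
    · exact invRowFI_spec ctF 306936 0 0 50000 0 inv_0_0 v (by omega) (by omega)
    · rcases Nat.lt_or_ge v 100000 with h | h
      · exact invRowFI_spec ctF 306936 0 0 50000 50000 inv_0_1 v (by omega) (by omega)
      · exact invRowFI_spec ctF 306936 0 0 50000 100000 inv_0_2 v (by omega) (by omega)
  · rcases Nat.lt_or_ge v 250000 with h | h
    · rcases Nat.lt_or_ge v 200000 with h | h
      · exact invRowFI_spec ctF 306936 0 0 50000 150000 inv_0_3 v (by omega) (by omega)
      · exact invRowFI_spec ctF 306936 0 0 50000 200000 inv_0_4 v (by omega) (by omega)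
    · rcases Nat.lt_or_ge v 300000 with h | h
      · exact invRowFI_spec ctF 306936 0 0 50000 250000 inv_0_5 v (by omega) (by omega)
      · exact invRowFI_spec ctF 306936 0 0 6936 300000 inv_0_6 v (by omega) (by omega)

theorem invx_1 : ∀ v, v < 306936 → ctF 1 v < 306936 ∧ ctF 1 (ctF 1 v) = v := by
  intro v hv
  rcases Nat.lt_or_ge v 150000 with h | h
  · rcases Nat.lt_or_ge v 50000 with h | h
    · exact invRowFI_spec ctF 306936 1 1 50000 0 inv_1_0 v (by omega) (by omega)
    · rcases Nat.lt_or_ge v 100000 with h | h
      · exact invRowFI_spec ctF 306936 1 1 50000 50000 inv_1_1 v (by omega) (by omega)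
      · exact invRowFI_spec ctF 306936 1 1 50000 100000 inv_1_2 v (by omega) (by omega)
  · rcases Nat.lt_or_ge v 250000 with h | h
    · rcases Nat.lt_or_ge v 200000 with h | h
      · exact invRowFI_spec ctF 306936 1 1 50000 150000 inv_1_3 v (by omega) (by omega)
      · exact invRowFI_spec ctF 306936 1 1 50000 200000 inv_1_4 v (by omega) (by omega)
    · rcases Nat.lt_or_ge v 300000 with h | h
      · exact invRowFI_spec ctF 306936 1 1 50000 250000 inv_1_5 v (by omega) (by omega)
      · exact invRowFI_spec ctF 306936 1 1 6936 300000 inv_1_6 v (by omega) (by omega)

theorem invx_2 : ∀ v, v < 306936 → ctF 2 v < 306936 ∧ ctF 2 (ctF 2 v) = v := by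
  intro v hv
  rcases Nat.lt_or_ge v 150000 with h | h
  · rcases Nat.lt_or_ge v 50000 with h | h
    · exact invRowFI_spec ctF 306936 2 2 50000 0 inv_2_0 v (by omega) (by omega)
    · rcases Nat.lt_or_ge v 100000 with h | h
      · exact invRowFI_spec ctF 306936 2 2 50000 50000 inv_2_1 v (by omega) (by omega)
      · exact invRowFI_spec ctF 306936 2 2 50000 100000 inv_2_2 v (by omega) (by omega)
  · rcases Nat.lt_or_ge v 250000 with h | h
    · rcases Nat.lt_or_ge v 200000 with h | h
      · exact invRowFI_spec ctF 306936 2 2 50000 150000 inv_2_3 v (by omega) (by omega)
      · exact invRowFI_spec ctF 306936 2 2 50000 200000 inv_2_4 v (by omega) (by omega)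
    · rcases Nat.lt_or_ge v 300000 with h | h
      · exact invRowFI_spec ctF 306936 2 2 50000 250000 inv_2_5 v (by omega) (by omega)
      · exact invRowFI_spec ctF 306936 2 2 6936 300000 inv_2_6 v (by omega) (by omega)

theorem invx_3 : ∀ v, v < 306936 → ctF 3 v < 306936 ∧ ctF 3 (ctF 3 v) = v := by
  intro v hv
  rcases Nat.lt_or_ge v 150000 with h | h
  · rcases Nat.lt_or_ge v 50000 with h | h
    · exact invRowFI_spec ctF 306936 3 3 50000 0 inv_3_0 v (by omega) (by omega)
    · rcases Nat.lt_or_ge v 100000 with h | h
      · exact invRowFI_spec ctF 306936 3 3 50000 50000 inv_3_1 v (by omega) (by omega)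
      · exact invRowFI_spec ctF 306936 3 3 50000 100000 inv_3_2 v (by omega) (by omega)
  · rcases Nat.lt_or_ge v 250000 with h | h
    · rcases Nat.lt_or_ge v 200000 with h | h
      · exact invRowFI_spec ctF 306936 3 3 50000 150000 inv_3_3 v (by omega) (by omega)
      · exact invRowFI_spec ctF 306936 3 3 50000 200000 inv_3_4 v (by omega) (by omega)
    · rcases Nat.lt_or_ge v 300000 with h | h
      · exact invRowFI_spec ctF 306936 3 3 50000 250000 inv_3_5 v (by omega) (by omega)
      · exact invRowFI_spec ctF 306936 3 3 6936 300000 inv_3_6 v (by omega) (by omega)

theorem invx_4 : ∀ v, v < 306936 → ctF 4 v < 306936 ∧ ctF 4 (ctF 4 v) = v := by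
  intro v hv
  rcases Nat.lt_or_ge v 150000 with h | h
  · rcases Nat.lt_or_ge v 50000 with h | h
    · exact invRowFI_spec ctF 306936 4 4 50000 0 inv_4_0 v (by omega) (by omega)
    · rcases Nat.lt_or_ge v 100000 with h | h
      · exact invRowFI_spec ctF 306936 4 4 50000 50000 inv_4_1 v (by omega) (by omega)
      · exact invRowFI_spec ctF 306936 4 4 50000 100000 inv_4_2 v (by omega) (by omega)
  · rcases Nat.lt_or_ge v 250000 with h | h
    · rcases Nat.lt_or_ge v 200000 with h | h
      · exact invRowFI_spec ctF 306936 4 4 50000 150000 inv_4_3 v (by omega) (by omega)
      · exact invRowFI_spec ctF 306936 4 4 50000 200000 inv_4_4 v (by omega) (by omega)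
    · rcases Nat.lt_or_ge v 300000 with h | h
      · exact invRowFI_spec ctF 306936 4 4 50000 250000 inv_4_5 v (by omega) (by omega)
      · exact invRowFI_spec ctF 306936 4 4 6936 300000 inv_4_6 v (by omega) (by omega)

theorem invx_5 : ∀ v, v < 306936 → ctF 5 v < 306936 ∧ ctF 5 (ctF 5 v) = v := by
  intro v hv
  rcases Nat.lt_or_ge v 150000 with h | h
  · rcases Nat.lt_or_ge v 50000 with h | h
    · exact invRowFI_spec ctF 306936 5 5 50000 0 inv_5_0 v (by omega) (by omega)
    · rcases Nat.lt_or_ge v 100000 with h | h
      · exact invRowFI_spec ctF 306936 5 5 50000 50000 inv_5_1 v (by omega) (by omega)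
      · exact invRowFI_spec ctF 306936 5 5 50000 100000 inv_5_2 v (by omega) (by omega)
  · rcases Nat.lt_or_ge v 250000 with h | h
    · rcases Nat.lt_or_ge v 200000 with h | h
      · exact invRowFI_spec ctF 306936 5 5 50000 150000 inv_5_3 v (by omega) (by omega)
      · exact invRowFI_spec ctF 306936 5 5 50000 200000 inv_5_4 v (by omega) (by omega)
    · rcases Nat.lt_or_ge v 300000 with h | h
      · exact invRowFI_spec ctF 306936 5 5 50000 250000 inv_5_5 v (by omega) (by omega)
      · exact invRowFI_spec ctF 306936 5 5 6936 300000 inv_5_6 v (by omega) (by omega)

theorem invx_6 : ∀ v, v < 306936 → ctF 6 v < 306936 ∧ ctF 6 (ctF 6 v) = v := by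
  intro v hv
  rcases Nat.lt_or_ge v 150000 with h | h
  · rcases Nat.lt_or_ge v 50000 with h | h
    · exact invRowFI_spec ctF 306936 6 6 50000 0 inv_6_0 v (by omega) (by omega)
    · rcases Nat.lt_or_ge v 100000 with h | h
      · exact invRowFI_spec ctF 306936 6 6 50000 50000 inv_6_1 v (by omega) (by omega)
      · exact invRowFI_spec ctF 306936 6 6 50000 100000 inv_6_2 v (by omega) (by omega)
  · rcases Nat.lt_or_ge v 250000 with h | h
    · rcases Nat.lt_or_ge v 200000 with h | h
      · exact invRowFI_spec ctF 306936 6 6 50000 150000 inv_6_3 v (by omega) (by omega)
      · exact invRowFI_spec ctF 306936 6 6 50000 200000 inv_6_4 v (by omega) (by omega)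
    · rcases Nat.lt_or_ge v 300000 with h | h
      · exact invRowFI_spec ctF 306936 6 6 50000 250000 inv_6_5 v (by omega) (by omega)
      · exact invRowFI_spec ctF 306936 6 6 6936 300000 inv_6_6 v (by omega) (by omega)

theorem invx_7 : ∀ v, v < 306936 → ctF 7 v < 306936 ∧ ctF 7 (ctF 7 v) = v := by
  intro v hv
  rcases Nat.lt_or_ge v 150000 with h | h
  · rcases Nat.lt_or_ge v 50000 with h | h
    · exact invRowFI_spec ctF 306936 7 7 50000 0 inv_7_0 v (by omega) (by omega)
    · rcases Nat.lt_or_ge v 100000 with h | h
      · exact invRowFI_spec ctF 306936 7 7 50000 50000 inv_7_1 v (by omega) (by omega)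
      · exact invRowFI_spec ctF 306936 7 7 50000 100000 inv_7_2 v (by omega) (by omega)
  · rcases Nat.lt_or_ge v 250000 with h | h
    · rcases Nat.lt_or_ge v 200000 with h | h
      · exact invRowFI_spec ctF 306936 7 7 50000 150000 inv_7_3 v (by omega) (by omega)
      · exact invRowFI_spec ctF 306936 7 7 50000 200000 inv_7_4 v (by omega) (by omega)
    · rcases Nat.lt_or_ge v 300000 with h | h
      · exact invRowFI_spec ctF 306936 7 7 50000 250000 inv_7_5 v (by omega) (by omega)
      · exact invRowFI_spec ctF 306936 7 7 6936 300000 inv_7_6 v (by omega) (by omega)

theorem invx_8 : ∀ v, v < 306936 → ctF 8 v < 306936 ∧ ctF 8 (ctF 8 v) = v := by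
  intro v hv
  rcases Nat.lt_or_ge v 150000 with h | h
  · rcases Nat.lt_or_ge v 50000 with h | h
    · exact invRowFI_spec ctF 306936 8 8 50000 0 inv_8_0 v (by omega) (by omega)
    · rcases Nat.lt_or_ge v 100000 with h | h
      · exact invRowFI_spec ctF 306936 8 8 50000 50000 inv_8_1 v (by omega) (by omega)
      · exact invRowFI_spec ctF 306936 8 8 50000 100000 inv_8_2 v (by omega) (by omega)
  · rcases Nat.lt_or_ge v 250000 with h | h
    · rcases Nat.lt_or_ge v 200000 with h | h
      · exact invRowFI_spec ctF 306936 8 8 50000 150000 inv_8_3 v (by omega) (by omega)
      · exact invRowFI_spec ctF 306936 8 8 50000 200000 inv_8_4 v (by omega) (by omega)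
    · rcases Nat.lt_or_ge v 300000 with h | h
      · exact invRowFI_spec ctF 306936 8 8 50000 250000 inv_8_5 v (by omega) (by omega)
      · exact invRowFI_spec ctF 306936 8 8 6936 300000 inv_8_6 v (by omega) (by omega)

theorem invx_9 : ∀ v, v < 306936 → ctF 9 v < 306936 ∧ ctF 9 (ctF 9 v) = v := by
  intro v hv
  rcases Nat.lt_or_ge v 150000 with h | h
  · rcases Nat.lt_or_ge v 50000 with h | h
    · exact invRowFI_spec ctF 306936 9 9 50000 0 inv_9_0 v (by omega) (by omega)
    · rcases Nat.lt_or_ge v 100000 with h | h
      · exact invRowFI_spec ctF 306936 9 9 50000 50000 inv_9_1 v (by omega) (by omega)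
      · exact invRowFI_spec ctF 306936 9 9 50000 100000 inv_9_2 v (by omega) (by omega)
  · rcases Nat.lt_or_ge v 250000 with h | h
    · rcases Nat.lt_or_ge v 200000 with h | h
      · exact invRowFI_spec ctF 306936 9 9 50000 150000 inv_9_3 v (by omega) (by omega)
      · exact invRowFI_spec ctF 306936 9 9 50000 200000 inv_9_4 v (by omega) (by omega)
    · rcases Nat.lt_or_ge v 300000 with h | h
      · exact invRowFI_spec ctF 306936 9 9 50000 250000 inv_9_5 v (by omega) (by omega)
      · exact invRowFI_spec ctF 306936 9 9 6936 300000 inv_9_6 v (by omega) (by omega)

theorem invx_10 : ∀ v, v < 306936 → ctF 10 v < 306936 ∧ ctF 10 (ctF 10 v) = v := by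
  intro v hv
  rcases Nat.lt_or_ge v 150000 with h | h
  · rcases Nat.lt_or_ge v 50000 with h | h
    · exact invRowFI_spec ctF 306936 10 10 50000 0 inv_10_0 v (by omega) (by omega)
    · rcases Nat.lt_or_ge v 100000 with h | h
      · exact invRowFI_spec ctF 306936 10 10 50000 50000 inv_10_1 v (by omega) (by omega)
      · exact invRowFI_spec ctF 306936 10 10 50000 100000 inv_10_2 v (by omega) (by omega)
  · rcases Nat.lt_or_ge v 250000 with h | h
    · rcases Nat.lt_or_ge v 200000 with h | h
      · exact invRowFI_spec ctF 306936 10 10 50000 150000 inv_10_3 v (by omega) (by omega)
      · exact invRowFI_spec ctF 306936 10 10 50000 200000 inv_10_4 v (by omega) (by omega)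
    · rcases Nat.lt_or_ge v 300000 with h | h
      · exact invRowFI_spec ctF 306936 10 10 50000 250000 inv_10_5 v (by omega) (by omega)
      · exact invRowFI_spec ctF 306936 10 10 6936 300000 inv_10_6 v (by omega) (by omega)

theorem invx_11 : ∀ v, v < 306936 → ctF 11 v < 306936 ∧ ctF 11 (ctF 11 v) = v := by
  intro v hv
  rcases Nat.lt_or_ge v 150000 with h | h
  · rcases Nat.lt_or_ge v 50000 with h | h
    · exact invRowFI_spec ctF 306936 11 11 50000 0 inv_11_0 v (by omega) (by omega)
    · rcases Nat.lt_or_ge v 100000 with h | h
      · exact invRowFI_spec ctF 306936 11 11 50000 50000 inv_11_1 v (by omega) (by omega)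
      · exact invRowFI_spec ctF 306936 11 11 50000 100000 inv_11_2 v (by omega) (by omega)
  · rcases Nat.lt_or_ge v 250000 with h | h
    · rcases Nat.lt_or_ge v 200000 with h | h
      · exact invRowFI_spec ctF 306936 11 11 50000 150000 inv_11_3 v (by omega) (by omega)
      · exact invRowFI_spec ctF 306936 11 11 50000 200000 inv_11_4 v (by omega) (by omega)
    · rcases Nat.lt_or_ge v 300000 with h | h
      · exact invRowFI_spec ctF 306936 11 11 50000 250000 inv_11_5 v (by omega) (by omega)
      · exact invRowFI_spec ctF 306936 11 11 6936 300000 inv_11_6 v (by omega) (by omega)

theorem hconn : ∀ v, v < 306936 → v ≠ 0 → ∃ x, x < E.D.k ∧ ctF x v < v := by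
  intro v hv
  rcases Nat.lt_or_ge v 150000 with h | h
  · rcases Nat.lt_or_ge v 50000 with h | h
    · exact connF_spec ctF 12 50000 0 conn_0 v (by omega) (by omega)
    · rcases Nat.lt_or_ge v 100000 with h | h
      · exact connF_spec ctF 12 50000 50000 conn_1 v (by omega) (by omega)
      · exact connF_spec ctF 12 50000 100000 conn_2 v (by omega) (by omega)
  · rcases Nat.lt_or_ge v 250000 with h | h
    · rcases Nat.lt_or_ge v 200000 with h | h
      · exact connF_spec ctF 12 50000 150000 conn_3 v (by omega) (by omega)
      · exact connF_spec ctF 12 50000 200000 conn_4 v (by omega) (by omega)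
    · rcases Nat.lt_or_ge v 300000 with h | h
      · exact connF_spec ctF 12 50000 250000 conn_5 v (by omega) (by omega)
      · exact connF_spec ctF 12 6936 300000 conn_6 v (by omega) (by omega)

theorem hE : ∀ v, v < E.M → ∀ x, x < E.D.k → edgeOKI iota E x v = true := by
  intro v hv x hx
  have hv' : v < 307604 := hv
  have hx' : x < 12 := hx
  interval_cases x
  · exact edgesx_0 v hv'
  · exact edgesx_1 v hv'
  · exact edgesx_2 v hv'
  · exact edgesx_3 v hv'
  · exact edgesx_4 v hv'
  · exact edgesx_5 v hv'
  · exact edgesx_6 v hv'
  · exact edgesx_7 v hv'
  · exact edgesx_8 v hv'
  · exact edgesx_9 v hv'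
  · exact edgesx_10 v hv'
  · exact edgesx_11 v hv'

theorem hA : ∀ v, v < E.M → aliasOK E v = true := fun v hv => hA0 v hv

theorem hrows : ∀ v, v < E.M → tb RS v = true → rowOK2 E RS v E.D.k = true := fun v hv => hrows0 v hv

theorem hT : ∀ x, x < E.D.k → ∀ v, v < 306936 → ctF x v < 306936 ∧ ctF (iota x) (ctF x v) = v := by
  intro x hx
  have hx' : x < 12 := hx
  interval_cases x
  · exact invx_0
  · exact invx_1
  · exact invx_2
  · exact invx_3
  · exact invx_4
  · exact invx_5
  · exact invx_6
  · exact invx_7
  · exact invx_8
  · exact invx_9
  · exact invx_10
  · exact invx_11

theorem hltr : ∀ j, j < E.D.nw → lettersOK E.D.k (E.D.wlen j) (E.D.wordP j) = true :=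
  wordsOK_spec D D.nw words_ok

theorem hrelT : ∀ wi, wi < E.D.nrel → ∀ v, v < 306936 →
    walkT ctF (E.D.wlen wi) (E.D.wordP wi) v = v := by
  intro wi hwi
  have hwi' : wi < 81 := hwi
  interval_cases wi
  · exact relw_0
  · exact relw_1
  · exact relw_2
  · exact relw_3
  · exact relw_4
  · exact relw_5
  · exact relw_6
  · exact relw_7
  · exact relw_8
  · exact relw_9
  · exact relw_10
  · exact relw_11
  · exact relw_12
  · exact relw_13
  · exact relw_14
  · exact relw_15
  · exact relw_16
  · exact relw_17
  · exact relw_18
  · exact relw_19
  · exact relw_20
  · exact relw_21
  · exact relw_22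
  · exact relw_23
  · exact relw_24
  · exact relw_25
  · exact relw_26
  · exact relw_27
  · exact relw_28
  · exact relw_29
  · exact relw_30
  · exact relw_31
  · exact relw_32
  · exact relw_33
  · exact relw_34
  · exact relw_35
  · exact relw_36
  · exact relw_37
  · exact relw_38
  · exact relw_39
  · exact relw_40
  · exact relw_41
  · exact relw_42
  · exact relw_43
  · exact relw_44
  · exact relw_45
  · exact relw_46
  · exact relw_47
  · exact relw_48
  · exact relw_49
  · exact relw_50
  · exact relw_51
  · exact relw_52
  · exact relw_53
  · exact relw_54
  · exact relw_55
  · exact relw_56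
  · exact relw_57
  · exact relw_58
  · exact relw_59
  · exact relw_60
  · exact relw_61
  · exact relw_62
  · exact relw_63
  · exact relw_64
  · exact relw_65
  · exact relw_66
  · exact relw_67
  · exact relw_68
  · exact relw_69
  · exact relw_70
  · exact relw_71
  · exact relw_72
  · exact relw_73
  · exact relw_74
  · exact relw_75
  · exact relw_76
  · exact relw_77
  · exact relw_78
  · exact relw_79
  · exact relw_80

theorem hsubT : ∀ wi, wi < E.D.nw → E.D.nrel ≤ wi →
    walkT ctF (E.D.wlen wi) (E.D.wordP wi) 0 = 0 :=
  subAll_spec ctF D D.nw sub_ok

end Cfsg.Agent.Helper5.FiZATC
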