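import Mathlib
import Cfsg.Agent.Helper5.LPW
import Cfsg.Agent.Helper5.FiZATCSum
import Cfsg.Agent.Helper5.Fi24LPH

/-! generated: the relators of the Fi24 presentation, the certified index of the subgroup generated by all letters but the last, and the upper bound for the order -/

set_option autoImplicit false

namespace Cfsg.Agent.Helper5.Fi24LP

open Cfsg.Agent.Helper5.TC Cfsg.Agent.Helper5.TCI Cfsg.Agent.Helper5.LP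

/-- the relator words of the presentation of `Fi₂₄` (Coxeter relators, `l = (abcdefh)⁹`, `(dcbakldefgjdhi)¹⁷`). -/
def R12o : List (List ℕ) := [[0, 0], [0, 1, 0, 1, 0, 1], [0, 2, 0, 2], [0, 3, 0, 3], [0, 4, 0, 4], [0, 5, 0, 5], [0, 6, 0, 6], [0, 7, 0, 7], [0, 8, 0, 8, 0, 8], [0, 9, 0, 9], [0, 10, 0, 10], [0, 11, 0, 11], [1, 1], [1, 2, 1, 2, 1, 2], [1, 3, 1, 3], [1, 4, 1, 4], [1, 5, 1, 5], [1, 6, 1, 6], [1, 7, 1, 7], [1, 8, 1, 8], [1, 9, 1, 9], [1, 10, 1, 10], [1, 11, 1, 11], [2, 2], [2, 3, 2, 3, 2, 3], [2, 4, 2, 4, 2, 4], [2, 5, 2, 5], [2, 6, 2, 6], [2, 7, 2, 7], [2, 8, 2, 8], [2, 9, 2, 9], [2, 10, 2, 10], [2, 11, 2, 11], [3, 3], [3, 4, 3, 4], [3, 5, 3, 5], [3, 6, 3, 6, 3, 6], [3, 7, 3, 7], [3, 8, 3, 8], [3, 9, 3, 9], [3, 10, 3, 10], [3, 11, 3, 11], [4, 4], [4, 5, 4,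 5, 4, 5], [4, 6, 4, 6], [4, 7, 4, 7], [4, 8, 4, 8], [4, 9, 4, 9], [4, 10, 4, 10], [4, 11, 4, 11], [5, 5], [5, 6, 5, 6], [5, 7, 5, 7], [5, 8, 5, 8], [5, 9, 5, 9], [5, 10, 5, 10], [5, 11, 5, 11], [6, 6], [6, 7, 6, 7, 6, 7], [6, 8, 6, 8], [6, 9, 6, 9], [6, 10, 6, 10], [6, 11, 6, 11], [7, 7], [7, 8, 7, 8], [7, 9, 7, 9, 7, 9], [7, 10, 7, 10], [7, 11, 7, 11], [8, 8], [8, 9, 8, 9], [8, 10, 8, 10], [8, 11, 8, 11, 8, 11], [9, 9], [9, 10, 9, 10], [9, 11, 9, 11], [10, 10], [10, 11, 10, 11, 10, 11], [11, 11], [10, 4, 6, 3, 2, 1, 0, 8, 4, 6, 3, 2, 1, 0, 8, 4, 6, 3, 2, 1, 0, 8, 4, 6, 3, 2, 1, 0, 8, 4, 6, 3, 2, 1, 0, 8, 4, 6, 3, 2, 1, 0, 8, 4, 6, 3, 2, 1, 0, 8, 4, 6, 3, 2, 1, 0, 8, 4, 6, 3, 2, 1, 0, 8], [2, 1, 0, 8, 11, 10, 2, 3, 6, 7, 9, 2, 4, 5, 2, 1, 0, 8, 11, 10, 2, 3, 6, 7, 9,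 2, 4, 5, 2, 1, 0, 8, 11, 10, 2, 3, 6, 7, 9, 2, 4, 5, 2, 1, 0, 8, 11, 10, 2, 3, 6, 7, 9, 2, 4, 5, 2, 1, 0, 8, 11, 10, 2, 3, 6, 7, 9, 2, 4, 5, 2, 1, 0, 8, 11, 10, 2, 3, 6, 7, 9, 2, 4, 5, 2, 1, 0, 8, 11, 10, 2, 3, 6, 7, 9, 2, 4, 5, 2, 1, 0, 8, 11, 10, 2, 3, 6, 7, 9, 2, 4, 5, 2, 1, 0, 8, 11, 10, 2, 3, 6, 7, 9, 2, 4, 5, 2, 1, 0, 8, 11, 10, 2, 3, 6, 7, 9, 2, 4, 5, 2, 1, 0, 8, 11, 10, 2, 3, 6, 7, 9, 2, 4, 5, 2, 1, 0, 8, 11, 10, 2, 3, 6, 7, 9, 2, 4, 5, 2, 1, 0, 8, 11, 10, 2, 3, 6, 7, 9, 2, 4, 5, 2, 1, 0, 8, 11, 10, 2, 3, 6, 7, 9, 2, 4, 5, 2, 1, 0, 8, 11, 10, 2, 3, 6, 7, 9, 2, 4, 5, 2, 1, 0, 8, 11, 10, 2, 3, 6, 7, 9, 2, 4, 5, 2, 1, 0, 8, 11, 10, 2, 3, 6, 7, 9, 2, 4, 5]]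

/-- the spider word `(dcbdefdhi)¹⁰`. -/
def spw : List ℕ := [2, 1, 0, 2, 3, 6, 2, 4, 5, 2, 1, 0, 2, 3, 6, 2, 4, 5, 2, 1, 0, 2, 3, 6, 2, 4, 5, 2, 1, 0, 2, 3, 6, 2, 4, 5, 2, 1, 0, 2, 3, 6, 2, 4, 5, 2, 1, 0, 2, 3, 6, 2, 4, 5, 2, 1, 0, 2, 3, 6, 2, 4, 5, 2, 1, 0, 2, 3, 6, 2, 4, 5, 2, 1, 0, 2, 3, 6, 2, 4, 5, 2, 1, 0, 2, 3, 6, 2, 4, 5]

/-- the relator words with the spider word added. -/
def R12 : List (List ℕ) := R12o ++ [spw]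

/-- an element of order 29. -/
def xw : List ℕ := [0, 3, 6, 5, 8, 1, 11, 9, 4, 10, 2, 7, 9, 10, 0, 6, 1, 5, 4, 8, 7, 3, 2, 11, 5, 6, 0, 1, 7, 10, 2, 3, 11, 8, 4, 9, 6, 3, 1, 11, 2, 5, 0, 8, 7, 4]

theorem wordsA : ∀ i (hi : i < (R12 ++ letterWords 11).length),
    unpack (FiZATC.E.D.wlen i) (FiZATC.E.D.wordP i) = ((R12 ++ letterWords 11)[i]).reverse :=
  wordsMatchB_spec0 _ _ _ (by decide +kernel)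

theorem idxA : (para 12 (R12) 11).index = 306936 :=
  lp_index (by decide +kernel) (letterWords 11) FiZATC.E FiZATC.iota (fun _ => rfl) rfl rfl rfl
    (by decide +kernel) wordsA FiZATC.rev_ok FiZATC.hE FiZATC.hA FiZATC.set_ok FiZATC.hrows
    (by norm_num) FiZATC.hT FiZATC.hltr FiZATC.hrelT FiZATC.hsubT FiZATC.hconn

theorem ubA : Finite (LPG 12 R12) ∧ Nat.card (LPG 12 R12) ≤ 306936 * (2 * 4089470473293004800) :=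
  card_le_step (k' := 11) (R' := R11) (by decide +kernel) (subListB_spec (by decide +kernel))
    (by norm_num) idxA ub11.1 ub11.2

end Cfsg.Agent.Helper5.Fi24LP
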