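import Mathlib
import Cfsg.Agent.Helper5.LPS

/-!
# The primitivity check in parts

The check `primOKF` is a conjunction; its parts can be verified by separate declarations, which
bounds the memory used by each.
-/

set_option autoImplicit false

namespace Cfsg.Agent.Helper5.LP

open Cfsg.Agent.Helper5.TC Cfsg.Agent.Helper5.TCI

/-- the part of the primitivity check on the orbits of the point stabiliser. -/
def primHeadF (T : ℕ → ℕ → ℕ) (k N : ℕ) (Hgens : List (List ℕ)) (prim : PrimData) : Bool :=
  Nat.blt 0 N && lettersLtB k Hgens && fixOKF T [0] Hgens &&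
    lettersLtB k (prim.map (fun p => p.2.1)) &&
    (forestRunF T Hgens (primForest prim) 0 true).2 &&
    Nat.beq (forestCount (primForest prim)) N

/-- the part of the primitivity check for one orbit of the point stabiliser. -/
def primEntryF (T : ℕ → ℕ → ℕ) (N : ℕ) (Hgens : List (List ℕ))
    (p : ℕ × List ℕ × List (ℕ × ℕ) × List (ℕ × ℕ)) : Bool :=
  Nat.blt p.1 N && Nat.beq (actLF T p.2.1 0) p.1 &&
    (treeRunF T (Hgens ++ [p.2.1]) 0 true 0 p.2.2.2).2 && Nat.beq (p.2.2.2.length + 1) N

theorem primOKF_of_parts {T : ℕ → ℕ → ℕ} {k N : ℕ} {Hgens : List (List ℕ)} {prim : PrimData}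
    (hh : primHeadF T k N Hgens prim = true)
    (he : ∀ p ∈ prim, primEntryF T N Hgens p = true) : primOKF T k N Hgens prim = true := by
  unfold primOKF
  unfold primHeadF at hh
  rw [hh, Bool.true_and, List.all_eq_true]
  intro p hp
  exact he p hp

theorem primOK_of_parts {T : ℕ → ℕ → ℕ} {k N : ℕ} {Hgens : List (List ℕ)} {prim : PrimData}
    (hh : primHeadF T k N Hgens prim = true)
    (he : ∀ p ∈ prim, primEntryF T N Hgens p = true) : primOK T k N Hgens prim = true :=
  primOK_of_F (primOKF_of_parts hh he)

end Cfsg.Agent.Helper5.LP
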