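import Mathlib
import Cfsg.Agent.Helper5.LPUB
import Cfsg.Agent.Helper5.LPQ
import Cfsg.Agent.Helper5.FiZATCSum

/-! generated: generators of the point stabiliser of the Fi24 group on 306936 points -/

set_option autoImplicit false

namespace Cfsg.Agent.Helper5.Fi24LP

open Cfsg.Agent.Helper5.TC Cfsg.Agent.Helper5.TCI Cfsg.Agent.Helper5.LP

/-- generators of the point stabiliser. -/
def Hgens : List (List ℕ) := [[0], [1], [2], [3], [4], [5], [6], [7], [8], [9], [10]]

end Cfsg.Agent.Helper5.Fi24LP
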