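import Mathlib
import Cfsg.Agent.Helper5.LPS

/-!
# Orbit trees checked in segments

The kernel keeps every intermediate bit mask of an orbit-tree run alive until the declaration is
finished, which costs tens of gigabytes for trees with several hundred thousand steps on masks of
several hundred thousand bits.  Here a tree is cut into segments; the mask reached after each
segment is part of the data, and every segment is checked by a declaration of its own.
-/

set_option autoImplicit false

namespace Cfsg.Agent.Helper5.LP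

open Cfsg.Agent.Helper5.TC Cfsg.Agent.Helper5.TCI

/-- the check of one segment of an orbit tree: starting with the mask `m`, the steps of `tree`
succeed and end with the mask `m'`. -/
def segOKF (T : ℕ → ℕ → ℕ) (gens : List (List ℕ)) (tree : List (ℕ × ℕ)) (m m' : ℕ) : Bool :=
  Prod.rec (motive := fun _ => Bool) (fun r f => Nat.beq r m' && f) (orbFoldF T gens tree m true)

theorem segOKF_spec {T : ℕ → ℕ → ℕ} {gens : List (List ℕ)} {tree : List (ℕ × ℕ)} {m m' : ℕ}
    (h : segOKF T gens tree m m' = true) :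
    tree.foldl (orbStep T gens) (m, true) = (m', true) := by
  unfold segOKF at h
  rw [orbFoldF_eq] at h
  generalize tree.foldl (orbStep T gens) (m, true) = st at h ⊢
  obtain ⟨r, f⟩ := st
  have h' : (Nat.beq r m' && f) = true := h
  rw [Bool.and_eq_true] at h'
  rw [Nat.eq_of_beq_eq_true h'.1, h'.2]

/-- a list of segments, each with the mask reached after it. -/
def SegsOK (T : ℕ → ℕ → ℕ) (gens : List (List ℕ)) : ℕ → List (List (ℕ × ℕ) × ℕ) → Prop
  | _, [] => True
  | m, s :: rest => segOKF T gens s.1 m s.2 = true ∧ SegsOK T gens s.2 rest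

theorem SegsOK_nil {T : ℕ → ℕ → ℕ} {gens : List (List ℕ)} {m : ℕ} : SegsOK T gens m [] := trivial

theorem SegsOK_cons {T : ℕ → ℕ → ℕ} {gens : List (List ℕ)} {m : ℕ} {s : List (ℕ × ℕ) × ℕ}
    {rest : List (List (ℕ × ℕ) × ℕ)} (h1 : segOKF T gens s.1 m s.2 = true)
    (h2 : SegsOK T gens s.2 rest) : SegsOK T gens m (s :: rest) := ⟨h1, h2⟩

/-- the last mask. -/
def lastMask : ℕ → List (List (ℕ × ℕ) × ℕ) → ℕ
  | m, [] => m
  | _, s :: rest => lastMask s.2 rest

/-- the tree made of the segments. -/
def segTree (segs : List (List (ℕ × ℕ) × ℕ)) : List (ℕ × ℕ) := (segs.map Prod.fst).flatten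

theorem segTree_cons (s : List (ℕ × ℕ) × ℕ) (rest : List (List (ℕ × ℕ) × ℕ)) :
    segTree (s :: rest) = s.1 ++ segTree rest := by
  simp [segTree]

theorem segs_foldl {T : ℕ → ℕ → ℕ} {gens : List (List ℕ)} :
    ∀ (segs : List (List (ℕ × ℕ) × ℕ)) (m : ℕ), SegsOK T gens m segs →
      (segTree segs).foldl (orbStep T gens) (m, true) = (lastMask m segs, true)
  | [], _, _ => rfl
  | s :: rest, m, h => by
    obtain ⟨h1, h2⟩ := h
    rw [segTree_cons, List.foldl_append, segOKF_spec h1, segs_foldl rest s.2 h2]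
    rfl

theorem treeRun_of_segs {T : ℕ → ℕ → ℕ} {gens : List (List ℕ)} {m b m1 : ℕ}
    {segs : List (List (ℕ × ℕ) × ℕ)} (hb : m.testBit b = false) (hm : m ||| (1 <<< b) = m1)
    (hs : SegsOK T gens m1 segs) :
    treeRun T gens (m, true) b (segTree segs) = (lastMask m1 segs, true) := by
  have h0 : ((m, true).1 ||| (1 <<< b), (m, true).2 && !((m, true).1.testBit b)) = (m1, true) := by
    show (m ||| (1 <<< b), true && !(m.testBit b)) = (m1, true)
    rw [hb, hm]
    rfl
  unfold treeRun
  rw [h0]
  exact segs_foldl segs m1 hs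

theorem forestRun_cons_of {T : ℕ → ℕ → ℕ} {gens : List (List ℕ)} {st st' : ℕ × Bool}
    {bt : ℕ × List (ℕ × ℕ)} {f : List (ℕ × List (ℕ × ℕ))}
    (h : treeRun T gens st bt.1 bt.2 = st') :
    forestRun T gens st (bt :: f) = forestRun T gens st' f := by
  rw [forestRun, h]

theorem chainOK_of_F' {T : ℕ → ℕ → ℕ} {k N : ℕ} {fixed : List ℕ} {levels : List Level}
    (h : chainOKF T k N fixed levels = true) : chainOK T k N fixed levels = true := by
  rwa [chainOKF_eq] at h

theorem chainOK_cons_of {T : ℕ → ℕ → ℕ} {k N : ℕ} {fixed : List ℕ} {lv : Level}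
    {rest : List Level}
    (h1 : (Nat.blt lv.1 N && lettersLtB k lv.2.1 && fixOKF T fixed lv.2.1) = true)
    (h2 : (treeRun T lv.2.1 (0, true) lv.1 lv.2.2).2 = true)
    (h3 : chainOK T k N (lv.1 :: fixed) rest = true) :
    chainOK T k N fixed (lv :: rest) = true := by
  rw [fixOKF_eq] at h1
  rw [chainOK, h1, h2, h3]
  rfl

theorem primOK_of_segs {T : ℕ → ℕ → ℕ} {k N : ℕ} {Hgens : List (List ℕ)} {prim : PrimData}
    (h1 : (Nat.blt 0 N && lettersLtB k Hgens && fixOKF T [0] Hgens &&
      lettersLtB k (prim.map (fun p => p.2.1))) = true)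
    (h2 : (forestRun T Hgens (0, true) (primForest prim)).2 = true)
    (h3 : Nat.beq (forestCount (primForest prim)) N = true)
    (h4 : ∀ p ∈ prim, (Nat.blt p.1 N && Nat.beq (actLF T p.2.1 0) p.1) = true ∧
      (treeRun T (Hgens ++ [p.2.1]) (0, true) 0 p.2.2.2).2 = true ∧
      Nat.beq (p.2.2.2.length + 1) N = true) :
    primOK T k N Hgens prim = true := by
  rw [fixOKF_eq] at h1
  unfold primOK
  rw [h1, h2, h3]
  simp only [Bool.true_and, List.all_eq_true]
  intro p hp
  obtain ⟨ha, hb, hc⟩ := h4 p hp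
  rw [actLF_eq] at ha
  rw [ha, hb, hc]
  rfl

/-! The following checks are wrapped into definitions of their own: a statement with `Nat.beq` at
its head invites the elaborator to evaluate the arguments when it unifies the statement with
itself. -/

/-- the cheap part of the primitivity check. -/
def primHeadSF (T : ℕ → ℕ → ℕ) (k N : ℕ) (Hgens : List (List ℕ)) (prim : PrimData) : Bool :=
  Nat.blt 0 N && lettersLtB k Hgens && fixOKF T [0] Hgens &&
    lettersLtB k (prim.map (fun p => p.2.1))

/-- the orbits of the point stabiliser have `N` points altogether. -/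
def primCountF (prim : PrimData) (N : ℕ) : Bool := Nat.beq (forestCount (primForest prim)) N

/-- the cheap part of the check of one entry of the primitivity data. -/
def primEntrySF (T : ℕ → ℕ → ℕ) (N : ℕ) (p : ℕ × List ℕ × List (ℕ × ℕ) × List (ℕ × ℕ)) : Bool :=
  Nat.blt p.1 N && Nat.beq (actLF T p.2.1 0) p.1 && Nat.beq (p.2.2.2.length + 1) N

theorem primOK_of_segs' {T : ℕ → ℕ → ℕ} {k N : ℕ} {Hgens : List (List ℕ)} {prim : PrimData}
    (h1 : primHeadSF T k N Hgens prim = true)
    (h2 : (forestRun T Hgens (0, true) (primForest prim)).2 = true)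
    (h3 : primCountF prim N = true)
    (h4 : ∀ p ∈ prim, primEntrySF T N p = true ∧
      (treeRun T (Hgens ++ [p.2.1]) (0, true) 0 p.2.2.2).2 = true) :
    primOK T k N Hgens prim = true := by
  refine primOK_of_segs h1 h2 h3 (fun p hp => ?_)
  obtain ⟨ha, hb⟩ := h4 p hp
  unfold primEntrySF at ha
  rw [Bool.and_eq_true] at ha
  exact ⟨ha.1, hb, ha.2⟩

end Cfsg.Agent.Helper5.LP
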