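import Mathlib
import Cfsg.Agent.Helper5.LPUB
import Cfsg.Agent.Helper5.LPSeg
import Cfsg.Agent.Helper5.FiZATCSum
import Cfsg.Agent.Helper5.Fi24LPCG
import Cfsg.Agent.Helper5.Fi24LPS2
import Cfsg.Agent.Helper5.Fi24LPS3
import Cfsg.Agent.Helper5.Fi24LPS4

/-! generated: primitivity of the action of the Fi24 group on 306936 points (orbit trees checked in segments) -/

set_option autoImplicit false
set_option Elab.async false

namespace Cfsg.Agent.Helper5.Fi24LP

open Cfsg.Agent.Helper5.TC Cfsg.Agent.Helper5.TCI Cfsg.Agent.Helper5.LP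

/-- primitivity data for one orbit of the point stabiliser. -/
def primE0 : ℕ × List ℕ × List (ℕ × ℕ) × List (ℕ × ℕ) := (1, [11], segTree pa0_segs, segTree pb0_segs)

/-- primitivity data for one orbit of the point stabiliser. -/
def primE1 : ℕ × List ℕ × List (ℕ × ℕ) × List (ℕ × ℕ) := (8, [11, 10, 8, 11], segTree pa1_segs, segTree pb1_segs)

/-- the primitivity data. -/
def prim : PrimData := [primE0, primE1]

theorem forest_ok : (forestRun FiZATC.ctF Hgens (0, true) (primForest prim)).2 = true := by
  have e0 : treeRun FiZATC.ctF Hgens (0, true) 0 [] = (1, true) := by decide +kernel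
  show (forestRun FiZATC.ctF Hgens (0, true)
    [(0, []), (1, segTree pa0_segs), (8, segTree pa1_segs)]).2 = true
  rw [forestRun_cons_of (bt := (0, [])) e0, forestRun_cons_of (bt := (1, segTree pa0_segs)) pa0_tree,
    forestRun_cons_of (bt := (8, segTree pa1_segs)) pa1_tree]
  rfl

set_option maxRecDepth 1000000 in
theorem prim_h1 : primHeadSF FiZATC.ctF 12 306936 Hgens prim = true := by decide +kernel

set_option maxRecDepth 1000000 in
theorem prim_h3 : primCountF prim 306936 = true := by decide +kernel

set_option maxRecDepth 1000000 in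
theorem prim_e0 : primEntrySF FiZATC.ctF 306936 primE0 = true := by decide +kernel

set_option maxRecDepth 1000000 in
theorem prim_e1 : primEntrySF FiZATC.ctF 306936 primE1 = true := by decide +kernel

theorem prim_ok : primOK FiZATC.ctF 12 306936 Hgens prim = true := by
  refine primOK_of_segs' (T := FiZATC.ctF) (k := 12) (N := 306936) (Hgens := Hgens) (prim := prim)
    prim_h1 forest_ok prim_h3 ?_
  intro p hp
  simp only [prim, List.mem_cons, List.not_mem_nil, or_false] at hp
  rcases hp with rfl | rfl
  · exact ⟨prim_e0, pb0_tree⟩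
  · exact ⟨prim_e1, pb1_tree⟩

end Cfsg.Agent.Helper5.Fi24LP
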