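import Mathlib
import Cfsg.Agent.Helper5.Fi24LPP

/-! generated check: the packed permutation agrees with the word of order 29 (chunks 0-17 of 72) -/

set_option autoImplicit false
set_option Elab.async false

namespace Cfsg.Agent.Helper5.Fi24LP

open Cfsg.Agent.Helper5.TC Cfsg.Agent.Helper5.TCI Cfsg.Agent.Helper5.LP

set_option maxRecDepth 1000000 in
theorem px_agree_c0 : agreeRangeF FiZATC.ctF xw pxF 4263 (4263 * 0) = true := by decide +kernel

set_option maxRecDepth 1000000 in
theorem px_agree_c1 : agreeRangeF FiZATC.ctF xw pxF 4263 (4263 * 1) = true := by decide +kernel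

set_option maxRecDepth 1000000 in
theorem px_agree_c2 : agreeRangeF FiZATC.ctF xw pxF 4263 (4263 * 2) = true := by decide +kernel

set_option maxRecDepth 1000000 in
theorem px_agree_c3 : agreeRangeF FiZATC.ctF xw pxF 4263 (4263 * 3) = true := by decide +kernel

set_option maxRecDepth 1000000 in
theorem px_agree_c4 : agreeRangeF FiZATC.ctF xw pxF 4263 (4263 * 4) = true := by decide +kernel

set_option maxRecDepth 1000000 in
theorem px_agree_c5 : agreeRangeF FiZATC.ctF xw pxF 4263 (4263 * 5) = true := by decide +kernel

set_option maxRecDepth 1000000 in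
theorem px_agree_c6 : agreeRangeF FiZATC.ctF xw pxF 4263 (4263 * 6) = true := by decide +kernel

set_option maxRecDepth 1000000 in
theorem px_agree_c7 : agreeRangeF FiZATC.ctF xw pxF 4263 (4263 * 7) = true := by decide +kernel

set_option maxRecDepth 1000000 in
theorem px_agree_c8 : agreeRangeF FiZATC.ctF xw pxF 4263 (4263 * 8) = true := by decide +kernel

set_option maxRecDepth 1000000 in
theorem px_agree_c9 : agreeRangeF FiZATC.ctF xw pxF 4263 (4263 * 9) = true := by decide +kernel

set_option maxRecDepth 1000000 in
theorem px_agree_c10 : agreeRangeF FiZATC.ctF xw pxF 4263 (4263 * 10) = true := by decide +kernel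

set_option maxRecDepth 1000000 in
theorem px_agree_c11 : agreeRangeF FiZATC.ctF xw pxF 4263 (4263 * 11) = true := by decide +kernel

set_option maxRecDepth 1000000 in
theorem px_agree_c12 : agreeRangeF FiZATC.ctF xw pxF 4263 (4263 * 12) = true := by decide +kernel

set_option maxRecDepth 1000000 in
theorem px_agree_c13 : agreeRangeF FiZATC.ctF xw pxF 4263 (4263 * 13) = true := by decide +kernel

set_option maxRecDepth 1000000 in
theorem px_agree_c14 : agreeRangeF FiZATC.ctF xw pxF 4263 (4263 * 14) = true := by decide +kernel

set_option maxRecDepth 1000000 in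
theorem px_agree_c15 : agreeRangeF FiZATC.ctF xw pxF 4263 (4263 * 15) = true := by decide +kernel

set_option maxRecDepth 1000000 in
theorem px_agree_c16 : agreeRangeF FiZATC.ctF xw pxF 4263 (4263 * 16) = true := by decide +kernel

set_option maxRecDepth 1000000 in
theorem px_agree_c17 : agreeRangeF FiZATC.ctF xw pxF 4263 (4263 * 17) = true := by decide +kernel

end Cfsg.Agent.Helper5.Fi24LP
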