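import Mathlib
import Cfsg.Agent.Helper5.Fi24LPP

/-! generated check: the 29th power of the packed permutation is the identity (chunks 0-11 of 24) -/

set_option autoImplicit false
set_option Elab.async false

namespace Cfsg.Agent.Helper5.Fi24LP

open Cfsg.Agent.Helper5.TC Cfsg.Agent.Helper5.TCI Cfsg.Agent.Helper5.LP

set_option maxRecDepth 1000000 in
theorem px_pow_c0 : iterFixRangeF pxF 29 12789 (12789 * 0) = true := by decide +kernel

set_option maxRecDepth 1000000 in
theorem px_pow_c1 : iterFixRangeF pxF 29 12789 (12789 * 1) = true := by decide +kernel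

set_option maxRecDepth 1000000 in
theorem px_pow_c2 : iterFixRangeF pxF 29 12789 (12789 * 2) = true := by decide +kernel

set_option maxRecDepth 1000000 in
theorem px_pow_c3 : iterFixRangeF pxF 29 12789 (12789 * 3) = true := by decide +kernel

set_option maxRecDepth 1000000 in
theorem px_pow_c4 : iterFixRangeF pxF 29 12789 (12789 * 4) = true := by decide +kernel

set_option maxRecDepth 1000000 in
theorem px_pow_c5 : iterFixRangeF pxF 29 12789 (12789 * 5) = true := by decide +kernel

set_option maxRecDepth 1000000 in
theorem px_pow_c6 : iterFixRangeF pxF 29 12789 (12789 * 6) = true := by decide +kernel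

set_option maxRecDepth 1000000 in
theorem px_pow_c7 : iterFixRangeF pxF 29 12789 (12789 * 7) = true := by decide +kernel

set_option maxRecDepth 1000000 in
theorem px_pow_c8 : iterFixRangeF pxF 29 12789 (12789 * 8) = true := by decide +kernel

set_option maxRecDepth 1000000 in
theorem px_pow_c9 : iterFixRangeF pxF 29 12789 (12789 * 9) = true := by decide +kernel

set_option maxRecDepth 1000000 in
theorem px_pow_c10 : iterFixRangeF pxF 29 12789 (12789 * 10) = true := by decide +kernel

set_option maxRecDepth 1000000 in
theorem px_pow_c11 : iterFixRangeF pxF 29 12789 (12789 * 11) = true := by decide +kernel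

end Cfsg.Agent.Helper5.Fi24LP
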