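import Mathlib
import Cfsg.Agent.Helper5.Fi24LPP

/-! generated check: the packed permutation agrees with the word of order 29 (chunks 18-35 of 72) -/

set_option autoImplicit false
set_option Elab.async false

namespace Cfsg.Agent.Helper5.Fi24LP

open Cfsg.Agent.Helper5.TC Cfsg.Agent.Helper5.TCI Cfsg.Agent.Helper5.LP

set_option maxRecDepth 1000000 in
theorem px_agree_c18 : agreeRangeF FiZATC.ctF xw pxF 4263 (4263 * 18) = true := by decide +kernel

set_option maxRecDepth 1000000 in
theorem px_agree_c19 : agreeRangeF FiZATC.ctF xw pxF 4263 (4263 * 19) = true := by decide +kernel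

set_option maxRecDepth 1000000 in
theorem px_agree_c20 : agreeRangeF FiZATC.ctF xw pxF 4263 (4263 * 20) = true := by decide +kernel

set_option maxRecDepth 1000000 in
theorem px_agree_c21 : agreeRangeF FiZATC.ctF xw pxF 4263 (4263 * 21) = true := by decide +kernel

set_option maxRecDepth 1000000 in
theorem px_agree_c22 : agreeRangeF FiZATC.ctF xw pxF 4263 (4263 * 22) = true := by decide +kernel

set_option maxRecDepth 1000000 in
theorem px_agree_c23 : agreeRangeF FiZATC.ctF xw pxF 4263 (4263 * 23) = true := by decide +kernel

set_option maxRecDepth 1000000 in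
theorem px_agree_c24 : agreeRangeF FiZATC.ctF xw pxF 4263 (4263 * 24) = true := by decide +kernel

set_option maxRecDepth 1000000 in
theorem px_agree_c25 : agreeRangeF FiZATC.ctF xw pxF 4263 (4263 * 25) = true := by decide +kernel

set_option maxRecDepth 1000000 in
theorem px_agree_c26 : agreeRangeF FiZATC.ctF xw pxF 4263 (4263 * 26) = true := by decide +kernel

set_option maxRecDepth 1000000 in
theorem px_agree_c27 : agreeRangeF FiZATC.ctF xw pxF 4263 (4263 * 27) = true := by decide +kernel

set_option maxRecDepth 1000000 in
theorem px_agree_c28 : agreeRangeF FiZATC.ctF xw pxF 4263 (4263 * 28) = true := by decide +kernel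

set_option maxRecDepth 1000000 in
theorem px_agree_c29 : agreeRangeF FiZATC.ctF xw pxF 4263 (4263 * 29) = true := by decide +kernel

set_option maxRecDepth 1000000 in
theorem px_agree_c30 : agreeRangeF FiZATC.ctF xw pxF 4263 (4263 * 30) = true := by decide +kernel

set_option maxRecDepth 1000000 in
theorem px_agree_c31 : agreeRangeF FiZATC.ctF xw pxF 4263 (4263 * 31) = true := by decide +kernel

set_option maxRecDepth 1000000 in
theorem px_agree_c32 : agreeRangeF FiZATC.ctF xw pxF 4263 (4263 * 32) = true := by decide +kernel

set_option maxRecDepth 1000000 in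
theorem px_agree_c33 : agreeRangeF FiZATC.ctF xw pxF 4263 (4263 * 33) = true := by decide +kernel

set_option maxRecDepth 1000000 in
theorem px_agree_c34 : agreeRangeF FiZATC.ctF xw pxF 4263 (4263 * 34) = true := by decide +kernel

set_option maxRecDepth 1000000 in
theorem px_agree_c35 : agreeRangeF FiZATC.ctF xw pxF 4263 (4263 * 35) = true := by decide +kernel

end Cfsg.Agent.Helper5.Fi24LP
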