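import Mathlib
import Cfsg.Agent.Helper5.Fi24LPP

/-! generated check: the 29th power of the packed permutation is the identity (chunks 12-23 of 24) -/

set_option autoImplicit false
set_option Elab.async false

namespace Cfsg.Agent.Helper5.Fi24LP

open Cfsg.Agent.Helper5.TC Cfsg.Agent.Helper5.TCI Cfsg.Agent.Helper5.LP

set_option maxRecDepth 1000000 in
theorem px_pow_c12 : iterFixRangeF pxF 29 12789 (12789 * 12) = true := by decide +kernel

set_option maxRecDepth 1000000 in
theorem px_pow_c13 : iterFixRangeF pxF 29 12789 (12789 * 13) = true := by decide +kernel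

set_option maxRecDepth 1000000 in
theorem px_pow_c14 : iterFixRangeF pxF 29 12789 (12789 * 14) = true := by decide +kernel

set_option maxRecDepth 1000000 in
theorem px_pow_c15 : iterFixRangeF pxF 29 12789 (12789 * 15) = true := by decide +kernel

set_option maxRecDepth 1000000 in
theorem px_pow_c16 : iterFixRangeF pxF 29 12789 (12789 * 16) = true := by decide +kernel

set_option maxRecDepth 1000000 in
theorem px_pow_c17 : iterFixRangeF pxF 29 12789 (12789 * 17) = true := by decide +kernel

set_option maxRecDepth 1000000 in
theorem px_pow_c18 : iterFixRangeF pxF 29 12789 (12789 * 18) = true := by decide +kernel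

set_option maxRecDepth 1000000 in
theorem px_pow_c19 : iterFixRangeF pxF 29 12789 (12789 * 19) = true := by decide +kernel

set_option maxRecDepth 1000000 in
theorem px_pow_c20 : iterFixRangeF pxF 29 12789 (12789 * 20) = true := by decide +kernel

set_option maxRecDepth 1000000 in
theorem px_pow_c21 : iterFixRangeF pxF 29 12789 (12789 * 21) = true := by decide +kernel

set_option maxRecDepth 1000000 in
theorem px_pow_c22 : iterFixRangeF pxF 29 12789 (12789 * 22) = true := by decide +kernel

set_option maxRecDepth 1000000 in
theorem px_pow_c23 : iterFixRangeF pxF 29 12789 (12789 * 23) = true := by decide +kernel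

end Cfsg.Agent.Helper5.Fi24LP
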