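import Mathlib
import Cfsg.Agent.Helper5.Fi24LPP

/-! generated check: the packed permutation agrees with the word of order 29 (chunks 36-53 of 72) -/

set_option autoImplicit false
set_option Elab.async false

namespace Cfsg.Agent.Helper5.Fi24LP

open Cfsg.Agent.Helper5.TC Cfsg.Agent.Helper5.TCI Cfsg.Agent.Helper5.LP

set_option maxRecDepth 1000000 in
theorem px_agree_c36 : agreeRangeF FiZATC.ctF xw pxF 4263 (4263 * 36) = true := by decide +kernel

set_option maxRecDepth 1000000 in
theorem px_agree_c37 : agreeRangeF FiZATC.ctF xw pxF 4263 (4263 * 37) = true := by decide +kernel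

set_option maxRecDepth 1000000 in
theorem px_agree_c38 : agreeRangeF FiZATC.ctF xw pxF 4263 (4263 * 38) = true := by decide +kernel

set_option maxRecDepth 1000000 in
theorem px_agree_c39 : agreeRangeF FiZATC.ctF xw pxF 4263 (4263 * 39) = true := by decide +kernel

set_option maxRecDepth 1000000 in
theorem px_agree_c40 : agreeRangeF FiZATC.ctF xw pxF 4263 (4263 * 40) = true := by decide +kernel

set_option maxRecDepth 1000000 in
theorem px_agree_c41 : agreeRangeF FiZATC.ctF xw pxF 4263 (4263 * 41) = true := by decide +kernel

set_option maxRecDepth 1000000 in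
theorem px_agree_c42 : agreeRangeF FiZATC.ctF xw pxF 4263 (4263 * 42) = true := by decide +kernel

set_option maxRecDepth 1000000 in
theorem px_agree_c43 : agreeRangeF FiZATC.ctF xw pxF 4263 (4263 * 43) = true := by decide +kernel

set_option maxRecDepth 1000000 in
theorem px_agree_c44 : agreeRangeF FiZATC.ctF xw pxF 4263 (4263 * 44) = true := by decide +kernel

set_option maxRecDepth 1000000 in
theorem px_agree_c45 : agreeRangeF FiZATC.ctF xw pxF 4263 (4263 * 45) = true := by decide +kernel

set_option maxRecDepth 1000000 in
theorem px_agree_c46 : agreeRangeF FiZATC.ctF xw pxF 4263 (4263 * 46) = true := by decide +kernel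

set_option maxRecDepth 1000000 in
theorem px_agree_c47 : agreeRangeF FiZATC.ctF xw pxF 4263 (4263 * 47) = true := by decide +kernel

set_option maxRecDepth 1000000 in
theorem px_agree_c48 : agreeRangeF FiZATC.ctF xw pxF 4263 (4263 * 48) = true := by decide +kernel

set_option maxRecDepth 1000000 in
theorem px_agree_c49 : agreeRangeF FiZATC.ctF xw pxF 4263 (4263 * 49) = true := by decide +kernel

set_option maxRecDepth 1000000 in
theorem px_agree_c50 : agreeRangeF FiZATC.ctF xw pxF 4263 (4263 * 50) = true := by decide +kernel

set_option maxRecDepth 1000000 in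
theorem px_agree_c51 : agreeRangeF FiZATC.ctF xw pxF 4263 (4263 * 51) = true := by decide +kernel

set_option maxRecDepth 1000000 in
theorem px_agree_c52 : agreeRangeF FiZATC.ctF xw pxF 4263 (4263 * 52) = true := by decide +kernel

set_option maxRecDepth 1000000 in
theorem px_agree_c53 : agreeRangeF FiZATC.ctF xw pxF 4263 (4263 * 53) = true := by decide +kernel

end Cfsg.Agent.Helper5.Fi24LP
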