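import Mathlib
import Cfsg.Agent.Helper5.Fi24LPP

/-! generated check: the packed permutation agrees with the word of order 29 (chunks 54-71 of 72) -/

set_option autoImplicit false
set_option Elab.async false

namespace Cfsg.Agent.Helper5.Fi24LP

open Cfsg.Agent.Helper5.TC Cfsg.Agent.Helper5.TCI Cfsg.Agent.Helper5.LP

set_option maxRecDepth 1000000 in
theorem px_agree_c54 : agreeRangeF FiZATC.ctF xw pxF 4263 (4263 * 54) = true := by decide +kernel

set_option maxRecDepth 1000000 in
theorem px_agree_c55 : agreeRangeF FiZATC.ctF xw pxF 4263 (4263 * 55) = true := by decide +kernel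

set_option maxRecDepth 1000000 in
theorem px_agree_c56 : agreeRangeF FiZATC.ctF xw pxF 4263 (4263 * 56) = true := by decide +kernel

set_option maxRecDepth 1000000 in
theorem px_agree_c57 : agreeRangeF FiZATC.ctF xw pxF 4263 (4263 * 57) = true := by decide +kernel

set_option maxRecDepth 1000000 in
theorem px_agree_c58 : agreeRangeF FiZATC.ctF xw pxF 4263 (4263 * 58) = true := by decide +kernel

set_option maxRecDepth 1000000 in
theorem px_agree_c59 : agreeRangeF FiZATC.ctF xw pxF 4263 (4263 * 59) = true := by decide +kernel

set_option maxRecDepth 1000000 in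
theorem px_agree_c60 : agreeRangeF FiZATC.ctF xw pxF 4263 (4263 * 60) = true := by decide +kernel

set_option maxRecDepth 1000000 in
theorem px_agree_c61 : agreeRangeF FiZATC.ctF xw pxF 4263 (4263 * 61) = true := by decide +kernel

set_option maxRecDepth 1000000 in
theorem px_agree_c62 : agreeRangeF FiZATC.ctF xw pxF 4263 (4263 * 62) = true := by decide +kernel

set_option maxRecDepth 1000000 in
theorem px_agree_c63 : agreeRangeF FiZATC.ctF xw pxF 4263 (4263 * 63) = true := by decide +kernel

set_option maxRecDepth 1000000 in
theorem px_agree_c64 : agreeRangeF FiZATC.ctF xw pxF 4263 (4263 * 64) = true := by decide +kernel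

set_option maxRecDepth 1000000 in
theorem px_agree_c65 : agreeRangeF FiZATC.ctF xw pxF 4263 (4263 * 65) = true := by decide +kernel

set_option maxRecDepth 1000000 in
theorem px_agree_c66 : agreeRangeF FiZATC.ctF xw pxF 4263 (4263 * 66) = true := by decide +kernel

set_option maxRecDepth 1000000 in
theorem px_agree_c67 : agreeRangeF FiZATC.ctF xw pxF 4263 (4263 * 67) = true := by decide +kernel

set_option maxRecDepth 1000000 in
theorem px_agree_c68 : agreeRangeF FiZATC.ctF xw pxF 4263 (4263 * 68) = true := by decide +kernel

set_option maxRecDepth 1000000 in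
theorem px_agree_c69 : agreeRangeF FiZATC.ctF xw pxF 4263 (4263 * 69) = true := by decide +kernel

set_option maxRecDepth 1000000 in
theorem px_agree_c70 : agreeRangeF FiZATC.ctF xw pxF 4263 (4263 * 70) = true := by decide +kernel

set_option maxRecDepth 1000000 in
theorem px_agree_c71 : agreeRangeF FiZATC.ctF xw pxF 4263 (4263 * 71) = true := by decide +kernel

end Cfsg.Agent.Helper5.Fi24LP
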