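import Mathlib
import Cfsg.Agent.Helper5.Fi24LPP1
import Cfsg.Agent.Helper5.Fi24LPP2
import Cfsg.Agent.Helper5.Fi24LPP3
import Cfsg.Agent.Helper5.Fi24LPP4
import Cfsg.Agent.Helper5.Fi24LPP6
import Cfsg.Agent.Helper5.Fi24LPP7

/-! generated: the chunks of the two checks of the packed permutation of the word of order 29, collected -/

set_option autoImplicit false
set_option Elab.async false

namespace Cfsg.Agent.Helper5.Fi24LP

open Cfsg.Agent.Helper5.TC Cfsg.Agent.Helper5.TCI Cfsg.Agent.Helper5.LP

theorem px_agree_all : ∀ i, i < 72 → agreeRangeF FiZATC.ctF xw pxF 4263 (4263 * i) = true := by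
  intro i hi
  interval_cases i
  exacts [px_agree_c0, px_agree_c1, px_agree_c2, px_agree_c3, px_agree_c4, px_agree_c5, px_agree_c6, px_agree_c7, px_agree_c8, px_agree_c9, px_agree_c10, px_agree_c11, px_agree_c12, px_agree_c13, px_agree_c14, px_agree_c15, px_agree_c16, px_agree_c17, px_agree_c18, px_agree_c19, px_agree_c20, px_agree_c21, px_agree_c22, px_agree_c23, px_agree_c24, px_agree_c25, px_agree_c26, px_agree_c27, px_agree_c28, px_agree_c29, px_agree_c30, px_agree_c31, px_agree_c32, px_agree_c33, px_agree_c34, px_agree_c35, px_agree_c36, px_agree_c37, px_agree_c38, px_agree_c39, px_agree_c40, px_agree_c41, px_agree_c42, px_agree_c43, px_agree_c44, px_agree_c45, px_agree_c46, px_agree_c47, px_agree_c48, px_agree_c49, px_agree_c50, px_agree_c51, px_agree_c52, px_agree_c53, px_agree_c54, px_agree_c55, px_agree_c56, px_agree_c57, px_agree_c58, px_agree_c59, px_agree_c60, px_agree_c61, px_agree_c62, px_agree_c63, px_agree_c64, px_agree_c65, px_agree_c66, px_agree_c67, px_agree_c68, px_agree_c69,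 px_agree_c70, px_agree_c71]

theorem px_pow_all : ∀ i, i < 24 → iterFixRangeF pxF 29 12789 (12789 * i) = true := by
  intro i hi
  interval_cases i
  exacts [px_pow_c0, px_pow_c1, px_pow_c2, px_pow_c3, px_pow_c4, px_pow_c5, px_pow_c6, px_pow_c7, px_pow_c8, px_pow_c9, px_pow_c10, px_pow_c11, px_pow_c12, px_pow_c13, px_pow_c14, px_pow_c15, px_pow_c16, px_pow_c17, px_pow_c18, px_pow_c19, px_pow_c20, px_pow_c21, px_pow_c22, px_pow_c23]

end Cfsg.Agent.Helper5.Fi24LP
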