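import Mathlib
import Cfsg.Agent.Helper5.LPX
import Cfsg.Agent.Helper5.LPV

/-!
# Powers of a word through a packed table, checked in chunks

The two checks of `LPX` (the table agrees with the word; the `p`-th iterate of the table is the
identity) run over all points.  The kernel keeps the intermediate terms of a declaration alive until
it is finished, so for several hundred thousand points the range is cut into chunks of equal
length, each checked by a declaration of its own.
-/

set_option autoImplicit false

namespace Cfsg.Agent.Helper5.LP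

open Cfsg.Agent.Helper5.TC Cfsg.Agent.Helper5.TCI

theorem forall_of_chunks (P : ℕ → Prop) (c n : ℕ)
    (h : ∀ i, i < n → ∀ v, c * i ≤ v → v < c * i + c → P v) : ∀ v, v < c * n → P v := by
  intro v hv
  have hc : 0 < c := by
    rcases Nat.eq_zero_or_pos c with rfl | h0
    · simp at hv
    · exact h0
  refine h (v / c) (Nat.div_lt_of_lt_mul hv) v (Nat.mul_div_le v c) ?_
  have := Nat.lt_mul_div_succ v hc
  rw [Nat.mul_succ] at this
  exact this

/-- **The power of a word through its table, with the two checks cut into `n₁` chunks of `c₁`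
points and `n₂` chunks of `c₂` points.** -/
theorem fixRange_pow_of_chunks {k N : ℕ} {T : ℕ → ℕ → ℕ} (hT : TableOK k N T) (l : List ℕ)
    (hl : ∀ c ∈ l, c < k) (px : ℕ → ℕ) (p c₁ n₁ c₂ n₂ : ℕ) (hN₁ : c₁ * n₁ = N) (hN₂ : c₂ * n₂ = N)
    (h1 : ∀ i, i < n₁ → agreeRangeF T l px c₁ (c₁ * i) = true)
    (h2 : ∀ i, i < n₂ → iterFixRangeF px p c₂ (c₂ * i) = true) :
    fixRange T (List.replicate p l).flatten N 0 = true := by
  have hag : ∀ v, v < N → px v = actL T l v := by
    rw [← hN₁]
    exact forall_of_chunks (fun v => px v = actL T l v) c₁ n₁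
      (fun i hi v hv1 hv2 => agreeRangeF_spec T l px c₁ (c₁ * i) (h1 i hi) v hv1 hv2)
  have hfix : ∀ v, v < N → iterF px p v = v := by
    rw [← hN₂]
    exact forall_of_chunks (fun v => iterF px p v = v) c₂ n₂
      (fun i hi v hv1 hv2 => iterFixRangeF_spec px p c₂ (c₂ * i) (h2 i hi) v hv1 hv2)
  have hit : ∀ (j : ℕ) (v : ℕ), v < N →
      iterF px j v = actL T (List.replicate j l).flatten v := by
    intro j
    induction j with
    | zero => intro v _; rfl
    | succ j ih =>
      intro v hv
      rw [iterF, forceL_eq, hag v hv, ih _ (actL_lt hT l hl v hv), List.replicate_succ',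
        List.flatten_append, actL_append]
      simp
  apply fixRange_of_forall
  intro v _ hv
  have hv' : v < N := by omega
  rw [← hit p v hv']
  exact hfix v hv'

/-- a word fixes all points below `c * n`, checked in `n` chunks of `c` points. -/
theorem fixRange_of_chunks (T : ℕ → ℕ → ℕ) (l : List ℕ) (c n : ℕ)
    (h : ∀ i, i < n → fixRangeF T l c (c * i) = true) : fixRange T l (c * n) 0 = true := by
  apply fixRange_of_forall
  intro v _ hv
  have hv' : v < c * n := by omega
  exact forall_of_chunks (fun v => actL T l v = v) c n
    (fun i hi v h1 h2 => fixRange_spec T l c (c * i) (fixRange_of_F (h i hi)) v h1 h2) v hv'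

end Cfsg.Agent.Helper5.LP
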