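import Mathlib
import Cfsg.Agent.Helper5.Fi24LPA
import Cfsg.Agent.Helper5.Fi24LPB
import Cfsg.Agent.Helper5.Fi24LPC
import Cfsg.Agent.Helper5.Fi24LPP5
import Cfsg.Agent.Helper5.LPX2
import Cfsg.Agent.Helper5.Fi23LPD
import Cfsg.Agent.Helper5.LPX
import Cfsg.Agent.Helper5.LPY

/-!
# The list-presented group `Fi₂₄`: order, and simplicity of the commutator subgroup

The group `LPG 12 R12` (letters `b, c, d, e, h, i, f, g, a, j, l, k`) has order
`2510411418381323442585600`; it acts faithfully and primitively on the `306936` cosets of the subgroup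
generated by the first eleven letters.  The kernel of the sign homomorphism is simple (criterion of
`LPY` with the prime `29`) and equals the commutator subgroup.
-/

set_option autoImplicit false

namespace Cfsg.Agent.Helper5.Fi24LP

open Cfsg.Agent.Helper5.TC Cfsg.Agent.Helper5.TCI Cfsg.Agent.Helper5.LP

theorem lettersA : LettersLt 12 R12 := by decide +kernel

theorem tableA : TableOK 12 306936 FiZATC.ctF :=
  tableOK_of_cert FiZATC.iota (fun _ => rfl) rfl FiZATC.hT

theorem relsA : RelsFix R12 306936 FiZATC.ctF :=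
  relsFix_of_cert (letterWords 11) rfl wordsA FiZATC.hrelT

theorem xw_lt : ∀ c ∈ xw, c < 12 := by decide

theorem xw_pow : fixRange FiZATC.ctF (List.replicate 29 xw).flatten 306936 0 = true :=
  fixRange_pow_of_chunks tableA xw xw_lt pxF 29 4263 72 12789 24 (by norm_num) (by norm_num)
    px_agree_all px_pow_all

theorem xw_move : actL FiZATC.ctF xw 0 ≠ 0 := by decide +kernel

/-- the permutation representation on the cosets. -/
noncomputable def rho : LPG 12 R12 →* Equiv.Perm (Fin 306936) := tableHom lettersA tableA relsA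

theorem actsA : ActsOn rho (ev 12 R12) 12 FiZATC.ctF :=
  ⟨fun l hl v => tableHom_ev lettersA tableA relsA l hl v⟩

instance finG : Finite (LPG 12 R12) := ubA.1

theorem cardG : Nat.card (LPG 12 R12) = 2510411418381323442585600 := by
  have hlow := card_ge_of_chain actsA levels chain_ok
  rw [chain_prod] at hlow
  exact le_antisymm (le_trans ubA.2 (by norm_num)) hlow

theorem injA : Function.Injective rho :=
  injective_of_chain actsA levels chain_ok (by rw [chain_prod]; exact le_trans ubA.2 (by norm_num))

/-! ### the sign homomorphism -/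

theorem even_len : ∀ l ∈ R12, l.length % 2 = 0 := by decide +kernel

theorem prod_neg_one (l : List ℕ) : (l.map (fun _ => (-1 : ℤˣ))).prod = (-1) ^ l.length := by
  induction l with
  | nil => simp
  | cons c l ih => rw [List.map_cons, List.prod_cons, ih, List.length_cons, pow_succ']

/-- the sign homomorphism: every letter goes to `-1`. -/
noncomputable def sgn : LPG 12 R12 →* ℤˣ :=
  lift (fun _ => (-1 : ℤˣ)) lettersA (by
    intro l hl
    rw [prod_neg_one]
    exact Even.neg_one_pow (Nat.even_iff.mpr (even_len l hl)))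

theorem sgn_ev (l : List ℕ) (hl : ∀ c ∈ l, c < 12) : sgn (ev 12 R12 l) = (-1) ^ l.length := by
  unfold sgn
  rw [lift_ev _ _ _ l hl, prod_neg_one]

theorem index_ker : sgn.ker.index = 2 := by
  rw [Subgroup.index_ker]
  have hr : sgn.range = ⊤ := by
    rw [eq_top_iff]
    intro u _
    rcases Int.units_eq_one_or u with rfl | rfl
    · exact one_mem _
    · exact ⟨ev 12 R12 [0], by rw [sgn_ev _ (by decide)]; rfl⟩
  rw [hr, Nat.card_congr Subgroup.topEquiv.toEquiv, Nat.card_eq_fintype_card, Fintype.card_units_int]

/-! ### the element of order 29 -/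

/-- the element of order 29. -/
noncomputable def x29 : LPG 12 R12 := ev 12 R12 xw

theorem x29_mem : x29 ∈ sgn.ker := by
  rw [MonoidHom.mem_ker]
  unfold x29
  rw [sgn_ev _ xw_lt]
  exact Even.neg_one_pow (by decide)

theorem x29_order : orderOf x29 = 29 := by
  have : Fact (Nat.Prime 29) := ⟨by norm_num⟩
  apply orderOf_eq_prime
  · unfold x29
    rw [ev_pow]
    apply eq_one_of_fix actsA injA _ _ xw_pow
    intro c hc
    obtain ⟨l, hl, hcl⟩ := List.mem_flatten.mp hc
    rw [List.eq_of_mem_replicate hl] at hcl
    exact xw_lt c hcl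
  · exact ne_one_of_move actsA xw xw_lt 0 (by norm_num) xw_move

/-! ### the point stabiliser -/

theorem sub11 : ∀ l ∈ R11, l ∈ R12 := subListB_spec (by decide +kernel)

/-- the homomorphism from the subgroup presentation. -/
noncomputable def phi : LPG 11 R11 →* LPG 12 R12 := subHom 12 R12 letters11 sub11

theorem range_phi : phi.range = para 12 R12 11 := range_subHom letters11 sub11

theorem cardG_eq : Nat.card (LPG 12 R12) = 306936 * Nat.card phi.range := by
  rw [range_phi, ← idxA, mul_comm]
  exact (Subgroup.card_mul_index _).symm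

theorem card_range : Nat.card phi.range = 2 * 4089470473293004800 := by
  have h := cardG_eq
  rw [cardG] at h
  have h2 : 306936 * (2 * 4089470473293004800) = 306936 * Nat.card phi.range := by
    rw [← h]
  exact (Nat.eq_of_mul_eq_mul_left (by norm_num) h2).symm

theorem phi_inj : Function.Injective phi := by
  have hfin := ub11.1
  have hle : Nat.card (LPG 11 R11) ≤ Nat.card phi.range := by rw [card_range]; exact ub11.2
  have hbij : Function.Bijective phi.rangeRestrict :=
    Function.Surjective.bijective_of_nat_card_le phi.rangeRestrict_surjective hle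
  intro a b hab
  apply hbij.1
  exact Subtype.ext hab

theorem hF2 : ∀ J : Subgroup (LPG 11 R11), J.Normal → J ≤ Zl ∨ Nat.card (LPG 11 R11) ≤ 2 * Nat.card J := by
  intro J hJ
  have hfin := ub11.1
  rcases normal_le_or_card_le Fi23LP.simple_card.1 Zl toQuot toQuot_surj J with h | h
  · exact Or.inl h
  · right
    calc Nat.card (LPG 11 R11) ≤ Nat.card Zl * Nat.card J := h
      _ ≤ 2 * Nat.card J := Nat.mul_le_mul_right _ card_Zl_le

theorem letters_fix : ∀ c, c < 11 → actL FiZATC.ctF [c] 0 = 0 := by decide +kernel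

/-- the word of `x⁻¹ (b x b⁻¹)`. -/
def yw : List ℕ := xw.reverse ++ [0] ++ xw ++ [0]

theorem yw_lt : ∀ c ∈ yw, c < 12 := by decide

theorem yw_fix : actL FiZATC.ctF yw 0 = 0 := by decide +kernel

theorem yw_move : actL FiZATC.ctF yw 8 ≠ 8 := by decide +kernel

theorem l_fix : actL FiZATC.ctF [10] 8 = 8 := by decide +kernel

theorem invol12 : Invol 12 R12 := by decide +kernel

/-- the normal closure of the element of order 29 has index at most two. -/
theorem index_ncl : (Subgroup.normalClosure ({x29} : Set (LPG 12 R12))).index ≤ 2 := by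
  set Nc := Subgroup.normalClosure ({x29} : Set (LPG 12 R12)) with hNc
  have hxN : x29 ∈ Nc := Subgroup.subset_normalClosure (Set.mem_singleton _)
  have hx1 : x29 ≠ 1 := by
    intro h
    have := x29_order
    rw [h, orderOf_one] at this
    omega
  have hNc1 : Nc ≠ ⊥ := by
    intro h
    rw [h, Subgroup.mem_bot] at hxN
    exact hx1 hxN
  have hG1 : (⊤ : Subgroup (LPG 12 R12)) ≠ ⊥ := by
    intro h
    have : x29 ∈ (⊤ : Subgroup (LPG 12 R12)) := Subgroup.mem_top _
    rw [h, Subgroup.mem_bot] at this
    exact hx1 this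
  let _ : MulAction (LPG 12 R12) (Fin 306936) := MulAction.compHom (Fin 306936) rho
  have hsmul : ∀ (g : LPG 12 R12) (v : Fin 306936), g • v = rho g v := fun _ _ => rfl
  obtain ⟨h0, htrN⟩ := normal_transitive actsA injA prim_ok Nc hNc1
  obtain ⟨_, htrG⟩ := normal_transitive actsA injA prim_ok ⊤ hG1
  set z0 : Fin 306936 := ⟨0, h0⟩ with hz0
  -- the stabiliser of the point `0` is the range of `phi`
  have hle : phi.range ≤ MulAction.stabilizer (LPG 12 R12) z0 := by
    rw [range_phi]
    unfold para
    rw [Subgroup.closure_le]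
    rintro _ ⟨s, hs, rfl⟩
    obtain ⟨c, hc, rfl⟩ := mem_letterWords.mp hs
    rw [SetLike.mem_coe, MulAction.mem_stabilizer_iff, hsmul]
    apply Fin.ext
    rw [actsA.act [c] (by simpa using (by omega : c < 12)) z0]
    exact letters_fix c hc
  have horbG : MulAction.orbit (LPG 12 R12) z0 = Set.univ := by
    ext v
    simp only [Set.mem_univ, iff_true]
    obtain ⟨g, -, hgv⟩ := htrG v
    exact ⟨g, hgv⟩
  have hcardS : Nat.card (LPG 12 R12) = 306936 * Nat.card (MulAction.stabilizer (LPG 12 R12) z0) := by
    have h1 := card_eq_orbit_mul' (G := LPG 12 R12) (X := Fin 306936) ⊤ z0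
    have h2 : MulAction.orbit (⊤ : Subgroup (LPG 12 R12)) z0 = Set.univ := by
      ext v
      simp only [Set.mem_univ, iff_true]
      obtain ⟨g, hg, hgv⟩ := htrG v
      exact ⟨⟨g, hg⟩, hgv⟩
    rw [h2, Set.ncard_univ, Nat.card_fin, top_inf_eq,
      Nat.card_congr Subgroup.topEquiv.toEquiv] at h1
    exact h1
  have hstab : phi.range = MulAction.stabilizer (LPG 12 R12) z0 := by
    apply Subgroup.eq_of_le_of_card_ge hle
    have h1 := cardG_eq
    rw [hcardS] at h1
    exact (Nat.eq_of_mul_eq_mul_left (by norm_num) h1).le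
  -- the order of the normal closure
  have hcNc : Nat.card Nc = 306936 * Nat.card (Nc ⊓ phi.range : Subgroup (LPG 12 R12)) := by
    have h1 := card_eq_orbit_mul' (G := LPG 12 R12) (X := Fin 306936) Nc z0
    have h2 : MulAction.orbit Nc z0 = Set.univ := by
      ext v
      simp only [Set.mem_univ, iff_true]
      obtain ⟨g, hg, hgv⟩ := htrN v
      exact ⟨⟨g, hg⟩, hgv⟩
    rw [h2, Set.ncard_univ, Nat.card_fin, ← hstab] at h1
    exact h1
  -- the element `y`
  have hb : ev 12 R12 [0] * ev 12 R12 [0] = 1 := ev_sq invol12 0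
  have hy : ev 12 R12 yw = x29⁻¹ * (ev 12 R12 [0] * x29 * (ev 12 R12 [0])⁻¹) := by
    unfold yw x29
    rw [ev_append, ev_append, ev_append, ev_reverse invol12, inv_eq_of_mul_eq_one_left hb]
    group
  have hyN : ev 12 R12 yw ∈ Nc := by
    rw [hy]
    have hn : Nc.Normal := Subgroup.normalClosure_normal
    exact Nc.mul_mem (Nc.inv_mem hxN) (hn.conj_mem _ hxN _)
  have hyS : ev 12 R12 yw ∈ phi.range := by
    rw [hstab, MulAction.mem_stabilizer_iff, hsmul]
    apply Fin.ext
    rw [actsA.act yw yw_lt z0]
    exact yw_fix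
  have hyZ : ev 12 R12 yw ∉ Zl.map phi := by
    intro hmem
    have hZ : Zl.map phi = Subgroup.zpowers (ev 12 R12 [10]) := by
      unfold Zl
      rw [MonoidHom.map_zpowers]
      have hz : phi zl = ev 12 R12 [10] := subHom_ev letters11 sub11 [10] (by decide)
      rw [hz]
    rw [hZ] at hmem
    obtain ⟨i, hi⟩ := Subgroup.mem_zpowers_iff.mp hmem
    have h8 : (8 : ℕ) < 306936 := by norm_num
    have hl8 : rho (ev 12 R12 [10]) ⟨8, h8⟩ = ⟨8, h8⟩ := by
      apply Fin.ext
      rw [actsA.act [10] (by decide) ⟨8, h8⟩]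
      exact l_fix
    have hy8 : rho (ev 12 R12 yw) ⟨8, h8⟩ = ⟨8, h8⟩ := by
      rw [← hi, map_zpow]
      exact Equiv.Perm.zpow_apply_eq_self_of_apply_eq_self hl8 i
    apply yw_move
    have := congrArg Fin.val hy8
    rw [actsA.act yw yw_lt ⟨8, h8⟩] at this
    exact this
  have hfin := ub11.1
  exact index_normal_le_two phi phi_inj Zl hF2 Nc 306936 cardG_eq hcNc _ hyN hyS hyZ

/-! ### the main results -/

theorem simple_ker : IsSimpleGroup sgn.ker :=
  simple_of_prim_index_two actsA injA prim_ok sgn.ker index_ker (by norm_num) (by norm_num)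
    (by rw [cardG]; norm_num) x29_mem x29_order index_ncl

theorem card_ker : Nat.card sgn.ker = 1255205709190661721292800 := by
  have h := sgn.ker.card_mul_index
  rw [index_ker, cardG] at h
  omega

theorem commutator_eq : commutator (LPG 12 R12) = sgn.ker :=
  commutator_eq_of_simple_index_two sgn.ker index_ker simple_ker (by rw [card_ker]; norm_num)

/-- **The commutator subgroup of the list-presented group is simple of order
`1255205709190661721292800`.** -/
theorem simple_card_commutator : IsSimpleGroup (commutator (LPG 12 R12)) ∧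
    Nat.card (commutator (LPG 12 R12)) = 1255205709190661721292800 := by
  rw [commutator_eq]
  exact ⟨simple_ker, card_ker⟩

end Cfsg.Agent.Helper5.Fi24LP
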