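import Mathlib
import Cfsg.Agent.Helper5.LPD

/-!
# Primitive coset tables: transitivity, blocks, and maximality of the point stabiliser
-/

set_option autoImplicit false

namespace Cfsg.Agent.Helper5.LP

open Cfsg.Agent.Helper5.TC Cfsg.Agent.Helper5.TCI

section
variable {G : Type*} [Group G] {k N : ℕ} {T : ℕ → ℕ → ℕ}

/-- every point is the image, under an element of the point stabiliser, of the point `0` or of a
root `p.1` of the primitivity data, which is the image of `0` under the word `p.2.1`. -/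
theorem prim_points {ρ : G →* Equiv.Perm (Fin N)} {e : List ℕ → G} (hA : ActsOn ρ e k T)
    {Hgens : List (List ℕ)} {prim : PrimData}
    (h : primOK T k N Hgens prim = true) (h0 : 0 < N) (u : Fin N) :
    ∃ s : G, ρ s ⟨0, h0⟩ = ⟨0, h0⟩ ∧ (ρ s ⟨0, h0⟩ = u ∨
      ∃ p ∈ prim, (∀ c ∈ p.2.1, c < k) ∧ ρ (s * e p.2.1) ⟨0, h0⟩ = u) := by
  simp only [primOK, Bool.and_eq_true, Nat.blt_eq] at h
  obtain ⟨⟨⟨⟨⟨⟨-, hHlt⟩, hHfix⟩, htlt⟩, hforest⟩, hcount⟩, hprim⟩ := h
  have hHlt' := lettersLtB_spec hHlt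
  have hHfix' := fixOK_spec hHfix
  have htlt' := lettersLtB_spec htlt
  have hcount' := Nat.eq_of_beq_eq_true hcount
  set z : Fin N := ⟨0, h0⟩ with hz
  set Q0 : Subgroup (Equiv.Perm (Fin N)) := ρ.range ⊓ fixSub N [0] with hQ0
  have hHQ0 : ∀ w ∈ Hgens, ρ (e w) ∈ Q0 := by
    intro w hw
    refine ⟨⟨e w, rfl⟩, ?_⟩
    intro c hc hcN
    apply Fin.ext
    rw [hA.act w (hHlt' w hw)]
    exact hHfix' w hw c hc
  let P : ℕ → Prop := fun v => ∃ b ∈ (primForest prim).map Prod.fst, ReachN Q0 b v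
  have hstepP : ∀ w ∈ Hgens, ∀ v, P v → P (actL T w v) := by
    rintro w hw v ⟨b, hb, hr⟩
    exact ⟨b, hb, reach_step hA Q0 hHlt' hHQ0 b w hw v hr⟩
  have hroots : ∀ bt ∈ primForest prim, P bt.1 := by
    intro bt hbt
    refine ⟨bt.1, List.mem_map.mpr ⟨bt, hbt, rfl⟩, reachN_self Q0 ?_⟩
    unfold primForest at hbt
    rcases List.mem_cons.mp hbt with rfl | hbt
    · exact h0
    · obtain ⟨p, hp, rfl⟩ := List.mem_map.mp hbt
      have := List.all_eq_true.mp hprim p hp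
      simp only [Bool.and_eq_true, Nat.blt_eq] at this
      exact this.1.1.1
  have hinvA := forestRun_inv (P := P) hstepP (primForest prim) (0, true) 0 (maskInv_zero _) hroots
  obtain ⟨S, hS, -, hSP⟩ := hinvA hforest
  rw [zero_add, hcount'] at hS
  have hSall := mem_of_card_eq S hS (fun v hv => by
    obtain ⟨b, -, _, hv', _⟩ := hSP v hv
    exact hv')
  obtain ⟨b, hb, hb', hu', σ, hσ, hσb⟩ := hSP u.val (hSall u.val u.isLt)
  obtain ⟨a1, ha1⟩ := hσ.1
  have hfix : σ z = z := hσ.2 0 (List.mem_singleton.mpr rfl) h0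
  refine ⟨a1, by rw [ha1]; exact hfix, ?_⟩
  unfold primForest at hb
  rw [List.map_cons, List.mem_cons] at hb
  rcases hb with rfl | hb
  · left
    rw [ha1]
    exact hσb
  · right
    rw [List.map_map] at hb
    obtain ⟨p, hp, rfl⟩ := List.mem_map.mp hb
    have hp' := List.all_eq_true.mp hprim p hp
    simp only [Bool.and_eq_true, Nat.blt_eq] at hp'
    have ht0 := Nat.eq_of_beq_eq_true hp'.1.1.2
    have hlt := htlt' p.2.1 (List.mem_map.mpr ⟨p, hp, rfl⟩)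
    refine ⟨p, hp, hlt, ?_⟩
    rw [map_mul, Equiv.Perm.mul_apply, ha1]
    have : ρ (e p.2.1) z = ⟨p.1, hb'⟩ := by
      apply Fin.ext
      rw [hA.act _ hlt]
      exact ht0
    rw [this]
    exact hσb

/-- the group is transitive on the points. -/
theorem prim_transitive {ρ : G →* Equiv.Perm (Fin N)} {e : List ℕ → G} (hA : ActsOn ρ e k T)
    {Hgens : List (List ℕ)} {prim : PrimData}
    (h : primOK T k N Hgens prim = true) (h0 : 0 < N) (u : Fin N) :
    ∃ a : G, ρ a ⟨0, h0⟩ = u := by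
  obtain ⟨s, hs, hu | ⟨p, _, _, hu⟩⟩ := prim_points hA h h0 u
  · exact ⟨s, hu⟩
  · exact ⟨s * e p.2.1, hu⟩

/-- **Blocks**: a set of points containing `0` and another point, and mapped to itself by every
group element mapping `0` into it, is everything. -/
theorem prim_block {ρ : G →* Equiv.Perm (Fin N)} {e : List ℕ → G} (hA : ActsOn ρ e k T)
    {Hgens : List (List ℕ)} {prim : PrimData}
    (h : primOK T k N Hgens prim = true) (h0 : 0 < N) (B : Set (Fin N))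
    (hzB : (⟨0, h0⟩ : Fin N) ∈ B)
    (hBinv : ∀ g : G, ρ g ⟨0, h0⟩ ∈ B → ∀ v ∈ B, ρ g v ∈ B)
    (hmove : ∃ v ∈ B, v ≠ ⟨0, h0⟩) : ∀ u : Fin N, u ∈ B := by
  have hpts := prim_points hA h h0
  simp only [primOK, Bool.and_eq_true, Nat.blt_eq] at h
  obtain ⟨⟨⟨⟨⟨⟨-, hHlt⟩, hHfix⟩, htlt⟩, hforest⟩, hcount⟩, hprim⟩ := h
  have hHlt' := lettersLtB_spec hHlt
  have hHfix' := fixOK_spec hHfix
  set z : Fin N := ⟨0, h0⟩ with hz
  obtain ⟨v, hvB, hvz⟩ := hmove
  -- a root different from `0` lies in `B`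
  obtain ⟨s, hs, hu | ⟨p, hp, hlt, hu⟩⟩ := hpts v
  · exact absurd (hu.symm.trans hs) hvz
  have hsB : ∀ w ∈ B, ρ s w ∈ B := hBinv s (by rw [hs]; exact hzB)
  have hsB' : ∀ w ∈ B, ρ s⁻¹ w ∈ B := by
    apply hBinv s⁻¹
    have : ρ s⁻¹ z = z := by
      rw [map_inv, Equiv.Perm.inv_eq_iff_eq]; exact hs.symm
    rw [this]; exact hzB
  have htzB : ρ (e p.2.1) z ∈ B := by
    have h1 := hsB' v hvB
    rw [← hu, map_mul, Equiv.Perm.mul_apply, ← Equiv.Perm.mul_apply, ← map_mul,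
      inv_mul_cancel, map_one, Equiv.Perm.one_apply] at h1
    exact h1
  have htB : ∀ w ∈ B, ρ (e p.2.1) w ∈ B := hBinv (e p.2.1) htzB
  have hp' := List.all_eq_true.mp hprim p hp
  simp only [Bool.and_eq_true, Nat.blt_eq] at hp'
  obtain ⟨⟨⟨-, ht0⟩, htree⟩, hlen⟩ := hp'
  have hlen' := Nat.eq_of_beq_eq_true hlen
  have hHB : ∀ w ∈ Hgens, ∀ x ∈ B, ρ (e w) x ∈ B := by
    intro w hw
    apply hBinv
    have : ρ (e w) z = z := by
      apply Fin.ext
      rw [hA.act w (hHlt' w hw)]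
      exact hHfix' w hw 0 (List.mem_singleton.mpr rfl)
    rw [this]; exact hzB
  let P' : ℕ → Prop := fun v => ∃ hv : v < N, (⟨v, hv⟩ : Fin N) ∈ B
  have hstepP' : ∀ w ∈ Hgens ++ [p.2.1], ∀ v, P' v → P' (actL T w v) := by
    rintro w hw v ⟨hv, hvB⟩
    have hwlt : ∀ c ∈ w, c < k := by
      rcases List.mem_append.mp hw with hw | hw
      · exact hHlt' w hw
      · rw [List.mem_singleton.mp hw]; exact hlt
    have hact := hA.act w hwlt ⟨v, hv⟩
    have hmem : ρ (e w) ⟨v, hv⟩ ∈ B := by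
      rcases List.mem_append.mp hw with hw | hw
      · exact hHB w hw _ hvB
      · rw [List.mem_singleton.mp hw]; exact htB _ hvB
    refine ⟨by rw [← hact]; exact (ρ (e w) ⟨v, hv⟩).isLt, ?_⟩
    have : (⟨actL T w v, by rw [← hact]; exact (ρ (e w) ⟨v, hv⟩).isLt⟩ : Fin N)
        = ρ (e w) ⟨v, hv⟩ := Fin.ext hact.symm
    rw [this]
    exact hmem
  have hinvB := treeRun_inv (P := P') hstepP' (maskInv_zero _) (b := 0) ⟨h0, hzB⟩ p.2.2.2
  obtain ⟨S', hS', -, hSP'⟩ := hinvB htree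
  rw [zero_add, hlen'] at hS'
  have hS'all := mem_of_card_eq S' hS' (fun v hv => (hSP' v hv).1)
  intro u
  obtain ⟨_, huB⟩ := hSP' u.val (hS'all u.val u.isLt)
  exact huB

/-- **Maximality of the point stabiliser**: a subgroup containing the stabiliser of `0` and moving
`0` is the whole group. -/
theorem prim_maximal {ρ : G →* Equiv.Perm (Fin N)} {e : List ℕ → G} (hA : ActsOn ρ e k T)
    {Hgens : List (List ℕ)} {prim : PrimData}
    (h : primOK T k N Hgens prim = true) (h0 : 0 < N) (L : Subgroup G)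
    (hstab : ∀ g : G, ρ g ⟨0, h0⟩ = ⟨0, h0⟩ → g ∈ L)
    (hmove : ∃ g ∈ L, ρ g ⟨0, h0⟩ ≠ ⟨0, h0⟩) : L = ⊤ := by
  set z : Fin N := ⟨0, h0⟩ with hz
  set B : Set (Fin N) := {v | ∃ g ∈ L, ρ g z = v} with hB
  have hzB : z ∈ B := ⟨1, one_mem _, by rw [map_one]; rfl⟩
  have hmemL : ∀ g : G, ρ g z ∈ B → g ∈ L := by
    rintro g ⟨l, hl, hlz⟩
    have : ρ (l⁻¹ * g) z = z := by
      rw [map_mul, Equiv.Perm.mul_apply, ← hlz, ← Equiv.Perm.mul_apply, ← map_mul,
        inv_mul_cancel, map_one, Equiv.Perm.one_apply]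
    have h1 := hstab _ this
    have h2 := mul_mem hl h1
    rwa [mul_inv_cancel_left] at h2
  have hBinv : ∀ g : G, ρ g z ∈ B → ∀ v ∈ B, ρ g v ∈ B := by
    rintro g hg v ⟨l1, hl1, rfl⟩
    refine ⟨g * l1, mul_mem (hmemL g hg) hl1, ?_⟩
    rw [map_mul, Equiv.Perm.mul_apply]
  have hall := prim_block hA h h0 B hzB hBinv (by
    obtain ⟨g, hg, hgz⟩ := hmove
    exact ⟨ρ g z, ⟨g, hg, rfl⟩, hgz⟩)
  rw [eq_top_iff]
  intro g _
  exact hmemL g (hall _)

end

end Cfsg.Agent.Helper5.LP
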