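import Mathlib
import Cfsg.Prelude.Def_SporadicB
import Cfsg.Agent.Helper5.LPN
import Cfsg.Agent.Helper5.LPK

/-!
# Conjugacy classes of 3-transpositions through a primitive coset table
-/

set_option autoImplicit false

namespace Cfsg.Agent.Helper5.LP

open Cfsg.Agent.Helper5.TC Cfsg.Agent.Helper5.TCI

section
variable {G : Type*} [Group G] {k N : ℕ} {T : ℕ → ℕ → ℕ}

/-- a subgroup fixing `0` whose index is the number of points is the stabiliser of `0`. -/
theorem mem_of_fix_zero {ρ : G →* Equiv.Perm (Fin N)} {e : List ℕ → G} (hA : ActsOn ρ e k T)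
    {Hgens : List (List ℕ)} {prim : PrimData}
    (h : primOK T k N Hgens prim = true) (h0 : 0 < N) (H : Subgroup G)
    (hH : ∀ g ∈ H, ρ g ⟨0, h0⟩ = ⟨0, h0⟩) (hidx : H.index = N) :
    ∀ g : G, ρ g ⟨0, h0⟩ = ⟨0, h0⟩ → g ∈ H := by
  let _ : MulAction G (Fin N) := MulAction.compHom (Fin N) ρ
  have hsm : ∀ (g : G) (x : Fin N), g • x = ρ g x := fun _ _ => rfl
  have : MulAction.IsPretransitive G (Fin N) := by
    constructor
    intro x y
    obtain ⟨a, ha⟩ := prim_transitive hA h h0 x
    obtain ⟨b, hb⟩ := prim_transitive hA h h0 y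
    refine ⟨b * a⁻¹, ?_⟩
    rw [hsm, ← ha, ← Equiv.Perm.mul_apply, ← map_mul, inv_mul_cancel_right, hb]
  have hst : (MulAction.stabilizer G (⟨0, h0⟩ : Fin N)).index = N := by
    rw [MulAction.index_stabilizer_of_transitive, Nat.card_fin]
  have hle : H ≤ MulAction.stabilizer G (⟨0, h0⟩ : Fin N) := by
    intro g hg
    rw [MulAction.mem_stabilizer_iff, hsm]
    exact hH g hg
  have h1 := Subgroup.relIndex_mul_index hle
  rw [hst, hidx] at h1
  have h2 : H.relIndex (MulAction.stabilizer G (⟨0, h0⟩ : Fin N)) = 1 := by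
    have hN : 0 < N := h0
    nlinarith
  intro g hg
  apply Subgroup.relIndex_eq_one.mp h2
  rw [MulAction.mem_stabilizer_iff, hsm]
  exact hg

/-- an element whose centraliser contains the stabiliser of `0`, in a simple non-commutative group
acting primitively, has the stabiliser of `0` as its centraliser. -/
theorem comm_iff_fix {ρ : G →* Equiv.Perm (Fin N)} {e : List ℕ → G} (hA : ActsOn ρ e k T)
    {Hgens : List (List ℕ)} {prim : PrimData}
    (h : primOK T k N Hgens prim = true) (h0 : 0 < N) [IsSimpleGroup G]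
    (hnc : ∃ a b : G, a * b ≠ b * a) (d : G) (hd1 : d ≠ 1)
    (hfix : ∀ g : G, ρ g ⟨0, h0⟩ = ⟨0, h0⟩ → g * d = d * g) (g : G) :
    g * d = d * g ↔ ρ g ⟨0, h0⟩ = ⟨0, h0⟩ := by
  constructor
  · intro hg
    by_contra hmv
    have htop : Subgroup.centralizer ({d} : Set G) = ⊤ := by
      apply prim_maximal hA h h0
      · intro g' hg'
        rw [Subgroup.mem_centralizer_iff]
        intro y hy
        rw [Set.mem_singleton_iff.mp hy]
        exact (hfix g' hg').symm
      · refine ⟨g, ?_, hmv⟩
        rw [Subgroup.mem_centralizer_iff]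
        intro y hy
        rw [Set.mem_singleton_iff.mp hy]
        exact hg.symm
    have hdc : d ∈ Subgroup.center G := by
      rw [Subgroup.mem_center_iff]
      intro x
      have hx : x ∈ Subgroup.centralizer ({d} : Set G) := by rw [htop]; exact Subgroup.mem_top x
      rw [Subgroup.mem_centralizer_iff] at hx
      exact (hx d (Set.mem_singleton d)).symm
    rw [center_eq_bot_of_simple hnc, Subgroup.mem_bot] at hdc
    exact hd1 hdc
  · exact hfix g

/-- conjugation by an element commuting with `d`. -/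
theorem conj_mul_conj {d s x : G} (hs : s * d = d * s) :
    d * (s * x * s⁻¹) = s * (d * x) * s⁻¹ := by
  have : d * s = s * d := hs.symm
  calc d * (s * x * s⁻¹) = (d * s) * x * s⁻¹ := by group
    _ = (s * d) * x * s⁻¹ := by rw [this]
    _ = s * (d * x) * s⁻¹ := by group

theorem conj_pow_eq_one {s y : G} {n : ℕ} (hy : y ^ n = 1) : (s * y * s⁻¹) ^ n = 1 := by
  rw [conj_pow, hy, mul_one, mul_inv_cancel]

/-- **A class of 3-transpositions from a primitive coset table.** -/
theorem three_transposition_class {ρ : G →* Equiv.Perm (Fin N)} {e : List ℕ → G}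
    (hA : ActsOn ρ e k T) {Hgens : List (List ℕ)} {prim : PrimData}
    (h : primOK T k N Hgens prim = true) (h0 : 0 < N) [IsSimpleGroup G] (d : G)
    (hd2 : orderOf d = 2)
    (hcent : ∀ g : G, g * d = d * g ↔ ρ g ⟨0, h0⟩ = ⟨0, h0⟩)
    (h3 : ∀ p ∈ prim, (d * (e p.2.1 * d * (e p.2.1)⁻¹)) ^ 2 = 1 ∨
      (d * (e p.2.1 * d * (e p.2.1)⁻¹)) ^ 3 = 1) :
    Cfsg.IsThreeTranspositionClass (conjugatesOf d) ∧ Nat.card (conjugatesOf d) = N := by
  set z : Fin N := ⟨0, h0⟩ with hz
  have hdd : d * d = 1 := by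
    have := pow_orderOf_eq_one d
    rwa [hd2, pow_two] at this
  have hd1 : d ≠ 1 := by
    intro h1
    rw [h1, orderOf_one] at hd2
    omega
  -- the basic case
  have hbase : ∀ a : G, (d * (a * d * a⁻¹)) ^ 2 = 1 ∨ (d * (a * d * a⁻¹)) ^ 3 = 1 := by
    intro a
    obtain ⟨s, hs, hu | ⟨p, hp, -, hu⟩⟩ := prim_points hA h h0 (ρ a z)
    · have ha : a * d = d * a := (hcent a).mpr (hu.symm.trans hs)
      left
      have : a * d * a⁻¹ = d := by rw [ha, mul_inv_cancel_right]
      rw [this, hdd, one_pow]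
    · have hsc : s * d = d * s := (hcent s).mpr hs
      set t := e p.2.1 with ht
      -- `c = (s t)⁻¹ a` commutes with `d`
      have hc : ((s * t)⁻¹ * a) * d = d * ((s * t)⁻¹ * a) := by
        apply (hcent _).mpr
        rw [map_mul, Equiv.Perm.mul_apply, ← hu, ← Equiv.Perm.mul_apply, ← map_mul,
          inv_mul_cancel, map_one, Equiv.Perm.one_apply]
      have hconj : a * d * a⁻¹ = s * (t * d * t⁻¹) * s⁻¹ := by
        have ha : a = (s * t) * ((s * t)⁻¹ * a) := by group
        have h1 : ((s * t)⁻¹ * a) * d * ((s * t)⁻¹ * a)⁻¹ = d := by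
          rw [hc, mul_inv_cancel_right]
        calc a * d * a⁻¹
            = (s * t) * (((s * t)⁻¹ * a) * d * ((s * t)⁻¹ * a)⁻¹) * (s * t)⁻¹ := by group
          _ = (s * t) * d * (s * t)⁻¹ := by rw [h1]
          _ = s * (t * d * t⁻¹) * s⁻¹ := by group
      rw [hconj, conj_mul_conj hsc]
      rcases h3 p hp with h2 | h2
      · left; exact conj_pow_eq_one h2
      · right; exact conj_pow_eq_one h2
  refine ⟨⟨⟨?_, ?_⟩, ⟨d, mem_conjugatesOf_self, rfl⟩, ?_⟩, ?_⟩
  · -- orders
    intro x hx
    obtain ⟨c, rfl⟩ := isConj_iff.mp hx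
    have := (MulAut.conj c).orderOf_eq d
    rw [MulAut.conj_apply] at this
    rw [this, hd2]
  · -- products
    intro x hx y hy
    obtain ⟨c, rfl⟩ := isConj_iff.mp hx
    obtain ⟨c', rfl⟩ := isConj_iff.mp hy
    have : c * d * c⁻¹ * (c' * d * c'⁻¹) = c * (d * ((c⁻¹ * c') * d * (c⁻¹ * c')⁻¹)) * c⁻¹ := by
      group
    rw [this]
    rcases hbase (c⁻¹ * c') with h2 | h2
    · left; exact conj_pow_eq_one h2
    · right; exact conj_pow_eq_one h2
  · -- generation
    have hncl : Subgroup.closure (conjugatesOf d) = Subgroup.normalClosure {d} := by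
      unfold Subgroup.normalClosure
      congr 1
      ext x
      rw [Group.mem_conjugatesOfSet_iff]
      constructor
      · intro hx
        exact ⟨d, Set.mem_singleton d, hx⟩
      · rintro ⟨a, ha, hx⟩
        rw [Set.mem_singleton_iff.mp ha] at hx
        exact hx
    rw [hncl]
    rcases Subgroup.Normal.eq_bot_or_eq_top
      (inferInstance : (Subgroup.normalClosure ({d} : Set G)).Normal) with hb | ht
    · exfalso
      have : d ∈ Subgroup.normalClosure ({d} : Set G) :=
        Subgroup.subset_normalClosure (Set.mem_singleton d)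
      rw [hb, Subgroup.mem_bot] at this
      exact hd1 this
    · exact ht
  · -- the number of conjugates
    have hex : ∀ u : Fin N, ∃ a : G, ρ a z = u := prim_transitive hA h h0
    choose a ha using hex
    let f : Fin N → conjugatesOf d := fun u => ⟨a u * d * (a u)⁻¹, isConj_iff.mpr ⟨a u, rfl⟩⟩
    have hconj_eq : ∀ g g' : G, g * d * g⁻¹ = g' * d * g'⁻¹ ↔ ρ g z = ρ g' z := by
      intro g g'
      have h1 : g * d * g⁻¹ = g' * d * g'⁻¹ ↔ (g'⁻¹ * g) * d = d * (g'⁻¹ * g) := by
        constructor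
        · intro hh
          have : g'⁻¹ * (g * d * g⁻¹) * g = g'⁻¹ * (g' * d * g'⁻¹) * g := by rw [hh]
          calc g'⁻¹ * g * d = g'⁻¹ * (g * d * g⁻¹) * g := by group
            _ = g'⁻¹ * (g' * d * g'⁻¹) * g := this
            _ = d * (g'⁻¹ * g) := by group
        · intro hh
          calc g * d * g⁻¹ = g' * ((g'⁻¹ * g) * d) * g⁻¹ := by group
            _ = g' * (d * (g'⁻¹ * g)) * g⁻¹ := by rw [hh]
            _ = g' * d * g'⁻¹ := by group
      rw [h1, hcent, map_mul, Equiv.Perm.mul_apply, map_inv, Equiv.Perm.inv_eq_iff_eq]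
    have hbij : Function.Bijective f := by
      constructor
      · intro u u' huu
        have := (hconj_eq (a u) (a u')).mp (congrArg Subtype.val huu)
        rw [ha, ha] at this
        exact this
      · rintro ⟨x, hx⟩
        obtain ⟨c, rfl⟩ := isConj_iff.mp hx
        refine ⟨ρ c z, Subtype.ext ?_⟩
        exact (hconj_eq _ _).mpr (ha _)
    rw [← Nat.card_congr (Equiv.ofBijective f hbij), Nat.card_fin]

/-- the centraliser of a conjugate is isomorphic to the centraliser. -/
theorem centralizer_conj_equiv (d c : G) :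
    Nonempty (Subgroup.centralizer ({d} : Set G) ≃* Subgroup.centralizer ({c * d * c⁻¹} : Set G)) := by
  have hmap : (Subgroup.centralizer ({d} : Set G)).map (MulAut.conj c).toMonoidHom =
      Subgroup.centralizer ({c * d * c⁻¹} : Set G) := by
    ext x
    constructor
    · rintro ⟨y, hy, rfl⟩
      rw [SetLike.mem_coe] at hy
      rw [Subgroup.mem_centralizer_iff] at hy ⊢
      intro w hw
      rw [Set.mem_singleton_iff.mp hw]
      have h1 := hy d (Set.mem_singleton d)
      show c * d * c⁻¹ * (c * y * c⁻¹) = c * y * c⁻¹ * (c * d * c⁻¹)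
      calc c * d * c⁻¹ * (c * y * c⁻¹) = c * (d * y) * c⁻¹ := by group
        _ = c * (y * d) * c⁻¹ := by rw [h1]
        _ = c * y * c⁻¹ * (c * d * c⁻¹) := by group
    · intro hx
      rw [Subgroup.mem_centralizer_iff] at hx
      have h1 := hx _ (Set.mem_singleton _)
      refine ⟨c⁻¹ * x * c, ?_, ?_⟩
      · show c⁻¹ * x * c ∈ Subgroup.centralizer ({d} : Set G)
        rw [Subgroup.mem_centralizer_iff]
        intro w hw
        rw [Set.mem_singleton_iff.mp hw]
        calc d * (c⁻¹ * x * c) = c⁻¹ * (c * d * c⁻¹ * x) * c := by group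
          _ = c⁻¹ * (x * (c * d * c⁻¹)) * c := by rw [h1]
          _ = c⁻¹ * x * c * d := by group
      · show c * (c⁻¹ * x * c) * c⁻¹ = x
        group
  exact ⟨((Subgroup.centralizer ({d} : Set G)).equivMapOfInjective (MulAut.conj c).toMonoidHom
    (MulAut.conj c).injective).trans (MulEquiv.subgroupCongr hmap)⟩

end

end Cfsg.Agent.Helper5.LP
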