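import Mathlib

/-!
# The sign argument for the subgroup `⟨x, y, z⟩` of the Harada–Norton presentation

In a group with elements `x`, `y`, `z` satisfying six of the defining relations of the presentation
of `HN`, let `w = y x y x y² x y⁻¹`, `b = w³ x w x w³`, `c = [x, b] = x⁻¹ b⁻¹ x b` and
`v = y³ x y x y`.  If `v` centralises `c` (a relation among `x` and `y` which is a consequence of
the relations of the presentation not involving `z`), then `c² = 1`: `x` inverts `c`, `z`
centralises `c`, hence `(z^v x)` inverts `c`, but its cube is `z`.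
-/

set_option autoImplicit false

namespace Cfsg.Agent.Helper5.HNSign

variable {G : Type*} [Group G]

/-- conjugation. -/
def cj (a c : G) : G := a * c * a⁻¹

theorem cj_mul (a b c : G) : cj (a * b) c = cj a (cj b c) := by
  unfold cj
  group

theorem cj_inv_arg (a c : G) : cj a c⁻¹ = (cj a c)⁻¹ := by
  unfold cj
  group

theorem cj_mul_arg (a c d : G) : cj a (c * d) = cj a c * cj a d := by
  unfold cj
  group

theorem cj_inv_of_fix {a c : G} (h : cj a c = c) : cj a⁻¹ c = c := by
  unfold cj at h ⊢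
  have : c = a⁻¹ * (a * c * a⁻¹) * a := by group
  rw [h] at this
  rw [inv_inv]
  exact this.symm

theorem cj_list_prod (a : G) : ∀ l : List G, cj a l.prod = (l.map (cj a)).prod
  | [] => by simp [cj]
  | c :: l => by rw [List.prod_cons, cj_mul_arg, cj_list_prod a l, List.map_cons, List.prod_cons]

/-- a central factor can be collected. -/
theorem prod_map_mul_central (s : G) : ∀ l : List G, (∀ a ∈ l, s * a = a * s) →
    (l.map (fun a => a * s)).prod = l.prod * s ^ l.length
  | [], _ => by simp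
  | a :: l, h => by
    have h1 : ∀ c ∈ l, s * c = c * s := fun c hc => h c (List.mem_cons_of_mem _ hc)
    rw [List.map_cons, List.prod_cons, prod_map_mul_central s l h1, List.prod_cons,
      List.length_cons, pow_succ]
    have h2 : s * l.prod = l.prod * s := by
      clear h
      induction l with
      | nil => simp
      | cons c l ih =>
        rw [List.prod_cons, ← mul_assoc, h1 c List.mem_cons_self, mul_assoc,
          ih (fun d hd => h1 d (List.mem_cons_of_mem _ hd)), mul_assoc]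
    calc a * s * (l.prod * s ^ l.length) = a * (s * l.prod) * s ^ l.length := by group
      _ = a * (l.prod * s) * s ^ l.length := by rw [h2]
      _ = a * l.prod * (s ^ l.length * s) := by
        rw [← pow_succ, pow_succ']
        group

/-- an element commuting with all members of a list commutes with the product. -/
theorem comm_list_prod (s : G) : ∀ l : List G, (∀ a ∈ l, s * a = a * s) → s * l.prod = l.prod * s
  | [], _ => by simp
  | a :: l, h => by
    rw [List.prod_cons, ← mul_assoc, h a List.mem_cons_self, mul_assoc,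
      comm_list_prod s l (fun d hd => h d (List.mem_cons_of_mem _ hd)), mul_assoc]

/-- The sign argument, with the abbreviations as variables. -/
theorem c_sq_aux (x y z w b c v s : G)
    (hw : w = y * x * y * x * y ^ 2 * x * y⁻¹)
    (hb : b = w ^ 3 * x * w * x * w ^ 3)
    (hc : c = x⁻¹ * b⁻¹ * x * b)
    (hs : s = x ^ 2)
    (h2 : s * y * s * y⁻¹ = 1)
    (h4 : (x⁻¹ * y ^ 2 * x * y ^ 3) ^ 3 = 1)
    (h7 : z ^ 2 = 1)
    (h8 : (z * x) ^ 2 = 1)
    (h9 : z⁻¹ * w⁻¹ * z * w * s⁻¹ = 1)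
    (h10 : z * (v⁻¹ * z * v * x) ^ 3 = 1)
    (hv : cj v c = c) :
    c ^ 2 = 1 := by
  -- `y` inverts `s`, `x` centralises `s`
  have hys : cj y s = s⁻¹ := by
    unfold cj
    have : y * s * y⁻¹ = s⁻¹ * (s * y * s * y⁻¹) := by group
    rw [this, h2, mul_one]
  have hxs : cj x s = s := by
    unfold cj
    rw [hs]
    group
  have hxis : cj x⁻¹ s = s := cj_inv_of_fix hxs
  -- `s² = 1`
  have hy2s : cj (y ^ 2) s = s := by
    rw [pow_two, cj_mul, hys, cj_inv_arg, hys, inv_inv]
  have hy3s : cj (y ^ 3) s = s⁻¹ := by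
    rw [pow_succ, cj_mul, hys, cj_inv_arg, hy2s]
  have hrs : cj (x⁻¹ * y ^ 2 * x * y ^ 3) s = s⁻¹ := by
    rw [cj_mul, cj_mul, cj_mul, hy3s, cj_inv_arg, hxs, cj_inv_arg, hy2s, cj_inv_arg, hxis]
  have hs2 : s * s = 1 := by
    have h3 : cj ((x⁻¹ * y ^ 2 * x * y ^ 3) ^ 3) s = s⁻¹ := by
      rw [pow_succ, pow_two, cj_mul, cj_mul, hrs, cj_inv_arg, hrs, inv_inv, hrs]
    rw [h4] at h3
    have h5 : cj (1 : G) s = s := by unfold cj; group
    rw [h5] at h3
    calc s * s = s * s⁻¹ := by rw [← h3]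
      _ = 1 := mul_inv_cancel s
  have hsinv : s⁻¹ = s := inv_eq_of_mul_eq_one_right hs2
  -- `s` commutes with `x` and `y`, hence with `w`
  have csx : s * x = x * s := by rw [hs]; group
  have csy : s * y = y * s := by
    have := hys
    unfold cj at this
    rw [hsinv] at this
    calc s * y = (y * s * y⁻¹) * y := by rw [this]
      _ = y * s := by group
  have csyi : s * y⁻¹ = y⁻¹ * s := by
    calc s * y⁻¹ = y⁻¹ * (y * s) * y⁻¹ := by group
      _ = y⁻¹ * (s * y) * y⁻¹ := by rw [csy]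
      _ = y⁻¹ * s := by group
  have csw : s * w = w * s := by
    have e : w = ([y, x, y, x, y, y, x, y⁻¹] : List G).prod := by
      rw [hw]
      simp only [List.prod_cons, List.prod_nil, mul_one, pow_two, mul_assoc]
    rw [e]
    apply comm_list_prod
    intro a ha
    simp only [List.mem_cons, List.mem_nil_iff, or_false] at ha
    rcases ha with rfl | rfl | rfl | rfl | rfl | rfl | rfl | rfl
    all_goals first | exact csy | exact csx | exact csyi
  -- `z` acts
  have hzi : z⁻¹ = z := by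
    have : z * z = 1 := by rw [← pow_two]; exact h7
    exact inv_eq_of_mul_eq_one_right this
  have hzx : cj z x = x * s := by
    unfold cj
    rw [hzi]
    have h1 : z * x * (z * x) = 1 := by rw [← pow_two]; exact h8
    have h2' : z * x * z = x⁻¹ := by
      calc z * x * z = (z * x * (z * x)) * x⁻¹ := by group
        _ = x⁻¹ := by rw [h1, one_mul]
    rw [h2']
    calc x⁻¹ = x * (x ^ 2)⁻¹ := by group
      _ = x * s := by rw [← hs, hsinv]
  have hzw : cj z w = w * s := by
    unfold cj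
    have e1 : z * w⁻¹ * z * w = s := by
      have : z⁻¹ * w⁻¹ * z * w = s := by
        calc z⁻¹ * w⁻¹ * z * w = (z⁻¹ * w⁻¹ * z * w * s⁻¹) * s := by group
          _ = s := by rw [h9, one_mul]
      rwa [hzi] at this
    have e3 : z⁻¹ * w * z⁻¹ = w * s⁻¹ := by
      calc z⁻¹ * w * z⁻¹ = w * (z * w⁻¹ * z * w)⁻¹ := by group
        _ = w * s⁻¹ := by rw [e1]
    rw [hzi, hsinv] at e3
    rw [hzi]
    exact e3
  have hzb : cj z b = b * s := by
    have e : b = ([w, w, w, x, w, x, w, w, w] : List G).prod := by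
      rw [hb]
      simp only [List.prod_cons, List.prod_nil, mul_one, pow_succ, pow_zero, one_mul, mul_assoc]
    rw [e, cj_list_prod]
    have e2 : ([w, w, w, x, w, x, w, w, w] : List G).map (cj z) =
        ([w, w, w, x, w, x, w, w, w] : List G).map (fun a => a * s) := by
      simp only [List.map_cons, List.map_nil, hzx, hzw]
    rw [e2, prod_map_mul_central s _ (by
      intro a ha
      simp only [List.mem_cons, List.mem_nil_iff, or_false] at ha
      rcases ha with rfl | rfl | rfl | rfl | rfl | rfl | rfl | rfl | rfl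
      all_goals first | exact csw | exact csx)]
    have e3 : s ^ ([w, w, w, x, w, x, w, w, w] : List G).length = s := by
      show s ^ 9 = s
      rw [show (9 : ℕ) = 2 * 4 + 1 from rfl, pow_succ, pow_mul, pow_two, hs2, one_pow, one_mul]
    rw [e3]
  have csb : s * b = b * s := by
    have e : b = ([w, w, w, x, w, x, w, w, w] : List G).prod := by
      rw [hb]
      simp only [List.prod_cons, List.prod_nil, mul_one, pow_succ, pow_zero, one_mul, mul_assoc]
    rw [e]
    apply comm_list_prod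
    intro a ha
    simp only [List.mem_cons, List.mem_nil_iff, or_false] at ha
    rcases ha with rfl | rfl | rfl | rfl | rfl | rfl | rfl | rfl | rfl
    all_goals first | exact csw | exact csx
  have csbi : s * b⁻¹ = b⁻¹ * s := by
    calc s * b⁻¹ = b⁻¹ * (b * s) * b⁻¹ := by group
      _ = b⁻¹ * (s * b) * b⁻¹ := by rw [csb]
      _ = b⁻¹ * s := by group
  -- `z` centralises `c`
  have csxi : s * x⁻¹ = x⁻¹ * s := by
    calc s * x⁻¹ = x⁻¹ * (x * s) * x⁻¹ := by group
      _ = x⁻¹ * (s * x) * x⁻¹ := by rw [csx]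
      _ = x⁻¹ * s := by group
  have hxsi : (x * s)⁻¹ = x⁻¹ * s := by rw [mul_inv_rev, hsinv, csxi]
  have hbsi : (b * s)⁻¹ = b⁻¹ * s := by rw [mul_inv_rev, hsinv, csbi]
  have e4 : s ^ 4 = 1 := by
    have : s ^ 4 = (s * s) * (s * s) := by
      simp only [pow_succ, pow_zero, one_mul, mul_assoc]
    rw [this, hs2, one_mul]
  have hzc : cj z c = c := by
    rw [hc, cj_mul_arg, cj_mul_arg, cj_mul_arg, cj_inv_arg, cj_inv_arg, hzx, hzb, hxsi, hbsi]
    calc x⁻¹ * s * (b⁻¹ * s) * (x * s) * (b * s)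
        = (([x⁻¹, b⁻¹, x, b] : List G).map (fun a => a * s)).prod := by
          simp only [List.map_cons, List.map_nil, List.prod_cons, List.prod_nil, mul_one, mul_assoc]
      _ = ([x⁻¹, b⁻¹, x, b] : List G).prod * s ^ ([x⁻¹, b⁻¹, x, b] : List G).length :=
          prod_map_mul_central s _ (by
            intro a ha
            simp only [List.mem_cons, List.mem_nil_iff, or_false] at ha
            rcases ha with rfl | rfl | rfl | rfl
            all_goals first | exact csxi | exact csbi | exact csx | exact csb)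
      _ = x⁻¹ * b⁻¹ * x * b := by
          show ([x⁻¹, b⁻¹, x, b] : List G).prod * s ^ 4 = _
          rw [e4, mul_one]
          simp only [List.prod_cons, List.prod_nil, mul_one, mul_assoc]
  -- `x` inverts `c`
  have hxc : cj x c = c⁻¹ := by
    unfold cj
    rw [hc]
    have h1 : x * x * b = b * (x * x) := by
      have := csb
      rw [hs, pow_two] at this
      exact this
    calc x * (x⁻¹ * b⁻¹ * x * b) * x⁻¹ = b⁻¹ * x⁻¹ * (x * x * b) * x⁻¹ := by group
      _ = b⁻¹ * x⁻¹ * (b * (x * x)) * x⁻¹ := by rw [h1]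
      _ = (x⁻¹ * b⁻¹ * x * b)⁻¹ := by group
  -- `v` centralises `c`
  have hvc : cj v c = c := hv
  have hvic : cj v⁻¹ c = c := cj_inv_of_fix hvc
  -- `m = z^v x` inverts `c`
  have hm : cj (v⁻¹ * z * v * x) c = c⁻¹ := by
    rw [cj_mul, cj_mul, cj_mul, hxc, cj_inv_arg, hvc, cj_inv_arg, hzc, cj_inv_arg, hvic]
  have hm3 : cj ((v⁻¹ * z * v * x) ^ 3) c = c⁻¹ := by
    rw [pow_succ, pow_two, cj_mul, cj_mul, hm, cj_inv_arg, hm, inv_inv, hm]
  have hmz : (v⁻¹ * z * v * x) ^ 3 = z := by
    have : z * (v⁻¹ * z * v * x) ^ 3 = 1 := h10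
    calc (v⁻¹ * z * v * x) ^ 3 = z⁻¹ * (z * (v⁻¹ * z * v * x) ^ 3) := by group
      _ = z := by rw [this, mul_one, hzi]
  rw [hmz, hzc] at hm3
  -- `c = c⁻¹`
  rw [pow_two]
  calc c * c = c * c⁻¹ := by rw [← hm3]
    _ = 1 := mul_inv_cancel c

/-- **The sign argument.** -/
theorem c_sq (x y z : G)
    (h2 : x ^ 2 * y * x ^ 2 * y⁻¹ = 1)
    (h4 : (x⁻¹ * y ^ 2 * x * y ^ 3) ^ 3 = 1)
    (h7 : z ^ 2 = 1)
    (h8 : (z * x) ^ 2 = 1)
    (h9 : z⁻¹ * (y * x * y * x * y ^ 2 * x * y⁻¹)⁻¹ * z * (y * x * y * x * y ^ 2 * x * y⁻¹) *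
      (x ^ 2)⁻¹ = 1)
    (h10 : z * (((y ^ 3 * x * y * x * y)⁻¹ * z * (y ^ 3 * x * y * x * y)) * x) ^ 3 = 1)
    (hv : cj (y ^ 3 * x * y * x * y)
        (x⁻¹ * ((y * x * y * x * y ^ 2 * x * y⁻¹) ^ 3 * x * (y * x * y * x * y ^ 2 * x * y⁻¹) * x *
          (y * x * y * x * y ^ 2 * x * y⁻¹) ^ 3)⁻¹ * x *
          ((y * x * y * x * y ^ 2 * x * y⁻¹) ^ 3 * x * (y * x * y * x * y ^ 2 * x * y⁻¹) * x *
          (y * x * y * x * y ^ 2 * x * y⁻¹) ^ 3)) =
        x⁻¹ * ((y * x * y * x * y ^ 2 * x * y⁻¹) ^ 3 * x * (y * x * y * x * y ^ 2 * x * y⁻¹) * x *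
          (y * x * y * x * y ^ 2 * x * y⁻¹) ^ 3)⁻¹ * x *
          ((y * x * y * x * y ^ 2 * x * y⁻¹) ^ 3 * x * (y * x * y * x * y ^ 2 * x * y⁻¹) * x *
          (y * x * y * x * y ^ 2 * x * y⁻¹) ^ 3)) :
    (x⁻¹ * ((y * x * y * x * y ^ 2 * x * y⁻¹) ^ 3 * x * (y * x * y * x * y ^ 2 * x * y⁻¹) * x *
          (y * x * y * x * y ^ 2 * x * y⁻¹) ^ 3)⁻¹ * x *
          ((y * x * y * x * y ^ 2 * x * y⁻¹) ^ 3 * x * (y * x * y * x * y ^ 2 * x * y⁻¹) * x *
          (y * x * y * x * y ^ 2 * x * y⁻¹) ^ 3)) ^ 2 = 1 :=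
  c_sq_aux x y z _ _ _ _ _ rfl rfl rfl rfl h2 h4 h7 h8 h9 h10 hv

end Cfsg.Agent.Helper5.HNSign
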