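import Mathlib
import Cfsg.Agent.Helper5.HNSign

/-!
# Words in two generators and their inverses, and the sign argument in terms of words
-/

set_option autoImplicit false

namespace Cfsg.Agent.Helper5.HNSign

variable {K : Type*} [Group K]

/-- the letters `x, x⁻¹, y, y⁻¹`. -/
def lt2 (x y : K) : ℕ → K
  | 0 => x
  | 1 => x⁻¹
  | 2 => y
  | 3 => y⁻¹
  | _ => 1

/-- the inverse letter. -/
def li : ℕ → ℕ
  | 0 => 1
  | 1 => 0
  | 2 => 3
  | 3 => 2
  | n => n

theorem lt2_li (x y : K) : ∀ c : ℕ, lt2 x y (li c) = (lt2 x y c)⁻¹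
  | 0 => rfl
  | 1 => (inv_inv x).symm
  | 2 => rfl
  | 3 => (inv_inv y).symm
  | _ + 4 => inv_one.symm

/-- evaluation of a word (a list of letters, read from left to right). -/
def evw (x y : K) (l : List ℕ) : K := (l.map (lt2 x y)).prod

theorem evw_nil (x y : K) : evw x y [] = 1 := rfl

theorem evw_cons (x y : K) (c : ℕ) (l : List ℕ) : evw x y (c :: l) = lt2 x y c * evw x y l := by
  simp [evw]

theorem evw_append (x y : K) (l₁ l₂ : List ℕ) :
    evw x y (l₁ ++ l₂) = evw x y l₁ * evw x y l₂ := by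
  simp [evw]

theorem evw_single (x y : K) (c : ℕ) : evw x y [c] = lt2 x y c := by
  simp [evw]

/-- the inverse word. -/
def linv (l : List ℕ) : List ℕ := (l.map li).reverse

theorem evw_linv (x y : K) : ∀ l : List ℕ, evw x y (linv l) = (evw x y l)⁻¹
  | [] => by simp [linv, evw]
  | c :: l => by
    have h : linv (c :: l) = linv l ++ [li c] := by simp [linv]
    rw [h, evw_append, evw_linv x y l, evw_single, lt2_li, evw_cons, mul_inv_rev]

theorem map_evw {K' : Type*} [Group K'] (f : K →* K') (x y : K) (l : List ℕ) :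
    f (evw x y l) = evw (f x) (f y) l := by
  induction l with
  | nil => simp [evw]
  | cons c l ih =>
    rw [evw_cons, evw_cons, map_mul, ih]
    congr 1
    rcases c with _ | _ | _ | _ | c
    · rfl
    · exact map_inv f x
    · rfl
    · exact map_inv f y
    · exact map_one f

/-- `w = y x y x y² x y⁻¹`. -/
def lw : List ℕ := [2, 0, 2, 0, 2, 2, 0, 3]
/-- `b = w³ x w x w³`. -/
def lb : List ℕ := lw ++ lw ++ lw ++ [0] ++ lw ++ [0] ++ lw ++ lw ++ lw
/-- `c = x⁻¹ b⁻¹ x b`. -/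
def lc : List ℕ := [1] ++ linv lb ++ [0] ++ lb
/-- `v = y³ x y x y`. -/
def lv : List ℕ := [2, 2, 2, 0, 2, 0, 2]
/-- `R = v c v⁻¹ c⁻¹`. -/
def lR : List ℕ := lv ++ lc ++ linv lv ++ linv lc

theorem evw_lw (x y : K) : evw x y lw = y * x * y * x * y ^ 2 * x * y⁻¹ := by
  simp [evw, lw, lt2, pow_succ, mul_assoc]

theorem evw_lv (x y : K) : evw x y lv = y ^ 3 * x * y * x * y := by
  simp [evw, lv, lt2, pow_succ, mul_assoc]

theorem evw_lb (x y : K) : evw x y lb =
    (evw x y lw) ^ 3 * x * evw x y lw * x * (evw x y lw) ^ 3 := by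
  simp only [lb, evw_append, evw_single, lt2, pow_succ, pow_zero, one_mul, mul_assoc]

theorem evw_lc (x y : K) : evw x y lc = x⁻¹ * (evw x y lb)⁻¹ * x * evw x y lb := by
  simp only [lc, evw_append, evw_single, evw_linv, lt2]

theorem evw_lR (x y : K) : evw x y lR = cj (evw x y lv) (evw x y lc) * (evw x y lc)⁻¹ := by
  simp only [lR, evw_append, evw_linv, cj]

/-- **The sign argument**, in terms of words. -/
theorem c_sq' (x y z : K)
    (h2 : x ^ 2 * y * x ^ 2 * y⁻¹ = 1)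
    (h4 : (x⁻¹ * y ^ 2 * x * y ^ 3) ^ 3 = 1)
    (h7 : z ^ 2 = 1)
    (h8 : (z * x) ^ 2 = 1)
    (h9 : z⁻¹ * (y * x * y * x * y ^ 2 * x * y⁻¹)⁻¹ * z * (y * x * y * x * y ^ 2 * x * y⁻¹) *
      (x ^ 2)⁻¹ = 1)
    (h10 : z * (((y ^ 3 * x * y * x * y)⁻¹ * z * (y ^ 3 * x * y * x * y)) * x) ^ 3 = 1)
    (hR : evw x y lR = 1) :
    (evw x y lc) ^ 2 = 1 := by
  refine c_sq_aux x y z (evw x y lw) (evw x y lb) (evw x y lc) (evw x y lv) (x ^ 2)
    (evw_lw x y) (evw_lb x y) (evw_lc x y) rfl h2 h4 h7 h8 ?_ ?_ ?_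
  · rw [evw_lw]; exact h9
  · rw [evw_lv]; exact h10
  · rw [evw_lR] at hR
    exact mul_inv_eq_one.1 hR

end Cfsg.Agent.Helper5.HNSign
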