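import Mathlib
import Cfsg.Agent.Helper5.TCIB

/-!
# Certified coset enumeration: exporting the permutation representation

The same statements as in `TCIB`, with the homomorphism onto the permutations of the coset table and
the fact that the stabiliser of the base point is the subgroup as additional conclusions.
-/

set_option autoImplicit false

namespace Cfsg.Agent.Helper5.TCI

open Cfsg.Agent.Helper5.TC

section main
variable {G : Type*} [Group G] {g : ℕ → G} {D : Dat} {T : ℕ → ℕ → ℕ}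

/-- the index theorem, exporting the permutation representation on the cosets and the fact that
the stabiliser of the base point is the subgroup. -/
theorem index_rho_of_boundI {N : ℕ} (ι : ℕ → ℕ) (H : Subgroup G)
    (hιι : ∀ x, ι (ι x) = x) (hιk : ∀ x, x < D.k → ι x < D.k) (hι16 : ∀ x, x < 16 → ι x < 16)
    (hinv : ∀ x, x < D.k → g x * g (ι x) = 1)
    (hrel : ∀ wi, wi < D.nrel → rprod g (unpack (D.wlen wi) (D.wordP wi)) = 1)
    (hsub1 : ∀ wi, D.nrel ≤ wi → wi < D.nw → rprod g (unpack (D.wlen wi) (D.wordP wi)) ∈ H)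
    (hsub2 : H ≤ Subgroup.closure {a | ∃ wi, D.nrel ≤ wi ∧ wi < D.nw ∧
      a = rprod g (unpack (D.wlen wi) (D.wordP wi))})
    (huniv : ∀ σ : ℕ → Equiv.Perm (Fin N), (∀ x, σ x * σ (ι x) = 1) →
      (∀ wi, wi < D.nrel → rprod σ (unpack (D.wlen wi) (D.wordP wi)) = 1) →
      ∃ ρ : G →* Equiv.Perm (Fin N), ∀ x, x < D.k → ρ (g x) = σ x)
    (hle : D.nrel ≤ D.nw)
    (hrev : revOKI ι D D.nw = true)
    (hub : HypI ι g ((1 : G) : G ⧸ H) D → (∀ q : G ⧸ H, ∃ a : G, a • ((1 : G) : G ⧸ H) = q) →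
      Finite (G ⧸ H) ∧ Nat.card (G ⧸ H) ≤ N)
    (hN : 0 < N)
    (hT : ∀ x, x < D.k → ∀ v, v < N → T x v < N ∧ T (ι x) (T x v) = v)
    (hltr : ∀ j, j < D.nw → lettersOK D.k (D.wlen j) (D.wordP j) = true)
    (hrelT : ∀ wi, wi < D.nrel → ∀ v, v < N → walkT T (D.wlen wi) (D.wordP wi) v = v)
    (hsubT : ∀ wi, wi < D.nw → D.nrel ≤ wi → walkT T (D.wlen wi) (D.wordP wi) 0 = 0)
    (hconn : ∀ v, v < N → v ≠ 0 → ∃ x, x < D.k ∧ T x v < v) :
    Finite (G ⧸ H) ∧ H.index = N ∧ ∃ ρ : G →* Equiv.Perm (Fin N),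
      (∀ x, x < D.k → ρ (g x) = tblPermI T ι N x) ∧
      (∀ a, ρ a ⟨0, hN⟩ = ⟨0, hN⟩ → a ∈ H) := by
  classical
  -- the upper bound
  have hH : HypI ι g ((1 : G) : G ⧸ H) D := by
    refine ⟨hinv, fun wi hwi => lettersOK_spec D.k _ _ (hltr wi hwi),
      revOKI_spec ι hι16 D D.nw hrev, ?_, ?_, hle⟩
    · intro wi hwi q
      rw [hrel wi hwi, one_smul]
    · intro wi hwi
      by_cases h : wi < D.nrel
      · rw [hrel wi h, one_smul]
      · rw [not_lt] at h
        rw [MulAction.Quotient.smul_coe, smul_eq_mul, mul_one]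
        rw [QuotientGroup.eq, mul_one]
        exact H.inv_mem (hsub1 wi h hwi)
  have htr : ∀ q : G ⧸ H, ∃ a : G, a • ((1 : G) : G ⧸ H) = q := by
    intro q
    induction q using QuotientGroup.induction_on with
    | H a => exact ⟨a, by rw [MulAction.Quotient.smul_coe, smul_eq_mul, mul_one]⟩
  obtain ⟨hfin, hcard⟩ := hub hH htr
  -- the representation
  have hσrel : ∀ wi, wi < D.nrel →
      rprod (tblPermI T ι N) (unpack (D.wlen wi) (D.wordP wi)) = 1 := by
    intro wi hwi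
    ext v
    rw [walkT_specI hιι hιk hT _ _ (hltr wi (lt_of_lt_of_le hwi hle)),
      hrelT wi hwi v.1 v.2]
    rfl
  obtain ⟨ρ, hρ⟩ := huniv (tblPermI T ι N) (tblPermI_mul T ι hιι N) hσrel
  have hword : ∀ j, j < D.nw → ∀ v : Fin N,
      ((ρ (rprod g (unpack (D.wlen j) (D.wordP j)))) v).val
        = walkT T (D.wlen j) (D.wordP j) v.val := by
    intro j hj v
    rw [map_rprod, rprod_congr (γ' := tblPermI T ι N) hρ _ (lettersOK_spec D.k _ _ (hltr j hj)),
      walkT_specI hιι hιk hT _ _ (hltr j hj)]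
  let z : Fin N := ⟨0, hN⟩
  -- the subgroup fixes `0`
  have hfix' : ∀ a ∈ Subgroup.closure {a | ∃ wi, D.nrel ≤ wi ∧ wi < D.nw ∧
      a = rprod g (unpack (D.wlen wi) (D.wordP wi))}, ρ a z = z := by
    intro a ha'
    induction ha' using Subgroup.closure_induction with
    | mem y hy =>
      obtain ⟨wi, h1, h2, rfl⟩ := hy
      apply Fin.ext
      rw [hword wi h2]
      exact hsubT wi h2 h1
    | one => simp
    | mul a b _ _ iha ihb => rw [map_mul, Equiv.Perm.mul_apply, ihb, iha]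
    | inv a _ iha =>
      rw [map_inv, Equiv.Perm.inv_eq_iff_eq, iha]
  have hfix : ∀ a ∈ H, ρ a z = z := fun a ha => hfix' a (hsub2 ha)
  -- transitivity
  have htrans : ∀ (n : ℕ) (v : Fin N), v.val = n → ∃ a : G, ρ a z = v := by
    intro n
    induction n using Nat.strong_induction_on with
    | _ n ih =>
      intro v hv
      by_cases h0 : v.val = 0
      · exact ⟨1, by rw [map_one]; exact Fin.ext h0.symm⟩
      · obtain ⟨x, hx, hlt⟩ := hconn v.1 v.2 h0
        obtain ⟨a, ha⟩ := ih (T x v.1) (hv ▸ hlt) ⟨T x v.1, (hT x hx v.1 v.2).1⟩ rfl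
        refine ⟨g (ι x) * a, ?_⟩
        rw [map_mul, Equiv.Perm.mul_apply, ha, hρ (ι x) (hιk x hx)]
        apply Fin.ext
        rw [tblPermI_apply (tbl_both hιι hιk hT (hιk x hx))]
        exact (hT x hx v.1 v.2).2
  -- the map
  let φ₀ : G ⧸ H → Fin N := fun q => Quotient.liftOn' q (fun a => ρ a z) (by
    intro a b hab
    rw [QuotientGroup.leftRel_apply] at hab
    have := hfix _ hab
    rw [map_mul, map_inv, Equiv.Perm.mul_apply, Equiv.Perm.inv_eq_iff_eq] at this
    exact this.symm)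
  have hsurj : Function.Surjective φ₀ := by
    intro v
    obtain ⟨a, ha⟩ := htrans v.1 v rfl
    exact ⟨(a : G ⧸ H), ha⟩
  have hcardN : Nat.card (Fin N) = N := by simp
  have hge : N ≤ Nat.card (G ⧸ H) := by
    have := Nat.card_le_card_of_surjective φ₀ hsurj
    rwa [hcardN] at this
  have hidx : H.index = N := le_antisymm hcard hge
  refine ⟨hfin, hidx, ρ, hρ, ?_⟩
  intro a ha
  have hbij : Function.Bijective φ₀ := by
    apply Function.Surjective.bijective_of_nat_card_le hsurj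
    rw [hcardN]
    exact hcard
  have h1 : φ₀ (a : G ⧸ H) = φ₀ ((1 : G) : G ⧸ H) := by
    show ρ a z = ρ 1 z
    rw [map_one]
    exact ha
  have h2 := hbij.1 h1
  rw [QuotientGroup.eq, mul_one] at h2
  exact (H.inv_mem_iff).1 h2

end main

section
variable {α : Type}

/-- certified coset enumeration in a presented group, exporting the representation. -/
theorem presented_index_rho (rels : Set (FreeGroup α)) (subs : List (FreeGroup α))
    (ι : ℕ → ℕ) (gw : ℕ → FreeGroup α) (enc : α → ℕ) (E : Dat2) {N RS : ℕ} {T : ℕ → ℕ → ℕ}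
    (hιι : ∀ x, ι (ι x) = x) (hιk : ∀ x, x < E.D.k → ι x < E.D.k)
    (hι16 : ∀ x, x < 16 → ι x < 16)
    (henc : ∀ z, enc z < E.D.k) (hgw : ∀ z, gw (enc z) = FreeGroup.of z)
    (hgwinv : ∀ x, PresentedGroup.mk rels (gw x) * PresentedGroup.mk rels (gw (ι x)) = 1)
    (hgwm : ∀ x, x < E.D.k → ∀ (K : Type) [Group K] (γ : ℕ → K), (∀ y, γ y * γ (ι y) = 1) →
      FreeGroup.lift (fun z => γ (enc z)) (gw x) = γ x)
    (hnw : E.D.nw = E.D.nrel + subs.length)
    (hA : ∀ wi, wi < E.D.nrel →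
      (∃ r ∈ rels, WordMatchI ι enc r (E.D.wlen wi) (E.D.wordP wi)) ∨
      (∃ x, unpack (E.D.wlen wi) (E.D.wordP wi) = [x, ι x]))
    (hC : ∀ r ∈ rels, ∃ wi, wi < E.D.nrel ∧ WordMatchI ι enc r (E.D.wlen wi) (E.D.wordP wi))
    (hsubs : ∀ i (hi : i < subs.length),
      WordMatchI ι enc (subs[i]) (E.D.wlen (E.D.nrel + i)) (E.D.wordP (E.D.nrel + i)))
    (hrev : revOKI ι E.D E.D.nw = true)
    (hE : ∀ v, v < E.M → ∀ x, x < E.D.k → edgeOKI ι E x v = true)
    (hAl : ∀ v, v < E.M → aliasOK E v = true)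
    (hset : setOK E.M N RS = true)
    (hrows : ∀ v, v < E.M → tb RS v = true → rowOK2 E RS v E.D.k = true)
    (hN : 0 < N)
    (hT : ∀ x, x < E.D.k → ∀ v, v < N → T x v < N ∧ T (ι x) (T x v) = v)
    (hltr : ∀ j, j < E.D.nw → lettersOK E.D.k (E.D.wlen j) (E.D.wordP j) = true)
    (hrelT : ∀ wi, wi < E.D.nrel → ∀ v, v < N →
      walkT T (E.D.wlen wi) (E.D.wordP wi) v = v)
    (hsubT : ∀ wi, wi < E.D.nw → E.D.nrel ≤ wi →
      walkT T (E.D.wlen wi) (E.D.wordP wi) 0 = 0)
    (hconn : ∀ v, v < N → v ≠ 0 → ∃ x, x < E.D.k ∧ T x v < v) :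
    Finite (PresentedGroup rels ⧸ (Subgroup.closure {s | s ∈ subs}).map (PresentedGroup.mk rels)) ∧
    ((Subgroup.closure {s | s ∈ subs}).map (PresentedGroup.mk rels)).index = N ∧
    ∃ ρ : PresentedGroup rels →* Equiv.Perm (Fin N),
      (∀ x, x < E.D.k → ρ (PresentedGroup.mk rels (gw x)) = tblPermI T ι N x) ∧
      (∀ a, ρ a ⟨0, hN⟩ = ⟨0, hN⟩ →
        a ∈ (Subgroup.closure {s | s ∈ subs}).map (PresentedGroup.mk rels)) := by
  set g : ℕ → PresentedGroup rels := fun x => PresentedGroup.mk rels (gw x) with hg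
  have hgenc : (fun z => g (enc z)) = fun z => (PresentedGroup.of z : PresentedGroup rels) := by
    funext z
    simp only [hg, hgw]
    rfl
  have hinvG : ∀ x, g x * g (ι x) = 1 := hgwinv
  have hle : E.D.nrel ≤ E.D.nw := by omega
  have hgen : Subgroup.closure (g '' {x | x < E.D.k}) = ⊤ := by
    rw [eq_top_iff, ← PresentedGroup.closure_range_of]
    apply Subgroup.closure_mono
    rintro _ ⟨z, rfl⟩
    refine ⟨enc z, henc z, ?_⟩
    simp only [hg, hgw]
    rfl
  refine index_rho_of_boundI (g := g) (D := E.D) (T := T) ι _ hιι hιk hι16 (fun x _ => hinvG x)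
    ?_ ?_ ?_ ?_ hle hrev
    (fun hH htr => card_le_of_cert2I hH hgen htr hE hAl hset hrows) hN hT hltr hrelT hsubT hconn
  · -- relators
    intro wi hwi
    rcases hA wi hwi with ⟨r, hr, hm⟩ | ⟨x, hx⟩
    · rw [← hm _ g hinvG, hgenc, lift_mk_of]
      exact PresentedGroup.one_of_mem hr
    · rw [hx, rprod, rprod, rprod, one_mul]
      have := hinvG (ι x)
      rwa [hιι] at this
  · -- subgroup words lie in `H`
    intro wi h1 h2
    obtain ⟨i, rfl⟩ := Nat.exists_eq_add_of_le h1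
    have hi : i < subs.length := by omega
    rw [← hsubs i hi _ g hinvG, hgenc, lift_mk_of]
    exact Subgroup.mem_map_of_mem _ (Subgroup.subset_closure (List.getElem_mem hi))
  · -- `H` is generated by the subgroup words
    rw [MonoidHom.map_closure]
    apply Subgroup.closure_mono
    rintro _ ⟨s, hs, rfl⟩
    obtain ⟨i, hi, rfl⟩ := List.getElem_of_mem hs
    refine ⟨E.D.nrel + i, Nat.le_add_right _ _, by omega, ?_⟩
    rw [← hsubs i hi _ g hinvG, hgenc, lift_mk_of]
  · -- the universal property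
    intro σ hσ hσrel
    have hall : ∀ r ∈ rels, FreeGroup.lift (fun z => σ (enc z)) r = 1 := by
      intro r hr
      obtain ⟨wi, hwi, hm⟩ := hC r hr
      rw [hm _ σ hσ]
      exact hσrel _ hwi
    refine ⟨PresentedGroup.toGroup hall, ?_⟩
    intro x hx
    simp only [hg]
    have h1 : PresentedGroup.toGroup hall (PresentedGroup.mk rels (gw x))
        = FreeGroup.lift (fun z => σ (enc z)) (gw x) := rfl
    rw [h1, hgwm x hx _ σ hσ]

end

end Cfsg.Agent.Helper5.TCI
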