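import Mathlib
import Cfsg.Agent.Helper5.TCSD
import Cfsg.Agent.Helper5.HNWord

/-!
# The group `⟨x, y⟩` of the Harada–Norton presentation: the generic part

`L` is the group presented by the six relators in `x` and `y` of the presentation of `HN`.  From a
certified coset enumeration over `⟨y⟩` (given here as hypotheses) we deduce that `L` is finite of
order at most `6 N`, that the word `R = [v, c]` is trivial in `L`, and that `c²` and `c⁴` are not.
-/

set_option autoImplicit false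

namespace Cfsg.Agent.Helper5.HNTow

open Cfsg.Agent.Helper5.TC Cfsg.Agent.Helper5.TCI Cfsg.Agent.Helper5.HNSign

/-- the free-group element of a letter. -/
def fl : ℕ → FreeGroup (Fin 2) := lt2 (FreeGroup.of 0) (FreeGroup.of 1)

/-- the free-group element of a word. -/
def fw (l : List ℕ) : FreeGroup (Fin 2) := evw (FreeGroup.of 0) (FreeGroup.of 1) l

theorem fw_cons (c : ℕ) (l : List ℕ) : fw (c :: l) = fl c * fw l := evw_cons _ _ c l

/-- the six relators in `x` and `y`. -/
def relW : List (List ℕ) :=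
  [[2, 2, 2, 2, 2, 2],
   [0, 0, 2, 0, 0, 3],
   [1, 3, 0, 2, 1, 3, 0, 2, 1, 3, 0, 2],
   [1, 2, 2, 0, 2, 2, 2, 1, 2, 2, 0, 2, 2, 2, 1, 2, 2, 0, 2, 2, 2],
   [0, 2, 0, 2, 0, 2, 0, 2, 0, 2, 0, 2, 0, 2, 0, 2],
   [0, 2, 0, 2, 2, 2, 0, 2, 0, 2, 2, 2, 0, 2, 0, 2, 2, 2, 0, 2, 0, 2, 2, 2]]

/-- the relators. -/
def rels : Set (FreeGroup (Fin 2)) := {r | ∃ l ∈ relW, r = fw l}

/-- the presented group. -/
abbrev L : Type := PresentedGroup rels

/-- the generators. -/
def xL : L := PresentedGroup.mk rels (FreeGroup.of 0)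
/-- the generators. -/
def yL : L := PresentedGroup.mk rels (FreeGroup.of 1)

theorem mk_fw (l : List ℕ) : PresentedGroup.mk rels (fw l) = evw xL yL l :=
  map_evw (PresentedGroup.mk rels) _ _ l

/-- the code of a generator. -/
def enc : Fin 2 → ℕ := ![0, 2]

/-- the subgroup generators. -/
def subs : List (FreeGroup (Fin 2)) := [FreeGroup.of 1]

/-- the pairing of the letters. -/
structure Iota (ι : ℕ → ℕ) : Prop where
  h0 : ι 0 = 1
  h1 : ι 1 = 0
  h2 : ι 2 = 3
  h3 : ι 3 = 2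
  hge : ∀ x, 4 ≤ x → ι x = x

theorem fl_ge {x : ℕ} (h : 4 ≤ x) : fl x = 1 := by
  obtain ⟨y, rfl⟩ := Nat.exists_eq_add_of_le h
  rw [Nat.add_comm]
  rfl

section
variable {ι : ℕ → ℕ} (hι : Iota ι)
include hι

theorem iota_lt4 : ∀ x, x < 4 → ι x < 4 := by
  intro x hx
  interval_cases x
  · rw [hι.h0]; norm_num
  · rw [hι.h1]; norm_num
  · rw [hι.h2]; norm_num
  · rw [hι.h3]; norm_num

theorem iota_iota (x : ℕ) : ι (ι x) = x := by
  rcases Nat.lt_or_ge x 4 with h | h
  · interval_cases x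
    · rw [hι.h0, hι.h1]
    · rw [hι.h1, hι.h0]
    · rw [hι.h2, hι.h3]
    · rw [hι.h3, hι.h2]
  · rw [hι.hge x h, hι.hge x h]

theorem iota_lt16 (x : ℕ) (h : x < 16) : ι x < 16 := by
  rcases Nat.lt_or_ge x 4 with h4 | h4
  · have := iota_lt4 hι x h4
    omega
  · rw [hι.hge x h4]
    exact h

theorem fl_inv (x : ℕ) :
    PresentedGroup.mk rels (fl x) * PresentedGroup.mk rels (fl (ι x)) = 1 := by
  rcases Nat.lt_or_ge x 4 with h | h
  · interval_cases x
    · rw [hι.h0]
      show PresentedGroup.mk rels (FreeGroup.of 0) * PresentedGroup.mk rels (FreeGroup.of 0)⁻¹ = 1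
      rw [map_inv, mul_inv_cancel]
    · rw [hι.h1]
      show PresentedGroup.mk rels (FreeGroup.of 0)⁻¹ * PresentedGroup.mk rels (FreeGroup.of 0) = 1
      rw [map_inv, inv_mul_cancel]
    · rw [hι.h2]
      show PresentedGroup.mk rels (FreeGroup.of 1) * PresentedGroup.mk rels (FreeGroup.of 1)⁻¹ = 1
      rw [map_inv, mul_inv_cancel]
    · rw [hι.h3]
      show PresentedGroup.mk rels (FreeGroup.of 1)⁻¹ * PresentedGroup.mk rels (FreeGroup.of 1) = 1
      rw [map_inv, inv_mul_cancel]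
  · rw [hι.hge x h, fl_ge h, map_one, one_mul]

theorem fl_match (x : ℕ) (hx : x < 4) (K : Type) [Group K] (γ : ℕ → K)
    (hγ : ∀ y, γ y * γ (ι y) = 1) :
    FreeGroup.lift (fun z => γ (enc z)) (fl x) = γ x := by
  interval_cases x
  · exact FreeGroup.lift_apply_of
  · show FreeGroup.lift (fun z => γ (enc z)) (FreeGroup.of 0)⁻¹ = γ 1
    rw [map_inv, FreeGroup.lift_apply_of]
    have := hγ 0
    rw [hι.h0] at this
    exact inv_eq_of_mul_eq_one_right this
  · exact FreeGroup.lift_apply_of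
  · show FreeGroup.lift (fun z => γ (enc z)) (FreeGroup.of 1)⁻¹ = γ 3
    rw [map_inv, FreeGroup.lift_apply_of]
    have := hγ 2
    rw [hι.h2] at this
    exact inv_eq_of_mul_eq_one_right this

theorem wordMatch_fw (l : List ℕ) (hl : ∀ c ∈ l, c < 4) (n w : ℕ)
    (hu : unpack n w = l.reverse) : WordMatchI ι enc (fw l) n w := by
  intro K _ γ hγ
  rw [hu]
  clear hu
  induction l with
  | nil => simp [fw, evw, rprod]
  | cons c l ih =>
    rw [fw_cons, map_mul, ih (fun c hc => hl c (List.mem_cons_of_mem _ hc)),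
      fl_match hι c (hl c List.mem_cons_self) K γ hγ, List.reverse_cons, rprod_append]
    simp [rprod]

end

theorem relW_lt : ∀ l ∈ relW, ∀ c ∈ l, c < 4 := by decide

theorem relW_len : relW.length = 6 := rfl

/-- the word facts about the table which we need: the word `l` (read as a group element) maps the
point `v` to the point `v'`. -/
def WF (T : ℕ → ℕ → ℕ) (l : List ℕ) (v v' : ℕ) : Prop :=
  ∃ n w, unpack n w = l.reverse ∧ lettersOK 4 n w = true ∧ walkT T n w v = v'

/-- `y⁶ = 1`. -/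
theorem yL_pow : yL ^ 6 = 1 := by
  have hm : fw [2, 2, 2, 2, 2, 2] ∈ rels := ⟨_, by decide, rfl⟩
  have h := PresentedGroup.one_of_mem hm
  rw [mk_fw] at h
  rw [← h]
  simp [evw, lt2, pow_succ, mul_assoc]

theorem subs_set : {s | s ∈ subs} = ({FreeGroup.of (1 : Fin 2)} : Set (FreeGroup (Fin 2))) := by
  ext s
  simp [subs]

theorem map_closure_eq :
    (Subgroup.closure {s | s ∈ subs}).map (PresentedGroup.mk rels) = Subgroup.zpowers yL := by
  rw [subs_set, MonoidHom.map_closure, Set.image_singleton, Subgroup.zpowers_eq_closure]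
  rfl

/-- **The generic statement.** -/
theorem towerA (ι : ℕ → ℕ) (hι : Iota ι) (E : Dat2) (T : ℕ → ℕ → ℕ) (RS N : ℕ)
    (hk : E.D.k = 4) (hnrel : E.D.nrel = 10) (hnw : E.D.nw = 11)
    (hw : ∀ i (hi : i < relW.length),
      unpack (E.D.wlen i) (E.D.wordP i) = (relW[i]).reverse)
    (hp : ∀ i, i < 4 → unpack (E.D.wlen (6 + i)) (E.D.wordP (6 + i)) = [i, ι i])
    (hs : unpack (E.D.wlen 10) (E.D.wordP 10) = [2])
    (hrev : revOKI ι E.D E.D.nw = true)
    (hE : ∀ v, v < E.M → ∀ x, x < E.D.k → edgeOKI ι E x v = true)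
    (hAl : ∀ v, v < E.M → aliasOK E v = true)
    (hset : setOK E.M N RS = true)
    (hrows : ∀ v, v < E.M → tb RS v = true → rowOK2 E RS v E.D.k = true)
    (hN : 0 < N)
    (hT : ∀ x, x < E.D.k → ∀ v, v < N → T x v < N ∧ T (ι x) (T x v) = v)
    (hltr : ∀ j, j < E.D.nw → lettersOK E.D.k (E.D.wlen j) (E.D.wordP j) = true)
    (hrelT : ∀ wi, wi < E.D.nrel → ∀ v, v < N →
      walkT T (E.D.wlen wi) (E.D.wordP wi) v = v)
    (hsubT : ∀ wi, wi < E.D.nw → E.D.nrel ≤ wi →
      walkT T (E.D.wlen wi) (E.D.wordP wi) 0 = 0)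
    (hconn : ∀ v, v < N → v ≠ 0 → ∃ x, x < E.D.k ∧ T x v < v)
    (p1 : ℕ) (hp1 : p1 < N)
    (hR0 : WF T lR 0 0) (hR1 : WF T lR p1 p1)
    (hy : ∀ r, 0 < r → r < 6 → (T 2)^[r] p1 ≠ p1)
    (v2 v4 : ℕ) (hv2 : v2 ≠ 0) (hv4 : v4 ≠ 0)
    (hc2 : WF T (lc ++ lc) 0 v2) (hc4 : WF T ((lc ++ lc) ++ (lc ++ lc)) 0 v4) :
    Finite L ∧ Nat.card L ≤ 6 * N ∧ evw xL yL lR = 1 ∧
      (evw xL yL lc) ^ 2 ≠ 1 ∧ (evw xL yL lc) ^ 4 ≠ 1 := by
  have hιι := iota_iota hι
  have hιk : ∀ x, x < E.D.k → ι x < E.D.k := by rw [hk]; exact iota_lt4 hι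
  -- word matching
  have wm_rel : ∀ i (hi : i < relW.length),
      WordMatchI ι enc (fw relW[i]) (E.D.wlen i) (E.D.wordP i) := fun i hi =>
    wordMatch_fw hι _ (relW_lt relW[i] (List.getElem_mem hi)) _ _ (hw i hi)
  have relA : ∀ wi, wi < E.D.nrel →
      (∃ r ∈ rels, WordMatchI ι enc r (E.D.wlen wi) (E.D.wordP wi)) ∨
      (∃ x, unpack (E.D.wlen wi) (E.D.wordP wi) = [x, ι x]) := by
    intro wi hwi
    rw [hnrel] at hwi
    rcases Nat.lt_or_ge wi 6 with h6 | h6
    · left
      have hlen : wi < relW.length := h6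
      exact ⟨fw relW[wi], ⟨relW[wi], List.getElem_mem hlen, rfl⟩, wm_rel wi hlen⟩
    · right
      obtain ⟨i, rfl⟩ := Nat.exists_eq_add_of_le h6
      exact ⟨i, hp i (by omega)⟩
  have relC : ∀ r ∈ rels, ∃ wi, wi < E.D.nrel ∧
      WordMatchI ι enc r (E.D.wlen wi) (E.D.wordP wi) := by
    rintro r ⟨l, hl, rfl⟩
    obtain ⟨i, hi, rfl⟩ := List.getElem_of_mem hl
    have hi' : i < 6 := hi
    exact ⟨i, (by rw [hnrel]; omega), wm_rel i hi⟩
  have subs_match : ∀ i (hi : i < subs.length),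
      WordMatchI ι enc (subs[i]) (E.D.wlen (E.D.nrel + i)) (E.D.wordP (E.D.nrel + i)) := by
    intro i hi
    have hi' : i < 1 := hi
    interval_cases i
    rw [hnrel]
    have := wordMatch_fw hι [2] (by decide) _ _ hs
    have h10 : WordMatchI ι enc (FreeGroup.of 1) (E.D.wlen 10) (E.D.wordP 10) := by
      simpa [fw, evw, lt2] using this
    exact h10
  obtain ⟨hfin, hidx, ρ, hρ, hstab⟩ :=
    presented_index_rho rels subs ι fl enc E (T := T) (N := N) (RS := RS)
      hιι hιk (iota_lt16 hι)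
      (by intro z; rw [hk]; fin_cases z <;> decide)
      (by intro z; fin_cases z <;> rfl)
      (fl_inv hι) (by rw [hk]; exact fl_match hι) (by rw [hnw, hnrel]; rfl)
      relA relC subs_match hrev hE hAl hset hrows hN hT hltr hrelT hsubT hconn
  rw [hk] at hρ hT
  -- the action of words
  have hword : ∀ (l : List ℕ) (v v' : ℕ) (hv : v < N), WF T l v v' →
      (ρ (evw xL yL l) ⟨v, hv⟩).val = v' := by
    intro l v v' hv ⟨n, w, hu, hl, hwalk⟩
    have hl4 : ∀ c ∈ l, c < 4 := by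
      intro c hc
      apply lettersOK_spec 4 n w hl
      rw [hu]
      exact List.mem_reverse.2 hc
    have e1 : ρ (evw xL yL l) = rprod (tblPermI T ι N) l.reverse := by
      clear hu
      induction l with
      | nil => simp [evw, rprod]
      | cons c l ih =>
        rw [evw_cons, map_mul, ih (fun c hc => hl4 c (List.mem_cons_of_mem _ hc)),
          List.reverse_cons, rprod_append]
        congr 1
        have hc : c < 4 := hl4 c List.mem_cons_self
        rw [rprod, rprod, one_mul, ← hρ c hc]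
        congr 1
        interval_cases c
        · rfl
        · exact (map_inv _ _).symm
        · rfl
        · exact (map_inv _ _).symm
    rw [e1, ← hu, walkT_specI hιι (iota_lt4 hι) hT n w hl]
    exact hwalk
  have z0 : (0 : ℕ) < N := hN
  -- `R ∈ ⟨y⟩`
  have hRmem : evw xL yL lR ∈ Subgroup.zpowers yL := by
    rw [← map_closure_eq]
    apply hstab
    apply Fin.ext
    exact hword lR 0 0 hN hR0
  obtain ⟨k, hk'⟩ := Subgroup.mem_zpowers_iff.1 hRmem
  have h6 : yL ^ (6 : ℤ) = 1 := by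
    have := yL_pow
    exact_mod_cast this
  have hk2 : yL ^ k = yL ^ (k % 6) := zpow_eq_zpow_emod k h6
  have hnn : 0 ≤ k % 6 := Int.emod_nonneg k (by norm_num)
  have hlt : k % 6 < 6 := Int.emod_lt_of_pos k (by norm_num)
  obtain ⟨r, hr⟩ := Int.eq_ofNat_of_zero_le hnn
  rw [hr] at hk2 hlt
  have hr6 : r < 6 := by exact_mod_cast hlt
  rw [zpow_natCast] at hk2
  -- powers of `y` on the table
  have hyact : ∀ (m : ℕ) (v : Fin N), ((ρ (yL ^ m)) v).val = (T 2)^[m] v.val := by
    intro m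
    induction m with
    | zero => intro v; simp
    | succ m ih =>
      intro v
      rw [pow_succ, map_mul, Equiv.Perm.mul_apply, ih, Function.iterate_succ_apply]
      congr 1
      have : ρ yL = tblPermI T ι N 2 := hρ 2 (by norm_num)
      rw [this, tblPermI_apply (tbl_both hιι (iota_lt4 hι) hT (by norm_num : 2 < 4))]
  have hR1' : evw xL yL lR = 1 := by
    rw [← hk', hk2]
    rcases Nat.eq_zero_or_pos r with h0 | hpos
    · rw [h0, pow_zero]
    · exfalso
      have h1 := hword lR p1 p1 hp1 hR1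
      rw [← hk', hk2, hyact r ⟨p1, hp1⟩] at h1
      exact hy r hpos hr6 h1
  -- the order
  have hcardH : Nat.card (Subgroup.zpowers yL) ≤ 6 := by
    rw [Nat.card_zpowers]
    exact orderOf_le_of_pow_eq_one (by norm_num) yL_pow
  have hcardL : Nat.card (Subgroup.zpowers yL) * N = Nat.card L := by
    have := Subgroup.card_mul_index (Subgroup.zpowers yL)
    rw [← map_closure_eq, hidx] at this
    rw [← map_closure_eq]
    exact this
  have hpos : 0 < Nat.card (Subgroup.zpowers yL) := by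
    rw [Nat.card_zpowers]
    exact orderOf_pos_iff.2 (isOfFinOrder_iff_pow_eq_one.2 ⟨6, by norm_num, yL_pow⟩)
  have hfinL : Finite L := by
    apply Nat.finite_of_card_ne_zero
    rw [← hcardL]
    exact Nat.mul_ne_zero hpos.ne' hN.ne'
  refine ⟨hfinL, ?_, hR1', ?_, ?_⟩
  · rw [← hcardL]
    exact Nat.mul_le_mul_right N hcardH
  · intro h
    have h1 := hword (lc ++ lc) 0 v2 hN hc2
    rw [evw_append, ← pow_two, h, map_one] at h1
    exact hv2 h1.symm
  · intro h
    have h1 := hword ((lc ++ lc) ++ (lc ++ lc)) 0 v4 hN hc4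
    have e : evw xL yL ((lc ++ lc) ++ (lc ++ lc)) = (evw xL yL lc) ^ 4 := by
      rw [evw_append, evw_append]
      simp only [pow_succ, pow_zero, one_mul, mul_assoc]
    rw [e, h, map_one] at h1
    exact hv4 h1.symm

end Cfsg.Agent.Helper5.HNTow
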