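import Mathlib
import Cfsg.Agent.Helper5.TCIB
import Cfsg.Agent.Helper5.HNTowG

/-!
# The group `⟨x, y, z⟩` of the Harada–Norton presentation: the generic part

`Ht` is the group presented by the ten relators in `x`, `y` and `z` of the presentation of `HN`
(with `z` written for `z⁻¹`).  From a certified coset enumeration over `⟨x, y⟩` (given here as
hypotheses) the index of `⟨x, y⟩` is `N`.
-/

set_option autoImplicit false

namespace Cfsg.Agent.Helper5.HNTow

open Cfsg.Agent.Helper5.TC Cfsg.Agent.Helper5.TCI Cfsg.Agent.Helper5.HNSign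

section
variable {K : Type*} [Group K]

/-- the letters `x, x⁻¹, y, y⁻¹, z`. -/
def lt3 (x y z : K) : ℕ → K
  | 0 => x
  | 1 => x⁻¹
  | 2 => y
  | 3 => y⁻¹
  | 4 => z
  | _ => 1

/-- evaluation of a word (a list of letters, read from left to right). -/
def evw3 (x y z : K) (l : List ℕ) : K := (l.map (lt3 x y z)).prod

theorem evw3_cons (x y z : K) (c : ℕ) (l : List ℕ) :
    evw3 x y z (c :: l) = lt3 x y z c * evw3 x y z l := by
  simp [evw3]

theorem map_evw3 {K' : Type*} [Group K'] (f : K →* K') (x y z : K) (l : List ℕ) :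
    f (evw3 x y z l) = evw3 (f x) (f y) (f z) l := by
  induction l with
  | nil => simp [evw3]
  | cons c l ih =>
    rw [evw3_cons, evw3_cons, map_mul, ih]
    congr 1
    rcases c with _ | _ | _ | _ | _ | c
    · rfl
    · exact map_inv f x
    · rfl
    · exact map_inv f y
    · rfl
    · exact map_one f

/-- words without the letter `z`. -/
theorem evw3_eq_evw (x y z : K) : ∀ l : List ℕ, (∀ c ∈ l, c < 4) → evw3 x y z l = evw x y l
  | [], _ => rfl
  | c :: l, h => by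
    rw [evw3_cons, evw_cons, evw3_eq_evw x y z l (fun d hd => h d (List.mem_cons_of_mem _ hd))]
    congr 1
    have hc : c < 4 := h c List.mem_cons_self
    interval_cases c <;> rfl

end

/-- the free-group element of a letter. -/
def fl3 : ℕ → FreeGroup (Fin 3) := lt3 (FreeGroup.of 0) (FreeGroup.of 1) (FreeGroup.of 2)

/-- the free-group element of a word. -/
def fw3 (l : List ℕ) : FreeGroup (Fin 3) := evw3 (FreeGroup.of 0) (FreeGroup.of 1) (FreeGroup.of 2) l

theorem fw3_cons (c : ℕ) (l : List ℕ) : fw3 (c :: l) = fl3 c * fw3 l := evw3_cons _ _ _ c l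

/-- the ten relators in `x`, `y` and `z`. -/
def relWH : List (List ℕ) :=
  [[2, 2, 2, 2, 2, 2],
   [0, 0, 2, 0, 0, 3],
   [1, 3, 0, 2, 1, 3, 0, 2, 1, 3, 0, 2],
   [1, 2, 2, 0, 2, 2, 2, 1, 2, 2, 0, 2, 2, 2, 1, 2, 2, 0, 2, 2, 2],
   [0, 2, 0, 2, 0, 2, 0, 2, 0, 2, 0, 2, 0, 2, 0, 2],
   [0, 2, 0, 2, 2, 2, 0, 2, 0, 2, 2, 2, 0, 2, 0, 2, 2, 2, 0, 2, 0, 2, 2, 2],
   [4, 4],
   [4, 0, 4, 0],
   [4, 2, 1, 3, 3, 1, 3, 1, 3, 4, 2, 0, 2, 0, 2, 2, 0, 3, 1, 1],
   [4, 3, 1, 3, 1, 3, 3, 3, 4, 2, 2, 2, 0, 2, 0, 2, 0, 3, 1, 3, 1, 3, 3, 3, 4, 2, 2, 2, 0, 2, 0,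
    2, 0, 3, 1, 3, 1, 3, 3, 3, 4, 2, 2, 2, 0, 2, 0, 2, 0]]

/-- the relators. -/
def relsH : Set (FreeGroup (Fin 3)) := {r | ∃ l ∈ relWH, r = fw3 l}

/-- the presented group. -/
abbrev Ht : Type := PresentedGroup relsH

/-- the generators. -/
def xH : Ht := PresentedGroup.mk relsH (FreeGroup.of 0)
/-- the generators. -/
def yH : Ht := PresentedGroup.mk relsH (FreeGroup.of 1)
/-- the generators. -/
def zH : Ht := PresentedGroup.mk relsH (FreeGroup.of 2)

theorem mk_fw3 (l : List ℕ) : PresentedGroup.mk relsH (fw3 l) = evw3 xH yH zH l :=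
  map_evw3 (PresentedGroup.mk relsH) _ _ _ l

/-- the code of a generator. -/
def enc3 : Fin 3 → ℕ := ![0, 2, 4]

/-- the subgroup generators. -/
def subs3 : List (FreeGroup (Fin 3)) := [FreeGroup.of 0, FreeGroup.of 1]

theorem fl3_ge {x : ℕ} (h : 5 ≤ x) : fl3 x = 1 := by
  obtain ⟨y, rfl⟩ := Nat.exists_eq_add_of_le h
  rw [Nat.add_comm]
  rfl

theorem zH_sq : zH * zH = 1 := by
  have hm : fw3 [4, 4] ∈ relsH := ⟨_, by decide, rfl⟩
  have h := PresentedGroup.one_of_mem hm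
  rw [mk_fw3] at h
  rw [← h]
  simp [evw3, lt3]

section
variable {ι : ℕ → ℕ} (hι : Iota ι)
include hι

theorem iota_lt5 : ∀ x, x < 5 → ι x < 5 := by
  intro x hx
  rcases Nat.lt_or_ge x 4 with h | h
  · have := iota_lt4 hι x h
    omega
  · rw [hι.hge x h]
    exact hx

theorem fl3_inv (x : ℕ) :
    PresentedGroup.mk relsH (fl3 x) * PresentedGroup.mk relsH (fl3 (ι x)) = 1 := by
  rcases Nat.lt_or_ge x 5 with h | h
  · interval_cases x
    · rw [hι.h0]
      show PresentedGroup.mk relsH (FreeGroup.of 0) * PresentedGroup.mk relsH (FreeGroup.of 0)⁻¹ = 1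
      rw [map_inv, mul_inv_cancel]
    · rw [hι.h1]
      show PresentedGroup.mk relsH (FreeGroup.of 0)⁻¹ * PresentedGroup.mk relsH (FreeGroup.of 0) = 1
      rw [map_inv, inv_mul_cancel]
    · rw [hι.h2]
      show PresentedGroup.mk relsH (FreeGroup.of 1) * PresentedGroup.mk relsH (FreeGroup.of 1)⁻¹ = 1
      rw [map_inv, mul_inv_cancel]
    · rw [hι.h3]
      show PresentedGroup.mk relsH (FreeGroup.of 1)⁻¹ * PresentedGroup.mk relsH (FreeGroup.of 1) = 1
      rw [map_inv, inv_mul_cancel]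
    · rw [hι.hge 4 (le_refl 4)]
      exact zH_sq
  · rw [hι.hge x (by omega), fl3_ge h, map_one, one_mul]

theorem fl3_match (x : ℕ) (hx : x < 5) (K : Type) [Group K] (γ : ℕ → K)
    (hγ : ∀ y, γ y * γ (ι y) = 1) :
    FreeGroup.lift (fun z => γ (enc3 z)) (fl3 x) = γ x := by
  interval_cases x
  · exact FreeGroup.lift_apply_of
  · show FreeGroup.lift (fun z => γ (enc3 z)) (FreeGroup.of 0)⁻¹ = γ 1
    rw [map_inv, FreeGroup.lift_apply_of]
    have := hγ 0
    rw [hι.h0] at this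
    exact inv_eq_of_mul_eq_one_right this
  · exact FreeGroup.lift_apply_of
  · show FreeGroup.lift (fun z => γ (enc3 z)) (FreeGroup.of 1)⁻¹ = γ 3
    rw [map_inv, FreeGroup.lift_apply_of]
    have := hγ 2
    rw [hι.h2] at this
    exact inv_eq_of_mul_eq_one_right this
  · exact FreeGroup.lift_apply_of

theorem wordMatch_fw3 (l : List ℕ) (hl : ∀ c ∈ l, c < 5) (n w : ℕ)
    (hu : unpack n w = l.reverse) : WordMatchI ι enc3 (fw3 l) n w := by
  intro K _ γ hγ
  rw [hu]
  clear hu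
  induction l with
  | nil => simp [fw3, evw3, rprod]
  | cons c l ih =>
    rw [fw3_cons, map_mul, ih (fun c hc => hl c (List.mem_cons_of_mem _ hc)),
      fl3_match hι c (hl c List.mem_cons_self) K γ hγ, List.reverse_cons, rprod_append]
    simp [rprod]

end

theorem relWH_lt : ∀ l ∈ relWH, ∀ c ∈ l, c < 5 := by decide

theorem relWH_len : relWH.length = 10 := rfl

/-- **The generic statement.** -/
theorem towerC (ι : ℕ → ℕ) (hι : Iota ι) (E : Dat2) (T : ℕ → ℕ → ℕ) (RS N : ℕ)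
    (hk : E.D.k = 5) (hnrel : E.D.nrel = 15) (hnw : E.D.nw = 17)
    (hw : ∀ i (hi : i < relWH.length),
      unpack (E.D.wlen i) (E.D.wordP i) = (relWH[i]).reverse)
    (hp : ∀ i, i < 5 → unpack (E.D.wlen (10 + i)) (E.D.wordP (10 + i)) = [i, ι i])
    (hs0 : unpack (E.D.wlen 15) (E.D.wordP 15) = [0])
    (hs1 : unpack (E.D.wlen 16) (E.D.wordP 16) = [2])
    (hrev : revOKI ι E.D E.D.nw = true)
    (hE : ∀ v, v < E.M → ∀ x, x < E.D.k → edgeOKI ι E x v = true)
    (hAl : ∀ v, v < E.M → aliasOK E v = true)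
    (hset : setOK E.M N RS = true)
    (hrows : ∀ v, v < E.M → tb RS v = true → rowOK2 E RS v E.D.k = true)
    (hN : 0 < N)
    (hT : ∀ x, x < E.D.k → ∀ v, v < N → T x v < N ∧ T (ι x) (T x v) = v)
    (hltr : ∀ j, j < E.D.nw → lettersOK E.D.k (E.D.wlen j) (E.D.wordP j) = true)
    (hrelT : ∀ wi, wi < E.D.nrel → ∀ v, v < N →
      walkT T (E.D.wlen wi) (E.D.wordP wi) v = v)
    (hsubT : ∀ wi, wi < E.D.nw → E.D.nrel ≤ wi →
      walkT T (E.D.wlen wi) (E.D.wordP wi) 0 = 0)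
    (hconn : ∀ v, v < N → v ≠ 0 → ∃ x, x < E.D.k ∧ T x v < v) :
    ((Subgroup.closure {s | s ∈ subs3}).map (PresentedGroup.mk relsH)).index = N := by
  have hιι := iota_iota hι
  have hιk : ∀ x, x < E.D.k → ι x < E.D.k := by rw [hk]; exact iota_lt5 hι
  have wm_rel : ∀ i (hi : i < relWH.length),
      WordMatchI ι enc3 (fw3 relWH[i]) (E.D.wlen i) (E.D.wordP i) := fun i hi =>
    wordMatch_fw3 hι _ (relWH_lt relWH[i] (List.getElem_mem hi)) _ _ (hw i hi)
  have relA : ∀ wi, wi < E.D.nrel →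
      (∃ r ∈ relsH, WordMatchI ι enc3 r (E.D.wlen wi) (E.D.wordP wi)) ∨
      (∃ x, unpack (E.D.wlen wi) (E.D.wordP wi) = [x, ι x]) := by
    intro wi hwi
    rw [hnrel] at hwi
    rcases Nat.lt_or_ge wi 10 with h6 | h6
    · left
      have hlen : wi < relWH.length := h6
      exact ⟨fw3 relWH[wi], ⟨relWH[wi], List.getElem_mem hlen, rfl⟩, wm_rel wi hlen⟩
    · right
      obtain ⟨i, rfl⟩ := Nat.exists_eq_add_of_le h6
      exact ⟨i, hp i (by omega)⟩
  have relC : ∀ r ∈ relsH, ∃ wi, wi < E.D.nrel ∧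
      WordMatchI ι enc3 r (E.D.wlen wi) (E.D.wordP wi) := by
    rintro r ⟨l, hl, rfl⟩
    obtain ⟨i, hi, rfl⟩ := List.getElem_of_mem hl
    have hi' : i < 10 := hi
    exact ⟨i, (by rw [hnrel]; omega), wm_rel i hi⟩
  have subs_match : ∀ i (hi : i < subs3.length),
      WordMatchI ι enc3 (subs3[i]) (E.D.wlen (E.D.nrel + i)) (E.D.wordP (E.D.nrel + i)) := by
    intro i hi
    have hi' : i < 2 := hi
    rw [hnrel]
    interval_cases i
    · have := wordMatch_fw3 hι [0] (by decide) _ _ hs0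
      have h15 : WordMatchI ι enc3 (FreeGroup.of 0) (E.D.wlen 15) (E.D.wordP 15) := by
        simpa [fw3, evw3, lt3] using this
      exact h15
    · have := wordMatch_fw3 hι [2] (by decide) _ _ hs1
      have h16 : WordMatchI ι enc3 (FreeGroup.of 1) (E.D.wlen 16) (E.D.wordP 16) := by
        simpa [fw3, evw3, lt3] using this
      exact h16
  exact presented_indexI relsH subs3 ι fl3 enc3 E (T := T) (N := N) (RS := RS)
      hιι hιk (iota_lt16 hι)
      (by intro z; rw [hk]; fin_cases z <;> decide)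
      (by intro z; fin_cases z <;> rfl)
      (fl3_inv hι) (by rw [hk]; exact fl3_match hι) (by rw [hnw, hnrel]; rfl)
      relA relC subs_match hrev hE hAl hset hrows hN hT hltr hrelT hsubT hconn

end Cfsg.Agent.Helper5.HNTow
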