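import Mathlib
import Cfsg.Prelude.Def_Spor_HN
import Cfsg.Agent.Helper5.HNTowH

/-!
# The order of `⟨x, y, z⟩` in the presented Harada–Norton group

In the group `G` presented by the fourteen relators, the subgroup generated by `x`, `y`, `z` is
finite of order at most `352 · 504000 = 177408000`.
-/

set_option autoImplicit false
set_option linter.unusedSimpArgs false

namespace Cfsg.Agent.Helper5.HNOrd

open Cfsg Cfsg.Spor Cfsg.Agent.Helper5.HNSign Cfsg.Agent.Helper5.HNTow

/-- the relators of the presentation. -/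
abbrev relsG : Set (FreeGroup HN.Gen) := coxRelators HN.edges ∪ {r | r ∈ HN.extra}

/-- the presented group. -/
abbrev G : Type := PresentedGroup relsG

/-- the generators. -/
def xG : G := PresentedGroup.mk relsG HN.x
/-- the generators. -/
def yG : G := PresentedGroup.mk relsG HN.y
/-- the generators. -/
def zG : G := PresentedGroup.mk relsG HN.z
/-- the generators. -/
def tG : G := PresentedGroup.mk relsG HN.t

theorem rel_G (i : ℕ) (hi : i < HN.extra.length) : PresentedGroup.mk relsG (HN.extra[i]) = 1 :=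
  PresentedGroup.one_of_mem (Or.inr (List.getElem_mem hi))

theorem g0 : yG ^ 6 = 1 := by
  have h := rel_G 0 (by decide)
  change PresentedGroup.mk relsG (HN.y ^ 6) = 1 at h
  simp only [map_pow] at h
  exact h

theorem g1 : xG ^ 2 * yG * xG ^ 2 * yG⁻¹ = 1 := by
  have h := rel_G 1 (by decide)
  change PresentedGroup.mk relsG ((HN.x ^ 2) * HN.y * (HN.x ^ 2) * (HN.y⁻¹)) = 1 at h
  simp only [map_mul, map_pow, map_inv] at h
  exact h

theorem g2 : (xG⁻¹ * yG⁻¹ * xG * yG) ^ 3 = 1 := by
  have h := rel_G 2 (by decide)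
  change PresentedGroup.mk relsG ((HN.x⁻¹ * HN.y⁻¹ * HN.x * HN.y) ^ 3) = 1 at h
  simp only [map_mul, map_pow, map_inv] at h
  exact h

theorem g3 : (xG⁻¹ * yG ^ 2 * xG * yG ^ 3) ^ 3 = 1 := by
  have h := rel_G 3 (by decide)
  change PresentedGroup.mk relsG (((HN.x⁻¹) * (HN.y ^ 2) * HN.x * (HN.y ^ 3)) ^ 3) = 1 at h
  simp only [map_mul, map_pow, map_inv] at h
  exact h

theorem g4 : (xG * yG) ^ 8 = 1 := by
  have h := rel_G 4 (by decide)
  change PresentedGroup.mk relsG ((HN.x * HN.y) ^ 8) = 1 at h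
  simp only [map_mul, map_pow, map_inv] at h
  exact h

theorem g5 : (xG * yG * xG * yG ^ 3) ^ 4 = 1 := by
  have h := rel_G 5 (by decide)
  change PresentedGroup.mk relsG ((HN.x * HN.y * HN.x * (HN.y ^ 3)) ^ 4) = 1 at h
  simp only [map_mul, map_pow, map_inv] at h
  exact h

theorem g6 : zG ^ 2 = 1 := by
  have h := rel_G 6 (by decide)
  change PresentedGroup.mk relsG (HN.z ^ 2) = 1 at h
  simp only [map_mul, map_pow, map_inv] at h
  exact h

theorem g7 : (zG * xG) ^ 2 = 1 := by
  have h := rel_G 7 (by decide)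
  change PresentedGroup.mk relsG ((HN.z * HN.x) ^ 2) = 1 at h
  simp only [map_mul, map_pow, map_inv] at h
  exact h

theorem g8 : zG⁻¹ * (yG * xG * yG * xG * yG ^ 2 * xG * yG⁻¹)⁻¹ * zG *
    (yG * xG * yG * xG * yG ^ 2 * xG * yG⁻¹) * (xG ^ 2)⁻¹ = 1 := by
  have h := rel_G 8 (by decide)
  change PresentedGroup.mk relsG ((HN.z⁻¹ * (HN.y * HN.x * HN.y * HN.x * (HN.y ^ 2) * HN.x *
    (HN.y⁻¹))⁻¹ * HN.z * (HN.y * HN.x * HN.y * HN.x * (HN.y ^ 2) * HN.x * (HN.y⁻¹))) *
    ((HN.x ^ 2)⁻¹)) = 1 at h
  simp only [map_mul, map_pow, map_inv] at h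
  exact h

theorem g9 : zG * (((yG ^ 3 * xG * yG * xG * yG)⁻¹ * zG * (yG ^ 3 * xG * yG * xG * yG)) * xG) ^ 3
    = 1 := by
  have h := rel_G 9 (by decide)
  change PresentedGroup.mk relsG (HN.z * ((((((HN.y ^ 3) * HN.x * HN.y * HN.x * HN.y)⁻¹ * HN.z *
    ((HN.y ^ 3) * HN.x * HN.y * HN.x * HN.y)) * HN.x) ^ 3))) = 1 at h
  simp only [map_mul, map_pow, map_inv] at h
  exact h

theorem g10 : tG ^ 5 = 1 := by
  have h := rel_G 10 (by decide)
  change PresentedGroup.mk relsG (HN.t ^ 5) = 1 at h
  simp only [map_mul, map_pow, map_inv] at h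
  exact h

theorem g11 : (xG⁻¹ * tG * xG) * tG ^ 2 = 1 := by
  have h := rel_G 11 (by decide)
  change PresentedGroup.mk relsG ((HN.x⁻¹ * HN.t * HN.x) * (HN.t ^ 2)) = 1 at h
  simp only [map_mul, map_pow, map_inv] at h
  exact h

theorem g12 : tG⁻¹ * yG⁻¹ * tG * yG = 1 := by
  have h := rel_G 12 (by decide)
  change PresentedGroup.mk relsG (HN.t⁻¹ * HN.y⁻¹ * HN.t * HN.y) = 1 at h
  simp only [map_mul, map_pow, map_inv] at h
  exact h

theorem g13 : (zG * tG) ^ 3 = 1 := by
  have h := rel_G 13 (by decide)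
  change PresentedGroup.mk relsG ((HN.z * HN.t) ^ 3) = 1 at h
  simp only [map_mul, map_pow, map_inv] at h
  exact h

theorem zG_inv : zG⁻¹ = zG := by
  have : zG * zG = 1 := by rw [← pow_two]; exact g6
  exact inv_eq_of_mul_eq_one_right this

/-! ### the homomorphisms from the towers -/

/-- the images of the generators of `L`. -/
def f2 : Fin 2 → G := ![xG, yG]

theorem lift_f2 (l : List ℕ) : FreeGroup.lift f2 (fw l) = evw xG yG l := by
  rw [fw, map_evw, FreeGroup.lift_apply_of, FreeGroup.lift_apply_of]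
  rfl

theorem f2_rel : ∀ r ∈ rels, FreeGroup.lift f2 r = 1 := by
  rintro r ⟨l, hl, rfl⟩
  rw [lift_f2]
  simp only [relW, List.mem_cons, List.mem_nil_iff, or_false] at hl
  rcases hl with rfl | rfl | rfl | rfl | rfl | rfl
  · rw [← g0]
    simp only [evw, lt2, List.map_cons, List.map_nil, List.prod_cons, List.prod_nil, mul_one,
      pow_succ, pow_zero, one_mul, mul_inv_rev, inv_inv, mul_assoc]
  · rw [← g1]
    simp only [evw, lt2, List.map_cons, List.map_nil, List.prod_cons, List.prod_nil, mul_one,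
      pow_succ, pow_zero, one_mul, mul_inv_rev, inv_inv, mul_assoc]
  · rw [← g2]
    simp only [evw, lt2, List.map_cons, List.map_nil, List.prod_cons, List.prod_nil, mul_one,
      pow_succ, pow_zero, one_mul, mul_inv_rev, inv_inv, mul_assoc]
  · rw [← g3]
    simp only [evw, lt2, List.map_cons, List.map_nil, List.prod_cons, List.prod_nil, mul_one,
      pow_succ, pow_zero, one_mul, mul_inv_rev, inv_inv, mul_assoc]
  · rw [← g4]
    simp only [evw, lt2, List.map_cons, List.map_nil, List.prod_cons, List.prod_nil, mul_one,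
      pow_succ, pow_zero, one_mul, mul_inv_rev, inv_inv, mul_assoc]
  · rw [← g5]
    simp only [evw, lt2, List.map_cons, List.map_nil, List.prod_cons, List.prod_nil, mul_one,
      pow_succ, pow_zero, one_mul, mul_inv_rev, inv_inv, mul_assoc]

/-- the homomorphism `L → G`. -/
def fL : L →* G := PresentedGroup.toGroup f2_rel

theorem fL_x : fL xL = xG := PresentedGroup.toGroup.of f2_rel
theorem fL_y : fL yL = yG := PresentedGroup.toGroup.of f2_rel

theorem fL_evw (l : List ℕ) : fL (evw xL yL l) = evw xG yG l := by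
  rw [map_evw, fL_x, fL_y]

/-- the images of the generators of `Ht`. -/
def f3 : Fin 3 → G := ![xG, yG, zG]

theorem lift_f3 (l : List ℕ) : FreeGroup.lift f3 (fw3 l) = evw3 xG yG zG l := by
  rw [fw3, map_evw3, FreeGroup.lift_apply_of, FreeGroup.lift_apply_of, FreeGroup.lift_apply_of]
  rfl

theorem f3_rel : ∀ r ∈ relsH, FreeGroup.lift f3 r = 1 := by
  rintro r ⟨l, hl, rfl⟩
  rw [lift_f3]
  simp only [relWH, List.mem_cons, List.mem_nil_iff, or_false] at hl
  rcases hl with rfl | rfl | rfl | rfl | rfl | rfl | rfl | rfl | rfl | rfl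
  · rw [← g0]
    simp only [evw3, lt3, List.map_cons, List.map_nil, List.prod_cons, List.prod_nil, mul_one,
      pow_succ, pow_zero, one_mul, mul_inv_rev, inv_inv, mul_assoc]
  · rw [← g1]
    simp only [evw3, lt3, List.map_cons, List.map_nil, List.prod_cons, List.prod_nil, mul_one,
      pow_succ, pow_zero, one_mul, mul_inv_rev, inv_inv, mul_assoc]
  · rw [← g2]
    simp only [evw3, lt3, List.map_cons, List.map_nil, List.prod_cons, List.prod_nil, mul_one,
      pow_succ, pow_zero, one_mul, mul_inv_rev, inv_inv, mul_assoc]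
  · rw [← g3]
    simp only [evw3, lt3, List.map_cons, List.map_nil, List.prod_cons, List.prod_nil, mul_one,
      pow_succ, pow_zero, one_mul, mul_inv_rev, inv_inv, mul_assoc]
  · rw [← g4]
    simp only [evw3, lt3, List.map_cons, List.map_nil, List.prod_cons, List.prod_nil, mul_one,
      pow_succ, pow_zero, one_mul, mul_inv_rev, inv_inv, mul_assoc]
  · rw [← g5]
    simp only [evw3, lt3, List.map_cons, List.map_nil, List.prod_cons, List.prod_nil, mul_one,
      pow_succ, pow_zero, one_mul, mul_inv_rev, inv_inv, mul_assoc]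
  · rw [← g6]
    simp only [evw3, lt3, List.map_cons, List.map_nil, List.prod_cons, List.prod_nil, mul_one,
      pow_succ, pow_zero, one_mul, mul_inv_rev, inv_inv, mul_assoc]
  · rw [← g7]
    simp only [evw3, lt3, List.map_cons, List.map_nil, List.prod_cons, List.prod_nil, mul_one,
      pow_succ, pow_zero, one_mul, mul_inv_rev, inv_inv, mul_assoc]
  · have h := g8
    rw [zG_inv] at h
    rw [← h]
    simp only [evw3, lt3, List.map_cons, List.map_nil, List.prod_cons, List.prod_nil, mul_one,
      pow_succ, pow_zero, one_mul, mul_inv_rev, inv_inv, mul_assoc]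
  · rw [← g9]
    simp only [evw3, lt3, List.map_cons, List.map_nil, List.prod_cons, List.prod_nil, mul_one,
      pow_succ, pow_zero, one_mul, mul_inv_rev, inv_inv, mul_assoc]

/-- the homomorphism `Ht → G`. -/
def fH : Ht →* G := PresentedGroup.toGroup f3_rel

theorem fH_x : fH xH = xG := PresentedGroup.toGroup.of f3_rel
theorem fH_y : fH yH = yG := PresentedGroup.toGroup.of f3_rel
theorem fH_z : fH zH = zG := PresentedGroup.toGroup.of f3_rel

/-! ### counting -/

/-- the image of a homomorphism is at most the index of a subgroup times the image of the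
subgroup. -/
theorem card_range_le {A B : Type*} [Group A] [Group B] (f : A →* B) (K : Subgroup A) (n : ℕ)
    (hn : n ≠ 0) (hK : K.index = n) [Finite (K.map f)] :
    Finite f.range ∧ Nat.card f.range ≤ n * Nat.card (K.map f) := by
  have h1 : ((K.map f).comap f).index = (K.map f).relIndex f.range := Subgroup.index_comap _ f
  have h2 : K ≤ (K.map f).comap f := Subgroup.le_comap_map f K
  have h3 : ((K.map f).comap f).index ∣ K.index := Subgroup.index_dvd_of_le h2
  have hle : K.map f ≤ f.range := by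
    rw [MonoidHom.range_eq_map]
    exact Subgroup.map_mono le_top
  have h4 : (⊥ : Subgroup B).relIndex (K.map f) * (K.map f).relIndex f.range
      = (⊥ : Subgroup B).relIndex f.range := Subgroup.relIndex_mul_relIndex _ _ _ bot_le hle
  rw [Subgroup.relIndex_bot_left, Subgroup.relIndex_bot_left, ← h1] at h4
  rw [hK] at h3
  have h5 : ((K.map f).comap f).index ≠ 0 := fun h0 => hn (by rw [h0] at h3; exact zero_dvd_iff.1 h3)
  have h6 : ((K.map f).comap f).index ≤ n := Nat.le_of_dvd (Nat.pos_of_ne_zero hn) h3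
  have h7 : Nat.card (K.map f) ≠ 0 := Nat.card_pos.ne'
  constructor
  · apply Nat.finite_of_card_ne_zero
    rw [← h4]
    exact Nat.mul_ne_zero h7 h5
  · rw [← h4, Nat.mul_comm]
    exact Nat.mul_le_mul_right _ h6

/-- a subgroup containing an element `a` with `a ≠ 1` and `a² ≠ 1` has at least three elements. -/
theorem three_le_card {A : Type*} [Group A] (S : Subgroup A) [Finite S] (a : A) (ha : a ∈ S)
    (h1 : a ≠ 1) (h2 : a ^ 2 ≠ 1) : 3 ≤ Nat.card S := by
  let g : Fin 3 → S := fun i => ⟨a ^ (i : ℕ), Subgroup.pow_mem _ ha _⟩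
  have hg : Function.Injective g := by
    intro i j hij
    have hij' : a ^ (i : ℕ) = a ^ (j : ℕ) := congrArg Subtype.val hij
    fin_cases i <;> fin_cases j <;> simp only [Fin.isValue, Fin.zero_eta, Fin.mk_one,
      Fin.reduceFinMk, Fin.val_zero, Fin.val_one, Fin.val_two, pow_zero, pow_one] at hij' ⊢
    · exact absurd hij'.symm h1
    · exact absurd hij'.symm h2
    · exact absurd hij' h1
    · exfalso
      apply h1
      have : a * 1 = a * a := by rw [mul_one, ← pow_two]; exact hij'
      exact (mul_left_cancel this).symm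
    · exact absurd hij' h2
    · exfalso
      apply h1
      have : a * a = a * 1 := by rw [mul_one, ← pow_two]; exact hij'
      exact mul_left_cancel this
  have := Nat.card_le_card_of_injective g hg
  simpa using this

/-- the subgroup in question. -/
def Hs : Subgroup G :=
  (Subgroup.closure ({HN.x, HN.y, HN.z} : Set (FreeGroup HN.Gen))).map (PresentedGroup.mk relsG)

theorem Hs_eq : Hs = Subgroup.closure {xG, yG, zG} := by
  rw [Hs, MonoidHom.map_closure]
  congr 1
  ext a
  simp only [Set.mem_image, Set.mem_insert_iff, Set.mem_singleton_iff]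
  constructor
  · rintro ⟨b, hb | hb | hb, rfl⟩
    · left; rw [hb]; rfl
    · right; left; rw [hb]; rfl
    · right; right; rw [hb]; rfl
  · rintro (rfl | rfl | rfl)
    · exact ⟨HN.x, Or.inl rfl, rfl⟩
    · exact ⟨HN.y, Or.inr (Or.inl rfl), rfl⟩
    · exact ⟨HN.z, Or.inr (Or.inr rfl), rfl⟩

/-- **The order of `⟨x, y, z⟩`**, from the two coset enumerations. -/
theorem order_le
    (hA : Finite L ∧ Nat.card L ≤ 6 * 252000 ∧ evw xL yL lR = 1 ∧
      (evw xL yL lc) ^ 2 ≠ 1 ∧ (evw xL yL lc) ^ 4 ≠ 1)
    (hC : ((Subgroup.closure {s | s ∈ subs3}).map (PresentedGroup.mk relsH)).index = 352) :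
    Finite Hs ∧ Nat.card Hs ≤ 177408000 := by
  obtain ⟨hfinL, hcardL, hR, hc2, hc4⟩ := hA
  -- the sign argument
  have hRG : evw xG yG lR = 1 := by rw [← fL_evw, hR, map_one]
  have hcG : (evw xG yG lc) ^ 2 = 1 := c_sq' xG yG zG g1 g3 g6 g7 g8 g9 hRG
  -- the kernel of `fL` has at least three elements
  haveI : Finite L := hfinL
  have hker3 : 3 ≤ Nat.card fL.ker := by
    refine three_le_card fL.ker ((evw xL yL lc) ^ 2) ?_ hc2 ?_
    · rw [MonoidHom.mem_ker, map_pow, fL_evw, hcG]
    · rw [← pow_mul]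
      exact hc4
  -- the image of `fL`
  have hrangeL : Nat.card fL.range * 3 ≤ 6 * 252000 := by
    have h1 : Nat.card (L ⧸ fL.ker) * Nat.card fL.ker = Nat.card L :=
      (Subgroup.card_eq_card_quotient_mul_card_subgroup fL.ker).symm
    have h2 : Nat.card (L ⧸ fL.ker) = Nat.card fL.range :=
      Nat.card_congr (QuotientGroup.quotientKerEquivRange fL).toEquiv
    rw [h2] at h1
    calc Nat.card fL.range * 3 ≤ Nat.card fL.range * Nat.card fL.ker :=
          Nat.mul_le_mul_left _ hker3
      _ = Nat.card L := h1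
      _ ≤ 6 * 252000 := hcardL
  have hrangeL' : Nat.card fL.range ≤ 504000 := by omega
  have hfinrL : Finite fL.range := by
    have : Finite L := hfinL
    exact Set.finite_range fL
  -- the image of `⟨x, y⟩ ≤ Ht`
  set KH : Subgroup Ht := (Subgroup.closure {s | s ∈ subs3}).map (PresentedGroup.mk relsH) with hKH
  have hKle : KH.map fH ≤ fL.range := by
    rw [hKH, MonoidHom.map_closure, MonoidHom.map_closure, Subgroup.closure_le]
    rintro _ ⟨_, ⟨s, hs, rfl⟩, rfl⟩
    simp only [subs3, List.mem_cons, List.mem_nil_iff, or_false, Set.mem_ofPred_eq] at hs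
    rcases hs with rfl | rfl
    · exact ⟨xL, by rw [fL_x]; exact fH_x.symm⟩
    · exact ⟨yL, by rw [fL_y]; exact fH_y.symm⟩
  have hfinK : Finite (KH.map fH) := Finite.of_injective
    (fun q : KH.map fH => (⟨q.1, hKle q.2⟩ : fL.range)) (by
      intro p q h
      exact Subtype.ext (congrArg (fun r : fL.range => r.1) h))
  have hcardK : Nat.card (KH.map fH) ≤ 504000 :=
    le_trans (Subgroup.card_le_of_le hKle) hrangeL'
  obtain ⟨hfinr, hcardr⟩ := card_range_le fH KH 352 (by norm_num) hC
  -- `Hs` is contained in the image of `fH`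
  have hHs : Hs ≤ fH.range := by
    rw [Hs_eq, Subgroup.closure_le]
    rintro a (rfl | rfl | rfl)
    · exact ⟨xH, fH_x⟩
    · exact ⟨yH, fH_y⟩
    · exact ⟨zH, fH_z⟩
  have hfinHs : Finite Hs := Finite.of_injective
    (fun q : Hs => (⟨q.1, hHs q.2⟩ : fH.range)) (by
      intro p q h
      exact Subtype.ext (congrArg (fun r : fH.range => r.1) h))
  refine ⟨hfinHs, ?_⟩
  calc Nat.card Hs ≤ Nat.card fH.range := Subgroup.card_le_of_le hHs
    _ ≤ 352 * Nat.card (KH.map fH) := hcardr
    _ ≤ 352 * 504000 := Nat.mul_le_mul_left _ hcardK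
    _ = 177408000 := by norm_num

end Cfsg.Agent.Helper5.HNOrd
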