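import Mathlib
import Cfsg.Prelude.Def_Local
import Cfsg.Agent.Helper2.Layer6

/-!
Helper lemmas (helper5): a subgroup `U` either centralizes a component `K` or `K ≤ [E(G), U]`.
-/

set_option autoImplicit false

namespace Cfsg.Agent.Helper5

open Cfsg.Agent.Helper1 Cfsg.Agent.Helper2
open scoped commutatorElement

variable {G : Type*} [Group G]

/-- A subgroup `U` either centralizes the component `K` or `K ≤ [E(G), U]`. -/
theorem component_le_commutator_or_centralizes [Finite G] (U : Subgroup G) {L : Subgroup G}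
    (hL : Cfsg.IsComponent L) :
    U ≤ Subgroup.centralizer (L : Set G) ∨ L ≤ ⁅Cfsg.layer G, U⁆ := by
  have hLE : L ≤ Cfsg.layer G := component_le_layer hL
  by_cases hU : ∀ u ∈ U, cj u L = L
  · -- `U` normalizes `L`
    have hUN : U ≤ Subgroup.normalizer (L : Set G) := fun u hu =>
      (mem_normalizer_iff_cj L u).mpr (hU u hu)
    have hLU : ⁅L, U⁆ ≤ L := by
      rw [Subgroup.commutator_comm]
      exact commutator_le_of_le_normalizer hUN
    have hn : ((⁅L, U⁆ : Subgroup G).subgroupOf L).Normal :=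
      (Subgroup.normal_subgroupOf_iff_le_normalizer hLU).mpr (le_normalizer_commutator_left L U)
    rcases isSubnormal_quasisimple hL.2 _ hn.isSubnormal with h | h
    · right
      rw [Subgroup.subgroupOf_eq_top] at h
      exact h.trans (Subgroup.commutator_mono hLE le_rfl)
    · left
      have h1 : ⁅⁅U, L⁆, L⁆ = ⊥ := by
        rw [Subgroup.commutator_comm U L, Subgroup.commutator_eq_bot_iff_le_centralizer]
        intro w hw
        have hwL : w ∈ L := hLU hw
        have hwc : (⟨w, hwL⟩ : ↥L) ∈ Subgroup.center ↥L := h (Subgroup.mem_subgroupOf.mpr hw)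
        rw [Subgroup.mem_centralizer_iff]
        intro l hl
        have := Subgroup.mem_center_iff.mp hwc ⟨l, hl⟩
        exact congrArg Subtype.val this
      have h2 := commutator_eq_bot_of_commutator_commutator_eq_bot (component_perfect hL) h1
      rw [Subgroup.commutator_eq_bot_iff_le_centralizer] at h2
      exact h2
  · right
    push Not at hU
    obtain ⟨u, hu, hne⟩ := hU
    have hL' : Cfsg.IsComponent (cj u L) := isComponent_cj hL u
    have hcomm : ⁅L, cj u L⁆ = ⊥ := components_commute hL hL' (Ne.symm hne)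
    rw [Subgroup.commutator_eq_bot_iff_le_centralizer] at hcomm
    rw [← component_perfect hL, Subgroup.commutator_le]
    intro l hl m hm
    have hl' : u * l⁻¹ * u⁻¹ ∈ cj u L := conj_mem_cj L u l⁻¹ (L.inv_mem hl)
    have hc1 : (u * l⁻¹ * u⁻¹) * m = m * (u * l⁻¹ * u⁻¹) :=
      Subgroup.mem_centralizer_iff.mp (hcomm hm) _ hl'
    have hw : ⁅l, u⁆ ∈ ⁅Cfsg.layer G, U⁆ :=
      Subgroup.commutator_mem_commutator (hLE hl) hu
    have hnorm : m ∈ Subgroup.normalizer ((⁅Cfsg.layer G, U⁆ : Subgroup G) : Set G) :=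
      le_normalizer_commutator_left _ _ (hLE hm)
    have hw2 : m * ⁅l, u⁆⁻¹ * m⁻¹ ∈ ⁅Cfsg.layer G, U⁆ :=
      (Subgroup.mem_normalizer_iff.mp hnorm _).mp (Subgroup.inv_mem _ hw)
    have heq : ⁅l, m⁆ = ⁅l, u⁆ * (m * ⁅l, u⁆⁻¹ * m⁻¹) := by
      have e1 : ⁅l, u⁆ = l * (u * l⁻¹ * u⁻¹) := by rw [commutatorElement_def]; group
      rw [e1, commutatorElement_def]
      calc l * m * l⁻¹ * m⁻¹ = l * (m * (u * l⁻¹ * u⁻¹)) * (u * l⁻¹ * u⁻¹)⁻¹ * l⁻¹ * m⁻¹ := by
            group
        _ = l * ((u * l⁻¹ * u⁻¹) * m) * (u * l⁻¹ * u⁻¹)⁻¹ * l⁻¹ * m⁻¹ := by rw [hc1]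
        _ = l * (u * l⁻¹ * u⁻¹) * (m * (l * (u * l⁻¹ * u⁻¹))⁻¹ * m⁻¹) := by group
    rw [heq]
    exact Subgroup.mul_mem _ hw hw2

/-- `F*(G)` normalizes every component. -/
theorem genFitting_le_normalizer_component [Finite G] {K : Subgroup G} (hK : Cfsg.IsComponent K) :
    Cfsg.generalizedFittingSubgroup G ≤ Subgroup.normalizer (K : Set G) := by
  unfold Cfsg.generalizedFittingSubgroup
  apply sup_le
  · apply sSup_le
    intro K' hK'
    by_cases h : K' = K
    · rw [h]; exact Subgroup.le_normalizer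
    · have hcomm : ⁅K', K⁆ = ⊥ := components_commute hK' hK h
      rw [Subgroup.commutator_eq_bot_iff_le_centralizer] at hcomm
      exact hcomm.trans (Subgroup.centralizer_le_normalizer _)
  · intro f hf
    apply Subgroup.centralizer_le_normalizer
    rw [Subgroup.mem_centralizer_iff]
    intro k hk
    exact layer_commute_fitting (component_le_layer hK hk) hf

end Cfsg.Agent.Helper5
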