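import Mathlib

/-!
# Transport of symplectic groups along ring homomorphisms

A ring homomorphism induces a homomorphism of symplectic groups, injective if the ring homomorphism
is.  Also: the matrix of a list product, and `-1` is a central symplectic matrix.
-/

set_option autoImplicit false

namespace Cfsg.Agent.Helper5.SpMap

open Matrix

variable {l : Type*} [DecidableEq l] [Fintype l] {R S : Type*} [CommRing R] [CommRing S]

omit [Fintype l] in
theorem J_map (φ : R →+* S) : (Matrix.J l R).map φ = Matrix.J l S := by
  ext i j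
  rcases i with i | i <;> rcases j with j | j <;>
    simp [Matrix.J, Matrix.map_apply, Matrix.one_apply, Matrix.neg_apply]

theorem map_mem (φ : R →+* S) {A : Matrix (l ⊕ l) (l ⊕ l) R}
    (hA : A ∈ Matrix.symplecticGroup l R) : A.map φ ∈ Matrix.symplecticGroup l S := by
  rw [SymplecticGroup.mem_iff] at hA ⊢
  rw [← J_map φ, ← Matrix.transpose_map, ← Matrix.map_mul, ← Matrix.map_mul, hA]

/-- the induced homomorphism of symplectic groups. -/
def spMap (φ : R →+* S) : Matrix.symplecticGroup l R →* Matrix.symplecticGroup l S where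
  toFun A := ⟨A.1.map φ, map_mem φ A.2⟩
  map_one' := by
    apply Subtype.ext
    show (1 : Matrix (l ⊕ l) (l ⊕ l) R).map φ = 1
    ext i j
    simp [Matrix.map_apply, Matrix.one_apply]
  map_mul' A B := by
    apply Subtype.ext
    show (A.1 * B.1).map φ = A.1.map φ * B.1.map φ
    exact Matrix.map_mul

theorem spMap_val (φ : R →+* S) (A : Matrix.symplecticGroup l R) :
    ((spMap φ A : Matrix.symplecticGroup l S) : Matrix (l ⊕ l) (l ⊕ l) S)
      = (A : Matrix (l ⊕ l) (l ⊕ l) R).map φ := rfl

theorem spMap_injective (φ : R →+* S) (hφ : Function.Injective φ) :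
    Function.Injective (spMap (l := l) φ) := by
  intro A B h
  apply Subtype.ext
  have h3 := congrArg (fun z : Matrix.symplecticGroup l S => (z : Matrix (l ⊕ l) (l ⊕ l) S)) h
  simp only [spMap_val] at h3
  exact Matrix.map_injective hφ h3

/-- the matrix of a product of a list of symplectic matrices. -/
theorem sp_list_prod (L : List (Matrix.symplecticGroup l R)) :
    ((L.prod : Matrix.symplecticGroup l R) : Matrix (l ⊕ l) (l ⊕ l) R)
      = (L.map (fun s : Matrix.symplecticGroup l R => (s : Matrix (l ⊕ l) (l ⊕ l) R))).prod := by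
  induction L with
  | nil => simp
  | cons a L ih => rw [List.prod_cons, Submonoid.coe_mul, ih, List.map_cons, List.prod_cons]

/-- a symplectic matrix equal to `1` or `-1` is central. -/
theorem mem_center_of_pm (y : Matrix.symplecticGroup l R)
    (h : (y : Matrix (l ⊕ l) (l ⊕ l) R) = 1 ∨ (y : Matrix (l ⊕ l) (l ⊕ l) R) = -1) :
    y ∈ Subgroup.center (Matrix.symplecticGroup l R) := by
  rw [Subgroup.mem_center_iff]
  intro g
  apply Subtype.ext
  rw [Submonoid.coe_mul, Submonoid.coe_mul]
  rcases h with h | h <;> rw [h] <;> simp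

/-- the symplectic matrix `-1`. -/
def negOne : Matrix.symplecticGroup l R :=
  ⟨-1, SymplecticGroup.neg_mem (Submonoid.one_mem _)⟩

theorem negOne_mem_center : (negOne : Matrix.symplecticGroup l R)
    ∈ Subgroup.center (Matrix.symplecticGroup l R) :=
  mem_center_of_pm _ (Or.inr rfl)

end Cfsg.Agent.Helper5.SpMap
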