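import Mathlib

/-!
# The field with four elements, computably

An explicit model `F4 = {0, 1, ω, ω²}` of the field with four elements, with all operations given
by tables, so that matrix computations over it can be checked by `decide`.
-/

set_option autoImplicit false

namespace Cfsg.Agent.Helper5.G24

/-- the field with four elements: `z = 0`, `o = 1`, `w = ω`, `v = ω² = ω + 1`. -/
inductive F4 : Type
  | z | o | w | v
  deriving DecidableEq

namespace F4

instance : Fintype F4 := ⟨{z, o, w, v}, fun x => by cases x <;> decide⟩

/-- addition. -/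
def add : F4 → F4 → F4
  | z, x => x
  | o, z => o | o, o => z | o, w => v | o, v => w
  | w, z => w | w, o => v | w, w => z | w, v => o
  | v, z => v | v, o => w | v, w => o | v, v => z

/-- multiplication. -/
def mul : F4 → F4 → F4
  | z, _ => z
  | o, x => x
  | w, z => z | w, o => w | w, w => v | w, v => o
  | v, z => z | v, o => v | v, w => o | v, v => w

/-- inversion. -/
def inv : F4 → F4
  | z => z | o => o | w => v | v => w

instance : Add F4 := ⟨add⟩
instance : Mul F4 := ⟨mul⟩
instance : Zero F4 := ⟨z⟩
instance : One F4 := ⟨o⟩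
instance : Neg F4 := ⟨id⟩
instance : Inv F4 := ⟨inv⟩

theorem add_assoc' : ∀ a b c : F4, a + b + c = a + (b + c) := by decide
theorem zero_add' : ∀ a : F4, 0 + a = a := by decide
theorem add_zero' : ∀ a : F4, a + 0 = a := by decide
theorem add_comm' : ∀ a b : F4, a + b = b + a := by decide
theorem neg_add_cancel' : ∀ a : F4, -a + a = 0 := by decide
theorem mul_assoc' : ∀ a b c : F4, a * b * c = a * (b * c) := by decide
theorem one_mul' : ∀ a : F4, 1 * a = a := by decide
theorem mul_one' : ∀ a : F4, a * 1 = a := by decide
theorem left_distrib' : ∀ a b c : F4, a * (b + c) = a * b + a * c := by decide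
theorem right_distrib' : ∀ a b c : F4, (a + b) * c = a * c + b * c := by decide
theorem zero_mul' : ∀ a : F4, 0 * a = 0 := by decide
theorem mul_zero' : ∀ a : F4, a * 0 = 0 := by decide
theorem mul_comm' : ∀ a b : F4, a * b = b * a := by decide
theorem mul_inv_cancel' : ∀ a : F4, a ≠ 0 → a * a⁻¹ = 1 := by decide

instance instField : Field F4 where
  add := (· + ·)
  add_assoc := add_assoc'
  zero := 0
  zero_add := zero_add'
  add_zero := add_zero'
  nsmul := nsmulRec
  neg := Neg.neg
  zsmul := zsmulRec
  neg_add_cancel := neg_add_cancel'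
  add_comm := add_comm'
  mul := (· * ·)
  left_distrib := left_distrib'
  right_distrib := right_distrib'
  zero_mul := zero_mul'
  mul_zero := mul_zero'
  mul_assoc := mul_assoc'
  one := 1
  one_mul := one_mul'
  mul_one := mul_one'
  npow := npowRec
  mul_comm := mul_comm'
  inv := Inv.inv
  exists_pair_ne := ⟨0, 1, by decide⟩
  mul_inv_cancel := mul_inv_cancel'
  inv_zero := rfl
  nnqsmul := _
  nnqsmul_def := fun _ _ => rfl
  qsmul := _
  qsmul_def := fun _ _ => rfl

theorem card_eq : Fintype.card F4 = 4 := rfl

/-- decoding of the numbers `0, 1, 2, 3`. -/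
def ofN : ℕ → F4
  | 0 => 0
  | 1 => 1
  | 2 => w
  | _ => v

end F4

end Cfsg.Agent.Helper5.G24
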