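import Cfsg.Agent.Helper3.TensOmBA

/-!
# S5704 Leaf F, piece (F-x) (helper5): existence lemmas for a non-degenerate alternating form

Pure linear algebra for `f : LinearMap.BilinForm F X` with `halt : ∀ x, f x x = 0` and
`hnd : ∀ x, (∀ y, f x y = 0) → x = 0`:
* `x1`: in dimension `≥ 3`, some `v ⊥ u` is not a multiple of `u`;
* `x2`: for `y ∉ F u`, some `u' ⊥ u`, not a multiple of `u`, has `f u' y = 1`;
* `x3`: two perpendicular independent vectors `w, z` extend to two perpendicular hyperbolic pairs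
  `(w, w')`, `(z, z')`.
-/

set_option autoImplicit false
set_option linter.unusedSectionVars false
set_option linter.unusedVariables false

namespace Cfsg.Agent.Helper5.TensSX

open Module Cfsg.Agent.Helper3.TensOm

variable {F : Type*} [Field F] {X : Type*} [AddCommGroup X] [Module F X]
  (f : LinearMap.BilinForm F X)

/-- (x1) in dimension at least three, some vector perpendicular to `u` is not a multiple of `u`. -/
theorem x1 [FiniteDimensional F X] (h3 : 3 ≤ finrank F X) (u : X) :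
    ∃ v, f u v = 0 ∧ ∀ a : F, v ≠ a • u := by
  by_contra hcon
  push Not at hcon
  have hle : LinearMap.ker (f u) ≤ Submodule.span F {u} := by
    intro v hv
    obtain ⟨a, ha⟩ := hcon v (LinearMap.mem_ker.mp hv)
    rw [ha]
    exact Submodule.smul_mem _ _ (Submodule.mem_span_singleton_self u)
  have h1 := Submodule.finrank_mono hle
  have h2 : finrank F ↥(Submodule.span F ({u} : Set X)) ≤ 1 := by
    have := finrank_span_le_card (R := F) ({u} : Set X)
    simpa using this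
  have h4 := LinearMap.finrank_range_add_finrank_ker (f u)
  have h5 : finrank F ↥(LinearMap.range (f u)) ≤ 1 := by
    have := Submodule.finrank_le (LinearMap.range (f u))
    rwa [Module.finrank_self] at this
  omega

/-- (x2) for `y ∉ F u` some `u' ⊥ u`, not a multiple of `u`, pairs to `1` with `y`. -/
theorem x2 [FiniteDimensional F X] (halt : ∀ x, f x x = 0)
    (hnd : ∀ x, (∀ y, f x y = 0) → x = 0) (h3 : 3 ≤ finrank F X) {u y : X} (hu : u ≠ 0)
    (hy : ∀ a : F, y ≠ a • u) :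
    ∃ u', f u u' = 0 ∧ f u' y = 1 ∧ ∀ a : F, u' ≠ a • u := by
  obtain ⟨v, hv1, hv2⟩ := exists_perp_not_perp f hnd hu hy
  have hvy : f v y ≠ 0 := by
    rw [alt_skew f halt]
    exact neg_ne_zero.mpr hv2
  obtain ⟨v₁, hv₁⟩ : ∃ v₁ : X, v₁ = (f v y)⁻¹ • v := ⟨_, rfl⟩
  have e1 : f u v₁ = 0 := by rw [hv₁, map_smul, hv1, smul_zero]
  have e2 : f v₁ y = 1 := by
    rw [hv₁, map_smul, LinearMap.smul_apply, smul_eq_mul, inv_mul_cancel₀ hvy]
  by_cases hdep : ∀ a : F, v₁ ≠ a • u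
  · exact ⟨v₁, e1, e2, hdep⟩
  · push Not at hdep
    obtain ⟨a, ha⟩ := hdep
    obtain ⟨k₀, hk1, hk2⟩ := x1 f h3 u
    refine ⟨v₁ + (k₀ - f k₀ y • v₁), ?_, ?_, ?_⟩
    · rw [map_add, map_sub, map_smul, e1, hk1, smul_zero, sub_zero, add_zero]
    · rw [map_add, LinearMap.add_apply, map_sub, LinearMap.sub_apply, map_smul, LinearMap.smul_apply, e2,
        smul_eq_mul, mul_one, sub_self, add_zero]
    · intro b hb
      obtain ⟨c, hc⟩ : ∃ c : F, c = f k₀ y := ⟨_, rfl⟩
      rw [← hc] at hb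
      apply hk2 (b - a + c * a)
      have h1 : k₀ = b • u - v₁ + c • v₁ := by
        rw [← hb]; abel
      rw [h1, ha, smul_smul, ← sub_smul, ← add_smul]

/-- (x3) two perpendicular independent vectors extend to two perpendicular hyperbolic pairs. -/
theorem x3 (halt : ∀ x, f x x = 0) (hnd : ∀ x, (∀ y, f x y = 0) → x = 0) {w z : X}
    (hwz : f w z = 0) (hz : ∀ a : F, z ≠ a • w) (hw : w ≠ 0) :
    ∃ w' z', f w w' = 1 ∧ f z w' = 0 ∧ f z z' = 1 ∧ f w z' = 0 ∧ f w' z' = 0 := by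
  have hz0 : z ≠ 0 := by
    have := hz 0
    rwa [zero_smul] at this
  have hw' : ∀ a : F, w ≠ a • z := by
    intro a ha
    by_cases ha0 : a = 0
    · rw [ha0, zero_smul] at ha
      exact hw ha
    · apply hz a⁻¹
      rw [ha, smul_smul, inv_mul_cancel₀ ha0, one_smul]
  obtain ⟨v, hv1, hv2⟩ := exists_perp_not_perp f hnd hz0 hw'
  obtain ⟨v₂, hv3, hv4⟩ := exists_perp_not_perp f hnd hw hz
  obtain ⟨w₁, hw₁⟩ : ∃ w₁ : X, w₁ = (f w v)⁻¹ • v := ⟨_, rfl⟩
  obtain ⟨z₀, hz₀⟩ : ∃ z₀ : X, z₀ = (f z v₂)⁻¹ • v₂ := ⟨_, rfl⟩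
  have a1 : f w w₁ = 1 := by rw [hw₁, map_smul, smul_eq_mul, inv_mul_cancel₀ hv2]
  have a2 : f z w₁ = 0 := by rw [hw₁, map_smul, hv1, smul_zero]
  have a3 : f z z₀ = 1 := by rw [hz₀, map_smul, smul_eq_mul, inv_mul_cancel₀ hv4]
  have a4 : f w z₀ = 0 := by rw [hz₀, map_smul, hv3, smul_zero]
  have a5 : f z w = 0 := alt_perp_symm f halt hwz
  have a6 : f w₁ w = -1 := by rw [alt_skew f halt, a1]
  refine ⟨w₁, z₀ + f w₁ z₀ • w, a1, a2, ?_, ?_, ?_⟩
  · rw [map_add, map_smul, a3, a5, smul_zero, add_zero]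
  · rw [map_add, map_smul, a4, halt, smul_zero, add_zero]
  · rw [map_add, map_smul, a6, smul_eq_mul]
    ring

end Cfsg.Agent.Helper5.TensSX
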