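import Mathlib
import Cfsg.Prelude.Def_Classical
import Cfsg.Agent.Helper8.SUCenter

/-!
# Transport of special unitary groups along homomorphisms of finite fields

A ring homomorphism between two fields with `q²` elements induces a homomorphism
`SU_n(q) →* SU_n(q)`, injective as the ring homomorphism is.  Also: matrices of list products.
-/

set_option autoImplicit false

namespace Cfsg.Agent.Helper5.SUMap

open Matrix Cfsg

variable {K₁ : Type*} [Field K₁] [Fintype K₁] {K₂ : Type*} [Field K₂] [Fintype K₂] {q n : ℕ}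

theorem map_mem_SU (h₁ : Fintype.card K₁ = q ^ 2) (h₂ : Fintype.card K₂ = q ^ 2) (φ : K₁ →+* K₂)
    (s : Matrix.SpecialLinearGroup (Fin n) K₁) (hs : s ∈ Cfsg.SU n K₁ q) :
    Matrix.SpecialLinearGroup.map φ s ∈ Cfsg.SU n K₂ q := by
  rw [Cfsg.Agent.Helper8.SUCenter.mem_SU_iff h₂]
  rw [Cfsg.Agent.Helper8.SUCenter.mem_SU_iff h₁] at hs
  have h1 : ((Matrix.SpecialLinearGroup.map φ s : Matrix.SpecialLinearGroup (Fin n) K₂) :
      Matrix (Fin n) (Fin n) K₂) = (s : Matrix (Fin n) (Fin n) K₁).map φ := rfl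
  rw [h1]
  have h2 : ((s : Matrix (Fin n) (Fin n) K₁).map φ).map (· ^ q)
      = ((s : Matrix (Fin n) (Fin n) K₁).map (· ^ q)).map φ := by
    ext i j
    simp [Matrix.map_apply, map_pow]
  rw [h2, ← Matrix.transpose_map, ← Matrix.map_mul, hs]
  ext i j
  simp [Matrix.map_apply, Matrix.one_apply]

/-- the induced homomorphism of special unitary groups. -/
def suMap (h₁ : Fintype.card K₁ = q ^ 2) (h₂ : Fintype.card K₂ = q ^ 2) (φ : K₁ →+* K₂) :
    Cfsg.SU n K₁ q →* Cfsg.SU n K₂ q :=
  ((Matrix.SpecialLinearGroup.map φ).comp (Cfsg.SU n K₁ q).subtype).codRestrict (Cfsg.SU n K₂ q)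
    (fun x => map_mem_SU h₁ h₂ φ x.1 x.2)

theorem suMap_val (h₁ : Fintype.card K₁ = q ^ 2) (h₂ : Fintype.card K₂ = q ^ 2) (φ : K₁ →+* K₂)
    (x : Cfsg.SU n K₁ q) :
    (((suMap h₁ h₂ φ x : Cfsg.SU n K₂ q) : Matrix.SpecialLinearGroup (Fin n) K₂) :
      Matrix (Fin n) (Fin n) K₂)
      = ((x : Matrix.SpecialLinearGroup (Fin n) K₁) : Matrix (Fin n) (Fin n) K₁).map φ := rfl

theorem suMap_injective (h₁ : Fintype.card K₁ = q ^ 2) (h₂ : Fintype.card K₂ = q ^ 2)
    (φ : K₁ →+* K₂) : Function.Injective (suMap (n := n) h₁ h₂ φ) := by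
  intro x y h
  apply Subtype.ext
  apply Subtype.ext
  have h3 := congrArg (fun z : Cfsg.SU n K₂ q =>
    ((z : Matrix.SpecialLinearGroup (Fin n) K₂) : Matrix (Fin n) (Fin n) K₂)) h
  simp only [suMap_val] at h3
  exact Matrix.map_injective φ.injective h3

/-- the matrix of a product of a list of special linear matrices. -/
theorem sl_list_prod {R : Type*} [CommRing R] {m : Type*} [Fintype m] [DecidableEq m]
    (l : List (Matrix.SpecialLinearGroup m R)) :
    ((l.prod : Matrix.SpecialLinearGroup m R) : Matrix m m R)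
      = (l.map (fun s : Matrix.SpecialLinearGroup m R => (s : Matrix m m R))).prod := by
  induction l with
  | nil => simp
  | cons a l ih => rw [List.prod_cons, Matrix.SpecialLinearGroup.coe_mul, ih, List.map_cons,
      List.prod_cons]

/-- the matrix of a product of a list of elements of a subgroup of a special linear group. -/
theorem sub_list_prod {R : Type*} [CommRing R] {m : Type*} [Fintype m] [DecidableEq m]
    (H : Subgroup (Matrix.SpecialLinearGroup m R)) (l : List H) :
    (((l.prod : H) : Matrix.SpecialLinearGroup m R) : Matrix m m R)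
      = (l.map (fun s : H => ((s : Matrix.SpecialLinearGroup m R) : Matrix m m R))).prod := by
  induction l with
  | nil => simp
  | cons a l ih => rw [List.prod_cons, Subgroup.coe_mul, Matrix.SpecialLinearGroup.coe_mul, ih,
      List.map_cons, List.prod_cons]

end Cfsg.Agent.Helper5.SUMap
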