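import Mathlib
import Cfsg.Agent.Helper4.GO4A

/-!
# ASCH-OM3, piece X4 `tensor_O3_O4plus`, part A: the similarities of `J ⊗ J` on `F^2 ⊗ F^2`

A similarity of the symmetric form `J ⊗ J` (`J` the standard alternating `2 × 2` matrix, `2 ≠ 0`) is a Kronecker
product `A ⊗ C`, or has determinant `-μ²` (`μ` the multiplier).  This is helper4's structure theorem for the
similarities of `det` on `M₂(F)`, in coordinates.
-/

set_option autoImplicit false
set_option linter.style.haveILetI false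
set_option linter.unusedSectionVars false
set_option linter.unusedVariables false
set_option linter.unnecessarySeqFocus false

namespace Cfsg.Agent.Helper5.GO4

open Matrix
open scoped Kronecker

variable {F : Type*} [Field F]

/-- the standard alternating `2 × 2` matrix -/
def Jalt (F : Type*) [Field F] : Matrix (Fin 2) (Fin 2) F := !![0, 1; -1, 0]

theorem Jalt_transpose : (Jalt F)ᵀ = -Jalt F := by
  ext i j
  fin_cases i <;> fin_cases j <;> simp [Jalt]

theorem Jalt_mul_self : Jalt F * Jalt F = -1 := by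
  ext i j
  fin_cases i <;> fin_cases j <;> simp [Jalt, Matrix.mul_apply, Fin.sum_univ_two]

theorem Jalt_det : (Jalt F).det = 1 := by
  simp [Jalt, Matrix.det_fin_two]

/-- vectorisation of `2 × 2` matrices -/
def vec : Matrix (Fin 2) (Fin 2) F ≃ₗ[F] (Fin 2 × Fin 2 → F) where
  toFun X := fun p => X p.1 p.2
  invFun z := Matrix.of fun i j => z (i, j)
  map_add' X Y := rfl
  map_smul' c X := rfl
  left_inv X := rfl
  right_inv z := rfl

theorem vec_apply (X : Matrix (Fin 2) (Fin 2) F) (p : Fin 2 × Fin 2) : vec X p = X p.1 p.2 := rfl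

theorem vec_symm_apply (z : Fin 2 × Fin 2 → F) (i j : Fin 2) : vec.symm z i j = z (i, j) := rfl

/-- the form `J ⊗ J` is twice the determinant -/
theorem dot_JJ (X : Matrix (Fin 2) (Fin 2) F) :
    vec X ⬝ᵥ ((Jalt F ⊗ₖ Jalt F) *ᵥ vec X) = 2 * X.det := by
  simp only [dotProduct, Matrix.mulVec, Fintype.sum_prod_type, Fin.sum_univ_two, Matrix.kroneckerMap_apply,
    vec_apply, Jalt, Matrix.det_fin_two]
  simp
  ring

theorem kron_mulVec_vec (A C : Matrix (Fin 2) (Fin 2) F) (X : Matrix (Fin 2) (Fin 2) F) :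
    (A ⊗ₖ Cᵀ) *ᵥ vec X = vec (A * X * C) := by
  funext p
  obtain ⟨i, j⟩ := p
  simp only [Matrix.mulVec, dotProduct, Fintype.sum_prod_type, Fin.sum_univ_two, Matrix.kroneckerMap_apply,
    vec_apply, Matrix.mul_apply, Matrix.transpose_apply]
  ring

theorem kron_swap_mulVec_vec (A C : Matrix (Fin 2) (Fin 2) F) (X : Matrix (Fin 2) (Fin 2) F) :
    ((A ⊗ₖ Cᵀ).submatrix id (Equiv.prodComm (Fin 2) (Fin 2))) *ᵥ vec X = vec (A * Xᵀ * C) := by
  funext p
  obtain ⟨i, j⟩ := p
  simp only [Matrix.mulVec, dotProduct, Fintype.sum_prod_type, Fin.sum_univ_two, Matrix.kroneckerMap_apply,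
    vec_apply, Matrix.mul_apply, Matrix.transpose_apply, Matrix.submatrix_apply, id, Equiv.prodComm_apply,
    Prod.swap_prod_mk]
  ring

theorem sign_prodComm : Equiv.Perm.sign (Equiv.prodComm (Fin 2) (Fin 2)) = -1 := by
  decide

/-- **the similarities of `J ⊗ J`** -/
theorem go4_kinds (h2 : (2 : F) ≠ 0) (b : Matrix (Fin 2 × Fin 2) (Fin 2 × Fin 2) F) {μ : F} (hμ : μ ≠ 0)
    (hb : bᵀ * (Jalt F ⊗ₖ Jalt F) * b = μ • (Jalt F ⊗ₖ Jalt F)) :
    (∃ A C : Matrix (Fin 2) (Fin 2) F, IsUnit A.det ∧ IsUnit C.det ∧ b = A ⊗ₖ C) ∨ b.det = -μ ^ 2 := by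
  obtain ⟨φ, hφ⟩ : ∃ φ : Matrix (Fin 2) (Fin 2) F →ₗ[F] Matrix (Fin 2) (Fin 2) F,
      ∀ X, φ X = vec.symm (b *ᵥ vec X) :=
    ⟨{ toFun := fun X => vec.symm (b *ᵥ vec X)
       map_add' := fun X Y => by rw [map_add, Matrix.mulVec_add, map_add]
       map_smul' := fun c X => by rw [map_smul, Matrix.mulVec_smul, map_smul, RingHom.id_apply] },
      fun X => rfl⟩
  have hvφ : ∀ X, vec (φ X) = b *ᵥ vec X := by
    intro X
    rw [hφ, LinearEquiv.apply_symm_apply]
  have hdet : ∀ X, (φ X).det = μ * X.det := by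
    intro X
    have h1 := dot_JJ (φ X)
    have key : vec X ⬝ᵥ ((bᵀ * (Jalt F ⊗ₖ Jalt F) * b) *ᵥ vec X) =
        (b *ᵥ vec X) ⬝ᵥ ((Jalt F ⊗ₖ Jalt F) *ᵥ (b *ᵥ vec X)) := by
      rw [← Matrix.mulVec_mulVec, ← Matrix.mulVec_mulVec, Matrix.dotProduct_mulVec, Matrix.vecMul_transpose]
    rw [hvφ, ← key, hb, Matrix.smul_mulVec, dotProduct_smul, dot_JJ, smul_eq_mul] at h1
    have h3 : (2 : F) * (φ X).det = 2 * (μ * X.det) := by rw [← h1]; ring
    exact mul_left_cancel₀ h2 h3
  obtain ⟨A, C, hA, hC, hAC⟩ := Cfsg.Agent.Helper4.GO4.det_similarity_structure φ hμ hdet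
  rcases hAC with hAC | hAC
  · left
    refine ⟨A, Cᵀ, hA, by rw [Matrix.det_transpose]; exact hC, ?_⟩
    apply Matrix.toLin'.injective
    apply LinearMap.ext
    intro z
    rw [Matrix.toLin'_apply, Matrix.toLin'_apply]
    have h1 := hvφ (vec.symm z)
    rw [LinearEquiv.apply_symm_apply] at h1
    rw [← h1, hAC]
    have h4 := kron_mulVec_vec A C (vec.symm z)
    rw [LinearEquiv.apply_symm_apply] at h4
    rw [h4]
  · right
    have hbeq : b = (A ⊗ₖ Cᵀ).submatrix id (Equiv.prodComm (Fin 2) (Fin 2)) := by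
      apply Matrix.toLin'.injective
      apply LinearMap.ext
      intro z
      rw [Matrix.toLin'_apply, Matrix.toLin'_apply]
      have h1 := hvφ (vec.symm z)
      rw [LinearEquiv.apply_symm_apply] at h1
      rw [← h1, hAC]
      have h4 := kron_swap_mulVec_vec A C (vec.symm z)
      rw [LinearEquiv.apply_symm_apply] at h4
      rw [h4]
    have hμeq : μ = A.det * C.det := by
      have h1 := hdet 1
      rw [hAC, Matrix.transpose_one, Matrix.mul_one, Matrix.det_mul, Matrix.det_one, mul_one] at h1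
      exact h1.symm
    rw [hbeq, Matrix.det_permute', sign_prodComm, Matrix.det_kronecker, Matrix.det_transpose, Fintype.card_fin,
      hμeq]
    push_cast
    ring

end Cfsg.Agent.Helper5.GO4
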