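import Mathlib
import Cfsg.Prelude.Def_GeometricClasses
import Cfsg.Agent.Helper5.AschOm3X4A
import Cfsg.Agent.Helper7.QPaF
import Cfsg.Agent.Helper7.TnSpB
import Cfsg.Agent.Helper8.AschOmType

/-!
# ASCH-OM3, piece X4 `tensor_O3_O4plus`, part B: the hyperbolic frame of a four-dimensional space of plus type

A non-degenerate symmetric form of plus type in dimension four (`2 ≠ 0`) has, in a suitable basis indexed through
`Fin 4 ≃ Fin 2 × Fin 2`, the Gram matrix `½ (J ⊗ J)`: the quadratic form becomes `det` on `M₂(F)`.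
-/

set_option autoImplicit false
set_option linter.style.haveILetI false
set_option linter.unusedSectionVars false
set_option linter.unusedVariables false
set_option linter.unnecessarySeqFocus false

namespace Cfsg.Agent.Helper5.GO4

open Matrix Cfsg Cfsg.Geo
open scoped Kronecker

variable {F : Type*} [Field F]

/-- a non-degenerate symmetric bilinear form gives a non-degenerate quadratic form (`2 ≠ 0`) -/
theorem isNondegQuad_of_symm {ι : Type} [Fintype ι] [DecidableEq ι]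
    (f : (ι → F) → (ι → F) → F) (hb : IsBilinearForm f) (hs : ∀ v w, f v w = f w v)
    (hn : IsNondegenerateForm f) (h2 : (2 : F) ≠ 0) :
    IsNondegenerateQuadraticForm (fun v => f v v) := by
  have hpolar : QuadraticMap.polar (fun v => f v v) = fun v w => 2 * f v w := by
    funext v w
    show f (v + w) (v + w) - f v v - f w w = 2 * f v w
    rw [hb.add_left, hb.add_right, hb.add_right, hs w v]
    ring
  refine ⟨?_, ?_, ?_⟩
  · intro c v
    show f (c • v) (c • v) = c ^ 2 * f v v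
    rw [hb.smul_left, hb.smul_right]
    ring
  · rw [hpolar]
    exact ⟨fun x y v => by rw [hb.add_left]; ring, fun c x v => by rw [hb.smul_left]; ring,
      fun v x y => by rw [hb.add_right]; ring, fun c v x => by rw [hb.smul_right]; ring⟩
  · rw [hpolar]
    intro v hv
    obtain ⟨⟨x, hx⟩, ⟨y, hy⟩⟩ := hn v hv
    exact ⟨⟨x, mul_ne_zero h2 hx⟩, ⟨y, mul_ne_zero h2 hy⟩⟩

/-- the coordinates of a `2 × 2` matrix in the standard hyperbolic space of dimension four -/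
def hypCoord : (Fin 2 × Fin 2 → F) →ₗ[F] (Fin 2 ⊕ Fin 2 → F) where
  toFun z := Sum.elim ![z (0, 0), -z (0, 1)] ![z (1, 1), z (1, 0)]
  map_add' z z' := by
    funext i
    rcases i with i | i <;> fin_cases i <;> simp
    ring
  map_smul' c z := by
    funext i
    rcases i with i | i <;> fin_cases i <;> simp

theorem quadFormPlus_hypCoord (z : Fin 2 × Fin 2 → F) :
    quadFormPlus 2 F (hypCoord z) = z (0, 0) * z (1, 1) - z (0, 1) * z (1, 0) := by
  unfold quadFormPlus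
  rw [Fin.sum_univ_two]
  simp [hypCoord]
  ring

/-- the bilinear form `J ⊗ J` in coordinates -/
theorem dot_JJ_bilin (y y' : Fin 2 × Fin 2 → F) :
    y ⬝ᵥ ((Jalt F ⊗ₖ Jalt F) *ᵥ y') =
      y (0, 0) * y' (1, 1) + y (1, 1) * y' (0, 0) - y (0, 1) * y' (1, 0) - y (1, 0) * y' (0, 1) := by
  simp only [dotProduct, Matrix.mulVec, Fintype.sum_prod_type, Fin.sum_univ_two, Matrix.kroneckerMap_apply, Jalt]
  simp
  ring

theorem dot_submatrix_equiv {κ κ' : Type} [Fintype κ] [Fintype κ'] (s : κ ≃ κ') (M : Matrix κ' κ' F)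
    (z z' : κ → F) :
    z ⬝ᵥ ((M.submatrix s s) *ᵥ z') = (z ∘ s.symm) ⬝ᵥ (M *ᵥ (z' ∘ s.symm)) := by
  simp only [dotProduct, Matrix.mulVec, Matrix.submatrix_apply, Function.comp_apply]
  rw [← Equiv.sum_comp s]
  apply Finset.sum_congr rfl
  intro k _
  rw [Equiv.symm_apply_apply]
  congr 1
  rw [← Equiv.sum_comp s]
  apply Finset.sum_congr rfl
  intro l _
  rw [Equiv.symm_apply_apply]

/-- **the hyperbolic frame** -/
theorem exists_hyp_frame (h2 : (2 : F) ≠ 0) (f₂ : (Fin 4 → F) → (Fin 4 → F) → F) (h₂ : IsSymmetricForm f₂)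
    (hplus : IsPlusTypeOn (fun v : Fin 4 → F => f₂ v v) ⊤) (s : Fin 4 ≃ Fin 2 × Fin 2) :
    ∃ V : Matrix (Fin 4) (Fin 4) F, V.det ≠ 0 ∧
      Vᵀ * gramMatrix f₂ * V = (2⁻¹ : F) • (Jalt F ⊗ₖ Jalt F).submatrix s s := by
  classical
  have hb := h₂.bilinear
  obtain ⟨Q₂, hQ₂def⟩ : ∃ Q₂ : (Fin 4 → F) → F, Q₂ = fun v => f₂ v v := ⟨_, rfl⟩
  have hQ₂a : ∀ v, Q₂ v = f₂ v v := by
    intro v
    rw [hQ₂def]
  have hQ₂ : IsNondegenerateQuadraticForm Q₂ := by
    rw [hQ₂def]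
    exact isNondegQuad_of_symm f₂ hb h₂.symm h₂.nondegenerate h2
  have hplus' : IsPlusTypeOn Q₂ ⊤ := by
    rw [hQ₂def]
    exact hplus
  have hND := Cfsg.Agent.Helper8.QuadType.nd_top_of_nondeg (Cfsg.Agent.Lead.AschOm.toQF_nondeg Q₂ hQ₂)
  have hy : Cfsg.Agent.Helper7.QTy.Hyp (Cfsg.Agent.Lead.AschOm.toQF Q₂ hQ₂) ⊤ :=
    (Cfsg.Agent.Helper8.AschOm.hyp_iff_isPlusTypeOn Q₂ hQ₂ ⊤).2 hplus'
  have hd : Module.finrank F (Fin 4 → F) = 2 * 2 := by rw [Module.finrank_fin_fun]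
  obtain ⟨ε, hε⟩ := Cfsg.Agent.Helper7.QPa.exists_plus_iso hND hy hd
  obtain ⟨L, hL⟩ : ∃ L : (Fin 4 → F) →ₗ[F] (Fin 4 → F), ∀ z, L z = ε.symm (hypCoord (z ∘ s.symm)) :=
    ⟨{ toFun := fun z => ε.symm (hypCoord (z ∘ s.symm))
       map_add' := fun z z' => by
         have : (z + z') ∘ s.symm = z ∘ s.symm + z' ∘ s.symm := rfl
         rw [this, map_add, map_add]
       map_smul' := fun c z => by
         have : (c • z) ∘ s.symm = c • (z ∘ s.symm) := rfl
         rw [this, map_smul, map_smul, RingHom.id_apply] }, fun z => rfl⟩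
  obtain ⟨V, hV⟩ : ∃ V : Matrix (Fin 4) (Fin 4) F, V = LinearMap.toMatrix' L := ⟨_, rfl⟩
  have hVz : ∀ z, V *ᵥ z = L z := by
    intro z
    rw [hV, LinearMap.toMatrix'_mulVec]
  -- the quadratic form in the new coordinates
  have hquad : ∀ z : Fin 4 → F, f₂ (V *ᵥ z) (V *ᵥ z) =
      (z ∘ s.symm) (0, 0) * (z ∘ s.symm) (1, 1) - (z ∘ s.symm) (0, 1) * (z ∘ s.symm) (1, 0) := by
    intro z
    rw [hVz, ← hQ₂a, hL]
    have h3 := hε (ε.symm (hypCoord (z ∘ s.symm)))
    rw [LinearEquiv.apply_symm_apply, Cfsg.Agent.Helper8.StdForms.plusForm_apply, quadFormPlus_hypCoord] at h3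
    exact h3.symm
  -- the bilinear form in the new coordinates
  have hbil : ∀ z z' : Fin 4 → F, f₂ (V *ᵥ z) (V *ᵥ z') =
      2⁻¹ * (z ⬝ᵥ (((Jalt F ⊗ₖ Jalt F).submatrix s s) *ᵥ z')) := by
    intro z z'
    have h3 := hquad (z + z')
    rw [Matrix.mulVec_add, hb.add_left, hb.add_right, hb.add_right, hquad z, hquad z', h₂.symm (V *ᵥ z') (V *ᵥ z)]
      at h3
    rw [dot_submatrix_equiv, dot_JJ_bilin]
    have h4 : (2 : F) * f₂ (V *ᵥ z) (V *ᵥ z') =
        (z ∘ s.symm) (0, 0) * (z' ∘ s.symm) (1, 1) + (z ∘ s.symm) (1, 1) * (z' ∘ s.symm) (0, 0) -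
          (z ∘ s.symm) (0, 1) * (z' ∘ s.symm) (1, 0) - (z ∘ s.symm) (1, 0) * (z' ∘ s.symm) (0, 1) := by
      have h5 : ∀ p, ((z + z') ∘ s.symm) p = (z ∘ s.symm) p + (z' ∘ s.symm) p := fun p => rfl
      rw [h5, h5, h5, h5] at h3
      linear_combination h3
    rw [← h4, ← mul_assoc, inv_mul_cancel₀ h2, one_mul]
  have hgram : Vᵀ * gramMatrix f₂ * V = (2⁻¹ : F) • (Jalt F ⊗ₖ Jalt F).submatrix s s := by
    apply Cfsg.Agent.Helper7.TnSp.matrix_eq_of_forall_dot
    intro u v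
    rw [Cfsg.Agent.Helper7.TnSp.dot_transpose_mul_mul, ← Cfsg.Agent.Helper7.TnSp.eq_dot_gram f₂ hb, hbil,
      Matrix.smul_mulVec, dotProduct_smul, smul_eq_mul]
  refine ⟨V, ?_, hgram⟩
  intro h0
  have h3 := congrArg Matrix.det hgram
  rw [Matrix.det_mul, Matrix.det_mul, Matrix.det_transpose, h0, zero_mul, zero_mul, Matrix.det_smul,
    Matrix.det_submatrix_equiv_self, Matrix.det_kronecker, Jalt_det] at h3
  simp only [one_pow, mul_one] at h3
  exact pow_ne_zero _ (inv_ne_zero h2) h3.symm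

end Cfsg.Agent.Helper5.GO4
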