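import Mathlib
import Cfsg.Prelude.Def_Transfer
import Cfsg.Agent.Helper1.Coprime
import Cfsg.Agent.Helper5.Misc
import Cfsg.Agent.Helper5.Generation2

/-!
Helper lemmas (helper5): a coprime action of an elementary abelian `p`-group `U` of rank at least two
with `C_R(U₀) = 1` for all maximal subgroups `U₀` of `U` is an action on the trivial group.
-/

set_option autoImplicit false

namespace Cfsg.Agent.Helper5

variable {G : Type*} [Group G]

/-- `U₀` is a maximal proper subgroup of `U`. -/
def IsMaxIn (U₀ U : Subgroup G) : Prop :=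
  U₀ < U ∧ ∀ W : Subgroup G, U₀ < W → W ≤ U → W = U

theorem isCoatom_subgroupOf_of_isMaxIn {U₀ U : Subgroup G} (h : IsMaxIn U₀ U) :
    IsCoatom (U₀.subgroupOf U) := by
  obtain ⟨hlt, hmax⟩ := h
  constructor
  · intro htop
    rw [Subgroup.subgroupOf_eq_top] at htop
    exact (not_le_of_gt hlt) htop
  · intro b hb
    have h1 : U₀ < b.map U.subtype := by
      have h2 : (U₀.subgroupOf U).map U.subtype < b.map U.subtype :=
        (Subgroup.map_lt_map_iff_of_injective U.subtype_injective).mpr hb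
      rwa [Subgroup.map_subgroupOf_eq_of_le hlt.le] at h2
    have h3 : b.map U.subtype ≤ U := Subgroup.map_subtype_le b
    have h4 := hmax _ h1 h3
    have h5 : b.map U.subtype = (⊤ : Subgroup ↥U).map U.subtype := by
      rw [h4, ← MonoidHom.range_eq_map, Subgroup.range_subtype]
    exact Subgroup.map_injective U.subtype_injective h5

theorem mem_of_mem_zpowers_of_prime {p : ℕ} [Fact p.Prime] (W : Subgroup G) (x z : G) (hxp : x ^ p = 1)
    (hz : z ∈ Subgroup.zpowers x) (hzW : z ∈ W) (hz1 : z ≠ 1) : x ∈ W := by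
  have hfin : IsOfFinOrder x := isOfFinOrder_iff_pow_eq_one.mpr ⟨p, (Fact.out : p.Prime).pos, hxp⟩
  rw [← hfin.mem_powers_iff_mem_zpowers] at hz
  obtain ⟨k, hk⟩ := hz
  have hk' : x ^ k = z := hk
  subst hk'
  have hpk : ¬ p ∣ k := by
    rintro ⟨m, rfl⟩
    apply hz1
    rw [pow_mul, hxp, one_pow]
  have hcop : k.Coprime p := ((Nat.Prime.coprime_iff_not_dvd (Fact.out : p.Prime)).mpr hpk).symm
  exact mem_of_pow_mem_of_coprime W x k p hcop hzW (by rw [hxp]; exact W.one_mem)

/-- If `V < W ≤ U` with `U` abelian, and `x ∈ U \ W` has order `p`, then `V⟨x⟩ ≠ U`. -/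
theorem sup_zpowers_ne {p : ℕ} [Fact p.Prime] {V W U : Subgroup G} [IsMulCommutative ↥U] (hVW : V < W) (hWU : W ≤ U)
    (x : G) (hxU : x ∈ U) (hxp : x ^ p = 1) (hxW : x ∉ W) : V ⊔ Subgroup.zpowers x ≠ U := by
  intro heq
  have hZn : Subgroup.zpowers x ≤ Subgroup.normalizer (V : Set G) := by
    rw [Subgroup.zpowers_le]
    have : x ∈ Subgroup.centralizer (V : Set G) := by
      rw [Subgroup.mem_centralizer_iff]
      intro v hv
      exact setLike_mul_comm (hWU (hVW.le hv)) hxU
    exact Subgroup.centralizer_le_normalizer _ this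
  apply not_le_of_gt hVW
  intro w hw
  have hw' : w ∈ V ⊔ Subgroup.zpowers x := by rw [heq]; exact hWU hw
  obtain ⟨v, hv, z, hz, rfl⟩ := Cfsg.Agent.Helper1.mem_sup_of_le_normalizer hZn hw'
  have hzW : z ∈ W := by
    have : z = v⁻¹ * (v * z) := by group
    rw [this]
    exact W.mul_mem (W.inv_mem (hVW.le hv)) hw
  by_cases hz1 : z = 1
  · rw [hz1, mul_one]; exact hv
  · exact absurd (mem_of_mem_zpowers_of_prime W x z hxp hz hzW hz1) hxW

theorem eq_bot_of_hyperplanes [Finite G] {p : ℕ} [Fact p.Prime] (U : Subgroup G)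
    (hU : Cfsg.IsElementaryAbelian p U) :
    ∀ (n : ℕ) (V R : Subgroup G), Nat.card ↥U - Nat.card ↥V = n → V < U → ¬ IsMaxIn V U →
      V ≤ Subgroup.centralizer (R : Set G) → U ≤ Subgroup.normalizer (R : Set G) →
      (Nat.card ↥U).Coprime (Nat.card ↥R) →
      (∀ U₀ : Subgroup G, V ≤ U₀ → IsMaxIn U₀ U → R ⊓ Subgroup.centralizer (U₀ : Set G) = ⊥) → R = ⊥ := by
  have hpp : p.Prime := Fact.out
  have hUc : IsMulCommutative ↥U := hU.1
  intro n
  induction n using Nat.strong_induction_on with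
  | _ n ih =>
  intro V R hn hVU hVmax hVR hUR hcop hhyp
  -- an intermediate subgroup
  have hex : ∃ W : Subgroup G, V < W ∧ W ≤ U ∧ W ≠ U := by
    by_contra hcon
    apply hVmax
    refine ⟨hVU, ?_⟩
    intro W hVW hWU
    by_contra hne
    exact hcon ⟨W, hVW, hWU, hne⟩
  obtain ⟨W, hVW, hWU, hWne⟩ := hex
  have hWltU : W < U := lt_of_le_of_ne hWU hWne
  obtain ⟨a, haW, haV⟩ := SetLike.exists_of_lt hVW
  obtain ⟨b, hbU, hbW⟩ := SetLike.exists_of_lt hWltU
  have haU : a ∈ U := hWU haW
  have hap : a ^ p = 1 := hU.2 a haU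
  have hbp : b ^ p = 1 := hU.2 b hbU
  have hab : a * b = b * a := setLike_mul_comm haU hbU
  -- facts about x = a^s b^t
  have factA : ∀ s t : ZMod p, t ≠ 0 → abPow p a b s t ∉ W := by
    intro s t ht hx
    have hj : ¬ p ∣ t.val := by
      intro hd
      apply ht
      rw [← ZMod.natCast_zmod_val t, ZMod.natCast_eq_zero_iff]
      exact hd
    have hbj : b ^ t.val ∈ W := by
      have : b ^ t.val = (a ^ s.val)⁻¹ * abPow p a b s t := by
        unfold abPow; group
      rw [this]
      exact W.mul_mem (W.inv_mem (W.pow_mem haW _)) hx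
    have hcop' : (t.val).Coprime p := ((Nat.Prime.coprime_iff_not_dvd hpp).mpr hj).symm
    exact hbW (mem_of_pow_mem_of_coprime W b t.val p hcop' hbj (by rw [hbp]; exact W.one_mem))
  have factB : ∀ s : ZMod p, s ≠ 0 → abPow p a b s 0 ∉ V := by
    intro s hs hx
    have hi : ¬ p ∣ s.val := by
      intro hd
      apply hs
      rw [← ZMod.natCast_zmod_val s, ZMod.natCast_eq_zero_iff]
      exact hd
    have hai : a ^ s.val ∈ V := by
      have : a ^ s.val = abPow p a b s 0 := by
        unfold abPow; simp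
      rw [this]; exact hx
    have hcop' : (s.val).Coprime p := ((Nat.Prime.coprime_iff_not_dvd hpp).mpr hi).symm
    exact haV (mem_of_pow_mem_of_coprime V a s.val p hcop' hai (by rw [hap]; exact V.one_mem))
  have factB' : ∀ s : ZMod p, abPow p a b s 0 ∈ W := by
    intro s
    have : abPow p a b s 0 = a ^ s.val := by
      unfold abPow; simp
    rw [this]
    exact W.pow_mem haW _
  have hnotV : ∀ s t : ZMod p, (s ≠ 0 ∨ t ≠ 0) → abPow p a b s t ∉ V := by
    intro s t hst
    by_cases ht : t = 0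
    · subst ht
      rcases hst with hs | h0
      · exact factB s hs
      · exact absurd rfl h0
    · intro hx
      exact factA s t ht (hVW.le hx)
  have hind : ∀ s t : ZMod p, abPow p a b s t = 1 → s = 0 ∧ t = 0 := by
    intro s t h1
    by_contra hcon
    have hst : s ≠ 0 ∨ t ≠ 0 := by
      by_contra h2
      push Not at h2
      exact hcon h2
    apply hnotV s t hst
    rw [h1]; exact V.one_mem
  have hgen := le_genCent U a b haU hbU hap hbp hind (Nat.card ↥R) R rfl hUR hcop
  rw [eq_bot_iff]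
  refine hgen.trans ?_
  unfold genCent
  apply iSup_le
  rintro ⟨⟨s, t⟩, hst⟩
  show R ⊓ Subgroup.centralizer {abPow p a b s t} ≤ ⊥
  set x := abPow p a b s t with hx
  have hxU : x ∈ U := abPow_mem U a b haU hbU s t
  have hxV : x ∉ V := hnotV s t hst
  have hxp : x ^ p = 1 := hU.2 x hxU
  have hZU : Subgroup.zpowers x ≤ U := Subgroup.zpowers_le.mpr hxU
  have hVV' : V < V ⊔ Subgroup.zpowers x := by
    apply lt_of_le_of_ne le_sup_left
    intro heq
    apply hxV
    rw [heq]
    exact Subgroup.mem_sup_right (Subgroup.mem_zpowers x)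
  have hV'U : V ⊔ Subgroup.zpowers x ≤ U := sup_le hVU.le hZU
  have hV'ne : V ⊔ Subgroup.zpowers x ≠ U := by
    by_cases ht : t = 0
    · intro heq
      apply hWne
      apply le_antisymm hWU
      rw [← heq]
      apply sup_le hVW.le
      rw [Subgroup.zpowers_le, hx, ht]
      exact factB' s
    · exact sup_zpowers_ne hVW hWU x hxU hxp (factA s t ht)
  have hV'lt : V ⊔ Subgroup.zpowers x < U := lt_of_le_of_ne hV'U hV'ne
  -- the new data
  have hV'R' : V ⊔ Subgroup.zpowers x ≤
      Subgroup.centralizer ((R ⊓ Subgroup.centralizer {x} : Subgroup G) : Set G) := by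
    apply sup_le
    · exact hVR.trans (Subgroup.centralizer_le inf_le_left)
    · rw [Subgroup.zpowers_le, Subgroup.mem_centralizer_iff]
      intro r hr
      have h2 : r ∈ Subgroup.centralizer ({x} : Set G) := hr.2
      rw [Subgroup.mem_centralizer_singleton_iff] at h2
      exact h2
  have hUcx : U ≤ Subgroup.centralizer ({x} : Set G) := by
    intro w hw
    rw [Subgroup.mem_centralizer_singleton_iff]
    exact setLike_mul_comm hw hxU
  have hUR' : U ≤ Subgroup.normalizer ((R ⊓ Subgroup.centralizer {x} : Subgroup G) : Set G) :=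
    Cfsg.Agent.Helper1.le_normalizer_inf hUR (hUcx.trans Subgroup.le_normalizer)
  have hcop' : (Nat.card ↥U).Coprime (Nat.card ↥(R ⊓ Subgroup.centralizer {x} : Subgroup G)) :=
    Nat.Coprime.coprime_dvd_right (Subgroup.card_dvd_of_le inf_le_left) hcop
  have hhyp' : ∀ U₀ : Subgroup G, V ⊔ Subgroup.zpowers x ≤ U₀ → IsMaxIn U₀ U →
      (R ⊓ Subgroup.centralizer {x}) ⊓ Subgroup.centralizer (U₀ : Set G) = ⊥ := by
    intro U₀ h1 h2
    rw [eq_bot_iff, ← hhyp U₀ (le_sup_left.trans h1) h2]
    exact inf_le_inf_right _ inf_le_left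
  by_cases hmax' : IsMaxIn (V ⊔ Subgroup.zpowers x) U
  · have h1 := hhyp' _ le_rfl hmax'
    rw [← h1]
    exact le_inf le_rfl (Subgroup.le_centralizer_iff.mp hV'R')
  · have hlt : Nat.card ↥U - Nat.card ↥(V ⊔ Subgroup.zpowers x : Subgroup G) < n := by
      have h1 : Nat.card ↥V < Nat.card ↥(V ⊔ Subgroup.zpowers x : Subgroup G) :=
        Set.Finite.card_lt_card (Set.toFinite _) (SetLike.coe_ssubset_coe.mpr hVV')
      have h2 : Nat.card ↥(V ⊔ Subgroup.zpowers x : Subgroup G) ≤ Nat.card ↥U := Subgroup.card_le_of_le hV'U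
      omega
    have := ih _ hlt (V ⊔ Subgroup.zpowers x) (R ⊓ Subgroup.centralizer {x}) rfl hV'lt hmax' hV'R' hUR' hcop' hhyp'
    rw [this]

end Cfsg.Agent.Helper5
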