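import Mathlib
import Cfsg.Agent.Lead.BswDefs
import Cfsg.Agent.Lead.BswDefs2
import Cfsg.Agent.Lead.Bsw_A1_12
import Cfsg.Agent.Helper5.Bsw_A13_20
import Cfsg.Agent.Helper7.Bsw_A31_35
import Cfsg.Agent.Helper3.Bsw_C7_C8
import Cfsg.Agent.Lead.Bsw_F4_9
import Cfsg.Agent.Lead.Bsw_F1_9
import Cfsg.Agent.Helper8.Bsw_F14_15

/-!
# S3282 (abstract Brauer–Suzuki–Wall), group side, pieces F16a–e (helper5)
`Q = C(x)` acts regularly on the other conjugates; the two-point stabilizer `D0`.
-/

set_option autoImplicit false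
set_option linter.unusedVariables false
set_option linter.unusedSectionVars false
set_option linter.style.haveILetI false

namespace Cfsg.Agent.Lead.Bsw

variable {G : Type*} [Group G] [Finite G] {t s : G} {K : Subgroup G}

/-! ### general conjugation lemmas -/

theorem h5_mem_normalizer_iff_map {A : Subgroup G} {g : G} :
    g ∈ Subgroup.normalizer (A : Set G) ↔ A.map (MulAut.conj g).toMonoidHom = A := by
  constructor
  · intro hg
    rw [Subgroup.mem_normalizer_iff] at hg
    ext x
    rw [h5_mem_map_conj, hg (g⁻¹ * x * g)]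
    have : g * (g⁻¹ * x * g) * g⁻¹ = x := by group
    rw [this]
  · intro hg
    rw [Subgroup.mem_normalizer_iff]
    intro x
    constructor
    · intro hx
      rw [← hg, h5_mem_map_conj]
      have : g⁻¹ * (g * x * g⁻¹) * g = x := by group
      rw [this]; exact hx
    · intro hx
      rw [← hg, h5_mem_map_conj] at hx
      have : g⁻¹ * (g * x * g⁻¹) * g = x := by group
      rw [this] at hx; exact hx

theorem h5_map_conj_mul (A : Subgroup G) (a b : G) :
    A.map (MulAut.conj (a * b)).toMonoidHom =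
      (A.map (MulAut.conj b).toMonoidHom).map (MulAut.conj a).toMonoidHom := by
  ext x
  rw [h5_mem_map_conj, h5_mem_map_conj, h5_mem_map_conj]
  have : (a * b)⁻¹ * x * (a * b) = b⁻¹ * (a⁻¹ * x * a) * b := by group
  rw [this]

theorem h5_map_conj_one (A : Subgroup G) : A.map (MulAut.conj (1 : G)).toMonoidHom = A := by
  ext x
  rw [h5_mem_map_conj]
  simp

theorem h5_map_conj_inj {A B : Subgroup G} {g : G}
    (h : A.map (MulAut.conj g).toMonoidHom = B.map (MulAut.conj g).toMonoidHom) : A = B :=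
  Subgroup.map_injective (MulAut.conj g).injective h

theorem h5_mem_normalizer_map_conj {A : Subgroup G} {g y : G} :
    g ∈ Subgroup.normalizer ((A.map (MulAut.conj y).toMonoidHom : Subgroup G) : Set G) ↔
      y⁻¹ * g * y ∈ Subgroup.normalizer (A : Set G) := by
  rw [h5_mem_normalizer_iff_map, h5_mem_normalizer_iff_map, ← h5_map_conj_mul]
  constructor
  · intro h
    have h1 : y⁻¹ * g * y = y⁻¹ * (g * y) := by group
    rw [h1, h5_map_conj_mul, h, ← h5_map_conj_mul, inv_mul_cancel, h5_map_conj_one]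
  · intro h
    have h1 : g * y = y * (y⁻¹ * g * y) := by group
    rw [h1, h5_map_conj_mul, h]

/-- an element of `N(A)` whose order is coprime to `|N(A) : A|` lies in `A`. -/
theorem h5_mem_of_normalizer_coprime {A : Subgroup G} {y : G} {m : ℕ}
    (hyN : y ∈ Subgroup.normalizer (A : Set G))
    (hcard : Nat.card (Subgroup.normalizer (A : Set G)) = Nat.card A * m)
    (hcop : Nat.Coprime m (orderOf y)) : y ∈ A := by
  haveI : (A.subgroupOf (Subgroup.normalizer (A : Set G))).Normal := Subgroup.normal_in_normalizer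
  have hidx : (A.subgroupOf (Subgroup.normalizer (A : Set G))).index = m := by
    have h1 := Subgroup.card_mul_index (A.subgroupOf (Subgroup.normalizer (A : Set G)))
    have h2 : Nat.card (A.subgroupOf (Subgroup.normalizer (A : Set G))) = Nat.card A :=
      Nat.card_congr (Subgroup.subgroupOfEquivOfLe Subgroup.le_normalizer).toEquiv
    rw [h2, hcard] at h1
    have hA : 0 < Nat.card A := Nat.card_pos
    exact Nat.eq_of_mul_eq_mul_left hA h1
  have hpow : (⟨y, hyN⟩ : ↥(Subgroup.normalizer (A : Set G))) ^ m ∈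
      A.subgroupOf (Subgroup.normalizer (A : Set G)) := by
    rw [← hidx]; exact Subgroup.pow_index_mem _ _
  have hpow' : y ^ m ∈ A := by
    rw [Subgroup.mem_subgroupOf] at hpow
    simpa using hpow
  obtain ⟨j, hj⟩ := exists_pow_eq_self_of_coprime hcop
  rw [← hj]
  exact A.pow_mem hpow' j

/-! ### F16 -/

-- F16a : Q acts semiregularly on the other conjugates
theorem minus_semireg (hm : HypMinus t K s) {x x' y : G} (hx : IsNR x) (hx' : IsNR x')
    (hne : Subgroup.centralizer ({x'} : Set G) ≠ Subgroup.centralizer ({x} : Set G))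
    (hy : y ∈ Subgroup.centralizer ({x} : Set G))
    (hyN : y ∈ Subgroup.normalizer ((Subgroup.centralizer ({x'} : Set G) : Subgroup G) : Set G)) : y = 1 := by
  by_contra hy1
  have hk := hm.hk
  have hyNR : IsNR y := NR_cent hm.h hx hy hy1
  have hord : orderOf y ∣ 2 * Nat.card K - 1 := minus_orderOf_NR hm hyNR
  have hcard : Nat.card (Subgroup.normalizer ((Subgroup.centralizer ({x'} : Set G) : Subgroup G) : Set G)) =
      Nat.card (Subgroup.centralizer ({x'} : Set G)) * (Nat.card K - 1) := by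
    rw [minus_card_normalizer hm hx', minus_NR_cent_card hm hx']
  have hcop : Nat.Coprime (Nat.card K - 1) (orderOf y) := by
    apply Nat.Coprime.coprime_dvd_right hord
    have h1 : 2 * Nat.card K - 1 = 2 * (Nat.card K - 1) + 1 := by omega
    rw [h1]
    rw [Nat.coprime_mul_right_add_right]
    exact Nat.coprime_one_right _
  have hyQ' : y ∈ Subgroup.centralizer ({x'} : Set G) := h5_mem_of_normalizer_coprime hyN hcard hcop
  have h1 := minus_Q_cent hm hx hy hy1
  have h2 := minus_Q_cent hm hx' hyQ' hy1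
  exact hne (h2.symm.trans h1)

-- F16b : Q is transitive on the other conjugates
theorem minus_trans (hm : HypMinus t K s) {x x' x'' : G} (hx : IsNR x) (hx' : IsNR x') (hx'' : IsNR x'')
    (hne' : Subgroup.centralizer ({x'} : Set G) ≠ Subgroup.centralizer ({x} : Set G))
    (hne'' : Subgroup.centralizer ({x''} : Set G) ≠ Subgroup.centralizer ({x} : Set G)) :
    ∃ y ∈ Subgroup.centralizer ({x} : Set G), Subgroup.centralizer ({x''} : Set G) =
      (Subgroup.centralizer ({x'} : Set G)).map (MulAut.conj y).toMonoidHom := by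
  classical
  set Q := Subgroup.centralizer ({x} : Set G) with hQ
  set Q' := Subgroup.centralizer ({x'} : Set G) with hQ'
  let 𝒞 : Set (Subgroup G) := {Q₁ | ∃ x' : G, IsNR x' ∧ Q₁ = Subgroup.centralizer ({x'} : Set G)}
  have hcardC : 𝒞.ncard = 2 * Nat.card K := by
    rw [← Nat.card_coe_set_eq]; exact minus_card_conjugates hm hx
  have hQmem : Q ∈ 𝒞 := ⟨x, hx, rfl⟩
  have hinj : Set.InjOn (fun y : G => Q'.map (MulAut.conj y).toMonoidHom) (Q : Set G) := by
    intro y₁ hy₁ y₂ hy₂ h12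
    have h1 : y₂⁻¹ * y₁ ∈ Q := Q.mul_mem (Q.inv_mem hy₂) hy₁
    have h2 : y₂⁻¹ * y₁ ∈ Subgroup.normalizer (Q' : Set G) := by
      rw [h5_mem_normalizer_iff_map, h5_map_conj_mul]
      have h12' : Q'.map (MulAut.conj y₁).toMonoidHom = Q'.map (MulAut.conj y₂).toMonoidHom := h12
      rw [h12', ← h5_map_conj_mul, inv_mul_cancel, h5_map_conj_one]
    have h3 := minus_semireg hm hx hx' hne' h1 h2
    exact (inv_mul_eq_one.1 h3).symm
  have hIcard : ((fun y : G => Q'.map (MulAut.conj y).toMonoidHom) '' (Q : Set G)).ncard =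
      2 * Nat.card K - 1 := by
    rw [Set.InjOn.ncard_image hinj, ← Nat.card_coe_set_eq]
    exact minus_NR_cent_card hm hx
  have hIsub : ((fun y : G => Q'.map (MulAut.conj y).toMonoidHom) '' (Q : Set G)) ⊆ 𝒞 \ {Q} := by
    rintro _ ⟨y, hy, rfl⟩
    refine ⟨⟨y * x' * y⁻¹, (isNR_conj y x').2 hx', (h5_centralizer_conj y x').symm⟩, ?_⟩
    intro hEq
    have hEq' : Q'.map (MulAut.conj y).toMonoidHom = Q := hEq
    apply hne'
    have hyN : Q.map (MulAut.conj y).toMonoidHom = Q :=
      h5_mem_normalizer_iff_map.1 (Subgroup.le_normalizer hy)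
    exact h5_map_conj_inj (hEq'.trans hyN.symm)
  have hdiff : (𝒞 \ {Q}).ncard = 2 * Nat.card K - 1 := by
    rw [Set.ncard_sdiff_singleton_of_mem hQmem, hcardC]
  have hIeq : ((fun y : G => Q'.map (MulAut.conj y).toMonoidHom) '' (Q : Set G)) = 𝒞 \ {Q} :=
    Set.eq_of_subset_of_ncard_le hIsub (by rw [hdiff, hIcard]) (Set.toFinite _)
  have hmem : Subgroup.centralizer ({x''} : Set G) ∈ 𝒞 \ {Q} := ⟨⟨x'', hx'', rfl⟩, hne''⟩
  rw [← hIeq] at hmem
  obtain ⟨y, hy, hyeq⟩ := hmem
  exact ⟨y, hy, hyeq.symm⟩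

/-- decomposition `N(Q) = Q * D0`, elementwise. -/
theorem h5_minus_normalizer_decomp (hm : HypMinus t K s) {x x' g : G} (hx : IsNR x) (hx' : IsNR x')
    (hne : Subgroup.centralizer ({x'} : Set G) ≠ Subgroup.centralizer ({x} : Set G))
    (hg : g ∈ Subgroup.normalizer ((Subgroup.centralizer ({x} : Set G) : Subgroup G) : Set G)) :
    ∃ y ∈ Subgroup.centralizer ({x} : Set G),
      ∃ d ∈ (Subgroup.normalizer ((Subgroup.centralizer ({x} : Set G) : Subgroup G) : Set G) ⊓
        Subgroup.normalizer ((Subgroup.centralizer ({x'} : Set G) : Subgroup G) : Set G) : Subgroup G),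
      g = y * d := by
  have hx'' : IsNR (g * x' * g⁻¹) := (isNR_conj g x').2 hx'
  have hne'' : Subgroup.centralizer ({g * x' * g⁻¹} : Set G) ≠ Subgroup.centralizer ({x} : Set G) := by
    rw [h5_centralizer_conj]
    intro hEq
    apply hne
    have hgN := h5_mem_normalizer_iff_map.1 hg
    exact h5_map_conj_inj (hEq.trans hgN.symm)
  obtain ⟨y, hy, hyeq⟩ := minus_trans hm hx hx' hx'' hne hne''
  rw [h5_centralizer_conj] at hyeq
  refine ⟨y, hy, y⁻¹ * g, ?_, by group⟩
  rw [Subgroup.mem_inf]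
  constructor
  · exact Subgroup.mul_mem _ (Subgroup.inv_mem _ (Subgroup.le_normalizer hy)) hg
  · rw [h5_mem_normalizer_iff_map, h5_map_conj_mul, hyeq, ← h5_map_conj_mul, inv_mul_cancel,
      h5_map_conj_one]

-- F16c : the two-point stabilizer D0 = N(Q) ⊓ N(Q') has order k-1
theorem minus_card_D0 (hm : HypMinus t K s) {x x' : G} (hx : IsNR x) (hx' : IsNR x')
    (hne : Subgroup.centralizer ({x'} : Set G) ≠ Subgroup.centralizer ({x} : Set G)) :
    Nat.card ((Subgroup.normalizer ((Subgroup.centralizer ({x} : Set G) : Subgroup G) : Set G) ⊓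
      Subgroup.normalizer ((Subgroup.centralizer ({x'} : Set G) : Subgroup G) : Set G) : Subgroup G)) =
      Nat.card K - 1 := by
  have hk := hm.hk
  set Q := Subgroup.centralizer ({x} : Set G) with hQ
  set Q' := Subgroup.centralizer ({x'} : Set G) with hQ'
  set D0 : Subgroup G := Subgroup.normalizer (Q : Set G) ⊓ Subgroup.normalizer (Q' : Set G) with hD0
  have hmem : ∀ p : ↥Q × ↥D0, (p.1 : G) * (p.2 : G) ∈ Subgroup.normalizer (Q : Set G) := fun p =>
    Subgroup.mul_mem _ (Subgroup.le_normalizer p.1.2) (Subgroup.mem_inf.1 p.2.2).1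
  have hbij : Function.Bijective
      (fun p : ↥Q × ↥D0 => (⟨(p.1 : G) * (p.2 : G), hmem p⟩ : ↥(Subgroup.normalizer (Q : Set G)))) := by
    constructor
    · rintro ⟨⟨y₁, hy₁⟩, ⟨d₁, hd₁⟩⟩ ⟨⟨y₂, hy₂⟩, ⟨d₂, hd₂⟩⟩ h12
      have h12' : y₁ * d₁ = y₂ * d₂ := congrArg Subtype.val h12
      have h1 : y₂⁻¹ * y₁ = d₂ * d₁⁻¹ := by
        have : y₂⁻¹ * y₁ = y₂⁻¹ * (y₁ * d₁) * d₁⁻¹ := by group
        rw [this, h12']; group
      have h2 : y₂⁻¹ * y₁ ∈ Q := Q.mul_mem (Q.inv_mem hy₂) hy₁
      have h3 : y₂⁻¹ * y₁ ∈ Subgroup.normalizer (Q' : Set G) := by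
        rw [h1]
        exact Subgroup.mul_mem _ (Subgroup.mem_inf.1 hd₂).2 (Subgroup.inv_mem _ (Subgroup.mem_inf.1 hd₁).2)
      have h4 := minus_semireg hm hx hx' hne h2 h3
      have h5 : y₁ = y₂ := (inv_mul_eq_one.1 h4).symm
      subst h5
      have h6 : d₁ = d₂ := mul_left_cancel h12'
      subst h6
      rfl
    · rintro ⟨g, hg⟩
      obtain ⟨y, hy, d, hd, hgd⟩ := h5_minus_normalizer_decomp hm hx hx' hne hg
      exact ⟨⟨⟨y, hy⟩, ⟨d, hd⟩⟩, Subtype.ext hgd.symm⟩
  have hcard := Nat.card_congr (Equiv.ofBijective _ hbij)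
  rw [Nat.card_prod, minus_card_normalizer hm hx, minus_NR_cent_card hm hx] at hcard
  have hpos : 0 < 2 * Nat.card K - 1 := by omega
  exact Nat.eq_of_mul_eq_mul_left hpos hcard

-- F16d : there IS a second conjugate
theorem minus_exists_second (hm : HypMinus t K s) {x : G} (hx : IsNR x) :
    ∃ x' : G, IsNR x' ∧ Subgroup.centralizer ({x'} : Set G) ≠ Subgroup.centralizer ({x} : Set G) := by
  have hk := hm.hk
  by_contra hcon
  have hall : ∀ x' : G, IsNR x' →
      Subgroup.centralizer ({x'} : Set G) = Subgroup.centralizer ({x} : Set G) := by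
    intro x' hx'
    by_contra hne
    exact hcon ⟨x', hx', hne⟩
  have hsub : Subsingleton {Q₁ : Subgroup G // ∃ x' : G, IsNR x' ∧
      Q₁ = Subgroup.centralizer ({x'} : Set G)} := by
    constructor
    rintro ⟨Q₁, x₁, hx₁, rfl⟩ ⟨Q₂, x₂, hx₂, rfl⟩
    apply Subtype.ext
    exact (hall x₁ hx₁).trans (hall x₂ hx₂).symm
  have h1 := Finite.card_le_one_iff_subsingleton.2 hsub
  rw [minus_card_conjugates hm hx] at h1
  omega

-- F16e : there IS an NR element
theorem minus_exists_NR (hm : HypMinus t K s) : ∃ x : G, IsNR x := by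
  have hk := hm.hk
  have h1 : 0 < Nat.card {y : G // IsNR y} := by
    rw [minus_card_NR hm]
    apply Nat.mul_pos (Nat.mul_pos (by norm_num) (by omega)) (by omega)
  obtain ⟨⟨x, hx⟩⟩ := (Nat.card_pos_iff.1 h1).1
  exact ⟨x, hx⟩

end Cfsg.Agent.Lead.Bsw
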