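import Mathlib
import Cfsg.Agent.Lead.BswDefs
import Cfsg.Agent.Lead.BswDefs2
import Cfsg.Agent.Lead.Bsw_A1_12
import Cfsg.Agent.Helper5.Bsw_A13_20
import Cfsg.Agent.Helper7.Bsw_A31_35
import Cfsg.Agent.Helper3.Bsw_C7_C8
import Cfsg.Agent.Lead.Bsw_F4_9
import Cfsg.Agent.Lead.Bsw_F1_9
import Cfsg.Agent.Helper8.Bsw_F14_15
import Cfsg.Agent.Helper5.Bsw_F16

/-!
# S3282 (abstract Brauer–Suzuki–Wall), group side, pieces F17a–d (helper5)
The two-point stabilizer `D0 = N(Q) ⊓ N(Q')` is the torus `C(d)`; `N(Q) = Q ⊔ D0`.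
-/

set_option autoImplicit false
set_option linter.unusedVariables false
set_option linter.unusedSectionVars false
set_option linter.style.haveILetI false

namespace Cfsg.Agent.Lead.Bsw

variable {G : Type*} [Group G] [Finite G] {t s : G} {K : Subgroup G}

theorem h5_coprime_of_eq_mul_add_one {a b c : ℕ} (h : a = c * b + 1) : Nat.Coprime a b := by
  rw [h, Nat.coprime_comm, Nat.coprime_mul_right_add_right]
  exact Nat.coprime_one_right _

-- F17a : nonidentity elements of D0 are torus elements
theorem minus_D0_torus (hm : HypMinus t K s) {x x' d : G} (hx : IsNR x) (hx' : IsNR x')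
    (hne : Subgroup.centralizer ({x'} : Set G) ≠ Subgroup.centralizer ({x} : Set G))
    (hd : d ∈ Subgroup.normalizer ((Subgroup.centralizer ({x} : Set G) : Subgroup G) : Set G) ⊓
      Subgroup.normalizer ((Subgroup.centralizer ({x'} : Set G) : Subgroup G) : Set G)) (hd1 : d ≠ 1) :
    IsTorusElt d := by
  have hk := hm.hk
  have hord : orderOf d ∣ Nat.card K - 1 := by
    rw [← minus_card_D0 hm hx hx' hne]
    exact Subgroup.orderOf_dvd_natCard _ hd
  have hone : ∀ m : ℕ, orderOf d ∣ m → Nat.Coprime m (Nat.card K - 1) → False := by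
    intro m h1 h2
    have h3 : orderOf d ∣ 1 := by
      have h4 := Nat.dvd_gcd h1 hord
      rwa [h2.gcd_eq_one] at h4
    exact hd1 (orderOf_eq_one_iff.1 (Nat.dvd_one.1 h3))
  have hdd : d * d ≠ 1 := by
    intro h2
    have h3 : orderOf d ∣ 2 := orderOf_dvd_of_pow_eq_one (by rw [pow_two]; exact h2)
    apply hone 2 h3
    rw [Nat.coprime_two_left]
    obtain ⟨r, hr⟩ := even_card_K hm.h
    exact ⟨r - 1, by omega⟩
  rcases trichotomy hm.h d hdd with ⟨⟨w, hw, hdw⟩, -, -⟩ | ⟨-, ht, -⟩ | ⟨-, -, hnr⟩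
  · exfalso
    apply hone (Nat.card K)
    · rw [← card_Kz hm.h hw]; exact Subgroup.orderOf_dvd_natCard _ hdw
    · exact h5_coprime_of_eq_mul_add_one (c := 1) (by omega)
  · exact ht
  · exfalso
    apply hone (2 * Nat.card K - 1) (minus_orderOf_NR hm hnr)
    exact h5_coprime_of_eq_mul_add_one (c := 2) (by omega)

-- F17b : d normalizes exactly the two conjugates Q, Q'
theorem minus_D0_fix (hm : HypMinus t K s) {x x' x'' d : G} (hx : IsNR x) (hx' : IsNR x') (hx'' : IsNR x'')
    (hne : Subgroup.centralizer ({x'} : Set G) ≠ Subgroup.centralizer ({x} : Set G))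
    (hd : d ∈ Subgroup.normalizer ((Subgroup.centralizer ({x} : Set G) : Subgroup G) : Set G) ⊓
      Subgroup.normalizer ((Subgroup.centralizer ({x'} : Set G) : Subgroup G) : Set G)) (hd1 : d ≠ 1)
    (hdN : d ∈ Subgroup.normalizer ((Subgroup.centralizer ({x''} : Set G) : Subgroup G) : Set G)) :
    Subgroup.centralizer ({x''} : Set G) = Subgroup.centralizer ({x} : Set G) ∨
    Subgroup.centralizer ({x''} : Set G) = Subgroup.centralizer ({x'} : Set G) := by
  by_cases h1 : Subgroup.centralizer ({x''} : Set G) = Subgroup.centralizer ({x} : Set G)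
  · exact Or.inl h1
  right
  obtain ⟨y, hy, hyeq⟩ := minus_trans hm hx hx' hx'' hne h1
  by_cases hy1 : y = 1
  · rw [hyeq, hy1, h5_map_conj_one]
  exfalso
  rw [Subgroup.mem_inf] at hd
  obtain ⟨hdQ, hdQ'⟩ := hd
  rw [hyeq, h5_mem_normalizer_map_conj] at hdN
  have hcN : y⁻¹ * d * y * d⁻¹ ∈
      Subgroup.normalizer ((Subgroup.centralizer ({x'} : Set G) : Subgroup G) : Set G) :=
    Subgroup.mul_mem _ hdN (Subgroup.inv_mem _ hdQ')
  have hcQ : y⁻¹ * d * y * d⁻¹ ∈ Subgroup.centralizer ({x} : Set G) := by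
    have h2 : y⁻¹ * d * y * d⁻¹ = y⁻¹ * (d * y * d⁻¹) := by group
    rw [h2]
    apply Subgroup.mul_mem _ (Subgroup.inv_mem _ hy)
    exact ((Subgroup.mem_normalizer_iff.1 hdQ) y).1 hy
  have hc1 := minus_semireg hm hx hx' hne hcQ hcN
  have hcomm : y * d = d * y := by
    have h2 : d * y = y * (y⁻¹ * d * y * d⁻¹) * d := by group
    rw [h2, hc1]; group
  have hdCy : d ∈ Subgroup.centralizer ({y} : Set G) := h5_mem_cent_singleton.2 hcomm
  rw [minus_Q_cent hm hx hy hy1] at hdCy
  exact hd1 (minus_semireg hm hx hx' hne hdCy hdQ')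

-- F17c : C(d) = D0
theorem minus_D0_eq (hm : HypMinus t K s) {x x' d : G} (hx : IsNR x) (hx' : IsNR x')
    (hne : Subgroup.centralizer ({x'} : Set G) ≠ Subgroup.centralizer ({x} : Set G))
    (hd : d ∈ Subgroup.normalizer ((Subgroup.centralizer ({x} : Set G) : Subgroup G) : Set G) ⊓
      Subgroup.normalizer ((Subgroup.centralizer ({x'} : Set G) : Subgroup G) : Set G)) (hd1 : d ≠ 1) :
    Subgroup.centralizer ({d} : Set G) =
      Subgroup.normalizer ((Subgroup.centralizer ({x} : Set G) : Subgroup G) : Set G) ⊓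
      Subgroup.normalizer ((Subgroup.centralizer ({x'} : Set G) : Subgroup G) : Set G) := by
  have hk := hm.hk
  have htor : IsTorusElt d := minus_D0_torus hm hx hx' hne hd hd1
  have hcardA : Nat.card (Subgroup.centralizer ({d} : Set G)) = Nat.card K - 1 :=
    minus_torus_card hm htor
  have hcardD := minus_card_D0 hm hx hx' hne
  have hodd : Odd (Nat.card (Subgroup.centralizer ({d} : Set G))) := htor.2.2
  have hdm := Subgroup.mem_inf.1 hd
  have hle : Subgroup.centralizer ({d} : Set G) ≤
      Subgroup.normalizer ((Subgroup.centralizer ({x} : Set G) : Subgroup G) : Set G) ⊓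
      Subgroup.normalizer ((Subgroup.centralizer ({x'} : Set G) : Subgroup G) : Set G) := by
    intro a ha
    have hcomm : d * a = a * d := h5_mem_cent_singleton.1 ha
    have hsq : a * a ∈
        Subgroup.normalizer ((Subgroup.centralizer ({x} : Set G) : Subgroup G) : Set G) ⊓
        Subgroup.normalizer ((Subgroup.centralizer ({x'} : Set G) : Subgroup G) : Set G) := by
      have hinvconj : a⁻¹ * d * a = d := by
        rw [mul_assoc, hcomm, ← mul_assoc, inv_mul_cancel, one_mul]
      have hdNa : d ∈ Subgroup.normalizer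
          (((Subgroup.centralizer ({x} : Set G)).map (MulAut.conj a).toMonoidHom : Subgroup G) : Set G) := by
        rw [h5_mem_normalizer_map_conj, hinvconj]; exact hdm.1
      have hdNa' : d ∈ Subgroup.normalizer
          (((Subgroup.centralizer ({x'} : Set G)).map (MulAut.conj a).toMonoidHom : Subgroup G) : Set G) := by
        rw [h5_mem_normalizer_map_conj, hinvconj]; exact hdm.2
      rw [← h5_centralizer_conj] at hdNa hdNa'
      have h1 := minus_D0_fix hm hx hx' ((isNR_conj a x).2 hx) hne hd hd1 hdNa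
      have h2 := minus_D0_fix hm hx hx' ((isNR_conj a x').2 hx') hne hd hd1 hdNa'
      rw [h5_centralizer_conj] at h1 h2
      have hneq : (Subgroup.centralizer ({x} : Set G)).map (MulAut.conj a).toMonoidHom ≠
          (Subgroup.centralizer ({x'} : Set G)).map (MulAut.conj a).toMonoidHom :=
        fun h => hne (h5_map_conj_inj h).symm
      rw [Subgroup.mem_inf, h5_mem_normalizer_iff_map, h5_mem_normalizer_iff_map, h5_map_conj_mul,
        h5_map_conj_mul]
      rcases h1 with h1 | h1
      · rcases h2 with h2 | h2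
        · exact absurd (h1.trans h2.symm) hneq
        · exact ⟨by rw [h1, h1], by rw [h2, h2]⟩
      · rcases h2 with h2 | h2
        · exact ⟨by rw [h1, h2], by rw [h2, h1]⟩
        · exact absurd (h1.trans h2.symm) hneq
    have hoa : Odd (orderOf a) := Odd.of_dvd_nat hodd (Subgroup.orderOf_dvd_natCard _ ha)
    obtain ⟨m, hm'⟩ := hoa
    have hpow : a = (a * a) ^ (m + 1) := by
      rw [← pow_two, ← pow_mul]
      have h3 : 2 * (m + 1) = orderOf a + 1 := by omega
      rw [h3, pow_succ, pow_orderOf_eq_one, one_mul]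
    rw [hpow]
    exact Subgroup.pow_mem _ hsq _
  exact Subgroup.eq_of_le_of_card_ge hle (by rw [hcardA, hcardD])

-- F17d : N(Q) = Q ⊔ D0
theorem minus_normalizer_eq (hm : HypMinus t K s) {x x' : G} (hx : IsNR x) (hx' : IsNR x')
    (hne : Subgroup.centralizer ({x'} : Set G) ≠ Subgroup.centralizer ({x} : Set G)) :
    Subgroup.normalizer ((Subgroup.centralizer ({x} : Set G) : Subgroup G) : Set G) =
      Subgroup.centralizer ({x} : Set G) ⊔
      (Subgroup.normalizer ((Subgroup.centralizer ({x} : Set G) : Subgroup G) : Set G) ⊓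
       Subgroup.normalizer ((Subgroup.centralizer ({x'} : Set G) : Subgroup G) : Set G)) := by
  apply le_antisymm
  · intro g hg
    obtain ⟨y, hy, d, hd, rfl⟩ := h5_minus_normalizer_decomp hm hx hx' hne hg
    exact Subgroup.mul_mem_sup hy hd
  · exact sup_le Subgroup.le_normalizer inf_le_left

end Cfsg.Agent.Lead.Bsw
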