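import Cfsg.Agent.Helper5.TC2A

/-! generated coset table (generator 1): FiXBTC -/

set_option autoImplicit false
set_option Elab.async false

namespace Cfsg.Agent.Helper5.FiXBTC
open Cfsg.Agent.Helper5.TC

def ct1_0 : ℕ := 0x16b00016a00016300016800016000015f00016500016400016900015800016100016700016600015200015000015300014d00015a00015900016200014600014a00014100015400015c00015e00013c00015d00013a00013600015b00013d00013000015600014900014800013100015700012a00012d00014300013900015500012200012100013e00014c00015100011d00014f00014200011c00013700014e00011a00011400012300011300014700014b00011e00010f00014400012c00011000014500010e00010d00012700012600011700010500013300014000013f0001000000ff00012f00013b0001380000fc0001350000fd0001180001250000fb0001150001340001320001020000ef00012b00012e0001290001280000ee0000ed0000ec0001090001080000f50000f80001240000e20000e100011200010100012000011f0000de00011900011b0001160000db0000da0001060000dc0000f60001070000f40000f30000e40000d20000f000011100010c00010b00010a0000cf0000ce0000e90000c60000e70000d60000c20000f20000c70001040001030000bf0000df0000fe0000dd0000f70000fa0000f90000b90000bc0000b70000e60000d50000d40000d30000f10000d10000d00000eb0000ea0000af0000ae0000cb0000ca0000c90000c80000e30000e80000a30000a60000b60000e50000a10000a40000e00000be0000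bd0000d80000bb0000ba0000d900009b0000d70000c300009a0000990000b30000b20000b10000b00000cd0000cc0000920000ac0000910000aa0000a90000a80000a70000c40000880000c00000c50000890000c100008700008600009e00009d00009c0000b80000b50000b400007f00007e0000960000950000940000930000ad0000ab00007900008f00007800007700008c00008b0000710000a20000a50000a000009f00007000006f00006e00008200008100008000009800009700006a00006900007b00007a00009000008e00008d00006300006200006100007300007200008a00008500008400008300005b00005a00006b00007d00007c00005700005500005400005600006400007600007500007400004f00004e00005e00005d00005c00006d00006c00004900005800006800006500006700006600004100004300005100004200006000005f00003c00004c00004b00004a00005900004800004700004500004600003400005200005000005300003000003f00003200003100004d00003b00003a00003900003800003700003600003500004400002600003e00003d00004000002f00002500002400002300002b00002a00002900002800002700003300002e00002d00002c00001b00001a00001900001f00001e00001d00001c00002200002100002000001300001200001600001500001400001800001700000d00001000000f00000e00001100000900000b00000a00000c000006000007000008000004000005000003000002000001000000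
def ctSel1 (c : ℕ) : ℕ := ct1_0
def ct1F (v : ℕ) : ℕ := Nat.rec (motive := fun _ => ℕ) 0 (fun c _ => Nat.mod (Nat.shiftRight (ctSel1 c) (Nat.mul 24 (Nat.mod v 682))) 16777216) (Nat.add (Nat.div v 682) 1)

end Cfsg.Agent.Helper5.FiXBTC
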