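import Cfsg.Agent.Helper5.TC2A

/-! generated coset table (generator 2): FiXBTC -/

set_option autoImplicit false
set_option Elab.async false

namespace Cfsg.Agent.Helper5.FiXBTC
open Cfsg.Agent.Helper5.TC

def ct2_0 : ℕ := 0x16600016900016a00016700016800016b00016500015c00016300015b00015500016000015f00015100015d00016400016200014a00014c00014700014b00015600016100013f00015300013b00015e00013700013800014e00013100015900015700015a00012d00012f00015800012b00012e00014400012900014200014100014000015400011f00013d00011d00015200011b00011800014f00015000011500011600013400013300013200014d00011000014800014500014900010d00014600010b00014300012800010a00012600012500012400010800010100012100012000013e00011e00013c0000fc00013a0000f90001190001390000f60001350001360000f30000f00001120001110001300000ed00010e00012c00010c00012a0001270000ea0001230001070000e30000e90000e80001030000e70001220000df0000ff0000fe0000dd00011c0000da0000fa00011a0000d70000f70001170000d40000f40001140000f20000f10001130000d00000d100010f0000ec0000eb0001090001050001040001020000c40000e50000c80001060000c00000ca0000c50001000000bd0000fd0000ba0000bb0000fb0000d90000d80000f80000b40000b50000f50000d30000b10000ee0000ef0000b00000ce0000cd0000c90000ab0000e10000cc0000e40000b70000a40000e00000e60000a20000ac0000a50000e200009f0000a00000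de00009d0000db0000dc00009c0000b80000c70000980000d50000d60000970000b20000d20000cf0000940000ae0000a80000c20000cb00008d0000a90000ad0000a70000990000c10000c60000860000c30000840000be0000bf0000830000bc0000b900008000009a0000a60000b60000b300007c0000950000af00009300009200009100008c00007500008e0000aa00009000008b00008a00007f00006f0000870000a30000850000a100009e00006c00008100009b00008900007e00007d00009600007b00006600007900006400007700006700008f00007400006500007200005c00005d00008800006e00006d00008200006b00005800006900006800007600007a00007300007800005000006200005100005300005f00005200007000007100004a00005a00005900006a00004700005600004200005400006000005e00006100006300003d00003f00004000003e00004b00005b00003800004800005700003500004500004400004300005500003100004d00004e00004c00004f00002c00002e00003a00002d00004900003700003600004600002700003300003200004100002300002200003b00003900003c00002100002000002900002800003400001c00002500002400003000002f00002b00002a00001700001e00001d00002600001b00001a00001900001800001f00001600001500001400000e00001200001100000c00000f00001300000a00001000000800000d00000900000b000007000006000005000003000004000002000001000000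
def ctSel2 (c : ℕ) : ℕ := ct2_0
def ct2F (v : ℕ) : ℕ := Nat.rec (motive := fun _ => ℕ) 0 (fun c _ => Nat.mod (Nat.shiftRight (ctSel2 c) (Nat.mul 24 (Nat.mod v 682))) 16777216) (Nat.add (Nat.div v 682) 1)

end Cfsg.Agent.Helper5.FiXBTC
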