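import Cfsg.Agent.Helper5.TC2A

/-! generated coset table (generator 3): FiXBTC -/

set_option autoImplicit false
set_option Elab.async false

namespace Cfsg.Agent.Helper5.FiXBTC
open Cfsg.Agent.Helper5.TC

def ct3_0 : ℕ := 0x16b00016400016200016100015e00015d00015a00016a00015800016900016800015200015000016700016600015b00015c00016500015900016300015700015600015100015400014d00016000015500015f00014f00014e00015300013300013200014a00014900014800014700014600014500012900014300012200013c00013900012400013e00012300014100013b00013a00014000011900013700013600013500013400014c00014b00013100011300011200011100010e00012c00010c00012a00014400010a00012700010900010600013f00013d00014200010500010400010300010200011d0000fd0000fa00011a0001380001180000f80000f70000f400011400013000012f00012e0000ee0000ef00012d0000ec00012b0000eb0001280001260001080000e600012500012100012000011f00011e0001010000e20000e10000e000011c0000db0000dc00011b0000d90001170001160000d50000d60001150000d30000f20000f10000d100010f0001100000cf00010d00010b0000ea0000e90000e80000e70001070000e50000e40000e30001000000ff0000fe0000be0000bf0000bb0000fb0000fc0000b90000f90000d80000b50000f50000f60000b30000f30000d20000f00000b00000ed0000ce0000cd0000cc0000cb0000ca0000a90000a70000c70000c60000c50000c40000c30000c20000c10000a00000de0000df0000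9e0000bc0000dd00009c0000da0000b800009a0000b60000d70000970000d40000b20000950000d00000af0000ae0000ad00009300008e0000aa0000c900008b0000c80000a600008a0000870000a30000850000a10000c00000830000bd0000810000ba00009b0000b700007e00007d0000b40000960000b100007b0000ac00009200007800007600007a0000ab0000740000730000a80000a50000700000710000a400006e0000a200006d00009f00008200009d00006b00006a00009900009800006800009400008f00006300009100006100009000006000008d00008c00005e00008800008900005b00008600008400005900008000007f00005700007c00006500005300006700006400007900004f00007700007500004d00007200005800004a00006f00004900006c00005d00006900005500005600004100006600005200005100005000006200003c00005f00004800003900005c00005a00004c00004700004400003400004600004300004200005400004000002f00003e00003d00004e00003700002b00004b00003800003b00003600003500004500003300003200003100003000003f00002e00002d00002200003a00002a00002900002800002700002600002500002400001b00002c00002100001800001f00001e00001d00001600002300001a00001300002000001100001c00001500001000001900000d00001700001400000b00000e00001200000c00000f00000a000009000008000007000006000005000004000002000003000001000000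
def ctSel3 (c : ℕ) : ℕ := ct3_0
def ct3F (v : ℕ) : ℕ := Nat.rec (motive := fun _ => ℕ) 0 (fun c _ => Nat.mod (Nat.shiftRight (ctSel3 c) (Nat.mul 24 (Nat.mod v 682))) 16777216) (Nat.add (Nat.div v 682) 1)

end Cfsg.Agent.Helper5.FiXBTC
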