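import Cfsg.Agent.Helper5.TC2A

/-! generated coset table (generator 4): FiXBTC -/

set_option autoImplicit false
set_option Elab.async false

namespace Cfsg.Agent.Helper5.FiXBTC
open Cfsg.Agent.Helper5.TC

def ct4_0 : ℕ := 0x16b00016500016900016800015f00016000016a00015a00016300016200016100016600016700015000015200014d00015300016400014900015800015700014700014000015400015b00015d00013900015e00013600013a00015c00013000013d00013100015900012c00015600014600014500012b00014300013c00012200015500012000013e00014b00014200013b00014e00015100011700011800014f00011400011a00011300012300014a00014c00010f00011e00011000014800014400012a00010c00010b00012700012600011c00010400013200014100010000013f0000fe00012e00011d00012500011b0001340000f80001370001380000f50000f60001350001330000ef00010200012d00012f0000ee0000ed0001290001280000eb0001090001080000fb0000fd0000e20001240000e00001110001010001210000de00011f0001060000fc0001070000fa0000f90001190000d60001150001160000d50000d40000d20000e40000f000011200010e00010d0000cf00010a0000cd0000cb0000e80000e70000dc0000c10000f10000cc0001050000bf0001030000df0000ff0000c90000e60000db0000da0000d90000b60000d70000f70000f40000f30000b30000f20000d10000d00000ec0000af0000ea0000e30000e90000aa0000dd0000c80000ae0000c60000c50000ad0000bc0000a10000e50000ab0000e10000be0000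bd0000c30000a90000a80000b90000b80000b70000d80000b50000b40000d30000960000b10000b00000ce0000c70000c400008f0000c00000ca0000bb0000ba0000a70000920000a50000910000a30000900000c200008e00008d00009e00008c00008b00009b00009a0000990000980000970000b200009500009400007a0000a60000a40000a20000ac0000a000009f00009d00009c00008a00007900008800007800007700007600007500007400008200007300007200007f00007e00007d00007c00007b00009300008900008700008600008500008400008300008100008000007100006300006200006100006000005f00005e00006a00006900006800006700006600006500006400007000006f00006e00006d00006c00006b00004c00004b00004f00004e00004d00004800005700005600005500005400005300005200005100003e00005b00005a00005900005d00005c00003900003c00005800003600004600004500004400004300003200004100004000003f00005000002d00004900003a00003b00004a00002a00002b00004700002800003400003300004200002400003000002f00002e00003d00002000003700003800001f00003500001d00002600002500003100001900001800002100002c00002900001e00002700001400001300001a00002300002200001700001000001500001c00001b00001200001100001600000f00000e00000d00000c00000b00000700000900000500000a000004000008000006000003000002000001000000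
def ctSel4 (c : ℕ) : ℕ := ct4_0
def ct4F (v : ℕ) : ℕ := Nat.rec (motive := fun _ => ℕ) 0 (fun c _ => Nat.mod (Nat.shiftRight (ctSel4 c) (Nat.mul 24 (Nat.mod v 682))) 16777216) (Nat.add (Nat.div v 682) 1)

end Cfsg.Agent.Helper5.FiXBTC
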