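import Cfsg.Agent.Helper5.TC2A

/-! generated coset table (generator 5): FiXBTC -/

set_option autoImplicit false
set_option Elab.async false

namespace Cfsg.Agent.Helper5.FiXBTC
open Cfsg.Agent.Helper5.TC

def ct5_0 : ℕ := 0x16b00016800016700016a00016900016600016500016100016000015e00016400016300015f00016200015d00015500015100015a00015400015200014f00015600015c00015900014100015800015b00015000015700014e00013c00013f00013800014a00014900013e00013b00013a00013500014400014300014000015300014200014c00014800012100014d00014700014600012200014b00013700013600014500013400012400011900011d00011c00011f00011600012d00012c00011b00011a00012900012800012700012600012000013300010500013900013d00012500012f0000ff00013100013000012b00012a00013200010100010000012e0001150001140000fd0001030000f70000fc0000fb00010e00010d0000fa0000f900010a0001090000e90000fe0001040001230001060001120000e100011800011700011e00010700011300011000010f00010c00010b0000e20001110000df0000de0000f40000f30000e50000d80000dd0000dc0000db0000da0000ec0000d90000ea0001080000e30000ca0000e00000f20000c20000e80000f80001020000e60000f60000f50000f00000ef0000ee0000ed0000eb0000f10000c00000bf0000be0000bd0000d30000bc0000bb0000ba0000b90000ce0000b80000cc0000cb0000e70000c90000ac0000c60000c70000c40000c50000c10000e40000c30000d70000d60000d50000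d40000d20000d10000d00000cf0000cd0000a40000a10000a000009f00009e0000b200009d00009c00009b0000ae0000ad0000c80000ab0000aa0000a90000a80000930000a30000a20000b70000a60000a50000b60000b50000b40000b30000b10000b00000af0000870000860000840000830000820000810000800000a700009200009100009000008f00008e00008d00008c00008b00008500008800008900009a00009900008a00009800009700009600009500009400006f00006e00006d00006c00006b00007a00007900007800007700007600007500007400007300007200007000007100007f00007e00007d00007c00007b00005b00005a00005900006700006600006500006400006300006200006100006000005f00005e00005c00005d00006a00006900006800004a00004900005600005500005400005300005200005100005000004f00004e00004d00003b00003a00005800005700003700003800004600004500004400004300004200004100004000003f00002e00003d00003c00004c00004b00002b00004700004800002900003500003400003300002500003100003000002f00003e00002100002c00003900001f00003600001e00002700002600003200001a00002300002200002d00001700002a00002800001500001c00001b00002400001200001100002000001600001d00000f00000d00001900001800000b00001400000a00001300000800001000000e00000600000c000007000009000005000004000003000002000001000000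
def ctSel5 (c : ℕ) : ℕ := ct5_0
def ct5F (v : ℕ) : ℕ := Nat.rec (motive := fun _ => ℕ) 0 (fun c _ => Nat.mod (Nat.shiftRight (ctSel5 c) (Nat.mul 24 (Nat.mod v 682))) 16777216) (Nat.add (Nat.div v 682) 1)

end Cfsg.Agent.Helper5.FiXBTC
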