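import Cfsg.Agent.Helper5.TC2A

/-! generated coset table (generator 6): FiXBTC -/

set_option autoImplicit false
set_option Elab.async false

namespace Cfsg.Agent.Helper5.FiXBTC
open Cfsg.Agent.Helper5.TC

def ct6_0 : ℕ := 0x16b00016a00016900016800016700016600016500015900016300015700015400016000015f00014f00014e00014c00014b00014900016400014600016200014400013f00016100013d00013a00013800013600015e00015d00013000015c00015b00012d00015a00014800012b00015800014500015600014300012500012100012000015500013e00015300011c00011b00015200011700015100011500015000013500013400013200013300011000014d00012f00012e00014a00012c00014700012a00012900012800010900012600014200011900011300010000014100014000011f00011e0000fc00013c00013b00011a0001240000f60001390001160001370001140001230000f20000f100013100010f00010e00010d00010c00010b0000ea0001270000f00001070000e20000fd0000f80000e50000e40000df0001220000ff0000fe00010500011d0000fb0000fa0000f90001040000d80001180000f50000f40000f30001120001110001080000d20000ee0000ed0000ce0000cd00010a0000dd0000d70000c80000c30001030001020000c00001060000c20000c10001010000de0000e90000bc0000db0000da0000b80000f70000e80000b60000d50000d40000b20000ef0000d10000b10000af0000ec0000eb0000ab0000c90000ac0000cb0000e70000a40000b70000a50000a20000e60000e10000e00000e30000a10000be0000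bd0000dc0000bb00009d00009b0000d90000c60000d60000b50000980000960000d30000d00000940000cf0000910000900000ca0000cc00008f0000a900008c0000a70000890000c50000c70000880000c40000bf0000a00000840000820000ba0000800000b900009a00007f0000b400007c0000b300007b0000b00000930000790000ae0000ad0000aa00008e0000750000a800007200008a0000a60000a300008700006f00008500009f00006c00009e00006b00009c00009900006900006800009700009500007a00009200007800006200007600008d00005f00005e00008b00007100007000008600005a00005900008300008100005700007e00007d00006700006600005200006400006300007700004e00004d00007400007300005d00005c00004900006e00006d00004700006a00004300005500005400004000006500003f00005000003c00006100006000004c00004b00003800005b00003600005800004600004500003300005600004200003000005300005100003e00002c00004f00003b00003a00002a00004a00002900004800003500002600004400003200002300004100002f00002e00002000003d00001f00003900003700002800001c00003400002500001900003100002200001700002d00002b00001e00001400002700001b00001200002400001800002100001600000f00001d00001300001a00001100001000001500000e00000d00000c00000b00000a000009000008000007000006000005000004000003000001000002000000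
def ctSel6 (c : ℕ) : ℕ := ct6_0
def ct6F (v : ℕ) : ℕ := Nat.rec (motive := fun _ => ℕ) 0 (fun c _ => Nat.mod (Nat.shiftRight (ctSel6 c) (Nat.mul 24 (Nat.mod v 682))) 16777216) (Nat.add (Nat.div v 682) 1)

end Cfsg.Agent.Helper5.FiXBTC
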