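import Cfsg.Agent.Helper5.TC2A

/-! generated coset table (generator 7): FiXBTC -/

set_option autoImplicit false
set_option Elab.async false

namespace Cfsg.Agent.Helper5.FiXBTC
open Cfsg.Agent.Helper5.TC

def ct7_0 : ℕ := 0x16b00016a00016900016800016700016600016500016400016300016200016100016000015f00015e00015d00015c00015b00015a00014800015800014500015600015500013e00015300015200015100015000013500013400014d00012f00012e00014a00012c00015900014700012a00015700012800012700014200014100014000011f00015400011e00013c00013b00011a00013900011600013700011400014f00014e00011200011100013100010f00014c00014b00010d00014900010b00014600010a0001440001430001260001070001030001020001220000ff0000fe00013f00013d00011d0000fb0000f900013a0000f70001180000f50001380000f30001360000ef0001330001320000ed0001300000ec00012d0000eb00012b0001290001090000e70001250000e60000e10000e00001240001230001010000de0001210001200000dc0000da00011c0000d900011b0000d60001190000d40001170000d30001150000f10000f20000d00001130000cf00011000010e00010c0000ea0000ca0000c50001080001060000d80000d20000c40000bf0001050001040000bd0001000000ba0000fd0000b90000fc0000fa0000e50000b40000f80000b30000f60000f40000e40000b00000f00000ee0000ce0000cd0000ad0000aa0000e90000a80000b10000a60000a30000e80000e30000a10000bc0000b600009f0000e200009e0000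df0000c200009c0000dd0000db0000b80000990000c10000970000d70000d50000b20000c80000d10000af0000920000cc00009d00008d0000cb00008b0000c90000950000c70000980000860000c60000840000c30000830000c00000be0000ac0000bb00009b00007e0000b70000a50000b50000960000a70000940000810000ae00007700007500008c0000740000ab00008f0000a900007d00006f00007f00006e0000a400006d0000a20000a000008200009300008000008800009a00008a00007c00007b00007300006200006100009100006000009000008e00007a00007200006a00005b00008900008700008500006c00006b00007100006900006800005300006500006600005100004f00007900007800007600005f00005e00004a00005800007000005a00005900005c00005700005400004100005600006700005200006400003d00006300004e00004d00003900004800005d00004900004b00004700003400004400004500004300003100005500004000003f00002d00005000003c00002b00003700004c00003800003a00003600002700004600003300002400004200003000002f00002100003e00002c00003b00002a00002900001d00003500002600001a00003200002300002200002e00002000001f00001500002800001c00001b00002500001900001800001700001600001e00001400001300001200001100001000000f00000e00000d00000c00000b00000a000009000008000007000006000005000004000003000002000000000001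
def ctSel7 (c : ℕ) : ℕ := ct7_0
def ct7F (v : ℕ) : ℕ := Nat.rec (motive := fun _ => ℕ) 0 (fun c _ => Nat.mod (Nat.shiftRight (ctSel7 c) (Nat.mul 24 (Nat.mod v 682))) 16777216) (Nat.add (Nat.div v 682) 1)

end Cfsg.Agent.Helper5.FiXBTC
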