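import Cfsg.Agent.Helper5.FiXBTCDatD
import Cfsg.Agent.Helper5.FiXBTCDatT
import Cfsg.Agent.Helper5.TCIB

/-! kernel checks of the coset table: FiXBTC -/

set_option autoImplicit false
set_option Elab.async false

namespace Cfsg.Agent.Helper5.FiXBTC
open Cfsg.Agent.Helper5.TC Cfsg.Agent.Helper5.TCI

set_option maxRecDepth 1000000 in
theorem relc_36_0 : fixPtsF W_36 364 0 = true := by decide +kernel

set_option maxRecDepth 1000000 in
theorem relc_37_0 : fixPtsF W_37 364 0 = true := by decide +kernel

set_option maxRecDepth 1000000 in
theorem relc_1_0 : fixPtsF W_1 364 0 = true := by decide +kernel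

set_option maxRecDepth 1000000 in
theorem relc_9_0 : fixPtsF W_9 364 0 = true := by decide +kernel

set_option maxRecDepth 1000000 in
theorem relc_16_0 : fixPtsF W_16 364 0 = true := by decide +kernel

set_option maxRecDepth 1000000 in
theorem relc_17_0 : fixPtsF W_17 364 0 = true := by decide +kernel

set_option maxRecDepth 1000000 in
theorem relc_24_0 : fixPtsF W_24 364 0 = true := by decide +kernel

set_option maxRecDepth 1000000 in
theorem relc_27_0 : fixPtsF W_27 364 0 = true := by decide +kernel

set_option maxRecDepth 1000000 in
theorem relc_34_0 : fixPtsF W_34 364 0 = true := by decide +kernel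

set_option maxRecDepth 1000000 in
theorem relc_2_0 : fixPtsF W_2 364 0 = true := by decide +kernel

set_option maxRecDepth 1000000 in
theorem relc_3_0 : fixPtsF W_3 364 0 = true := by decide +kernel

set_option maxRecDepth 1000000 in
theorem relc_4_0 : fixPtsF W_4 364 0 = true := by decide +kernel

set_option maxRecDepth 1000000 in
theorem relc_5_0 : fixPtsF W_5 364 0 = true := by decide +kernel

set_option maxRecDepth 1000000 in
theorem relc_6_0 : fixPtsF W_6 364 0 = true := by decide +kernel

set_option maxRecDepth 1000000 in
theorem relc_7_0 : fixPtsF W_7 364 0 = true := by decide +kernel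

set_option maxRecDepth 1000000 in
theorem relc_10_0 : fixPtsF W_10 364 0 = true := by decide +kernel

set_option maxRecDepth 1000000 in
theorem relc_11_0 : fixPtsF W_11 364 0 = true := by decide +kernel

set_option maxRecDepth 1000000 in
theorem relc_12_0 : fixPtsF W_12 364 0 = true := by decide +kernel

set_option maxRecDepth 1000000 in
theorem relc_13_0 : fixPtsF W_13 364 0 = true := by decide +kernel

set_option maxRecDepth 1000000 in
theorem relc_14_0 : fixPtsF W_14 364 0 = true := by decide +kernel

set_option maxRecDepth 1000000 in
theorem relc_18_0 : fixPtsF W_18 364 0 = true := by decide +kernel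

set_option maxRecDepth 1000000 in
theorem relc_19_0 : fixPtsF W_19 364 0 = true := by decide +kernel

set_option maxRecDepth 1000000 in
theorem relc_20_0 : fixPtsF W_20 364 0 = true := by decide +kernel

set_option maxRecDepth 1000000 in
theorem relc_22_0 : fixPtsF W_22 364 0 = true := by decide +kernel

set_option maxRecDepth 1000000 in
theorem relc_23_0 : fixPtsF W_23 364 0 = true := by decide +kernel

set_option maxRecDepth 1000000 in
theorem relc_25_0 : fixPtsF W_25 364 0 = true := by decide +kernel

set_option maxRecDepth 1000000 in
theorem relc_28_0 : fixPtsF W_28 364 0 = true := by decide +kernel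

set_option maxRecDepth 1000000 in
theorem relc_29_0 : fixPtsF W_29 364 0 = true := by decide +kernel

set_option maxRecDepth 1000000 in
theorem relc_31_0 : fixPtsF W_31 364 0 = true := by decide +kernel

set_option maxRecDepth 1000000 in
theorem relc_32_0 : fixPtsF W_32 364 0 = true := by decide +kernel

set_option maxRecDepth 1000000 in
theorem relc_0_0 : fixPtsF W_0 364 0 = true := by decide +kernel

set_option maxRecDepth 1000000 in
theorem relc_8_0 : fixPtsF W_8 364 0 = true := by decide +kernel

set_option maxRecDepth 1000000 in
theorem relc_15_0 : fixPtsF W_15 364 0 = true := by decide +kernel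

set_option maxRecDepth 1000000 in
theorem relc_21_0 : fixPtsF W_21 364 0 = true := by decide +kernel

set_option maxRecDepth 1000000 in
theorem relc_26_0 : fixPtsF W_26 364 0 = true := by decide +kernel

set_option maxRecDepth 1000000 in
theorem relc_30_0 : fixPtsF W_30 364 0 = true := by decide +kernel

set_option maxRecDepth 1000000 in
theorem relc_33_0 : fixPtsF W_33 364 0 = true := by decide +kernel

set_option maxRecDepth 1000000 in
theorem relc_35_0 : fixPtsF W_35 364 0 = true := by decide +kernel

set_option maxRecDepth 1000000 in
theorem inv_0_0 : invRowFI ctF 364 0 0 364 0 = true := by decide +kernel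

set_option maxRecDepth 1000000 in
theorem inv_1_0 : invRowFI ctF 364 1 1 364 0 = true := by decide +kernel

set_option maxRecDepth 1000000 in
theorem inv_2_0 : invRowFI ctF 364 2 2 364 0 = true := by decide +kernel

set_option maxRecDepth 1000000 in
theorem inv_3_0 : invRowFI ctF 364 3 3 364 0 = true := by decide +kernel

set_option maxRecDepth 1000000 in
theorem inv_4_0 : invRowFI ctF 364 4 4 364 0 = true := by decide +kernel

set_option maxRecDepth 1000000 in
theorem inv_5_0 : invRowFI ctF 364 5 5 364 0 = true := by decide +kernel

set_option maxRecDepth 1000000 in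
theorem inv_6_0 : invRowFI ctF 364 6 6 364 0 = true := by decide +kernel

set_option maxRecDepth 1000000 in
theorem inv_7_0 : invRowFI ctF 364 7 7 364 0 = true := by decide +kernel

set_option maxRecDepth 1000000 in
theorem conn_0 : connF ctF 8 364 0 = true := by decide +kernel

end Cfsg.Agent.Helper5.FiXBTC
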