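import Cfsg.Agent.Helper5.TC2A

/-! generated coset table (generator 1): FiXCTC -/

set_option autoImplicit false
set_option Elab.async false

namespace Cfsg.Agent.Helper5.FiXCTC
open Cfsg.Agent.Helper5.TC

def ct1_0 : ℕ := 0xf20000ea0000f00000e40000e10000e50000de0000eb0000f10000dd0000e80000e70000d70000ed0000ef0000d50000d10000ee0000d80000cd0000ec0000e90000cc0000cb0000da0000c50000e00000e60000c30000e30000c10000c20000bb0000e20000d00000c60000b80000df0000dc0000db0000b60000b50000c80000af0000cf0000d90000ad0000d60000d30000d40000a90000b20000a50000ab0000a40000d20000ba0000b90000ce0000b70000ca0000c900009e0000b30000bf0000b10000970000c70000960000c40000ac0000bd0000aa0000c000009100009b00008e0000be0000bc00008d0000a20000a10000a000009f0000b400009d00009c0000a700009a0000990000800000b00000ae00007f0000940000930000920000a80000860000760000a60000a300007500007400008a00008900008800008700009000008500006c00008300008200006700009800009500006600006500007c00007b00007a00007900006f00006000008f00008c00008b00005e00005d00007100007000007800006e00005a00008400005700005600006900006800008100007e00007d00005100005000006200004e00007700005f00007300007200004b00005b00006d00004800004900006b00006a00004400004300005300005200006400006300003f00006100004d00004c00005c00003b00005800005900003800003900004500005500005400003400004100004000004f00003e00003d00003c00004a00002e00004600004700002b00003600002c00004200003300003200003100003000002f00003a00002300003500003700002a00002200002100002700002600002500002400002d00002900002800001a00001900001800001d00001c00001b00002000001f00001e00001200001100001500001400001300001700001600000c00000f00000e00000d00001000000800000a00000900000b000005000006000007000003000004000002000001000000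
def ctSel1 (c : ℕ) : ℕ := ct1_0
def ct1F (v : ℕ) : ℕ := Nat.rec (motive := fun _ => ℕ) 0 (fun c _ => Nat.mod (Nat.shiftRight (ctSel1 c) (Nat.mul 24 (Nat.mod v 682))) 16777216) (Nat.add (Nat.div v 682) 1)

end Cfsg.Agent.Helper5.FiXCTC
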