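import Cfsg.Agent.Helper5.TC2A

/-! generated coset table (generator 2): FiXCTC -/

set_option autoImplicit false
set_option Elab.async false

namespace Cfsg.Agent.Helper5.FiXCTC
open Cfsg.Agent.Helper5.TC

def ct2_0 : ℕ := 0xed0000ec0000e60000e30000ee0000f20000f10000dd0000dc0000e90000db0000e70000f00000e50000d40000ef0000e20000d00000e00000df0000cc0000eb0000ea0000e80000c90000d90000c80000d70000d60000c10000e40000d30000be0000ba0000e10000cf0000ce0000b70000de0000cb0000ca0000da0000d80000c70000b10000b30000b00000ac0000aa0000d50000c00000bf0000d20000bd0000a60000a30000d10000b90000a00000cd00009f0000b50000b40000c500009a0000c60000c400009d0000980000950000c30000930000c20000920000a80000a70000bc00008d00008c0000bb00008b0000a10000b80000b60000880000af0000840000830000b20000990000ae00007f00007e0000ad00007d0000ab0000a900007a00007800008f0000750000a50000a40000a200007200008900009e00008700006d00006b00009c00009b00008200008100006600009700009600009400006300007b00009100007900009000007700005f00008e00007400007300008a00007100007000005a00005900008600006c00008500006a00005800006800005200008000006500006400007c00006200006100004d00007600004c00005d00005c00004a00006f00006e00006900005700004500004700005400004600006700004000005000004f00003e00006000005e00003c00005b00004900004800005500005300005600003500003600003700004100005100003100004e00003d00004b00003b00003a00003900002c00004200004300004400002800003300002900003f00003000002f00002400002d00003800002100002000003200003400001f00001e00002500002e00001b00002200002b00002a00002700002600001600001c00002300001a00001900001800001700001d00001500001400001300000d00001100001000000b00000e00001200000900000f00000700000c00000800000a000006000005000004000002000003000001000000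
def ctSel2 (c : ℕ) : ℕ := ct2_0
def ct2F (v : ℕ) : ℕ := Nat.rec (motive := fun _ => ℕ) 0 (fun c _ => Nat.mod (Nat.shiftRight (ctSel2 c) (Nat.mul 24 (Nat.mod v 682))) 16777216) (Nat.add (Nat.div v 682) 1)

end Cfsg.Agent.Helper5.FiXCTC
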