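import Cfsg.Agent.Helper5.TC2A

/-! generated coset table (generator 3): FiXCTC -/

set_option autoImplicit false
set_option Elab.async false

namespace Cfsg.Agent.Helper5.FiXCTC
open Cfsg.Agent.Helper5.TC

def ct3_0 : ℕ := 0xf20000f10000f00000ef0000ee0000e00000df0000eb0000ea0000db0000e80000da0000d90000d80000e40000d30000d20000e10000ed0000ec0000cd0000cb0000ca0000e90000e70000e60000e50000c50000c40000c20000c00000e30000e20000bb0000b90000cf0000ce0000de0000b60000dd0000dc0000c90000c80000c70000c60000d70000d60000ad0000d50000a90000d40000bf0000be0000bd0000bc0000d10000a20000d00000b800009f0000cc0000b50000b40000b30000b20000990000b00000af0000ae0000c30000940000ab0000920000c10000a800009000008f0000a50000a400008b0000ba0000a10000890000b700009e00008700009c0000860000820000b100008100009700009600007d0000ac00007b0000aa0000910000a70000a60000760000740000730000a300008a0000a000007100009d00009b00006e00006a00006900009a00009800006700006500006400009500007c00009300006200007900007800007700008e00005e00008d00008c00005c00008800007000006f00008500005800005600005500008400008300005300008000005100007f00007e00004f00007a00006100006000004c00007500004b00007200005b00004900004700006d00004400006c00006b00004200006800004000006600003f00006300004e00003d00005f00005d00003a00005a00003800005900004600004500005700003400005400003200005200005000003000004d00003c00002e00004a00003900004800003700002a00003500004300002700004100003100003e00002f00003b00002d00002c00002b00003600002900002000003300002600002500002400002300002200001a00002800001f00001700001d00001c00001500002100001900001200001e00001000001b00001400000f00001800000c00001600001300000a00000d00001100000b00000e000009000008000007000006000005000004000003000001000002000000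
def ctSel3 (c : ℕ) : ℕ := ct3_0
def ct3F (v : ℕ) : ℕ := Nat.rec (motive := fun _ => ℕ) 0 (fun c _ => Nat.mod (Nat.shiftRight (ctSel3 c) (Nat.mul 24 (Nat.mod v 682))) 16777216) (Nat.add (Nat.div v 682) 1)

end Cfsg.Agent.Helper5.FiXCTC
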