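import Cfsg.Agent.Helper5.TC2A

/-! generated coset table (generator 4): FiXCTC -/

set_option autoImplicit false
set_option Elab.async false

namespace Cfsg.Agent.Helper5.FiXCTC
open Cfsg.Agent.Helper5.TC

def ct4_0 : ℕ := 0xeb0000f10000f00000e10000e40000de0000e50000f20000ea0000dc0000e80000e70000d60000ec0000ee0000d10000d50000ef0000cd0000d80000ed0000cc0000e90000ca0000da0000c40000df0000c30000e60000e20000d40000bb0000c20000e30000ba0000b80000c60000e00000dd0000b60000db0000b40000c80000ae0000ce0000ad0000d90000d70000d20000c10000c00000a50000b20000a40000ab0000d30000d00000a20000cf0000b70000cb00009e0000c900009c0000be0000b10000b00000960000c70000c50000ac0000bc00009a0000a90000a800008e00009b0000bf0000bd0000a30000b900008a0000a000009f0000b50000850000b30000a60000aa0000990000980000970000af0000840000940000830000820000910000760000860000a700008d00008c00008b0000a100008900008800006e00008f00009d00009500009300009200008100008000006c00006b00006a00007c00006900006800007900006000006f00009000007500007400007300007200007100005b00007700008700006d00007f00007e00007d00007b00007a00006700005700005600005500005400005300006100007800004d00005e00005d00005c00007000005a00005900005800006600006500006400006300006200004100004400004300004200004e00005f00003d00004b00004a00004900004800004700004600004500005100005000004f00005200003200003400003300004c00002f00003b00003a00003900003800003700003600002900003f00003e00004000002600002700003c00002e00002d00002200002b00002a00003500001e00003000003100001d00001c00002300002c00001800001700001f00002800002500002400001300001200001900002100002000001600000f00001400001b00001a00001100001000001500000e00000d00000c00000b00000a000006000008000004000009000003000007000005000002000001000000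
def ctSel4 (c : ℕ) : ℕ := ct4_0
def ct4F (v : ℕ) : ℕ := Nat.rec (motive := fun _ => ℕ) 0 (fun c _ => Nat.mod (Nat.shiftRight (ctSel4 c) (Nat.mul 24 (Nat.mod v 682))) 16777216) (Nat.add (Nat.div v 682) 1)

end Cfsg.Agent.Helper5.FiXCTC
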