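import Cfsg.Agent.Helper5.TC2A

/-! generated coset table (generator 5): FiXCTC -/

set_option autoImplicit false
set_option Elab.async false

namespace Cfsg.Agent.Helper5.FiXCTC
open Cfsg.Agent.Helper5.TC

def ct5_0 : ℕ := 0xf00000ef0000f20000f10000ee0000e60000e30000eb0000e40000e90000e80000e70000ed0000d70000ea0000ec0000d60000e10000d90000d30000d50000dd0000d40000db0000da0000e00000c50000e50000e20000de0000dc0000df0000c40000c30000d00000c70000bd0000c20000c10000cb0000c00000c90000b30000cf0000af0000d80000d20000d10000cd0000cc0000ca0000bf0000b00000ce0000ae0000ad0000ac0000b90000ab0000aa0000a90000b50000a80000c80000b200009d0000be0000c60000bc0000bb0000ba0000b80000b70000b60000b40000a70000980000970000960000950000940000a10000930000920000910000b100009c00009b00009a0000870000a60000a50000a40000a30000a20000a000009f00009e00009000008100008000007f00007e00007d00007c00007b00007a00009900008600008500008400008300008200008f00008e00008d00008c00008b00008a00008900008800007000007800006100006700006600006500006400006300006200007900006f00006e00006d00006c00006b00006a00006900006800007600007500007400007300007200007100007700004e00005200005100005000004f00005b00005a00005900005800005700005600005500005400005300005f00005e00005d00005c00006000003e00004000003f00004a00004900004800004700004600004500004400004300004200003300004c00004b00004d00003000003100003b00003a00003900003800003700003600003500003400004100002700003c00003d00002500002e00002d00002c00002b00002a00001f00002800003200001d00002f00002400002300001900002100002000002900001600002600001400001b00001a00002200001100001000001e00001500001c00000e00000c00001800001700000a00001300000900001200000700000f00000d00000500000b000006000008000004000003000002000001000000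
def ctSel5 (c : ℕ) : ℕ := ct5_0
def ct5F (v : ℕ) : ℕ := Nat.rec (motive := fun _ => ℕ) 0 (fun c _ => Nat.mod (Nat.shiftRight (ctSel5 c) (Nat.mul 24 (Nat.mod v 682))) 16777216) (Nat.add (Nat.div v 682) 1)

end Cfsg.Agent.Helper5.FiXCTC
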