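import Cfsg.Agent.Helper5.TC2A

/-! generated coset table (generator 6): FiXCTC -/

set_option autoImplicit false
set_option Elab.async false

namespace Cfsg.Agent.Helper5.FiXCTC
open Cfsg.Agent.Helper5.TC

def ct6_0 : ℕ := 0xf20000f10000f00000ef0000ee0000ed0000ec0000eb0000ea0000e90000da0000e70000e60000e50000e40000e30000e20000e10000cf0000ce0000de0000dd0000dc0000c90000e80000c70000c60000d70000d60000d50000d40000bd0000bc0000d10000d00000e00000df0000b80000cc0000b50000b40000db0000b10000d90000d80000af0000ae0000c30000ab0000c10000a80000a70000a60000d30000d20000a40000ba0000a10000cd0000a000009e0000cb0000ca00009d00009b0000c80000980000c50000c40000960000ac0000c20000930000910000c00000bf0000be00008e0000bb00008c00008a0000b90000b70000880000b60000b30000850000b20000830000990000b00000800000ad00007e00007c0000aa00007a0000a900009000008f0000a50000750000a30000720000a200007100009f00008700008600009c00006b00009a00006800008100009700006600009500006300009400006200009200007900007800007700007600008d00005d00005c00008b00008900007000006f00006e00006d00005700008400005400005300008200006700007f00005000004f00007d00007b00006100006000005f00004b00007400007300005b00005a00005900004600006c00004300004200006a00006900005200003f00006500006400004e00004d00003c00005e00004a00003900004800003700005800003600003400005600005500004100003100005100003e00002f00004c00003b00002d00004900002b00004700004500002800004400003300002600004000002500003d00002300003a00002100003800002a00001e00003500001d00003200003000001b00002e00001800002c00002000001600002900002700001300002400001a00001100002200001700001f00001500000e00001c00001200001900001000000f00001400000d00000c00000b00000a000009000008000007000006000005000004000003000002000000000001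
def ctSel6 (c : ℕ) : ℕ := ct6_0
def ct6F (v : ℕ) : ℕ := Nat.rec (motive := fun _ => ℕ) 0 (fun c _ => Nat.mod (Nat.shiftRight (ctSel6 c) (Nat.mul 24 (Nat.mod v 682))) 16777216) (Nat.add (Nat.div v 682) 1)

end Cfsg.Agent.Helper5.FiXCTC
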