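import Cfsg.Agent.Helper5.TC2A

/-! generated coset table (generator 1): FiXDTC -/

set_option autoImplicit false
set_option Elab.async false

namespace Cfsg.Agent.Helper5.FiXDTC
open Cfsg.Agent.Helper5.TC

def ct1_0 : ℕ := 0x1a00001800001900001700001600001500001400001300001000001100001200000d00000e00000f00000a00000b00000c000009000008000005000006000007000003000004000002000001000000
def ctSel1 (c : ℕ) : ℕ := ct1_0
def ct1F (v : ℕ) : ℕ := Nat.rec (motive := fun _ => ℕ) 0 (fun c _ => Nat.mod (Nat.shiftRight (ctSel1 c) (Nat.mul 24 (Nat.mod v 682))) 16777216) (Nat.add (Nat.div v 682) 1)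

end Cfsg.Agent.Helper5.FiXDTC
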