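import Cfsg.Agent.Helper5.FiXLTCCt0
import Cfsg.Agent.Helper5.FiXLTCCt1
import Cfsg.Agent.Helper5.FiXLTCCt2
import Cfsg.Agent.Helper5.FiXLTCCt3
import Cfsg.Agent.Helper5.FiXLTCCt4
import Cfsg.Agent.Helper5.FiXLTCCt5
import Cfsg.Agent.Helper5.FiXLTCCt6
import Cfsg.Agent.Helper5.FiXLTCCt7
import Cfsg.Agent.Helper5.TC3A

/-! generated coset table: FiXLTC -/

set_option autoImplicit false
set_option Elab.async false

namespace Cfsg.Agent.Helper5.FiXLTC
open Cfsg.Agent.Helper5.TC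

def ctF (x v : ℕ) : ℕ := (Bool.rec (motive := fun _ => ℕ) (Bool.rec (motive := fun _ => ℕ) (Bool.rec (motive := fun _ => ℕ) (ct0F v) (ct1F v) (Nat.ble 1 x)) (Bool.rec (motive := fun _ => ℕ) (ct2F v) (ct3F v) (Nat.ble 3 x)) (Nat.ble 2 x)) (Bool.rec (motive := fun _ => ℕ) (Bool.rec (motive := fun _ => ℕ) (ct4F v) (ct5F v) (Nat.ble 5 x)) (Bool.rec (motive := fun _ => ℕ) (ct6F v) (ct7F v) (Nat.ble 7 x)) (Nat.ble 6 x)) (Nat.ble 4 x))
set_option maxRecDepth 1000000 in
def W_0 (v : ℕ) : ℕ := forceL (ct0F v) (fun a1 => forceL (ct0F a1) (fun a2 => a2))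
set_option maxRecDepth 1000000 in
def W_1 (v : ℕ) : ℕ := forceL (ct1F v) (fun a1 => forceL (ct0F a1) (fun a2 => forceL (ct1F a2) (fun a3 => forceL (ct0F a3) (fun a4 => forceL (ct1F a4) (fun a5 => forceL (ct0F a5) (fun a6 => a6))))))
set_option maxRecDepth 1000000 in
def W_2 (v : ℕ) : ℕ := forceL (ct2F v) (fun a1 => forceL (ct0F a1) (fun a2 => forceL (ct2F a2) (fun a3 => forceL (ct0F a3) (fun a4 => a4))))
set_option maxRecDepth 1000000 in
def W_3 (v : ℕ) : ℕ := forceL (ct3F v) (fun a1 => forceL (ct0F a1) (fun a2 => forceL (ct3F a2) (fun a3 => forceL (ct0F a3) (fun a4 => a4))))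
set_option maxRecDepth 1000000 in
def W_4 (v : ℕ) : ℕ := forceL (ct4F v) (fun a1 => forceL (ct0F a1) (fun a2 => forceL (ct4F a2) (fun a3 => forceL (ct0F a3) (fun a4 => a4))))
set_option maxRecDepth 1000000 in
def W_5 (v : ℕ) : ℕ := forceL (ct5F v) (fun a1 => forceL (ct0F a1) (fun a2 => forceL (ct5F a2) (fun a3 => forceL (ct0F a3) (fun a4 => a4))))
set_option maxRecDepth 1000000 in
def W_6 (v : ℕ) : ℕ := forceL (ct6F v) (fun a1 => forceL (ct0F a1) (fun a2 => forceL (ct6F a2) (fun a3 => forceL (ct0F a3) (fun a4 => a4))))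
set_option maxRecDepth 1000000 in
def W_7 (v : ℕ) : ℕ := forceL (ct7F v) (fun a1 => forceL (ct0F a1) (fun a2 => forceL (ct7F a2) (fun a3 => forceL (ct0F a3) (fun a4 => a4))))
set_option maxRecDepth 1000000 in
def W_8 (v : ℕ) : ℕ := forceL (ct1F v) (fun a1 => forceL (ct1F a1) (fun a2 => a2))
set_option maxRecDepth 1000000 in
def W_9 (v : ℕ) : ℕ := forceL (ct2F v) (fun a1 => forceL (ct1F a1) (fun a2 => forceL (ct2F a2) (fun a3 => forceL (ct1F a3) (fun a4 => forceL (ct2F a4) (fun a5 => forceL (ct1F a5) (fun a6 => a6))))))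
set_option maxRecDepth 1000000 in
def W_10 (v : ℕ) : ℕ := forceL (ct3F v) (fun a1 => forceL (ct1F a1) (fun a2 => forceL (ct3F a2) (fun a3 => forceL (ct1F a3) (fun a4 => a4))))
set_option maxRecDepth 1000000 in
def W_11 (v : ℕ) : ℕ := forceL (ct4F v) (fun a1 => forceL (ct1F a1) (fun a2 => forceL (ct4F a2) (fun a3 => forceL (ct1F a3) (fun a4 => a4))))
set_option maxRecDepth 1000000 in
def W_12 (v : ℕ) : ℕ := forceL (ct5F v) (fun a1 => forceL (ct1F a1) (fun a2 => forceL (ct5F a2) (fun a3 => forceL (ct1F a3) (fun a4 => a4))))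
set_option maxRecDepth 1000000 in
def W_13 (v : ℕ) : ℕ := forceL (ct6F v) (fun a1 => forceL (ct1F a1) (fun a2 => forceL (ct6F a2) (fun a3 => forceL (ct1F a3) (fun a4 => a4))))
set_option maxRecDepth 1000000 in
def W_14 (v : ℕ) : ℕ := forceL (ct7F v) (fun a1 => forceL (ct1F a1) (fun a2 => forceL (ct7F a2) (fun a3 => forceL (ct1F a3) (fun a4 => a4))))
set_option maxRecDepth 1000000 in
def W_15 (v : ℕ) : ℕ := forceL (ct2F v) (fun a1 => forceL (ct2F a1) (fun a2 => a2))
set_option maxRecDepth 1000000 in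
def W_16 (v : ℕ) : ℕ := forceL (ct3F v) (fun a1 => forceL (ct2F a1) (fun a2 => forceL (ct3F a2) (fun a3 => forceL (ct2F a3) (fun a4 => forceL (ct3F a4) (fun a5 => forceL (ct2F a5) (fun a6 => a6))))))
set_option maxRecDepth 1000000 in
def W_17 (v : ℕ) : ℕ := forceL (ct4F v) (fun a1 => forceL (ct2F a1) (fun a2 => forceL (ct4F a2) (fun a3 => forceL (ct2F a3) (fun a4 => forceL (ct4F a4) (fun a5 => forceL (ct2F a5) (fun a6 => a6))))))
set_option maxRecDepth 1000000 in
def W_18 (v : ℕ) : ℕ := forceL (ct5F v) (fun a1 => forceL (ct2F a1) (fun a2 => forceL (ct5F a2) (fun a3 => forceL (ct2F a3) (fun a4 => a4))))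
set_option maxRecDepth 1000000 in
def W_19 (v : ℕ) : ℕ := forceL (ct6F v) (fun a1 => forceL (ct2F a1) (fun a2 => forceL (ct6F a2) (fun a3 => forceL (ct2F a3) (fun a4 => a4))))
set_option maxRecDepth 1000000 in
def W_20 (v : ℕ) : ℕ := forceL (ct7F v) (fun a1 => forceL (ct2F a1) (fun a2 => forceL (ct7F a2) (fun a3 => forceL (ct2F a3) (fun a4 => a4))))
set_option maxRecDepth 1000000 in
def W_21 (v : ℕ) : ℕ := forceL (ct3F v) (fun a1 => forceL (ct3F a1) (fun a2 => a2))
set_option maxRecDepth 1000000 in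
def W_22 (v : ℕ) : ℕ := forceL (ct4F v) (fun a1 => forceL (ct3F a1) (fun a2 => forceL (ct4F a2) (fun a3 => forceL (ct3F a3) (fun a4 => a4))))
set_option maxRecDepth 1000000 in
def W_23 (v : ℕ) : ℕ := forceL (ct5F v) (fun a1 => forceL (ct3F a1) (fun a2 => forceL (ct5F a2) (fun a3 => forceL (ct3F a3) (fun a4 => a4))))
set_option maxRecDepth 1000000 in
def W_24 (v : ℕ) : ℕ := forceL (ct6F v) (fun a1 => forceL (ct3F a1) (fun a2 => forceL (ct6F a2) (fun a3 => forceL (ct3F a3) (fun a4 => forceL (ct6F a4) (fun a5 => forceL (ct3F a5) (fun a6 => a6))))))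
set_option maxRecDepth 1000000 in
def W_25 (v : ℕ) : ℕ := forceL (ct7F v) (fun a1 => forceL (ct3F a1) (fun a2 => forceL (ct7F a2) (fun a3 => forceL (ct3F a3) (fun a4 => a4))))
set_option maxRecDepth 1000000 in
def W_26 (v : ℕ) : ℕ := forceL (ct4F v) (fun a1 => forceL (ct4F a1) (fun a2 => a2))
set_option maxRecDepth 1000000 in
def W_27 (v : ℕ) : ℕ := forceL (ct5F v) (fun a1 => forceL (ct4F a1) (fun a2 => forceL (ct5F a2) (fun a3 => forceL (ct4F a3) (fun a4 => forceL (ct5F a4) (fun a5 => forceL (ct4F a5) (fun a6 => a6))))))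
set_option maxRecDepth 1000000 in
def W_28 (v : ℕ) : ℕ := forceL (ct6F v) (fun a1 => forceL (ct4F a1) (fun a2 => forceL (ct6F a2) (fun a3 => forceL (ct4F a3) (fun a4 => a4))))
set_option maxRecDepth 1000000 in
def W_29 (v : ℕ) : ℕ := forceL (ct7F v) (fun a1 => forceL (ct4F a1) (fun a2 => forceL (ct7F a2) (fun a3 => forceL (ct4F a3) (fun a4 => a4))))
set_option maxRecDepth 1000000 in
def W_30 (v : ℕ) : ℕ := forceL (ct5F v) (fun a1 => forceL (ct5F a1) (fun a2 => a2))
set_option maxRecDepth 1000000 in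
def W_31 (v : ℕ) : ℕ := forceL (ct6F v) (fun a1 => forceL (ct5F a1) (fun a2 => forceL (ct6F a2) (fun a3 => forceL (ct5F a3) (fun a4 => a4))))
set_option maxRecDepth 1000000 in
def W_32 (v : ℕ) : ℕ := forceL (ct7F v) (fun a1 => forceL (ct5F a1) (fun a2 => forceL (ct7F a2) (fun a3 => forceL (ct5F a3) (fun a4 => a4))))
set_option maxRecDepth 1000000 in
def W_33 (v : ℕ) : ℕ := forceL (ct6F v) (fun a1 => forceL (ct6F a1) (fun a2 => a2))
set_option maxRecDepth 1000000 in
def W_34 (v : ℕ) : ℕ := forceL (ct7F v) (fun a1 => forceL (ct6F a1) (fun a2 => forceL (ct7F a2) (fun a3 => forceL (ct6F a3) (fun a4 => forceL (ct7F a4) (fun a5 => forceL (ct6F a5) (fun a6 => a6))))))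
set_option maxRecDepth 1000000 in
def W_35 (v : ℕ) : ℕ := forceL (ct7F v) (fun a1 => forceL (ct7F a1) (fun a2 => a2))
set_option maxRecDepth 1000000 in
def W_36 (v : ℕ) : ℕ := forceL (ct5F v) (fun a1 => forceL (ct4F a1) (fun a2 => forceL (ct2F a2) (fun a3 => forceL (ct6F a3) (fun a4 => forceL (ct3F a4) (fun a5 => forceL (ct2F a5) (fun a6 => forceL (ct0F a6) (fun a7 => forceL (ct1F a7) (fun a8 => forceL (ct2F a8) (fun a9 => forceL (ct5F a9) (fun a10 => forceL (ct4F a10) (fun a11 => forceL (ct2F a11) (fun a12 => forceL (ct6F a12) (fun a13 => forceL (ct3F a13) (fun a14 => forceL (ct2F a14) (fun a15 => forceL (ct0F a15) (fun a16 => forceL (ct1F a16) (fun a17 => forceL (ct2F a17) (fun a18 => forceL (ct5F a18) (fun a19 => forceL (ct4F a19) (fun a20 => forceL (ct2F a20) (fun a21 => forceL (ct6F a21) (fun a22 => forceL (ct3F a22) (fun a23 => forceL (ct2F a23) (fun a24 => forceL (ct0F a24) (fun a25 => forceL (ct1F a25) (fun a26 => forceL (ct2F a26) (fun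 a27 => forceL (ct5F a27) (fun a28 => forceL (ct4F a28) (fun a29 => forceL (ct2F a29) (fun a30 => forceL (ct6F a30) (fun a31 => forceL (ct3F a31) (fun a32 => forceL (ct2F a32) (fun a33 => forceL (ct0F a33) (fun a34 => forceL (ct1F a34) (fun a35 => forceL (ct2F a35) (fun a36 => forceL (ct5F a36) (fun a37 => forceL (ct4F a37) (fun a38 => forceL (ct2F a38) (fun a39 => forceL (ct6F a39) (fun a40 => forceL (ct3F a40) (fun a41 => forceL (ct2F a41) (fun a42 => forceL (ct0F a42) (fun a43 => forceL (ct1F a43) (fun a44 => forceL (ct2F a44) (fun a45 => forceL (ct5F a45) (fun a46 => forceL (ct4F a46) (fun a47 => forceL (ct2F a47) (fun a48 => forceL (ct6F a48) (fun a49 => forceL (ct3F a49) (fun a50 => forceL (ct2F a50) (fun a51 => forceL (ct0F a51) (fun a52 => forceL (ct1F a52) (fun a53 => forceL (ct2F a53) (fun a54 => forceL (ct5F a54) (fun a55 => forceL (ct4F a55) (fun a56 => forceL (ct2F a56) (fun a57 => forceL (ct6F a57) (fun a58 => forceL (ct3F a58) (fun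 a59 => forceL (ct2F a59) (fun a60 => forceL (ct0F a60) (fun a61 => forceL (ct1F a61) (fun a62 => forceL (ct2F a62) (fun a63 => forceL (ct5F a63) (fun a64 => forceL (ct4F a64) (fun a65 => forceL (ct2F a65) (fun a66 => forceL (ct6F a66) (fun a67 => forceL (ct3F a67) (fun a68 => forceL (ct2F a68) (fun a69 => forceL (ct0F a69) (fun a70 => forceL (ct1F a70) (fun a71 => forceL (ct2F a71) (fun a72 => forceL (ct5F a72) (fun a73 => forceL (ct4F a73) (fun a74 => forceL (ct2F a74) (fun a75 => forceL (ct6F a75) (fun a76 => forceL (ct3F a76) (fun a77 => forceL (ct2F a77) (fun a78 => forceL (ct0F a78) (fun a79 => forceL (ct1F a79) (fun a80 => forceL (ct2F a80) (fun a81 => forceL (ct5F a81) (fun a82 => forceL (ct4F a82) (fun a83 => forceL (ct2F a83) (fun a84 => forceL (ct6F a84) (fun a85 => forceL (ct3F a85) (fun a86 => forceL (ct2F a86) (fun a87 => forceL (ct0F a87) (fun a88 => forceL (ct1F a88) (fun a89 => forceL (ct2F a89) (fun a90 => a90))))))))))))))))))))))))))))))))))))))))))))))))))))))))))))))))))))))))))))))))))))))))))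
set_option maxRecDepth 1000000 in
def W_37 (v : ℕ) : ℕ := forceL (ct4F v) (fun a1 => forceL (ct7F a1) (fun a2 => forceL (ct6F a2) (fun a3 => forceL (ct3F a3) (fun a4 => forceL (ct2F a4) (fun a5 => forceL (ct1F a5) (fun a6 => forceL (ct0F a6) (fun a7 => forceL (ct4F a7) (fun a8 => forceL (ct7F a8) (fun a9 => forceL (ct6F a9) (fun a10 => forceL (ct3F a10) (fun a11 => forceL (ct2F a11) (fun a12 => forceL (ct1F a12) (fun a13 => forceL (ct0F a13) (fun a14 => forceL (ct4F a14) (fun a15 => forceL (ct7F a15) (fun a16 => forceL (ct6F a16) (fun a17 => forceL (ct3F a17) (fun a18 => forceL (ct2F a18) (fun a19 => forceL (ct1F a19) (fun a20 => forceL (ct0F a20) (fun a21 => forceL (ct4F a21) (fun a22 => forceL (ct7F a22) (fun a23 => forceL (ct6F a23) (fun a24 => forceL (ct3F a24) (fun a25 => forceL (ct2F a25) (fun a26 => forceL (ct1F a26) (fun a27 => forceL (ct0F a27) (fun a28 => forceL (ct4F a28) (fun a29 => forceL (ct7F a29) (fun a30 => forceL (ct6F a30) (fun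 a31 => forceL (ct3F a31) (fun a32 => forceL (ct2F a32) (fun a33 => forceL (ct1F a33) (fun a34 => forceL (ct0F a34) (fun a35 => forceL (ct4F a35) (fun a36 => forceL (ct7F a36) (fun a37 => forceL (ct6F a37) (fun a38 => forceL (ct3F a38) (fun a39 => forceL (ct2F a39) (fun a40 => forceL (ct1F a40) (fun a41 => forceL (ct0F a41) (fun a42 => forceL (ct4F a42) (fun a43 => forceL (ct7F a43) (fun a44 => forceL (ct6F a44) (fun a45 => forceL (ct3F a45) (fun a46 => forceL (ct2F a46) (fun a47 => forceL (ct1F a47) (fun a48 => forceL (ct0F a48) (fun a49 => forceL (ct4F a49) (fun a50 => forceL (ct7F a50) (fun a51 => forceL (ct6F a51) (fun a52 => forceL (ct3F a52) (fun a53 => forceL (ct2F a53) (fun a54 => forceL (ct1F a54) (fun a55 => forceL (ct0F a55) (fun a56 => forceL (ct4F a56) (fun a57 => forceL (ct7F a57) (fun a58 => forceL (ct6F a58) (fun a59 => forceL (ct3F a59) (fun a60 => forceL (ct2F a60) (fun a61 => forceL (ct1F a61) (fun a62 => forceL (ct0F a62) (fun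 a63 => a63)))))))))))))))))))))))))))))))))))))))))))))))))))))))))))))))
set_option maxRecDepth 1000000 in
def W_38 (v : ℕ) : ℕ := forceL (ct7F v) (fun a1 => forceL (ct6F a1) (fun a2 => forceL (ct5F a2) (fun a3 => forceL (ct4F a3) (fun a4 => forceL (ct3F a4) (fun a5 => forceL (ct2F a5) (fun a6 => forceL (ct1F a6) (fun a7 => forceL (ct0F a7) (fun a8 => a8))))))))

end Cfsg.Agent.Helper5.FiXLTC
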