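import Mathlib
import Cfsg.Agent.Helper5.O73LPA
import Cfsg.Agent.Helper5.O73LPB
import Cfsg.Agent.Helper5.O73LPC
import Cfsg.Agent.Helper5.LPX

/-! generated: the O73 presentation, as a list-presented group, defines a simple group of order
4585351680 -/

set_option autoImplicit false

namespace Cfsg.Agent.Helper5.O73LP

open Cfsg.Agent.Helper5.TC Cfsg.Agent.Helper5.TCI Cfsg.Agent.Helper5.LP

/-- the permutation of `xw`, packed. -/
def pxBlocks : List ℕ := [0x16500014200014a00015600013900010100014000012500015a00012d0001440001180001220001170000df0000c60000b700012000010700014900010d0000d50000d70001280000a40000f60000e80001000000f50000bd0000c70000a30000990000b50000fe0001600000be00012c0001660000b30001260001060000f80000c00000b400015f0000860001040001430000d40000e30000c500009a0000de00016700016a00008800007f0000a00000a600013100013c00009700016300009e00016b0000960001610000f40000b20000e600009800006f0000e20000d600009f00015100014d0001290000e00001270001680000a50000870000c400014700007e00016900008900011000011c00008300011d00007c0001550000820001640001540000d30000450001520000c30000b600008400013800013000010e0000bf00015e00015b0000c100010a0001580001090001370000a200012b00006e00013b0000690001410000ed0000fb0000440000fc00006c00015c00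013f00015900013e00008a00004600008e00013a00011600010f0000710000a100014f00014b0000ec00016200007d0001460000ea00015000011500010b00003400011b00005a0001530001210000da00003300009100014c00011f00014800007000008500010c00006d00007400005c0000350000780000ee00011a00013500012e00006a0001570000ce00015d00012a0000680001190001360000f30000270000f90000260000ab00013d0000ff0000770000ae00012f00005d0000db0000eb00005b0000fa00005900013200005f0000d10000610000580000640000cf0001450000570000fd00014e0000f700012400011400001c0000cb00008d0000cc00011e0000620000920000cd0000bb00004a0000b90000d900004900011300011100013300004e0000b00000510000470000dd0000af0000dc0001050001340000d80001030000aa0000c90000750000ad0000790000b800009c0000380000f000009b0000ef0001230000f100011200003f0000940000ba0000e90000bc0000e10000e500008f0000a800009000003c00004d00004f0000160000800000d00001080000d20001020000f200003600001400009d0000ca0000c200004800008c00003d00002c0000400000600000630000a90000100000b10000e70000e400002900000f00001d0000ac00003700004b00002300003000003100005000000c00005300007600008b00000b00004c0000c800006b00007b00001500002800008100003a00000900004100004200000800003e00006700007200002f00003b00003900009500001e00009300000600003200005500002200002e00002d00002a00007a00002b0000a700001b00002500002400002000006600002100001f00007300001900005400001a00001700006500005e00001200005600000500005200000400004300001800000300001300001100000e00000d00000a000002000001000000000007]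

/-- the permutation of `xw`. -/
def px (v : ℕ) : ℕ := pLook 682 pxBlocks v

set_option maxRecDepth 1000000 in
theorem px_agree : agreeRangeF FiXBTC.ctF xw px 364 0 = true := by decide +kernel

set_option maxRecDepth 1000000 in
theorem px_pow : iterFixRangeF px 13 364 0 = true := by decide +kernel


theorem xw_pow : fixRange FiXBTC.ctF (List.replicate 13 xw).flatten 364 0 = true :=
  fixRange_pow_of_table (tableOK_of_cert FiXBTC.iota (fun _ => rfl) rfl FiXBTC.hT) xw (by decide)
    px 13 px_agree px_pow

theorem xw_move : actL FiXBTC.ctF xw 0 ≠ 0 := by decide +kernel

theorem lettersA : LettersLt 8 R8 := by decide +kernel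

/-- **The presentation defines a simple group of order 4585351680.** -/
theorem simple_card : IsSimpleGroup (LPG 8 R8) ∧ Nat.card (LPG 8 R8) = 4585351680 :=
  lp_simple lettersA (tableOK_of_cert FiXBTC.iota (fun _ => rfl) rfl FiXBTC.hT)
    (relsFix_of_cert (letterWords 7) rfl wordsB FiXBTC.hrelT) 4585351680 ubB.1
    (le_trans ubB.2 (by norm_num)) levels chain_ok chain_prod Hgens prim prim_ok 13 (by norm_num)
    (by norm_num) (by norm_num) xw (by decide) xw_pow 0 (by norm_num) xw_move killed
    (by norm_num)

end Cfsg.Agent.Helper5.O73LP
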