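import Cfsg.Agent.Helper5.FiXATCDatD
import Cfsg.Agent.Helper5.TCIB

/-! kernel checks of edges, aliases, rows: FiXATC -/

set_option autoImplicit false
set_option Elab.async false

namespace Cfsg.Agent.Helper5.FiXATC
open Cfsg.Agent.Helper5.TC Cfsg.Agent.Helper5.TCI

set_option maxRecDepth 1000000 in
theorem edges_8_0 : edgesRangeI iota E 8 3685 0 = true := by decide +kernel

set_option maxRecDepth 1000000 in
theorem edges_1_4 : edgesRangeI iota E 1 2229 9665 = true := by decide +kernel

set_option maxRecDepth 1000000 in
theorem edges_2_4 : edgesRangeI iota E 2 2083 9164 = true := by decide +kernel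

set_option maxRecDepth 1000000 in
theorem edges_1_3 : edgesRangeI iota E 1 2227 7438 = true := by decide +kernel

set_option maxRecDepth 1000000 in
theorem edges_3_2 : edgesRangeI iota E 3 2027 5133 = true := by decide +kernel

set_option maxRecDepth 1000000 in
theorem edges_5_5 : edgesRangeI iota E 5 1912 10880 = true := by decide +kernel

set_option maxRecDepth 1000000 in
theorem edges_7_0 : edgesRangeI iota E 7 2265 0 = true := by decide +kernel

set_option maxRecDepth 1000000 in
theorem edges_0_3 : edgesRangeI iota E 0 2198 8296 = true := by decide +kernel

set_option maxRecDepth 1000000 in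
theorem edges_1_2 : edgesRangeI iota E 1 2226 5212 = true := by decide +kernel

set_option maxRecDepth 1000000 in
theorem edges_3_3 : edgesRangeI iota E 3 1774 7160 = true := by decide +kernel

set_option maxRecDepth 1000000 in
theorem edges_4_2 : edgesRangeI iota E 4 2084 5200 = true := by decide +kernel

set_option maxRecDepth 1000000 in
theorem edges_6_4 : edgesRangeI iota E 6 1879 8904 = true := by decide +kernel

set_option maxRecDepth 1000000 in
theorem edges_7_6 : edgesRangeI iota E 7 1866 12095 = true := by decide +kernel

set_option maxRecDepth 1000000 in
theorem edges_1_5 : edgesRangeI iota E 1 1941 11894 = true := by decide +kernel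

set_option maxRecDepth 1000000 in
theorem edges_3_0 : edgesRangeI iota E 3 2500 0 = true := by decide +kernel

set_option maxRecDepth 1000000 in
theorem edges_3_4 : edgesRangeI iota E 3 1874 8934 = true := by decide +kernel

set_option maxRecDepth 1000000 in
theorem edges_4_6 : edgesRangeI iota E 4 2091 13393 = true := by decide +kernel

set_option maxRecDepth 1000000 in
theorem edges_5_3 : edgesRangeI iota E 5 1857 7297 = true := by decide +kernel

set_option maxRecDepth 1000000 in
theorem edges_8_3 : edgesRangeI iota E 8 1958 9452 = true := by decide +kernel

set_option maxRecDepth 1000000 in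
theorem edges_2_1 : edgesRangeI iota E 2 2721 2428 = true := by decide +kernel

set_option maxRecDepth 1000000 in
theorem edges_4_0 : edgesRangeI iota E 4 2399 0 = true := by decide +kernel

set_option maxRecDepth 1000000 in
theorem edges_5_4 : edgesRangeI iota E 5 1726 9154 = true := by decide +kernel

set_option maxRecDepth 1000000 in
theorem edges_7_3 : edgesRangeI iota E 7 1866 6582 = true := by decide +kernel

set_option maxRecDepth 1000000 in
theorem edges_8_2 : edgesRangeI iota E 8 2300 7152 = true := by decide +kernel

set_option maxRecDepth 1000000 in
theorem edges_0_1 : edgesRangeI iota E 0 3312 2427 = true := by decide +kernel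

set_option maxRecDepth 1000000 in
theorem edges_1_0 : edgesRangeI iota E 1 2370 0 = true := by decide +kernel

set_option maxRecDepth 1000000 in
theorem edges_1_6 : edgesRangeI iota E 1 1828 13835 = true := by decide +kernel

set_option maxRecDepth 1000000 in
theorem edges_3_6 : edgesRangeI iota E 3 1999 12668 = true := by decide +kernel

set_option maxRecDepth 1000000 in
theorem edges_4_5 : edgesRangeI iota E 4 2165 11228 = true := by decide +kernel

set_option maxRecDepth 1000000 in
theorem edges_5_6 : edgesRangeI iota E 5 2154 12792 = true := by decide +kernel

set_option maxRecDepth 1000000 in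
theorem edges_6_1 : edgesRangeI iota E 6 2427 2383 = true := by decide +kernel

set_option maxRecDepth 1000000 in
theorem edges_6_5 : edgesRangeI iota E 6 1879 10783 = true := by decide +kernel

set_option maxRecDepth 1000000 in
theorem edges_7_4 : edgesRangeI iota E 7 1836 8448 = true := by decide +kernel

set_option maxRecDepth 1000000 in
theorem aliases_1 : aliasRange E 3870 3855 = true := by decide +kernel

set_option maxRecDepth 1000000 in
theorem edges_8_6 : edgesRangeI iota E 8 1801 15037 = true := by decide +kernel

set_option maxRecDepth 1000000 in
theorem edges_2_7 : edgesRangeI iota E 2 1591 15247 = true := by decide +kernel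

set_option maxRecDepth 1000000 in
theorem rows_1 : rowsRange E RS 1500 1500 = true := by decide +kernel

set_option maxRecDepth 1000000 in
theorem rows_3 : rowsRange E RS 1500 4500 = true := by decide +kernel

set_option maxRecDepth 1000000 in
theorem rows_5 : rowsRange E RS 1500 7500 = true := by decide +kernel

set_option maxRecDepth 1000000 in
theorem rows_7 : rowsRange E RS 1500 10500 = true := by decide +kernel

set_option maxRecDepth 1000000 in
theorem rows_9 : rowsRange E RS 1500 13500 = true := by decide +kernel

set_option maxRecDepth 1000000 in
theorem edges_6_7 : edgesRangeI iota E 6 1530 15308 = true := by decide +kernel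

set_option maxRecDepth 1000000 in
theorem edges_0_7 : edgesRangeI iota E 0 789 16049 = true := by decide +kernel

set_option maxRecDepth 1000000 in
theorem edges_3_8 : edgesRangeI iota E 3 383 16455 = true := by decide +kernel

set_option maxRecDepth 1000000 in
theorem aliases_3 : aliasRange E 1113 15725 = true := by decide +kernel

end Cfsg.Agent.Helper5.FiXATC
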