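import Cfsg.Agent.Helper5.FiXATCDatD
import Cfsg.Agent.Helper5.FiXATCDatT
import Cfsg.Agent.Helper5.TCIB

/-! kernel checks of the coset table: FiXATC -/

set_option autoImplicit false
set_option Elab.async false

namespace Cfsg.Agent.Helper5.FiXATC
open Cfsg.Agent.Helper5.TC Cfsg.Agent.Helper5.TCI

set_option maxRecDepth 1000000 in
theorem relc_46_1 : fixPtsF W_46 3174 3174 = true := by decide +kernel

set_option maxRecDepth 1000000 in
theorem relc_46_3 : fixPtsF W_46 3174 9522 = true := by decide +kernel

set_option maxRecDepth 1000000 in
theorem relc_47_1 : fixPtsF W_47 3174 3174 = true := by decide +kernel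

set_option maxRecDepth 1000000 in
theorem relc_47_3 : fixPtsF W_47 3174 9522 = true := by decide +kernel

set_option maxRecDepth 1000000 in
theorem relc_45_1 : fixPtsF W_45 2222 2222 = true := by decide +kernel

set_option maxRecDepth 1000000 in
theorem relc_45_3 : fixPtsF W_45 2222 6666 = true := by decide +kernel

set_option maxRecDepth 1000000 in
theorem relc_45_5 : fixPtsF W_45 2222 11110 = true := by decide +kernel

set_option maxRecDepth 1000000 in
theorem relc_8_0 : fixPtsF W_8 14080 0 = true := by decide +kernel

set_option maxRecDepth 1000000 in
theorem relc_18_0 : fixPtsF W_18 14080 0 = true := by decide +kernel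

set_option maxRecDepth 1000000 in
theorem relc_27_0 : fixPtsF W_27 14080 0 = true := by decide +kernel

set_option maxRecDepth 1000000 in
theorem relc_40_0 : fixPtsF W_40 14080 0 = true := by decide +kernel

set_option maxRecDepth 1000000 in
theorem relc_3_0 : fixPtsF W_3 14080 0 = true := by decide +kernel

set_option maxRecDepth 1000000 in
theorem relc_5_0 : fixPtsF W_5 14080 0 = true := by decide +kernel

set_option maxRecDepth 1000000 in
theorem relc_7_0 : fixPtsF W_7 14080 0 = true := by decide +kernel

set_option maxRecDepth 1000000 in
theorem relc_12_0 : fixPtsF W_12 14080 0 = true := by decide +kernel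

set_option maxRecDepth 1000000 in
theorem relc_14_0 : fixPtsF W_14 14080 0 = true := by decide +kernel

set_option maxRecDepth 1000000 in
theorem relc_16_0 : fixPtsF W_16 14080 0 = true := by decide +kernel

set_option maxRecDepth 1000000 in
theorem relc_21_0 : fixPtsF W_21 14080 0 = true := by decide +kernel

set_option maxRecDepth 1000000 in
theorem relc_23_0 : fixPtsF W_23 14080 0 = true := by decide +kernel

set_option maxRecDepth 1000000 in
theorem relc_26_0 : fixPtsF W_26 14080 0 = true := by decide +kernel

set_option maxRecDepth 1000000 in
theorem relc_29_0 : fixPtsF W_29 14080 0 = true := by decide +kernel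

set_option maxRecDepth 1000000 in
theorem relc_33_0 : fixPtsF W_33 14080 0 = true := by decide +kernel

set_option maxRecDepth 1000000 in
theorem relc_36_0 : fixPtsF W_36 14080 0 = true := by decide +kernel

set_option maxRecDepth 1000000 in
theorem relc_38_0 : fixPtsF W_38 14080 0 = true := by decide +kernel

set_option maxRecDepth 1000000 in
theorem relc_43_0 : fixPtsF W_43 14080 0 = true := by decide +kernel

set_option maxRecDepth 1000000 in
theorem relc_47_4 : fixPtsF W_47 1384 12696 = true := by decide +kernel

set_option maxRecDepth 1000000 in
theorem relc_9_0 : fixPtsF W_9 14080 0 = true := by decide +kernel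

set_option maxRecDepth 1000000 in
theorem relc_24_0 : fixPtsF W_24 14080 0 = true := by decide +kernel

set_option maxRecDepth 1000000 in
theorem relc_35_0 : fixPtsF W_35 14080 0 = true := by decide +kernel

set_option maxRecDepth 1000000 in
theorem relc_42_0 : fixPtsF W_42 14080 0 = true := by decide +kernel

set_option maxRecDepth 1000000 in
theorem relc_45_6 : fixPtsF W_45 748 13332 = true := by decide +kernel

set_option maxRecDepth 1000000 in
theorem inv_0_0 : invRowFI ctF 14080 0 0 14080 0 = true := by decide +kernel

set_option maxRecDepth 1000000 in
theorem inv_2_0 : invRowFI ctF 14080 2 2 14080 0 = true := by decide +kernel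

set_option maxRecDepth 1000000 in
theorem inv_4_0 : invRowFI ctF 14080 4 4 14080 0 = true := by decide +kernel

set_option maxRecDepth 1000000 in
theorem inv_6_0 : invRowFI ctF 14080 6 6 14080 0 = true := by decide +kernel

set_option maxRecDepth 1000000 in
theorem inv_8_0 : invRowFI ctF 14080 8 8 14080 0 = true := by decide +kernel

end Cfsg.Agent.Helper5.FiXATC
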