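import Mathlib
import Cfsg.Agent.Helper5.LPW
import Cfsg.Agent.Helper5.FiXATCSum
import Cfsg.Agent.Helper5.FiXBTCSum
import Cfsg.Agent.Helper5.FiXCTCSum
import Cfsg.Agent.Helper5.FiXDTCSum
import Cfsg.Agent.Helper5.FiXETCSum
import Cfsg.Agent.Helper5.FiXFTCSum
import Cfsg.Agent.Helper5.FiXGTCSum
import Cfsg.Agent.Helper5.FiXHTCSum
import Cfsg.Agent.Helper5.FiXKTCSum

/-! generated: the relators of the Fi22 presentation, the certified indices of the parabolic subgroups and the upper bound for the order -/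

set_option autoImplicit false

namespace Cfsg.Agent.Helper5.Fi22LP

open Cfsg.Agent.Helper5.TC Cfsg.Agent.Helper5.TCI Cfsg.Agent.Helper5.LP

/-- relator words on the first 9 letters. -/
def R9 : List (List ℕ) := [[0, 0], [0, 1, 0, 1, 0, 1], [0, 2, 0, 2], [0, 3, 0, 3], [0, 4, 0, 4], [0, 5, 0, 5], [0, 6, 0, 6], [0, 7, 0, 7], [0, 8, 0, 8, 0, 8], [1, 1], [1, 2, 1, 2, 1, 2], [1, 3, 1, 3], [1, 4, 1, 4], [1, 5, 1, 5], [1, 6, 1, 6], [1, 7, 1, 7], [1, 8, 1, 8], [2, 2], [2, 3, 2, 3, 2, 3], [2, 4, 2, 4, 2, 4], [2, 5, 2, 5], [2, 6, 2, 6], [2, 7, 2, 7], [2, 8, 2, 8], [3, 3], [3, 4, 3, 4], [3, 5, 3, 5], [3, 6, 3, 6, 3, 6], [3, 7, 3, 7], [3, 8, 3, 8], [4, 4], [4, 5, 4, 5, 4, 5], [4, 6, 4, 6], [4, 7, 4, 7], [4, 8, 4, 8], [5, 5], [5, 6, 5, 6], [5, 7, 5, 7], [5, 8, 5, 8], [6, 6], [6, 7, 6, 7, 6, 7], [6, 8, 6, 8], [7, 7], [7, 8, 7, 8],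 [8, 8], [2, 1, 0, 2, 3, 6, 2, 4, 5, 2, 1, 0, 2, 3, 6, 2, 4, 5, 2, 1, 0, 2, 3, 6, 2, 4, 5, 2, 1, 0, 2, 3, 6, 2, 4, 5, 2, 1, 0, 2, 3, 6, 2, 4, 5, 2, 1, 0, 2, 3, 6, 2, 4, 5, 2, 1, 0, 2, 3, 6, 2, 4, 5, 2, 1, 0, 2, 3, 6, 2, 4, 5, 2, 1, 0, 2, 3, 6, 2, 4, 5, 2, 1, 0, 2, 3, 6, 2, 4, 5], [8, 0, 1, 2, 3, 6, 4, 8, 0, 1, 2, 3, 6, 4, 8, 0, 1, 2, 3, 6, 4, 8, 0, 1, 2, 3, 6, 4, 8, 0, 1, 2, 3, 6, 4, 8, 0, 1, 2, 3, 6, 4, 8, 0, 1, 2, 3, 6, 4, 8, 0, 1, 2, 3, 6, 4, 8, 0, 1, 2, 3, 6, 4], [0, 1, 2, 3, 6, 7, 4, 0, 1, 2, 3, 6, 7, 4, 0, 1, 2, 3, 6, 7, 4, 0, 1, 2, 3, 6, 7, 4, 0, 1, 2, 3, 6, 7, 4, 0, 1, 2, 3, 6, 7, 4, 0, 1, 2, 3, 6, 7, 4, 0, 1, 2, 3, 6, 7, 4, 0, 1, 2, 3, 6, 7, 4]]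

/-- relator words on the first 8 letters. -/
def R8 : List (List ℕ) := [[0, 0], [0, 1, 0, 1, 0, 1], [0, 2, 0, 2], [0, 3, 0, 3], [0, 4, 0, 4], [0, 5, 0, 5], [0, 6, 0, 6], [0, 7, 0, 7], [1, 1], [1, 2, 1, 2, 1, 2], [1, 3, 1, 3], [1, 4, 1, 4], [1, 5, 1, 5], [1, 6, 1, 6], [1, 7, 1, 7], [2, 2], [2, 3, 2, 3, 2, 3], [2, 4, 2, 4, 2, 4], [2, 5, 2, 5], [2, 6, 2, 6], [2, 7, 2, 7], [3, 3], [3, 4, 3, 4], [3, 5, 3, 5], [3, 6, 3, 6, 3, 6], [3, 7, 3, 7], [4, 4], [4, 5, 4, 5, 4, 5], [4, 6, 4, 6], [4, 7, 4, 7], [5, 5], [5, 6, 5, 6], [5, 7, 5, 7], [6, 6], [6, 7, 6, 7, 6, 7], [7, 7], [2, 1, 0, 2, 3, 6, 2, 4, 5, 2, 1, 0, 2, 3, 6, 2, 4, 5, 2, 1, 0, 2, 3, 6, 2, 4, 5, 2, 1, 0, 2, 3, 6, 2, 4, 5, 2, 1, 0, 2, 3, 6, 2, 4, 5, 2, 1, 0, 2, 3, 6, 2, 4, 5, 2, 1, 0, 2, 3, 6, 2, 4, 5, 2, 1, 0, 2, 3, 6, 2, 4, 5, 2, 1, 0, 2, 3, 6, 2, 4, 5, 2, 1, 0, 2, 3,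 6, 2, 4, 5], [0, 1, 2, 3, 6, 7, 4, 0, 1, 2, 3, 6, 7, 4, 0, 1, 2, 3, 6, 7, 4, 0, 1, 2, 3, 6, 7, 4, 0, 1, 2, 3, 6, 7, 4, 0, 1, 2, 3, 6, 7, 4, 0, 1, 2, 3, 6, 7, 4, 0, 1, 2, 3, 6, 7, 4, 0, 1, 2, 3, 6, 7, 4]]

/-- relator words on the first 7 letters. -/
def R7 : List (List ℕ) := [[0, 0], [0, 1, 0, 1, 0, 1], [0, 2, 0, 2], [0, 3, 0, 3], [0, 4, 0, 4], [0, 5, 0, 5], [0, 6, 0, 6], [1, 1], [1, 2, 1, 2, 1, 2], [1, 3, 1, 3], [1, 4, 1, 4], [1, 5, 1, 5], [1, 6, 1, 6], [2, 2], [2, 3, 2, 3, 2, 3], [2, 4, 2, 4, 2, 4], [2, 5, 2, 5], [2, 6, 2, 6], [3, 3], [3, 4, 3, 4], [3, 5, 3, 5], [3, 6, 3, 6, 3, 6], [4, 4], [4, 5, 4, 5, 4, 5], [4, 6, 4, 6], [5, 5], [5, 6, 5, 6], [6, 6], [2, 1, 0, 2, 3, 6, 2, 4, 5, 2, 1, 0, 2, 3, 6, 2, 4, 5, 2, 1, 0, 2, 3, 6, 2, 4, 5, 2, 1, 0, 2, 3, 6, 2, 4, 5, 2, 1, 0, 2, 3, 6, 2, 4, 5, 2, 1, 0, 2, 3, 6, 2, 4, 5, 2,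 1, 0, 2, 3, 6, 2, 4, 5, 2, 1, 0, 2, 3, 6, 2, 4, 5, 2, 1, 0, 2, 3, 6, 2, 4, 5, 2, 1, 0, 2, 3, 6, 2, 4, 5]]

/-- relator words on the first 6 letters. -/
def R6 : List (List ℕ) := [[0, 0], [0, 1, 0, 1, 0, 1], [0, 2, 0, 2], [0, 3, 0, 3], [0, 4, 0, 4], [0, 5, 0, 5], [1, 1], [1, 2, 1, 2, 1, 2], [1, 3, 1, 3], [1, 4, 1, 4], [1, 5, 1, 5], [2, 2], [2, 3, 2, 3, 2, 3], [2, 4, 2, 4, 2, 4], [2, 5, 2, 5], [3, 3], [3, 4, 3, 4], [3, 5, 3, 5], [4, 4], [4, 5, 4, 5, 4, 5], [5, 5]]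

/-- relator words on the first 5 letters. -/
def R5 : List (List ℕ) := [[0, 0], [0, 1, 0, 1, 0, 1], [0, 2, 0, 2], [0, 3, 0, 3], [0, 4, 0, 4], [1, 1], [1, 2, 1, 2, 1, 2], [1, 3, 1, 3], [1, 4, 1, 4], [2, 2], [2, 3, 2, 3, 2, 3], [2, 4, 2, 4, 2, 4], [3, 3], [3, 4, 3, 4], [4, 4]]

/-- relator words on the first 4 letters. -/
def R4 : List (List ℕ) := [[0, 0], [0, 1, 0, 1, 0, 1], [0, 2, 0, 2], [0, 3, 0, 3], [1, 1], [1, 2, 1, 2, 1, 2], [1, 3, 1, 3], [2, 2], [2, 3, 2, 3, 2, 3], [3, 3]]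

/-- relator words on the first 3 letters. -/
def R3 : List (List ℕ) := [[0, 0], [0, 1, 0, 1, 0, 1], [0, 2, 0, 2], [1, 1], [1, 2, 1, 2, 1, 2], [2, 2]]

/-- relator words on the first 2 letters. -/
def R2 : List (List ℕ) := [[0, 0], [0, 1, 0, 1, 0, 1], [1, 1]]

/-- an element of prime order. -/
def xw : List ℕ := [2, 4, 7, 5, 4, 0, 1, 8, 0, 1, 0, 2, 5, 6, 4, 0, 3, 2, 4, 7, 5, 4, 0, 1, 8, 0, 1, 0, 2, 5, 6, 4, 0, 3]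

theorem wordsA : ∀ i (hi : i < (R9 ++ letterWords 8).length),
    unpack (FiXATC.E.D.wlen i) (FiXATC.E.D.wordP i) = ((R9 ++ letterWords 8)[i]).reverse :=
  wordsMatchB_spec0 _ _ _ (by decide +kernel)

theorem idxA : (para 9 (R9) 8).index = 14080 :=
  lp_index (by decide +kernel) (letterWords 8) FiXATC.E FiXATC.iota (fun _ => rfl) rfl rfl rfl
    (by decide +kernel) wordsA FiXATC.rev_ok FiXATC.hE FiXATC.hA FiXATC.set_ok FiXATC.hrows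
    (by norm_num) FiXATC.hT FiXATC.hltr FiXATC.hrelT FiXATC.hsubT FiXATC.hconn

theorem wordsB : ∀ i (hi : i < (R8 ++ letterWords 7).length),
    unpack (FiXBTC.E.D.wlen i) (FiXBTC.E.D.wordP i) = ((R8 ++ letterWords 7)[i]).reverse :=
  wordsMatchB_spec0 _ _ _ (by decide +kernel)

theorem idxB : (para 8 (R8) 7).index = 364 :=
  lp_index (by decide +kernel) (letterWords 7) FiXBTC.E FiXBTC.iota (fun _ => rfl) rfl rfl rfl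
    (by decide +kernel) wordsB FiXBTC.rev_ok FiXBTC.hE FiXBTC.hA FiXBTC.set_ok FiXBTC.hrows
    (by norm_num) FiXBTC.hT FiXBTC.hltr FiXBTC.hrelT FiXBTC.hsubT FiXBTC.hconn

theorem wordsC : ∀ i (hi : i < (R7 ++ letterWords 6).length),
    unpack (FiXCTC.E.D.wlen i) (FiXCTC.E.D.wordP i) = ((R7 ++ letterWords 6)[i]).reverse :=
  wordsMatchB_spec0 _ _ _ (by decide +kernel)

theorem idxC : (para 7 (R7) 6).index = 243 :=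
  lp_index (by decide +kernel) (letterWords 6) FiXCTC.E FiXCTC.iota (fun _ => rfl) rfl rfl rfl
    (by decide +kernel) wordsC FiXCTC.rev_ok FiXCTC.hE FiXCTC.hA FiXCTC.set_ok FiXCTC.hrows
    (by norm_num) FiXCTC.hT FiXCTC.hltr FiXCTC.hrelT FiXCTC.hsubT FiXCTC.hconn

theorem wordsD : ∀ i (hi : i < (R6 ++ letterWords 5).length),
    unpack (FiXDTC.E.D.wlen i) (FiXDTC.E.D.wordP i) = ((R6 ++ letterWords 5)[i]).reverse :=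
  wordsMatchB_spec0 _ _ _ (by decide +kernel)

theorem idxD : (para 6 (R6) 5).index = 27 :=
  lp_index (by decide +kernel) (letterWords 5) FiXDTC.E FiXDTC.iota (fun _ => rfl) rfl rfl rfl
    (by decide +kernel) wordsD FiXDTC.rev_ok FiXDTC.hE FiXDTC.hA FiXDTC.set_ok FiXDTC.hrows
    (by norm_num) FiXDTC.hT FiXDTC.hltr FiXDTC.hrelT FiXDTC.hsubT FiXDTC.hconn

theorem wordsE : ∀ i (hi : i < (R5 ++ letterWords 4).length),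
    unpack (FiXETC.E.D.wlen i) (FiXETC.E.D.wordP i) = ((R5 ++ letterWords 4)[i]).reverse :=
  wordsMatchB_spec0 _ _ _ (by decide +kernel)

theorem idxE : (para 5 (R5) 4).index = 16 :=
  lp_index (by decide +kernel) (letterWords 4) FiXETC.E FiXETC.iota (fun _ => rfl) rfl rfl rfl
    (by decide +kernel) wordsE FiXETC.rev_ok FiXETC.hE FiXETC.hA FiXETC.set_ok FiXETC.hrows
    (by norm_num) FiXETC.hT FiXETC.hltr FiXETC.hrelT FiXETC.hsubT FiXETC.hconn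

theorem wordsF : ∀ i (hi : i < (R4 ++ letterWords 3).length),
    unpack (FiXFTC.E.D.wlen i) (FiXFTC.E.D.wordP i) = ((R4 ++ letterWords 3)[i]).reverse :=
  wordsMatchB_spec0 _ _ _ (by decide +kernel)

theorem idxF : (para 4 (R4) 3).index = 5 :=
  lp_index (by decide +kernel) (letterWords 3) FiXFTC.E FiXFTC.iota (fun _ => rfl) rfl rfl rfl
    (by decide +kernel) wordsF FiXFTC.rev_ok FiXFTC.hE FiXFTC.hA FiXFTC.set_ok FiXFTC.hrows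
    (by norm_num) FiXFTC.hT FiXFTC.hltr FiXFTC.hrelT FiXFTC.hsubT FiXFTC.hconn

theorem wordsG : ∀ i (hi : i < (R3 ++ letterWords 2).length),
    unpack (FiXGTC.E.D.wlen i) (FiXGTC.E.D.wordP i) = ((R3 ++ letterWords 2)[i]).reverse :=
  wordsMatchB_spec0 _ _ _ (by decide +kernel)

theorem idxG : (para 3 (R3) 2).index = 4 :=
  lp_index (by decide +kernel) (letterWords 2) FiXGTC.E FiXGTC.iota (fun _ => rfl) rfl rfl rfl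
    (by decide +kernel) wordsG FiXGTC.rev_ok FiXGTC.hE FiXGTC.hA FiXGTC.set_ok FiXGTC.hrows
    (by norm_num) FiXGTC.hT FiXGTC.hltr FiXGTC.hrelT FiXGTC.hsubT FiXGTC.hconn

theorem wordsH : ∀ i (hi : i < (R2 ++ letterWords 1).length),
    unpack (FiXHTC.E.D.wlen i) (FiXHTC.E.D.wordP i) = ((R2 ++ letterWords 1)[i]).reverse :=
  wordsMatchB_spec0 _ _ _ (by decide +kernel)

theorem idxH : (para 2 (R2) 1).index = 3 :=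
  lp_index (by decide +kernel) (letterWords 1) FiXHTC.E FiXHTC.iota (fun _ => rfl) rfl rfl rfl
    (by decide +kernel) wordsH FiXHTC.rev_ok FiXHTC.hE FiXHTC.hA FiXHTC.set_ok FiXHTC.hrows
    (by norm_num) FiXHTC.hT FiXHTC.hltr FiXHTC.hrelT FiXHTC.hsubT FiXHTC.hconn

theorem wordsK : ∀ i (hi : i < (R9 ++ [xw] ++ letterWords 0).length),
    unpack (FiXKTC.E.D.wlen i) (FiXKTC.E.D.wordP i) = ((R9 ++ [xw] ++ letterWords 0)[i]).reverse :=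
  wordsMatchB_spec0 _ _ _ (by decide +kernel)

theorem idxK : (para 9 (R9 ++ [xw]) 0).index = 1 :=
  lp_index (by decide +kernel) (letterWords 0) FiXKTC.E FiXKTC.iota (fun _ => rfl) rfl rfl rfl
    (by decide +kernel) wordsK FiXKTC.rev_ok FiXKTC.hE FiXKTC.hA FiXKTC.set_ok FiXKTC.hrows
    (by norm_num) FiXKTC.hT FiXKTC.hltr FiXKTC.hrelT FiXKTC.hsubT FiXKTC.hconn

theorem ubH : Finite (LPG 2 R2) ∧ Nat.card (LPG 2 R2) ≤ 3 * 2 :=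
  card_le_base (by decide +kernel) (by norm_num) idxH

theorem ubG : Finite (LPG 3 R3) ∧ Nat.card (LPG 3 R3) ≤ 4 * (3 * 2) :=
  card_le_step (k' := 2) (R' := R2) (by decide +kernel) (subListB_spec (by decide +kernel))
    (by norm_num) idxG ubH.1 ubH.2

theorem ubF : Finite (LPG 4 R4) ∧ Nat.card (LPG 4 R4) ≤ 5 * (4 * (3 * 2)) :=
  card_le_step (k' := 3) (R' := R3) (by decide +kernel) (subListB_spec (by decide +kernel))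
    (by norm_num) idxF ubG.1 ubG.2

theorem ubE : Finite (LPG 5 R5) ∧ Nat.card (LPG 5 R5) ≤ 16 * (5 * (4 * (3 * 2))) :=
  card_le_step (k' := 4) (R' := R4) (by decide +kernel) (subListB_spec (by decide +kernel))
    (by norm_num) idxE ubF.1 ubF.2

theorem ubD : Finite (LPG 6 R6) ∧ Nat.card (LPG 6 R6) ≤ 27 * (16 * (5 * (4 * (3 * 2)))) :=
  card_le_step (k' := 5) (R' := R5) (by decide +kernel) (subListB_spec (by decide +kernel))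
    (by norm_num) idxD ubE.1 ubE.2

theorem ubC : Finite (LPG 7 R7) ∧ Nat.card (LPG 7 R7) ≤ 243 * (27 * (16 * (5 * (4 * (3 * 2))))) :=
  card_le_step (k' := 6) (R' := R6) (by decide +kernel) (subListB_spec (by decide +kernel))
    (by norm_num) idxC ubD.1 ubD.2

theorem ubB : Finite (LPG 8 R8) ∧ Nat.card (LPG 8 R8) ≤ 364 * (243 * (27 * (16 * (5 * (4 * (3 * 2)))))) :=
  card_le_step (k' := 7) (R' := R7) (by decide +kernel) (subListB_spec (by decide +kernel))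
    (by norm_num) idxB ubC.1 ubC.2

theorem ubA : Finite (LPG 9 R9) ∧ Nat.card (LPG 9 R9) ≤ 14080 * (364 * (243 * (27 * (16 * (5 * (4 * (3 * 2))))))) :=
  card_le_step (k' := 8) (R' := R8) (by decide +kernel) (subListB_spec (by decide +kernel))
    (by norm_num) idxA ubB.1 ubB.2

theorem killed : Nat.card (LPG 9 (R9 ++ [xw])) = 1 := card_eq_one_of_index idxK

end Cfsg.Agent.Helper5.Fi22LP
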