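import Mathlib
import Cfsg.Agent.Helper5.Fi22LPA
import Cfsg.Agent.Helper5.Fi22LPB
import Cfsg.Agent.Helper5.Fi22LPC
import Cfsg.Agent.Helper5.LPV

/-! generated: the Fi22 presentation, as a list-presented group, defines a simple group of order
64561751654400 -/

set_option autoImplicit false

namespace Cfsg.Agent.Helper5.Fi22LP

open Cfsg.Agent.Helper5.TC Cfsg.Agent.Helper5.TCI Cfsg.Agent.Helper5.LP

set_option maxRecDepth 1000000 in
theorem xw_pow : fixRange FiXATC.ctF (List.replicate 11 xw).flatten 14080 0 = true :=
  fixRange_of_F (by decide +kernel)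

theorem xw_move : actL FiXATC.ctF xw 0 ≠ 0 := by decide +kernel

theorem lettersA : LettersLt 9 R9 := by decide +kernel

/-- **The presentation defines a simple group of order 64561751654400.** -/
theorem simple_card : IsSimpleGroup (LPG 9 R9) ∧ Nat.card (LPG 9 R9) = 64561751654400 :=
  lp_simple lettersA (tableOK_of_cert FiXATC.iota (fun _ => rfl) rfl FiXATC.hT)
    (relsFix_of_cert (letterWords 8) rfl wordsA FiXATC.hrelT) 64561751654400 ubA.1
    (le_trans ubA.2 (by norm_num)) levels chain_ok chain_prod Hgens prim prim_ok 11 (by norm_num)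
    (by norm_num) (by norm_num) xw (by decide) xw_pow 0 (by norm_num) xw_move killed
    (by norm_num)

end Cfsg.Agent.Helper5.Fi22LP
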