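import Mathlib
import Cfsg.Agent.S3377

/-!
# Recognising `2 × A₅`

A group of order at most 120 with a central involution `t` and elements `x`, `y` with
`x³ = y⁵ = (xy)² = 1`, `x ≠ 1`, is isomorphic to `2 × A₅`.
-/

set_option autoImplicit false

namespace Cfsg.Agent.Helper5.J1

/-- the homomorphism from the group of order 2 given by an element of square 1. -/
noncomputable def zmod2Hom {H : Type*} [Group H] (c : H) (hc : c ^ 2 = 1) :
    Multiplicative (ZMod 2) →* H :=
  MonoidHom.mk' (fun m => c ^ (Multiplicative.toAdd m).val) (by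
    intro a b
    show c ^ (Multiplicative.toAdd a + Multiplicative.toAdd b).val = _
    rw [ZMod.val_add, ← pow_add, ← pow_eq_pow_mod _ hc])

theorem zmod2Hom_apply {H : Type*} [Group H] (c : H) (hc : c ^ 2 = 1)
    (m : Multiplicative (ZMod 2)) : zmod2Hom c hc m = c ^ (Multiplicative.toAdd m).val := rfl

theorem card_two_times_alt :
    Nat.card (Multiplicative (ZMod 2) × alternatingGroup (Fin 5)) = 120 := by
  rw [Nat.card_prod]
  have h1 : Nat.card (Multiplicative (ZMod 2)) = 2 := by
    show Nat.card (ZMod 2) = 2
    simp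
  have h2 : Nat.card (alternatingGroup (Fin 5)) = 60 := by
    rw [nat_card_alternatingGroup]
    simp [Nat.factorial]
  rw [h1, h2]

theorem iso_two_times_alt {H : Type*} [Group H] [Finite H] (hcard : Nat.card H ≤ 120)
    (t : H) (ht2 : t ^ 2 = 1) (ht : t ≠ 1) (htc : ∀ g : H, Commute t g)
    (x y : H) (hx : x ^ 3 = 1) (hy : y ^ 5 = 1) (hxy : (x * y) ^ 2 = 1) (hx1 : x ≠ 1) :
    Nonempty (H ≃* Multiplicative (ZMod 2) × alternatingGroup (Fin 5)) := by
  obtain ⟨e⟩ := Cfsg.Agent.S3377.result
  have : IsSimpleGroup (alternatingGroup (Fin 5)) := alternatingGroup.isSimpleGroup (by simp)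
  have hs : IsSimpleGroup (PresentedGroup Cfsg.Agent.S3377.rels) :=
    (MulEquiv.isSimpleGroup_congr e).mpr inferInstance
  have hrel : ∀ r ∈ Cfsg.Agent.S3377.rels, FreeGroup.lift (![x, y] : Fin 2 → H) r = 1 := by
    intro r hr
    simp only [Cfsg.Agent.S3377.rels, Set.mem_insert_iff, Set.mem_singleton_iff] at hr
    rcases hr with rfl | rfl | rfl
    · rw [map_pow, FreeGroup.lift_apply_of]; exact hx
    · rw [map_pow, FreeGroup.lift_apply_of]; exact hy
    · rw [map_pow, map_mul, FreeGroup.lift_apply_of, FreeGroup.lift_apply_of]; exact hxy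
  set ψ : PresentedGroup Cfsg.Agent.S3377.rels →* H := PresentedGroup.toGroup hrel with hψd
  have hψ : Function.Injective ψ := by
    rw [← MonoidHom.ker_eq_bot_iff]
    rcases Subgroup.Normal.eq_bot_or_eq_top (MonoidHom.normal_ker ψ) with h | h
    · exact h
    · exfalso
      have h1 : PresentedGroup.of (0 : Fin 2) ∈ ψ.ker := by rw [h]; exact Subgroup.mem_top _
      rw [MonoidHom.mem_ker, hψd, PresentedGroup.toGroup.of] at h1
      exact hx1 h1
  set gA : alternatingGroup (Fin 5) →* H := ψ.comp e.symm.toMonoidHom with hgA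
  have gA_inj : Function.Injective gA := hψ.comp (MulEquiv.injective _)
  set Phi : Multiplicative (ZMod 2) × alternatingGroup (Fin 5) →* H :=
    (zmod2Hom t ht2).noncommCoprod gA
      (fun m n => by rw [zmod2Hom_apply]; exact (htc _).pow_left _) with hPhi
  have Phi_apply : ∀ m n, Phi (m, n) = t ^ (Multiplicative.toAdd m).val * gA n := fun m n => rfl
  have gA_central : ∀ n, (∀ g : H, Commute (gA n) g) → n = 1 := by
    intro n h
    have hc : n ∈ Subgroup.center (alternatingGroup (Fin 5)) := by
      rw [Subgroup.mem_center_iff]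
      intro k
      apply gA_inj
      rw [map_mul, map_mul]
      exact ((h (gA k)).eq).symm
    rw [alternatingGroup.center_eq_bot (by simp), Subgroup.mem_bot] at hc
    exact hc
  have Phi_inj : Function.Injective Phi := by
    rw [injective_iff_map_eq_one]
    rintro ⟨m, n⟩ h
    rw [Phi_apply] at h
    have hm : (Multiplicative.toAdd m).val = 0 ∨ (Multiplicative.toAdd m).val = 1 := by
      have := ZMod.val_lt (Multiplicative.toAdd m)
      omega
    rcases hm with hm | hm
    · rw [hm, pow_zero, one_mul] at h
      have hn : n = 1 := gA_inj (by rw [h, map_one])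
      have hm' : m = 1 := by
        have : Multiplicative.toAdd m = 0 := (ZMod.val_eq_zero _).mp hm
        exact Multiplicative.toAdd.injective this
      rw [hm', hn]; rfl
    · exfalso
      rw [hm, pow_one] at h
      have hg : gA n = t := by
        have h1 : gA n = t⁻¹ := eq_inv_of_mul_eq_one_right h
        have h2 : t⁻¹ = t := by
          rw [inv_eq_iff_mul_eq_one, ← pow_two]; exact ht2
        rw [h1, h2]
      have hn : n = 1 := gA_central n (fun g => by rw [hg]; exact htc g)
      rw [hn, map_one] at hg
      exact ht hg.symm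
  have Phi_bij : Function.Bijective Phi :=
    Phi_inj.bijective_of_nat_card_le (by rw [card_two_times_alt]; exact hcard)
  exact ⟨(MulEquiv.ofBijective Phi Phi_bij).symm⟩

end Cfsg.Agent.Helper5.J1
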