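import Mathlib
import Cfsg.Prelude.Def_Spor_J1
import Cfsg.Agent.Helper5.TC3A

/-!
# Evaluating words in the two Janko matrices

Row vectors of length 7 over `ZMod 11` are packed in a natural number (4 bits per entry); a word in
the letters `0, 1, 2, 3` (for `X, X⁻¹, Y, Y⁻¹`) acts on packed vectors, and the action is the
multiplication by the corresponding product of matrices.  Equalities and inequalities of words,
as elements of `GL₇(11)`, can then be decided by evaluating on the seven unit vectors.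
-/

set_option autoImplicit false

namespace Cfsg.Agent.Helper5.J1

open Cfsg Cfsg.Spor Cfsg.Agent.Helper5.TC

/-- digit `i` of `v` in base 16. -/
def dg (v i : ℕ) : ℕ := v / 16 ^ i % 16

/-- the row vector packed in `v`. -/
def decV (v : ℕ) : Fin 7 → ZMod 11 := fun i => ((dg v i.val : ℕ) : ZMod 11)

/-- entry `(i, j)` of a packed `7 × 7` table. -/
def ent (t i j : ℕ) : ℕ := t / 16 ^ (7 * i + j) % 16

/-- the matrix packed in `t`. -/
def decM (t : ℕ) : Matrix (Fin 7) (Fin 7) (ZMod 11) :=
  fun i j => ((ent t i.val j.val : ℕ) : ZMod 11)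

/-- entry `j` of the product of the row vector `(d0, …, d6)` with the table `t`. -/
def col (t d0 d1 d2 d3 d4 d5 d6 j : ℕ) : ℕ :=
  (d0 * ent t 0 j + d1 * ent t 1 j + d2 * ent t 2 j + d3 * ent t 3 j + d4 * ent t 4 j +
    d5 * ent t 5 j + d6 * ent t 6 j) % 11

/-- the packed product of the packed row vector `v` with the table `t`. -/
def vm (t v : ℕ) : ℕ :=
  forceL (dg v 0) fun d0 => forceL (dg v 1) fun d1 => forceL (dg v 2) fun d2 =>
  forceL (dg v 3) fun d3 => forceL (dg v 4) fun d4 => forceL (dg v 5) fun d5 =>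
  forceL (dg v 6) fun d6 =>
    col t d0 d1 d2 d3 d4 d5 d6 0 + 16 * col t d0 d1 d2 d3 d4 d5 d6 1 +
    256 * col t d0 d1 d2 d3 d4 d5 d6 2 + 4096 * col t d0 d1 d2 d3 d4 d5 d6 3 +
    65536 * col t d0 d1 d2 d3 d4 d5 d6 4 + 1048576 * col t d0 d1 d2 d3 d4 d5 d6 5 +
    16777216 * col t d0 d1 d2 d3 d4 d5 d6 6

theorem dg_pack (c0 c1 c2 c3 c4 c5 c6 : ℕ) (h0 : c0 < 16) (h1 : c1 < 16) (h2 : c2 < 16)
    (h3 : c3 < 16) (h4 : c4 < 16) (h5 : c5 < 16) (h6 : c6 < 16) (j : Fin 7) :
    dg (c0 + 16 * c1 + 256 * c2 + 4096 * c3 + 65536 * c4 + 1048576 * c5 + 16777216 * c6) j.val =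
      ![c0, c1, c2, c3, c4, c5, c6] j := by
  fin_cases j <;> simp [dg] <;> omega

theorem col_lt (t d0 d1 d2 d3 d4 d5 d6 j : ℕ) : col t d0 d1 d2 d3 d4 d5 d6 j < 16 := by
  unfold col
  omega

theorem col_cast (t d0 d1 d2 d3 d4 d5 d6 j : ℕ) :
    ((col t d0 d1 d2 d3 d4 d5 d6 j : ℕ) : ZMod 11) =
      (d0 : ZMod 11) * (ent t 0 j : ZMod 11) + d1 * (ent t 1 j : ZMod 11) +
      d2 * (ent t 2 j : ZMod 11) + d3 * (ent t 3 j : ZMod 11) + d4 * (ent t 4 j : ZMod 11) +
      d5 * (ent t 5 j : ZMod 11) + d6 * (ent t 6 j : ZMod 11) := by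
  unfold col
  rw [ZMod.natCast_mod]
  push_cast
  rfl

theorem decV_vm (t v : ℕ) : decV (vm t v) = Matrix.vecMul (decV v) (decM t) := by
  funext j
  simp only [vm, forceL_eq]
  unfold decV
  rw [dg_pack _ _ _ _ _ _ _ (col_lt ..) (col_lt ..) (col_lt ..) (col_lt ..) (col_lt ..)
    (col_lt ..) (col_lt ..) j]
  simp only [Matrix.vecMul, dotProduct, Fin.sum_univ_seven, decM]
  fin_cases j <;> simp [col_cast]

/-! ### letters and words -/

/-- the packed tables of `X`, `X⁻¹`, `Y`, `Y⁻¹` and of the identity. -/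
def tX : ℕ := 0x1100000001000000010000000100000001000000010
def tXi : ℕ := 0x100000001000000010000000100000001000000011000000
def tY : ℕ := 0x13119333119331aa288a8a288a8a288a8aa33131198a8aa28
def tYi : ℕ := 0x13aa23831a283a11288181988a3a938a81a33a8a12318aa98
def tI : ℕ := 0x1000000010000000100000001000000010000000100000001

theorem decM_tX : decM tX = jankoMatrixX := by
  ext i j; fin_cases i <;> fin_cases j <;> decide

theorem decM_tXi : decM tXi = jankoMatrixX.transpose := by
  ext i j; fin_cases i <;> fin_cases j <;> decide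

theorem decM_tY : decM tY = jankoMatrixY := by
  ext i j; fin_cases i <;> fin_cases j <;> decide

theorem decM_tYi : decM tYi = jankoMatrixY.transpose := by
  ext i j; fin_cases i <;> fin_cases j <;> decide

theorem decM_tI : decM tI = 1 := by
  ext i j; fin_cases i <;> fin_cases j <;> decide

/-- the matrix of a letter. -/
def letterM : ℕ → GL (Fin 7) (ZMod 11)
  | 0 => jankoX
  | 1 => jankoX⁻¹
  | 2 => jankoY
  | 3 => jankoY⁻¹
  | _ => 1

/-- the packed table of a letter. -/
def letterT : ℕ → ℕ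
  | 0 => tX
  | 1 => tXi
  | 2 => tY
  | 3 => tYi
  | _ => tI

theorem letter_spec : ∀ c : ℕ, ((letterM c : GL (Fin 7) (ZMod 11)) : Matrix (Fin 7) (Fin 7) (ZMod 11)) =
    decM (letterT c)
  | 0 => decM_tX.symm
  | 1 => decM_tXi.symm
  | 2 => decM_tY.symm
  | 3 => decM_tYi.symm
  | (_ + 4) => decM_tI.symm

/-- the element of `GL₇(11)` spelled by a word. -/
def evalW (w : List ℕ) : GL (Fin 7) (ZMod 11) := (w.map letterM).prod

/-- the action of a word on a packed row vector. -/
def actN : List ℕ → ℕ → ℕ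
  | [], v => v
  | c :: w, v => actN w (vm (letterT c) v)

theorem evalW_nil : evalW [] = 1 := rfl

theorem evalW_cons (c : ℕ) (w : List ℕ) : evalW (c :: w) = letterM c * evalW w := by
  simp [evalW]

theorem evalW_append (w w' : List ℕ) : evalW (w ++ w') = evalW w * evalW w' := by
  simp [evalW]

theorem act_spec : ∀ (w : List ℕ) (v : ℕ),
    decV (actN w v) = Matrix.vecMul (decV v) (evalW w : Matrix (Fin 7) (Fin 7) (ZMod 11))
  | [], v => by simp [actN, evalW_nil]
  | c :: w, v => by
    rw [actN, act_spec w, decV_vm, evalW_cons, Units.val_mul, ← Matrix.vecMul_vecMul, letter_spec]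

theorem decV_unit (i : Fin 7) : decV (16 ^ i.val) = Pi.single i 1 := by
  funext j
  fin_cases i <;> fin_cases j <;> decide

/-- the two words act in the same way on the unit vectors. -/
def eqW (w w' : List ℕ) : Bool :=
  (List.range 7).all (fun i => Nat.beq (actN w (16 ^ i)) (actN w' (16 ^ i)))

theorem evalW_eq_of_eqW {w w' : List ℕ} (h : eqW w w' = true) : evalW w = evalW w' := by
  apply Units.ext
  ext i j
  have h1 := List.all_eq_true.mp h i.val (List.mem_range.mpr i.isLt)
  rw [Nat.beq_eq] at h1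
  have h2 := congrArg decV h1
  rw [act_spec, act_spec, decV_unit, Matrix.single_one_vecMul, Matrix.single_one_vecMul] at h2
  exact congrFun h2 j

/-- the two words act differently on the packed vector `v`. -/
def neW (w w' : List ℕ) (v : ℕ) : Bool :=
  (List.range 7).any (fun j => !(Nat.beq (dg (actN w v) j % 11) (dg (actN w' v) j % 11)))

theorem evalW_ne_of_neW {w w' : List ℕ} {v : ℕ} (h : neW w w' v = true) : evalW w ≠ evalW w' := by
  intro heq
  obtain ⟨j, hj, hne⟩ := List.any_eq_true.mp h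
  rw [Bool.not_eq_true', ← Bool.not_eq_true, Nat.beq_eq] at hne
  apply hne
  have hj' : j < 7 := List.mem_range.mp hj
  have h1 : decV (actN w v) = decV (actN w' v) := by rw [act_spec, act_spec, heq]
  have h2 := congrFun h1 ⟨j, hj'⟩
  unfold decV at h2
  simp only at h2
  exact (ZMod.natCast_eq_natCast_iff' _ _ 11).mp h2

end Cfsg.Agent.Helper5.J1
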