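import Mathlib
import Cfsg.Agent.Helper5.J1Mat

/-!
# Data and kernel checks for the Janko group `J₁ = ⟨X, Y⟩ ≤ GL₇(11)`

Letters: `0, 1, 2, 3` stand for `X, X⁻¹, Y, Y⁻¹`.
-/

set_option autoImplicit false

namespace Cfsg.Agent.Helper5.J1

/-- the inverse letter. -/
def invL : ℕ → ℕ
  | 0 => 1
  | 1 => 0
  | 2 => 3
  | 3 => 2
  | (n + 4) => n + 4

/-- the inverse word. -/
def invW (w : List ℕ) : List ℕ := (w.map invL).reverse

/-- the product of the conjugates `u g^{±1} u⁻¹`. -/
def cpW (g : List ℕ) : List (List ℕ × Bool) → List ℕ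
  | [] => []
  | (u, e) :: l => u ++ (bif e then g else invW g) ++ invW u ++ cpW g l

/-- the defining relators (as words in the letters). -/
def relW : List (List ℕ) := [
  [3, 3, 3, 3, 3],
  [1, 1, 1, 1, 1, 1, 1],
  [1, 1, 3, 0, 2, 1, 3, 3, 0, 0, 2, 1, 3, 0, 2, 2],
  [1, 3, 3, 0, 3, 3, 1, 3, 0, 3, 0, 3, 0, 3, 0, 3],
  [1, 1, 1, 1, 1, 3, 1, 1, 1, 3, 3, 3, 3, 0, 3, 1, 2]]

theorem relW_ok : relW.all (fun r => eqW r []) = true := by decide +kernel

/-- elements of orders 3, 5, 7, 11, 19. -/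
def gW : ℕ → List ℕ
  | 3 => [1, 2, 2, 1, 2, 2]
  | 5 => [3]
  | 7 => [1]
  | 11 => [1, 3, 3]
  | _ => [1, 2]

/-- a unit vector moved by `gW p`. -/
def gV : ℕ → ℕ
  | 3 => 1
  | 5 => 1
  | 7 => 1
  | 11 => 1
  | _ => 1


set_option maxRecDepth 100000 in
theorem gW_ok : [3, 5, 7, 11, 19].all (fun p =>
    eqW (List.replicate p (gW p)).flatten [] && neW (gW p) [] (gV p)) = true := by decide +kernel

/-- the conjugators expressing `X` as a product of conjugates of `gW p` and its inverse. -/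
def nclX : ℕ → List (List ℕ × Bool)

  | 3 => [([], true), ([2, 1], false), ([0], false)]
  | 5 => [([], true), ([0], false), ([1, 1], true), ([], false)]
  | 7 => [([], false)]
  | 11 => [([], true), ([0], false), ([3, 1], true)]
  | _ => [([0], false), ([3, 1], false), ([2, 1], false)]

/-- the conjugators expressing `Y` as a product of conjugates of `gW p` and its inverse. -/
def nclY : ℕ → List (List ℕ × Bool)

  | 3 => [([3, 1], true), ([1], true), ([2, 1], true), ([1, 3], true)]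
  | 5 => [([], false)]
  | 7 => [([3], true), ([0, 2], true), ([1, 3], true), ([3, 3], true), ([0, 3], true)]
  | 11 => [([1], true), ([2, 1], true), ([1], true), ([2, 1], true)]
  | _ => [([3, 1], false), ([2, 1], false)]


set_option maxRecDepth 100000 in
theorem ncl_ok : [3, 5, 7, 11, 19].all (fun p =>
    eqW [0] (cpW (gW p) (nclX p)) && eqW [2] (cpW (gW p) (nclY p))) = true := by decide +kernel

/-- the eight elements of an elementary abelian subgroup of order 8. -/
def fW : ℕ → List ℕ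

  | 0 => []
  | 1 => [1, 3, 1, 2]
  | 2 => [0, 1, 3, 1, 2, 1]
  | 3 => [0, 0, 1, 3, 1, 2, 1, 1]
  | 4 => [0, 0, 0, 1, 3, 1, 2, 1, 1, 1]
  | 5 => [0, 0, 0, 0, 1, 3, 1, 2, 1, 1, 1, 1]
  | 6 => [0, 0, 0, 0, 0, 1, 3, 1, 2, 1, 1, 1, 1, 1]
  | _ => [0, 0, 0, 0, 0, 0, 1, 3, 1, 2, 1, 1, 1, 1, 1, 1]

/-- its multiplication table. -/
def fTab : ℕ := 0x10e4ef81fa562c2d3ddd035c5711e3665e32abb981fac688

/-- the index of the product. -/
def fMul (i j : ℕ) : ℕ := fTab / 8 ^ (8 * i + j) % 8


set_option maxRecDepth 100000 in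
theorem fTab_ok : (List.range 8).all (fun i => (List.range 8).all (fun j =>
    eqW (fW i ++ fW j) (fW (fMul i j)))) = true := by decide +kernel

set_option maxRecDepth 100000 in
theorem fW_ne : (List.range 8).all (fun i => (List.range 8).all (fun j =>
    Nat.beq i j || neW (fW i) (fW j) 1)) = true := by decide +kernel

/-- a unit vector on which `fW i * X` and `X * fW i` differ. -/
def ncV : ℕ → ℕ
  | 1 => 1
  | 2 => 1
  | 3 => 1
  | 4 => 1
  | 5 => 1
  | 6 => 1
  | _ => 1


set_option maxRecDepth 100000 in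
theorem fW_nc : (List.range 8).all (fun i =>
    Nat.beq i 0 || neW (fW i ++ [0]) ([0] ++ fW i) (ncV i)) = true := by decide +kernel

end Cfsg.Agent.Helper5.J1
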