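import Mathlib
import Cfsg.Agent.Helper5.J1Mat
import Cfsg.Agent.Helper5.J1Data

/-!
# Data for the centraliser of an involution of the Janko group `J₁`

The 1463 conjugates of the involution `tW`, listed by conjugating words and ordered by the image
of a fixed vector; and generators of a subgroup `A₅` of the centraliser.
-/

set_option autoImplicit false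

namespace Cfsg.Agent.Helper5.J1

/-- the involution. -/
def tW : List ℕ := [1, 3, 1, 2]

/-- an element of order 3 and an element of order 5 of the centraliser, with product of order 2. -/
def x3W : List ℕ := [1, 1, 2, 0, 2, 0, 2, 0, 2, 1, 1, 2]
def y5W : List ℕ := [3, 3, 0, 0, 3, 0, 3, 0, 0, 3]

set_option maxRecDepth 100000 in
theorem a5_ok : (eqW (x3W ++ tW) (tW ++ x3W) && eqW (y5W ++ tW) (tW ++ y5W) &&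
    eqW (x3W ++ x3W ++ x3W) [] && eqW (y5W ++ y5W ++ y5W ++ y5W ++ y5W) [] &&
    eqW (x3W ++ y5W ++ (x3W ++ y5W)) [] && neW x3W [] 1 &&
    eqW (tW ++ tW) [] && neW tW [] 1) = true := by decide +kernel

/-- the test vector. -/
def v0 : ℕ := 74486170

/-- the canonical form of a packed vector. -/
def canon (m : ℕ) : ℕ :=
  dg m 0 % 11 + 16 * (dg m 1 % 11) + 256 * (dg m 2 % 11) + 4096 * (dg m 3 % 11) +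
    65536 * (dg m 4 % 11) + 1048576 * (dg m 5 % 11) + 16777216 * (dg m 6 % 11)

/-- the image of the test vector under a word. -/
def invar (w : List ℕ) : ℕ := canon (actN w v0)

/-- the conjugate of the involution by a word. -/
def conjW (u : List ℕ) : List ℕ := u ++ tW ++ invW u

/-- strictly increasing, all entries above `a`. -/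
def incrFrom : ℕ → List ℕ → Bool
  | _, [] => true
  | a, b :: l => Nat.blt a b && incrFrom b l

set_option maxRecDepth 1000000 in
/-- conjugating words for the 1463 conjugates of the involution. -/
def conjL : List (List ℕ) := [
  [3, 3, 1, 3, 1, 3, 1, 1],
  [1, 2, 1, 2, 2, 0, 0],
  [3, 1, 2, 1, 2, 0, 3, 1],
  [3, 3, 0, 0, 3, 0, 0],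
  [0, 0, 3, 3, 0, 0, 0],
  [2, 1, 2, 0, 3, 0],
  [2, 1, 3, 0, 2, 2, 0, 3],
  [0, 3, 1, 3, 1, 1],
  [3, 1, 1, 3, 0, 3],
  [0, 2, 1, 2, 2, 0, 2, 2],
  [0, 0, 3, 3, 1],
  [1, 3, 3, 0, 3, 3, 0, 0],
  [0, 0, 2, 2],
  [3, 0, 3, 0, 0, 3, 3],
  [3, 0, 2, 2, 1, 3],
  [1, 2, 1, 2, 0, 2, 2, 1],
  [2, 0, 3, 1, 3, 3, 0, 3, 0],
  [3, 3, 1, 3, 3],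
  [2, 0, 3, 3, 1, 2, 2, 1],
  [2, 2, 0, 3],
  [3, 0, 2, 1, 2, 2, 0],
  [2, 1, 2, 2, 0, 3, 3],
  [2, 0, 2, 2, 0, 2, 2, 0],
  [2, 1, 2, 2, 0, 2, 2],
  [1, 3, 0, 3, 1, 3, 0, 0, 0],
  [0, 2, 1, 3, 3, 1],
  [3, 0, 2, 2, 0, 3, 0],
  [1, 3, 0, 3, 3, 0, 3, 1],
  [2, 2, 0, 3, 3, 1, 3, 0],
  [2, 0, 3, 1, 1, 3, 1],
  [3, 3, 1, 3, 0, 3, 0, 0, 0],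
  [2, 2, 1, 1, 3, 3, 1, 3],
  [1, 2, 1, 1, 2, 2, 1, 3],
  [1, 3, 0, 0, 3, 1],
  [2, 0, 0, 2, 2, 0, 3, 0],
  [2, 2, 0, 3, 3, 1, 3],
  [1, 2, 0, 3, 3, 0, 0],
  [0, 2, 2, 1, 3, 1, 3],
  [2, 1, 3, 1, 3, 0, 3, 0],
  [3, 1, 3, 3, 0, 0, 0],
  [0, 2, 2, 0, 3, 3, 0, 3, 0],
  [3, 3, 1],
  [2, 1, 3, 1, 1, 3, 0, 0],
  [0, 3, 1, 2, 0, 2, 2, 1, 3],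
  [1, 2, 2, 1, 1],
  [0, 2, 1, 3, 1, 3],
  [2, 0, 3, 1, 3, 0, 0, 0],
  [2, 0, 2, 1, 3, 3, 0, 3],
  [3, 1, 2, 0, 2, 2, 0, 2, 2],
  [2, 2, 0, 3, 1, 3, 3, 1, 3],
  [3, 1, 2, 2, 0, 3],
  [2, 0, 3, 1, 1],
  [3, 3, 1, 2, 2, 0, 3, 0, 3],
  [0, 3, 0, 0, 3, 1, 3],
  [0, 3, 1, 1, 3, 0, 0],
  [0, 3, 3],
  [3, 1, 3, 3, 1],
  [3, 0, 3, 1, 3, 0, 0, 0],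
  [1, 1, 3, 1],
  [0, 3, 0, 3, 0, 3, 0],
  [0, 0, 0, 3, 3, 0],
  [1, 3, 0, 3, 1],
  [1, 1, 3, 3, 0, 3, 3],
  [3, 3, 0, 3, 1, 1],
  [2, 2, 1, 1, 3, 3],
  [1, 2, 0, 2, 2, 0, 2, 2],
  [2, 1, 1, 2, 2],
  [1, 3],
  [1, 3, 3, 1, 1, 1],
  [3, 3, 1, 3, 1, 3, 1, 3, 0],
  [1, 3, 3, 0, 3, 3],
  [1, 1, 3, 3, 0, 0, 0],
  [3, 1, 1, 3, 1, 3, 3, 1, 3],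
  [2, 2, 1, 3, 0, 3],
  [3, 3, 1, 1, 3, 3, 0],
  [0, 3, 3, 1, 1, 3, 0, 3],
  [0, 3, 0, 3],
  [2, 0, 3, 3, 1, 1, 1],
  [1, 3, 0, 3, 3],
  [3, 0, 0, 3, 0, 3, 0, 3],
  [2, 1, 1, 3],
  [3, 0, 3, 0, 3, 3, 0, 3, 0],
  [3, 0, 2, 1, 3, 3],
  [2, 1, 3, 0, 3, 0],
  [1, 3, 3, 1, 3, 0],
  [3, 1, 2, 0, 2, 2, 0, 0],
  [2, 1, 3, 3, 0, 0],
  [2, 1, 3, 3, 0, 2, 2],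
  [3, 3, 1, 3, 3, 1, 3, 0, 0],
  [2, 0, 2, 2, 0, 0, 3, 3, 0],
  [1, 3, 0, 3, 1, 1, 3],
  [1, 3, 1, 3, 0, 3, 0],
  [2, 0, 2, 1, 3, 1],
  [2, 1, 3, 3, 1],
  [1, 3, 1, 3, 1, 1, 1],
  [0, 0, 3, 0, 0, 3, 0, 0],
  [0, 3],
  [3, 3, 1, 3, 3, 1, 1, 3, 1],
  [1, 1, 1, 3, 3],
  [],
  [2, 1, 3, 0, 3, 3, 0, 0],
  [0, 2, 1, 2, 0, 3, 1],
  [2, 2, 1, 2, 2, 1, 3],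
  [1, 1, 3, 0, 3, 0],
  [1, 2, 2],
  [0, 0, 2, 0, 2, 2],
  [2, 1, 2, 0, 0, 3, 0],
  [3, 3, 1, 3, 0, 2, 2],
  [0, 0, 2, 2, 0, 3, 3],
  [3, 1, 3, 0, 3, 0],
  [0, 3, 3, 0, 3, 0, 0],
  [0, 0, 3, 3, 1, 2, 2, 1],
  [0, 0, 3, 0, 0, 3, 0, 3, 0],
  [0, 0, 3, 1, 3, 0, 3, 0],
  [1, 3, 3, 0, 3, 0, 3],
  [2, 0, 2, 2, 1, 3, 0],
  [2, 1, 2, 2, 1],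
  [1, 2, 1, 1, 3],
  [2, 0, 3, 1, 3, 0, 0],
  [2, 1, 2, 1, 2, 0, 3, 0],
  [0, 3, 1, 3, 3, 1, 3, 0],
  [2, 2, 0, 3, 3, 1, 1],
  [3, 3, 0, 2, 2],
  [0, 0, 2, 1, 2, 2, 0, 0],
  [0, 2, 1, 2, 2, 0, 3, 1],
  [2, 0, 3, 3, 1, 3, 3],
  [0, 3, 1, 1, 1],
  [2, 0, 2, 1, 3, 3, 0, 0, 0],
  [0, 2, 2, 0, 0, 3, 3, 0],
  [3, 1, 1, 3, 1, 3, 3],
  [2, 2, 0, 0, 3, 3, 0],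
  [2, 0, 3, 1, 3, 1],
  [0, 2, 2, 1, 1, 3, 3, 0],
  [0, 3, 3, 1, 2, 2, 1],
  [3, 3, 0, 3, 3, 1, 2, 2, 1],
  [2, 1, 3, 3, 0, 3, 1, 1, 3, 1],
  [2, 0, 2, 2, 1, 3],
  [2, 1, 2, 0, 0, 2, 2],
  [2, 2, 1, 3, 0],
  [0, 2, 2, 1, 3, 0],
  [3, 3, 0, 3, 0, 0, 3, 0],
  [2, 0, 3, 0, 3, 1],
  [3, 0, 3, 3, 1, 1, 3, 1],
  [2, 1, 1, 2, 2, 0, 3, 0],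
  [0, 3, 0, 3, 1, 1, 3, 1],
  [1, 2, 0, 2, 0, 2, 2, 0],
  [2, 1, 2, 2],
  [3, 1, 2, 0, 3, 3, 0],
  [0, 3, 3, 0, 2, 2, 0, 3],
  [0, 3, 1, 3],
  [3, 3, 0, 3, 3, 0, 0],
  [2, 1, 3, 3, 0, 3, 0, 0],
  [0, 2, 0, 2, 2, 1, 3],
  [1, 3, 1, 1, 3, 0, 0],
  [0, 2, 1, 2, 2, 1, 3, 1],
  [0, 3, 0, 3, 1, 3, 0],
  [3, 1, 1, 1, 3, 0, 3, 0, 0],
  [3, 1, 3, 1, 3, 0, 3],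
  [3, 1, 3, 0, 3],
  [2, 1, 1, 1, 2, 2, 1, 3],
  [3, 0, 2, 2, 1, 3, 1],
  [3, 1, 2, 1, 2, 0, 3, 3],
  [2, 0, 3, 3, 0, 3],
  [0, 2, 0, 0, 2, 1, 3, 3],
  [2, 1, 1, 3, 0],
  [1, 2, 2, 0, 2, 1, 3],
  [1, 3, 3, 1, 3, 0, 3],
  [2, 0, 2, 1, 1, 2, 2, 1],
  [1, 1, 3, 0, 3, 0, 3],
  [2, 1, 3, 3, 0, 2, 2, 0, 3],
  [3, 0, 3, 3, 1, 3],
  [2, 0, 3, 1, 1, 3],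
  [2, 0, 0, 2, 1, 3, 3, 1],
  [0, 3, 1, 3, 1, 3],
  [2, 0, 3, 1, 3, 0],
  [0, 3, 0, 3, 0, 3, 3, 0, 0],
  [0, 2, 2, 1, 3],
  [1, 3, 3, 0, 0, 3, 0, 3, 0],
  [1, 3, 3, 1, 2, 2, 0],
  [1, 3, 0, 0, 3, 0],
  [3, 1, 1, 3, 3, 1, 3],
  [1, 3, 0, 0, 3, 3, 1, 3],
  [0, 0, 3, 0, 3, 0, 3],
  [1, 3, 0, 0, 0, 3, 0],
  [1, 2, 2, 1, 1, 3, 0, 3],
  [2, 2, 1, 1],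
  [2, 2, 1, 1, 1],
  [2, 1, 3, 3, 0, 0, 0],
  [3, 3, 1, 3, 1, 3, 0, 0, 0],
  [2, 1, 1, 2, 2, 0],
  [1, 2, 1, 1, 2, 2, 0],
  [2, 1, 2, 0, 2, 2, 0, 0],
  [3, 1, 3, 3, 0, 2, 2, 1],
  [1, 1, 2, 2, 0, 2, 1, 3],
  [2, 1, 2, 2, 1, 3],
  [3, 3, 0, 3, 1, 3, 0, 0, 0],
  [1, 1, 3, 3, 0],
  [2, 0, 2, 1, 1, 2, 2],
  [3, 3, 1, 3, 1, 3],
  [3, 1, 1, 3, 0, 0],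
  [3, 3, 1, 3, 3, 0, 3],
  [3, 1, 3, 1, 1, 3],
  [0, 3, 1, 3, 1, 1, 3],
  [2, 2, 1, 2, 2, 0],
  [1, 1, 1, 3],
  [0, 2, 1, 2, 2, 0, 3, 0, 0],
  [3, 0, 3, 1, 3, 1, 3],
  [2, 0, 2, 2, 1, 3, 1],
  [2, 2, 1, 2, 2, 0, 3, 0, 0],
  [3, 1, 3, 1, 3, 1, 1],
  [1, 1, 3, 1, 3, 3],
  [3, 1, 3, 3, 0, 0],
  [3, 1, 2, 2, 1, 3, 1],
  [0, 2, 1, 1, 2, 2],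
  [2, 2, 0, 3, 0, 3],
  [2, 0, 2, 0, 2, 2],
  [2, 0, 2, 1, 2, 0, 3, 0],
  [3, 1, 3, 1, 3, 3, 1, 1],
  [1, 3, 3, 1, 3, 1, 1],
  [1, 3, 1, 3, 0, 0, 3, 1],
  [0, 2, 2, 0, 0, 3, 0, 0],
  [3, 3, 0, 0, 0],
  [3, 3, 0, 0, 3],
  [0, 3, 3, 1, 3],
  [2, 2, 1, 3, 3, 0, 0, 3, 1],
  [3, 1, 3, 0, 3, 3, 0, 0],
  [0, 0, 3, 0, 3],
  [2, 0, 3, 3, 0, 3, 3],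
  [1, 3, 0, 2, 2, 0, 3, 0],
  [2, 1, 3, 3, 0],
  [2, 0, 3, 1, 3, 1, 3, 3],
  [2, 0, 2, 0, 2, 0, 2, 2, 0],
  [0, 0, 3, 3, 0, 2, 2],
  [2, 2, 0, 3, 1, 1],
  [0, 3, 3, 1, 3, 3, 1, 1],
  [0, 0, 3, 1, 3],
  [3, 0, 0, 0, 3, 1],
  [2, 2, 0, 3, 0, 3, 0, 3],
  [3, 3, 1, 3, 3, 1, 1],
  [0, 2, 1, 2, 0, 3, 0],
  [3, 1, 3, 3, 0, 3, 3],
  [3, 0, 3, 3],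
  [2, 0, 2, 2, 0, 0],
  [3, 1, 3, 1, 3],
  [0, 2, 1, 2, 0, 3],
  [2, 1, 2, 0, 2, 2, 1],
  [2, 1, 3, 3, 1, 1, 3, 1],
  [3, 0, 3, 1, 1, 1],
  [3, 1, 2, 2, 1, 3, 3, 1],
  [3, 3, 0, 3, 3, 0, 3, 0],
  [3, 0, 2, 2, 0, 3, 3],
  [3, 3, 1, 2, 2, 1, 3],
  [1, 2, 0, 0, 2, 1, 2, 2],
  [0, 2, 0, 2, 1, 2, 0, 3, 0],
  [3, 0, 2, 2, 0, 3, 1, 1],
  [2, 1, 3, 3, 0, 3, 3, 0, 0],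
  [1, 3, 0, 3, 3, 1, 1],
  [3, 1, 3, 1, 3, 1],
  [1, 1, 3, 0, 0, 3, 0, 3],
  [2, 1, 1, 2, 2, 0, 0],
  [3, 1, 3, 1, 1, 3, 0],
  [3, 3, 1, 3, 3, 0],
  [0, 2, 0, 2, 2, 0, 3],
  [2, 0, 0, 3, 0, 3, 0],
  [1, 2, 2, 0, 3, 0, 3],
  [0, 0, 0, 3, 3, 1],
  [3, 0, 0, 3, 3, 1, 1, 1],
  [1, 3, 3, 0, 2, 2, 1],
  [2, 0, 0, 3, 3, 0, 3, 0],
  [0, 0, 2, 0, 2, 2, 1, 3],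
  [3, 0, 2, 2, 1],
  [3, 0, 3, 3, 1, 1],
  [0, 3, 3, 1, 2, 0, 3],
  [3, 3, 1, 1],
  [2, 1, 3, 3, 1, 3, 1, 1],
  [0, 3, 3, 0, 2, 2, 0],
  [3, 1, 2, 0, 2, 2],
  [2, 1, 2, 1, 2, 2],
  [1, 1, 3, 0, 3, 0, 3, 0],
  [1, 3, 1, 3, 1, 3, 0, 0, 0],
  [3, 3, 1, 2, 0, 2, 2, 0, 0],
  [0, 3, 3, 1, 1, 3, 3],
  [1, 3, 3, 1, 1, 3, 3, 0],
  [0, 3, 3, 1, 3, 1],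
  [1, 3, 0, 3, 3, 0, 2, 2],
  [3, 1, 3, 3, 1, 1, 1],
  [2, 0, 2, 1, 2, 2, 0, 3],
  [3, 1, 2, 2, 1, 2, 2, 0],
  [3, 3, 1, 3, 1, 1, 3],
  [3, 0, 3, 3, 1, 2, 2, 1],
  [3, 1, 1, 3, 3, 1, 1, 1],
  [1, 3, 0, 0, 3, 0, 3],
  [1, 2, 0, 0, 3, 0],
  [2, 2, 1, 1, 3, 3, 0, 3],
  [0, 2, 2, 0, 2, 2, 0],
  [3, 1, 3, 0, 2, 2, 1],
  [2, 0, 2, 2, 0, 2, 1, 3],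
  [2, 2, 0, 0, 3, 1],
  [3, 0, 2, 2],
  [3, 1, 3, 1],
  [3, 0, 0, 3, 3, 0, 0],
  [0, 3, 3, 1, 1, 1, 3],
  [3, 3, 1, 1, 3, 0, 3, 0, 0],
  [3, 0, 0, 3, 0, 0, 3, 1, 1],
  [0, 3, 0],
  [0, 2, 1, 2, 1, 1, 3, 0],
  [0, 2, 0, 2, 2],
  [2, 1, 3, 3, 1, 3],
  [1, 2, 1, 1, 3, 3, 0, 3, 0],
  [2, 0, 0, 2, 2],
  [0, 3, 1, 2, 2, 0, 2, 2],
  [2, 2, 0, 2, 2, 1, 2, 2],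
  [0, 0, 0, 3, 3, 0, 0],
  [3, 1, 2, 2, 0, 3, 0, 3],
  [0, 2, 1, 3, 3, 0, 0, 3, 1],
  [1, 1, 1, 3, 3, 0, 3, 0, 0],
  [0, 3, 0, 3, 3, 0, 2, 1, 3],
  [3, 0, 3, 1, 3, 1, 1, 1],
  [0, 0, 3, 1, 3, 0, 3],
  [1, 2, 0, 2, 1, 2, 2, 0, 3],
  [0, 0, 2, 2, 1, 2, 2, 0],
  [2, 1, 3, 0, 3],
  [3, 0, 0],
  [0, 0, 0, 3, 3, 1, 1],
  [3, 3, 1, 3, 0, 0, 0],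
  [1, 1, 1],
  [3, 3, 0, 0, 3, 3],
  [1, 1, 3, 0, 0, 3],
  [1, 1, 2, 1, 2, 1, 2, 2],
  [2, 0, 3, 1, 3, 3, 0, 0, 0],
  [2, 0, 3, 0, 3, 0, 0],
  [3, 0, 0, 0, 3, 0],
  [1, 1, 3, 1, 3, 0, 0, 0],
  [0, 0, 0, 3, 0, 0, 0],
  [0, 0, 0, 3, 0, 0],
  [0, 3, 3, 1, 1, 3, 3, 0],
  [1, 2, 1, 2, 0, 0, 2, 2],
  [3, 0, 0, 0, 3, 3, 0, 3, 0],
  [3, 0, 3, 0, 3],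
  [3, 0, 3, 3, 0, 0, 3, 0],
  [0, 0, 3, 3, 0, 2, 1, 3],
  [1, 2, 1, 2, 2, 0, 3, 1],
  [3, 1, 1, 1, 3, 3, 1, 3],
  [0, 2, 1, 3, 0, 3, 0],
  [1, 3, 0, 3, 3, 0, 2, 1, 3],
  [1, 3, 3, 0, 0],
  [0, 0, 3, 0, 3, 3, 0, 3, 1],
  [2, 0, 2, 2, 1, 3, 3],
  [2, 0, 3, 0, 0],
  [2, 0, 3, 1, 1, 3, 0, 3],
  [2, 2, 1, 2, 2, 1, 3, 1],
  [3, 3, 0, 3, 3],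
  [0, 0, 3, 3, 1, 2, 2, 0, 3],
  [3, 0, 0, 3, 0, 0, 0],
  [3, 1, 1, 2, 2, 0, 3, 3],
  [1, 1, 3, 3, 1, 3],
  [1, 1, 2, 2, 0, 3, 1],
  [1, 2, 0, 3, 1, 3],
  [1, 3, 0, 3, 3, 0, 3, 0],
  [0, 0, 2, 2, 0, 3, 0],
  [0, 2, 2, 1, 2, 2, 0, 3, 1],
  [1, 1, 3, 3, 0, 3, 0, 3],
  [2, 1, 3, 3, 0, 2, 2, 1],
  [2, 1, 2, 2, 1, 3, 1],
  [1, 1, 1, 3, 0, 3, 0],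
  [3, 1, 3, 0],
  [2, 2, 0, 2, 1, 3, 0],
  [1, 3, 1, 3, 1, 3, 1, 3],
  [1, 1, 2, 1, 2, 2],
  [2, 2, 0, 3, 1, 1, 3, 1],
  [0, 2, 2, 1, 1, 2, 0, 2, 1, 3],
  [3, 0, 3, 3, 0, 2, 2],
  [1, 3, 3, 0, 3, 1, 1],
  [1, 1, 3, 1, 3, 0, 3],
  [1, 1, 2, 2, 0, 3, 3],
  [2, 1, 2, 0, 2, 1, 3],
  [3, 1, 2, 2, 1, 3],
  [1, 2, 0, 2, 0, 2, 2],
  [1, 3, 3],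
  [2, 0, 2, 0, 2, 2, 1, 3],
  [1, 1, 3, 1, 3, 1],
  [3, 1, 3, 3, 1, 3],
  [3, 0, 3, 0, 0, 3, 0, 3, 0],
  [1, 2, 0, 0, 3, 3, 0, 0],
  [3, 3, 0, 2, 1, 3],
  [3, 1, 1],
  [1, 3, 1, 1, 3, 1, 3, 3],
  [2, 2, 0, 2, 1, 3, 3, 0, 0],
  [3, 3, 1, 1, 3, 1, 3, 1],
  [0, 2, 2, 0, 3, 3, 1, 1],
  [1, 1, 1, 3, 3, 1, 1],
  [0, 3, 3, 1, 3, 1, 3],
  [1, 3, 0, 3, 1, 3, 1],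
  [3, 0, 3, 0, 0, 3, 0],
  [3, 1, 2, 1, 2, 1, 2, 2],
  [1, 1, 3, 3, 0, 0, 3, 3],
  [0, 2, 1, 2, 2, 0, 0],
  [1, 3, 3, 1, 1],
  [1, 3, 3, 0, 0, 0],
  [0, 3, 3, 0, 0],
  [1, 3, 1, 1, 3, 1],
  [2, 0, 2, 2, 1],
  [3, 0, 3, 3, 0, 3, 1],
  [1, 2, 2, 0, 0, 2, 2],
  [0, 3, 3, 1, 3, 0],
  [0, 0, 3, 1, 1, 3, 0, 0],
  [2, 1, 3, 3, 1, 1],
  [0, 0, 3, 1, 3, 1],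
  [0, 2, 2, 0, 0],
  [2, 2, 1, 2, 0, 3],
  [3, 0, 0, 3, 3, 1, 1],
  [0, 0, 2, 2, 0, 3],
  [0, 2, 2, 0, 2, 1, 3],
  [3, 0, 3, 3, 1],
  [3, 0, 3, 0, 0],
  [3, 0, 2, 2, 0, 3, 1],
  [1, 2, 1, 2, 0, 3, 0],
  [1, 3, 1, 1, 1],
  [2, 2, 1, 3, 0, 3, 1],
  [1, 3, 3, 0, 3, 0, 0, 3, 0],
  [2, 0, 2, 1, 2, 2, 0],
  [3, 3, 1, 3, 3, 0, 2, 2],
  [1, 2, 2, 1, 3, 1, 1],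
  [2, 0, 2, 2, 0, 3, 0, 3, 1],
  [3, 1, 1, 1, 3],
  [3, 0, 3, 3, 1, 2, 2],
  [2, 1, 3, 0, 3, 0, 3, 0],
  [1, 3, 0, 3, 0, 3, 0],
  [0, 0, 3, 3, 1, 1],
  [1, 1],
  [1, 1, 1, 2, 0, 2, 1, 3],
  [2, 1, 2, 2, 1, 2, 2],
  [3, 0, 0, 0, 3],
  [0, 3, 3, 0, 3, 0, 3],
  [3, 0],
  [1, 3, 3, 0, 0, 3, 3, 0],
  [1, 2, 0, 3],
  [0, 3, 0, 3, 3, 0, 0],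
  [3, 1, 1, 1],
  [0, 3, 1, 3, 3, 0, 2, 2],
  [3, 1, 3, 0, 3, 3, 0, 3],
  [2, 2, 0, 0, 2, 2],
  [3, 1, 3, 0, 0, 3, 1],
  [2, 2, 1, 3, 0, 3, 3],
  [0, 2, 2, 1, 3, 3, 1],
  [1, 2, 2, 1, 2, 2, 1],
  [2, 0, 2, 1, 2, 0, 3, 1],
  [3, 0, 2, 2, 1, 2, 2],
  [0, 3, 1, 2, 2, 0, 3],
  [3, 0, 3, 3, 0, 2, 1, 3],
  [1, 1, 2, 0, 2, 2],
  [0, 2, 2, 1, 3, 3, 0],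
  [0, 0, 2, 1, 3],
  [2, 0, 2, 1, 3, 0, 3, 0],
  [2, 2, 1, 2, 1, 1, 3],
  [0, 0, 0, 3, 3, 0, 3, 0],
  [3, 0, 3, 1, 3, 0],
  [0, 2, 2, 0, 3, 3, 1, 2, 2],
  [2, 2, 1, 3, 1, 1, 3],
  [0, 2, 2, 1, 2, 2],
  [2, 1, 1, 2, 2, 1, 3, 0],
  [2, 1, 3, 0, 3, 3, 0, 3],
  [2, 2, 1, 3, 3],
  [1, 2, 1, 1, 3, 0],
  [1, 2, 2, 0, 2, 1, 3, 0, 3],
  [1, 3, 0, 0, 3, 1, 1, 3],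
  [1, 1, 1, 3, 3, 1, 3],
  [0, 2, 1, 3, 1, 3, 1],
  [2, 2, 1, 3, 1],
  [0, 3, 0, 3, 3, 1, 3],
  [0, 2, 1, 2, 0, 0, 2, 2],
  [0, 2, 2, 0, 3, 1],
  [1, 1, 3, 3, 0, 3, 0, 0],
  [1, 3, 3, 0, 3, 0, 0],
  [2, 0, 3, 0],
  [1, 2, 0, 0, 2, 2],
  [0, 0, 3, 3, 0, 3],
  [1, 3, 3, 1, 3, 0, 0],
  [2, 2, 1, 3, 1, 3, 1],
  [3, 0, 3, 3, 0, 3, 0, 3],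
  [0, 3, 0, 0, 3, 1],
  [1, 3, 0, 3, 1, 1],
  [1, 3, 3, 0, 3, 1, 1, 3, 1],
  [1, 2, 0, 3, 3, 0, 3, 0],
  [3, 0, 3, 3, 1, 1, 1],
  [0, 2, 1, 1, 2, 1, 2, 2, 0],
  [0, 3, 0, 3, 1, 1, 1],
  [2, 0, 3, 3, 0, 3, 0, 0],
  [0, 2, 0, 2, 1, 3, 1],
  [3, 0, 3, 0, 0, 3, 3, 1, 1],
  [1, 1, 1, 2, 2, 0, 2, 2],
  [2, 1, 3, 0, 3, 0, 3],
  [2, 1, 3, 3, 1, 3, 0],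
  [0, 3, 3, 1, 1],
  [3, 0, 3, 1],
  [0, 0, 2, 1, 2, 2],
  [1, 2, 0, 2, 1, 2, 2, 0],
  [3, 3, 1, 3, 0, 3, 0],
  [2, 0, 3, 1, 3, 3, 1, 3],
  [2, 1, 2, 2, 1, 2, 2, 0],
  [1, 2, 0, 3, 3],
  [0, 2, 2, 1, 2, 1, 2, 2],
  [1, 2, 0, 2, 0, 2, 0, 2, 2],
  [2, 0, 2, 1, 3, 1, 3],
  [0, 2, 0, 0, 2, 2, 0, 3, 1],
  [1, 2, 2, 1, 3, 3, 1],
  [1, 1, 2, 1, 2, 2, 0, 0],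
  [2, 0, 3, 3, 0],
  [1, 1, 1, 3, 0, 3],
  [3, 3, 1, 3],
  [3, 3, 0, 2, 2, 0, 3],
  [1, 3, 3, 1, 1, 3, 1],
  [1, 3, 1, 3, 1, 3, 3],
  [0, 2, 2, 0, 0, 2, 2],
  [3, 1, 3, 0, 3, 3],
  [0, 2, 1, 1, 2, 1, 2, 2],
  [0, 0, 0, 3],
  [0, 2, 2, 1, 2, 1, 1, 3],
  [0, 3, 0, 3, 3, 1, 2, 2],
  [1, 1, 2, 0, 2, 2, 0, 0],
  [1, 2, 2, 1, 1, 3],
  [2, 1, 2, 2, 1, 3, 0],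
  [3, 1, 2, 2, 1, 1, 3],
  [0, 2, 1, 2, 0, 3, 3],
  [1, 3, 3, 1, 2, 2, 1, 2, 2, 0],
  [0, 3, 0, 3, 1, 1, 3],
  [1, 2, 1, 2, 0, 3, 3],
  [0, 3, 1, 3, 3, 0, 3, 0],
  [0, 2, 1, 3, 1, 3, 1, 3],
  [3, 3, 1, 3, 1, 1],
  [2, 2, 0],
  [1, 3, 1, 3, 3, 0, 3],
  [1, 2, 2, 0, 3, 0, 0],
  [2, 0, 3, 1, 3, 1, 1],
  [3, 3, 0],
  [3, 1, 3, 3, 1, 3, 0],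
  [2, 1, 3, 1, 3, 0, 3, 0, 0],
  [3, 0, 3, 1, 1, 1, 3],
  [3, 0, 0, 3, 3, 0],
  [1, 3, 0, 3, 1, 3, 3],
  [1, 1, 3, 1, 3, 3, 1, 3],
  [1, 3, 0, 0, 0, 3],
  [0, 3, 3, 0, 0, 3, 1],
  [3, 0, 3, 1, 3, 3, 1, 3],
  [3, 3, 1, 1, 3, 0, 3],
  [2, 2, 1, 3, 3, 0, 2, 2, 1],
  [0, 2, 0, 2, 1, 2, 0, 3, 3],
  [0, 3, 0, 0, 0],
  [0, 0, 2, 0, 2, 2, 0],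
  [1, 3, 1, 3, 3, 1, 3],
  [3, 3, 0, 3, 0, 0],
  [2, 1, 1, 2, 1, 2, 0, 3, 0],
  [1, 3, 1, 1, 3, 0, 3],
  [3, 3, 0, 3, 3, 0],
  [1, 3, 3, 1, 3, 0, 2, 2],
  [1, 2, 0, 2, 2, 1, 3],
  [3, 3, 0, 3, 0, 3, 1],
  [0, 0, 2, 1, 2, 2, 1],
  [2, 2, 0, 2, 0, 2, 2],
  [0, 3, 1, 1, 3, 1],
  [3, 0, 3, 1, 3, 0, 3, 3],
  [0, 0, 3, 3, 0, 3, 0],
  [2, 0, 3, 3, 0, 0, 0],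
  [2, 0, 2, 2, 0, 0, 3],
  [1, 2, 1, 1, 2, 2, 0, 3, 0],
  [0, 3, 1, 1, 3],
  [2, 0, 0, 3, 3, 0, 3],
  [3, 3, 1, 3, 0, 3, 3],
  [3, 0, 0, 3, 3, 1, 2, 2, 0],
  [1, 3, 0, 3, 0, 0, 3, 1],
  [3, 0, 3, 3, 0, 3],
  [0, 3, 0, 3, 0, 3],
  [1, 1, 2, 0, 2, 2, 0, 3],
  [1, 2, 2, 1, 3, 0],
  [2, 0, 0, 3, 1],
  [3, 0, 2, 2, 0, 3, 3, 1, 1],
  [0, 2, 2, 0, 3, 3],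
  [2, 1, 2, 0, 0, 3],
  [1, 3, 1, 3, 0, 3, 3, 1],
  [3, 3, 1, 2, 2, 1],
  [1, 3, 3, 1, 3, 3],
  [1, 2, 2, 0],
  [2, 1, 2, 2, 1, 1],
  [1, 1, 2, 2, 0],
  [0, 3, 3, 0, 0, 3, 3, 0],
  [1, 3, 1, 3, 0, 3],
  [1, 3, 3, 1, 1, 3, 0, 3],
  [0, 3, 1, 3, 0, 0, 0],
  [1, 3, 0, 3, 0, 3],
  [3, 0, 3],
  [3, 0, 0, 3, 1, 3, 1],
  [0, 2, 1, 3, 3],
  [2, 1, 1, 3, 3, 1, 3],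
  [3, 0, 0, 3, 1, 3, 1, 1],
  [0, 2, 2, 1, 3, 1],
  [0, 3, 0, 3, 3],
  [2, 1, 1, 2, 0, 2, 1, 3],
  [2, 1, 3, 3, 0, 0, 3, 1],
  [3, 3, 1, 2, 0, 3],
  [1, 1, 2, 2, 1, 2, 0, 3],
  [2, 2, 1, 3, 3, 0, 3, 3],
  [3, 1, 2, 0, 3],
  [0, 3, 1, 3, 1, 3, 1, 1],
  [1, 2, 0, 0, 3, 3],
  [0, 0, 2, 2, 0, 2, 1, 2, 2],
  [2, 1, 1, 1],
  [2, 0],
  [1, 1, 3, 1, 3, 3, 0, 2, 2],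
  [2, 0, 2, 2, 1, 1, 3],
  [2, 1, 2, 0, 3, 1],
  [3, 1, 3, 3, 0, 0, 3, 1],
  [0, 0, 3, 0, 3, 0, 0, 0],
  [1, 3, 3, 0, 3],
  [3, 1, 2, 1, 2, 0, 3],
  [2, 2, 1, 3, 0, 0],
  [0],
  [3, 3, 1, 3, 1],
  [3, 3, 1, 2, 1, 2, 0, 3],
  [0, 3, 3, 0, 3, 0],
  [2, 1, 2, 2, 0],
  [1, 2, 0, 2, 2, 0, 3],
  [2, 2, 0, 3, 3, 0, 3, 0],
  [3, 3, 1, 1, 3, 3, 0, 0],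
  [0, 3, 1, 3, 3, 0, 3],
  [3, 0, 3, 3, 0, 3, 0, 0],
  [3, 3, 1, 3, 1, 3, 1],
  [2, 1, 3, 1, 3, 0],
  [2, 0, 3, 1, 3, 1, 3],
  [3, 1, 2, 2, 0, 3, 0],
  [1, 1, 3, 0, 0],
  [1, 3, 0, 3, 1, 1, 3, 1],
  [0, 2, 0, 0, 2, 1, 2, 2],
  [1, 3, 0, 3, 1, 3, 1, 3],
  [3, 3, 1, 1, 3, 1, 3, 0],
  [2, 2, 0, 3, 3, 1],
  [1, 2, 0, 0, 3, 3, 0],
  [3, 0, 3, 0, 0, 0],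
  [3, 3, 0, 0, 3, 0, 3, 0],
  [2, 0, 0, 0],
  [1, 1, 2, 1, 2, 2, 0],
  [1, 2, 1, 2, 0, 3, 1],
  [1, 2, 2, 0, 3],
  [2, 0, 2, 2, 0, 3, 1],
  [1, 3, 1],
  [1, 3, 3, 1, 2, 2, 1],
  [0, 3, 3, 1, 1, 3],
  [1, 3, 0],
  [1, 2, 0, 2, 1, 3, 3],
  [1, 2, 1, 2, 2, 1, 1],
  [1, 1, 1, 3, 0],
  [3, 0, 0, 0],
  [3, 3, 0, 3, 1],
  [0, 2, 2, 0, 3],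
  [3, 0, 3, 3, 0, 0, 0, 3],
  [1, 2, 2, 0, 3, 1, 1, 3, 1],
  [1, 1, 3, 1, 3, 1, 3, 0],
  [0, 0, 2, 2, 1, 2, 2],
  [2, 2, 1, 3, 0, 3, 0, 0, 0],
  [2, 2, 1, 3, 3, 0],
  [0, 0, 2, 1, 2, 0, 3, 0],
  [0, 3, 1, 3, 1],
  [2, 2, 0, 3, 3, 0],
  [3, 1, 1, 3, 0],
  [1, 2, 2, 1, 2, 0, 3],
  [1, 2, 1, 1, 3, 3, 1, 3],
  [0, 0, 2, 2, 0, 0, 2, 2],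
  [1, 2, 0, 2, 2, 1],
  [3, 3, 1, 1, 3, 1],
  [3, 3, 1, 2, 2, 0, 3],
  [2, 1, 1, 3, 3, 0, 3],
  [0, 2, 1, 3],
  [2, 2, 0, 2, 2, 1, 3],
  [2, 2, 1, 3, 0, 3, 3, 0, 0],
  [3, 1, 3, 1, 1, 3, 0, 0],
  [1, 1, 3, 1, 3, 1, 1, 1],
  [0, 2, 1, 2, 2, 0, 2, 1, 3],
  [2, 1, 2, 1, 1, 3, 0],
  [0, 3, 0, 0, 3, 3, 1, 3],
  [2, 1, 1, 3, 3, 0, 0],
  [2, 1, 3, 1, 3, 1],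
  [2, 2, 0, 2, 1, 2, 0, 3, 0],
  [2, 1, 2, 2, 1, 1, 3],
  [1, 3, 3, 0],
  [1, 2, 0, 2, 1, 2, 2],
  [0, 3, 0, 3, 0],
  [2, 1, 2, 0, 2, 1, 3, 1],
  [1, 1, 2, 0, 2, 0, 2, 2, 0],
  [1, 2, 1, 2, 0, 2, 2, 0],
  [0, 3, 3, 0, 2, 2, 1, 3],
  [1, 1, 2, 2, 0, 0],
  [3, 1, 1, 3, 0, 0, 3, 1],
  [3, 1, 3, 0, 2, 2],
  [1, 1, 3, 0, 3, 0, 0],
  [0, 2, 1, 3, 0, 3, 0, 0],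
  [3, 0, 3, 0, 3, 1, 3, 0],
  [3, 1, 3, 1, 3, 1, 3, 0, 0, 0],
  [2, 2, 1, 1, 2, 0, 2, 1, 3],
  [1, 3, 0, 2, 2, 1, 3],
  [2, 1, 3, 0, 3, 0, 0, 0],
  [1, 1, 3, 0, 0, 3, 1],
  [2, 0, 3, 3, 1, 3, 3, 1, 1],
  [1, 2, 2, 0, 0],
  [0, 2, 2, 0, 2, 1, 3, 3, 1],
  [0, 2, 2, 0, 2, 1, 3, 1],
  [0, 0, 2, 2, 0, 2, 2],
  [3, 3, 1, 3, 0, 0],
  [2, 2, 1, 1, 1, 2, 2, 1, 3],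
  [0, 2, 1, 1, 2, 2, 1],
  [3, 1, 1, 3, 3, 0, 3, 0],
  [3, 3, 0, 3],
  [1, 2, 0, 2, 2, 1, 3, 1],
  [0, 3, 1, 3, 3, 1, 3],
  [1, 3, 3, 1, 1, 3, 3],
  [3, 1, 1, 3, 3],
  [0, 0, 0, 2, 2, 0, 2, 2],
  [3, 1, 1, 1, 3, 0, 3, 0],
  [1, 3, 1, 1, 3],
  [3, 0, 0, 3, 1, 1, 3],
  [3, 0, 3, 3, 1, 1, 3, 3],
  [1, 3, 1, 3, 3, 1, 1],
  [1, 3, 1, 3, 1, 3, 0],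
  [1, 3, 1, 3, 3, 0, 2, 2],
  [2, 0, 3, 3, 0, 0],
  [1, 2, 0, 0, 3],
  [2, 1, 1, 3, 0, 3],
  [1],
  [0, 0, 2, 2, 0, 3, 0, 3, 1],
  [3, 0, 3, 1, 1, 3],
  [3, 1, 3, 3, 1, 3, 1, 1, 3],
  [3, 0, 3, 0, 3, 0, 0],
  [3, 0, 2, 2, 0, 3],
  [3, 0, 0, 3, 0],
  [3, 0, 3, 3, 0, 0],
  [2, 0, 3, 1, 3, 0, 3],
  [1, 3, 0, 3, 1, 3, 1, 1],
  [3, 0, 0, 3, 1, 3],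
  [1, 3, 0, 3, 3, 0, 0],
  [3, 1, 3, 0, 0, 3],
  [1, 3, 0, 0, 0],
  [0, 0, 0, 3, 3, 1, 3],
  [1, 3, 0, 0, 0, 3, 1],
  [3, 1, 2, 2],
  [2, 1, 1, 2, 2, 0, 3, 3],
  [1, 1, 2, 2, 0, 3, 0],
  [3, 0, 3, 3, 0, 0, 0],
  [1, 2, 2, 1, 2, 1, 1, 3],
  [2, 2, 1, 2, 1, 2, 2, 0, 0],
  [1, 1, 2, 0, 2, 2, 1],
  [3, 3, 1, 3, 1, 1, 1],
  [0, 2, 2, 0, 3, 1, 1],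
  [1, 2, 2, 0, 3, 0, 3, 0, 0],
  [2, 1, 1, 2, 0, 2, 2],
  [2, 1, 2, 2, 0, 0],
  [0, 2, 0, 2, 2, 0, 2, 2],
  [3, 1, 3],
  [2, 0, 2, 2, 1, 3, 0, 3],
  [3, 1, 2, 1, 2, 0, 2, 2, 0],
  [3, 1, 3, 0, 3, 1, 1, 1],
  [1, 2, 2, 0, 3, 3, 0, 3, 0],
  [0, 3, 1, 1, 1, 3, 0, 3, 0],
  [1, 3, 1, 3, 1, 3],
  [3, 1, 3, 0, 0],
  [0, 2, 2, 0, 3, 1, 3, 0],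
  [2, 0, 2, 1, 2, 2, 1, 3],
  [2, 0, 3, 3, 1, 3, 0],
  [2, 0, 3, 1, 3, 0, 3, 0],
  [3, 1, 3, 3, 1, 3, 0, 0],
  [0, 3, 1, 1],
  [3, 0, 3, 0, 3, 3],
  [0, 0, 3, 0, 0, 3, 0, 0, 0],
  [1, 3, 1, 3, 0, 0, 0],
  [0, 3, 3, 0, 3],
  [0, 2, 1, 1, 2, 0, 2, 2],
  [0, 0, 3, 0, 3, 1, 3, 1],
  [0, 0, 3, 1, 3, 1, 3, 0],
  [0, 2, 2, 0, 3, 0, 3, 1],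
  [2, 1, 2, 0, 2, 2, 0],
  [2, 1, 3, 3, 1, 2, 2],
  [3, 1, 1, 3, 3, 0],
  [2, 1, 3, 1, 3],
  [3, 0, 0, 3],
  [1, 1, 3, 3, 0, 3],
  [2, 1, 2, 1, 2, 1, 1, 3, 0],
  [0, 2, 0, 0, 2, 1, 3],
  [3, 0, 2, 2, 1, 3, 3, 0, 0],
  [3, 1, 2, 2, 1, 2, 2],
  [0, 3, 0, 3, 3, 0, 3, 0],
  [3, 0, 3, 0, 0, 3, 1],
  [3, 0, 3, 0, 3, 3, 0, 3, 1],
  [0, 3, 0, 0, 3, 1, 1],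
  [2, 2, 0, 3, 1, 3, 1, 1, 1],
  [3, 1, 2, 2, 0, 3, 1],
  [3],
  [0, 2, 0, 2, 0, 2, 2, 0],
  [0, 3, 1, 1, 1, 3],
  [0, 3, 3, 1],
  [0, 0, 3, 3, 1, 1, 3, 1],
  [3, 3, 0, 2, 2, 1, 1, 3],
  [0, 3, 0, 3, 3, 0, 3, 0, 0],
  [3, 0, 2, 0, 2, 0, 2, 2],
  [3, 1, 3, 3, 0, 3, 0],
  [0, 2, 0, 2, 0, 2, 2],
  [1, 3, 3, 1, 3, 3, 0, 3],
  [0, 0, 0],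
  [1, 3, 3, 1, 3, 1],
  [3, 1, 1, 3, 3, 1, 3, 0],
  [2, 1, 3, 0, 3, 1, 1],
  [1, 3, 3, 1],
  [0, 3, 1, 3, 1, 3, 3],
  [2, 1, 2, 1, 1, 3, 3],
  [2, 1, 1, 3, 3, 0],
  [2, 1, 3, 0, 3, 0, 0],
  [1, 3, 3, 0, 3, 3, 1],
  [3, 3, 0, 0, 3, 3, 0],
  [1, 3, 0, 3, 3, 0, 3, 0, 3],
  [1, 2, 0, 0, 2, 1, 3, 3],
  [1, 3, 1, 3],
  [0, 2, 2, 1],
  [0, 3, 3, 1, 1, 1],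
  [1, 1, 3, 1, 3, 3, 1, 1],
  [1, 3, 3, 1, 1, 3],
  [0, 0, 3, 3, 1, 1, 1],
  [2, 2, 1, 3, 3, 1, 3],
  [2, 0, 0, 2, 2, 0],
  [2, 0, 0, 3, 3, 0, 0],
  [1, 3, 0, 3],
  [0, 3, 1, 3, 3, 0, 0, 0],
  [1, 3, 1, 1],
  [2, 0, 3, 3, 0, 0, 3, 0],
  [1, 2, 0, 2, 2],
  [1, 2, 0, 2, 2, 0, 0],
  [3, 1, 3, 3, 0, 3],
  [2, 2, 1, 1, 3, 0, 3],
  [0, 0, 3, 1, 1],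
  [1, 2, 0, 3, 0],
  [3, 1, 3, 0, 3, 0, 0],
  [1, 2, 0, 2, 1, 3],
  [0, 2, 1, 3, 0, 3],
  [0, 2, 1, 3, 0, 3, 1, 1],
  [3, 0, 3, 3, 1, 2, 0, 3],
  [2, 2, 0, 2, 1, 2, 2],
  [0, 3, 3, 0, 3, 3],
  [3, 0, 3, 1, 2, 2, 0, 3],
  [2, 0, 3, 1, 3],
  [3, 0, 0, 3, 3],
  [1, 1, 3, 1, 3, 0],
  [0, 0, 0, 3, 1, 3],
  [0, 3, 3, 0, 3, 3, 1],
  [2, 0, 3, 3, 0, 3, 3, 1],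
  [3, 3, 0, 3, 1, 1, 3, 1],
  [3, 1, 3, 1, 3, 0, 0, 0],
  [1, 3, 0, 2, 2, 1, 2, 2],
  [3, 3, 0, 3, 0, 3, 0, 3],
  [0, 3, 3, 0, 0, 0, 3, 1, 3],
  [0, 2, 1, 3, 0, 3, 1],
  [3, 3, 0, 3, 1, 3, 1, 1, 1],
  [0, 0, 3, 0, 3, 0, 0, 3, 0],
  [2, 0, 2, 2, 0],
  [0, 2, 2, 0],
  [0, 0, 2, 2, 0],
  [3, 1, 3, 1, 3, 3, 0, 3],
  [1, 2, 1, 2, 2, 0, 2, 1, 3],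
  [3, 0, 3, 0, 3, 0, 0, 0],
  [2, 0, 0, 2, 2, 0, 3, 1],
  [2, 0, 2, 1, 1, 1, 2, 2, 1, 3],
  [0, 3, 3, 1, 2, 2, 1, 2, 2, 0],
  [2, 2, 1, 3, 3, 1],
  [0, 0, 3],
  [2, 2, 0, 3, 0, 0],
  [1, 1, 1, 2, 2, 1, 3],
  [3, 1, 3, 0, 0, 0, 3, 0, 0],
  [2, 1, 3, 0, 0],
  [1, 1, 3, 0],
  [2, 1, 2, 2, 0, 3, 1],
  [2, 1, 1, 2, 2, 1, 3],
  [3, 1, 2, 2, 0, 3, 0, 3, 0, 0],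
  [2, 2, 1, 2, 2, 1],
  [1, 1, 2, 2, 1, 1, 3],
  [1, 1, 2, 1, 2, 1, 1, 3],
  [3, 3, 0, 0],
  [0, 2, 0, 2, 1, 2, 0, 3],
  [1, 3, 1, 3, 0, 3, 1, 3, 1],
  [0, 3, 0, 3, 1],
  [1, 3, 3, 0, 0, 3, 0],
  [0, 3, 3, 1, 3, 1, 1],
  [3, 0, 3, 0, 3, 1],
  [3, 3, 0, 0, 2, 2, 0, 2, 2],
  [3, 3, 0, 3, 3, 1, 2, 2],
  [0, 2, 2, 1, 3, 3],
  [2, 1, 3, 1, 1],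
  [0, 2, 2, 1, 3, 3, 0, 3],
  [0, 0, 3, 0, 0],
  [0, 0, 3, 3, 1, 3, 0],
  [1, 1, 1, 3, 3, 0, 0],
  [2, 2, 0, 3, 0, 3, 0, 0],
  [3, 3, 1, 1, 1, 3],
  [2, 1, 3, 1, 1, 3, 0],
  [1, 3, 3, 0, 3, 1],
  [2, 2, 0, 3, 0],
  [0, 3, 1, 3, 3, 0],
  [3, 1, 1, 3, 1, 3, 0],
  [3, 0, 0, 3, 1, 1, 3, 1],
  [0, 0, 3, 3, 0, 0],
  [0, 2, 0, 2, 1, 2, 2],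
  [1, 2, 1, 2, 2, 0],
  [0, 3, 1, 3, 1, 1, 1],
  [1, 3, 0, 3, 3, 0],
  [1, 1, 2, 2, 1, 3],
  [2, 0, 3, 1, 3, 1, 1, 1],
  [3, 3, 1, 3, 3, 0, 0],
  [0, 2, 1, 3, 3, 1, 1],
  [1, 3, 0, 3, 1, 1, 1],
  [2, 1, 2, 2, 1, 2, 2, 1],
  [2, 0, 2, 1, 3, 1, 3, 0, 3, 0],
  [2, 0, 2, 0, 2, 1, 2, 2],
  [2, 1, 3, 3, 1, 3, 0, 0],
  [0, 2, 1, 3, 1, 3, 0, 3],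
  [3, 1, 2, 2, 0, 2, 2],
  [0, 2, 1, 3, 3, 1, 3, 0],
  [0, 3, 3, 0, 0, 0],
  [2, 0, 0, 2, 1, 3],
  [1, 2, 2, 1, 3, 0, 3],
  [2, 0, 2, 0, 2, 2, 0],
  [2, 0, 2, 2, 0, 3],
  [0, 2, 2, 1, 3, 0, 3],
  [0, 3, 0, 0, 3, 3, 1, 1],
  [3, 1, 1, 3, 1],
  [2, 0, 2, 1, 3, 3],
  [3, 0, 2, 1, 2, 2],
  [2, 2, 1, 2, 0, 3, 0],
  [0, 2, 0, 2, 1, 3, 3, 1],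
  [0, 2, 2, 1, 1, 3, 0, 3],
  [0, 0, 2, 1, 2, 0, 3],
  [0, 3, 1, 3, 0],
  [2, 0, 2, 2, 1, 2, 2, 0],
  [2, 1, 3, 0, 3, 3],
  [0, 2, 1, 3, 1, 3, 0, 0, 0],
  [1, 3, 1, 3, 0, 3, 0, 0],
  [0, 3, 1, 3, 1, 3, 1, 3],
  [3, 0, 2, 2, 1, 3, 3],
  [3, 1, 3, 0, 0, 3, 1, 1],
  [1, 2, 2, 1, 2, 2],
  [3, 3, 1, 2, 0, 3, 0],
  [1, 3, 1, 1, 3, 0],
  [3, 1, 2, 0, 2, 2, 1, 3],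
  [0, 3, 0, 0, 3, 0, 0, 0],
  [1, 2, 2, 0, 3, 1],
  [0, 2, 2, 1, 3, 3, 0, 0],
  [0, 2, 2, 0, 0, 3, 0],
  [0, 3, 0, 0, 3, 0, 3, 0],
  [1, 3, 1, 1, 3, 1, 3, 0],
  [2, 0, 0, 2, 0, 2, 2, 1],
  [3, 0, 3, 1, 1],
  [0, 2, 2, 0, 0, 3, 3],
  [2, 1, 3, 0, 3, 3, 0, 2, 2],
  [0, 0, 0, 3, 1],
  [0, 2, 1, 3, 3, 0, 3],
  [1, 1, 3],
  [2, 1, 2, 0, 3],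
  [0, 0, 0, 3, 1, 3, 0, 3],
  [1, 1, 3, 0, 3, 1, 3, 1],
  [0, 2, 1, 3, 1, 3, 0, 3, 0],
  [1, 1, 2, 0, 0, 2, 1, 3],
  [0, 2, 2, 0, 3, 0, 0],
  [0, 2, 1, 2, 2, 0],
  [1, 3, 1, 3, 0, 2, 2, 1],
  [3, 3],
  [1, 2, 0, 0, 2, 1, 3],
  [0, 2, 0, 0, 2, 2],
  [2, 1, 3],
  [3, 0, 3, 0],
  [0, 0, 3, 1, 1, 3, 1],
  [0, 3, 0, 3, 1, 3, 1],
  [3, 3, 0, 3, 0, 3],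
  [3, 0, 2, 2, 0],
  [3, 0, 2, 2, 1, 3, 1, 1],
  [1, 1, 2, 2, 1],
  [1, 1, 3, 3, 1, 1, 1],
  [0, 2, 2, 1, 2, 2, 1, 3, 1],
  [0, 3, 3, 0],
  [2, 2, 1, 3, 1, 3, 0, 0, 0],
  [3, 3, 0, 3, 3, 0, 0, 0],
  [2, 0, 2, 2, 0, 3, 1, 1],
  [2, 0, 2, 1, 2, 0, 3],
  [1, 2, 2, 0, 0, 2, 1, 2, 2],
  [1, 2, 2, 1, 2, 2, 0, 3, 1],
  [2, 2],
  [0, 0, 3, 0, 0, 3, 0],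
  [1, 2, 1, 2, 2, 0, 3],
  [0, 0, 3, 0, 0, 3, 3, 1, 3],
  [0, 2, 1, 1, 1, 2, 2, 1, 3],
  [2, 2, 0, 2, 1, 3, 3, 1],
  [1, 2, 2, 0, 2, 2],
  [0, 0, 3, 3],
  [0, 3, 1, 3, 1, 3, 0],
  [0, 3, 0, 3, 1, 3, 3],
  [0, 3, 0, 3, 3, 0, 3, 1],
  [2, 1],
  [2, 2, 1, 1, 3],
  [2, 1, 1],
  [3, 1, 3, 3],
  [3, 3, 1, 3, 0, 3],
  [3, 3, 1, 2, 2, 0],
  [0, 3, 1, 3, 0, 3],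
  [0, 2, 2, 1, 3, 1, 3, 1],
  [2, 1, 2, 2, 0, 2, 1, 3],
  [3, 0, 3, 1, 3, 1, 3, 0],
  [3, 3, 0, 3, 0, 3, 0, 0],
  [2, 2, 1, 2, 1, 2, 2],
  [2, 2, 1, 3],
  [1, 1, 3, 3, 1, 3, 0, 3],
  [1, 3, 1, 3, 1, 3, 1, 3, 0],
  [0, 2, 1, 2, 1, 1, 3],
  [0, 0, 0, 3, 3, 1, 1, 1],
  [0, 0, 3, 0, 3, 1, 1, 1],
  [2, 2, 0, 0, 3, 0, 0],
  [2, 1, 3, 3, 0, 3],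
  [2, 0, 0, 3, 0, 3, 1, 1],
  [3, 1, 1, 3, 0, 3, 0, 3],
  [3, 3, 0, 3, 0],
  [2, 0, 2, 1, 3, 0],
  [3, 1, 3, 0, 0, 0],
  [3, 1, 3, 1, 3, 3],
  [3, 0, 2, 2, 0, 2, 2, 0],
  [3, 3, 1, 3, 3, 0, 0, 3, 1],
  [1, 2, 2, 0, 2, 0, 2, 2],
  [2, 1, 1, 3, 3, 1, 3, 0],
  [1, 1, 3, 0, 3],
  [0, 2, 2, 1, 2, 2, 0, 3],
  [1, 1, 2, 2],
  [3, 3, 1, 3, 0],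
  [2, 1, 1, 2, 0, 2, 0, 2, 2, 0],
  [2, 0, 0],
  [2, 1, 3, 0],
  [2],
  [3, 0, 3, 1, 3, 0, 3, 0],
  [0, 2, 1, 3, 0, 3, 0, 3],
  [2, 2, 0, 2, 2],
  [2, 0, 2, 1, 2, 2],
  [1, 1, 3, 3, 1],
  [0, 3, 0, 0, 3, 3],
  [2, 1, 2, 2, 0, 3],
  [2, 2, 0, 0, 3],
  [2, 0, 3, 0, 3, 0, 3],
  [2, 0, 2, 2, 1, 2, 2],
  [2, 1, 3, 3, 1, 3, 1, 3],
  [1, 1, 1, 3, 3, 0, 3],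
  [1, 2, 1, 2, 1, 2, 2, 0, 3],
  [2, 2, 0, 3, 0, 3, 1],
  [0, 0, 3, 0],
  [2, 1, 3, 1, 3, 1, 3, 0],
  [3, 1, 3, 1, 1, 3, 0, 3],
  [1, 3, 3, 0, 3, 0],
  [1, 1, 1, 3, 3, 1, 1, 1],
  [2, 2, 0, 0, 2, 1, 2, 2],
  [1, 1, 3, 3, 1, 1, 3],
  [1, 3, 0, 3, 0],
  [0, 3, 3, 0, 0, 0, 3],
  [0, 2, 2, 0, 2, 2],
  [3, 0, 2, 1, 2, 2, 1],
  [2, 0, 3, 3, 1, 3],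
  [2, 1, 1, 3, 0, 3, 0, 3, 0],
  [2, 1, 3, 1],
  [3, 0, 3, 0, 3, 0],
  [0, 2, 2, 0, 2, 2, 1, 1, 3],
  [1, 3, 0, 2, 2],
  [1, 3, 0, 3, 3, 0, 3],
  [3, 1, 1, 3, 1, 3, 1],
  [0, 0, 3, 0, 0, 0],
  [2, 2, 1, 1, 3, 3, 0],
  [0, 3, 1, 3, 1, 3, 1, 3, 0],
  [0, 3, 3, 1, 3, 1, 3, 1, 1],
  [1, 2, 1, 2, 1, 1, 3],
  [0, 0, 0, 3, 1, 3, 1],
  [1, 2, 1, 2, 2, 1, 2, 2, 1],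
  [3, 0, 0, 3, 3, 0, 2, 2],
  [0, 2, 0, 2, 1, 3],
  [3, 1, 3, 1, 3, 1, 3],
  [0, 3, 1, 3, 3],
  [2, 0, 0, 3, 3, 1, 1, 1],
  [3, 3, 1, 3, 3, 1, 3],
  [1, 2, 1, 2, 2],
  [2, 1, 3, 3],
  [3, 1, 3, 0, 0, 3, 1, 1, 3],
  [0, 3, 0, 0],
  [2, 1, 1, 3, 3],
  [1, 1, 3, 3, 1, 3, 0, 0],
  [0, 0, 3, 3, 1, 2, 2, 0],
  [3, 0, 0, 3, 0, 0, 3, 0],
  [2, 1, 1, 2, 1, 2, 2],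
  [1, 2, 2, 1],
  [3, 0, 0, 0, 3, 1, 3],
  [0, 2, 2, 0, 2, 1, 2, 2],
  [3, 1, 3, 1, 3, 0],
  [0, 3, 3, 0, 2, 2],
  [2, 0, 3, 0, 3, 1, 3, 0],
  [1, 2, 2, 1, 2, 2, 0],
  [0, 2, 1, 2, 2, 0, 3],
  [2, 2, 1, 3, 1, 3],
  [2, 0, 2, 2],
  [1, 1, 2, 0, 2, 1, 3],
  [1, 3, 3, 1, 3, 3, 1, 1],
  [1, 1, 3, 3, 1, 3, 3],
  [1, 1, 1, 3, 3, 0, 0, 0],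
  [1, 3, 0, 0, 0, 3, 0, 0],
  [0, 3, 0, 3, 0, 0, 3, 1],
  [2, 1, 2, 1, 1, 3],
  [2, 0, 2, 1, 2, 1, 1, 3, 0],
  [2, 1, 3, 0, 3, 1],
  [1, 3, 1, 3, 3, 1, 3, 0],
  [3, 3, 0, 2, 2, 1, 3],
  [1, 3, 0, 0, 3, 0, 3, 0],
  [2, 0, 2, 1, 3, 0, 3],
  [3, 1, 3, 1, 3, 3, 1],
  [0, 0, 2, 2, 0, 3, 1],
  [3, 0, 3, 1, 3, 1, 1],
  [0, 0, 3, 0, 0, 3, 1, 1],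
  [0, 2, 1, 3, 1],
  [0, 2, 0, 2, 1, 3, 1, 3],
  [0, 3, 0, 3, 0, 0],
  [0, 0, 0, 3, 3, 0, 0, 0],
  [0, 2, 1, 3, 3, 0],
  [3, 1, 2, 2, 0],
  [2, 2, 0, 2, 1, 3, 3],
  [2, 1, 1, 3, 3, 1],
  [3, 0, 0, 3, 1],
  [2, 1, 2, 2, 0, 3, 0, 3],
  [2, 1, 1, 2, 1, 2, 2, 0],
  [1, 3, 0, 2, 2, 0, 3],
  [1, 2, 2, 0, 3, 3, 0],
  [3, 1, 1, 3],
  [3, 1, 3, 1, 3, 1, 3, 3],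
  [2, 2, 1, 3, 3, 0, 0],
  [2, 2, 0, 0, 0],
  [2, 2, 0, 2, 2, 0],
  [2, 1, 2, 0, 3, 3],
  [1, 1, 2, 1, 2, 0, 3, 3],
  [1, 3, 0, 0],
  [1, 1, 1, 3, 3, 1],
  [0, 2, 1, 2, 1, 1, 2, 2, 1],
  [2, 0, 3, 1],
  [1, 2, 2, 0, 2, 2, 0],
  [1, 1, 2, 1, 2, 0, 3, 0],
  [1, 3, 1, 3, 3, 0, 0, 0],
  [2, 1, 3, 1, 1, 3],
  [0, 0, 0, 3, 3],
  [2, 0, 2, 0, 2, 0, 2, 2],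
  [0, 0, 3, 3, 0],
  [2, 0, 2, 1, 3],
  [2, 1, 3, 1, 3, 1, 3],
  [3, 3, 0, 2, 2, 0],
  [0, 2, 1, 3, 0],
  [0, 3, 0, 0, 3, 0, 3],
  [0, 0, 3, 0, 3, 0, 0],
  [1, 2, 2, 0, 2, 2, 0, 3],
  [3, 0, 0, 3, 1, 1, 3, 0, 0],
  [1, 3, 0, 3, 3, 1],
  [0, 0, 3, 3, 1, 3],
  [3, 3, 0, 0, 3, 0],
  [1, 1, 3, 3, 0, 3, 0],
  [2, 2, 0, 3, 3, 1, 2, 2],
  [1, 1, 3, 3, 0, 0],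
  [0, 2, 1, 3, 3, 0, 0, 0],
  [2, 0, 0, 3, 3, 0],
  [1, 1, 3, 3],
  [3, 3, 1, 2, 2, 1, 2, 2, 0],
  [1, 3, 0, 3, 1, 1, 1, 3],
  [2, 0, 0, 3],
  [3, 3, 1, 3, 3, 0, 2, 2, 1],
  [2, 1, 3, 3, 0, 3, 3],
  [1, 2, 0, 3, 3, 0, 3],
  [1, 3, 0, 2, 2, 1, 3, 1],
  [2, 0, 2, 2, 0, 2, 2],
  [0, 3, 0, 0, 3, 0, 0],
  [1, 3, 3, 1, 3, 0, 3, 3, 1],
  [0, 3, 1, 3, 0, 0],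
  [1, 3, 0, 2, 2, 0, 3, 1],
  [0, 3, 0, 0, 3, 0],
  [0, 0, 2, 1, 2, 0, 3, 1],
  [0, 2, 0, 2, 1, 3, 3],
  [0, 0, 3, 3, 0, 0, 3, 1],
  [3, 0, 0, 0, 3, 0, 0],
  [2, 0, 3, 3, 1, 2, 2],
  [2, 1, 2, 1, 2, 2, 0, 3],
  [3, 3, 0, 2, 2, 1, 3, 1],
  [3, 3, 0, 2, 2, 1],
  [1, 2, 2, 0, 3, 0],
  [3, 0, 2, 1, 2, 2, 1, 3],
  [1, 3, 3, 0, 0, 3, 1],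
  [0, 3, 3, 0, 3, 1, 3, 0],
  [3, 0, 3, 1, 3, 3],
  [3, 1, 3, 3, 1, 1, 3, 1],
  [2, 2, 1, 3, 3, 0, 2, 2],
  [0, 2, 2, 0, 3, 0],
  [3, 3, 0, 2, 2, 1, 2, 2],
  [2, 1, 2, 1, 1, 2, 2, 1],
  [0, 0, 3, 3, 0, 2, 2, 1, 3, 1],
  [2, 2, 1, 3, 1, 3, 1, 1],
  [0, 2, 1, 2, 2, 1, 3],
  [1, 3, 1, 3, 1, 3, 1],
  [3, 1, 3, 0, 3, 1, 3, 1],
  [0, 3, 3, 1, 2, 2],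
  [0, 2, 1, 2, 1, 2, 2],
  [1, 1, 3, 1, 3, 0, 3, 0],
  [0, 0, 3, 1, 1, 3, 0, 3],
  [0, 3, 1],
  [1, 2, 2, 1, 3, 1],
  [1, 1, 2, 0, 2, 2, 1, 3],
  [0, 3, 0, 3, 0, 0, 0],
  [3, 0, 0, 3, 1, 1],
  [3, 0, 3, 3, 1, 3, 1, 3],
  [1, 2, 2, 1, 1, 2, 2, 0],
  [3, 1, 3, 0, 3, 3, 1],
  [3, 0, 0, 3, 0, 3, 0],
  [1, 2, 1, 2, 1, 2, 2],
  [3, 0, 0, 0, 3, 0, 0, 0],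
  [1, 3, 0, 2, 2, 1],
  [1, 3, 3, 1, 2, 2],
  [1, 1, 3, 1, 3, 1, 3, 1],
  [2, 0, 0, 3, 0, 0],
  [2, 0, 3, 0, 3],
  [3, 1, 3, 3, 1, 1],
  [2, 0, 3, 3],
  [2, 1, 2, 1, 2, 2, 0, 0],
  [1, 2, 1, 1, 2, 2, 1],
  [3, 1, 3, 0, 0, 0, 3, 0],
  [3, 3, 1, 3, 0, 3, 3, 0, 0],
  [0, 3, 0, 3, 3, 1, 1],
  [3, 0, 3, 1, 1, 3, 1],
  [0, 3, 0, 0, 3, 3, 0, 0],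
  [1, 1, 3, 3, 1, 1],
  [0, 3, 0, 3, 3, 1, 2, 2, 1],
  [0, 3, 3, 0, 2, 1, 3],
  [3, 0, 3, 1, 3, 1],
  [2, 2, 1, 2, 2, 0, 3],
  [0, 2, 0, 2, 2, 1, 2, 2],
  [0, 2, 2],
  [1, 2, 0, 3, 1],
  [0, 0, 3, 3, 1, 1, 3, 3, 0],
  [0, 0, 2, 0, 2, 1, 2, 2],
  [2, 2, 0, 0, 3, 0],
  [2, 2, 0, 2, 2, 1, 1, 3],
  [1, 3, 0, 3, 0, 0],
  [3, 3, 1, 2, 2, 0, 3, 1],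
  [3, 1, 3, 1, 3, 1, 3, 0],
  [3, 0, 3, 0, 3, 0, 3],
  [0, 3, 3, 1, 1, 3, 1],
  [2, 1, 3, 3, 0, 3, 0],
  [2, 1, 3, 1, 3, 0, 0, 0],
  [2, 0, 0, 2, 1, 3, 3],
  [0, 0, 0, 3, 1, 3, 0],
  [0, 0, 2, 1, 3, 3, 1],
  [0, 2, 1, 2, 2],
  [1, 3, 3, 0, 0, 3, 3],
  [3, 0, 0, 3, 0, 3],
  [1, 3, 3, 1, 3, 1, 3],
  [1, 3, 0, 0, 3, 1, 3],
  [0, 2, 1, 1, 2, 0, 2, 1, 3],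
  [3, 3, 1, 3, 0, 3, 3, 1],
  [3, 1, 2, 0, 2, 2, 0],
  [3, 0, 0, 3, 0, 0, 3, 0, 0],
  [0, 3, 3, 0, 3, 1],
  [1, 3, 0, 0, 3, 1, 1],
  [3, 3, 1, 1, 3],
  [1, 3, 3, 0, 3, 0, 3, 1],
  [2, 0, 2, 2, 0, 0, 3, 0],
  [2, 0, 3, 3, 1],
  [3, 1, 1, 3, 3, 0, 0],
  [3, 3, 1, 1, 3, 3],
  [3, 3, 0, 2, 2, 1, 3, 3, 0, 0],
  [3, 3, 0, 3, 3, 1],
  [2, 2, 0, 3, 3, 0, 0, 0, 3],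
  [3, 0, 3, 3, 1, 3, 3],
  [3, 3, 0, 3, 0, 0, 3, 1],
  [3, 0, 2, 2, 1, 2, 2, 0],
  [2, 0, 2, 1, 2, 0, 3, 3],
  [0, 2, 0, 2, 1, 2, 0, 3, 1],
  [2, 1, 3, 3, 1, 3, 3, 1, 1],
  [3, 0, 2, 0, 0, 2, 2],
  [2, 0, 3, 3, 1, 1, 1, 3],
  [3, 1, 2, 0, 3, 0],
  [0, 0, 3, 0, 3, 1, 1],
  [0, 0, 3, 1, 3, 0],
  [1, 3, 0, 0, 3],
  [2, 2, 0, 3, 1, 3, 0],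
  [2, 2, 1, 2, 2],
  [0, 0, 0, 3, 3, 1, 3, 0],
  [1, 2, 0, 2, 1, 3, 1],
  [2, 0, 3, 3, 0, 2, 2, 1, 3, 1],
  [3, 0, 0, 2, 2, 0, 2, 2],
  [3, 1, 3, 1, 1],
  [3, 1, 3, 3, 0, 2, 2],
  [1, 1, 3, 1, 3, 1, 1],
  [3, 3, 1, 3, 3, 0, 3, 0],
  [0, 0, 3, 1, 3, 0, 0, 0],
  [3, 0, 2, 0, 2, 1, 2, 2],
  [1, 3, 0, 0, 3, 0, 0, 0],
  [1, 1, 2, 2, 0, 2, 2],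
  [1, 3, 3, 1, 3, 1, 1, 3],
  [2, 0, 2, 1, 3, 3, 0, 0],
  [0, 3, 1, 3, 0, 0, 3, 1],
  [2, 2, 0, 3, 1],
  [1, 3, 1, 3, 1, 1],
  [1, 1, 2, 2, 1, 3, 0],
  [1, 2, 1, 2, 0, 3],
  [1, 2, 1, 1, 3, 3],
  [0, 3, 3, 1, 3, 3],
  [2, 2, 0, 2, 1, 3, 0, 3],
  [1, 3, 3, 0, 2, 2, 0, 3],
  [2, 1, 3, 1, 3, 0, 3],
  [2, 1, 1, 2, 2, 1],
  [2, 0, 0, 2, 1, 2, 2],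
  [3, 0, 3, 0, 3, 1, 1, 3],
  [1, 3, 0, 0, 3, 0, 0],
  [3, 0, 0, 3, 0, 0],
  [0, 2, 2, 1, 2, 2, 0],
  [2, 0, 3, 3, 0, 0, 0, 3],
  [2, 2, 0, 2, 2, 1, 3, 0],
  [1, 2, 2, 0, 3, 0, 3, 1],
  [3, 0, 2, 2, 1, 1, 3],
  [1, 3, 1, 3, 3],
  [3, 1, 3, 1, 3, 3, 1, 3, 0],
  [0, 3, 3, 0, 2, 2, 1, 3, 1],
  [1, 1, 1, 3, 3, 0],
  [2, 1, 3, 3, 1, 3, 1],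
  [3, 0, 0, 0, 3, 1, 3, 0],
  [2, 0, 0, 2, 2, 0, 2, 2],
  [1, 1, 3, 3, 0, 0, 3, 3, 0],
  [3, 3, 0, 2, 1, 2, 2],
  [0, 3, 0, 3, 1, 3, 0, 0, 0],
  [3, 3, 0, 0, 3, 1],
  [1, 3, 1, 3, 3, 1],
  [0, 2, 2, 0, 0, 3],
  [2, 0, 0, 3, 0, 3, 1, 1, 1],
  [1, 1, 1, 3, 0, 3, 0, 0],
  [0, 2, 0, 2, 2, 0],
  [1, 2, 1, 1, 2, 1, 2, 2, 0],
  [0, 3, 3, 1, 2, 2, 0],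
  [3, 3, 1, 1, 1],
  [0, 3, 0, 3, 3, 1, 3, 3],
  [2, 2, 1, 3, 3, 1, 2, 2],
  [3, 1, 3, 0, 3, 3, 0, 0, 0],
  [0, 0, 3, 1, 3, 1, 1],
  [0, 0, 2, 1, 3, 3, 0, 3],
  [0, 3, 1, 3, 3, 1],
  [2, 2, 0, 3, 3, 0, 0],
  [3, 1, 1, 3, 0, 3, 0, 0],
  [2, 0, 2, 0, 0, 2, 1, 3],
  [0, 3, 3, 0, 0, 3, 0],
  [3, 0, 0, 3, 1, 3, 1, 3, 0],
  [2, 2, 1, 3, 1, 1],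
  [1, 3, 3, 1, 1, 3, 0, 3, 0, 0],
  [1, 3, 0, 3, 3, 0, 0, 0],
  [0, 3, 1, 1, 3, 0, 3],
  [3, 3, 1, 2, 2, 1, 3, 1],
  [3, 0, 3, 0, 3, 3, 0, 0],
  [3, 0, 0, 3, 3, 1, 3],
  [2, 2, 0, 3, 3],
  [2, 2, 0, 2, 2, 0, 3],
  [3, 0, 3, 1, 3],
  [3, 0, 0, 3, 0, 3, 0, 0],
  [1, 3, 3, 0, 2, 2],
  [0, 3, 1, 2, 2, 1, 2, 2, 0],
  [0, 2, 1, 2, 1, 2, 1, 1, 3, 0],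
  [0, 3, 0, 3, 0, 0, 3, 0],
  [1, 1, 2, 0, 2, 2, 0],
  [1, 1, 3, 0, 3, 1],
  [1, 3, 1, 3, 0],
  [1, 1, 3, 3, 1, 3, 0],
  [1, 3, 1, 3, 1, 3, 1, 1],
  [2, 1, 3, 1, 1, 3, 1, 3, 3],
  [0, 3, 1, 3, 0, 3, 0],
  [2, 0, 3, 3, 1, 1],
  [3, 0, 2, 1, 2, 0, 3, 3],
  [3, 1, 2, 0, 3, 3],
  [2, 0, 3, 3, 0, 3, 0],
  [0, 3, 3, 1, 2, 2, 0, 3],
  [2, 2, 0, 0],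
  [2, 2, 1, 1, 2, 2, 0],
  [2, 0, 3],
  [2, 2, 0, 2, 2, 1],
  [3, 3, 0, 0, 0, 3],
  [2, 0, 0, 3, 0, 0, 3, 0, 0],
  [2, 2, 1, 3, 3, 0, 3],
  [2, 0, 2, 2, 0, 3, 3, 1, 1],
  [2, 1, 2, 0, 0, 3, 3, 0, 0],
  [0, 0, 2, 0, 2, 2, 1],
  [0, 2, 0, 2, 2, 1],
  [3, 3, 0, 3, 3, 0, 0, 0, 3],
  [3, 1, 3, 3, 0, 3, 0, 3, 1],
  [3, 1, 3, 3, 0],
  [2, 1, 3, 3, 0, 3, 0, 3],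
  [2, 0, 2, 1, 3, 3, 1],
  [2, 2, 1, 3, 1, 1, 3, 0],
  [0, 0, 3, 1],
  [3, 3, 1, 2, 1, 2, 1, 2, 2],
  [1, 3, 1, 3, 0, 3, 3],
  [1, 2, 0, 2, 2, 0],
  [3, 3, 1, 2, 2],
  [2, 0, 3, 0, 3, 1, 3, 1],
  [3, 3, 0, 3, 1, 3, 0],
  [3, 1, 3, 3, 0, 3, 1, 1, 3, 1],
  [0, 2, 1, 1, 2, 2, 0, 0],
  [3, 3, 0, 0, 0, 3, 1, 3],
  [1, 3, 1, 3, 1],
  [2, 2, 0, 2, 1, 3, 1],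
  [3, 1, 3, 1, 1, 1],
  [0, 2, 1, 2, 0, 2, 2, 1],
  [3, 0, 3, 3, 0, 3, 0],
  [2, 1, 2, 1, 2, 0, 3],
  [0, 2, 0, 2, 1, 3, 0],
  [0, 0, 3, 1, 1, 3],
  [3, 0, 3, 3, 0],
  [2, 2, 0, 0, 3, 3],
  [0, 2, 2, 1, 2, 0, 3],
  [2, 2, 0, 2, 2, 1, 3, 1],
  [0, 0, 2, 1, 3, 3],
  [1, 3, 3, 1, 3],
  [3, 3, 0, 3, 3, 1, 1],
  [1, 1, 3, 1, 3, 3, 0, 0, 0],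
  [0, 0, 3, 0, 3, 0],
  [3, 1, 1, 2, 2, 0, 3, 0],
  [2, 2, 1],
  [3, 1],
  [3, 0, 0, 3, 3, 1],
  [2, 1, 1, 3, 0, 3, 0, 0],
  [2, 1, 2, 2, 0, 3, 0, 0],
  [1, 2, 2, 1, 3],
  [0, 3, 1, 3, 0, 3, 3],
  [2, 1, 1, 3, 3, 0, 3, 0],
  [2, 0, 0, 3, 3],
  [3, 1, 1, 1, 3, 0],
  [3, 1, 2, 2, 1],
  [2, 1, 2, 1, 2, 0, 3, 1],
  [2, 2, 1, 2, 2, 0, 3, 1],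
  [0, 0, 0, 3, 0],
  [3, 1, 3, 3, 1, 2, 2],
  [0, 3, 0, 3, 1, 1],
  [3, 1, 3, 0, 3, 0, 0, 0],
  [2, 1, 3, 1, 3, 1, 1],
  [1, 1, 3, 3, 1, 2, 2],
  [2, 2, 1, 2, 1, 2, 0, 3, 1],
  [2, 0, 0, 3, 0],
  [0, 0, 3, 1, 3, 1, 3],
  [1, 2, 0, 3, 3, 0],
  [1, 1, 2, 2, 0, 2, 2, 0],
  [0, 2, 2, 1, 1, 3],
  [1, 2, 2, 0, 3, 3, 1, 1],
  [3, 0, 2, 1, 3],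
  [1, 2, 2, 0, 3, 3],
  [0, 0],
  [1, 2, 1, 2, 1, 1, 3, 0],
  [2, 2, 0, 2, 1, 3],
  [0, 2, 1, 3, 3, 0, 0],
  [0, 2, 2, 1, 3, 1, 1],
  [0, 3, 1, 1, 3, 3, 1, 3],
  [2, 0, 0, 3, 3, 1, 3],
  [3, 3, 1, 1, 3, 3, 1, 3],
  [0, 3, 0, 3, 3, 0, 3],
  [1, 3, 0, 3, 0, 0, 0],
  [1, 2, 2, 1, 3, 3, 0, 2, 2, 1],
  [0, 2, 1, 2, 2, 1],
  [3, 0, 2, 1, 3, 3, 1]]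

set_option maxRecDepth 1000000 in
theorem conjL_length : conjL.length = 1463 := by decide +kernel

set_option maxRecDepth 1000000 in
theorem conjL_sorted : incrFrom 0 (conjL.map (fun u => invar (conjW u))) = true := by
  decide +kernel

end Cfsg.Agent.Helper5.J1
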