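import Mathlib

/-!
# A simplicity criterion for groups of order 175560

A group of order `175560 = 2³·3·5·7·11·19` is simple as soon as, for each odd prime divisor `p`,
some element of order `p` has the whole group as its normal closure, and no involution is central.
-/

set_option autoImplicit false

namespace Cfsg.Agent.Helper5.J1

variable {G : Type*} [Group G]

/-- the odd prime divisors of `175560`. -/
def oddPrimes : List ℕ := [3, 5, 7, 11, 19]

theorem oddPrimes_spec : ∀ p ∈ oddPrimes, p.Prime ∧ p ∣ 175560 ∧ ¬ p ^ 2 ∣ 175560 := by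
  decide

theorem dvd_eight_of_coprime {n : ℕ} (hn : n ∣ 175560) (h : ∀ p ∈ oddPrimes, ¬ p ∣ n) :
    n ∣ 8 := by
  have h3 : Nat.Coprime n 3 := (Nat.Prime.coprime_iff_not_dvd (by norm_num)).mpr (h 3 (by decide)) |>.symm
  have h5 : Nat.Coprime n 5 := (Nat.Prime.coprime_iff_not_dvd (by norm_num)).mpr (h 5 (by decide)) |>.symm
  have h7 : Nat.Coprime n 7 := (Nat.Prime.coprime_iff_not_dvd (by norm_num)).mpr (h 7 (by decide)) |>.symm
  have h11 : Nat.Coprime n 11 := (Nat.Prime.coprime_iff_not_dvd (by norm_num)).mpr (h 11 (by decide)) |>.symm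
  have h19 : Nat.Coprime n 19 := (Nat.Prime.coprime_iff_not_dvd (by norm_num)).mpr (h 19 (by decide)) |>.symm
  have e : (175560 : ℕ) = 8 * 3 * 5 * 7 * 11 * 19 := by norm_num
  rw [e] at hn
  have a1 := (Nat.Coprime.dvd_mul_right h19).mp hn
  have a2 := (Nat.Coprime.dvd_mul_right h11).mp a1
  have a3 := (Nat.Coprime.dvd_mul_right h7).mp a2
  have a4 := (Nat.Coprime.dvd_mul_right h5).mp a3
  exact (Nat.Coprime.dvd_mul_right h3).mp a4

section

variable [Finite G]

/-- a subgroup containing an element of order `p` and of `p`-power order dividing `175560` has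
order `p`. -/
theorem sylow_card_eq (hcard : Nat.card G = 175560) {p : ℕ} (hp : p ∈ oddPrimes) [Fact p.Prime]
    (P : Sylow p G) {g : G} (hg : orderOf g = p) (hgP : g ∈ (P : Subgroup G)) :
    Nat.card (P : Subgroup G) = p := by
  obtain ⟨hpp, -, hp2⟩ := oddPrimes_spec p hp
  obtain ⟨n, hn⟩ := IsPGroup.iff_card.mp P.isPGroup'
  have hdvd : Nat.card (P : Subgroup G) ∣ 175560 := by
    rw [← hcard]; exact Subgroup.card_subgroup_dvd_card _
  have h1 : p ∣ Nat.card (P : Subgroup G) := by
    have h := orderOf_dvd_natCard (⟨g, hgP⟩ : (P : Subgroup G))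
    rwa [Subgroup.orderOf_mk, hg] at h
  rw [hn] at h1 hdvd ⊢
  rcases n with _ | _ | n
  · simp at h1
    exact absurd h1 hpp.one_lt.ne'
  · simp
  · exfalso
    apply hp2
    exact dvd_trans (pow_dvd_pow p (by omega)) hdvd

/-- a normal subgroup whose order is divisible by an odd prime `p` contains every element of
order `p`. -/
theorem mem_of_dvd_card (hcard : Nat.card G = 175560) {p : ℕ} (hp : p ∈ oddPrimes)
    (N : Subgroup G) [N.Normal] (hpN : p ∣ Nat.card N) {g : G} (hg : orderOf g = p) : g ∈ N := by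
  obtain ⟨hpp, -, -⟩ := oddPrimes_spec p hp
  have : Fact p.Prime := ⟨hpp⟩
  obtain ⟨h, hh⟩ := exists_prime_orderOf_dvd_card' p hpN
  have hh' : orderOf (h : G) = p := by rw [Subgroup.orderOf_coe]; exact hh
  -- Sylow subgroups containing g and h
  obtain ⟨P, hP⟩ := (IsPGroup.of_card (p := p) (n := 1)
    (by rw [Nat.card_zpowers, hg, pow_one] : Nat.card (Subgroup.zpowers g) = p ^ 1)).exists_le_sylow
  obtain ⟨Q, hQ⟩ := (IsPGroup.of_card (p := p) (n := 1)
    (by rw [Nat.card_zpowers, hh', pow_one] : Nat.card (Subgroup.zpowers (h : G)) = p ^ 1)).exists_le_sylow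
  have hgP : g ∈ (P : Subgroup G) := hP (Subgroup.mem_zpowers g)
  have hhQ : (h : G) ∈ (Q : Subgroup G) := hQ (Subgroup.mem_zpowers _)
  have cP := sylow_card_eq hcard hp P hg hgP
  have cQ := sylow_card_eq hcard hp Q hh' hhQ
  have eQ : Subgroup.zpowers (h : G) = (Q : Subgroup G) := by
    apply Subgroup.eq_of_le_of_card_ge hQ
    rw [cQ, Nat.card_zpowers, hh']
  obtain ⟨k, hk⟩ := MulAction.exists_smul_eq G P Q
  have hmem : k * g * k⁻¹ ∈ (Q : Subgroup G) := by
    rw [← hk, Sylow.coe_subgroup_smul]
    have := Subgroup.smul_mem_pointwise_smul g (MulAut.conj k) (P : Subgroup G) hgP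
    simpa [MulAut.smul_def] using this
  rw [← eQ] at hmem
  have hN : k * g * k⁻¹ ∈ N := by
    have hle : Subgroup.zpowers (h : G) ≤ N := by
      rw [Subgroup.zpowers_le]; exact h.2
    exact hle hmem
  have := ‹N.Normal›.conj_mem _ hN k⁻¹
  simpa [mul_assoc] using this

/-- an element of order 19 centralizes every normal subgroup of order at most 8. -/
theorem commute_of_card_le {g : G} (hg : orderOf g = 19) (N : Subgroup G) [N.Normal]
    (hN : Nat.card N ≤ 8) (n : G) (hn : n ∈ N) : g * n = n * g := by
  have := Fintype.ofFinite N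
  let f : Fin 19 → N := fun i => ⟨g ^ i.val * n * (g ^ i.val)⁻¹, ‹N.Normal›.conj_mem n hn _⟩
  have hlt : Fintype.card N < Fintype.card (Fin 19) := by
    rw [Fintype.card_fin, ← Nat.card_eq_fintype_card]; omega
  obtain ⟨i, j, hij, hf⟩ := Fintype.exists_ne_map_eq_of_card_lt f hlt
  have hf' : g ^ i.val * n * (g ^ i.val)⁻¹ = g ^ j.val * n * (g ^ j.val)⁻¹ :=
    congrArg Subtype.val hf
  have key : ∀ a b : ℕ, a < b → b < 19 → g ^ a * n * (g ^ a)⁻¹ = g ^ b * n * (g ^ b)⁻¹ →
      g * n = n * g := by
    intro a b hab hb heq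
    have hd : g ^ (b - a) * n = n * g ^ (b - a) := by
      have hb' : g ^ b = g ^ a * g ^ (b - a) := by rw [← pow_add]; congr 1; omega
      rw [hb'] at heq
      have h2 : n = g ^ (b - a) * n * (g ^ (b - a))⁻¹ := by
        have := congrArg (fun t => (g ^ a)⁻¹ * t * g ^ a) heq
        simp only [mul_assoc, mul_inv_rev, inv_mul_cancel_left, inv_mul_cancel, mul_one] at this
        simpa [mul_assoc] using this
      calc g ^ (b - a) * n = g ^ (b - a) * n * (g ^ (b - a))⁻¹ * g ^ (b - a) := by
            simp [mul_assoc]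
        _ = n * g ^ (b - a) := by rw [← h2]
    have hcop : Nat.Coprime 19 (b - a) := by
      rw [Nat.Prime.coprime_iff_not_dvd (by norm_num)]
      intro hdvd
      have := Nat.le_of_dvd (by omega) hdvd
      omega
    have hmem : g ∈ Subgroup.zpowers (g ^ (b - a)) := by
      have hord : orderOf (g ^ (b - a)) = orderOf g :=
        Nat.Coprime.orderOf_pow (by rw [hg]; exact hcop)
      have hle : Subgroup.zpowers (g ^ (b - a)) ≤ Subgroup.zpowers g :=
        Subgroup.zpowers_le.mpr (Subgroup.pow_mem _ (Subgroup.mem_zpowers g) _)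
      have : Subgroup.zpowers (g ^ (b - a)) = Subgroup.zpowers g := by
        apply Subgroup.eq_of_le_of_card_ge hle
        rw [Nat.card_zpowers, Nat.card_zpowers, hord]
      rw [this]
      exact Subgroup.mem_zpowers g
    obtain ⟨k, hk⟩ := Subgroup.mem_zpowers_iff.mp hmem
    have hc : Commute (g ^ (b - a)) n := hd
    have : Commute ((g ^ (b - a)) ^ k) n := hc.zpow_left k
    rw [hk] at this
    exact this
  rcases lt_or_gt_of_ne (fun h => hij (Fin.ext h) : i.val ≠ j.val) with h | h
  · exact key i.val j.val h j.isLt hf'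
  · exact key j.val i.val h i.isLt hf'.symm

/-- **Simplicity criterion.** -/
theorem isSimpleGroup_of_data (hcard : Nat.card G = 175560) (g : ℕ → G)
    (hord : ∀ p ∈ oddPrimes, orderOf (g p) = p)
    (hncl : ∀ p ∈ oddPrimes, Subgroup.normalClosure {g p} = ⊤)
    (hZ : ∀ t : G, t ∈ Subgroup.center G → orderOf t = 2 → False) : IsSimpleGroup G := by
  have hnt : Nontrivial G := by
    rw [← Finite.one_lt_card_iff_nontrivial, hcard]; norm_num
  refine { exists_pair_ne := hnt.exists_pair_ne, eq_bot_or_eq_top_of_normal := ?_ }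
  intro N hN
  -- a normal subgroup of order divisible by an odd prime is everything
  have claimA : ∀ (K : Subgroup G) [K.Normal] (p : ℕ), p ∈ oddPrimes → p ∣ Nat.card K → K = ⊤ := by
    intro K _ p hp hpK
    have hmem := mem_of_dvd_card hcard hp K hpK (hord p hp)
    rw [eq_top_iff, ← hncl p hp]
    exact Subgroup.normalClosure_le_normal (Set.singleton_subset_iff.mpr hmem)
  by_cases hodd : ∃ p ∈ oddPrimes, p ∣ Nat.card N
  · obtain ⟨p, hp, hpN⟩ := hodd
    exact Or.inr (claimA N p hp hpN)
  · left
    simp only [not_exists, not_and] at hodd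
    have hdvd : Nat.card N ∣ 175560 := by rw [← hcard]; exact Subgroup.card_subgroup_dvd_card N
    have h8 : Nat.card N ∣ 8 := dvd_eight_of_coprime hdvd hodd
    have hle8 : Nat.card N ≤ 8 := Nat.le_of_dvd (by norm_num) h8
    -- the centralizer of N contains an element of order 19, so it is everything
    have hC : Subgroup.centralizer (N : Set G) = ⊤ := by
      apply claimA _ 19 (by decide)
      have hmem : g 19 ∈ Subgroup.centralizer (N : Set G) := by
        rw [Subgroup.mem_centralizer_iff]
        intro n hn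
        exact (commute_of_card_le (hord 19 (by decide)) N hle8 n hn).symm
      have h := orderOf_dvd_natCard (⟨g 19, hmem⟩ : Subgroup.centralizer (N : Set G))
      rwa [Subgroup.orderOf_mk, hord 19 (by decide)] at h
    have hcen : N ≤ Subgroup.center G := by
      intro n hn
      rw [Subgroup.mem_center_iff]
      intro x
      have hx : x ∈ Subgroup.centralizer (N : Set G) := by rw [hC]; exact Subgroup.mem_top x
      exact (Subgroup.mem_centralizer_iff.mp hx n hn).symm
    by_contra hne
    -- N is a non-trivial 2-group: it has an involution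
    have h2 : 2 ∣ Nat.card N := by
      have hgt : 1 < Nat.card N := by
        rw [Subgroup.one_lt_card_iff_ne_bot]; exact hne
      have : Nat.card N ∈ Nat.divisors 8 := Nat.mem_divisors.mpr ⟨h8, by norm_num⟩
      have hdiv : Nat.divisors 8 = {1, 2, 4, 8} := by decide
      rw [hdiv] at this
      simp only [Finset.mem_insert, Finset.mem_singleton] at this
      rcases this with h | h | h | h <;> rw [h] <;> first | omega | norm_num
    haveI : Fact (Nat.Prime 2) := ⟨Nat.prime_two⟩
    obtain ⟨t, ht⟩ := exists_prime_orderOf_dvd_card' 2 h2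
    exact hZ t (hcen t.2) (by rw [Subgroup.orderOf_coe]; exact ht)

end

end Cfsg.Agent.Helper5.J1
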