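import Mathlib
import Cfsg.Prelude.Def_Spor_J1
import Cfsg.Prelude.Def_Sporadic
import Cfsg.Agent.Helper5.J1Mat
import Cfsg.Agent.Helper5.J1Data
import Cfsg.Agent.Helper5.J1Abs

/-!
# The Janko group `J₁ = ⟨X, Y⟩ ≤ GL₇(11)` is simple of order 175560, given that its order divides
175560 (which follows from a presentation, see `J1Pres.lean`).
-/

set_option autoImplicit false

namespace Cfsg.Agent.Helper5.J1

open Cfsg Cfsg.Spor

theorem letterM_invL : ∀ c : ℕ, letterM (invL c) = (letterM c)⁻¹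
  | 0 => rfl
  | 1 => (inv_inv _).symm
  | 2 => rfl
  | 3 => (inv_inv _).symm
  | (n + 4) => by simp [invL, letterM]

theorem invW_cons (c : ℕ) (w : List ℕ) : invW (c :: w) = invW w ++ [invL c] := by
  simp [invW]

theorem evalW_invW : ∀ w : List ℕ, evalW (invW w) = (evalW w)⁻¹
  | [] => by simp [invW, evalW]
  | c :: w => by
    have h1 : evalW [invL c] = (letterM c)⁻¹ := by simp [evalW, letterM_invL]
    rw [invW_cons, evalW_append, evalW_invW w, h1, evalW_cons c w, mul_inv_rev]

theorem letterM_mem : ∀ c : ℕ, letterM c ∈ Spor.J1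
  | 0 => Subgroup.subset_closure (Set.mem_insert _ _)
  | 1 => Subgroup.inv_mem _ (Subgroup.subset_closure (Set.mem_insert _ _))
  | 2 => Subgroup.subset_closure (Set.mem_insert_of_mem _ (Set.mem_singleton _))
  | 3 => Subgroup.inv_mem _ (Subgroup.subset_closure (Set.mem_insert_of_mem _ (Set.mem_singleton _)))
  | (_ + 4) => Subgroup.one_mem _

theorem evalW_mem : ∀ w : List ℕ, evalW w ∈ Spor.J1
  | [] => Subgroup.one_mem _
  | c :: w => by
    rw [evalW_cons]
    exact Subgroup.mul_mem _ (letterM_mem c) (evalW_mem w)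

/-- the element of `J₁` spelled by a word. -/
def el (w : List ℕ) : ↥Spor.J1 := ⟨evalW w, evalW_mem w⟩

theorem el_nil : el [] = 1 := rfl

theorem el_append (w w' : List ℕ) : el (w ++ w') = el w * el w' :=
  Subtype.ext (evalW_append w w')

theorem el_invW (w : List ℕ) : el (invW w) = (el w)⁻¹ :=
  Subtype.ext (evalW_invW w)

theorem el_eq_of_eqW {w w' : List ℕ} (h : eqW w w' = true) : el w = el w' :=
  Subtype.ext (evalW_eq_of_eqW h)

theorem el_ne_of_neW {w w' : List ℕ} {v : ℕ} (h : neW w w' v = true) : el w ≠ el w' :=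
  fun heq => evalW_ne_of_neW h (congrArg Subtype.val heq)

theorem el_pow (w : List ℕ) : ∀ n : ℕ, el w ^ n = el (List.replicate n w).flatten
  | 0 => by simp [el_nil]
  | n + 1 => by
    rw [pow_succ', el_pow w n, List.replicate_succ, List.flatten_cons, el_append]

theorem orderOf_el {w : List ℕ} {p v : ℕ} (hp : p.Prime)
    (h1 : eqW (List.replicate p w).flatten [] = true) (h2 : neW w [] v = true) :
    orderOf (el w) = p := by
  have : Fact p.Prime := ⟨hp⟩
  apply orderOf_eq_prime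
  · rw [el_pow, el_eq_of_eqW h1, el_nil]
  · rw [← el_nil]; exact el_ne_of_neW h2

theorem closure_el : Subgroup.closure {el [0], el [2]} = (⊤ : Subgroup ↥Spor.J1) := by
  have h := Subgroup.closure_closure_coe_preimage (k := ({jankoX, jankoY} : Set (GL (Fin 7) (ZMod 11))))
  have hset : (((↑) : ↥(Subgroup.closure ({jankoX, jankoY} : Set (GL (Fin 7) (ZMod 11)))) →
      GL (Fin 7) (ZMod 11)) ⁻¹' {jankoX, jankoY}) = {el [0], el [2]} := by
    ext g
    simp only [Set.mem_preimage, Set.mem_insert_iff, Set.mem_singleton_iff]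
    constructor
    · rintro (h | h)
      · left; apply Subtype.ext; rw [h]; simp [el, evalW, letterM]
      · right; apply Subtype.ext; rw [h]; simp [el, evalW, letterM]
    · rintro (h | h)
      · left; rw [h]; simp [el, evalW, letterM]
      · right; rw [h]; simp [el, evalW, letterM]
  rw [hset] at h
  exact h

theorem el_cpW_mem (N : Subgroup ↥Spor.J1) [hN : N.Normal] (g : List ℕ) (hg : el g ∈ N) :
    ∀ l : List (List ℕ × Bool), el (cpW g l) ∈ N
  | [] => by rw [cpW, el_nil]; exact N.one_mem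
  | (u, e) :: l => by
    rw [cpW, el_append, el_append, el_append, el_invW]
    refine N.mul_mem (hN.conj_mem _ ?_ _) (el_cpW_mem N g hg l)
    cases e
    · rw [cond_false, el_invW]; exact N.inv_mem hg
    · rw [cond_true]; exact hg

theorem normalClosure_eq_top {g : List ℕ} {usX usY : List (List ℕ × Bool)}
    (hX : eqW [0] (cpW g usX) = true) (hY : eqW [2] (cpW g usY) = true) :
    Subgroup.normalClosure {el g} = (⊤ : Subgroup ↥Spor.J1) := by
  rw [eq_top_iff, ← closure_el, Subgroup.closure_le]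
  have hg : el g ∈ Subgroup.normalClosure {el g} :=
    Subgroup.subset_normalClosure (Set.mem_singleton _)
  rintro x (rfl | rfl)
  · rw [el_eq_of_eqW hX]
    exact el_cpW_mem _ g hg usX
  · rw [el_eq_of_eqW hY]
    exact el_cpW_mem _ g hg usY

/-! ### the elements of prime order -/

theorem mem_oddPrimes {p : ℕ} (hp : p ∈ oddPrimes) :
    p = 3 ∨ p = 5 ∨ p = 7 ∨ p = 11 ∨ p = 19 := by
  simpa [oddPrimes] using hp

theorem gW_spec {p : ℕ} (hp : p ∈ oddPrimes) :
    eqW (List.replicate p (gW p)).flatten [] = true ∧ neW (gW p) [] (gV p) = true := by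
  have h := List.all_eq_true.mp gW_ok p hp
  rwa [Bool.and_eq_true] at h

theorem orderOf_gW {p : ℕ} (hp : p ∈ oddPrimes) : orderOf (el (gW p)) = p :=
  orderOf_el (oddPrimes_spec p hp).1 (gW_spec hp).1 (gW_spec hp).2

theorem ncl_gW {p : ℕ} (hp : p ∈ oddPrimes) :
    Subgroup.normalClosure {el (gW p)} = (⊤ : Subgroup ↥Spor.J1) := by
  have h := List.all_eq_true.mp ncl_ok p hp
  rw [Bool.and_eq_true] at h
  exact normalClosure_eq_top h.1 h.2

/-! ### the elementary abelian subgroup of order 8 -/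

theorem fMul_lt (i j : ℕ) : fMul i j < 8 := Nat.mod_lt _ (by norm_num)

theorem fMul_self : ∀ i < 8, fMul i i = 0 := by decide

theorem fW_mul {i j : ℕ} (hi : i < 8) (hj : j < 8) :
    el (fW i) * el (fW j) = el (fW (fMul i j)) := by
  have h1 := List.all_eq_true.mp fTab_ok i (List.mem_range.mpr hi)
  have h2 := List.all_eq_true.mp h1 j (List.mem_range.mpr hj)
  rw [← el_append]
  exact el_eq_of_eqW h2

/-- the subgroup of order 8. -/
def E8 : Subgroup ↥Spor.J1 where
  carrier := {g | ∃ i, i < 8 ∧ g = el (fW i)}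
  mul_mem' := by
    rintro _ _ ⟨i, hi, rfl⟩ ⟨j, hj, rfl⟩
    exact ⟨fMul i j, fMul_lt i j, fW_mul hi hj⟩
  one_mem' := ⟨0, by norm_num, rfl⟩
  inv_mem' := by
    rintro _ ⟨i, hi, rfl⟩
    refine ⟨i, hi, ?_⟩
    have h := fW_mul hi hi
    rw [fMul_self i hi] at h
    exact inv_eq_of_mul_eq_one_left h

theorem fW_inj {i j : ℕ} (hi : i < 8) (hj : j < 8) (h : el (fW i) = el (fW j)) : i = j := by
  by_contra hne
  have h1 := List.all_eq_true.mp fW_ne i (List.mem_range.mpr hi)
  have h2 := List.all_eq_true.mp h1 j (List.mem_range.mpr hj)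
  rw [Bool.or_eq_true, Nat.beq_eq] at h2
  rcases h2 with h2 | h2
  · exact hne h2
  · exact el_ne_of_neW h2 h

theorem card_E8 : Nat.card E8 = 8 := by
  let f : Fin 8 → E8 := fun i => ⟨el (fW i.val), ⟨i.val, i.isLt, rfl⟩⟩
  have hf : Function.Bijective f := by
    constructor
    · intro i j h
      exact Fin.ext (fW_inj i.isLt j.isLt (congrArg Subtype.val h))
    · rintro ⟨g, i, hi, rfl⟩
      exact ⟨⟨i, hi⟩, rfl⟩
  rw [← Nat.card_congr (Equiv.ofBijective f hf), Nat.card_fin]

theorem card_J1_of_dvd (h : Nat.card ↥Spor.J1 ∣ 175560) : Nat.card ↥Spor.J1 = 175560 := by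
  apply Nat.dvd_antisymm h
  have d8 : 8 ∣ Nat.card ↥Spor.J1 := by
    rw [← card_E8]; exact Subgroup.card_subgroup_dvd_card E8
  have dp : ∀ p ∈ oddPrimes, p ∣ Nat.card ↥Spor.J1 := by
    intro p hp
    rw [← orderOf_gW hp]
    exact orderOf_dvd_natCard _
  have d3 := dp 3 (by decide)
  have d5 := dp 5 (by decide)
  have d7 := dp 7 (by decide)
  have d11 := dp 11 (by decide)
  have d19 := dp 19 (by decide)
  have e : (175560 : ℕ) = 8 * 3 * 5 * 7 * 11 * 19 := by norm_num
  rw [e]
  refine Nat.Coprime.mul_dvd_of_dvd_of_dvd (by norm_num) ?_ d19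
  refine Nat.Coprime.mul_dvd_of_dvd_of_dvd (by norm_num) ?_ d11
  refine Nat.Coprime.mul_dvd_of_dvd_of_dvd (by norm_num) ?_ d7
  refine Nat.Coprime.mul_dvd_of_dvd_of_dvd (by norm_num) ?_ d5
  exact Nat.Coprime.mul_dvd_of_dvd_of_dvd (by norm_num) d8 d3

/-- no involution of `J₁` is central. -/
theorem no_central_involution (hcard : Nat.card ↥Spor.J1 = 175560) (t : ↥Spor.J1)
    (ht : t ∈ Subgroup.center ↥Spor.J1) (ht2 : orderOf t = 2) : False := by
  have : Fact (Nat.Prime 2) := ⟨Nat.prime_two⟩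
  set Z : Subgroup ↥Spor.J1 := Subgroup.zpowers t with hZ
  have hZc : Z ≤ Subgroup.center ↥Spor.J1 := Subgroup.zpowers_le.mpr ht
  have hZn : Z.Normal := ⟨fun n hn g => by
    have hc := Subgroup.mem_center_iff.mp (hZc hn) g
    have : g * n * g⁻¹ = n := by rw [hc, mul_inv_cancel_right]
    rw [this]; exact hn⟩
  have pZ : IsPGroup 2 Z := IsPGroup.of_card (n := 1) (by rw [hZ, Nat.card_zpowers, ht2, pow_one])
  have pE : IsPGroup 2 E8 := IsPGroup.of_card (n := 3) (by rw [card_E8]; norm_num)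
  have pS : IsPGroup 2 (E8 ⊔ Z : Subgroup ↥Spor.J1) := pE.to_sup_of_normal_right pZ
  obtain ⟨n, hn⟩ := IsPGroup.iff_card.mp pS
  have hdvd : 2 ^ n ∣ 175560 := by
    rw [← hn, ← hcard]; exact Subgroup.card_subgroup_dvd_card _
  have hn3 : n ≤ 3 := by
    by_contra hgt
    have : 2 ^ 4 ∣ 175560 := dvd_trans (pow_dvd_pow 2 (by omega)) hdvd
    norm_num at this
  have hle : Nat.card (E8 ⊔ Z : Subgroup ↥Spor.J1) ≤ Nat.card E8 := by
    rw [hn, card_E8]
    calc 2 ^ n ≤ 2 ^ 3 := Nat.pow_le_pow_right (by norm_num) hn3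
      _ = 8 := by norm_num
  have heq : E8 = E8 ⊔ Z := Subgroup.eq_of_le_of_card_ge le_sup_left hle
  have htE : t ∈ E8 := by
    rw [heq]; exact (le_sup_right : Z ≤ E8 ⊔ Z) (Subgroup.mem_zpowers t)
  obtain ⟨i, hi, hti⟩ := htE
  have hi0 : i ≠ 0 := by
    rintro rfl
    have : t = 1 := hti
    rw [this, orderOf_one] at ht2
    norm_num at ht2
  have h1 := List.all_eq_true.mp fW_nc i (List.mem_range.mpr hi)
  rw [Bool.or_eq_true, Nat.beq_eq] at h1
  rcases h1 with h1 | h1
  · exact hi0 h1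
  · apply el_ne_of_neW h1
    rw [el_append, el_append, ← hti]
    exact (Subgroup.mem_center_iff.mp ht (el [0])).symm

theorem isJ1_of_dvd (h : Nat.card ↥Spor.J1 ∣ 175560) : Cfsg.IsJ1 ↥Spor.J1 := by
  have hcard := card_J1_of_dvd h
  refine ⟨?_, hcard⟩
  exact isSimpleGroup_of_data hcard (fun p => el (gW p)) (fun p hp => orderOf_gW hp)
    (fun p hp => ncl_gW hp) (no_central_involution hcard)

end Cfsg.Agent.Helper5.J1
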