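import Cfsg.Agent.Helper5.J1TCDatD
import Cfsg.Agent.Helper5.J1TCDatT
import Cfsg.Agent.Helper5.TCIB

/-! kernel checks of the coset table: J1TC -/

set_option autoImplicit false
set_option Elab.async false

namespace Cfsg.Agent.Helper5.J1TC
open Cfsg.Agent.Helper5.TC Cfsg.Agent.Helper5.TCI

set_option maxRecDepth 1000000 in
theorem relc_1_0 : fixPtsF W_1 25080 0 = true := by decide +kernel

set_option maxRecDepth 1000000 in
theorem relc_3_0 : fixPtsF W_3 12500 0 = true := by decide +kernel

set_option maxRecDepth 1000000 in
theorem relc_4_0 : fixPtsF W_4 11764 0 = true := by decide +kernel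

set_option maxRecDepth 1000000 in
theorem relc_0_0 : fixPtsF W_0 25080 0 = true := by decide +kernel

set_option maxRecDepth 1000000 in
theorem relc_5_0 : fixPtsF W_5 25080 0 = true := by decide +kernel

set_option maxRecDepth 1000000 in
theorem relc_7_0 : fixPtsF W_7 25080 0 = true := by decide +kernel

set_option maxRecDepth 1000000 in
theorem inv_0_0 : invRowFI ctF 25080 0 1 25080 0 = true := by decide +kernel

set_option maxRecDepth 1000000 in
theorem inv_2_0 : invRowFI ctF 25080 2 3 25080 0 = true := by decide +kernel

set_option maxRecDepth 1000000 in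
theorem conn_0 : connF ctF 4 25080 0 = true := by decide +kernel

set_option maxRecDepth 1000000 in
theorem relc_2_2 : fixPtsF W_2 80 25000 = true := by decide +kernel

set_option maxRecDepth 1000000 in
theorem relc_3_2 : fixPtsF W_3 80 25000 = true := by decide +kernel

end Cfsg.Agent.Helper5.J1TC
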