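import Cfsg.Agent.Helper5.J1TCChkE0
import Cfsg.Agent.Helper5.J1TCChkE1
import Cfsg.Agent.Helper5.J1TCChkR0
import Cfsg.Agent.Helper5.J1TCChkR1
import Cfsg.Agent.Helper5.J1TCChkA
import Cfsg.Agent.Helper5.TCIB

/-! summary of the kernel checks: J1TC -/

set_option autoImplicit false
set_option Elab.async false

namespace Cfsg.Agent.Helper5.J1TC
open Cfsg.Agent.Helper5.TC Cfsg.Agent.Helper5.TCI

theorem edgesx_0 : ∀ v, v < 60352 → edgeOKI iota E 0 v = true := by
  intro v hv
  rcases Nat.lt_or_ge v 44054 with h | h
  · rcases Nat.lt_or_ge v 29571 with h | h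
    · rcases Nat.lt_or_ge v 12323 with h | h
      · rcases Nat.lt_or_ge v 6293 with h | h
        · exact edgesRangeI_spec iota E 0 6293 0 edges_0_0 v (by omega) (by omega)
        · exact edgesRangeI_spec iota E 0 6030 6293 edges_0_1 v (by omega) (by omega)
      · rcases Nat.lt_or_ge v 18353 with h | h
        · exact edgesRangeI_spec iota E 0 6030 12323 edges_0_2 v (by omega) (by omega)
        · rcases Nat.lt_or_ge v 24207 with h | h
          · exact edgesRangeI_spec iota E 0 5854 18353 edges_0_3 v (by omega) (by omega)
          · exact edgesRangeI_spec iota E 0 5364 24207 edges_0_4 v (by omega) (by omega)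
    · rcases Nat.lt_or_ge v 36241 with h | h
      · rcases Nat.lt_or_ge v 33453 with h | h
        · exact edgesRangeI_spec iota E 0 3882 29571 edges_0_5 v (by omega) (by omega)
        · exact edgesRangeI_spec iota E 0 2788 33453 edges_0_6 v (by omega) (by omega)
      · rcases Nat.lt_or_ge v 38892 with h | h
        · exact edgesRangeI_spec iota E 0 2651 36241 edges_0_7 v (by omega) (by omega)
        · rcases Nat.lt_or_ge v 41410 with h | h
          · exact edgesRangeI_spec iota E 0 2518 38892 edges_0_8 v (by omega) (by omega)
          · exact edgesRangeI_spec iota E 0 2644 41410 edges_0_9 v (by omega) (by omega)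
  · rcases Nat.lt_or_ge v 56185 with h | h
    · rcases Nat.lt_or_ge v 48974 with h | h
      · rcases Nat.lt_or_ge v 46549 with h | h
        · exact edgesRangeI_spec iota E 0 2495 44054 edges_0_10 v (by omega) (by omega)
        · exact edgesRangeI_spec iota E 0 2425 46549 edges_0_11 v (by omega) (by omega)
      · rcases Nat.lt_or_ge v 51586 with h | h
        · exact edgesRangeI_spec iota E 0 2612 48974 edges_0_12 v (by omega) (by omega)
        · rcases Nat.lt_or_ge v 54081 with h | h
          · exact edgesRangeI_spec iota E 0 2495 51586 edges_0_13 v (by omega) (by omega)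
          · exact edgesRangeI_spec iota E 0 2104 54081 edges_0_14 v (by omega) (by omega)
    · rcases Nat.lt_or_ge v 58514 with h | h
      · rcases Nat.lt_or_ge v 57433 with h | h
        · exact edgesRangeI_spec iota E 0 1248 56185 edges_0_15 v (by omega) (by omega)
        · exact edgesRangeI_spec iota E 0 1081 57433 edges_0_16 v (by omega) (by omega)
      · rcases Nat.lt_or_ge v 59383 with h | h
        · exact edgesRangeI_spec iota E 0 869 58514 edges_0_17 v (by omega) (by omega)
        · rcases Nat.lt_or_ge v 60157 with h | h
          · exact edgesRangeI_spec iota E 0 774 59383 edges_0_18 v (by omega) (by omega)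
          · exact edgesRangeI_spec iota E 0 195 60157 edges_0_19 v (by omega) (by omega)

theorem edgesx_1 : ∀ v, v < 60352 → edgeOKI iota E 1 v = true := by
  intro v hv
  rcases Nat.lt_or_ge v 41971 with h | h
  · rcases Nat.lt_or_ge v 27404 with h | h
    · rcases Nat.lt_or_ge v 14513 with h | h
      · rcases Nat.lt_or_ge v 5042 with h | h
        · exact edgesRangeI_spec iota E 1 5042 0 edges_1_0 v (by omega) (by omega)
        · rcases Nat.lt_or_ge v 9816 with h | h
          · exact edgesRangeI_spec iota E 1 4774 5042 edges_1_1 v (by omega) (by omega)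
          · exact edgesRangeI_spec iota E 1 4697 9816 edges_1_2 v (by omega) (by omega)
      · rcases Nat.lt_or_ge v 19118 with h | h
        · exact edgesRangeI_spec iota E 1 4605 14513 edges_1_3 v (by omega) (by omega)
        · rcases Nat.lt_or_ge v 23268 with h | h
          · exact edgesRangeI_spec iota E 1 4150 19118 edges_1_4 v (by omega) (by omega)
          · exact edgesRangeI_spec iota E 1 4136 23268 edges_1_5 v (by omega) (by omega)
    · rcases Nat.lt_or_ge v 35226 with h | h
      · rcases Nat.lt_or_ge v 31082 with h | h
        · exact edgesRangeI_spec iota E 1 3678 27404 edges_1_6 v (by omega) (by omega)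
        · rcases Nat.lt_or_ge v 33322 with h | h
          · exact edgesRangeI_spec iota E 1 2240 31082 edges_1_7 v (by omega) (by omega)
          · exact edgesRangeI_spec iota E 1 1904 33322 edges_1_8 v (by omega) (by omega)
      · rcases Nat.lt_or_ge v 38511 with h | h
        · rcases Nat.lt_or_ge v 36869 with h | h
          · exact edgesRangeI_spec iota E 1 1643 35226 edges_1_9 v (by omega) (by omega)
          · exact edgesRangeI_spec iota E 1 1642 36869 edges_1_10 v (by omega) (by omega)
        · rcases Nat.lt_or_ge v 40310 with h | h
          · exact edgesRangeI_spec iota E 1 1799 38511 edges_1_11 v (by omega) (by omega)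
          · exact edgesRangeI_spec iota E 1 1661 40310 edges_1_12 v (by omega) (by omega)
  · rcases Nat.lt_or_ge v 53595 with h | h
    · rcases Nat.lt_or_ge v 46985 with h | h
      · rcases Nat.lt_or_ge v 43610 with h | h
        · exact edgesRangeI_spec iota E 1 1639 41971 edges_1_13 v (by omega) (by omega)
        · rcases Nat.lt_or_ge v 45357 with h | h
          · exact edgesRangeI_spec iota E 1 1747 43610 edges_1_14 v (by omega) (by omega)
          · exact edgesRangeI_spec iota E 1 1628 45357 edges_1_15 v (by omega) (by omega)
      · rcases Nat.lt_or_ge v 50313 with h | h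
        · rcases Nat.lt_or_ge v 48595 with h | h
          · exact edgesRangeI_spec iota E 1 1610 46985 edges_1_16 v (by omega) (by omega)
          · exact edgesRangeI_spec iota E 1 1718 48595 edges_1_17 v (by omega) (by omega)
        · rcases Nat.lt_or_ge v 51952 with h | h
          · exact edgesRangeI_spec iota E 1 1639 50313 edges_1_18 v (by omega) (by omega)
          · exact edgesRangeI_spec iota E 1 1643 51952 edges_1_19 v (by omega) (by omega)
    · rcases Nat.lt_or_ge v 57638 with h | h
      · rcases Nat.lt_or_ge v 55244 with h | h
        · exact edgesRangeI_spec iota E 1 1649 53595 edges_1_20 v (by omega) (by omega)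
        · rcases Nat.lt_or_ge v 56598 with h | h
          · exact edgesRangeI_spec iota E 1 1354 55244 edges_1_21 v (by omega) (by omega)
          · exact edgesRangeI_spec iota E 1 1040 56598 edges_1_22 v (by omega) (by omega)
      · rcases Nat.lt_or_ge v 59433 with h | h
        · rcases Nat.lt_or_ge v 58587 with h | h
          · exact edgesRangeI_spec iota E 1 949 57638 edges_1_23 v (by omega) (by omega)
          · exact edgesRangeI_spec iota E 1 846 58587 edges_1_24 v (by omega) (by omega)
        · rcases Nat.lt_or_ge v 60210 with h | h
          · exact edgesRangeI_spec iota E 1 777 59433 edges_1_25 v (by omega) (by omega)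
          · exact edgesRangeI_spec iota E 1 142 60210 edges_1_26 v (by omega) (by omega)

theorem edgesx_2 : ∀ v, v < 60352 → edgeOKI iota E 2 v = true := by
  intro v hv
  rcases Nat.lt_or_ge v 41307 with h | h
  · rcases Nat.lt_or_ge v 24164 with h | h
    · rcases Nat.lt_or_ge v 12361 with h | h
      · rcases Nat.lt_or_ge v 6275 with h | h
        · exact edgesRangeI_spec iota E 2 6275 0 edges_2_0 v (by omega) (by omega)
        · exact edgesRangeI_spec iota E 2 6086 6275 edges_2_1 v (by omega) (by omega)
      · rcases Nat.lt_or_ge v 18323 with h | h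
        · exact edgesRangeI_spec iota E 2 5962 12361 edges_2_2 v (by omega) (by omega)
        · exact edgesRangeI_spec iota E 2 5841 18323 edges_2_3 v (by omega) (by omega)
    · rcases Nat.lt_or_ge v 34424 with h | h
      · rcases Nat.lt_or_ge v 29930 with h | h
        · exact edgesRangeI_spec iota E 2 5766 24164 edges_2_4 v (by omega) (by omega)
        · exact edgesRangeI_spec iota E 2 4494 29930 edges_2_5 v (by omega) (by omega)
      · rcases Nat.lt_or_ge v 37878 with h | h
        · exact edgesRangeI_spec iota E 2 3454 34424 edges_2_6 v (by omega) (by omega)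
        · exact edgesRangeI_spec iota E 2 3429 37878 edges_2_7 v (by omega) (by omega)
  · rcases Nat.lt_or_ge v 55085 with h | h
    · rcases Nat.lt_or_ge v 48045 with h | h
      · rcases Nat.lt_or_ge v 44643 with h | h
        · exact edgesRangeI_spec iota E 2 3336 41307 edges_2_8 v (by omega) (by omega)
        · exact edgesRangeI_spec iota E 2 3402 44643 edges_2_9 v (by omega) (by omega)
      · rcases Nat.lt_or_ge v 51597 with h | h
        · exact edgesRangeI_spec iota E 2 3552 48045 edges_2_10 v (by omega) (by omega)
        · exact edgesRangeI_spec iota E 2 3488 51597 edges_2_11 v (by omega) (by omega)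
    · rcases Nat.lt_or_ge v 58882 with h | h
      · rcases Nat.lt_or_ge v 57436 with h | h
        · exact edgesRangeI_spec iota E 2 2351 55085 edges_2_12 v (by omega) (by omega)
        · exact edgesRangeI_spec iota E 2 1446 57436 edges_2_13 v (by omega) (by omega)
      · rcases Nat.lt_or_ge v 60046 with h | h
        · exact edgesRangeI_spec iota E 2 1164 58882 edges_2_14 v (by omega) (by omega)
        · exact edgesRangeI_spec iota E 2 306 60046 edges_2_15 v (by omega) (by omega)

theorem edgesx_3 : ∀ v, v < 60352 → edgeOKI iota E 3 v = true := by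
  intro v hv
  rcases Nat.lt_or_ge v 42273 with h | h
  · rcases Nat.lt_or_ge v 26617 with h | h
    · rcases Nat.lt_or_ge v 13967 with h | h
      · rcases Nat.lt_or_ge v 4855 with h | h
        · exact edgesRangeI_spec iota E 3 4855 0 edges_3_0 v (by omega) (by omega)
        · rcases Nat.lt_or_ge v 9431 with h | h
          · exact edgesRangeI_spec iota E 3 4576 4855 edges_3_1 v (by omega) (by omega)
          · exact edgesRangeI_spec iota E 3 4536 9431 edges_3_2 v (by omega) (by omega)
      · rcases Nat.lt_or_ge v 18404 with h | h
        · exact edgesRangeI_spec iota E 3 4437 13967 edges_3_3 v (by omega) (by omega)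
        · rcases Nat.lt_or_ge v 22508 with h | h
          · exact edgesRangeI_spec iota E 3 4104 18404 edges_3_4 v (by omega) (by omega)
          · exact edgesRangeI_spec iota E 3 4109 22508 edges_3_5 v (by omega) (by omega)
    · rcases Nat.lt_or_ge v 35297 with h | h
      · rcases Nat.lt_or_ge v 30483 with h | h
        · exact edgesRangeI_spec iota E 3 3866 26617 edges_3_6 v (by omega) (by omega)
        · rcases Nat.lt_or_ge v 33206 with h | h
          · exact edgesRangeI_spec iota E 3 2723 30483 edges_3_7 v (by omega) (by omega)
          · exact edgesRangeI_spec iota E 3 2091 33206 edges_3_8 v (by omega) (by omega)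
      · rcases Nat.lt_or_ge v 38768 with h | h
        · rcases Nat.lt_or_ge v 37007 with h | h
          · exact edgesRangeI_spec iota E 3 1710 35297 edges_3_9 v (by omega) (by omega)
          · exact edgesRangeI_spec iota E 3 1761 37007 edges_3_10 v (by omega) (by omega)
        · rcases Nat.lt_or_ge v 40590 with h | h
          · exact edgesRangeI_spec iota E 3 1822 38768 edges_3_11 v (by omega) (by omega)
          · exact edgesRangeI_spec iota E 3 1683 40590 edges_3_12 v (by omega) (by omega)
  · rcases Nat.lt_or_ge v 53702 with h | h
    · rcases Nat.lt_or_ge v 47194 with h | h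
      · rcases Nat.lt_or_ge v 43983 with h | h
        · exact edgesRangeI_spec iota E 3 1710 42273 edges_3_13 v (by omega) (by omega)
        · rcases Nat.lt_or_ge v 45553 with h | h
          · exact edgesRangeI_spec iota E 3 1570 43983 edges_3_14 v (by omega) (by omega)
          · exact edgesRangeI_spec iota E 3 1641 45553 edges_3_15 v (by omega) (by omega)
      · rcases Nat.lt_or_ge v 50523 with h | h
        · rcases Nat.lt_or_ge v 48856 with h | h
          · exact edgesRangeI_spec iota E 3 1662 47194 edges_3_16 v (by omega) (by omega)
          · exact edgesRangeI_spec iota E 3 1667 48856 edges_3_17 v (by omega) (by omega)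
        · rcases Nat.lt_or_ge v 52177 with h | h
          · exact edgesRangeI_spec iota E 3 1654 50523 edges_3_18 v (by omega) (by omega)
          · exact edgesRangeI_spec iota E 3 1525 52177 edges_3_19 v (by omega) (by omega)
    · rcases Nat.lt_or_ge v 57407 with h | h
      · rcases Nat.lt_or_ge v 55149 with h | h
        · exact edgesRangeI_spec iota E 3 1447 53702 edges_3_20 v (by omega) (by omega)
        · rcases Nat.lt_or_ge v 56480 with h | h
          · exact edgesRangeI_spec iota E 3 1331 55149 edges_3_21 v (by omega) (by omega)
          · exact edgesRangeI_spec iota E 3 927 56480 edges_3_22 v (by omega) (by omega)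
      · rcases Nat.lt_or_ge v 59079 with h | h
        · rcases Nat.lt_or_ge v 58259 with h | h
          · exact edgesRangeI_spec iota E 3 852 57407 edges_3_23 v (by omega) (by omega)
          · exact edgesRangeI_spec iota E 3 820 58259 edges_3_24 v (by omega) (by omega)
        · rcases Nat.lt_or_ge v 59928 with h | h
          · exact edgesRangeI_spec iota E 3 849 59079 edges_3_25 v (by omega) (by omega)
          · exact edgesRangeI_spec iota E 3 424 59928 edges_3_26 v (by omega) (by omega)

theorem hA0 : ∀ v, v < 60352 → aliasOK E v = true := by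
  intro v hv
  rcases Nat.lt_or_ge v 32742 with h | h
  · rcases Nat.lt_or_ge v 16842 with h | h
    · rcases Nat.lt_or_ge v 8983 with h | h
      · rcases Nat.lt_or_ge v 3423 with h | h
        · exact aliasRange_spec E 3423 0 aliases_0 v (by omega) (by omega)
        · rcases Nat.lt_or_ge v 6186 with h | h
          · exact aliasRange_spec E 2763 3423 aliases_1 v (by omega) (by omega)
          · exact aliasRange_spec E 2797 6186 aliases_2 v (by omega) (by omega)
      · rcases Nat.lt_or_ge v 11641 with h | h
        · exact aliasRange_spec E 2658 8983 aliases_3 v (by omega) (by omega)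
        · rcases Nat.lt_or_ge v 14251 with h | h
          · exact aliasRange_spec E 2610 11641 aliases_4 v (by omega) (by omega)
          · exact aliasRange_spec E 2591 14251 aliases_5 v (by omega) (by omega)
    · rcases Nat.lt_or_ge v 23838 with h | h
      · rcases Nat.lt_or_ge v 19280 with h | h
        · exact aliasRange_spec E 2438 16842 aliases_6 v (by omega) (by omega)
        · rcases Nat.lt_or_ge v 21562 with h | h
          · exact aliasRange_spec E 2282 19280 aliases_7 v (by omega) (by omega)
          · exact aliasRange_spec E 2276 21562 aliases_8 v (by omega) (by omega)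
      · rcases Nat.lt_or_ge v 28317 with h | h
        · rcases Nat.lt_or_ge v 26096 with h | h
          · exact aliasRange_spec E 2258 23838 aliases_9 v (by omega) (by omega)
          · exact aliasRange_spec E 2221 26096 aliases_10 v (by omega) (by omega)
        · rcases Nat.lt_or_ge v 30577 with h | h
          · exact aliasRange_spec E 2260 28317 aliases_11 v (by omega) (by omega)
          · exact aliasRange_spec E 2165 30577 aliases_12 v (by omega) (by omega)
  · rcases Nat.lt_or_ge v 45912 with h | h
    · rcases Nat.lt_or_ge v 38573 with h | h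
      · rcases Nat.lt_or_ge v 34684 with h | h
        · exact aliasRange_spec E 1942 32742 aliases_13 v (by omega) (by omega)
        · rcases Nat.lt_or_ge v 36642 with h | h
          · exact aliasRange_spec E 1958 34684 aliases_14 v (by omega) (by omega)
          · exact aliasRange_spec E 1931 36642 aliases_15 v (by omega) (by omega)
      · rcases Nat.lt_or_ge v 42292 with h | h
        · rcases Nat.lt_or_ge v 40427 with h | h
          · exact aliasRange_spec E 1854 38573 aliases_16 v (by omega) (by omega)
          · exact aliasRange_spec E 1865 40427 aliases_17 v (by omega) (by omega)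
        · rcases Nat.lt_or_ge v 44157 with h | h
          · exact aliasRange_spec E 1865 42292 aliases_18 v (by omega) (by omega)
          · exact aliasRange_spec E 1755 44157 aliases_19 v (by omega) (by omega)
    · rcases Nat.lt_or_ge v 51126 with h | h
      · rcases Nat.lt_or_ge v 47726 with h | h
        · exact aliasRange_spec E 1814 45912 aliases_20 v (by omega) (by omega)
        · rcases Nat.lt_or_ge v 49440 with h | h
          · exact aliasRange_spec E 1714 47726 aliases_21 v (by omega) (by omega)
          · exact aliasRange_spec E 1686 49440 aliases_22 v (by omega) (by omega)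
      · rcases Nat.lt_or_ge v 54509 with h | h
        · rcases Nat.lt_or_ge v 52836 with h | h
          · exact aliasRange_spec E 1710 51126 aliases_23 v (by omega) (by omega)
          · exact aliasRange_spec E 1673 52836 aliases_24 v (by omega) (by omega)
        · rcases Nat.lt_or_ge v 56139 with h | h
          · exact aliasRange_spec E 1630 54509 aliases_25 v (by omega) (by omega)
          · exact aliasRange_spec E 4213 56139 aliases_26 v (by omega) (by omega)

theorem hrows0 : ∀ v, v < 60352 → tb RS v = true → rowOK2 E RS v E.D.k = true := by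
  intro v hv
  rcases Nat.lt_or_ge v 30000 with h | h
  · rcases Nat.lt_or_ge v 15000 with h | h
    · rcases Nat.lt_or_ge v 7500 with h | h
      · rcases Nat.lt_or_ge v 3000 with h | h
        · rcases Nat.lt_or_ge v 1500 with h | h
          · exact rowsRange_spec E RS 1500 0 rows_0 v (by omega) (by omega)
          · exact rowsRange_spec E RS 1500 1500 rows_1 v (by omega) (by omega)
        · rcases Nat.lt_or_ge v 4500 with h | h
          · exact rowsRange_spec E RS 1500 3000 rows_2 v (by omega) (by omega)
          · rcases Nat.lt_or_ge v 6000 with h | h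
            · exact rowsRange_spec E RS 1500 4500 rows_3 v (by omega) (by omega)
            · exact rowsRange_spec E RS 1500 6000 rows_4 v (by omega) (by omega)
      · rcases Nat.lt_or_ge v 10500 with h | h
        · rcases Nat.lt_or_ge v 9000 with h | h
          · exact rowsRange_spec E RS 1500 7500 rows_5 v (by omega) (by omega)
          · exact rowsRange_spec E RS 1500 9000 rows_6 v (by omega) (by omega)
        · rcases Nat.lt_or_ge v 12000 with h | h
          · exact rowsRange_spec E RS 1500 10500 rows_7 v (by omega) (by omega)
          · rcases Nat.lt_or_ge v 13500 with h | h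
            · exact rowsRange_spec E RS 1500 12000 rows_8 v (by omega) (by omega)
            · exact rowsRange_spec E RS 1500 13500 rows_9 v (by omega) (by omega)
    · rcases Nat.lt_or_ge v 22500 with h | h
      · rcases Nat.lt_or_ge v 18000 with h | h
        · rcases Nat.lt_or_ge v 16500 with h | h
          · exact rowsRange_spec E RS 1500 15000 rows_10 v (by omega) (by omega)
          · exact rowsRange_spec E RS 1500 16500 rows_11 v (by omega) (by omega)
        · rcases Nat.lt_or_ge v 19500 with h | h
          · exact rowsRange_spec E RS 1500 18000 rows_12 v (by omega) (by omega)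
          · rcases Nat.lt_or_ge v 21000 with h | h
            · exact rowsRange_spec E RS 1500 19500 rows_13 v (by omega) (by omega)
            · exact rowsRange_spec E RS 1500 21000 rows_14 v (by omega) (by omega)
      · rcases Nat.lt_or_ge v 25500 with h | h
        · rcases Nat.lt_or_ge v 24000 with h | h
          · exact rowsRange_spec E RS 1500 22500 rows_15 v (by omega) (by omega)
          · exact rowsRange_spec E RS 1500 24000 rows_16 v (by omega) (by omega)
        · rcases Nat.lt_or_ge v 27000 with h | h
          · exact rowsRange_spec E RS 1500 25500 rows_17 v (by omega) (by omega)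
          · rcases Nat.lt_or_ge v 28500 with h | h
            · exact rowsRange_spec E RS 1500 27000 rows_18 v (by omega) (by omega)
            · exact rowsRange_spec E RS 1500 28500 rows_19 v (by omega) (by omega)
  · rcases Nat.lt_or_ge v 45000 with h | h
    · rcases Nat.lt_or_ge v 37500 with h | h
      · rcases Nat.lt_or_ge v 33000 with h | h
        · rcases Nat.lt_or_ge v 31500 with h | h
          · exact rowsRange_spec E RS 1500 30000 rows_20 v (by omega) (by omega)
          · exact rowsRange_spec E RS 1500 31500 rows_21 v (by omega) (by omega)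
        · rcases Nat.lt_or_ge v 34500 with h | h
          · exact rowsRange_spec E RS 1500 33000 rows_22 v (by omega) (by omega)
          · rcases Nat.lt_or_ge v 36000 with h | h
            · exact rowsRange_spec E RS 1500 34500 rows_23 v (by omega) (by omega)
            · exact rowsRange_spec E RS 1500 36000 rows_24 v (by omega) (by omega)
      · rcases Nat.lt_or_ge v 40500 with h | h
        · rcases Nat.lt_or_ge v 39000 with h | h
          · exact rowsRange_spec E RS 1500 37500 rows_25 v (by omega) (by omega)
          · exact rowsRange_spec E RS 1500 39000 rows_26 v (by omega) (by omega)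
        · rcases Nat.lt_or_ge v 42000 with h | h
          · exact rowsRange_spec E RS 1500 40500 rows_27 v (by omega) (by omega)
          · rcases Nat.lt_or_ge v 43500 with h | h
            · exact rowsRange_spec E RS 1500 42000 rows_28 v (by omega) (by omega)
            · exact rowsRange_spec E RS 1500 43500 rows_29 v (by omega) (by omega)
    · rcases Nat.lt_or_ge v 52500 with h | h
      · rcases Nat.lt_or_ge v 48000 with h | h
        · rcases Nat.lt_or_ge v 46500 with h | h
          · exact rowsRange_spec E RS 1500 45000 rows_30 v (by omega) (by omega)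
          · exact rowsRange_spec E RS 1500 46500 rows_31 v (by omega) (by omega)
        · rcases Nat.lt_or_ge v 49500 with h | h
          · exact rowsRange_spec E RS 1500 48000 rows_32 v (by omega) (by omega)
          · rcases Nat.lt_or_ge v 51000 with h | h
            · exact rowsRange_spec E RS 1500 49500 rows_33 v (by omega) (by omega)
            · exact rowsRange_spec E RS 1500 51000 rows_34 v (by omega) (by omega)
      · rcases Nat.lt_or_ge v 57000 with h | h
        · rcases Nat.lt_or_ge v 54000 with h | h
          · exact rowsRange_spec E RS 1500 52500 rows_35 v (by omega) (by omega)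
          · rcases Nat.lt_or_ge v 55500 with h | h
            · exact rowsRange_spec E RS 1500 54000 rows_36 v (by omega) (by omega)
            · exact rowsRange_spec E RS 1500 55500 rows_37 v (by omega) (by omega)
        · rcases Nat.lt_or_ge v 58500 with h | h
          · exact rowsRange_spec E RS 1500 57000 rows_38 v (by omega) (by omega)
          · rcases Nat.lt_or_ge v 60000 with h | h
            · exact rowsRange_spec E RS 1500 58500 rows_39 v (by omega) (by omega)
            · exact rowsRange_spec E RS 352 60000 rows_40 v (by omega) (by omega)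

theorem cb_0 : cntBits RS 0 = 0 := rfl

theorem cb_1 : cntBits RS 20000 = 9511 := by
  have h := cntBits_step RS 0 20000
  rw [cb_0, cnt_0] at h
  exact h

theorem cb_2 : cntBits RS 40000 = 16472 := by
  have h := cntBits_step RS 20000 20000
  rw [cb_1, cnt_1] at h
  exact h

theorem cb_3 : cntBits RS 60000 = 24729 := by
  have h := cntBits_step RS 40000 20000
  rw [cb_2, cnt_2] at h
  exact h

theorem cb_4 : cntBits RS 60352 = 25080 := by
  have h := cntBits_step RS 60000 352
  rw [cb_3, cnt_3] at h
  exact h

theorem set_ok : setOK 60352 25080 RS = true :=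
  setOK_of_parts cb_4 set_zero set_lt

theorem relf_0 : ∀ v, v < 25080 → W_0 v = v := by
  intro v hv
  exact fixPtsF_spec W_0 25080 0 relc_0_0 v (by omega) (by omega)

set_option maxRecDepth 1000000 in
theorem walk_0 : ∀ v, walkT ctF (D.wlen 0) (D.wordP 0) v = W_0 v := by
  intro v
  simp only [W_0, forceL_eq]
  rfl

theorem relw_0 : ∀ v, v < 25080 → walkT ctF (D.wlen 0) (D.wordP 0) v = v := by
  intro v hv
  rw [walk_0]
  exact relf_0 v hv

theorem relf_1 : ∀ v, v < 25080 → W_1 v = v := by
  intro v hv
  exact fixPtsF_spec W_1 25080 0 relc_1_0 v (by omega) (by omega)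

set_option maxRecDepth 1000000 in
theorem walk_1 : ∀ v, walkT ctF (D.wlen 1) (D.wordP 1) v = W_1 v := by
  intro v
  simp only [W_1, forceL_eq]
  rfl

theorem relw_1 : ∀ v, v < 25080 → walkT ctF (D.wlen 1) (D.wordP 1) v = v := by
  intro v hv
  rw [walk_1]
  exact relf_1 v hv

theorem relf_2 : ∀ v, v < 25080 → W_2 v = v := by
  intro v hv
  rcases Nat.lt_or_ge v 12500 with h | h
  · exact fixPtsF_spec W_2 12500 0 relc_2_0 v (by omega) (by omega)
  · rcases Nat.lt_or_ge v 25000 with h | h
    · exact fixPtsF_spec W_2 12500 12500 relc_2_1 v (by omega) (by omega)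
    · exact fixPtsF_spec W_2 80 25000 relc_2_2 v (by omega) (by omega)

set_option maxRecDepth 1000000 in
theorem walk_2 : ∀ v, walkT ctF (D.wlen 2) (D.wordP 2) v = W_2 v := by
  intro v
  simp only [W_2, forceL_eq]
  rfl

theorem relw_2 : ∀ v, v < 25080 → walkT ctF (D.wlen 2) (D.wordP 2) v = v := by
  intro v hv
  rw [walk_2]
  exact relf_2 v hv

theorem relf_3 : ∀ v, v < 25080 → W_3 v = v := by
  intro v hv
  rcases Nat.lt_or_ge v 12500 with h | h
  · exact fixPtsF_spec W_3 12500 0 relc_3_0 v (by omega) (by omega)
  · rcases Nat.lt_or_ge v 25000 with h | h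
    · exact fixPtsF_spec W_3 12500 12500 relc_3_1 v (by omega) (by omega)
    · exact fixPtsF_spec W_3 80 25000 relc_3_2 v (by omega) (by omega)

set_option maxRecDepth 1000000 in
theorem walk_3 : ∀ v, walkT ctF (D.wlen 3) (D.wordP 3) v = W_3 v := by
  intro v
  simp only [W_3, forceL_eq]
  rfl

theorem relw_3 : ∀ v, v < 25080 → walkT ctF (D.wlen 3) (D.wordP 3) v = v := by
  intro v hv
  rw [walk_3]
  exact relf_3 v hv

theorem relf_4 : ∀ v, v < 25080 → W_4 v = v := by
  intro v hv
  rcases Nat.lt_or_ge v 11764 with h | h
  · exact fixPtsF_spec W_4 11764 0 relc_4_0 v (by omega) (by omega)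
  · rcases Nat.lt_or_ge v 23528 with h | h
    · exact fixPtsF_spec W_4 11764 11764 relc_4_1 v (by omega) (by omega)
    · exact fixPtsF_spec W_4 1552 23528 relc_4_2 v (by omega) (by omega)

set_option maxRecDepth 1000000 in
theorem walk_4 : ∀ v, walkT ctF (D.wlen 4) (D.wordP 4) v = W_4 v := by
  intro v
  simp only [W_4, forceL_eq]
  rfl

theorem relw_4 : ∀ v, v < 25080 → walkT ctF (D.wlen 4) (D.wordP 4) v = v := by
  intro v hv
  rw [walk_4]
  exact relf_4 v hv

theorem relf_5 : ∀ v, v < 25080 → W_5 v = v := by
  intro v hv
  exact fixPtsF_spec W_5 25080 0 relc_5_0 v (by omega) (by omega)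

set_option maxRecDepth 1000000 in
theorem walk_5 : ∀ v, walkT ctF (D.wlen 5) (D.wordP 5) v = W_5 v := by
  intro v
  simp only [W_5, forceL_eq]
  rfl

theorem relw_5 : ∀ v, v < 25080 → walkT ctF (D.wlen 5) (D.wordP 5) v = v := by
  intro v hv
  rw [walk_5]
  exact relf_5 v hv

theorem relf_6 : ∀ v, v < 25080 → W_6 v = v := by
  intro v hv
  exact fixPtsF_spec W_6 25080 0 relc_6_0 v (by omega) (by omega)

set_option maxRecDepth 1000000 in
theorem walk_6 : ∀ v, walkT ctF (D.wlen 6) (D.wordP 6) v = W_6 v := by
  intro v
  simp only [W_6, forceL_eq]
  rfl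

theorem relw_6 : ∀ v, v < 25080 → walkT ctF (D.wlen 6) (D.wordP 6) v = v := by
  intro v hv
  rw [walk_6]
  exact relf_6 v hv

theorem relf_7 : ∀ v, v < 25080 → W_7 v = v := by
  intro v hv
  exact fixPtsF_spec W_7 25080 0 relc_7_0 v (by omega) (by omega)

set_option maxRecDepth 1000000 in
theorem walk_7 : ∀ v, walkT ctF (D.wlen 7) (D.wordP 7) v = W_7 v := by
  intro v
  simp only [W_7, forceL_eq]
  rfl

theorem relw_7 : ∀ v, v < 25080 → walkT ctF (D.wlen 7) (D.wordP 7) v = v := by
  intro v hv
  rw [walk_7]
  exact relf_7 v hv

theorem relf_8 : ∀ v, v < 25080 → W_8 v = v := by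
  intro v hv
  exact fixPtsF_spec W_8 25080 0 relc_8_0 v (by omega) (by omega)

set_option maxRecDepth 1000000 in
theorem walk_8 : ∀ v, walkT ctF (D.wlen 8) (D.wordP 8) v = W_8 v := by
  intro v
  simp only [W_8, forceL_eq]
  rfl

theorem relw_8 : ∀ v, v < 25080 → walkT ctF (D.wlen 8) (D.wordP 8) v = v := by
  intro v hv
  rw [walk_8]
  exact relf_8 v hv

theorem invx_0 : ∀ v, v < 25080 → ctF 0 v < 25080 ∧ ctF 1 (ctF 0 v) = v := by
  intro v hv
  exact invRowFI_spec ctF 25080 0 1 25080 0 inv_0_0 v (by omega) (by omega)

theorem invx_1 : ∀ v, v < 25080 → ctF 1 v < 25080 ∧ ctF 0 (ctF 1 v) = v := by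
  intro v hv
  exact invRowFI_spec ctF 25080 1 0 25080 0 inv_1_0 v (by omega) (by omega)

theorem invx_2 : ∀ v, v < 25080 → ctF 2 v < 25080 ∧ ctF 3 (ctF 2 v) = v := by
  intro v hv
  exact invRowFI_spec ctF 25080 2 3 25080 0 inv_2_0 v (by omega) (by omega)

theorem invx_3 : ∀ v, v < 25080 → ctF 3 v < 25080 ∧ ctF 2 (ctF 3 v) = v := by
  intro v hv
  exact invRowFI_spec ctF 25080 3 2 25080 0 inv_3_0 v (by omega) (by omega)

theorem hconn : ∀ v, v < 25080 → v ≠ 0 → ∃ x, x < E.D.k ∧ ctF x v < v := by
  intro v hv
  exact connF_spec ctF 4 25080 0 conn_0 v (by omega) (by omega)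

theorem hE : ∀ v, v < E.M → ∀ x, x < E.D.k → edgeOKI iota E x v = true := by
  intro v hv x hx
  have hv' : v < 60352 := hv
  have hx' : x < 4 := hx
  interval_cases x
  · exact edgesx_0 v hv'
  · exact edgesx_1 v hv'
  · exact edgesx_2 v hv'
  · exact edgesx_3 v hv'

theorem hA : ∀ v, v < E.M → aliasOK E v = true := fun v hv => hA0 v hv

theorem hrows : ∀ v, v < E.M → tb RS v = true → rowOK2 E RS v E.D.k = true := fun v hv => hrows0 v hv

theorem hT : ∀ x, x < E.D.k → ∀ v, v < 25080 → ctF x v < 25080 ∧ ctF (iota x) (ctF x v) = v := by
  intro x hx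
  have hx' : x < 4 := hx
  interval_cases x
  · exact invx_0
  · exact invx_1
  · exact invx_2
  · exact invx_3

theorem hltr : ∀ j, j < E.D.nw → lettersOK E.D.k (E.D.wlen j) (E.D.wordP j) = true :=
  wordsOK_spec D D.nw words_ok

theorem hrelT : ∀ wi, wi < E.D.nrel → ∀ v, v < 25080 →
    walkT ctF (E.D.wlen wi) (E.D.wordP wi) v = v := by
  intro wi hwi
  have hwi' : wi < 9 := hwi
  interval_cases wi
  · exact relw_0
  · exact relw_1
  · exact relw_2
  · exact relw_3
  · exact relw_4
  · exact relw_5
  · exact relw_6
  · exact relw_7
  · exact relw_8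

theorem hsubT : ∀ wi, wi < E.D.nw → E.D.nrel ≤ wi →
    walkT ctF (E.D.wlen wi) (E.D.wordP wi) 0 = 0 :=
  subAll_spec ctF D D.nw sub_ok

end Cfsg.Agent.Helper5.J1TC
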