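import Mathlib
import Cfsg.Prelude.Def_Spor_J1
import Cfsg.Agent.Helper5.TCIB
import Cfsg.Agent.Helper5.J1TCSum
import Cfsg.Agent.Helper5.J1Data
import Cfsg.Agent.Helper5.J1Grp

/-!
# A presentation of the Janko group `J₁` on the two Janko matrices

The group presented by five relators on two generators has order dividing 175560 (certified coset
enumeration over the cyclic subgroup generated by the first generator: index 25080), and it maps
onto `J₁ = ⟨X, Y⟩ ≤ GL₇(11)`.
-/

set_option autoImplicit false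

namespace Cfsg.Agent.Helper5.J1

open Cfsg Cfsg.Spor Cfsg.Agent.Helper5.TC Cfsg.Agent.Helper5.TCI Cfsg.Agent.Helper5.J1TC

/-- the free-group element of a letter. -/
def fl : ℕ → FreeGroup (Fin 2)
  | 0 => FreeGroup.of 0
  | 1 => (FreeGroup.of 0)⁻¹
  | 2 => FreeGroup.of 1
  | 3 => (FreeGroup.of 1)⁻¹
  | _ => 1

/-- the free-group element of a word. -/
def fw (l : List ℕ) : FreeGroup (Fin 2) := (l.map fl).prod

theorem fw_cons (c : ℕ) (l : List ℕ) : fw (c :: l) = fl c * fw l := by simp [fw]

/-- the relators. -/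
def rels : Set (FreeGroup (Fin 2)) := {r | ∃ l ∈ relW, r = fw l}

/-- the code of a generator. -/
def enc : Fin 2 → ℕ := ![0, 2]

theorem iota_lt4 : ∀ x, x < 4 → iota x < 4 := by decide

theorem iota_ge {x : ℕ} (h : 4 ≤ x) : iota x = x := by
  obtain ⟨y, rfl⟩ := Nat.exists_eq_add_of_le h
  rw [Nat.add_comm]
  rfl

theorem iota_iota (x : ℕ) : iota (iota x) = x := by
  rcases Nat.lt_or_ge x 4 with h | h
  · interval_cases x <;> rfl
  · rw [iota_ge h, iota_ge h]

theorem iota_lt16 (x : ℕ) (h : x < 16) : iota x < 16 := by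
  interval_cases x <;> decide

theorem fl_ge {x : ℕ} (h : 4 ≤ x) : fl x = 1 := by
  obtain ⟨y, rfl⟩ := Nat.exists_eq_add_of_le h
  rw [Nat.add_comm]
  rfl

theorem fl_inv (x : ℕ) :
    PresentedGroup.mk rels (fl x) * PresentedGroup.mk rels (fl (iota x)) = 1 := by
  rcases Nat.lt_or_ge x 4 with h | h
  · interval_cases x
    · show PresentedGroup.mk rels (FreeGroup.of 0) * PresentedGroup.mk rels (FreeGroup.of 0)⁻¹ = 1
      rw [map_inv, mul_inv_cancel]
    · show PresentedGroup.mk rels (FreeGroup.of 0)⁻¹ * PresentedGroup.mk rels (FreeGroup.of 0) = 1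
      rw [map_inv, inv_mul_cancel]
    · show PresentedGroup.mk rels (FreeGroup.of 1) * PresentedGroup.mk rels (FreeGroup.of 1)⁻¹ = 1
      rw [map_inv, mul_inv_cancel]
    · show PresentedGroup.mk rels (FreeGroup.of 1)⁻¹ * PresentedGroup.mk rels (FreeGroup.of 1) = 1
      rw [map_inv, inv_mul_cancel]
  · rw [iota_ge h, fl_ge h, map_one, one_mul]

theorem fl_match (x : ℕ) (hx : x < 4) (K : Type) [Group K] (γ : ℕ → K)
    (hγ : ∀ y, γ y * γ (iota y) = 1) :
    FreeGroup.lift (fun z => γ (enc z)) (fl x) = γ x := by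
  interval_cases x
  · exact FreeGroup.lift_apply_of
  · show FreeGroup.lift (fun z => γ (enc z)) (FreeGroup.of 0)⁻¹ = γ 1
    rw [map_inv, FreeGroup.lift_apply_of]
    exact inv_eq_of_mul_eq_one_right (hγ 0)
  · exact FreeGroup.lift_apply_of
  · show FreeGroup.lift (fun z => γ (enc z)) (FreeGroup.of 1)⁻¹ = γ 3
    rw [map_inv, FreeGroup.lift_apply_of]
    exact inv_eq_of_mul_eq_one_right (hγ 2)

theorem wordMatch_fw (l : List ℕ) (hl : ∀ c ∈ l, c < 4) (n w : ℕ)
    (hu : unpack n w = l.reverse) : WordMatchI iota enc (fw l) n w := by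
  intro K _ γ hγ
  rw [hu]
  clear hu
  induction l with
  | nil => simp [fw, rprod]
  | cons c l ih =>
    rw [fw_cons, map_mul, ih (fun c hc => hl c (List.mem_cons_of_mem _ hc)),
      fl_match c (hl c List.mem_cons_self) K γ hγ, List.reverse_cons, rprod_append]
    simp [rprod]

theorem relW_lt : ∀ l ∈ relW, ∀ c ∈ l, c < 4 := by decide

theorem relW_len : relW.length = 5 := rfl

theorem wm_rel : ∀ i (hi : i < relW.length),
    WordMatchI iota enc (fw relW[i]) (E.D.wlen i) (E.D.wordP i) := by
  intro i hi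
  have hi' : i < 5 := hi
  have hl := relW_lt relW[i] (List.getElem_mem hi)
  interval_cases i
  · exact wordMatch_fw _ hl _ _ word_0
  · exact wordMatch_fw _ hl _ _ word_1
  · exact wordMatch_fw _ hl _ _ word_2
  · exact wordMatch_fw _ hl _ _ word_3
  · exact wordMatch_fw _ hl _ _ word_4

theorem relA : ∀ wi, wi < E.D.nrel →
    (∃ r ∈ rels, WordMatchI iota enc r (E.D.wlen wi) (E.D.wordP wi)) ∨
    (∃ x, unpack (E.D.wlen wi) (E.D.wordP wi) = [x, iota x]) := by
  intro wi hwi
  have hwi' : wi < 9 := hwi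
  rcases Nat.lt_or_ge wi 5 with h5 | h5
  · left
    have hlen : wi < relW.length := h5
    exact ⟨fw relW[wi], ⟨relW[wi], List.getElem_mem hlen, rfl⟩, wm_rel wi hlen⟩
  · right
    interval_cases wi
    · exact ⟨0, word_5⟩
    · exact ⟨1, word_6⟩
    · exact ⟨2, word_7⟩
    · exact ⟨3, word_8⟩

theorem relC : ∀ r ∈ rels, ∃ wi, wi < E.D.nrel ∧
    WordMatchI iota enc r (E.D.wlen wi) (E.D.wordP wi) := by
  rintro r ⟨l, hl, rfl⟩
  obtain ⟨i, hi, rfl⟩ := List.getElem_of_mem hl
  have hi' : i < 5 := hi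
  exact ⟨i, (by show i < 9; omega), wm_rel i hi⟩

/-- the subgroup generators. -/
def subs : List (FreeGroup (Fin 2)) := [FreeGroup.of 0]

theorem subs_match : ∀ i (hi : i < subs.length),
    WordMatchI iota enc (subs[i]) (E.D.wlen (E.D.nrel + i)) (E.D.wordP (E.D.nrel + i)) := by
  intro i hi
  have hi' : i < 1 := hi
  interval_cases i
  have h9 : WordMatchI iota enc (FreeGroup.of 0) (D.wlen 9) (D.wordP 9) := by
    have := wordMatch_fw [0] (by decide) _ _ word_9
    simpa [fw, fl] using this
  exact h9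

theorem index_x : ((Subgroup.closure {s | s ∈ subs}).map (PresentedGroup.mk rels)).index = 25080 :=
  presented_indexI rels subs iota fl enc E (T := ctF)
    iota_iota iota_lt4 iota_lt16
    (by intro z; fin_cases z <;> decide)
    (by intro z; fin_cases z <;> rfl)
    fl_inv fl_match rfl relA relC subs_match rev_ok
    hE hA set_ok hrows (by norm_num) hT hltr hrelT hsubT hconn

/-! ### the order of the presented group -/

/-- the image of the first generator. -/
def xbar : PresentedGroup rels := PresentedGroup.of 0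

theorem xbar_pow : xbar ^ 7 = 1 := by
  have hm : fw [1, 1, 1, 1, 1, 1, 1] ∈ rels := ⟨_, by decide, rfl⟩
  have h := PresentedGroup.one_of_mem hm
  have e : fw [1, 1, 1, 1, 1, 1, 1] = ((FreeGroup.of (0 : Fin 2)) ^ 7)⁻¹ := by
    simp [fw, fl, pow_succ, mul_assoc]
  rw [e, map_inv, map_pow, inv_eq_one] at h
  exact h

theorem subs_set : {s | s ∈ subs} = ({FreeGroup.of (0 : Fin 2)} : Set (FreeGroup (Fin 2))) := by
  ext s
  simp [subs]

theorem map_closure_eq :
    (Subgroup.closure {s | s ∈ subs}).map (PresentedGroup.mk rels) = Subgroup.zpowers xbar := by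
  rw [subs_set, MonoidHom.map_closure, Set.image_singleton, Subgroup.zpowers_eq_closure]
  rfl

theorem card_presented_dvd : Nat.card (PresentedGroup rels) ∣ 175560 := by
  have h1 := Subgroup.card_mul_index (Subgroup.zpowers xbar)
  have h2 : (Subgroup.zpowers xbar).index = 25080 := by rw [← map_closure_eq]; exact index_x
  rw [h2, Nat.card_zpowers] at h1
  rw [← h1]
  have h3 : orderOf xbar ∣ 7 := orderOf_dvd_of_pow_eq_one xbar_pow
  have : (175560 : ℕ) = 7 * 25080 := by norm_num
  rw [this]
  exact Nat.mul_dvd_mul_right h3 25080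

/-! ### the homomorphism onto `J₁` -/

/-- the images of the generators. -/
def genM : Fin 2 → GL (Fin 7) (ZMod 11) := ![jankoX, jankoY]

theorem lift_fl (c : ℕ) : FreeGroup.lift genM (fl c) = letterM c := by
  rcases Nat.lt_or_ge c 4 with h | h
  · interval_cases c
    · exact FreeGroup.lift_apply_of
    · show FreeGroup.lift genM (FreeGroup.of 0)⁻¹ = (jankoX)⁻¹
      rw [map_inv, FreeGroup.lift_apply_of]; rfl
    · exact FreeGroup.lift_apply_of
    · show FreeGroup.lift genM (FreeGroup.of 1)⁻¹ = (jankoY)⁻¹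
      rw [map_inv, FreeGroup.lift_apply_of]; rfl
  · obtain ⟨y, rfl⟩ := Nat.exists_eq_add_of_le h
    rw [Nat.add_comm]
    show FreeGroup.lift genM 1 = 1
    exact map_one _

theorem lift_fw : ∀ l : List ℕ, FreeGroup.lift genM (fw l) = evalW l
  | [] => by simp [fw, evalW]
  | c :: l => by rw [fw_cons, map_mul, lift_fl, lift_fw l, evalW_cons]

theorem rels_hold : ∀ r ∈ rels, FreeGroup.lift genM r = 1 := by
  rintro r ⟨l, hl, rfl⟩
  rw [lift_fw]
  have h := List.all_eq_true.mp relW_ok l hl
  rw [evalW_eq_of_eqW h, evalW_nil]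

/-- the homomorphism from the presented group. -/
def toJ : PresentedGroup rels →* GL (Fin 7) (ZMod 11) := PresentedGroup.toGroup rels_hold

theorem range_toJ : toJ.range = Spor.J1 := by
  have h1 : toJ.range = Subgroup.map toJ ⊤ := by rw [MonoidHom.range_eq_map]
  rw [h1, ← PresentedGroup.closure_range_of, MonoidHom.map_closure]
  unfold Spor.J1
  congr 1
  ext g
  simp only [Set.mem_image, Set.mem_range, exists_exists_eq_and, Set.mem_insert_iff,
    Set.mem_singleton_iff]
  constructor
  · rintro ⟨i, rfl⟩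
    fin_cases i
    · left; exact PresentedGroup.toGroup.of rels_hold
    · right; exact PresentedGroup.toGroup.of rels_hold
  · rintro (rfl | rfl)
    · exact ⟨0, PresentedGroup.toGroup.of rels_hold⟩
    · exact ⟨1, PresentedGroup.toGroup.of rels_hold⟩

theorem card_J1_dvd : Nat.card ↥Spor.J1 ∣ 175560 := by
  rw [← range_toJ]
  exact dvd_trans (Subgroup.card_range_dvd toJ) card_presented_dvd

/-- the Janko group `J₁` is simple of order 175560. -/
theorem isJ1_J1 : Cfsg.IsJ1 ↥Spor.J1 := isJ1_of_dvd card_J1_dvd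

end Cfsg.Agent.Helper5.J1
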