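import Mathlib
import Cfsg.Prelude.Def_Spor_J1
import Cfsg.Agent.Helper5.J1Pres
import Cfsg.Agent.Helper5.J1CentData
import Cfsg.Agent.Helper5.J1CentAbs

/-!
# The centraliser of an involution of the Janko group `J₁` is `2 × A₅`
-/

set_option autoImplicit false

namespace Cfsg.Agent.Helper5.J1

open Cfsg Cfsg.Spor

theorem incrFrom_spec : ∀ (l : List ℕ) (a : ℕ), incrFrom a l = true →
    (∀ x ∈ l, a < x) ∧ l.Pairwise (· < ·)
  | [], _, _ => ⟨by simp, List.Pairwise.nil⟩
  | b :: l, a, h => by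
    rw [incrFrom, Bool.and_eq_true, Nat.blt_eq] at h
    obtain ⟨h1, h2⟩ := incrFrom_spec l b h.2
    refine ⟨?_, List.Pairwise.cons h1 h2⟩
    intro x hx
    rcases List.mem_cons.mp hx with rfl | hx
    · exact h.1
    · exact lt_trans h.1 (h1 x hx)

theorem nodup_of_incrFrom {l : List ℕ} {a : ℕ} (h : incrFrom a l = true) : l.Nodup :=
  (incrFrom_spec l a h).2.imp (fun h => ne_of_lt h)

theorem invar_eq_of_el_eq {w w' : List ℕ} (h : el w = el w') : invar w = invar w' := by
  have h0 : evalW w = evalW w' := congrArg Subtype.val h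
  have h1 : decV (actN w v0) = decV (actN w' v0) := by rw [act_spec, act_spec, h0]
  have h2 : ∀ j (hj : j < 7), dg (actN w v0) j % 11 = dg (actN w' v0) j % 11 := by
    intro j hj
    have := congrFun h1 ⟨j, hj⟩
    unfold decV at this
    exact (ZMod.natCast_eq_natCast_iff' _ _ 11).mp this
  unfold invar canon
  rw [h2 0 (by norm_num), h2 1 (by norm_num), h2 2 (by norm_num), h2 3 (by norm_num),
    h2 4 (by norm_num), h2 5 (by norm_num), h2 6 (by norm_num)]

attribute [local irreducible] el evalW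

/-- the involution. -/
def tJ : ↥Spor.J1 := el tW

theorem a5_spec : eqW (x3W ++ tW) (tW ++ x3W) = true ∧ eqW (y5W ++ tW) (tW ++ y5W) = true ∧
    eqW (x3W ++ x3W ++ x3W) [] = true ∧ eqW (y5W ++ y5W ++ y5W ++ y5W ++ y5W) [] = true ∧
    eqW (x3W ++ y5W ++ (x3W ++ y5W)) [] = true ∧ (∃ v, neW x3W [] v = true) ∧
    eqW (tW ++ tW) [] = true ∧ neW tW [] 1 = true := by
  have h := a5_ok
  simp only [Bool.and_eq_true] at h
  obtain ⟨⟨⟨⟨⟨⟨⟨h1, h2⟩, h3⟩, h4⟩, h5⟩, h6⟩, h7⟩, h8⟩ := h
  exact ⟨h1, h2, h3, h4, h5, ⟨_, h6⟩, h7, h8⟩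

theorem tJ_sq : tJ * tJ = 1 := by
  unfold tJ
  rw [← el_append, el_eq_of_eqW a5_spec.2.2.2.2.2.2.1, el_nil]

theorem tJ_ne : tJ ≠ 1 := by
  unfold tJ
  rw [← el_nil]
  exact el_ne_of_neW a5_spec.2.2.2.2.2.2.2

theorem orderOf_tJ : orderOf tJ = 2 := by
  have : Fact (Nat.Prime 2) := ⟨Nat.prime_two⟩
  exact orderOf_eq_prime (by rw [pow_two]; exact tJ_sq) tJ_ne

/-- the centraliser of the involution. -/
abbrev CJ : Subgroup ↥Spor.J1 := Subgroup.centralizer {tJ}

theorem mem_CJ {g : ↥Spor.J1} : g ∈ CJ ↔ tJ * g = g * tJ := by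
  rw [Subgroup.mem_centralizer_iff]
  simp

theorem el_conjW (u : List ℕ) : el (conjW u) = el u * tJ * (el u)⁻¹ := by
  unfold conjW tJ
  rw [el_append, el_append, el_invW]

theorem index_ge : 1463 ≤ CJ.index := by
  have hnd : (conjL.map (fun u => invar (conjW u))).Nodup := nodup_of_incrFrom conjL_sorted
  let f : Fin 1463 → ↥Spor.J1 ⧸ CJ := fun i =>
    QuotientGroup.mk (el (conjL[i.val]'(by rw [conjL_length]; exact i.isLt)))
  have hf : Function.Injective f := by
    intro i j hij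
    have hi : i.val < conjL.length := by rw [conjL_length]; exact i.isLt
    have hj : j.val < conjL.length := by rw [conjL_length]; exact j.isLt
    have h1 : (el conjL[i.val])⁻¹ * el conjL[j.val] ∈ CJ := QuotientGroup.eq.mp hij
    rw [mem_CJ] at h1
    have h2 : el (conjW conjL[i.val]) = el (conjW conjL[j.val]) := by
      rw [el_conjW, el_conjW]
      have := congrArg (fun z => el conjL[i.val] * z * (el conjL[j.val])⁻¹) h1
      simp only [mul_assoc, mul_inv_cancel_left, mul_inv_cancel, mul_one] at this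
      rw [mul_assoc, this]
      simp [mul_assoc]
    have h3 := invar_eq_of_el_eq h2
    have hi' : i.val < (conjL.map (fun u => invar (conjW u))).length := by
      rw [List.length_map]; exact hi
    have hj' : j.val < (conjL.map (fun u => invar (conjW u))).length := by
      rw [List.length_map]; exact hj
    have h4 : (conjL.map (fun u => invar (conjW u)))[i.val] =
        (conjL.map (fun u => invar (conjW u)))[j.val] := by
      rw [List.getElem_map, List.getElem_map]; exact h3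
    exact Fin.ext ((hnd.getElem_inj_iff).mp h4)
  have := Nat.card_le_card_of_injective f hf
  rwa [Nat.card_fin] at this

theorem card_J1 : Nat.card ↥Spor.J1 = 175560 := isJ1_J1.2

theorem card_CJ_le : Nat.card CJ ≤ 120 := by
  have h1 := Subgroup.card_mul_index CJ
  rw [card_J1] at h1
  by_contra hgt
  have h2 : 121 * 1463 ≤ Nat.card CJ * CJ.index := Nat.mul_le_mul (by omega) index_ge
  omega

/-! ### the subgroup `A₅` -/

theorem x3_mem : el x3W ∈ CJ := by
  rw [mem_CJ]
  unfold tJ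
  rw [← el_append, ← el_append]
  exact (el_eq_of_eqW a5_spec.1).symm

theorem y5_mem : el y5W ∈ CJ := by
  rw [mem_CJ]
  unfold tJ
  rw [← el_append, ← el_append]
  exact (el_eq_of_eqW a5_spec.2.1).symm

theorem x3_pow : el x3W ^ 3 = 1 := by
  rw [pow_succ, pow_two, ← el_append, ← el_append, el_eq_of_eqW a5_spec.2.2.1, el_nil]

theorem y5_pow : el y5W ^ 5 = 1 := by
  rw [pow_succ, pow_succ, pow_succ, pow_two, ← el_append, ← el_append, ← el_append, ← el_append,
    el_eq_of_eqW a5_spec.2.2.2.1, el_nil]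

theorem xy_pow : (el x3W * el y5W) ^ 2 = 1 := by
  rw [pow_two, ← el_append, ← el_append, el_eq_of_eqW a5_spec.2.2.2.2.1, el_nil]

theorem x3_ne : el x3W ≠ 1 := by
  obtain ⟨v, hv⟩ := a5_spec.2.2.2.2.2.1
  rw [← el_nil]
  exact el_ne_of_neW hv

/-- the Janko group `J₁` has an involution with centraliser `2 × A₅`. -/
theorem involution_centralizer : ∃ t : ↥Spor.J1, orderOf t = 2 ∧
    Nonempty (↥(Subgroup.centralizer ({t} : Set ↥Spor.J1)) ≃*
      Multiplicative (ZMod 2) × ↥(alternatingGroup (Fin 5))) := by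
  refine ⟨tJ, orderOf_tJ, ?_⟩
  have hfin : Finite ↥Spor.J1 := Nat.finite_of_card_ne_zero (by rw [card_J1]; norm_num)
  refine iso_two_times_alt (H := CJ) card_CJ_le ⟨tJ, mem_CJ.mpr rfl⟩ ?_ ?_ ?_
    ⟨el x3W, x3_mem⟩ ⟨el y5W, y5_mem⟩ ?_ ?_ ?_ ?_
  · exact Subtype.ext (by rw [Subgroup.coe_pow, Subgroup.coe_one, pow_two]; exact tJ_sq)
  · exact fun h => tJ_ne (congrArg Subtype.val h)
  · intro g
    exact Subtype.ext (mem_CJ.mp g.2)
  · exact Subtype.ext (by rw [Subgroup.coe_pow, Subgroup.coe_one]; exact x3_pow)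
  · exact Subtype.ext (by rw [Subgroup.coe_pow, Subgroup.coe_one]; exact y5_pow)
  · exact Subtype.ext (by
      rw [Subgroup.coe_pow, Subgroup.coe_mul, Subgroup.coe_one]; exact xy_pow)
  · exact fun h => x3_ne (congrArg Subtype.val h)

end Cfsg.Agent.Helper5.J1
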