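import Cfsg.Agent.Helper5.TC2A

/-! generated coset table (generator 1): SuzBTC -/

set_option autoImplicit false
set_option Elab.async false

namespace Cfsg.Agent.Helper5.SuzBTC
open Cfsg.Agent.Helper5.TC

def ct1_0 : ℕ := 0x19d00019a00019f00019600018c00019e00018900019100018a00019c00019500017e00018500017700019800019000017200016500018d00019b00016100019700019900018800017600015c00019300016000015700018200015400015000017f00019400017b00014200017d00015b00013700017800019200018700013000017400012c00018f00013b00016800013f00012f00014000016c00012000012800011c00017000011900013400018e00011700013300011800018b00018400015f00011000011b00018600017a00010b00014b00011300018300010600015500018100010400014f0001010001800001520000ff00013200010800015900014a0000fa0001210000f80001290000f900012400012500017c0000f600016d00016f00013800010c0000f30001710000ef0000f100013e0001790000e80000e700016600016300014d0000e600017500016e0000e000012d0001730000df0000dd00014600016a0000db0000f50001430001440000d80000d500014800016b0000d20000ce0000cc00016900015d0000c90001670001620001640000eb0000c80000d10001580001120000c500015e0000c30000c40000ca00013d00015a0000c10000c000014c0000bd0001560001050001530000bb0000ba0001510000bc00014e0000ec0000ea0000b80000b70001490001450001470000b60001410001260000b300013c0000b20001390000b100013a0000af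0000ae0000fe0001160000fd0000ad0001360001350001310000aa0000a80000e30000a70000a500012e00012b0000d700012a0000a10001270000d60000a00001230000de0000da00012200009d00009b00011f0001140000a200009800011e00009600011d00009700010d00011a00011500009400009300011100010e00010f00009200010a00010900008f00008e00010700010000010300010200008d0000fc0000fb0000f700008a0000890000f40000f20000f00000870000ee0000ed0000e900008400008b0000e50000800000e40000e200007e0000e100007f00007c0000d00000dc0000d900007a0000790000d40000770000d30000750000740000cf0000cb0000cd0000730000c70000c60000c20000700000900000bf0000be0000b900006d0000ab0000b50000b40000690000b000006b0000710000ac00006c0000680000620000a90000a40000a60000610000a300005e00009f00009e00005c00009c00007600009a00009900009500005700008500009100005400006e00008c00008300008600005500008800008200005000005600004e00005100004d00008100007d00004800005a00007b00004500007800004300005f00003f00005800007200006600006a00006f00005300003a00006400006700003b00006500006300003700003c00003400003300006000004100003100005d00002e00005b00002b00004700002a00005900003e00002700004b00004f00005200003900002300004c00003600002400004a00004900001f00004600002900001e00004400001b00001c00004200004000003000001900003d00002600001700003500003800001400002100001500003200002f00001100002c00002d00001000002800000e00002500000c00002000002200001300000b00001d00001a00000900001800000d00001600001200000600000f00000800000700000a000003000004000005000001000002000000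
def ctSel1 (c : ℕ) : ℕ := ct1_0
def ct1F (v : ℕ) : ℕ := Nat.rec (motive := fun _ => ℕ) 0 (fun c _ => Nat.mod (Nat.shiftRight (ctSel1 c) (Nat.mul 24 (Nat.mod v 682))) 16777216) (Nat.add (Nat.div v 682) 1)

end Cfsg.Agent.Helper5.SuzBTC
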