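import Cfsg.Agent.Helper5.TC2A

/-! generated coset table (generator 2): SuzBTC -/

set_option autoImplicit false
set_option Elab.async false

namespace Cfsg.Agent.Helper5.SuzBTC
open Cfsg.Agent.Helper5.TC

def ct2_0 : ℕ := 0x19e00019f00019700019900018e00018a00019c00018600019d00018400018100017c00017a00017900017600017300016a00019b00016300016200016400019a00016000016600015c00019800015a00019600018300018200019500018000015700017b00014200019400017e00019300019200013100013c00019100016f00017400019000012f00014500012a00017500012800013600012000016b00018f00011e00011f00016700018800011800018b00018d00018c00011500018900011900011c00010e00018700010b00018500010a00014100017f00015600010600015400015200015300015100014a0001000001030001470000fc00012600015000010900011a00014d0001230001710000f700012700017d0001580000f200013a0001130000f000017700011600013f0000f80000f60000f300016d0000fb0001340001330000f10001780000ef00017200012e0000e000012c0000e20001700000dc00016e00014300014b0000d90000e900014600010c0000d300016c0001680001690000cf00015e0000cb00014800015f0001650000c800013b0001610000c700013e0001010000cc0000ce0000fd00015d0000c200012200015b0001590001490000bf0001070001550000bd0000bc00014e00010200011200014f0000b90000c000010f00014c0001350000ec0000eb0001390001440001380000c10000c300013700014000013200013d0001300000b5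0000c60000fa0000f90000b30001240000b20000ab0000e60000b00000e40000a800012b0000a900012d0000a40000d00000d20001290000a00000a20001250000a10000d60000d70000b100009e0001210000dd00009a0000de00011d0001100000cd00011100011b00009500009b0001170001140000ed0000980000970000f400010d0000f50000fe0001080000be00010500010400008d0000900000ff00008f00008b0000ad0000ee0000910000ea0000e80000d50000e50000860000850000b60000880000e70000820000e10000e300007f0000810000830000df00009c0000da0000d80000db00007b0000d40000780000a30000c90000d10000990000c50000c40000760000ca0000750000710000730000b40000ba0000b800006e0000bb00006f0000b700006b00006a0000ac0000680000af0000ae0000650000a50000aa0000a600006c0000a700006400006300005f00009f00005d00005c00009d00005a00009600009400005800009200005900009300005500008c00008e00005200008000008a00008900004e00008700004d00005300008400007e00007d00005100005000004900007c00004500007a00007900004400007700007200007400003d00005600007000003a00006600006d00006200006100003600006900006700003300003900003800006000003700003100004000005e00005b00002c00002d00002a00004600002700003e00005700003c00003b00005400004b00004a00004800004f00002100002000004c00002200004700001e00002800001c00004200004300001a00004100001900002f00003f00002600002500002400001500003200003500003400001200003000001d00002e00001000002b00002900001800000d00001600002300000b00001100001f00001300001b00000a00000800001700000700001400000f00000500000e00000c000003000009000002000006000004000001000000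
def ctSel2 (c : ℕ) : ℕ := ct2_0
def ct2F (v : ℕ) : ℕ := Nat.rec (motive := fun _ => ℕ) 0 (fun c _ => Nat.mod (Nat.shiftRight (ctSel2 c) (Nat.mul 24 (Nat.mod v 682))) 16777216) (Nat.add (Nat.div v 682) 1)

end Cfsg.Agent.Helper5.SuzBTC
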