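import Cfsg.Agent.Helper5.TC2A

/-! generated coset table (generator 3): SuzBTC -/

set_option autoImplicit false
set_option Elab.async false

namespace Cfsg.Agent.Helper5.SuzBTC
open Cfsg.Agent.Helper5.TC

def ct3_0 : ℕ := 0x19c00019900019600019f00018b00018900019e00018500019200019d00019000018600019100019700019300019500016500017200017800016100019b00017700019a00016c00017500019400019800015800016b00015500015300016900014a00015c00016d00014100014000013d00015900018d00018a00013000018700012d00012b00018e00013a00015d00013f00014f00017d00018800018300012800018000011b00011a00013500018f00014e00011600013200018c00011300011200012100017000017e00010c00010a00017900018400012000011e00018200010400018100012f00010200011c00016e00016400011800010800013700017f0000fb0001100001290000f800010e0001230001360000f600017c00017b00016f0000f100017a0001140000ef00017100013800013900014b0001430001660000e70000eb0001620000e50001760001520000e10001740000df0001730000f200014700016a0000ee0000da0000e80000d80001440000d400015e0001570000dc0001560000cd0001500001680001670000c900014d0000ff0001630000c700013c00016000015f0000c60001480000ca0001450000c300015b0000c100015a0000d300014c0000be0000ce0000e30001540000e20001510000ba0000cb0001170000ed0000b80000ea0001490000b70000c40001460000b50001420000d60000d70000d100012a00013e0000b000013b000127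0000fe0000ae0001330000fc0000ac0001250001340000aa0001310000a900010500010300012e0000a500012c0000b30000b200011f0000af00012600009f0001240000f40000f500009d0001220001090000a10000f30000a200009900010600011d00009600010000010f0001190000940001150001110000930000f900010d00009100010b00009b00009a00010700008e0000970000a700010100008c0000fd0000fa00008a0000f700009e0000de0000dd0000870000f00000db0000ec0000840000e90000830000e60000e40000800000bb0000810000e000007d0000880000d00000d200007a0000d90000b40000d500007b0000c00000bf0000cf0000740000bc0000cc0000720000c80000c50000700000c20000760000750000bd00006d0000b900006c0000b60000790000a30000b10000670000660000ad0000ab0000630000a60000a80000610000620000a400006900009c0000a000008900005b00005e00009000008f00009800005700009500005600009200005900005300008d00008b00005000004f00007c00004d00008600008500004a00004b00008200007e00007f00004800004700007700004400004300007800004100006f00003e00007300007100003b00003f00006e00003800003c00006b00006a00003400006800003500006400006500003200006000005f00004600002e00005d00005c00002b00005a00004000005400005800002500005100005500002300002600005200002400003600004c00004e00001f00004900003100002d00001d00004500003000002c00004200002a00001b00001800001700003900003d00003700003a00001600001300002000003300001100002f00001c00002900000f00000e00002800002700002200001500000c00002100000a00001e00000900001a00001900000d00001400000600001200001000000800000400000b000005000007000003000002000001000000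
def ctSel3 (c : ℕ) : ℕ := ct3_0
def ct3F (v : ℕ) : ℕ := Nat.rec (motive := fun _ => ℕ) 0 (fun c _ => Nat.mod (Nat.shiftRight (ctSel3 c) (Nat.mul 24 (Nat.mod v 682))) 16777216) (Nat.add (Nat.div v 682) 1)

end Cfsg.Agent.Helper5.SuzBTC
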