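import Cfsg.Agent.Helper5.TC2A

/-! generated coset table (generator 4): SuzBTC -/

set_option autoImplicit false
set_option Elab.async false

namespace Cfsg.Agent.Helper5.SuzBTC
open Cfsg.Agent.Helper5.TC

def ct4_0 : ℕ := 0x19c00019900019600019f00018b00018900019e00018500018400019d00019000017c00019100017900019300019500016e00016400017800016100019b00016000019a00015f00015b00015a00019800019700016b00017400017300015100016c00014200017b00019400017d00017600019200018d00013700017a00013600018200018100012f00014400014600016d00018f00016f00017f00018300012800011d00012900013400011900011700018e00013100011500018c00018a00018800011100010d00010b00018700018600015800015900012000010700010500012c00010300014e0001800001010000ff0001520000fd0001140001130001120001210000fa00010f0001700000f700017100010c00017e00010a00013f0001400001260001250000f30001240000f20000f40000f50001770001750000ed0001670000e60000ea0001630000e80001720000e40000e30001540000e200012300016800016a00012200013e00013d00013b00012a0001270001490001570000dc0000cf0001690000cc0000ca0000ec0001660000c80001650000e900016200014c00014b00014a00015e0000c50001470000c200015d00014300015c0001410000d30000d10001560000bd0001550000bb0001530000cd0001500000b900014f0000c900014d0000c70000c60001480000b60000c30001450000c100013800013900013c00013a0000b30000d90000b20000b4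00013500011a0000ad0001320001160001300000ae0001330000ac00012e00012d00012b0000a60000a80000a70000da0000d800011f0000d50000de0000f00000dd0000d60000d70000db00009e0001090000a10001080000a200011e00009800010200011c00009500011b0000fe0001180000fc0000fb0001100000920000f800010e0000f600009b00009a00009900010600008d0001040000960001000000940000930000f90000910000ee0000f10000ef0000a00000880000890000e70000eb0000e50000850000840000810000e00000df0000e100007e00007f00009f0000d00000d20000b10000a30000d400007900007b0000c00000bf0000be0000ce0000730000ba0000cb0000b80000b70000c40000b50000760000750000740000bc0000720000710000700000af0000b000006900006a0000ab0000aa0000640000650000a90000620000a40000a500006000007a00009c00007c00009d00005c00005e00009000008f00008e00009700008c00008b00008a00005900005800005700005100005500008600008700004e00004c00004b00008200008300004900008000004800007d00005d00007700005f00007800004200004500006f00006e00006d00003c00006b00003f00003900003d00006c00003700003500006800003300006700006600003200006300006100003000002f00005a00002d00002b00005b00002900002800005400002600005200005600002400002700005300002200005000002100004f00001f00004d00004a00001e00004700004600001b00004400001a00004300001900004100004000003a00003e00001600003b00001400003800003600001200003400003100001d00001000002e00002c00002a00001800000c00002500000b00002300001300002000001100001c00000f00000e00000700001700001500000a00000900000800000d000006000005000004000003000002000001000000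
def ctSel4 (c : ℕ) : ℕ := ct4_0
def ct4F (v : ℕ) : ℕ := Nat.rec (motive := fun _ => ℕ) 0 (fun c _ => Nat.mod (Nat.shiftRight (ctSel4 c) (Nat.mul 24 (Nat.mod v 682))) 16777216) (Nat.add (Nat.div v 682) 1)

end Cfsg.Agent.Helper5.SuzBTC
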