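import Cfsg.Agent.Helper5.TC2A

/-! generated coset table (generator 5): SuzBTC -/

set_option autoImplicit false
set_option Elab.async false

namespace Cfsg.Agent.Helper5.SuzBTC
open Cfsg.Agent.Helper5.TC

def ct5_0 : ℕ := 0x19e00019f00019800019900019b00019100019c00019d00018600018500019500019200018900019400019a00019000016c00018e00016100017800018b00017600019300016500015c00019700019600015a00016b00015400018100015600016e00017500016d00017900016f00016000017c00018c00013000018a00017e00012c00017300017200012a00014500017b00017f00017d00018f00018300012000011e00012100013300011800018800016400011500013100018d00017a00011700011b00010e00018700010b00018400014100010a00012800018000010400018200015300015200010700010000014a00014e00013500012400012500014f0001290000f90000fb0000f70001700001230000f600013600015900013f0001400000f00001130000ef0001140000f20000ee0001270000e800014200014d0000e60001670000e500016200017700012f0000e40000df00017400012b0001710001490001570001380000d900014b00014c0001440000f500016800016a0000d30001690000cf0000cb00015e0000eb0000c800016600015f0000c700016300013b00013d0000ff0000ca0000c40000c600015d0000c20000c100015b0001580000dc0000d80001510000bc0000bb0001550001030000be0000b90001500001120000b80000ed0000e90001470000b60001480000b50001460001430001220000b40000b200013a0000b000013e00013c000139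0000fd0000ad00011a0000ac0000fc0001370000aa00013400013200012e0000a70000e20000a90000a400012d0000a30000d10001090000b100009f00012600010800009e0000d40000a00000d600011f00009a0000dd00009c00011d00009700009900009500011c00011100009400011900011600010f00009200011000009100010d00010c00008f0000a100010200008d00010600010500008c0001010000fe00008a0000fa0000f80000f40000880000f30000db0000f10000870000840000ec0000ea0000820000e70000e100007f0000e300008100007d0000e00000de00007b0000bf0000d50000da0000d700007a0000d00000750000d20000cd0000730000ce0000720000cc0000c90000700000c50000c300006f0000c000006d0000bd0000ba00006b0000b70000690000b30000af0000680000650000ae0000630000ab0000a60000610000a80000600000a50000790000a200009d00007c00005d00005e00005900009b00005700009800009600005500009300009000005200008e00005000008b00004e00008900008600004d00004a00008500004900008300004800008000007e00005c00007700007800005f00004400004500007600003d00007400003b00007100005400003800006e00003700006c00003400006a00006700003300003200006600006400006200004300004000005a00005b00004700002d00002e00004600003f00002500005800002400005600003a00002200005300005100002000001f00004f00004c00004b00002c00002b00002800004100004200003100003000001c00001b00002f00002700001600003e00003c00002300003900001200003600003500001a00001800002a00002900001e00001000001d00001700002600001500001400000a00002100000f00001900001100000900000d00000c00000b00001300000e000005000007000006000008000004000003000002000000000001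
def ctSel5 (c : ℕ) : ℕ := ct5_0
def ct5F (v : ℕ) : ℕ := Nat.rec (motive := fun _ => ℕ) 0 (fun c _ => Nat.mod (Nat.shiftRight (ctSel5 c) (Nat.mul 24 (Nat.mod v 682))) 16777216) (Nat.add (Nat.div v 682) 1)

end Cfsg.Agent.Helper5.SuzBTC
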