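import Cfsg.Agent.Helper5.TC2A

/-! generated coset table (generator 1): SuzCTC -/

set_option autoImplicit false
set_option Elab.async false

namespace Cfsg.Agent.Helper5.SuzCTC
open Cfsg.Agent.Helper5.TC

def ct1_0 : ℕ := 0x11700011000010c00010a0001070001120001040001160000fb0000fa0001080001150000f500011400010200010d0001130000ef0001050001110000f70001090001010000e50000dc0000e20000e80000df00010f00010e0000d50000d90001030000d300010b0000f40000d70000cf0000e70000e60001060000ca0000c60000ec0000d40000d00000c00000fd0000f10000f00001000000e40000bc0000fe0000b90000b80000fc0000c20000c10000ff0000b40000da0000f80000b20000f30000d60000f90000eb0000f60000ad0000d10000ea0000f20000a60000aa0000a00000bd0000ee00009e0000a900009d0000ed00009b0000af0000990000de0000dd0000e90000960000950000cb0000e30000930000920000e10000e000008f00008e00008d0000db00008b0000d80000890000b00000c40000ae0000d20000850000ab0000cd0000c80000870000a70000ce00008100007f00008000007d00007c0000cc00007a0000c90000c70000780000c50000770000c30000730000720000bf0000be0000700000bb0000ba00006e00006d0000b70000b60000b500006a0000b30000690000b10000880000a80000860000ac0000630000620000610000a50000a30000a400005f0000a20000a100005d00009f00005c00009c00009a00005b000075000074000098000097000056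00009400005500009100009000006c00005100008c00008a00005000006700006600004c00004b00008400008300008200004800007e00004700007b00007900007600004500004400005800004100007100006f00004000005300005200006b00006800003b00003a00004d00006500006400003600003500006000005e00003400005a00005900003100003000005700005400002e00002d00003d00003c00004f00004e00002900002800002600004a00004900004600002400002300004300004200002000003f00003e00001f00001e00002a00003900003800001b00003700002500003300003200001800001700002f00002c00002b00001400001c00002700001a00001900002200002100000f00001000001d00001300001200001100001500001600000a00000d00000800000b00000e00000600000c000005000009000007000003000004000002000001000000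
def ctSel1 (c : ℕ) : ℕ := ct1_0
def ct1F (v : ℕ) : ℕ := Nat.rec (motive := fun _ => ℕ) 0 (fun c _ => Nat.mod (Nat.shiftRight (ctSel1 c) (Nat.mul 24 (Nat.mod v 682))) 16777216) (Nat.add (Nat.div v 682) 1)

end Cfsg.Agent.Helper5.SuzCTC
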