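import Cfsg.Agent.Helper5.TC2A

/-! generated coset table (generator 2): SuzCTC -/

set_option autoImplicit false
set_option Elab.async false

namespace Cfsg.Agent.Helper5.SuzCTC
open Cfsg.Agent.Helper5.TC

def ct2_0 : ℕ := 0x11500011600011700010b00011300011000010a00011200010f0001060000f800010c0001140001110001030000f000010500010e0001070000f50001090000eb0000e50001000000f20000db0000e10000d80000d60000ee0000f900010d0000d40000f60001040000e00000e20000ff0000cc0001080000ca0000fa0000cd0000c50001020000c60000d20000bf0000be0000d90001010000bc0000e30000f30000fd0000f40000b60000bb0000b50000ce0000fe0000b30000e60000fc0000b40000fb0000b00000f70000ae0000e90000ba0000aa0000a60000dc0000ed0000f100009f0000ef0000a80000a20000a50000ea0000ec00009e00009c0000980000970000ac0000e80000e70000940000e40000de0000d10000960000b80000b70000df0000dd0000d70000da00008e00008c0000d50000870000d30000850000c00000840000d00000830000c90000820000cf0000c700008000007e0000c80000810000950000cb0000c400007c0000c300009b0000790000760000c20000c10000b90000a00000bd00007300009200007100009000006c0000b20000720000b100008b00006b0000680000650000af0000640000ad0000ab0000a90000a70000a10000a400005f0000a300006200009d00006000007000009a00005b00005a00009900005900007400009300008d000091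00007a00005700005400005300008f00008a00005000004f00008900004e00006600008800008600006300007d00006100007b00007f00004900004600004500007800007700007500004200006f00004000003f00006e00006d00003e00003b00006a00006900006700003800004c00004b00004a00005e00003400003300005d00005c00004400004300005800002e00005600005500005200003100002b00005100003a00003900004d00003700002500002400004800004700003200003d00003000002f00004100002d00002200003c00002000001c00002800002700001a00003600003500001900002c00002100002a00001500001e00001600002900001300002600002300001000001100001d00001f00000e00001b00000c00001700001800000a00001400000900001200000700000f00000d00000800000b000006000005000004000002000003000001000000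
def ctSel2 (c : ℕ) : ℕ := ct2_0
def ct2F (v : ℕ) : ℕ := Nat.rec (motive := fun _ => ℕ) 0 (fun c _ => Nat.mod (Nat.shiftRight (ctSel2 c) (Nat.mul 24 (Nat.mod v 682))) 16777216) (Nat.add (Nat.div v 682) 1)

end Cfsg.Agent.Helper5.SuzCTC
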