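import Cfsg.Agent.Helper5.TC2A

/-! generated coset table (generator 3): SuzCTC -/

set_option autoImplicit false
set_option Elab.async false

namespace Cfsg.Agent.Helper5.SuzCTC
open Cfsg.Agent.Helper5.TC

def ct3_0 : ℕ := 0x11700010f00010b0001140001060001010000fd0000fb0001160000f90001090000f500011500010a00010d0001020000ef0001130000ec0000e80000e70001080001120000df0000db0000e10001110000e50001100000d500010e0000d80000f10000d200010c0000d60000d00000f20000f70000cb0001070000c90000c60001050000c40000d70000bf0001040001030000bd0000fc0000da0000bb0000b90000fe0000be0001000000c20000cd0000b40000ff0000e40000b20000f80000ea0000f40000fa0000af0000ad0000f60000ab0000f30000cf0000a50000dd0000a90000f000009e0000ee0000a000009c0000ed00009a0000eb0000b10000de0000aa0000960000e90000e00000e60000930000e30000910000e200009500008f00009800008c0000dc00008a0000d90000c30000880000d40000860000d30000840000d10000c10000cc0000870000a70000810000ce00009000007d00008000007b0000c80000790000ca0000780000c70000770000c50000890000b60000710000c00000b800006f0000bc00006e0000ba0000a40000b700007300006a0000b50000690000b30000990000b00000a80000ae0000630000ac0000650000600000a60000a200006d00005e0000a300005d0000a100005c00009f00009d00009b00005900006700005800008e000056000097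00005500009400009200007f00005200005700008d00008b00004e00007500004d00008300004a00008500004c00004800008200004700007e00007c00007a00004400004300007600007400006b00007200007000003e00003d00006c00004100003a00003900006800006600006200003600006400003700006100005f00003200003100005b00005a00002f00005100002d00002c00005400005300002a00002900005000004f00002700004900004b00002600002300002200004600004500002000004200001f00004000003f00001d00003c00003b00001b00003800003500001900001800003400003300001600003000002e00001400002b00001c00002800001200002500002400000f00002100001500001e00000d00001a00000b00001000001700000900001300000c00001100000600000e00000800000400000a000003000007000005000001000002000000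
def ctSel3 (c : ℕ) : ℕ := ct3_0
def ct3F (v : ℕ) : ℕ := Nat.rec (motive := fun _ => ℕ) 0 (fun c _ => Nat.mod (Nat.shiftRight (ctSel3 c) (Nat.mul 24 (Nat.mod v 682))) 16777216) (Nat.add (Nat.div v 682) 1)

end Cfsg.Agent.Helper5.SuzCTC
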