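import Cfsg.Agent.Helper5.TC2A

/-! generated coset table (generator 4): SuzCTC -/

set_option autoImplicit false
set_option Elab.async false

namespace Cfsg.Agent.Helper5.SuzCTC
open Cfsg.Agent.Helper5.TC

def ct4_0 : ℕ := 0x11700011300011500010b0001160001050001040001070000f90001060000f700010c0001140000f50000f000010300011000010e0001120001110001080000e60000e40000e30000e90000df0000de0000e20000d50000ef00010f0000d400010d0000f600010a0000d10000d80000d20000cb0001090000fa0000ca0000c90000da0000d90000c40000ff0000c20000bd0001020000bc0001010001000000fc0000bb0000ba0000fe0000fd0000c10000c00000b60000ec0000eb0000f30000b20000b00000fb0000f80000d30000f20000f40000af0000ad0000ac0000a800009f0000f10000ee0000ed00009d0000a900009e0000b30000ea00009a0000e80000dd0000dc0000980000940000e70000e50000e10000e00000930000920000900000db00009700008e0000c50000d700008a0000d60000d00000ae0000cf0000ce0000880000870000c70000cd00008600008500008300007f00007e00007c00007d00007a0000cc0000c60000c800007900008b0000c30000770000bf0000b50000730000700000be0000b90000b800006f0000b700006d0000b400007200006b00009b0000b10000690000ab0000aa0000a70000a60000650000a500006400006200005f0000a40000a30000a10000a200005e0000a000009c00005c00009900005a00005800006600009600008d000057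00009500009100005500008f00005300008c00005100008900004f00004d00007400008400008200004c00008100004b00004900008000007b00004700007800004500007600004200007500007100004100006e00003f00006c00003c00006a00003b00006800003800006700006300006100003700006000003500005d00003300005b00003000002f00005900005600002e00005400002b00002a00005200005000002800002700004e00004a00002600004800002400004600002100002000004400004300004000001e00001d00003e00003d00001b00003a00003900003600001a00003400001700001600003200003100001400002d00002c00001300002900002500001100000f00002300002200000e00001f00001c00000b00001900000a00001800001500000d00000700001200001000000900000500000c000006000008000004000003000002000000000001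
def ctSel4 (c : ℕ) : ℕ := ct4_0
def ct4F (v : ℕ) : ℕ := Nat.rec (motive := fun _ => ℕ) 0 (fun c _ => Nat.mod (Nat.shiftRight (ctSel4 c) (Nat.mul 24 (Nat.mod v 682))) 16777216) (Nat.add (Nat.div v 682) 1)

end Cfsg.Agent.Helper5.SuzCTC
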