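import Mathlib
import Cfsg.Agent.Helper5.LPW
import Cfsg.Agent.Helper5.SuzATCSum
import Cfsg.Agent.Helper5.SuzBTCSum
import Cfsg.Agent.Helper5.SuzCTCSum
import Cfsg.Agent.Helper5.SuzDTCSum
import Cfsg.Agent.Helper5.SuzKTCSum

/-! generated: the relators of the Suzuki chain presentation, the certified indices of the
parabolic subgroups and the upper bound for the order -/

set_option autoImplicit false

namespace Cfsg.Agent.Helper5.SuzLP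

open Cfsg.Agent.Helper5.TC Cfsg.Agent.Helper5.TCI Cfsg.Agent.Helper5.LP

/-- relator words. -/
def RA : List (List ℕ) := [[0, 0], [0, 1, 0, 1, 0, 1, 0, 1, 0, 1], [0, 2, 0, 2], [0, 3, 0, 3], [0, 4, 0, 4], [0, 5, 0, 5], [0, 6, 0, 6], [1, 1], [1, 2, 1, 2, 1, 2], [1, 3, 1, 3], [1, 4, 1, 4], [1, 5, 1, 5, 1, 5], [1, 6, 1, 6, 1, 6], [2, 2], [2, 3, 2, 3, 2, 3, 2, 3, 2, 3, 2, 3, 2, 3, 2, 3], [2, 4, 2, 4], [2, 5, 2, 5], [2, 6, 2, 6], [3, 3], [3, 4, 3, 4, 3, 4], [3, 5, 3, 5], [3, 6, 3, 6], [4, 4], [4, 5, 4, 5], [4, 6, 4, 6], [5, 5], [5, 6, 5, 6, 5, 6, 5, 6], [6, 6], [0, 3, 2, 3, 2, 3, 2, 3, 2], [0, 6, 5, 6, 5], [0, 1, 2, 5, 0, 1, 2, 5, 0, 1, 2, 5, 0, 1, 2, 5, 0, 1, 2, 5], [1, 5, 6, 1, 5, 6, 1, 5, 6, 1, 5, 6, 1, 5, 6], [1, 2, 3, 2, 3, 1, 2, 3, 2, 3, 1, 2, 3, 2, 3, 1, 2, 3, 2, 3, 1, 2, 3, 2, 3, 4, 1, 2, 3, 2, 3, 1, 2, 3,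 2, 3, 1, 2, 3, 2, 3, 1, 2, 3, 2, 3, 1, 2, 3, 2, 3, 4, 1, 2, 3, 2, 3, 1, 2, 3, 2, 3, 1, 2, 3, 2, 3, 1, 2, 3, 2, 3, 1, 2, 3, 2, 3, 4]]

/-- relator words. -/
def RB : List (List ℕ) := [[0, 0], [0, 1, 0, 1, 0, 1, 0, 1, 0, 1], [0, 2, 0, 2], [0, 3, 0, 3], [0, 4, 0, 4], [0, 5, 0, 5], [1, 1], [1, 2, 1, 2, 1, 2], [1, 3, 1, 3], [1, 4, 1, 4], [1, 5, 1, 5, 1, 5], [2, 2], [2, 3, 2, 3, 2, 3, 2, 3, 2, 3, 2, 3, 2, 3, 2, 3], [2, 4, 2, 4], [2, 5, 2, 5], [3, 3], [3, 4, 3, 4, 3, 4], [3, 5, 3, 5], [4, 4], [4, 5, 4, 5], [5, 5], [0, 3, 2, 3, 2, 3, 2, 3, 2], [0, 1, 2, 5, 0, 1, 2, 5, 0, 1, 2, 5, 0, 1, 2, 5, 0, 1, 2, 5], [1, 2, 3, 2, 3, 1, 2, 3, 2, 3, 1, 2, 3, 2, 3, 1, 2, 3, 2, 3, 1, 2, 3, 2, 3, 4, 1, 2, 3, 2, 3, 1, 2, 3, 2, 3, 1, 2, 3, 2, 3, 1, 2, 3, 2, 3, 1, 2, 3, 2, 3, 4, 1, 2, 3, 2, 3, 1, 2, 3, 2, 3, 1, 2, 3, 2, 3, 1, 2, 3, 2, 3,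 1, 2, 3, 2, 3, 4]]

/-- relator words. -/
def RC : List (List ℕ) := [[0, 0], [0, 1, 0, 1, 0, 1, 0, 1, 0, 1], [0, 2, 0, 2], [0, 3, 0, 3], [0, 4, 0, 4], [1, 1], [1, 2, 1, 2, 1, 2], [1, 3, 1, 3], [1, 4, 1, 4], [2, 2], [2, 3, 2, 3, 2, 3, 2, 3, 2, 3, 2, 3, 2, 3, 2, 3], [2, 4, 2, 4], [3, 3], [3, 4, 3, 4, 3, 4], [4, 4], [0, 3, 2, 3, 2, 3, 2, 3, 2], [1, 2, 3, 2, 3, 1, 2, 3, 2, 3, 1, 2, 3, 2, 3, 1, 2, 3, 2, 3, 1, 2, 3, 2, 3, 4, 1, 2, 3, 2, 3, 1, 2, 3, 2, 3, 1, 2, 3, 2, 3, 1, 2, 3, 2, 3, 1, 2, 3, 2, 3, 4, 1, 2, 3, 2, 3, 1, 2, 3, 2, 3, 1, 2, 3, 2, 3, 1, 2, 3, 2, 3, 1, 2, 3, 2, 3, 4]]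

/-- relator words. -/
def RD : List (List ℕ) := [[0, 0], [0, 1, 0, 1, 0, 1, 0, 1, 0, 1], [0, 2, 0, 2], [0, 3, 0, 3], [1, 1], [1, 2, 1, 2, 1, 2], [1, 3, 1, 3], [2, 2], [2, 3, 2, 3, 2, 3, 2, 3, 2, 3, 2, 3, 2, 3, 2, 3], [3, 3], [0, 3, 2, 3, 2, 3, 2, 3, 2]]

/-- an element of order 11. -/
def xw : List ℕ := [1, 2, 3, 4, 5, 6]

theorem wordsA : ∀ i (hi : i < (RA ++ letterWords 6).length),
    unpack (SuzATC.E.D.wlen i) (SuzATC.E.D.wordP i) = ((RA ++ letterWords 6)[i]).reverse :=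
  wordsMatchB_spec0 _ _ _ (by decide +kernel)

theorem idxA : (para 7 (RA) 6).index = 1782 :=
  lp_index (by decide +kernel) (letterWords 6) SuzATC.E SuzATC.iota (fun _ => rfl) rfl rfl rfl
    (by decide +kernel) wordsA SuzATC.rev_ok SuzATC.hE SuzATC.hA SuzATC.set_ok SuzATC.hrows
    (by norm_num) SuzATC.hT SuzATC.hltr SuzATC.hrelT SuzATC.hsubT SuzATC.hconn

theorem wordsB : ∀ i (hi : i < (RB ++ letterWords 5).length),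
    unpack (SuzBTC.E.D.wlen i) (SuzBTC.E.D.wordP i) = ((RB ++ letterWords 5)[i]).reverse :=
  wordsMatchB_spec0 _ _ _ (by decide +kernel)

theorem idxB : (para 6 (RB) 5).index = 416 :=
  lp_index (by decide +kernel) (letterWords 5) SuzBTC.E SuzBTC.iota (fun _ => rfl) rfl rfl rfl
    (by decide +kernel) wordsB SuzBTC.rev_ok SuzBTC.hE SuzBTC.hA SuzBTC.set_ok SuzBTC.hrows
    (by norm_num) SuzBTC.hT SuzBTC.hltr SuzBTC.hrelT SuzBTC.hsubT SuzBTC.hconn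

theorem wordsC : ∀ i (hi : i < (RC ++ letterWords 4).length),
    unpack (SuzCTC.E.D.wlen i) (SuzCTC.E.D.wordP i) = ((RC ++ letterWords 4)[i]).reverse :=
  wordsMatchB_spec0 _ _ _ (by decide +kernel)

theorem idxC : (para 5 (RC) 4).index = 280 :=
  lp_index (by decide +kernel) (letterWords 4) SuzCTC.E SuzCTC.iota (fun _ => rfl) rfl rfl rfl
    (by decide +kernel) wordsC SuzCTC.rev_ok SuzCTC.hE SuzCTC.hA SuzCTC.set_ok SuzCTC.hrows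
    (by norm_num) SuzCTC.hT SuzCTC.hltr SuzCTC.hrelT SuzCTC.hsubT SuzCTC.hconn

theorem wordsD : ∀ i (hi : i < (RD ++ letterWords 1).length),
    unpack (SuzDTC.E.D.wlen i) (SuzDTC.E.D.wordP i) = ((RD ++ letterWords 1)[i]).reverse :=
  wordsMatchB_spec0 _ _ _ (by decide +kernel)

theorem idxD : (para 4 (RD) 1).index = 1080 :=
  lp_index (by decide +kernel) (letterWords 1) SuzDTC.E SuzDTC.iota (fun _ => rfl) rfl rfl rfl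
    (by decide +kernel) wordsD SuzDTC.rev_ok SuzDTC.hE SuzDTC.hA SuzDTC.set_ok SuzDTC.hrows
    (by norm_num) SuzDTC.hT SuzDTC.hltr SuzDTC.hrelT SuzDTC.hsubT SuzDTC.hconn

theorem wordsK : ∀ i (hi : i < (RA ++ [xw] ++ letterWords 0).length),
    unpack (SuzKTC.E.D.wlen i) (SuzKTC.E.D.wordP i) = ((RA ++ [xw] ++ letterWords 0)[i]).reverse :=
  wordsMatchB_spec0 _ _ _ (by decide +kernel)

theorem idxK : (para 7 (RA ++ [xw]) 0).index = 1 :=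
  lp_index (by decide +kernel) (letterWords 0) SuzKTC.E SuzKTC.iota (fun _ => rfl) rfl rfl rfl
    (by decide +kernel) wordsK SuzKTC.rev_ok SuzKTC.hE SuzKTC.hA SuzKTC.set_ok SuzKTC.hrows
    (by norm_num) SuzKTC.hT SuzKTC.hltr SuzKTC.hrelT SuzKTC.hsubT SuzKTC.hconn

theorem ubD : Finite (LPG 4 RD) ∧ Nat.card (LPG 4 RD) ≤ 1080 * 2 :=
  card_le_base (by decide +kernel) (by norm_num) idxD

theorem ubC : Finite (LPG 5 RC) ∧ Nat.card (LPG 5 RC) ≤ 280 * (1080 * 2) :=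
  card_le_step (k' := 4) (R' := RD) (by decide +kernel) (subListB_spec (by decide +kernel))
    (by norm_num) idxC ubD.1 ubD.2

theorem ubB : Finite (LPG 6 RB) ∧ Nat.card (LPG 6 RB) ≤ 416 * (280 * (1080 * 2)) :=
  card_le_step (k' := 5) (R' := RC) (by decide +kernel) (subListB_spec (by decide +kernel))
    (by norm_num) idxB ubC.1 ubC.2

theorem ubA : Finite (LPG 7 RA) ∧ Nat.card (LPG 7 RA) ≤ 1782 * (416 * (280 * (1080 * 2))) :=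
  card_le_step (k' := 6) (R' := RB) (by decide +kernel) (subListB_spec (by decide +kernel))
    (by norm_num) idxA ubB.1 ubB.2

theorem killed : Nat.card (LPG 7 (RA ++ [xw])) = 1 := card_eq_one_of_index idxK

end Cfsg.Agent.Helper5.SuzLP
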