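import Mathlib
import Cfsg.Agent.Helper5.SuzLPA
import Cfsg.Agent.Helper5.SuzLPB
import Cfsg.Agent.Helper5.SuzLPC

/-! generated: the Suzuki chain group as a list-presented group is simple of order
448345497600 -/

set_option autoImplicit false

namespace Cfsg.Agent.Helper5.SuzLP

open Cfsg.Agent.Helper5.TC Cfsg.Agent.Helper5.TCI Cfsg.Agent.Helper5.LP

set_option maxRecDepth 1000000 in
theorem xw_pow : fixRange SuzATC.ctF (List.replicate 11 xw).flatten 1782 0 = true := by
  decide +kernel

theorem xw_move : actL SuzATC.ctF xw 0 ≠ 0 := by decide +kernel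

theorem lettersA : LettersLt 7 RA := by decide +kernel

/-- **The Suzuki chain presentation defines a simple group of order 448345497600.** -/
theorem simple_card : IsSimpleGroup (LPG 7 RA) ∧ Nat.card (LPG 7 RA) = 448345497600 :=
  lp_simple lettersA (tableOK_of_cert SuzATC.iota (fun _ => rfl) rfl SuzATC.hT)
    (relsFix_of_cert (letterWords 6) rfl wordsA SuzATC.hrelT) 448345497600 ubA.1
    (le_trans ubA.2 (by norm_num)) levels chain_ok chain_prod Hgens prim prim_ok 11 (by norm_num)
    (by norm_num) (by norm_num) xw (by decide) xw_pow 0 (by norm_num) xw_move killed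
    (by norm_num)

end Cfsg.Agent.Helper5.SuzLP
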