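import Mathlib

/-!
# Homomorphisms from simple groups

A homomorphism from a simple group that does not kill some element is injective, and stays injective
after passing to the quotient of the target by its centre if the simple group is not of prime order.
-/

set_option autoImplicit false

namespace Cfsg.Agent.Helper5.SimpleHom

variable {G H : Type*} [Group G] [Group H]

theorem injective_of_simple [IsSimpleGroup G] (f : G →* H) (x : G) (hx : f x ≠ 1) :
    Function.Injective f := by
  rw [← MonoidHom.ker_eq_bot_iff]
  rcases (inferInstance : (f.ker).Normal).eq_bot_or_eq_top with h | h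
  · exact h
  · exfalso
    apply hx
    have : x ∈ f.ker := by rw [h]; exact Subgroup.mem_top _
    exact this

theorem injective_mk_center [IsSimpleGroup G] (hnp : ¬ (Nat.card G).Prime) (f : G →* H)
    (hf : Function.Injective f) :
    Function.Injective ((QuotientGroup.mk' (Subgroup.center H)).comp f) := by
  rw [← MonoidHom.ker_eq_bot_iff]
  rcases (inferInstance : (((QuotientGroup.mk' (Subgroup.center H)).comp f).ker).Normal).eq_bot_or_eq_top
    with h | h
  · exact h
  · exfalso
    have hcen : ∀ x : G, f x ∈ Subgroup.center H := by
      intro x
      have hx : x ∈ ((QuotientGroup.mk' (Subgroup.center H)).comp f).ker := by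
        rw [h]; exact Subgroup.mem_top x
      have h2 : (QuotientGroup.mk' (Subgroup.center H)) (f x) = 1 := hx
      rwa [QuotientGroup.mk'_apply, QuotientGroup.eq_one_iff] at h2
    have hc : ∀ a b : G, a * b = b * a := by
      intro a b
      apply hf
      rw [map_mul, map_mul]
      exact ((Subgroup.mem_center_iff.mp (hcen a)) (f b)).symm
    let _ : CommGroup G := { (inferInstance : Group G) with mul_comm := hc }
    exact hnp IsSimpleGroup.prime_card

end Cfsg.Agent.Helper5.SimpleHom
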