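import Cfsg.Agent.Helper5.U42BTCDatD
import Cfsg.Agent.Helper5.U42BTCDatT
import Cfsg.Agent.Helper5.TCIB

/-! kernel checks of the coset table: U42BTC -/

set_option autoImplicit false
set_option Elab.async false

namespace Cfsg.Agent.Helper5.U42BTC
open Cfsg.Agent.Helper5.TC Cfsg.Agent.Helper5.TCI

set_option maxRecDepth 1000000 in
theorem relc_6_0 : fixPtsF W_6 12500 0 = true := by decide +kernel

set_option maxRecDepth 1000000 in
theorem relc_4_0 : fixPtsF W_4 11111 0 = true := by decide +kernel

set_option maxRecDepth 1000000 in
theorem relc_5_0 : fixPtsF W_5 12960 0 = true := by decide +kernel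

set_option maxRecDepth 1000000 in
theorem relc_3_0 : fixPtsF W_3 12960 0 = true := by decide +kernel

set_option maxRecDepth 1000000 in
theorem relc_0_0 : fixPtsF W_0 12960 0 = true := by decide +kernel

set_option maxRecDepth 1000000 in
theorem relc_1_0 : fixPtsF W_1 12960 0 = true := by decide +kernel

set_option maxRecDepth 1000000 in
theorem relc_2_0 : fixPtsF W_2 12960 0 = true := by decide +kernel

set_option maxRecDepth 1000000 in
theorem inv_0_0 : invRowFI ctF 12960 0 0 12960 0 = true := by decide +kernel

set_option maxRecDepth 1000000 in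
theorem inv_1_0 : invRowFI ctF 12960 1 2 12960 0 = true := by decide +kernel

set_option maxRecDepth 1000000 in
theorem inv_2_0 : invRowFI ctF 12960 2 1 12960 0 = true := by decide +kernel

set_option maxRecDepth 1000000 in
theorem relc_4_1 : fixPtsF W_4 1849 11111 = true := by decide +kernel

set_option maxRecDepth 1000000 in
theorem conn_0 : connF ctF 3 12960 0 = true := by decide +kernel

set_option maxRecDepth 1000000 in
theorem relc_6_1 : fixPtsF W_6 460 12500 = true := by decide +kernel

end Cfsg.Agent.Helper5.U42BTC
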