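import Cfsg.Agent.Helper5.TC2A

/-! generated coset table (generator 1): U42TTC -/

set_option autoImplicit false
set_option Elab.async false

namespace Cfsg.Agent.Helper5.U42TTC
open Cfsg.Agent.Helper5.TC

def ct1_0 : ℕ := 0x2400002200002700002600001c00002500001a00002300001900001f00001700002100001d00002000001500001e00001300001b00001800001000001600000e00001400001200000d00001100000b00000f00000900000800000c00000600000a000004000002000007000005000000000003000001
def ctSel1 (c : ℕ) : ℕ := ct1_0
def ct1F (v : ℕ) : ℕ := Nat.rec (motive := fun _ => ℕ) 0 (fun c _ => Nat.mod (Nat.shiftRight (ctSel1 c) (Nat.mul 24 (Nat.mod v 682))) 16777216) (Nat.add (Nat.div v 682) 1)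

end Cfsg.Agent.Helper5.U42TTC
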