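import Cfsg.Agent.Helper5.TC2A

/-! generated coset table (generator 2): U42TTC -/

set_option autoImplicit false
set_option Elab.async false

namespace Cfsg.Agent.Helper5.U42TTC
open Cfsg.Agent.Helper5.TC

def ct2_0 : ℕ := 0x2500002400002200002700002000002600001c00001a00001e00001800001b00002300001600002100001f00001500001d00001300001900001100001700001000000e00001400000c00001200000f00000900000d00000700000b00000a000004000008000003000006000001000005000000000002
def ctSel2 (c : ℕ) : ℕ := ct2_0
def ct2F (v : ℕ) : ℕ := Nat.rec (motive := fun _ => ℕ) 0 (fun c _ => Nat.mod (Nat.shiftRight (ctSel2 c) (Nat.mul 24 (Nat.mod v 682))) 16777216) (Nat.add (Nat.div v 682) 1)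

end Cfsg.Agent.Helper5.U42TTC
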