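import Mathlib
import Cfsg.Agent.Helper5.LPUB
import Cfsg.Agent.Helper5.U42TTCSum

/-! generated: primitivity data for the action of the U42 group on 40 points -/

set_option autoImplicit false

namespace Cfsg.Agent.Helper5.U42LP

open Cfsg.Agent.Helper5.TC Cfsg.Agent.Helper5.TCI Cfsg.Agent.Helper5.LP

/-- generators of the point stabiliser. -/
def Hgens : List (List ℕ) := [[0, 1], [0, 2, 0, 2, 0, 2]]

set_option maxRecDepth 1000000 in
/-- an orbit tree. -/
def prim0A : List (ℕ × ℕ) := [(1, 0), (6, 0), (6, 1), (2, 1), (24, 0), (24, 1), (11, 1), (25, 1), (7, 0), (36, 0), (36, 1)]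

set_option maxRecDepth 1000000 in
/-- an orbit tree. -/
def prim0B : List (ℕ × ℕ) := [(0, 2), (1, 0), (6, 0), (6, 1), (6, 2), (2, 1), (2, 2), (24, 0), (24, 1), (24, 2), (3, 0), (11, 1), (11, 2), (4, 0), (25, 1), (25, 2), (7, 0), (20, 0), (5, 1), (17, 2), (9, 0), (36, 0), (36, 1), (36, 2), (30, 0), (13, 1), (16, 0), (16, 1), (14, 1), (27, 2), (29, 0), (33, 0), (33, 1), (33, 2), (35, 0), (35, 1), (19, 0), (19, 1), (34, 0)]

/-- primitivity data for one orbit of the point stabiliser. -/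
def prim0 : ℕ × List ℕ × List (ℕ × ℕ) × List (ℕ × ℕ) := (1, [0], prim0A, prim0B)

set_option maxRecDepth 1000000 in
/-- an orbit tree. -/
def prim1A : List (ℕ × ℕ) := [(3, 0), (5, 0), (5, 1), (4, 0), (16, 0), (16, 1), (9, 0), (18, 1), (12, 0), (14, 0), (28, 0), (28, 1), (19, 0), (19, 1), (21, 0), (31, 0), (31, 1), (22, 0), (26, 1), (32, 0), (20, 0), (23, 0), (23, 1), (33, 1), (13, 0), (39, 0)]

set_option maxRecDepth 1000000 in
/-- an orbit tree. -/
def prim1B : List (ℕ × ℕ) := [(0, 2), (3, 0), (3, 2), (5, 1), (5, 2), (4, 0), (16, 0), (16, 1), (16, 2), (2, 0), (2, 2), (9, 0), (9, 2), (18, 1), (12, 0), (12, 2), (11, 2), (14, 0), (14, 2), (10, 2), (28, 0), (28, 1), (19, 0), (19, 1), (19, 2), (17, 0), (21, 0), (31, 0), (31, 1), (22, 0), (26, 1), (26, 2), (32, 0), (24, 0), (23, 1), (34, 2), (33, 1), (27, 0), (29, 2)]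

/-- primitivity data for one orbit of the point stabiliser. -/
def prim1 : ℕ × List ℕ × List (ℕ × ℕ) × List (ℕ × ℕ) := (3, [1, 0], prim1A, prim1B)

/-- the primitivity data. -/
def prim : PrimData := [prim0, prim1]

set_option maxRecDepth 1000000 in
theorem prim_ok : primOK U42TTC.ctF 3 40 Hgens prim = true := primOK_of_F (by decide +kernel)

end Cfsg.Agent.Helper5.U42LP
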