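import Mathlib
import Cfsg.Agent.Helper5.G24F4
import Cfsg.Agent.Helper5.U42LPD

/-!
# Matrices for `PSU₄(2) ≅ PSp₄(3)`

Explicit unitary `4 × 4` matrices of determinant 1 over the field with four elements satisfying the
relators of the presentation `a² = b⁵ = (ab)⁹ = [a, b]³ = [a, bab]² = 1`, and explicit symplectic
`4 × 4` matrices over the integers modulo 3 satisfying them up to sign.
-/

set_option autoImplicit false

namespace Cfsg.Agent.Helper5.U42

open Cfsg.Agent.Helper5.LP Cfsg.Agent.Helper5.TC Cfsg.Agent.Helper5.TCI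
open Cfsg.Agent.Helper5.U42LP (R3)
open Cfsg.Agent.Helper5.G24

/-- a matrix over the field with four elements from a table of numbers `0, 1, 2, 3`. -/
def mk4 (l : List (List ℕ)) : Matrix (Fin 4) (Fin 4) F4 :=
  fun i j => F4.ofN ((l.getD i.val []).getD j.val 0)

/-- the images of the letters `a, b, b⁻¹` in `SU₄(2)`. -/
def U4 : ℕ → Matrix (Fin 4) (Fin 4) F4
  | 0 => mk4 [[0, 0, 0, 1], [0, 1, 0, 0], [0, 0, 1, 0], [1, 0, 0, 0]]
  | 1 => mk4 [[0, 1, 2, 1], [0, 2, 2, 3], [0, 1, 3, 3], [2, 0, 0, 0]]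
  | _ => mk4 [[0, 0, 0, 3], [1, 3, 1, 0], [3, 3, 2, 0], [1, 2, 2, 0]]

set_option maxRecDepth 100000 in
theorem U4_det (c : ℕ) : (U4 c).det = 1 := by
  rcases c with _ | _ | c
  · rw [Matrix.det_apply]; decide +kernel
  · rw [Matrix.det_apply]; decide +kernel
  · rw [show U4 (c + 1 + 1) = U4 2 from rfl, Matrix.det_apply]; decide +kernel

set_option maxRecDepth 100000 in
theorem U4_unitary (c : ℕ) : (U4 c).transpose * (U4 c).map (· ^ 2) = 1 := by
  rcases c with _ | _ | c
  · decide +kernel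
  · decide +kernel
  · rw [show U4 (c + 1 + 1) = U4 2 from rfl]; decide +kernel

set_option maxRecDepth 100000 in
theorem U4_rels : ∀ l ∈ R3, (l.map U4).prod = 1 := by decide +kernel

set_option maxRecDepth 100000 in
theorem U4_ne : U4 0 ≠ 1 := by decide +kernel

/-- the index type of symplectic `4 × 4` matrices. -/
abbrev I4 : Type := Fin 2 ⊕ Fin 2

/-- the numbering of the coordinates. -/
def num : I4 → ℕ
  | .inl i => i.val
  | .inr i => 2 + i.val

/-- a matrix over the integers modulo 3 from a table of numbers. -/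
def mkS (l : List (List ℕ)) : Matrix I4 I4 (ZMod 3) :=
  fun i j => (((l.getD (num i) []).getD (num j) 0 : ℕ) : ZMod 3)

/-- the images of the letters `a, b, b⁻¹` in `Sp₄(3)`. -/
def N3 : ℕ → Matrix I4 I4 (ZMod 3)
  | 0 => mkS [[0, 0, 0, 2], [0, 0, 1, 0], [0, 1, 0, 0], [2, 0, 0, 0]]
  | 1 => mkS [[0, 1, 0, 0], [0, 0, 1, 0], [0, 2, 2, 1], [2, 2, 0, 0]]
  | _ => mkS [[2, 0, 0, 2], [1, 0, 0, 0], [0, 1, 0, 0], [1, 1, 1, 0]]

set_option maxRecDepth 100000 in
theorem N3_symp (c : ℕ) :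
    N3 c * Matrix.J (Fin 2) (ZMod 3) * (N3 c).transpose = Matrix.J (Fin 2) (ZMod 3) := by
  rcases c with _ | _ | c
  · decide +kernel
  · decide +kernel
  · rw [show N3 (c + 1 + 1) = N3 2 from rfl]; decide +kernel

set_option maxRecDepth 100000 in
theorem N3_rels : ∀ l ∈ R3, (l.map N3).prod = 1 ∨ (l.map N3).prod = -1 := by decide +kernel

set_option maxRecDepth 100000 in
theorem N3_ncomm : N3 0 * N3 1 ≠ N3 1 * N3 0 := by decide +kernel

end Cfsg.Agent.Helper5.U42
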