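import Mathlib
import Cfsg.Prelude.Def_Classical
import Cfsg.Agent.Helper5.U42Mat
import Cfsg.Agent.Helper5.SUMap
import Cfsg.Agent.Helper5.SpMap
import Cfsg.Agent.Helper5.SimpleHom
import Cfsg.Agent.Helper8.GUOrder
import Cfsg.Agent.Helper8.SpOrder

/-!
# `PSU₄(2) ≅ PSp₄(3)`

The group presented by `a² = b⁵ = (ab)⁹ = [a, b]³ = [a, bab]² = 1` is simple of order 25920
(`U42LPD`); it embeds into `PSU₄(2)` (over any field with four elements) and into `PSp₄(3)` (over
any field with three elements), and both have at most 25920 elements.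
-/

set_option autoImplicit false

namespace Cfsg.Agent.Helper5.U42

open Cfsg.Agent.Helper5.LP Cfsg.Agent.Helper5.TC Cfsg.Agent.Helper5.TCI
open Cfsg.Agent.Helper5.U42LP (R3 lettersA)
open Cfsg.Agent.Helper5.G24 Cfsg.Agent.Helper5.SUMap Cfsg.Agent.Helper5.SpMap
open Cfsg.Agent.Helper5.SimpleHom

theorem not_prime_card : ¬ (Nat.card (LPG 3 R3)).Prime := by
  rw [U42LP.simple_card.2]
  norm_num

theorem card_quotient_le {G : Type*} [Group G] [Finite G] (N : Subgroup G) [N.Normal] :
    Nat.card (G ⧸ N) ≤ Nat.card G := by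
  rw [Subgroup.card_eq_card_quotient_mul_card_subgroup N]
  exact Nat.le_mul_of_pos_right _ Nat.card_pos

/-! ### the unitary side -/

theorem hK4 : Fintype.card F4 = 2 ^ 2 := rfl

/-- the images of the letters in `SU₄(2)` over the model field. -/
def V4 (c : ℕ) : Cfsg.SU 4 F4 2 :=
  Cfsg.Agent.Helper8.SUCenter.mkSU hK4 (U4 c) (U4_unitary c) (U4_det c)

theorem V4_rels : ∀ l ∈ R3, (l.map V4).prod = 1 := by
  intro l hl
  apply Subtype.ext
  apply Subtype.ext
  rw [sub_list_prod, List.map_map]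
  exact U4_rels l hl

/-- the homomorphism to `SU₄(2)` over the model field. -/
def theta4 : LPG 3 R3 →* Cfsg.SU 4 F4 2 := lift V4 lettersA V4_rels

theorem theta4_injective : Function.Injective theta4 := by
  have := U42LP.simple_card.1
  apply injective_of_simple theta4 (ev 3 R3 [0])
  unfold theta4
  rw [lift_ev V4 lettersA V4_rels [0] (by simp)]
  intro h
  have h1 : V4 0 = 1 := by simpa using h
  have h2 := congrArg (fun z : Cfsg.SU 4 F4 2 =>
    ((z : Matrix.SpecialLinearGroup (Fin 4) F4) : Matrix (Fin 4) (Fin 4) F4)) h1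
  exact U4_ne h2

section
variable {F : Type*} [Field F] [Fintype F]

/-- the model field is the given field with four elements. -/
noncomputable def e4 (hF : Fintype.card F = 4) : F4 ≃+* F :=
  FiniteField.ringEquivOfCardEq (by rw [F4.card_eq, hF])

/-- the homomorphism to `SU₄(2)`. -/
noncomputable def theta (hF : Fintype.card F = 4) : LPG 3 R3 →* Cfsg.SU 4 F 2 :=
  (suMap hK4 (by rw [hF]; norm_num) ((e4 hF : F4 ≃+* F) : F4 →+* F)).comp theta4

theorem theta_injective (hF : Fintype.card F = 4) : Function.Injective (theta hF) :=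
  (suMap_injective hK4 (by rw [hF]; norm_num) _).comp theta4_injective

/-- the homomorphism to `PSU₄(2)`. -/
noncomputable def psi (hF : Fintype.card F = 4) : LPG 3 R3 →* Cfsg.PSU 4 F 2 :=
  (QuotientGroup.mk' (Subgroup.center (Cfsg.SU 4 F 2))).comp (theta hF)

theorem psi_injective (hF : Fintype.card F = 4) : Function.Injective (psi hF) := by
  have := U42LP.simple_card.1
  exact injective_mk_center not_prime_card (theta hF) (theta_injective hF)

theorem card_SU4 (hF : Fintype.card F = 4) : Nat.card (Cfsg.SU 4 F 2) = 25920 := by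
  have hK : Fintype.card F = 2 ^ 2 := by rw [hF]; norm_num
  have h1 := Cfsg.Agent.Helper8.GUOrder.card_SU (n := 4) hK (by norm_num)
  rw [Cfsg.Agent.Helper8.GUOrder.card_GU hK 4] at h1
  have h2 : (2 : ℕ) ^ (4 * (4 - 1) / 2) *
      ∏ i ∈ Finset.range 4, (if Even i then 2 ^ (i + 1) + 1 else 2 ^ (i + 1) - 1)
      = (2 + 1) * 25920 := by
    simp [Finset.prod_range_succ]
    decide
  rw [h2] at h1
  exact Nat.eq_of_mul_eq_mul_left (by norm_num) h1

/-- **The presented group is `PSU₄(2)`.** -/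
noncomputable def psiEquiv (hF : Fintype.card F = 4) : LPG 3 R3 ≃* Cfsg.PSU 4 F 2 :=
  MulEquiv.ofBijective (psi hF) ((psi_injective hF).bijective_of_nat_card_le (by
    rw [U42LP.simple_card.2, ← card_SU4 hF]
    exact card_quotient_le _))

end

/-! ### the symplectic side -/

/-- the images of the letters in `Sp₄(3)`. -/
def S3 (c : ℕ) : Matrix.symplecticGroup (Fin 2) (ZMod 3) :=
  ⟨N3 c, SymplecticGroup.mem_iff.mpr (N3_symp c)⟩

section
variable {K : Type*} [Field K] [Fintype K]

/-- the prime field is the given field with three elements. -/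
noncomputable def e3 (hK : Fintype.card K = 3) : ZMod 3 ≃+* K :=
  FiniteField.ringEquivOfCardEq (by rw [ZMod.card, hK])

/-- the homomorphism `Sp₄(3) → PSp₄(K)`. -/
noncomputable def g3 (hK : Fintype.card K = 3) :
    Matrix.symplecticGroup (Fin 2) (ZMod 3) →* Cfsg.PSp 2 K :=
  (QuotientGroup.mk' (Subgroup.center (Matrix.symplecticGroup (Fin 2) K))).comp
    (spMap ((e3 hK : ZMod 3 ≃+* K) : ZMod 3 →+* K))

theorem g3_eq_one (hK : Fintype.card K = 3) (x : Matrix.symplecticGroup (Fin 2) (ZMod 3))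
    (h : (x : Matrix I4 I4 (ZMod 3)) = 1 ∨ (x : Matrix I4 I4 (ZMod 3)) = -1) :
    g3 hK x = 1 := by
  show (QuotientGroup.mk' _) (spMap _ x) = 1
  rw [QuotientGroup.mk'_apply, QuotientGroup.eq_one_iff]
  apply mem_center_of_pm
  rw [spMap_val]
  rcases h with h | h
  · left
    rw [h]
    ext i j
    simp [Matrix.map_apply, Matrix.one_apply]
  · right
    rw [h]
    ext i j
    simp [Matrix.map_apply, Matrix.one_apply]

/-- the images of the letters in `PSp₄(K)`. -/
noncomputable def W (hK : Fintype.card K = 3) (c : ℕ) : Cfsg.PSp 2 K := g3 hK (S3 c)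

theorem W_rels (hK : Fintype.card K = 3) : ∀ l ∈ R3, (l.map (W hK)).prod = 1 := by
  intro l hl
  have h1 : (l.map (W hK)).prod = g3 hK ((l.map S3).prod) := by
    rw [map_list_prod, List.map_map]
    rfl
  rw [h1]
  apply g3_eq_one
  rw [sp_list_prod, List.map_map]
  exact N3_rels l hl

/-- the homomorphism to `PSp₄(K)`. -/
noncomputable def chi (hK : Fintype.card K = 3) : LPG 3 R3 →* Cfsg.PSp 2 K :=
  lift (W hK) lettersA (W_rels hK)

theorem chi_injective (hK : Fintype.card K = 3) : Function.Injective (chi hK) := by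
  have := U42LP.simple_card.1
  apply injective_of_simple (chi hK) (ev 3 R3 [0])
  unfold chi
  rw [lift_ev (W hK) lettersA (W_rels hK) [0] (by simp)]
  intro h
  have h1 : W hK 0 = 1 := by simpa using h
  have h2 : spMap ((e3 hK : ZMod 3 ≃+* K) : ZMod 3 →+* K) (S3 0)
      ∈ Subgroup.center (Matrix.symplecticGroup (Fin 2) K) := by
    have h3 : (QuotientGroup.mk' (Subgroup.center (Matrix.symplecticGroup (Fin 2) K)))
        (spMap ((e3 hK : ZMod 3 ≃+* K) : ZMod 3 →+* K) (S3 0)) = 1 := h1
    rwa [QuotientGroup.mk'_apply, QuotientGroup.eq_one_iff] at h3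
  have h4 := (Subgroup.mem_center_iff.mp h2)
    (spMap ((e3 hK : ZMod 3 ≃+* K) : ZMod 3 →+* K) (S3 1))
  rw [← map_mul, ← map_mul] at h4
  have h5 := spMap_injective _ (RingHom.injective _) h4
  have h6 := congrArg (fun z : Matrix.symplecticGroup (Fin 2) (ZMod 3) =>
    (z : Matrix I4 I4 (ZMod 3))) h5
  exact N3_ncomm h6.symm

theorem card_PSp_le (hK : Fintype.card K = 3) : Nat.card (Cfsg.PSp 2 K) ≤ 25920 := by
  have h1 := Cfsg.Agent.Helper8.SpOrder.card_symp (F := K) 2
  rw [hK] at h1
  have h2 : (3 : ℕ) ^ (2 ^ 2) * ∏ i ∈ Finset.range 2, (3 ^ (2 * (i + 1)) - 1) = 51840 := by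
    simp [Finset.prod_range_succ]
  rw [h2] at h1
  have h3 := Subgroup.card_eq_card_quotient_mul_card_subgroup
    (Subgroup.center (Matrix.symplecticGroup (Fin 2) K))
  rw [h1] at h3
  have hne : (negOne : Matrix.symplecticGroup (Fin 2) K) ≠ 1 := by
    intro h
    have h4 := congrArg (fun z : Matrix.symplecticGroup (Fin 2) K =>
      (z : Matrix I4 I4 K) (Sum.inl 0) (Sum.inl 0)) h
    have h5 : (-1 : K) = 1 := by simpa [negOne] using h4
    have h6 : ((e3 hK) (2 : ZMod 3) : K) = 0 := by
      have : ((2 : ZMod 3)) = 1 + 1 := by decide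
      rw [this, map_add, map_one]
      linear_combination -h5
    have h7 : (2 : ZMod 3) = 0 := by
      apply (e3 hK).injective
      rw [h6, map_zero]
    exact absurd h7 (by decide)
  have h8 : 2 ≤ Nat.card (Subgroup.center (Matrix.symplecticGroup (Fin 2) K)) := by
    have hnt : Nontrivial (Subgroup.center (Matrix.symplecticGroup (Fin 2) K)) := by
      refine ⟨⟨⟨negOne, negOne_mem_center⟩, 1, ?_⟩⟩
      intro h
      exact hne (congrArg Subtype.val h)
    exact Finite.one_lt_card_iff_nontrivial.mpr hnt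
  have h3' : 51840 = Nat.card (Cfsg.PSp 2 K) *
      Nat.card (Subgroup.center (Matrix.symplecticGroup (Fin 2) K)) := h3
  by_contra hcon
  have hcon' : 25920 < Nat.card (Cfsg.PSp 2 K) := Nat.lt_of_not_le hcon
  have : 51840 < Nat.card (Cfsg.PSp 2 K) *
      Nat.card (Subgroup.center (Matrix.symplecticGroup (Fin 2) K)) := by
    calc 51840 = 25920 * 2 := by norm_num
      _ < Nat.card (Cfsg.PSp 2 K) * 2 := by omega
      _ ≤ _ := Nat.mul_le_mul_left _ h8
  rw [← h3'] at this
  exact lt_irrefl _ this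

/-- **The presented group is `PSp₄(K)`.** -/
noncomputable def chiEquiv (hK : Fintype.card K = 3) : LPG 3 R3 ≃* Cfsg.PSp 2 K :=
  MulEquiv.ofBijective (chi hK) ((chi_injective hK).bijective_of_nat_card_le (by
    rw [U42LP.simple_card.2]
    exact card_PSp_le hK))

end

/-- **`PSU₄(2) ≅ PSp₄(3)`.** -/
theorem main {F K : Type*} [Field F] [Fintype F] [Field K] [Fintype K]
    (hF : Fintype.card F = 4) (hK : Fintype.card K = 3) :
    Nonempty (Cfsg.PSU 4 F 2 ≃* Cfsg.PSp 2 K) :=
  ⟨(psiEquiv hF).symm.trans (chiEquiv hK)⟩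

end Cfsg.Agent.Helper5.U42
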