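import Cfsg.Agent.Helper5.TensA2S1
import Cfsg.Agent.Helper5.TensSpSeedBridge

/-!
# S5666, case `a = 2`, steps (S6) + (S7) (helper5), in contraction form

`psi ht f₂ g₀ y v = ev ht (f₂.flip y) (g₀⁻¹ v)`, so that `B (g₀ (t a y)) v = f₁ a (psi … v)`.
From a "good" `u` we produce the data `g'`, `e` for the Criterion.
-/

set_option autoImplicit false
set_option linter.unusedSectionVars false
set_option linter.unusedVariables false
set_option linter.style.haveILetI false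

namespace Cfsg.Agent.Helper5.TensA2

open Module Cfsg.Agent.Helper7.ExtF Cfsg.Agent.Helper8.Tens Cfsg.Agent.Helper3.TensOm
  Cfsg.Agent.Helper6.SpO

variable {F : Type*} [Field F] {U W V : Type*} [AddCommGroup U] [Module F U]
  [AddCommGroup W] [Module F W] [AddCommGroup V] [Module F V]
  [FiniteDimensional F U] [FiniteDimensional F W] [FiniteDimensional F V]
  {t : U →ₗ[F] W →ₗ[F] V} {B : LinearMap.BilinForm F V} {f₁ : LinearMap.BilinForm F U}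
  {f₂ : LinearMap.BilinForm F W} {X : Subgroup (V ≃ₗ[F] V)}

/-- the contraction `ψ = c_y ∘ g₀⁻¹ : V → U`. -/
noncomputable def psi (ht : IsTensorProduct t) (f₂ : LinearMap.BilinForm F W) (g₀ : V ≃ₗ[F] V)
    (y : W) : V →ₗ[F] U :=
  (ev ht (f₂.flip y)).comp (g₀.symm : V ≃ₗ[F] V).toLinearMap

theorem psi_apply (ht : IsTensorProduct t) (f₂ : LinearMap.BilinForm F W) (g₀ : V ≃ₗ[F] V)
    (y : W) (v : V) : psi ht f₂ g₀ y v = ev ht (f₂.flip y) (g₀⁻¹ v) := rfl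

theorem psi_apply' (ht : IsTensorProduct t) (f₂ : LinearMap.BilinForm F W) (g₀ : V ≃ₗ[F] V)
    (y : W) (v : V) : psi ht f₂ g₀ y v = ev ht (f₂.flip y) (g₀.symm v) := rfl

/-- `B (t a y) v = f₁ a (c_y v)`. -/
theorem B_pure_left (ht : IsTensorProduct t) (h : Hyp t B f₁ f₂ X) (a : U) (y : W) (v : V) :
    B (t a y) v = f₁ a (ev ht (f₂.flip y) v) := by
  have : B (t a y) = (f₁ a).comp (ev ht (f₂.flip y)) := by
    apply ext_pure ht
    intro u w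
    rw [h.pol, LinearMap.comp_apply, ev_t, map_smul, smul_eq_mul]
    have e : (f₂.flip y) w = f₂ w y := rfl
    rw [e, h.symm₂ y w]
    ring
  rw [this]; rfl

/-- `B (g₀ (t a y)) v = f₁ a (ψ v)` for an isometry `g₀`. -/
theorem B_img_left (ht : IsTensorProduct t) (h : Hyp t B f₁ f₂ X) {g₀ : V ≃ₗ[F] V}
    (hg₀ : g₀ ∈ X) (a : U) (y : W) (v : V) :
    B (g₀ (t a y)) v = f₁ a (psi ht f₂ g₀ y v) := by
  have e : v = g₀ (g₀.symm v) := (g₀.apply_symm_apply v).symm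
  conv_lhs => rw [e]
  rw [h.isom g₀ hg₀, B_pure_left ht h]
  rfl

/-- the involution `1 ⊗ r_y` of `X` on arbitrary vectors. -/
theorem exists_refl_mem (ht : IsTensorProduct t) (h : Hyp t B f₁ f₂ X) {y : W}
    (hy : f₂ y y ≠ 0) :
    ∃ i ∈ X, (∀ u w, i (t u w) = t u (w - (2 * f₂ w y / f₂ y y) • y)) ∧
      ∀ v, i v = v - (2 / f₂ y y) • t (ev ht (f₂.flip y) v) y := by
  obtain ⟨C, hC1, hC2⟩ := Cfsg.Agent.Helper5.TensSpFin.exists_reflection_equiv h.symm₂ hy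
  obtain ⟨i, hi, hit⟩ := movO h C hC2
  refine ⟨i, hi, fun u w => by rw [hit, hC1], fun v => ?_⟩
  have : (i : V ≃ₗ[F] V).toLinearMap =
      LinearMap.id - (2 / f₂ y y) • (t.flip y).comp (ev ht (f₂.flip y)) := by
    apply ext_pure ht
    intro u w
    rw [LinearEquiv.coe_coe, hit, hC1, LinearMap.sub_apply, LinearMap.smul_apply,
      LinearMap.comp_apply, LinearMap.id_apply, ev_t, LinearMap.flip_apply, map_sub, map_smul,
      map_smul, LinearMap.smul_apply, smul_smul]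
    have e : (f₂.flip y) w = f₂ w y := rfl
    rw [e]
    congr 2
    ring
  have h2 := congrArg (fun L : V →ₗ[F] V => L v) this
  simpa using h2

/-- existence of the pair `(y', e₁)` from a good `u`. -/
theorem exists_pair_of_good (h : Hyp t B f₁ f₂ X) (hb : 3 ≤ finrank F W) {z : W} (hz : z ≠ 0)
    (φ : W →ₗ[F] U)
    (hgood : ∃ w₁ w₂, f₂ w₁ z = 0 ∧ f₂ w₂ z = 0 ∧ f₁ (φ w₁) (φ w₂) ≠ 0) :
    ∃ y' e₁, f₂ y' z = 0 ∧ f₂ y' y' ≠ 0 ∧ f₂ e₁ z = 0 ∧ f₂ e₁ y' = 0 ∧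
      f₁ (φ e₁) (φ y') ≠ 0 := by
  by_contra hcon
  push Not at hcon
  have step1 : ∀ y', f₂ y' z = 0 → f₂ y' y' ≠ 0 → ∀ w, f₂ w z = 0 → f₁ (φ w) (φ y') = 0 := by
    intro y' hy'z hy'y' w hwz
    have h1 := hcon y' (w - (f₂ w y' / f₂ y' y') • y') hy'z hy'y'
      (by rw [map_sub, LinearMap.sub_apply, map_smul, LinearMap.smul_apply, hwz, hy'z,
        smul_zero, sub_zero])
      (by rw [map_sub, LinearMap.sub_apply, map_smul, LinearMap.smul_apply, smul_eq_mul,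
        div_mul_cancel₀ _ hy'y', sub_self])
    rw [map_sub, map_smul, map_sub, LinearMap.sub_apply, map_smul, LinearMap.smul_apply,
      h.alt₁, smul_zero, sub_zero] at h1
    exact h1
  obtain ⟨y₀, hy₀z, hy₀⟩ := exists_nonsing_perp f₂ h.symm₂ h.nd₂ h.two hb hz
  have hy₀z' : f₂ y₀ z = 0 := by rw [h.symm₂]; exact hy₀z
  obtain ⟨w₁, w₂, hw₁, hw₂, hne⟩ := hgood
  apply hne
  by_cases hw₂w₂ : f₂ w₂ w₂ = 0
  · have h0 := step1 y₀ hy₀z' hy₀ w₁ hw₁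
    have key : ∀ c : F, f₂ (w₂ + c • y₀) (w₂ + c • y₀) ≠ 0 → f₁ (φ w₁) (φ w₂) = 0 := by
      intro c hc
      have h1 := step1 (w₂ + c • y₀)
        (by rw [map_add, LinearMap.add_apply, map_smul, LinearMap.smul_apply, hw₂, hy₀z',
          smul_zero, add_zero]) hc w₁ hw₁
      rw [map_add, map_add, map_smul, map_smul, h0, smul_zero, add_zero] at h1
      exact h1
    have hq : ∀ c : F, f₂ (w₂ + c • y₀) (w₂ + c • y₀) = c * (2 * f₂ w₂ y₀ + c * f₂ y₀ y₀) := by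
      intro c
      simp only [map_add, map_smul, LinearMap.add_apply, LinearMap.smul_apply, smul_eq_mul,
        hw₂w₂, h.symm₂ y₀ w₂]
      ring
    by_cases hc1 : 2 * f₂ w₂ y₀ + f₂ y₀ y₀ = 0
    · apply key (-1)
      rw [hq]
      have : (2 * f₂ w₂ y₀ + -1 * f₂ y₀ y₀) = - (2 * f₂ y₀ y₀) := by
        have : 2 * f₂ w₂ y₀ = - f₂ y₀ y₀ := by linear_combination hc1
        rw [this]; ring
      rw [this]
      exact mul_ne_zero (by simp) (neg_ne_zero.mpr (mul_ne_zero h.two hy₀))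
    · apply key 1
      rw [hq, one_mul, one_mul]
      exact hc1
  · exact step1 w₂ hw₂ hw₂w₂ w₁ hw₁

/-- **(S6) + (S7)**: from a good `u` to the data of the Criterion. -/
theorem exists_crit_data (ht : IsTensorProduct t) (h : Hyp t B f₁ f₂ X) (hb : 3 ≤ finrank F W)
    {g₀ : V ≃ₗ[F] V} (hg₀ : g₀ ∈ X) {y : W} (hy : f₂ y y ≠ 0) {z : W} (hz : z ≠ 0)
    (hΨz : ∀ u', psi ht f₂ g₀ y (t u' z) = 0) {u : U}
    (hgood : ∃ w₁ w₂, f₂ w₁ z = 0 ∧ f₂ w₂ z = 0 ∧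
      f₁ (psi ht f₂ g₀ y (t u w₁)) (psi ht f₂ g₀ y (t u w₂)) ≠ 0) :
    ∃ g' ∈ X, ∃ e, f₂ e z = 0 ∧ (∀ u', g' (t u' z) = t u' z) ∧
      B (g' (t u e)) (t u e) ≠ 0 := by
  set ψ := psi ht f₂ g₀ y with hψ
  obtain ⟨y', e₁, hy'z, hy'y', he₁z, he₁y', hne⟩ :=
    exists_pair_of_good h hb hz (ψ.comp (t u)) hgood
  simp only [LinearMap.comp_apply] at hne
  obtain ⟨i, hi, -, hiv⟩ := exists_refl_mem ht h hy
  obtain ⟨i', hi', hi't, -⟩ := exists_refl_mem ht h hy'y'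
  have hj : ∀ v, (g₀ * i * g₀⁻¹) v = v - (2 / f₂ y y) • g₀ (t (ψ v) y) := by
    intro v
    have e1 : (g₀ * i * g₀⁻¹) v = g₀ (i (g₀.symm v)) := rfl
    rw [e1, hiv, map_sub, map_smul, LinearEquiv.apply_symm_apply]
    rfl
  have hjX : g₀ * i * g₀⁻¹ ∈ X := X.mul_mem (X.mul_mem hg₀ hi) (X.inv_mem hg₀)
  refine ⟨g₀ * i * g₀⁻¹ * i', X.mul_mem hjX hi', e₁ + y', ?_, ?_, ?_⟩
  · rw [map_add, LinearMap.add_apply, he₁z, hy'z, add_zero]
  · intro u'
    have e1 : (g₀ * i * g₀⁻¹ * i') (t u' z) = (g₀ * i * g₀⁻¹) (i' (t u' z)) := rfl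
    have hzy' : f₂ z y' = 0 := by rw [h.symm₂]; exact hy'z
    rw [e1, hi't, hzy', mul_zero, zero_div, zero_smul, sub_zero, hj, hΨz, LinearMap.map_zero₂,
      map_zero, smul_zero, sub_zero]
  · have e1 : (g₀ * i * g₀⁻¹ * i') (t u (e₁ + y')) = (g₀ * i * g₀⁻¹) (i' (t u (e₁ + y'))) := rfl
    have e2 : (e₁ + y') - (2 * f₂ (e₁ + y') y' / f₂ y' y') • y' = e₁ - y' := by
      rw [map_add, LinearMap.add_apply, he₁y', zero_add, mul_div_assoc, div_self hy'y', mul_one,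
        two_smul]
      abel
    rw [e1, hi't, e2, hj, map_sub, LinearMap.sub_apply, map_smul, LinearMap.smul_apply,
      B_img_left ht h hg₀, h.pol, h.alt₁, zero_mul, zero_sub, ← hψ]
    have e3 : ψ (t u (e₁ - y')) = ψ (t u e₁) - ψ (t u y') := by rw [map_sub, map_sub]
    have e4 : ψ (t u (e₁ + y')) = ψ (t u e₁) + ψ (t u y') := by rw [map_add, map_add]
    rw [e3, e4]
    have e5 : f₁ (ψ (t u e₁) - ψ (t u y')) (ψ (t u e₁) + ψ (t u y')) =
        2 * f₁ (ψ (t u e₁)) (ψ (t u y')) := by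
      have hs := alt_skew f₁ h.alt₁ (ψ (t u y')) (ψ (t u e₁))
      simp only [map_sub, map_add, LinearMap.sub_apply, h.alt₁]
      rw [hs]
      ring
    rw [e5, smul_eq_mul]
    exact neg_ne_zero.mpr (mul_ne_zero (div_ne_zero h.two hy) (mul_ne_zero h.two hne))

/-- bridge from the injectivity form of "good `u`" (`P ∩ (u ⊗ z^⊥)^⊥ = 0`, `P = g₀ (U ⊗ y)`)
to `hgood`. -/
theorem hgood_of_inj (ht : IsTensorProduct t) (h : Hyp t B f₁ f₂ X) (hU : 1 ≤ finrank F U)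
    {g₀ : V ≃ₗ[F] V} (hg₀ : g₀ ∈ X) {y : W} (hy : f₂ y y ≠ 0) {z : W} {u : U}
    (hinj : ∀ p ∈ img g₀ (fib t y), (∀ w, f₂ w z = 0 → B p (t u w) = 0) → p = 0) :
    ∃ w₁ w₂, f₂ w₁ z = 0 ∧ f₂ w₂ z = 0 ∧
      f₁ (psi ht f₂ g₀ y (t u w₁)) (psi ht f₂ g₀ y (t u w₂)) ≠ 0 := by
  have hy0 : y ≠ 0 := by
    rintro rfl
    exact hy (by simp)
  have ha0 : ∀ a : U, (∀ w, f₂ w z = 0 → f₁ a (psi ht f₂ g₀ y (t u w)) = 0) → a = 0 := by
    intro a ha
    have hp := hinj (g₀ (t a y)) (apply_mem_img (t_mem_fib a y)) (fun w hw => by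
      rw [B_img_left ht h hg₀]; exact ha w hw)
    have h1 : t a y = 0 := by
      have : g₀ (t a y) = g₀ 0 := by rw [hp, map_zero]
      exact g₀.injective this
    rcases (t_eq_zero_iff ht).mp h1 with h2 | h2
    · exact h2
    · exact absurd h2 hy0
  by_contra hcon
  push Not at hcon
  by_cases hex : ∃ w₁, f₂ w₁ z = 0 ∧ psi ht f₂ g₀ y (t u w₁) ≠ 0
  · obtain ⟨w₁, hw₁, hne⟩ := hex
    exact hne (ha0 _ (fun w hw => hcon w₁ w hw₁ hw))
  · push Not at hex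
    obtain ⟨a, ha⟩ := exists_ne_zero_of_one_le (F := F) (M := U) hU
    exact ha (ha0 a (fun w hw => by rw [hex w hw, map_zero]))

end Cfsg.Agent.Helper5.TensA2
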