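import Cfsg.Agent.Helper5.TC2A

/-! generated coset table (generator 1): A6CTC -/

set_option autoImplicit false
set_option Elab.async false

namespace Cfsg.Agent.Helper5.A6CTC
open Cfsg.Agent.Helper5.TC

def ct1_0 : ℕ := 0x1ae0001780001a100016800016d0001ac0001710001560001a600015400014900014700014400018c00013a00017c00014d00012e00012d00016200016700012500015100012400019600012100016c00018100011f00011b00011700019200014100015800010f00011a00013200010500012700019d0001390001140000ff00019c0000fe00013400014a00013500019900019f0001a500011e0001a30001530001af0000f000010e00019800013b00012600017b0001a400015b0000f700018a0001610000e300012b0001ad0001a00001aa0000de0000e20001a800019100019a0000ed0001830001ab00016000018000012a0000d20001a90000d10000d500014b00011000010b0001460001a70000c600017f0000c500017a0000c40000c300018d00012900017e0001380001930000bd00019e0000bb0000dc0001520000e70001430000f40001120000b40001a20001480001900000e600015f0000f20000ae00010000013000011c00017500016f0001150000aa0000d30000a80000a70000c10000cc0001850000a500019b00014c0001040000a30000f30000c80001630000a10001970000a00001950001940000fb0000b200009e00010700011800015d00013f00009800017200018b00012c00018f00009500018e00009400017000009c0000cd00009200009b00015900010900009000013d00008f00018200018900016500018800018700010a00018600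01840000870000fa00016a0000840001500000fd00014e00008100017d00008000007f00016b00007d0001790001770001640001760000cb00017400014000015a00007800017300007700012300007400016e00015e0000df00012f0000710001690000f100016600010600006f00009d00006d00014f0000d60000e800010c00006800006700015c0000ce00006900006500006400010200007900009f0001570000ee00006e00015500005f00005e0000e400006a00013e0000be0000bf00005a0000f500013100011600008d0001450001080000820000b600014200005500008b0001360000b100013c00006b00008a0001370000ea0000a900013300004e0000500000630000a400012000004c0001280000e500004b00012200004a00011d00006000007c0000610000970001190001030000470000f800011300011100010d0000cf0000b80000420000da00005800004000007b00003f0001010000450000f60000460000860000fc00003c0000f900003b0000d80000560000eb0000e00000380000ef0000b30000ec0000360000e90000520000730000af0000d70000340000e10000330000dd0000db0000d900008800003000002f00002e0000d40000590000990000d000002c00004300007e0000ca0000c90000c70000b90000830000c200005c0000c00000260000bc0000ba0000b70000b50000ac0000320000890000b00000310000ad0000ab0000200000a600001f0000a200002a00002d00009a00001d00009600002900004100009300009100001b00008e00008c00002b00001900008500002400003700007500007000001700007a00007600001600007200001500006c00002100003900002700001200006600001a00006200002200002500005d00005b00000f00005700005400005300005100004f00004d00004900004800004400000a00003d00003e00003a00000800003500000e00001100001300000b00000600002800000500002300000d00000900001e00001c00000300001800001400000200001000000c000001000007000004000000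
def ctSel1 (c : ℕ) : ℕ := ct1_0
def ct1F (v : ℕ) : ℕ := Nat.rec (motive := fun _ => ℕ) 0 (fun c _ => Nat.mod (Nat.shiftRight (ctSel1 c) (Nat.mul 24 (Nat.mod v 682))) 16777216) (Nat.add (Nat.div v 682) 1)

end Cfsg.Agent.Helper5.A6CTC
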