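import Cfsg.Agent.Helper5.TC2A

/-! generated coset table (generator 2): A6CTC -/

set_option autoImplicit false
set_option Elab.async false

namespace Cfsg.Agent.Helper5.A6CTC
open Cfsg.Agent.Helper5.TC

def ct2_0 : ℕ := 0x1ad0001ae0001a50001ac0001a400015d0001740001a80001a70001af00019d0001870001a000017e00016900013700016500018e0001a600012b00019b00019a00014200013300019700015500019500015200015000016100018100013c0001ab00017800018f00017100011300018a00018900010c00018d0001860001210001120001830000fd0000fc00015b00017b0000f900011d00016b0000f10000fa0001460001aa0001930000ec00010a0000e80001390001010000e400010d0000e300019c0001a90001220000df0000f400018200012a0001200001320000db0000da0000d90000d70000d40000d30000d200018400019e0001270001910000d60000ce00014d00015c00016f0001a30001110000e10001770001920001940001850000c10000c00000ca0000be0001980001190000bc0000c30000ba0000e60001790001360000d00001a20001a10000b300013f0000b00001160000af00013b00010f00016e0001960000ab0000b50000e200014b00012600019f00017d0001630000a60001480000d10000ad0000a40000ef0001540001640000a20001660001990000d80000c500018800009f0000dd00009e00014900016000011e00009a0001300000970001230000960001900001040000c900015f0000c200014500009300017300018c00014f00018b0000900000e90000ac00008e00017600016200008c00012f00008a00011000010200008800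00ff00014000018000014700017f0000b400014e0000810001280000f700017c00016d0000cd00017a00007c0001680000f000007a0001070000790000780001750000f30000ea00017200007600017000007300007200016c00007100016a0000700001670000de0000a900015700008b00011800006c00006b00006a0000c400015900015e0000660000a100015a00011c00011a00006200013d0001580000910000600001560000c800015300015100005d0000f600005b00014c00005a00014a00005900012e0000bd0000b70000570000eb00014400005600014300014100005400013e0001080000cc00005100013a00013800004f00013500013400013100004d0000ed00012d00012c00012900004b0001250001240000a300011f00004900011b0000480000d500007d0000470000e000011700011500011400004300010e00009400010b00010900004600010600010500004400010300003e00010000003d0000fe00003c0000b60000fb0000860000f800003a0000f500003900007f0000f20000370000ee0000a80000b90000350000e70000750000340000e50000c700004e0000990000320000dc00003100006e00008d00006500009c00002d0000bf00002c00004c0000cf00006700002a0000cb0000630000280000c600002700008400005e0000820000690000250000bb0000b80000230000850000b20000b10000210000ae0000520000530000aa0000a70000a500001e0000a000009d00009b00009800001c00004100009500001b00009200008f00001a00004000008900008700001800008300008000001700007e00007b00001600007700007400003600006f00001400006d00001300002f00006800001100006400001000006100005f00000f00005c00005800000e00005500002400000c00005000000b00004a00001f00004500004200000900003f00003b00003800000700003300003000000600002e00002b00002900002600000400002200002000000300001d00001900000200001500001200000800000d00000a000000000005000001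
def ctSel2 (c : ℕ) : ℕ := ct2_0
def ct2F (v : ℕ) : ℕ := Nat.rec (motive := fun _ => ℕ) 0 (fun c _ => Nat.mod (Nat.shiftRight (ctSel2 c) (Nat.mul 24 (Nat.mod v 682))) 16777216) (Nat.add (Nat.div v 682) 1)

end Cfsg.Agent.Helper5.A6CTC
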