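import Cfsg.Agent.Helper5.TC2A

/-! generated coset table (generator 3): A6CTC -/

set_option autoImplicit false
set_option Elab.async false

namespace Cfsg.Agent.Helper5.A6CTC
open Cfsg.Agent.Helper5.TC

def ct3_0 : ℕ := 0x1a60001ae0001af0001ac00018f00017800016d0001a80001a700019d0001ad0001ab0001550001410001400001a300013100015d0001a500016e00019b00019a00012400014a00019700013700019500015000017700015100015b00011500018d00019e00018700010d00010b00018a0001890001210001a400018600014f00015e0001830001690001910000fc0000fa0001a20001300000f400017f0000f100014400018e0001520001060000e90001a900010e0000e600018c0000e40001560001380000f30000e100017c0000df0001a10000ef0000dd00012500019f00012700012f00010500019200011c0001120000d20001aa0001570001800000cf0000d30000ca0000da0000c70001960001280000c50001940000c400019300010c0000f80001580000c00001330000be00011d00012d0000fb0001790001100000b70000b50001990000b40000fd00013e0000b20000cb00019000013a0000ae0001730000ad0001a00001430000ab0000aa0001980001660000a90001190001030000bc0000a60000a500019c0001680000a40000f600015c0001320000a20000a100011700016c00018500016700009f00011b00017d0000ce00009d0000cd0001490000d800009700013c00009600009500018b0001840001540001010001390000930001700001880000910001750000900000b10000ec00008e00008d00011400008b0001000001720000890000fe00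008700018200018100008400017a00017e0000820000f50000c200008000016a0000e800007d00017b0000ee00012900007b0000a70001760000b80000e700010900017400007700014500007400017100016f00013400015300009800016b0000dc00011f00006f00016500016400016300012300016200015a00009b00016100016000015f00012c0001420000650001590000f20000b000006200014c0001130000c600007300005f0001220000d400014700011100014e00014d00006800014b0000bb0001480000580001460000790000570000ba0000850001350000f900013f00005400005300013d00013b00005100012b00010800013600004e0000db00007a00004d00012e00004c00012a0000a00001260000d000004a00012000011e00004900006a00004800011a00007100004700011800011600004400009200010f0000420000c900010a00004100010700006c0001040000d900010200003e0000ff00003d00008300005500005d00003b00005b0000f700003a00007e00003800009a0000f00000370000ed0000eb0000ea0000350000e50000760000340000e30000e20000e00000de00003200006d0000300000d70000d60000d500005a00002d0000640000d100006b00002b0000610000cc0000290000c800002800005c0000c30000260000c10000bf0000bd0000250000b90000b60000230000b300004f0000500000af0000200000ac0000720000a80000660000a300001e00009e00009c00009900008f00001c00008c00009400001b00004500003f00001900008a00008800008600001800008100007f00001700007c00003300007800007500001500007000006e00001400002e00001200006900006700001100006300001000006000005e00000f00005900002200005600000d00005200000c00001d00004b00000a00004600004300004000000900003c00003900003600000700003100002f00000600002c00002a00002700002400000400002100001f00000300001a00000500001600001300000100000e00000b000008000000000002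
def ctSel3 (c : ℕ) : ℕ := ct3_0
def ct3F (v : ℕ) : ℕ := Nat.rec (motive := fun _ => ℕ) 0 (fun c _ => Nat.mod (Nat.shiftRight (ctSel3 c) (Nat.mul 24 (Nat.mod v 682))) 16777216) (Nat.add (Nat.div v 682) 1)

end Cfsg.Agent.Helper5.A6CTC
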