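import Cfsg.Agent.Helper5.A6CTCCt0
import Cfsg.Agent.Helper5.A6CTCCt1
import Cfsg.Agent.Helper5.A6CTCCt2
import Cfsg.Agent.Helper5.A6CTCCt3
import Cfsg.Agent.Helper5.TC3A

/-! generated coset table: A6CTC -/

set_option autoImplicit false
set_option Elab.async false

namespace Cfsg.Agent.Helper5.A6CTC
open Cfsg.Agent.Helper5.TC

def ctF (x v : ℕ) : ℕ := (Bool.rec (motive := fun _ => ℕ) (Bool.rec (motive := fun _ => ℕ) (ct0F v) (ct1F v) (Nat.ble 1 x)) (Bool.rec (motive := fun _ => ℕ) (ct2F v) (ct3F v) (Nat.ble 3 x)) (Nat.ble 2 x))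
set_option maxRecDepth 1000000 in
def W_0 (v : ℕ) : ℕ := forceL (ct1F v) (fun a1 => forceL (ct0F a1) (fun a2 => a2))
set_option maxRecDepth 1000000 in
def W_1 (v : ℕ) : ℕ := forceL (ct0F v) (fun a1 => forceL (ct1F a1) (fun a2 => a2))
set_option maxRecDepth 1000000 in
def W_2 (v : ℕ) : ℕ := forceL (ct0F v) (fun a1 => forceL (ct0F a1) (fun a2 => forceL (ct0F a2) (fun a3 => forceL (ct0F a3) (fun a4 => forceL (ct0F a4) (fun a5 => a5)))))
set_option maxRecDepth 1000000 in
def W_3 (v : ℕ) : ℕ := forceL (ct3F v) (fun a1 => forceL (ct2F a1) (fun a2 => a2))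
set_option maxRecDepth 1000000 in
def W_4 (v : ℕ) : ℕ := forceL (ct2F v) (fun a1 => forceL (ct3F a1) (fun a2 => a2))
set_option maxRecDepth 1000000 in
def W_5 (v : ℕ) : ℕ := forceL (ct2F v) (fun a1 => forceL (ct2F a1) (fun a2 => forceL (ct2F a2) (fun a3 => forceL (ct2F a3) (fun a4 => forceL (ct2F a4) (fun a5 => a5)))))
set_option maxRecDepth 1000000 in
def W_6 (v : ℕ) : ℕ := forceL (ct1F v) (fun a1 => forceL (ct0F a1) (fun a2 => forceL (ct3F a2) (fun a3 => forceL (ct0F a3) (fun a4 => forceL (ct3F a4) (fun a5 => forceL (ct0F a5) (fun a6 => forceL (ct2F a6) (fun a7 => forceL (ct1F a7) (fun a8 => forceL (ct2F a8) (fun a9 => forceL (ct1F a9) (fun a10 => a10))))))))))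
set_option maxRecDepth 1000000 in
def W_7 (v : ℕ) : ℕ := forceL (ct3F v) (fun a1 => forceL (ct0F a1) (fun a2 => forceL (ct3F a2) (fun a3 => forceL (ct0F a3) (fun a4 => forceL (ct3F a4) (fun a5 => forceL (ct2F a5) (fun a6 => forceL (ct2F a6) (fun a7 => forceL (ct1F a7) (fun a8 => forceL (ct2F a8) (fun a9 => forceL (ct1F a9) (fun a10 => a10))))))))))
set_option maxRecDepth 1000000 in
def W_8 (v : ℕ) : ℕ := forceL (ct1F v) (fun a1 => forceL (ct1F a1) (fun a2 => forceL (ct2F a2) (fun a3 => forceL (ct1F a3) (fun a4 => forceL (ct2F a4) (fun a5 => forceL (ct0F a5) (fun a6 => forceL (ct3F a6) (fun a7 => forceL (ct0F a7) (fun a8 => forceL (ct3F a8) (fun a9 => forceL (ct0F a9) (fun a10 => a10))))))))))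
set_option maxRecDepth 1000000 in
def W_9 (v : ℕ) : ℕ := forceL (ct3F v) (fun a1 => forceL (ct1F a1) (fun a2 => forceL (ct2F a2) (fun a3 => forceL (ct1F a3) (fun a4 => forceL (ct2F a4) (fun a5 => forceL (ct2F a5) (fun a6 => forceL (ct3F a6) (fun a7 => forceL (ct0F a7) (fun a8 => forceL (ct3F a8) (fun a9 => forceL (ct0F a9) (fun a10 => a10))))))))))
set_option maxRecDepth 1000000 in
def W_10 (v : ℕ) : ℕ := forceL (ct1F v) (fun a1 => forceL (ct0F a1) (fun a2 => forceL (ct2F a2) (fun a3 => forceL (ct0F a3) (fun a4 => forceL (ct2F a4) (fun a5 => forceL (ct0F a5) (fun a6 => forceL (ct2F a6) (fun a7 => forceL (ct0F a7) (fun a8 => forceL (ct2F a8) (fun a9 => forceL (ct0F a9) (fun a10 => forceL (ct3F a10) (fun a11 => forceL (ct1F a11) (fun a12 => forceL (ct3F a12) (fun a13 => forceL (ct1F a13) (fun a14 => forceL (ct3F a14) (fun a15 => forceL (ct1F a15) (fun a16 => forceL (ct3F a16) (fun a17 => forceL (ct1F a17) (fun a18 => a18))))))))))))))))))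
set_option maxRecDepth 1000000 in
def W_11 (v : ℕ) : ℕ := forceL (ct3F v) (fun a1 => forceL (ct0F a1) (fun a2 => forceL (ct2F a2) (fun a3 => forceL (ct0F a3) (fun a4 => forceL (ct2F a4) (fun a5 => forceL (ct0F a5) (fun a6 => forceL (ct2F a6) (fun a7 => forceL (ct0F a7) (fun a8 => forceL (ct2F a8) (fun a9 => forceL (ct2F a9) (fun a10 => forceL (ct3F a10) (fun a11 => forceL (ct1F a11) (fun a12 => forceL (ct3F a12) (fun a13 => forceL (ct1F a13) (fun a14 => forceL (ct3F a14) (fun a15 => forceL (ct1F a15) (fun a16 => forceL (ct3F a16) (fun a17 => forceL (ct1F a17) (fun a18 => a18))))))))))))))))))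
set_option maxRecDepth 1000000 in
def W_12 (v : ℕ) : ℕ := forceL (ct2F v) (fun a1 => forceL (ct1F a1) (fun a2 => forceL (ct2F a2) (fun a3 => forceL (ct1F a3) (fun a4 => forceL (ct2F a4) (fun a5 => forceL (ct1F a5) (fun a6 => forceL (ct2F a6) (fun a7 => forceL (ct1F a7) (fun a8 => forceL (ct2F a8) (fun a9 => forceL (ct1F a9) (fun a10 => forceL (ct2F a10) (fun a11 => forceL (ct1F a11) (fun a12 => forceL (ct2F a12) (fun a13 => forceL (ct1F a13) (fun a14 => forceL (ct2F a14) (fun a15 => forceL (ct1F a15) (fun a16 => forceL (ct2F a16) (fun a17 => forceL (ct1F a17) (fun a18 => forceL (ct2F a18) (fun a19 => forceL (ct1F a19) (fun a20 => forceL (ct2F a20) (fun a21 => forceL (ct1F a21) (fun a22 => forceL (ct2F a22) (fun a23 => forceL (ct1F a23) (fun a24 => a24))))))))))))))))))))))))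
set_option maxRecDepth 1000000 in
def W_13 (v : ℕ) : ℕ := forceL (ct3F v) (fun a1 => forceL (ct0F a1) (fun a2 => forceL (ct3F a2) (fun a3 => forceL (ct0F a3) (fun a4 => forceL (ct3F a4) (fun a5 => forceL (ct0F a5) (fun a6 => forceL (ct3F a6) (fun a7 => forceL (ct0F a7) (fun a8 => forceL (ct3F a8) (fun a9 => forceL (ct0F a9) (fun a10 => forceL (ct3F a10) (fun a11 => forceL (ct0F a11) (fun a12 => forceL (ct3F a12) (fun a13 => forceL (ct0F a13) (fun a14 => forceL (ct3F a14) (fun a15 => forceL (ct0F a15) (fun a16 => forceL (ct3F a16) (fun a17 => forceL (ct0F a17) (fun a18 => forceL (ct3F a18) (fun a19 => forceL (ct0F a19) (fun a20 => forceL (ct3F a20) (fun a21 => forceL (ct0F a21) (fun a22 => forceL (ct3F a22) (fun a23 => forceL (ct0F a23) (fun a24 => a24))))))))))))))))))))))))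
set_option maxRecDepth 1000000 in
def W_14 (v : ℕ) : ℕ := forceL (ct3F v) (fun a1 => forceL (ct1F a1) (fun a2 => forceL (ct3F a2) (fun a3 => forceL (ct1F a3) (fun a4 => forceL (ct3F a4) (fun a5 => forceL (ct1F a5) (fun a6 => forceL (ct3F a6) (fun a7 => forceL (ct1F a7) (fun a8 => forceL (ct3F a8) (fun a9 => forceL (ct1F a9) (fun a10 => forceL (ct3F a10) (fun a11 => forceL (ct1F a11) (fun a12 => forceL (ct3F a12) (fun a13 => forceL (ct1F a13) (fun a14 => forceL (ct3F a14) (fun a15 => forceL (ct1F a15) (fun a16 => forceL (ct3F a16) (fun a17 => forceL (ct1F a17) (fun a18 => forceL (ct3F a18) (fun a19 => forceL (ct1F a19) (fun a20 => forceL (ct3F a20) (fun a21 => forceL (ct1F a21) (fun a22 => forceL (ct3F a22) (fun a23 => forceL (ct1F a23) (fun a24 => forceL (ct3F a24) (fun a25 => forceL (ct1F a25) (fun a26 => forceL (ct3F a26) (fun a27 => forceL (ct1F a27) (fun a28 => forceL (ct3F a28) (fun a29 => forceL (ct1F a29) (fun a30 => forceL (ct3F a30) (fun a31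 => forceL (ct1F a31) (fun a32 => forceL (ct3F a32) (fun a33 => forceL (ct1F a33) (fun a34 => forceL (ct3F a34) (fun a35 => forceL (ct1F a35) (fun a36 => forceL (ct3F a36) (fun a37 => forceL (ct1F a37) (fun a38 => forceL (ct3F a38) (fun a39 => forceL (ct1F a39) (fun a40 => forceL (ct3F a40) (fun a41 => forceL (ct1F a41) (fun a42 => forceL (ct3F a42) (fun a43 => forceL (ct1F a43) (fun a44 => forceL (ct3F a44) (fun a45 => forceL (ct1F a45) (fun a46 => forceL (ct3F a46) (fun a47 => forceL (ct1F a47) (fun a48 => a48))))))))))))))))))))))))))))))))))))))))))))))))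

end Cfsg.Agent.Helper5.A6CTC
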