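import Cfsg.Agent.Helper5.A6CTCDatD
import Cfsg.Agent.Helper5.A6CTCDatT
import Cfsg.Agent.Helper5.TCIB

/-! kernel checks of the coset table: A6CTC -/

set_option autoImplicit false
set_option Elab.async false

namespace Cfsg.Agent.Helper5.A6CTC
open Cfsg.Agent.Helper5.TC Cfsg.Agent.Helper5.TCI

set_option maxRecDepth 1000000 in
theorem relc_14_0 : fixPtsF W_14 432 0 = true := by decide +kernel

set_option maxRecDepth 1000000 in
theorem relc_12_0 : fixPtsF W_12 432 0 = true := by decide +kernel

set_option maxRecDepth 1000000 in
theorem relc_13_0 : fixPtsF W_13 432 0 = true := by decide +kernel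

set_option maxRecDepth 1000000 in
theorem relc_10_0 : fixPtsF W_10 432 0 = true := by decide +kernel

set_option maxRecDepth 1000000 in
theorem relc_11_0 : fixPtsF W_11 432 0 = true := by decide +kernel

set_option maxRecDepth 1000000 in
theorem relc_6_0 : fixPtsF W_6 432 0 = true := by decide +kernel

set_option maxRecDepth 1000000 in
theorem relc_7_0 : fixPtsF W_7 432 0 = true := by decide +kernel

set_option maxRecDepth 1000000 in
theorem relc_8_0 : fixPtsF W_8 432 0 = true := by decide +kernel

set_option maxRecDepth 1000000 in
theorem relc_9_0 : fixPtsF W_9 432 0 = true := by decide +kernel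

set_option maxRecDepth 1000000 in
theorem relc_2_0 : fixPtsF W_2 432 0 = true := by decide +kernel

set_option maxRecDepth 1000000 in
theorem relc_5_0 : fixPtsF W_5 432 0 = true := by decide +kernel

set_option maxRecDepth 1000000 in
theorem relc_0_0 : fixPtsF W_0 432 0 = true := by decide +kernel

set_option maxRecDepth 1000000 in
theorem relc_1_0 : fixPtsF W_1 432 0 = true := by decide +kernel

set_option maxRecDepth 1000000 in
theorem relc_3_0 : fixPtsF W_3 432 0 = true := by decide +kernel

set_option maxRecDepth 1000000 in
theorem relc_4_0 : fixPtsF W_4 432 0 = true := by decide +kernel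

set_option maxRecDepth 1000000 in
theorem inv_0_0 : invRowFI ctF 432 0 1 432 0 = true := by decide +kernel

set_option maxRecDepth 1000000 in
theorem inv_1_0 : invRowFI ctF 432 1 0 432 0 = true := by decide +kernel

set_option maxRecDepth 1000000 in
theorem inv_2_0 : invRowFI ctF 432 2 3 432 0 = true := by decide +kernel

set_option maxRecDepth 1000000 in
theorem inv_3_0 : invRowFI ctF 432 3 2 432 0 = true := by decide +kernel

set_option maxRecDepth 1000000 in
theorem conn_0 : connF ctF 4 432 0 = true := by decide +kernel

end Cfsg.Agent.Helper5.A6CTC
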