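import Cfsg.Agent.Helper5.TC2A

/-! generated coset table (generator 0): A6CTC -/

set_option autoImplicit false
set_option Elab.async false

namespace Cfsg.Agent.Helper5.A6CTC
open Cfsg.Agent.Helper5.TC

def ct0_0 : ℕ := 0x1790001af00016b0001aa00016100016900015c0001660001550001a700017d00017200017b00013f0001ad00016a00017e00014800018800018400012a00016400017f00017600012200019700012000011f00014a00019000016500013d00011300011100014e0001a200011500016f0001040001020001010000ff00012c0000fe00016200010500019400015f00015300014c0000f50001a00001730001510000f00001ae0000ef0000ed0001350000eb0000e70001160001a900010f0001340000e30001ab0001950000f20000fb0000de0001ac00019b0000dc0001030000ee00012400019c00016e00016000013b0000e20001190000d10001710000e900010a00018e0000c90001a80000c60001a600017a0001450001990000f90000d70000f700019f0001290001590001810001a500013e0001a40001560000b90001a30001430000b500018f0000ea0001180000c10001070000b00001750001a100018700014b0000ad0000b20001800001820000aa00018b0000bc0001370000e000019e00019d00011400016c00015e00014d0000a300018900017400019a0001980000e50000a00001960000a500019300017c00009e00013600019200018c00009900011a0001910000bb00013300018600009500014100009400015800018d0001770000930000d40001570001000001090000b800011b0000db00018a0001280000980000cc00008a00013800018500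01830000f800008500011e0000fc0000830000960001700000880000bd00014200012600013a0000dd00017800007c0000c800016300007a00007f0000ac0000780000d500014400013c0000a20000c300016d00016700007200007e0000e100016800007000014600006f00008f00006e0000810000740000d600015a00006900013100015d00015b0000660000920000d000010d00012d0000ec00006200006100012500006000015400015200015000014f00005d00012e00005b0000bf0000c000014900005900014700005800005f0000910000570000b600005600014000007b00011d0000b100005200007500013900005000005500004f0001320000ab00013000012f00004d00012b0000a600012700004b0001230001210000ca00011c0000d900010e00010b00004800006700011700009a00004600011200011000004300010c0000420001080001060000400000ba00003f0000b30000ae00005300006d0000fd00008600003c0000fa00005e0000b70000f60000f40000f30000630000f100009c00008c0000360000cb0000e80000e60000350000390000e40000760000330000df0000380000da0000c70000d80000310000af0000c20000cf0000d30000d200002c0000ce0000cd0000a700002a00009b00009d0000c50000c400002700005c0000260000be00006800008e0000240000800000b40000230000220000770000210000a80000200000a900001f0000a40000a100009f00001e00001d00009700008700008900001c00006400009000004400008d00008b00001900001a00008400008200001800002f00007d00003a00007900001600007300007100005400005100006c00006b00006a00004900006500003e00004a00004500001000002e00005a00002800003b00000e00002900003000004e00004c00000b00004700000a00004100002b00003d00000800003700003400003200000700001300002d00001400000500002500001500000d00000400001200001b00000c00001700000200001100000f000001000009000006000003000000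
def ctSel0 (c : ℕ) : ℕ := ct0_0
def ct0F (v : ℕ) : ℕ := Nat.rec (motive := fun _ => ℕ) 0 (fun c _ => Nat.mod (Nat.shiftRight (ctSel0 c) (Nat.mul 24 (Nat.mod v 682))) 16777216) (Nat.add (Nat.div v 682) 1)

end Cfsg.Agent.Helper5.A6CTC
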