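import Mathlib
import Cfsg.Agent.Helper5.StemPF

/-! generated: two generators of the alternating group of degree 6, of orders 5 and 5 -/

set_option autoImplicit false

namespace Cfsg.Agent.Helper5.A6Cov

open Cfsg.Agent.Helper5.LP Cfsg.Agent.Helper5.StemP

/-- the first generator. -/
def xP : Equiv.Perm (Fin 6) := ⟨![1, 2, 3, 4, 0, 5], ![4, 0, 1, 2, 3, 5], by decide, by decide⟩

/-- the second generator. -/
def yP : Equiv.Perm (Fin 6) := ⟨![1, 2, 4, 3, 5, 0], ![5, 0, 1, 3, 2, 4], by decide, by decide⟩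

theorem mem_alt_of_pow {σ : Equiv.Perm (Fin 6)} (k : ℕ) (hk : Odd k) (h : σ ^ k = 1) :
    σ ∈ alternatingGroup (Fin 6) := by
  rw [Equiv.Perm.mem_alternatingGroup]
  have h1 : Equiv.Perm.sign σ ^ k = 1 := by rw [← map_pow, h, map_one]
  rcases Int.units_eq_one_or (Equiv.Perm.sign σ) with h2 | h2
  · exact h2
  · rw [h2, Odd.neg_one_pow hk] at h1
    exact absurd h1 (by decide)

theorem xP_pow : xP ^ 5 = 1 := by decide

theorem yP_pow : yP ^ 5 = 1 := by decide

/-- the generators in the alternating group. -/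
def g (i : ℕ) : alternatingGroup (Fin 6) :=
  if i = 0 then ⟨xP, mem_alt_of_pow 5 (by decide) xP_pow⟩
  else if i = 1 then ⟨yP, mem_alt_of_pow 5 (by decide) yP_pow⟩ else 1

/-- the orders. -/
def mm (i : ℕ) : ℕ := if i = 0 then 5 else 5

/-- the action of the letters. -/
def tab : List (List ℕ) := [[1, 2, 3, 4, 0, 5], [4, 0, 1, 2, 3, 5], [1, 2, 4, 3, 5, 0], [5, 0, 1, 3, 2, 4]]

theorem g_tab : ∀ c, c < 2 * 2 → ∀ v : Fin 6,
    (((lval g c : alternatingGroup (Fin 6)) : Equiv.Perm (Fin 6)) v).val = tabFun tab c v.val := by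
  decide

theorem g_pow : ∀ i, i < 2 → g i ^ mm i = 1 := by decide

/-- the central words. -/
def CC : List (List ℕ) := [[1, 2, 1, 2], [0, 3, 0, 3], [1, 3, 1, 3, 1, 3, 1, 3]]

theorem g_rels : ∀ r ∈ CC ++ CC, (r.map (lval g)).prod = 1 := by decide

theorem CC_lt : ∀ r ∈ CC ++ CC, ∀ c ∈ r, c < 2 * 2 := by decide

/-- a level of the stabiliser chain. -/
def level0 : Level := (0, [[1], [2]], [(0, 0), (0, 1), (4, 0), (4, 1), (1, 1)])

/-- a level of the stabiliser chain. -/
def level1 : Level := (1, [[2, 1, 3]], [(1, 0), (5, 0), (3, 0), (4, 0)])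

/-- a level of the stabiliser chain. -/
def level2 : Level := (2, [[3, 0], [0, 2, 1, 1, 3, 3]], [(2, 0), (2, 1), (4, 0)])

/-- a level of the stabiliser chain. -/
def level3 : Level := (3, [[1, 3, 3, 0, 2, 0, 0, 2]], [(3, 0), (4, 0)])

/-- the stabiliser chain. -/
def levels : List Level := [level0, level1, level2, level3]

theorem chain_ok : chainOK (tabFun tab) (2 * 2) 6 [] levels = true := by decide +kernel

theorem chain_prod : chainProd levels = 360 := by decide +kernel

theorem card_alt : Nat.card (alternatingGroup (Fin 6)) = 360 := by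
  rw [nat_card_alternatingGroup, Nat.card_fin]
  decide

theorem g_closure : Subgroup.closure {y | ∃ i, i < 2 ∧ y = g i} = ⊤ :=
  closure_eq_top_of_chain _ 2 g (tabFun tab) g_tab levels chain_ok
    (by rw [card_alt, chain_prod])

end Cfsg.Agent.Helper5.A6Cov
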