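import Cfsg.Agent.Helper5.A7CTCDatD
import Cfsg.Agent.Helper5.TCIB

/-! kernel checks of edges, aliases, rows: A7CTC -/

set_option autoImplicit false
set_option Elab.async false

namespace Cfsg.Agent.Helper5.A7CTC
open Cfsg.Agent.Helper5.TC Cfsg.Agent.Helper5.TCI

set_option maxRecDepth 1000000 in
theorem cnt_0 : cntFrom RS 20000 0 0 = 2160 := by decide +kernel

set_option maxRecDepth 1000000 in
theorem edges_1_1 : edgesRangeI iota E 1 5262 6014 = true := by decide +kernel

set_option maxRecDepth 1000000 in
theorem edges_0_5 : edgesRangeI iota E 0 2175 21915 = true := by decide +kernel

set_option maxRecDepth 1000000 in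
theorem edges_1_5 : edgesRangeI iota E 1 1812 22092 = true := by decide +kernel

set_option maxRecDepth 1000000 in
theorem edges_1_4 : edgesRangeI iota E 1 2558 19534 = true := by decide +kernel

set_option maxRecDepth 1000000 in
theorem edges_2_1 : edgesRangeI iota E 2 5479 6379 = true := by decide +kernel

set_option maxRecDepth 1000000 in
theorem edges_0_0 : edgesRangeI iota E 0 6303 0 = true := by decide +kernel

set_option maxRecDepth 1000000 in
theorem edges_1_3 : edgesRangeI iota E 1 3547 15987 = true := by decide +kernel

set_option maxRecDepth 1000000 in
theorem edges_1_2 : edgesRangeI iota E 1 4711 11276 = true := by decide +kernel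

set_option maxRecDepth 1000000 in
theorem edges_3_1 : edgesRangeI iota E 3 6084 6248 = true := by decide +kernel

set_option maxRecDepth 1000000 in
theorem aliases_12 : aliasRange E 1694 23861 = true := by decide +kernel

set_option maxRecDepth 1000000 in
theorem edges_0_4 : edgesRangeI iota E 0 2024 19891 = true := by decide +kernel

set_option maxRecDepth 1000000 in
theorem edges_3_3 : edgesRangeI iota E 3 3558 17494 = true := by decide +kernel

set_option maxRecDepth 1000000 in
theorem edges_2_4 : edgesRangeI iota E 2 2428 20213 = true := by decide +kernel

set_option maxRecDepth 1000000 in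
theorem edges_3_4 : edgesRangeI iota E 3 2774 21052 = true := by decide +kernel

set_option maxRecDepth 1000000 in
theorem edges_0_3 : edgesRangeI iota E 0 3621 16270 = true := by decide +kernel

set_option maxRecDepth 1000000 in
theorem aliases_0 : aliasRange E 3080 0 = true := by decide +kernel

set_option maxRecDepth 1000000 in
theorem aliases_7 : aliasRange E 1930 14715 = true := by decide +kernel

set_option maxRecDepth 1000000 in
theorem aliases_8 : aliasRange E 1898 16645 = true := by decide +kernel

set_option maxRecDepth 1000000 in
theorem aliases_1 : aliasRange E 2087 3080 = true := by decide +kernel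

set_option maxRecDepth 1000000 in
theorem aliases_2 : aliasRange E 1894 5167 = true := by decide +kernel

set_option maxRecDepth 1000000 in
theorem aliases_4 : aliasRange E 1930 8970 = true := by decide +kernel

set_option maxRecDepth 1000000 in
theorem edges_2_2 : edgesRangeI iota E 2 4644 11858 = true := by decide +kernel

set_option maxRecDepth 1000000 in
theorem edges_3_2 : edgesRangeI iota E 3 5162 12332 = true := by decide +kernel

set_option maxRecDepth 1000000 in
theorem edges_2_3 : edgesRangeI iota E 2 3711 16502 = true := by decide +kernel

set_option maxRecDepth 1000000 in
theorem aliases_3 : aliasRange E 1909 7061 = true := by decide +kernel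

set_option maxRecDepth 1000000 in
theorem aliases_5 : aliasRange E 1896 10900 = true := by decide +kernel

set_option maxRecDepth 1000000 in
theorem aliases_9 : aliasRange E 1846 18543 = true := by decide +kernel

set_option maxRecDepth 1000000 in
theorem aliases_10 : aliasRange E 1748 20389 = true := by decide +kernel

set_option maxRecDepth 1000000 in
theorem edges_0_1 : edgesRangeI iota E 0 5442 6303 = true := by decide +kernel

set_option maxRecDepth 1000000 in
theorem edges_0_2 : edgesRangeI iota E 0 4525 11745 = true := by decide +kernel

set_option maxRecDepth 1000000 in
theorem edges_1_0 : edgesRangeI iota E 1 6014 0 = true := by decide +kernel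

set_option maxRecDepth 1000000 in
theorem edges_2_0 : edgesRangeI iota E 2 6379 0 = true := by decide +kernel

set_option maxRecDepth 1000000 in
theorem edges_2_5 : edgesRangeI iota E 2 1847 22641 = true := by decide +kernel

set_option maxRecDepth 1000000 in
theorem edges_3_0 : edgesRangeI iota E 3 6248 0 = true := by decide +kernel

set_option maxRecDepth 1000000 in
theorem aliases_6 : aliasRange E 1919 12796 = true := by decide +kernel

set_option maxRecDepth 1000000 in
theorem aliases_11 : aliasRange E 1724 22137 = true := by decide +kernel

set_option maxRecDepth 1000000 in
theorem edges_1_6 : edgesRangeI iota E 1 1850 23904 = true := by decide +kernel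

set_option maxRecDepth 1000000 in
theorem edges_0_6 : edgesRangeI iota E 0 1664 24090 = true := by decide +kernel

set_option maxRecDepth 1000000 in
theorem rows_0 : rowsRange E RS 1500 0 = true := by decide +kernel

set_option maxRecDepth 1000000 in
theorem rows_1 : rowsRange E RS 1500 1500 = true := by decide +kernel

set_option maxRecDepth 1000000 in
theorem rows_2 : rowsRange E RS 1500 3000 = true := by decide +kernel

set_option maxRecDepth 1000000 in
theorem rows_3 : rowsRange E RS 1500 4500 = true := by decide +kernel

set_option maxRecDepth 1000000 in
theorem rows_4 : rowsRange E RS 1500 6000 = true := by decide +kernel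

set_option maxRecDepth 1000000 in
theorem rows_5 : rowsRange E RS 1500 7500 = true := by decide +kernel

set_option maxRecDepth 1000000 in
theorem rows_6 : rowsRange E RS 1500 9000 = true := by decide +kernel

set_option maxRecDepth 1000000 in
theorem rows_7 : rowsRange E RS 1500 10500 = true := by decide +kernel

set_option maxRecDepth 1000000 in
theorem rows_8 : rowsRange E RS 1500 12000 = true := by decide +kernel

set_option maxRecDepth 1000000 in
theorem rows_9 : rowsRange E RS 1500 13500 = true := by decide +kernel

set_option maxRecDepth 1000000 in
theorem rows_10 : rowsRange E RS 1500 15000 = true := by decide +kernel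

set_option maxRecDepth 1000000 in
theorem rows_11 : rowsRange E RS 1500 16500 = true := by decide +kernel

set_option maxRecDepth 1000000 in
theorem rows_12 : rowsRange E RS 1500 18000 = true := by decide +kernel

set_option maxRecDepth 1000000 in
theorem rows_13 : rowsRange E RS 1500 19500 = true := by decide +kernel

set_option maxRecDepth 1000000 in
theorem rows_14 : rowsRange E RS 1500 21000 = true := by decide +kernel

set_option maxRecDepth 1000000 in
theorem rows_15 : rowsRange E RS 1500 22500 = true := by decide +kernel

set_option maxRecDepth 1000000 in
theorem rows_16 : rowsRange E RS 1500 24000 = true := by decide +kernel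

set_option maxRecDepth 1000000 in
theorem edges_3_5 : edgesRangeI iota E 3 1928 23826 = true := by decide +kernel

set_option maxRecDepth 1000000 in
theorem edges_2_6 : edgesRangeI iota E 2 1266 24488 = true := by decide +kernel

set_option maxRecDepth 1000000 in
theorem cnt_1 : cntFrom RS 5754 20000 0 = 0 := by decide +kernel

set_option maxRecDepth 1000000 in
theorem rows_17 : rowsRange E RS 254 25500 = true := by decide +kernel

set_option maxRecDepth 1000000 in
theorem aliases_13 : aliasRange E 199 25555 = true := by decide +kernel

end Cfsg.Agent.Helper5.A7CTC
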