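import Cfsg.Agent.Helper5.A7CTCChkE0
import Cfsg.Agent.Helper5.A7CTCChkR0
import Cfsg.Agent.Helper5.A7CTCChkA
import Cfsg.Agent.Helper5.TCIB

/-! summary of the kernel checks: A7CTC -/

set_option autoImplicit false
set_option Elab.async false

namespace Cfsg.Agent.Helper5.A7CTC
open Cfsg.Agent.Helper5.TC Cfsg.Agent.Helper5.TCI

theorem edgesx_0 : ∀ v, v < 25754 → edgeOKI iota E 0 v = true := by
  intro v hv
  rcases Nat.lt_or_ge v 16270 with h | h
  · rcases Nat.lt_or_ge v 6303 with h | h
    · exact edgesRangeI_spec iota E 0 6303 0 edges_0_0 v (by omega) (by omega)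
    · rcases Nat.lt_or_ge v 11745 with h | h
      · exact edgesRangeI_spec iota E 0 5442 6303 edges_0_1 v (by omega) (by omega)
      · exact edgesRangeI_spec iota E 0 4525 11745 edges_0_2 v (by omega) (by omega)
  · rcases Nat.lt_or_ge v 21915 with h | h
    · rcases Nat.lt_or_ge v 19891 with h | h
      · exact edgesRangeI_spec iota E 0 3621 16270 edges_0_3 v (by omega) (by omega)
      · exact edgesRangeI_spec iota E 0 2024 19891 edges_0_4 v (by omega) (by omega)
    · rcases Nat.lt_or_ge v 24090 with h | h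
      · exact edgesRangeI_spec iota E 0 2175 21915 edges_0_5 v (by omega) (by omega)
      · exact edgesRangeI_spec iota E 0 1664 24090 edges_0_6 v (by omega) (by omega)

theorem edgesx_1 : ∀ v, v < 25754 → edgeOKI iota E 1 v = true := by
  intro v hv
  rcases Nat.lt_or_ge v 15987 with h | h
  · rcases Nat.lt_or_ge v 6014 with h | h
    · exact edgesRangeI_spec iota E 1 6014 0 edges_1_0 v (by omega) (by omega)
    · rcases Nat.lt_or_ge v 11276 with h | h
      · exact edgesRangeI_spec iota E 1 5262 6014 edges_1_1 v (by omega) (by omega)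
      · exact edgesRangeI_spec iota E 1 4711 11276 edges_1_2 v (by omega) (by omega)
  · rcases Nat.lt_or_ge v 22092 with h | h
    · rcases Nat.lt_or_ge v 19534 with h | h
      · exact edgesRangeI_spec iota E 1 3547 15987 edges_1_3 v (by omega) (by omega)
      · exact edgesRangeI_spec iota E 1 2558 19534 edges_1_4 v (by omega) (by omega)
    · rcases Nat.lt_or_ge v 23904 with h | h
      · exact edgesRangeI_spec iota E 1 1812 22092 edges_1_5 v (by omega) (by omega)
      · exact edgesRangeI_spec iota E 1 1850 23904 edges_1_6 v (by omega) (by omega)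

theorem edgesx_2 : ∀ v, v < 25754 → edgeOKI iota E 2 v = true := by
  intro v hv
  rcases Nat.lt_or_ge v 16502 with h | h
  · rcases Nat.lt_or_ge v 6379 with h | h
    · exact edgesRangeI_spec iota E 2 6379 0 edges_2_0 v (by omega) (by omega)
    · rcases Nat.lt_or_ge v 11858 with h | h
      · exact edgesRangeI_spec iota E 2 5479 6379 edges_2_1 v (by omega) (by omega)
      · exact edgesRangeI_spec iota E 2 4644 11858 edges_2_2 v (by omega) (by omega)
  · rcases Nat.lt_or_ge v 22641 with h | h
    · rcases Nat.lt_or_ge v 20213 with h | h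
      · exact edgesRangeI_spec iota E 2 3711 16502 edges_2_3 v (by omega) (by omega)
      · exact edgesRangeI_spec iota E 2 2428 20213 edges_2_4 v (by omega) (by omega)
    · rcases Nat.lt_or_ge v 24488 with h | h
      · exact edgesRangeI_spec iota E 2 1847 22641 edges_2_5 v (by omega) (by omega)
      · exact edgesRangeI_spec iota E 2 1266 24488 edges_2_6 v (by omega) (by omega)

theorem edgesx_3 : ∀ v, v < 25754 → edgeOKI iota E 3 v = true := by
  intro v hv
  rcases Nat.lt_or_ge v 17494 with h | h
  · rcases Nat.lt_or_ge v 6248 with h | h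
    · exact edgesRangeI_spec iota E 3 6248 0 edges_3_0 v (by omega) (by omega)
    · rcases Nat.lt_or_ge v 12332 with h | h
      · exact edgesRangeI_spec iota E 3 6084 6248 edges_3_1 v (by omega) (by omega)
      · exact edgesRangeI_spec iota E 3 5162 12332 edges_3_2 v (by omega) (by omega)
  · rcases Nat.lt_or_ge v 21052 with h | h
    · exact edgesRangeI_spec iota E 3 3558 17494 edges_3_3 v (by omega) (by omega)
    · rcases Nat.lt_or_ge v 23826 with h | h
      · exact edgesRangeI_spec iota E 3 2774 21052 edges_3_4 v (by omega) (by omega)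
      · exact edgesRangeI_spec iota E 3 1928 23826 edges_3_5 v (by omega) (by omega)

theorem hA0 : ∀ v, v < 25754 → aliasOK E v = true := by
  intro v hv
  rcases Nat.lt_or_ge v 14715 with h | h
  · rcases Nat.lt_or_ge v 7061 with h | h
    · rcases Nat.lt_or_ge v 3080 with h | h
      · exact aliasRange_spec E 3080 0 aliases_0 v (by omega) (by omega)
      · rcases Nat.lt_or_ge v 5167 with h | h
        · exact aliasRange_spec E 2087 3080 aliases_1 v (by omega) (by omega)
        · exact aliasRange_spec E 1894 5167 aliases_2 v (by omega) (by omega)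
    · rcases Nat.lt_or_ge v 10900 with h | h
      · rcases Nat.lt_or_ge v 8970 with h | h
        · exact aliasRange_spec E 1909 7061 aliases_3 v (by omega) (by omega)
        · exact aliasRange_spec E 1930 8970 aliases_4 v (by omega) (by omega)
      · rcases Nat.lt_or_ge v 12796 with h | h
        · exact aliasRange_spec E 1896 10900 aliases_5 v (by omega) (by omega)
        · exact aliasRange_spec E 1919 12796 aliases_6 v (by omega) (by omega)
  · rcases Nat.lt_or_ge v 20389 with h | h
    · rcases Nat.lt_or_ge v 16645 with h | h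
      · exact aliasRange_spec E 1930 14715 aliases_7 v (by omega) (by omega)
      · rcases Nat.lt_or_ge v 18543 with h | h
        · exact aliasRange_spec E 1898 16645 aliases_8 v (by omega) (by omega)
        · exact aliasRange_spec E 1846 18543 aliases_9 v (by omega) (by omega)
    · rcases Nat.lt_or_ge v 23861 with h | h
      · rcases Nat.lt_or_ge v 22137 with h | h
        · exact aliasRange_spec E 1748 20389 aliases_10 v (by omega) (by omega)
        · exact aliasRange_spec E 1724 22137 aliases_11 v (by omega) (by omega)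
      · rcases Nat.lt_or_ge v 25555 with h | h
        · exact aliasRange_spec E 1694 23861 aliases_12 v (by omega) (by omega)
        · exact aliasRange_spec E 199 25555 aliases_13 v (by omega) (by omega)

theorem hrows0 : ∀ v, v < 25754 → tb RS v = true → rowOK2 E RS v E.D.k = true := by
  intro v hv
  rcases Nat.lt_or_ge v 13500 with h | h
  · rcases Nat.lt_or_ge v 6000 with h | h
    · rcases Nat.lt_or_ge v 3000 with h | h
      · rcases Nat.lt_or_ge v 1500 with h | h
        · exact rowsRange_spec E RS 1500 0 rows_0 v (by omega) (by omega)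
        · exact rowsRange_spec E RS 1500 1500 rows_1 v (by omega) (by omega)
      · rcases Nat.lt_or_ge v 4500 with h | h
        · exact rowsRange_spec E RS 1500 3000 rows_2 v (by omega) (by omega)
        · exact rowsRange_spec E RS 1500 4500 rows_3 v (by omega) (by omega)
    · rcases Nat.lt_or_ge v 9000 with h | h
      · rcases Nat.lt_or_ge v 7500 with h | h
        · exact rowsRange_spec E RS 1500 6000 rows_4 v (by omega) (by omega)
        · exact rowsRange_spec E RS 1500 7500 rows_5 v (by omega) (by omega)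
      · rcases Nat.lt_or_ge v 10500 with h | h
        · exact rowsRange_spec E RS 1500 9000 rows_6 v (by omega) (by omega)
        · rcases Nat.lt_or_ge v 12000 with h | h
          · exact rowsRange_spec E RS 1500 10500 rows_7 v (by omega) (by omega)
          · exact rowsRange_spec E RS 1500 12000 rows_8 v (by omega) (by omega)
  · rcases Nat.lt_or_ge v 19500 with h | h
    · rcases Nat.lt_or_ge v 16500 with h | h
      · rcases Nat.lt_or_ge v 15000 with h | h
        · exact rowsRange_spec E RS 1500 13500 rows_9 v (by omega) (by omega)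
        · exact rowsRange_spec E RS 1500 15000 rows_10 v (by omega) (by omega)
      · rcases Nat.lt_or_ge v 18000 with h | h
        · exact rowsRange_spec E RS 1500 16500 rows_11 v (by omega) (by omega)
        · exact rowsRange_spec E RS 1500 18000 rows_12 v (by omega) (by omega)
    · rcases Nat.lt_or_ge v 22500 with h | h
      · rcases Nat.lt_or_ge v 21000 with h | h
        · exact rowsRange_spec E RS 1500 19500 rows_13 v (by omega) (by omega)
        · exact rowsRange_spec E RS 1500 21000 rows_14 v (by omega) (by omega)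
      · rcases Nat.lt_or_ge v 24000 with h | h
        · exact rowsRange_spec E RS 1500 22500 rows_15 v (by omega) (by omega)
        · rcases Nat.lt_or_ge v 25500 with h | h
          · exact rowsRange_spec E RS 1500 24000 rows_16 v (by omega) (by omega)
          · exact rowsRange_spec E RS 254 25500 rows_17 v (by omega) (by omega)

theorem cb_0 : cntBits RS 0 = 0 := rfl

theorem cb_1 : cntBits RS 20000 = 2160 := by
  have h := cntBits_step RS 0 20000
  rw [cb_0, cnt_0] at h
  exact h

theorem cb_2 : cntBits RS 25754 = 2160 := by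
  have h := cntBits_step RS 20000 5754
  rw [cb_1, cnt_1] at h
  exact h

theorem set_ok : setOK 25754 2160 RS = true :=
  setOK_of_parts cb_2 set_zero set_lt

theorem relf_0 : ∀ v, v < 2160 → W_0 v = v := by
  intro v hv
  exact fixPtsF_spec W_0 2160 0 relc_0_0 v (by omega) (by omega)

set_option maxRecDepth 1000000 in
theorem walk_0 : ∀ v, walkT ctF (D.wlen 0) (D.wordP 0) v = W_0 v := by
  intro v
  simp only [W_0, forceL_eq]
  rfl

theorem relw_0 : ∀ v, v < 2160 → walkT ctF (D.wlen 0) (D.wordP 0) v = v := by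
  intro v hv
  rw [walk_0]
  exact relf_0 v hv

theorem relf_1 : ∀ v, v < 2160 → W_1 v = v := by
  intro v hv
  exact fixPtsF_spec W_1 2160 0 relc_1_0 v (by omega) (by omega)

set_option maxRecDepth 1000000 in
theorem walk_1 : ∀ v, walkT ctF (D.wlen 1) (D.wordP 1) v = W_1 v := by
  intro v
  simp only [W_1, forceL_eq]
  rfl

theorem relw_1 : ∀ v, v < 2160 → walkT ctF (D.wlen 1) (D.wordP 1) v = v := by
  intro v hv
  rw [walk_1]
  exact relf_1 v hv

theorem relf_2 : ∀ v, v < 2160 → W_2 v = v := by
  intro v hv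
  exact fixPtsF_spec W_2 2160 0 relc_2_0 v (by omega) (by omega)

set_option maxRecDepth 1000000 in
theorem walk_2 : ∀ v, walkT ctF (D.wlen 2) (D.wordP 2) v = W_2 v := by
  intro v
  simp only [W_2, forceL_eq]
  rfl

theorem relw_2 : ∀ v, v < 2160 → walkT ctF (D.wlen 2) (D.wordP 2) v = v := by
  intro v hv
  rw [walk_2]
  exact relf_2 v hv

theorem relf_3 : ∀ v, v < 2160 → W_3 v = v := by
  intro v hv
  exact fixPtsF_spec W_3 2160 0 relc_3_0 v (by omega) (by omega)

set_option maxRecDepth 1000000 in
theorem walk_3 : ∀ v, walkT ctF (D.wlen 3) (D.wordP 3) v = W_3 v := by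
  intro v
  simp only [W_3, forceL_eq]
  rfl

theorem relw_3 : ∀ v, v < 2160 → walkT ctF (D.wlen 3) (D.wordP 3) v = v := by
  intro v hv
  rw [walk_3]
  exact relf_3 v hv

theorem relf_4 : ∀ v, v < 2160 → W_4 v = v := by
  intro v hv
  exact fixPtsF_spec W_4 2160 0 relc_4_0 v (by omega) (by omega)

set_option maxRecDepth 1000000 in
theorem walk_4 : ∀ v, walkT ctF (D.wlen 4) (D.wordP 4) v = W_4 v := by
  intro v
  simp only [W_4, forceL_eq]
  rfl

theorem relw_4 : ∀ v, v < 2160 → walkT ctF (D.wlen 4) (D.wordP 4) v = v := by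
  intro v hv
  rw [walk_4]
  exact relf_4 v hv

theorem relf_5 : ∀ v, v < 2160 → W_5 v = v := by
  intro v hv
  exact fixPtsF_spec W_5 2160 0 relc_5_0 v (by omega) (by omega)

set_option maxRecDepth 1000000 in
theorem walk_5 : ∀ v, walkT ctF (D.wlen 5) (D.wordP 5) v = W_5 v := by
  intro v
  simp only [W_5, forceL_eq]
  rfl

theorem relw_5 : ∀ v, v < 2160 → walkT ctF (D.wlen 5) (D.wordP 5) v = v := by
  intro v hv
  rw [walk_5]
  exact relf_5 v hv

theorem relf_6 : ∀ v, v < 2160 → W_6 v = v := by
  intro v hv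
  exact fixPtsF_spec W_6 2160 0 relc_6_0 v (by omega) (by omega)

set_option maxRecDepth 1000000 in
theorem walk_6 : ∀ v, walkT ctF (D.wlen 6) (D.wordP 6) v = W_6 v := by
  intro v
  simp only [W_6, forceL_eq]
  rfl

theorem relw_6 : ∀ v, v < 2160 → walkT ctF (D.wlen 6) (D.wordP 6) v = v := by
  intro v hv
  rw [walk_6]
  exact relf_6 v hv

theorem relf_7 : ∀ v, v < 2160 → W_7 v = v := by
  intro v hv
  exact fixPtsF_spec W_7 2160 0 relc_7_0 v (by omega) (by omega)

set_option maxRecDepth 1000000 in
theorem walk_7 : ∀ v, walkT ctF (D.wlen 7) (D.wordP 7) v = W_7 v := by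
  intro v
  simp only [W_7, forceL_eq]
  rfl

theorem relw_7 : ∀ v, v < 2160 → walkT ctF (D.wlen 7) (D.wordP 7) v = v := by
  intro v hv
  rw [walk_7]
  exact relf_7 v hv

theorem relf_8 : ∀ v, v < 2160 → W_8 v = v := by
  intro v hv
  exact fixPtsF_spec W_8 2160 0 relc_8_0 v (by omega) (by omega)

set_option maxRecDepth 1000000 in
theorem walk_8 : ∀ v, walkT ctF (D.wlen 8) (D.wordP 8) v = W_8 v := by
  intro v
  simp only [W_8, forceL_eq]
  rfl

theorem relw_8 : ∀ v, v < 2160 → walkT ctF (D.wlen 8) (D.wordP 8) v = v := by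
  intro v hv
  rw [walk_8]
  exact relf_8 v hv

theorem relf_9 : ∀ v, v < 2160 → W_9 v = v := by
  intro v hv
  exact fixPtsF_spec W_9 2160 0 relc_9_0 v (by omega) (by omega)

set_option maxRecDepth 1000000 in
theorem walk_9 : ∀ v, walkT ctF (D.wlen 9) (D.wordP 9) v = W_9 v := by
  intro v
  simp only [W_9, forceL_eq]
  rfl

theorem relw_9 : ∀ v, v < 2160 → walkT ctF (D.wlen 9) (D.wordP 9) v = v := by
  intro v hv
  rw [walk_9]
  exact relf_9 v hv

theorem relf_10 : ∀ v, v < 2160 → W_10 v = v := by
  intro v hv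
  exact fixPtsF_spec W_10 2160 0 relc_10_0 v (by omega) (by omega)

set_option maxRecDepth 1000000 in
theorem walk_10 : ∀ v, walkT ctF (D.wlen 10) (D.wordP 10) v = W_10 v := by
  intro v
  simp only [W_10, forceL_eq]
  rfl

theorem relw_10 : ∀ v, v < 2160 → walkT ctF (D.wlen 10) (D.wordP 10) v = v := by
  intro v hv
  rw [walk_10]
  exact relf_10 v hv

theorem relf_11 : ∀ v, v < 2160 → W_11 v = v := by
  intro v hv
  exact fixPtsF_spec W_11 2160 0 relc_11_0 v (by omega) (by omega)

set_option maxRecDepth 1000000 in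
theorem walk_11 : ∀ v, walkT ctF (D.wlen 11) (D.wordP 11) v = W_11 v := by
  intro v
  simp only [W_11, forceL_eq]
  rfl

theorem relw_11 : ∀ v, v < 2160 → walkT ctF (D.wlen 11) (D.wordP 11) v = v := by
  intro v hv
  rw [walk_11]
  exact relf_11 v hv

theorem relf_12 : ∀ v, v < 2160 → W_12 v = v := by
  intro v hv
  exact fixPtsF_spec W_12 2160 0 relc_12_0 v (by omega) (by omega)

set_option maxRecDepth 1000000 in
theorem walk_12 : ∀ v, walkT ctF (D.wlen 12) (D.wordP 12) v = W_12 v := by
  intro v
  simp only [W_12, forceL_eq]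
  rfl

theorem relw_12 : ∀ v, v < 2160 → walkT ctF (D.wlen 12) (D.wordP 12) v = v := by
  intro v hv
  rw [walk_12]
  exact relf_12 v hv

theorem relf_13 : ∀ v, v < 2160 → W_13 v = v := by
  intro v hv
  exact fixPtsF_spec W_13 2160 0 relc_13_0 v (by omega) (by omega)

set_option maxRecDepth 1000000 in
theorem walk_13 : ∀ v, walkT ctF (D.wlen 13) (D.wordP 13) v = W_13 v := by
  intro v
  simp only [W_13, forceL_eq]
  rfl

theorem relw_13 : ∀ v, v < 2160 → walkT ctF (D.wlen 13) (D.wordP 13) v = v := by
  intro v hv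
  rw [walk_13]
  exact relf_13 v hv

theorem relf_14 : ∀ v, v < 2160 → W_14 v = v := by
  intro v hv
  exact fixPtsF_spec W_14 2160 0 relc_14_0 v (by omega) (by omega)

set_option maxRecDepth 1000000 in
theorem walk_14 : ∀ v, walkT ctF (D.wlen 14) (D.wordP 14) v = W_14 v := by
  intro v
  simp only [W_14, forceL_eq]
  rfl

theorem relw_14 : ∀ v, v < 2160 → walkT ctF (D.wlen 14) (D.wordP 14) v = v := by
  intro v hv
  rw [walk_14]
  exact relf_14 v hv

theorem relf_15 : ∀ v, v < 2160 → W_15 v = v := by
  intro v hv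
  exact fixPtsF_spec W_15 2160 0 relc_15_0 v (by omega) (by omega)

set_option maxRecDepth 1000000 in
theorem walk_15 : ∀ v, walkT ctF (D.wlen 15) (D.wordP 15) v = W_15 v := by
  intro v
  simp only [W_15, forceL_eq]
  rfl

theorem relw_15 : ∀ v, v < 2160 → walkT ctF (D.wlen 15) (D.wordP 15) v = v := by
  intro v hv
  rw [walk_15]
  exact relf_15 v hv

theorem relf_16 : ∀ v, v < 2160 → W_16 v = v := by
  intro v hv
  exact fixPtsF_spec W_16 2160 0 relc_16_0 v (by omega) (by omega)

set_option maxRecDepth 1000000 in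
theorem walk_16 : ∀ v, walkT ctF (D.wlen 16) (D.wordP 16) v = W_16 v := by
  intro v
  simp only [W_16, forceL_eq]
  rfl

theorem relw_16 : ∀ v, v < 2160 → walkT ctF (D.wlen 16) (D.wordP 16) v = v := by
  intro v hv
  rw [walk_16]
  exact relf_16 v hv

theorem relf_17 : ∀ v, v < 2160 → W_17 v = v := by
  intro v hv
  exact fixPtsF_spec W_17 2160 0 relc_17_0 v (by omega) (by omega)

set_option maxRecDepth 1000000 in
theorem walk_17 : ∀ v, walkT ctF (D.wlen 17) (D.wordP 17) v = W_17 v := by
  intro v
  simp only [W_17, forceL_eq]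
  rfl

theorem relw_17 : ∀ v, v < 2160 → walkT ctF (D.wlen 17) (D.wordP 17) v = v := by
  intro v hv
  rw [walk_17]
  exact relf_17 v hv

theorem invx_0 : ∀ v, v < 2160 → ctF 0 v < 2160 ∧ ctF 1 (ctF 0 v) = v := by
  intro v hv
  exact invRowFI_spec ctF 2160 0 1 2160 0 inv_0_0 v (by omega) (by omega)

theorem invx_1 : ∀ v, v < 2160 → ctF 1 v < 2160 ∧ ctF 0 (ctF 1 v) = v := by
  intro v hv
  exact invRowFI_spec ctF 2160 1 0 2160 0 inv_1_0 v (by omega) (by omega)

theorem invx_2 : ∀ v, v < 2160 → ctF 2 v < 2160 ∧ ctF 3 (ctF 2 v) = v := by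
  intro v hv
  exact invRowFI_spec ctF 2160 2 3 2160 0 inv_2_0 v (by omega) (by omega)

theorem invx_3 : ∀ v, v < 2160 → ctF 3 v < 2160 ∧ ctF 2 (ctF 3 v) = v := by
  intro v hv
  exact invRowFI_spec ctF 2160 3 2 2160 0 inv_3_0 v (by omega) (by omega)

theorem hconn : ∀ v, v < 2160 → v ≠ 0 → ∃ x, x < E.D.k ∧ ctF x v < v := by
  intro v hv
  exact connF_spec ctF 4 2160 0 conn_0 v (by omega) (by omega)

theorem hE : ∀ v, v < E.M → ∀ x, x < E.D.k → edgeOKI iota E x v = true := by
  intro v hv x hx
  have hv' : v < 25754 := hv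
  have hx' : x < 4 := hx
  interval_cases x
  · exact edgesx_0 v hv'
  · exact edgesx_1 v hv'
  · exact edgesx_2 v hv'
  · exact edgesx_3 v hv'

theorem hA : ∀ v, v < E.M → aliasOK E v = true := fun v hv => hA0 v hv

theorem hrows : ∀ v, v < E.M → tb RS v = true → rowOK2 E RS v E.D.k = true := fun v hv => hrows0 v hv

theorem hT : ∀ x, x < E.D.k → ∀ v, v < 2160 → ctF x v < 2160 ∧ ctF (iota x) (ctF x v) = v := by
  intro x hx
  have hx' : x < 4 := hx
  interval_cases x
  · exact invx_0
  · exact invx_1
  · exact invx_2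
  · exact invx_3

theorem hltr : ∀ j, j < E.D.nw → lettersOK E.D.k (E.D.wlen j) (E.D.wordP j) = true :=
  wordsOK_spec D D.nw words_ok

theorem hrelT : ∀ wi, wi < E.D.nrel → ∀ v, v < 2160 →
    walkT ctF (E.D.wlen wi) (E.D.wordP wi) v = v := by
  intro wi hwi
  have hwi' : wi < 18 := hwi
  interval_cases wi
  · exact relw_0
  · exact relw_1
  · exact relw_2
  · exact relw_3
  · exact relw_4
  · exact relw_5
  · exact relw_6
  · exact relw_7
  · exact relw_8
  · exact relw_9
  · exact relw_10
  · exact relw_11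
  · exact relw_12
  · exact relw_13
  · exact relw_14
  · exact relw_15
  · exact relw_16
  · exact relw_17

theorem hsubT : ∀ wi, wi < E.D.nw → E.D.nrel ≤ wi →
    walkT ctF (E.D.wlen wi) (E.D.wordP wi) 0 = 0 :=
  subAll_spec ctF D D.nw sub_ok

end Cfsg.Agent.Helper5.A7CTC
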