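import Mathlib
import Cfsg.Agent.Helper5.StemPE
import Cfsg.Agent.Helper5.A7Gen
import Cfsg.Agent.Helper5.A7CTCSum

/-! generated: the Schur multiplier of the alternating group of degree 7 is cyclic of order 6 -/

set_option autoImplicit false

namespace Cfsg.Agent.Helper5.A7Cov

open Cfsg.Agent.Helper5.TC Cfsg.Agent.Helper5.TCI Cfsg.Agent.Helper5.LP Cfsg.Agent.Helper5.StemP

/-- the inverse letter. -/
def iot (x : ℕ) : ℕ :=
  (bif Nat.beq x 0 then 1 else (bif Nat.beq x 1 then 0 else (bif Nat.beq x 2 then 3 else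
    (bif Nat.beq x 3 then 2 else x))))

theorem iot_ge (x : ℕ) (hx : 16 ≤ x) : iot x = x := by
  unfold iot
  have h0 : Nat.beq x 0 = false := by
    apply Bool.eq_false_iff.mpr; intro hh; have := Nat.eq_of_beq_eq_true hh; omega
  have h1 : Nat.beq x 1 = false := by
    apply Bool.eq_false_iff.mpr; intro hh; have := Nat.eq_of_beq_eq_true hh; omega
  have h2 : Nat.beq x 2 = false := by
    apply Bool.eq_false_iff.mpr; intro hh; have := Nat.eq_of_beq_eq_true hh; omega
  have h3 : Nat.beq x 3 = false := by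
    apply Bool.eq_false_iff.mpr; intro hh; have := Nat.eq_of_beq_eq_true hh; omega
  simp only [h0, h1, h2, h3, cond_false]

theorem iot_iot : ∀ x, iot (iot x) = x := by
  intro x
  rcases Nat.lt_or_ge x 16 with h | h
  · interval_cases x <;> rfl
  · rw [iot_ge x h, iot_ge x h]

theorem iot_lt : ∀ x, x < 2 * 2 → iot x < 2 * 2 := by
  intro x hx
  interval_cases x <;> decide

theorem iot_lt16 : ∀ x, x < 16 → iot x < 16 := by
  intro x hx
  interval_cases x <;> decide

/-- the relators of the covering presentation. -/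
abbrev RR : List (List ℕ) := coverRels 2 mm CC CC 6

theorem wordsB : ∀ i (hi : i < (RR ++ letterWords 1).length),
    unpack (A7CTC.E.D.wlen i) (A7CTC.E.D.wordP i) = ((RR ++ letterWords 1)[i]).reverse :=
  wordsMatchB_spec0 _ _ _ (by decide +kernel)

theorem idxB : (para (2 * 2) RR 1).index = 2160 :=
  lp_indexI (ι := iot) iot_iot iot_lt iot_lt16 (by decide +kernel) (letterWords 1) A7CTC.E rfl rfl rfl
    (by decide +kernel) wordsB A7CTC.rev_ok A7CTC.hE A7CTC.hA A7CTC.set_ok A7CTC.hrows
    (by norm_num) A7CTC.hT A7CTC.hltr A7CTC.hrelT A7CTC.hsubT A7CTC.hconn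

theorem fin_card : Finite (CovG 2 mm CC CC 6) ∧ Nat.card (CovG 2 mm CC CC 6) ∣ 2160 * 7 :=
  card_dvd_base (m0 := 7) (by decide +kernel) (by norm_num) (by norm_num) idxB

instance : Finite (CovG 2 mm CC CC 6) := fin_card.1

theorem lettersA : LettersLt (2 * 2) RR := coverRels_lt 2 mm CC CC 6 CC_lt

theorem tableI : TableOKI (2 * 2) 2160 iot A7CTC.ctF := tableOKI_of_cert rfl A7CTC.hT

theorem relsFixA : RelsFix RR 2160 A7CTC.ctF :=
  relsFix_of_cert (letterWords 1) rfl wordsB A7CTC.hrelT

/-- the central words generating the kernel. -/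
def ws : List (List ℕ) := [[0, 3, 0, 3, 0, 3], [0, 0, 0, 3, 1, 1, 1, 2, 1, 1, 3, 3]]

theorem ws_flatten : ws.flatten = [0, 3, 0, 3, 0, 3, 0, 0, 0, 3, 1, 1, 1, 2, 1, 1, 3, 3] := by decide

theorem z_ord : ∀ p : ℕ, p.Prime → p ∣ 6 → ev (2 * 2) RR ws.flatten ^ (6 / p) ≠ 1 := by
  intro p hp hp6
  have hA := actsOn_tableHomI iot_iot iot_lt lettersA tableI relsFixA
  have hle : p ≤ 6 := Nat.le_of_dvd (by norm_num) hp6
  rw [ev_pow, ws_flatten]
  interval_cases p
  · exact absurd hp (by decide)
  · exact absurd hp (by decide)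
  · exact ne_one_of_move hA _ (by decide) 0 (by norm_num) (by decide +kernel)
  · exact ne_one_of_move hA _ (by decide) 0 (by norm_num) (by decide +kernel)
  · exact absurd hp6 (by decide)
  · exact absurd hp6 (by decide)
  · exact absurd hp (by decide)

/-- an element of order 4. -/
def u1 : alternatingGroup (Fin 7) := (([0, 2] : List ℕ).map (lval g)).prod

/-- an element of order 3. -/
def u2 : alternatingGroup (Fin 7) := (([0, 3] : List ℕ).map (lval g)).prod

theorem u1_order : orderOf u1 = 4 :=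
  orderOf_eq_prime_pow (p := 2) (n := 1) (by decide) (by decide)

theorem u2_order : orderOf u2 = 3 :=
  orderOf_eq_prime (by decide) (by decide)

theorem u1_index : (Subgroup.zpowers u1).index = 630 :=
  index_zpowers_eq u1 4 630 u1_order (by norm_num) (by rw [card_alt])

theorem u2_index : (Subgroup.zpowers u2).index = 840 :=
  index_zpowers_eq u2 3 840 u2_order (by norm_num) (by rw [card_alt])

theorem mm_cop : ∀ i, i < 2 → g i ^ mm i = 1 ∧ (mm i).Coprime 72 := by
  intro i hi
  refine ⟨g_pow i hi, ?_⟩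
  interval_cases i <;> decide

theorem bound (Γ : Type) [Group Γ] [Finite Γ] (σ : Γ →* alternatingGroup (Fin 7))
    (hσ : Cfsg.IsStemExtension σ) : Nat.card σ.ker ∣ 6 := by
  refine card_ker_dvd σ hσ 72 35 (by rw [card_alt]) ?_ 210 ?_ 6 (by decide) 2 mm CC CC CC_lt g
    g_closure mm_cop g_rels 6 ?_
  · intro q hq hqt
    rw [card_alt]
    have hle : q ≤ 35 := Nat.le_of_dvd (by norm_num) hqt
    interval_cases q <;> first | exact absurd hq (by decide) | exact absurd hqt (by decide) | decide
  · intro z hz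
    have h := pow_gcd_index_eq_one σ hσ u1 u2 z hz
    rw [u1_index, u2_index] at h
    exact h
  · rw [card_alt]
    exact fin_card.2

theorem main : Cfsg.HasCyclicSchurMultiplier (alternatingGroup (Fin 7)) 6 :=
  hasCyclic_of_coverRels 6 (by decide +kernel) bound 2 mm CC CC 6 CC_lt g g_closure g_pow g_rels
    (by rw [card_alt]; exact fin_card.2) ws (by decide) z_ord 35 (by decide) (by decide)

end Cfsg.Agent.Helper5.A7Cov
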