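import Mathlib

set_option autoImplicit false

/-!
Orders of `p`-elements in affine groups: if `G` acts faithfully on `p ^ m` points with a regular
normal elementary abelian subgroup, a `p`-element `g` satisfies `g ^ (p ^ k) = 1` as soon as `m < p ^ k`.
-/

namespace Cfsg.Agent.Helper5.AffOrder

open Polynomial

theorem geom_eq_pow (p : ℕ) [Fact p.Prime] (k : ℕ) :
    (∑ i ∈ Finset.range (p ^ k), (X : (ZMod p)[X]) ^ i) = (X - 1) ^ (p ^ k - 1) := by
  have h1 := geom_sum_mul (X : (ZMod p)[X]) (p ^ k)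
  have h2 : (X - 1 : (ZMod p)[X]) ^ (p ^ k) = X ^ (p ^ k) - 1 := by
    rw [sub_pow_char_pow, one_pow]
  have hne : (X - 1 : (ZMod p)[X]) ≠ 0 := by
    have := X_sub_C_ne_zero (1 : ZMod p)
    rwa [map_one] at this
  have hpos : 0 < p ^ k := pow_pos (Fact.out : p.Prime).pos k
  have h3 : (X - 1 : (ZMod p)[X]) ^ (p ^ k - 1) * (X - 1) = X ^ (p ^ k) - 1 := by
    rw [← pow_succ, Nat.sub_add_cancel hpos, h2]
  exact mul_right_cancel₀ hne (h1.trans h3.symm)

theorem lin_main (p : ℕ) [Fact p.Prime] {V : Type*} [AddCommGroup V] [Module (ZMod p) V]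
    [Module.Finite (ZMod p) V] (φ : Module.End (ZMod p) V) (r : ℕ) (hφ : φ ^ (p ^ r) = 1) (k : ℕ)
    (hk : Module.finrank (ZMod p) V < p ^ k) :
    (∑ i ∈ Finset.range (p ^ k), φ ^ i) = 0 ∧ φ ^ (p ^ k) = 1 := by
  have hy : ∀ j : ℕ, aeval φ ((X - 1 : (ZMod p)[X]) ^ j) = (φ - 1) ^ j := by
    intro j
    rw [map_pow, map_sub, aeval_X, map_one]
  have hpj : ∀ j : ℕ, (φ - 1) ^ (p ^ j) = φ ^ (p ^ j) - 1 := by
    intro j
    rw [← hy, sub_pow_char_pow, one_pow, map_sub, map_pow, aeval_X, map_one]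
  have hnil : IsNilpotent (φ - 1) := ⟨p ^ r, by rw [hpj, hφ, sub_self]⟩
  have hm : (φ - 1) ^ Module.finrank (ZMod p) V = 0 := by
    have := LinearMap.aeval_self_charpoly (φ - 1)
    rwa [hnil.charpoly_eq_X_pow_finrank, aeval_X_pow] at this
  constructor
  · have h1 : aeval φ (∑ i ∈ Finset.range (p ^ k), (X : (ZMod p)[X]) ^ i) =
        ∑ i ∈ Finset.range (p ^ k), φ ^ i := by
      rw [map_sum]
      apply Finset.sum_congr rfl
      intro i _
      rw [map_pow, aeval_X]
    rw [← h1, geom_eq_pow, hy]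
    exact pow_eq_zero_of_le (by omega) hm
  · have h2 := hpj k
    rw [pow_eq_zero_of_le hk.le hm] at h2
    exact (sub_eq_zero.mp h2.symm)

theorem core {G : Type*} [Group G] {Ω : Type*} [MulAction G Ω] [FaithfulSMul G Ω]
    (p : ℕ) [Fact p.Prime] {V : Type*} [AddCommGroup V] [Module (ZMod p) V] [Finite V]
    (ι : Multiplicative V →* G) (hinj : Function.Injective ι)
    (hnorm : ∀ (a : G) (v : Multiplicative V), ∃ w, a * ι v * a⁻¹ = ι w)
    (ω₀ : Ω) (htr : ∀ ω : Ω, ∃ v, ι v • ω₀ = ω) (hreg : ∀ v, ι v • ω₀ = ω₀ → v = 1)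
    (g : G) (r : ℕ) (hg : g ^ (p ^ r) = 1) (k : ℕ) (hk : Module.finrank (ZMod p) V < p ^ k) :
    g ^ (p ^ k) = 1 := by
  classical
  -- decompose g
  obtain ⟨n₀, hn₀⟩ := htr (g • ω₀)
  obtain ⟨a, ha⟩ : ∃ a : G, a = (ι n₀)⁻¹ * g := ⟨_, rfl⟩
  have hga : g = ι n₀ * a := by rw [ha]; group
  have haω : a • ω₀ = ω₀ := by
    rw [ha, mul_smul, ← hn₀, inv_smul_smul]
  have hapow : ∀ j : ℕ, a ^ j • ω₀ = ω₀ := by
    intro j
    induction j with
    | zero => rw [pow_zero, one_smul]
    | succ j ih => rw [pow_succ, mul_smul, haω, ih]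
  -- the conjugation action as a linear map
  choose ψ hψ using hnorm a
  have hψmul : ∀ x y : V, Multiplicative.toAdd (ψ (Multiplicative.ofAdd (x + y))) =
      Multiplicative.toAdd (ψ (Multiplicative.ofAdd x)) + Multiplicative.toAdd (ψ (Multiplicative.ofAdd y)) := by
    intro x y
    have : ψ (Multiplicative.ofAdd (x + y)) = ψ (Multiplicative.ofAdd x) * ψ (Multiplicative.ofAdd y) := by
      apply hinj
      rw [← hψ, map_mul, ← hψ, ← hψ, ofAdd_add, map_mul]
      group
    rw [this, toAdd_mul]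
  let φ₀ : V →+ V := AddMonoidHom.mk' (fun x => Multiplicative.toAdd (ψ (Multiplicative.ofAdd x))) hψmul
  let φ : Module.End (ZMod p) V := AddMonoidHom.toZModLinearMap p φ₀
  have hφ1 : ∀ x : V, ι (Multiplicative.ofAdd (φ x)) = a * ι (Multiplicative.ofAdd x) * a⁻¹ := by
    intro x
    exact (hψ _).symm
  have hφpow : ∀ (j : ℕ) (x : V), ι (Multiplicative.ofAdd ((φ ^ j) x)) =
      a ^ j * ι (Multiplicative.ofAdd x) * (a ^ j)⁻¹ := by
    intro j
    induction j with
    | zero => intro x; rw [pow_zero, pow_zero, one_mul, inv_one, mul_one]; rfl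
    | succ j ih =>
      intro x
      rw [pow_succ', Module.End.mul_apply, hφ1, ih, pow_succ']
      group
  -- the power formula
  have hpowf : ∀ j : ℕ, (ι n₀ * a) ^ j =
      ι (Multiplicative.ofAdd (∑ i ∈ Finset.range j, (φ ^ i) (Multiplicative.toAdd n₀))) * a ^ j := by
    intro j
    induction j with
    | zero => rw [pow_zero, pow_zero, Finset.range_zero, Finset.sum_empty, ofAdd_zero, map_one, mul_one]
    | succ j ih =>
      rw [pow_succ, ih, Finset.sum_range_succ, ofAdd_add, map_mul, hφpow, ofAdd_toAdd, pow_succ]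
      group
  -- a has p-power order
  have har : a ^ (p ^ r) = 1 := by
    have h1 := hpowf (p ^ r)
    rw [← hga, hg] at h1
    have h2 : a ^ (p ^ r) =
        ι (Multiplicative.ofAdd (∑ i ∈ Finset.range (p ^ r), (φ ^ i) (Multiplicative.toAdd n₀)))⁻¹ := by
      rw [map_inv]
      exact eq_inv_of_mul_eq_one_right h1.symm
    have h3 := hreg _ (by rw [← h2]; exact hapow (p ^ r))
    rw [h2, h3, map_one]
  have hφr : φ ^ (p ^ r) = 1 := by
    apply LinearMap.ext
    intro x
    have : Multiplicative.ofAdd ((φ ^ (p ^ r)) x) = Multiplicative.ofAdd x := by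
      apply hinj
      rw [hφpow, har, one_mul, inv_one, mul_one]
    exact this
  obtain ⟨hsum, hφk⟩ := lin_main p φ r hφr k hk
  -- g ^ (p ^ k) = a ^ (p ^ k)
  have hgk : g ^ (p ^ k) = a ^ (p ^ k) := by
    rw [hga, hpowf]
    have : (∑ i ∈ Finset.range (p ^ k), (φ ^ i) (Multiplicative.toAdd n₀)) = 0 := by
      rw [← LinearMap.sum_apply, hsum, LinearMap.zero_apply]
    rw [this, ofAdd_zero, map_one, one_mul]
  rw [hgk]
  -- a ^ (p ^ k) centralizes N and fixes the base point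
  have hcomm : ∀ n : Multiplicative V, a ^ (p ^ k) * ι n = ι n * a ^ (p ^ k) := by
    intro n
    have h1 := hφpow (p ^ k) (Multiplicative.toAdd n)
    rw [hφk, Module.End.one_apply, ofAdd_toAdd] at h1
    calc a ^ (p ^ k) * ι n = (a ^ (p ^ k) * ι n * (a ^ (p ^ k))⁻¹) * a ^ (p ^ k) := by group
      _ = ι n * a ^ (p ^ k) := by rw [← h1]
  apply FaithfulSMul.eq_of_smul_eq_smul (α := Ω)
  intro ω
  obtain ⟨n, hn⟩ := htr ω
  rw [one_smul, ← hn, ← mul_smul, hcomm, mul_smul, hapow]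

theorem finrank_of_card (p m : ℕ) [Fact p.Prime] {V : Type*} [AddCommGroup V] [Module (ZMod p) V]
    [Finite V] (h : Nat.card V = p ^ m) : Module.finrank (ZMod p) V = m := by
  have h1 : Nat.card V = Nat.card (ZMod p) ^ Module.finrank (ZMod p) V :=
    Module.natCard_eq_pow_finrank
  rw [h, Nat.card_zmod] at h1
  exact (Nat.pow_right_injective (Fact.out : p.Prime).two_le h1).symm

theorem core' {G : Type*} [Group G] {Ω : Type*} [MulAction G Ω] [FaithfulSMul G Ω]
    (p m : ℕ) [Fact p.Prime] {V : Type*} [AddCommGroup V] [Module (ZMod p) V] [Finite V]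
    (hV : Nat.card V = p ^ m)
    (ι : Multiplicative V →* G) (hinj : Function.Injective ι)
    (hnorm : ∀ (a : G) (v : Multiplicative V), ∃ w, a * ι v * a⁻¹ = ι w)
    (ω₀ : Ω) (htr : ∀ ω : Ω, ∃ v, ι v • ω₀ = ω) (hreg : ∀ v, ι v • ω₀ = ω₀ → v = 1)
    (g : G) (r : ℕ) (hg : g ^ (p ^ r) = 1) (k : ℕ) (hk : m < p ^ k) :
    g ^ (p ^ k) = 1 :=
  core p ι hinj hnorm ω₀ htr hreg g r hg k (by rw [finrank_of_card p m hV]; exact hk)

open scoped IsMulCommutative in
theorem pow_eq_one_of_lt {G : Type*} [Group G] [Finite G] {Ω : Type*} [Finite Ω] [MulAction G Ω]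
    [FaithfulSMul G Ω] (p m : ℕ) [Fact p.Prime] (hcard : Nat.card Ω = p ^ m)
    (N : Subgroup G) [hNn : N.Normal] [hNc : IsMulCommutative N] (hNp : ∀ n ∈ N, n ^ p = 1)
    (hNtr : MulAction.IsPretransitive N Ω) (hNreg : ∀ ω : Ω, MulAction.stabilizer N ω = ⊥)
    (g : G) (r : ℕ) (hg : g ^ (p ^ r) = 1) (k : ℕ) (hk : m < p ^ k) : g ^ (p ^ k) = 1 := by
  classical
  have hp := (Fact.out : p.Prime)
  letI instM : Module (ZMod p) (Additive N) := AddCommGroup.zmodModule (n := p) (by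
    intro x
    have h1 : x = Additive.ofMul (Additive.toMul x) := rfl
    rw [h1, ← ofMul_pow]
    have : (Additive.toMul x) ^ p = 1 := by
      apply Subtype.ext
      rw [Subgroup.coe_pow, Subgroup.coe_one]
      exact hNp _ (Additive.toMul x).2
    rw [this, ofMul_one])
  -- base point
  have hΩ : Nonempty Ω := by
    apply (Nat.card_pos_iff.mp ?_).1
    rw [hcard]; exact pow_pos hp.pos m
  obtain ⟨ω₀⟩ := hΩ
  -- the orbit map is bijective
  have hbij : Function.Bijective (fun n : N => n • ω₀) := by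
    constructor
    · intro a b hab
      have h1 : (b⁻¹ * a) • ω₀ = ω₀ := by
        change a • ω₀ = b • ω₀ at hab
        rw [mul_smul, hab, inv_smul_smul]
      have h2 : b⁻¹ * a ∈ MulAction.stabilizer N ω₀ := h1
      rw [hNreg, Subgroup.mem_bot] at h2
      exact (inv_mul_eq_one.mp h2).symm
    · intro ω
      exact MulAction.exists_smul_eq N ω₀ ω
  have hcardN : Nat.card (Additive N) = p ^ m := by
    rw [← hcard]
    exact Nat.card_eq_of_bijective _ hbij
  haveI : Finite (Additive N) := inferInstanceAs (Finite N)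
  let ι : Multiplicative (Additive N) →* G := N.subtype.comp (MulEquiv.multiplicativeAdditive N).toMonoidHom
  have hι : ∀ v : Multiplicative (Additive N), ι v = ((Additive.toMul (Multiplicative.toAdd v) : N) : G) :=
    fun _ => rfl
  refine core' (Ω := Ω) p m hcardN ι ?_ ?_ ω₀ ?_ ?_ g r hg k hk
  · intro v w h
    rw [hι, hι] at h
    have := Subtype.ext h
    exact this
  · intro a v
    refine ⟨Multiplicative.ofAdd (Additive.ofMul ⟨a * ι v * a⁻¹, hNn.conj_mem _ (by rw [hι]; exact Subtype.mem _) a⟩), ?_⟩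
    rfl
  · intro ω
    obtain ⟨n, hn⟩ := hbij.2 ω
    exact ⟨Multiplicative.ofAdd (Additive.ofMul n), hn⟩
  · intro v hv
    have h2 : (Additive.toMul (Multiplicative.toAdd v) : N) ∈ MulAction.stabilizer N ω₀ := hv
    rw [hNreg, Subgroup.mem_bot] at h2
    exact h2

end Cfsg.Agent.Helper5.AffOrder
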