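import Mathlib
import Cfsg.Prelude.Def_Local
import Cfsg.Prelude.Def_LocalEven
import Cfsg.Agent.Helper2.Layer3
import Cfsg.Agent.Helper4.AutAltD

set_option autoImplicit false

/-!
helper5: S2930, part A.  A `3`-minimal group whose generalized Fitting subgroup is alternating
equals its generalized Fitting subgroup; transfer of `p`-minimality along isomorphisms.
-/

namespace Cfsg.Agent.Helper5.AltMin

open Equiv

/-- transfer of `p`-minimality along an isomorphism -/
theorem isPMinimal_of_mulEquiv {p : ℕ} [Fact p.Prime] {X Y : Type*} [Group X] [Group Y]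
    (e : X ≃* Y) (h : Cfsg.IsPMinimal p X) : Cfsg.IsPMinimal p Y := by
  intro S
  have hr : (S : Subgroup Y) ≤ e.toMonoidHom.range := by
    rw [MonoidHom.range_eq_top.2 e.surjective]; exact le_top
  let S' : Sylow p X := S.comapOfInjective e.toMonoidHom e.injective hr
  have hS' : (S' : Subgroup X) = (S : Subgroup Y).comap e.toMonoidHom := rfl
  obtain ⟨hnn, M, ⟨hM, hSM⟩, huniq⟩ := h S'
  have hmapcomap : ∀ K : Subgroup Y, (K.comap e.toMonoidHom).map e.toMonoidHom = K := fun K =>
    Subgroup.map_comap_eq_self_of_surjective e.surjective K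
  have hcomapmap : ∀ K : Subgroup X, (K.map e.toMonoidHom).comap e.toMonoidHom = K := fun K =>
    Subgroup.comap_map_eq_self_of_injective e.injective K
  have hco : ∀ K : Subgroup X, IsCoatom K → IsCoatom (K.map e.toMonoidHom) := by
    intro K hK
    refine ⟨?_, ?_⟩
    · intro htop
      apply hK.1
      rw [← hcomapmap K, htop, Subgroup.comap_top]
    · intro L hL
      have h1 : K < L.comap e.toMonoidHom := by
        rw [← hcomapmap K]
        refine lt_of_le_of_ne (Subgroup.comap_mono hL.le) ?_
        intro heq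
        have := congrArg (Subgroup.map e.toMonoidHom) heq
        rw [hmapcomap, hmapcomap] at this
        exact hL.ne this
      have h2 := hK.2 _ h1
      rw [← hmapcomap L, h2, Subgroup.map_top_of_surjective _ e.surjective]
  have hco' : ∀ K : Subgroup Y, IsCoatom K → IsCoatom (K.comap e.toMonoidHom) := by
    intro K hK
    refine ⟨?_, ?_⟩
    · intro htop
      apply hK.1
      rw [← hmapcomap K, htop, Subgroup.map_top_of_surjective _ e.surjective]
    · intro L hL
      have h1 : K < L.map e.toMonoidHom := by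
        rw [← hmapcomap K]
        refine lt_of_le_of_ne (Subgroup.map_mono hL.le) ?_
        intro heq
        have := congrArg (Subgroup.comap e.toMonoidHom) heq
        rw [hcomapmap, hcomapmap] at this
        exact hL.ne this
      have h2 := hK.2 _ h1
      rw [← hcomapmap L, h2, Subgroup.comap_top]
  refine ⟨?_, M.map e.toMonoidHom, ⟨hco M hM, ?_⟩, ?_⟩
  · intro hn
    apply hnn
    rw [hS']
    exact hn.comap _
  · rw [← hmapcomap (S : Subgroup Y), ← hS']
    exact Subgroup.map_mono hSM
  · rintro M2 ⟨hM2, hSM2⟩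
    have h1 : M2.comap e.toMonoidHom = M := by
      apply huniq
      refine ⟨hco' M2 hM2, ?_⟩
      rw [hS']
      exact Subgroup.comap_mono hSM2
    rw [← h1, hmapcomap]

/-- In a finite group whose generalized Fitting subgroup is alternating of degree `≥ 5`,
every element of odd order lies in the generalized Fitting subgroup. -/
theorem mem_gfs_of_odd {X : Type*} [Group X] [Finite X] (n : ℕ) (hn : 5 ≤ n)
    (e : ↥(Cfsg.generalizedFittingSubgroup X) ≃* ↥(alternatingGroup (Fin n)))
    (x : X) (hx : Odd (orderOf x)) : x ∈ Cfsg.generalizedFittingSubgroup X := by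
  classical
  set F := Cfsg.generalizedFittingSubgroup X with hF
  have hFn : F.Normal := Subgroup.normal_of_characteristic F
  let α : MulAut ↥F := MulAut.conjNormal x
  have hαo : Odd (orderOf α) :=
    Odd.of_dvd_nat hx (orderOf_map_dvd (MulAut.conjNormal : X →* MulAut ↥F) x)
  let β : MulAut ↥(alternatingGroup (Fin n)) := MulAut.congr e α
  have hβo : orderOf β = orderOf α := MulEquiv.orderOf_eq (MulAut.congr e) α
  obtain ⟨σ, hσ⟩ := Cfsg.Agent.Helper4.AutAlt.mem_range_conjNormal_of_odd n hn β (hβo ▸ hαo)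
  obtain ⟨k, hk⟩ := hβo ▸ hαo
  -- an even permutation inducing `β`
  let σ' : Perm (Fin n) := σ ^ (orderOf β + 1)
  have hσ'mem : σ' ∈ alternatingGroup (Fin n) := by
    rw [Equiv.Perm.mem_alternatingGroup]
    show Equiv.Perm.sign (σ ^ (orderOf β + 1)) = 1
    have h2 : orderOf β + 1 = 2 * (k + 1) := by omega
    rw [h2, map_pow, pow_mul, Int.units_sq, one_pow]
  have hσ' : (MulAut.conjNormal : Perm (Fin n) →* MulAut ↥(alternatingGroup (Fin n))) σ' = β := by
    show MulAut.conjNormal (σ ^ (orderOf β + 1)) = β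
    rw [map_pow, hσ, pow_succ, pow_orderOf_eq_one, one_mul]
  let a : ↥F := e.symm ⟨σ', hσ'mem⟩
  -- conjugation by `a` agrees with conjugation by `x` on `F`
  have hconj : ∀ f : ↥F, (a : X) * f * (a : X)⁻¹ = x * f * x⁻¹ := by
    intro f
    have h1 : e (a * f * a⁻¹) = e (α f) := by
      have h2 : e (α f) = β (e f) := by
        show e (α f) = e (α (e.symm (e f)))
        rw [MulEquiv.symm_apply_apply]
      rw [h2, ← hσ']
      apply Subtype.ext
      rw [MulAut.conjNormal_apply, map_mul, map_mul, map_inv]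
      show ((e a : ↥(alternatingGroup (Fin n))) : Perm (Fin n)) * _ * _ = _
      have ha : e a = ⟨σ', hσ'mem⟩ := MulEquiv.apply_symm_apply e _
      rw [ha]
      rfl
    have h3 : a * f * a⁻¹ = α f := e.injective h1
    have h4 := congrArg (Subtype.val) h3
    rw [MulAut.conjNormal_apply] at h4
    simpa using h4
  -- hence `a⁻¹ x` centralizes `F`
  have hcent : (a : X)⁻¹ * x ∈ Subgroup.centralizer (F : Set X) := by
    rw [Subgroup.mem_centralizer_iff]
    intro f hf
    have h1 := hconj ⟨f, hf⟩
    simp only at h1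
    have h2 : x * f = (a : X) * f * (a : X)⁻¹ * x := by rw [h1]; group
    calc f * ((a : X)⁻¹ * x) = (a : X)⁻¹ * ((a : X) * f * (a : X)⁻¹ * x) := by group
      _ = (a : X)⁻¹ * (x * f) := by rw [h2]
      _ = (a : X)⁻¹ * x * f := by group
  have h5 : (a : X)⁻¹ * x ∈ F := Cfsg.Agent.Helper2.centralizer_generalizedFittingSubgroup_le hcent
  have h6 : x = (a : X) * ((a : X)⁻¹ * x) := by group
  rw [h6]
  exact F.mul_mem a.2 h5

/-- A `3`-minimal group whose generalized Fitting subgroup is alternating of degree `≥ 5`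
is equal to its generalized Fitting subgroup. -/
theorem gfs_eq_top {X : Type*} [Group X] [Finite X] (hX : Cfsg.IsPMinimal 3 X) (n : ℕ)
    (hn : 5 ≤ n) (e : ↥(Cfsg.generalizedFittingSubgroup X) ≃* ↥(alternatingGroup (Fin n))) :
    Cfsg.generalizedFittingSubgroup X = ⊤ := by
  classical
  have : Fact (Nat.Prime 3) := ⟨Nat.prime_three⟩
  set F := Cfsg.generalizedFittingSubgroup X with hF
  have hFn : F.Normal := Subgroup.normal_of_characteristic F
  obtain ⟨P⟩ : Nonempty (Sylow 3 X) := inferInstance
  obtain ⟨hnn, M, ⟨hM, hPM⟩, huniq⟩ := hX P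
  have hPF : (P : Subgroup X) ≤ F := by
    intro g hg
    apply mem_gfs_of_odd n hn e
    obtain ⟨k, hk⟩ := P.isPGroup' ⟨g, hg⟩
    have hk' : g ^ 3 ^ k = 1 := by
      have := congrArg Subtype.val hk
      simpa using this
    exact Odd.of_dvd_nat (Odd.pow (by decide)) (orderOf_dvd_of_pow_eq_one hk')
  by_contra hne
  -- `F ≤ M`
  have hFM : F ≤ M := by
    obtain ⟨M1, hM1, hFM1⟩ := (eq_top_or_exists_le_coatom F).resolve_left hne
    rw [← huniq M1 ⟨hM1, hPF.trans hFM1⟩]
    exact hFM1
  -- `N_X(P) ≤ M`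
  have hNM : Subgroup.normalizer ((P : Subgroup X) : Set X) ≤ M := by
    have hN : Subgroup.normalizer ((P : Subgroup X) : Set X) ≠ ⊤ := by
      intro htop
      exact hnn (Subgroup.normalizer_eq_top_iff.1 htop)
    obtain ⟨M2, hM2, hNM2⟩ := (eq_top_or_exists_le_coatom _).resolve_left hN
    rw [← huniq M2 ⟨hM2, Subgroup.le_normalizer.trans hNM2⟩]
    exact hNM2
  -- Frattini
  have hfr := Sylow.normalizer_sup_eq_top (P.subtype hPF)
  have hmap : ((P.subtype hPF : Sylow 3 ↥F) : Subgroup ↥F).map F.subtype = (P : Subgroup X) := by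
    rw [Sylow.coe_subtype, Subgroup.map_subgroupOf_eq_of_le hPF]
  rw [hmap] at hfr
  apply hM.1
  rw [eq_top_iff, ← hfr]
  exact sup_le hNM hFM

end Cfsg.Agent.Helper5.AltMin
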