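import Mathlib

set_option autoImplicit false
set_option linter.unusedSectionVars false

/-!
helper5: S2930, part B.  Even permutations commuting with a fixed-point-free permutation `z` of
order three: products of three "parallel" three-cycles, and transitivity properties of the
centralizer of `z` in the alternating group.
-/

namespace Cfsg.Agent.Helper5.AltMin

open Equiv Equiv.Perm

variable {Ω : Type*} [Fintype Ω] [DecidableEq Ω]

/-- the three-cycle `a → b → c → a` -/
def cyc (a b c : Ω) : Perm Ω := swap a c * swap a b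

theorem cyc_apply_of_ne {a b c t : Ω} (h1 : t ≠ a) (h2 : t ≠ b) (h3 : t ≠ c) :
    cyc a b c t = t := by
  unfold cyc
  rw [Perm.mul_apply, swap_apply_of_ne_of_ne h1 h2, swap_apply_of_ne_of_ne h1 h3]

theorem cyc_apply_left {a b c : Ω} (h1 : a ≠ b) (h3 : b ≠ c) : cyc a b c a = b := by
  unfold cyc
  rw [Perm.mul_apply, swap_apply_left, swap_apply_of_ne_of_ne h1.symm h3]

theorem cyc_apply_mid {a b c : Ω} : cyc a b c b = c := by
  unfold cyc
  rw [Perm.mul_apply, swap_apply_right, swap_apply_left]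

theorem cyc_apply_right {a b c : Ω} (h2 : a ≠ c) (h3 : b ≠ c) : cyc a b c c = a := by
  unfold cyc
  rw [Perm.mul_apply, swap_apply_of_ne_of_ne h2.symm h3.symm, swap_apply_right]

theorem cyc_conj (g : Perm Ω) (a b c : Ω) : g * cyc a b c * g⁻¹ = cyc (g a) (g b) (g c) := by
  unfold cyc
  rw [swap_apply_apply, swap_apply_apply]
  group

theorem sign_cyc {a b c : Ω} (h1 : a ≠ b) (h2 : a ≠ c) : Perm.sign (cyc a b c) = 1 := by
  unfold cyc
  rw [map_mul, sign_swap h2, sign_swap h1]
  rfl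

theorem isThreeCycle_cyc {a b c : Ω} (h1 : a ≠ b) (h2 : a ≠ c) (h3 : b ≠ c) :
    (cyc a b c).IsThreeCycle := by
  unfold cyc
  exact isThreeCycle_swap_mul_swap_same h2 h1 h3.symm

theorem disjoint_cyc {a b c a' b' c' : Ω}
    (h : ∀ s ∈ ({a, b, c} : Finset Ω), ∀ t ∈ ({a', b', c'} : Finset Ω), s ≠ t) :
    Perm.Disjoint (cyc a b c) (cyc a' b' c') := by
  intro t
  by_cases ht : t ∈ ({a, b, c} : Finset Ω)
  · right
    apply cyc_apply_of_ne
    · exact h t ht a' (by simp)
    · exact h t ht b' (by simp)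
    · exact h t ht c' (by simp)
  · left
    simp only [Finset.mem_insert, Finset.mem_singleton, not_or] at ht
    exact cyc_apply_of_ne ht.1 ht.2.1 ht.2.2

/-- `v` does not lie in the `⟨z⟩`-orbit `{u, z u, z (z u)}` of `u`. -/
def Sep (z : Perm Ω) (u v : Ω) : Prop := v ≠ u ∧ v ≠ z u ∧ v ≠ z (z u)

/-- the product of the three parallel three-cycles through `u, v, w` -/
def h3 (z : Perm Ω) (u v w : Ω) : Perm Ω :=
  cyc u v w * cyc (z u) (z v) (z w) * cyc (z (z u)) (z (z v)) (z (z w))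

section

variable {z : Perm Ω} (hz3 : ∀ t, z (z (z t)) = t) (hzf : ∀ t, z t ≠ t)
include hz3 hzf

theorem zz_ne (t : Ω) : z (z t) ≠ t := by
  intro h
  have := hz3 t
  rw [h] at this
  exact hzf t this

theorem Sep.symm' {u v : Ω} (h : Sep z u v) : Sep z v u := by
  obtain ⟨h1, h2, h3⟩ := h
  refine ⟨fun e => h1 e.symm, ?_, ?_⟩
  · intro e
    apply h3
    rw [e, hz3]
  · intro e
    apply h2
    rw [e, hz3]

theorem Sep.map_right {u v : Ω} (h : Sep z u v) : Sep z u (z v) := by
  obtain ⟨h1, h2, h3⟩ := h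
  refine ⟨?_, ?_, ?_⟩
  · intro e
    apply h3
    rw [← e, hz3]
  · intro e
    exact h1 (z.injective e)
  · intro e
    exact h2 (z.injective e)

theorem Sep.map_left {u v : Ω} (h : Sep z u v) : Sep z (z u) v :=
  (Sep.map_right hz3 hzf (Sep.symm' hz3 hzf h)).symm' hz3 hzf

/-- the nine inequalities -/
theorem key_ne {u v w : Ω} (huv : Sep z u v) (huw : Sep z u w) (hvw : Sep z v w) :
    ∀ s ∈ ({u, v, w} : Finset Ω), ∀ t ∈ ({u, v, w} : Finset Ω), s ≠ z t ∧ s ≠ z (z t) := by
  have hvu := huv.symm' hz3 hzf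
  have hwu := huw.symm' hz3 hzf
  have hwv := hvw.symm' hz3 hzf
  intro s hs t ht
  simp only [Finset.mem_insert, Finset.mem_singleton] at hs ht
  rcases hs with rfl | rfl | rfl <;> rcases ht with rfl | rfl | rfl
  · exact ⟨(hzf _).symm, (zz_ne hz3 hzf _).symm⟩
  · exact ⟨hvu.2.1, hvu.2.2⟩
  · exact ⟨hwu.2.1, hwu.2.2⟩
  · exact ⟨huv.2.1, huv.2.2⟩
  · exact ⟨(hzf _).symm, (zz_ne hz3 hzf _).symm⟩
  · exact ⟨hwv.2.1, hwv.2.2⟩
  · exact ⟨huw.2.1, huw.2.2⟩
  · exact ⟨hvw.2.1, hvw.2.2⟩
  · exact ⟨(hzf _).symm, (zz_ne hz3 hzf _).symm⟩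

theorem h3_comm {u v w : Ω} (huv : Sep z u v) (huw : Sep z u w) (hvw : Sep z v w) :
    z * h3 z u v w = h3 z u v w * z := by
  have key := key_ne hz3 hzf huv huw hvw
  have d01 : Perm.Disjoint (cyc u v w) (cyc (z u) (z v) (z w)) := by
    apply disjoint_cyc
    intro s hs t ht
    simp only [Finset.mem_insert, Finset.mem_singleton] at ht
    rcases ht with rfl | rfl | rfl
    · exact (key s hs u (by simp)).1
    · exact (key s hs v (by simp)).1
    · exact (key s hs w (by simp)).1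
  have d02 : Perm.Disjoint (cyc u v w) (cyc (z (z u)) (z (z v)) (z (z w))) := by
    apply disjoint_cyc
    intro s hs t ht
    simp only [Finset.mem_insert, Finset.mem_singleton] at ht
    rcases ht with rfl | rfl | rfl
    · exact (key s hs u (by simp)).2
    · exact (key s hs v (by simp)).2
    · exact (key s hs w (by simp)).2
  have d12 : Perm.Disjoint (cyc (z u) (z v) (z w)) (cyc (z (z u)) (z (z v)) (z (z w))) := by
    apply disjoint_cyc
    intro s hs t ht
    simp only [Finset.mem_insert, Finset.mem_singleton] at hs ht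
    rcases hs with rfl | rfl | rfl <;> rcases ht with rfl | rfl | rfl <;>
      exact fun e => (key _ (by simp) _ (by simp)).1 (z.injective e)
  have hconj : z * h3 z u v w * z⁻¹ = h3 z u v w := by
    unfold h3
    have e1 : z * (cyc u v w * cyc (z u) (z v) (z w) * cyc (z (z u)) (z (z v)) (z (z w))) * z⁻¹
        = (z * cyc u v w * z⁻¹) * (z * cyc (z u) (z v) (z w) * z⁻¹) *
          (z * cyc (z (z u)) (z (z v)) (z (z w)) * z⁻¹) := by group
    rw [e1, cyc_conj, cyc_conj, cyc_conj, hz3, hz3, hz3]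
    have c1 : Commute (cyc (z u) (z v) (z w) * cyc (z (z u)) (z (z v)) (z (z w))) (cyc u v w) :=
      Commute.mul_left d01.commute.symm d02.commute.symm
    rw [c1.eq, mul_assoc]
  calc z * h3 z u v w = z * h3 z u v w * z⁻¹ * z := by group
    _ = h3 z u v w * z := by rw [hconj]

theorem h3_apply_left {u v w : Ω} (huv : Sep z u v) (huw : Sep z u w) (hvw : Sep z v w) :
    h3 z u v w u = v := by
  have key := key_ne hz3 hzf huv huw hvw
  unfold h3
  rw [Perm.mul_apply, Perm.mul_apply,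
    cyc_apply_of_ne (key u (by simp) u (by simp)).2 (key u (by simp) v (by simp)).2
      (key u (by simp) w (by simp)).2,
    cyc_apply_of_ne (key u (by simp) u (by simp)).1 (key u (by simp) v (by simp)).1
      (key u (by simp) w (by simp)).1]
  exact cyc_apply_left (fun e => huv.1 e.symm) (fun e => hvw.1 e.symm)

theorem h3_apply_of_sep {u v w t : Ω} (htu : Sep z u t) (htv : Sep z v t) (htw : Sep z w t) :
    h3 z u v w t = t := by
  unfold h3
  rw [Perm.mul_apply, Perm.mul_apply,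
    cyc_apply_of_ne htu.2.2 htv.2.2 htw.2.2, cyc_apply_of_ne htu.2.1 htv.2.1 htw.2.1,
    cyc_apply_of_ne htu.1 htv.1 htw.1]

theorem sign_h3 {u v w : Ω} (huv : Sep z u v) (huw : Sep z u w) :
    Perm.sign (h3 z u v w) = 1 := by
  unfold h3
  rw [map_mul, map_mul, sign_cyc (fun e => huv.1 e.symm) (fun e => huw.1 e.symm),
    sign_cyc (fun e => huv.1 (z.injective e).symm) (fun e => huw.1 (z.injective e).symm),
    sign_cyc (fun e => huv.1 (z.injective (z.injective e)).symm)
      (fun e => huw.1 (z.injective (z.injective e)).symm)]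
  rfl

/-- a point outside three given `⟨z⟩`-orbits -/
theorem exists_sep3 (hcard : 9 < Fintype.card Ω) (a b c : Ω) :
    ∃ w, Sep z a w ∧ Sep z b w ∧ Sep z c w := by
  let S : Finset Ω := ({a, z a, z (z a)} ∪ {b, z b, z (z b)}) ∪ {c, z c, z (z c)}
  have hS : S.card ≤ 9 := by
    refine (Finset.card_union_le _ _).trans ?_
    have h1 := Finset.card_union_le ({a, z a, z (z a)} : Finset Ω) {b, z b, z (z b)}
    have h2 := Finset.card_le_three (a := a) (b := z a) (c := z (z a))
    have h3 := Finset.card_le_three (a := b) (b := z b) (c := z (z b))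
    have h4 := Finset.card_le_three (a := c) (b := z c) (c := z (z c))
    omega
  have : ∃ w, w ∉ S := by
    by_contra h
    push Not at h
    have h1 : Finset.univ ⊆ S := fun w _ => h w
    have h2 := Finset.card_le_card h1
    rw [Finset.card_univ] at h2
    omega
  obtain ⟨w, hw⟩ := this
  simp only [S, Finset.mem_union, Finset.mem_insert, Finset.mem_singleton, not_or] at hw
  exact ⟨w, ⟨hw.1.1.1, hw.1.1.2.1, hw.1.1.2.2⟩, ⟨hw.1.2.1, hw.1.2.2.1, hw.1.2.2.2⟩,
    ⟨hw.2.1, hw.2.2.1, hw.2.2.2⟩⟩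

/-- T1: the even permutations commuting with `z` are transitive on pairs in different orbits -/
theorem exists_comm_map (hcard : 9 < Fintype.card Ω) {u v : Ω} (huv : Sep z u v) :
    ∃ g : Perm Ω, Perm.sign g = 1 ∧ z * g = g * z ∧ g u = v := by
  obtain ⟨w, hw1, hw2, -⟩ := exists_sep3 hz3 hzf hcard u v v
  exact ⟨h3 z u v w, sign_h3 hz3 hzf huv hw1, h3_comm hz3 hzf huv hw1 hw2,
    h3_apply_left hz3 hzf huv hw1 hw2⟩

/-- T2: the stabilizer of `x` among the even permutations commuting with `z` is transitive on the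
points outside the orbit of `x`. -/
theorem exists_comm_fix_map (hcard : 9 < Fintype.card Ω) {x y y' : Ω} (hxy : Sep z x y)
    (hxy' : Sep z x y') :
    ∃ g : Perm Ω, Perm.sign g = 1 ∧ z * g = g * z ∧ g x = x ∧ g y = y' := by
  obtain ⟨v, hv1, hv2, hv3⟩ := exists_sep3 hz3 hzf hcard x y y'
  obtain ⟨w, hw1, hw2, hw3⟩ := exists_sep3 hz3 hzf hcard x y v
  obtain ⟨w', hw'1, hw'2, hw'3⟩ := exists_sep3 hz3 hzf hcard x v y'
  have hvy' : Sep z v y' := hv3.symm' hz3 hzf
  refine ⟨h3 z v y' w' * h3 z y v w, ?_, ?_, ?_, ?_⟩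
  · rw [map_mul, sign_h3 hz3 hzf hvy' hw'2, sign_h3 hz3 hzf hv2 hw2, one_mul]
  · have e1 := h3_comm hz3 hzf hvy' hw'2 hw'3
    have e2 := h3_comm hz3 hzf hv2 hw2 hw3
    calc z * (h3 z v y' w' * h3 z y v w) = (z * h3 z v y' w') * h3 z y v w := by group
      _ = h3 z v y' w' * (z * h3 z y v w) := by rw [e1]; group
      _ = h3 z v y' w' * h3 z y v w * z := by rw [e2]; group
  · rw [Perm.mul_apply,
      h3_apply_of_sep hz3 hzf (hxy.symm' hz3 hzf) (hv1.symm' hz3 hzf) (hw1.symm' hz3 hzf),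
      h3_apply_of_sep hz3 hzf (hv1.symm' hz3 hzf) (hxy'.symm' hz3 hzf) (hw'1.symm' hz3 hzf)]
  · rw [Perm.mul_apply, h3_apply_left hz3 hzf hv2 hw2 hw3,
      h3_apply_left hz3 hzf hvy' hw'2 hw'3]

end

end Cfsg.Agent.Helper5.AltMin
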