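import Mathlib
import Cfsg.Agent.Helper5.AltMinB
import Cfsg.Agent.Helper8.JdA

set_option autoImplicit false
set_option linter.unusedSectionVars false

/-!
helper5: S2930, part C.  The "machine": a subgroup `P0` of the alternating group having a central
fixed-point-free element `z` of order three and an intransitive subgroup `R0` normalized by `P0`
with an orbit of length `≥ 4` cannot lie in a unique maximal subgroup (degree `≥ 12`).
-/

namespace Cfsg.Agent.Helper5.AltMin

open Equiv Equiv.Perm MulAction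
open scoped Pointwise

variable {Ω : Type*} [Fintype Ω] [DecidableEq Ω]

theorem mem_orbit_sub_iff (R0 : Subgroup (Perm Ω)) (t y : Ω) :
    y ∈ orbit ↥R0 t ↔ ∃ r ∈ R0, r t = y := by
  constructor
  · rintro ⟨r, rfl⟩
    exact ⟨r.1, r.2, rfl⟩
  · rintro ⟨r, hr, rfl⟩
    exact ⟨⟨r, hr⟩, rfl⟩

theorem smul_orbit_sub (P0 R0 : Subgroup (Perm Ω))
    (hRn : ∀ g ∈ P0, ∀ r ∈ R0, g * r * g⁻¹ ∈ R0) (g : Perm Ω) (hg : g ∈ P0) (t : Ω) :
    g • orbit ↥R0 t = orbit ↥R0 (g t) := by
  ext y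
  rw [Set.mem_smul_set, mem_orbit_sub_iff]
  constructor
  · rintro ⟨y0, hy0, rfl⟩
    obtain ⟨r, hr, rfl⟩ := (mem_orbit_sub_iff R0 t y0).1 hy0
    refine ⟨g * r * g⁻¹, hRn g hg r hr, ?_⟩
    simp
  · rintro ⟨r, hr, rfl⟩
    refine ⟨(g⁻¹ * r * g) t, (mem_orbit_sub_iff R0 t _).2 ⟨g⁻¹ * r * g, ?_, rfl⟩, ?_⟩
    · have := hRn g⁻¹ (P0.inv_mem hg) r hr
      simpa using this
    · simp

theorem machine (hcard : 12 ≤ Fintype.card Ω)
    (P0 M0 : Subgroup (Perm Ω)) (hP0 : P0 ≤ alternatingGroup Ω) (hM0 : M0 ≤ alternatingGroup Ω)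
    (hM0ne : M0 ≠ alternatingGroup Ω)
    (hmax : ∀ K : Subgroup (Perm Ω), P0 ≤ K → K ≤ alternatingGroup Ω →
      K ≠ alternatingGroup Ω → K ≤ M0)
    (z : Perm Ω) (hzP : z ∈ P0) (hzc : ∀ g ∈ P0, g * z = z * g)
    (hz3 : ∀ t, z (z (z t)) = t) (hzf : ∀ t, z t ≠ t)
    (R0 : Subgroup (Perm Ω)) (hRn : ∀ g ∈ P0, ∀ r ∈ R0, g * r * g⁻¹ ∈ R0) (x : Ω)
    (hRint : ∃ y, y ∉ orbit ↥R0 x) (hR4 : 4 ≤ (orbit ↥R0 x).ncard) : False := by
  classical
  have hc9 : 9 < Fintype.card Ω := by omega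
  have hzA : z ∈ alternatingGroup Ω := hP0 hzP
  -- the centralizer of `z`
  set H1 : Subgroup (Perm Ω) := Subgroup.centralizer {z} ⊓ alternatingGroup Ω with hH1
  have hPH1 : P0 ≤ H1 := by
    intro g hg
    refine Subgroup.mem_inf.2 ⟨?_, hP0 hg⟩
    rw [Subgroup.mem_centralizer_iff]
    intro h hh
    rw [Set.mem_singleton_iff] at hh
    rw [hh]
    exact (hzc g hg).symm
  have hH1ne : H1 ≠ alternatingGroup Ω := by
    intro heq
    have hcen : (⟨z, hzA⟩ : ↥(alternatingGroup Ω)) ∈ Subgroup.center ↥(alternatingGroup Ω) := by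
      rw [Subgroup.mem_center_iff]
      intro g
      have hg : (g : Perm Ω) ∈ H1 := by rw [heq]; exact g.2
      have h1 := Subgroup.mem_centralizer_iff.1 (Subgroup.mem_inf.1 hg).1 z (Set.mem_singleton z)
      apply Subtype.ext
      exact h1.symm
    rw [alternatingGroup.center_eq_bot (by rw [Nat.card_eq_fintype_card]; omega),
      Subgroup.mem_bot] at hcen
    have h1 : z = 1 := congrArg Subtype.val hcen
    exact hzf x (by rw [h1]; rfl)
  have hH1M : H1 ≤ M0 := hmax H1 hPH1 inf_le_right hH1ne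
  have hH1mem : ∀ g : Perm Ω, Perm.sign g = 1 → z * g = g * z → g ∈ M0 := by
    intro g hs hc
    apply hH1M
    refine Subgroup.mem_inf.2 ⟨?_, Perm.mem_alternatingGroup.2 hs⟩
    rw [Subgroup.mem_centralizer_iff]
    intro h hh
    rw [Set.mem_singleton_iff] at hh
    rw [hh]
    exact hc
  -- the points `w`, `w'`
  set B' : Set Ω := orbit ↥R0 x with hB'
  have hxB : x ∈ B' := mem_orbit_self x
  obtain ⟨w, hwB, hw⟩ : ∃ w ∈ B', w ∉ ((({x, z x, z (z x)} : Finset Ω)) : Set Ω) := by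
    refine Set.exists_mem_notMem_of_ncard_lt_ncard ?_ (Set.toFinite _)
    rw [Set.ncard_coe_finset]
    have := Finset.card_le_three (a := x) (b := z x) (c := z (z x))
    omega
  have hxw : Sep z x w := by
    simp only [Finset.coe_insert, Finset.coe_singleton, Set.mem_insert_iff,
      Set.mem_singleton_iff, not_or] at hw
    exact ⟨hw.1, hw.2.1, hw.2.2⟩
  obtain ⟨w', hw'B, hw'⟩ : ∃ w' ∈ B', w' ∉ ((({x, w} : Finset Ω)) : Set Ω) := by
    refine Set.exists_mem_notMem_of_ncard_lt_ncard ?_ (Set.toFinite _)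
    rw [Set.ncard_coe_finset]
    have := Finset.card_le_two (a := x) (b := w)
    omega
  have hw'x : w' ≠ x ∧ w' ≠ w := by
    simp only [Finset.coe_insert, Finset.coe_singleton, Set.mem_insert_iff,
      Set.mem_singleton_iff, not_or] at hw'
    exact hw'
  obtain ⟨y, hy⟩ := hRint
  -- the partition stabilizer
  set π : Set (Set Ω) := Set.range (fun t => orbit ↥R0 t) with hπ
  set H2 : Subgroup (Perm Ω) := stabilizer (Perm Ω) π ⊓ alternatingGroup Ω with hH2
  have hπfin : π.Finite := Set.toFinite π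
  have hPH2 : P0 ≤ H2 := by
    intro g hg
    refine Subgroup.mem_inf.2 ⟨?_, hP0 hg⟩
    rw [mem_stabilizer_set_iff_smul_set_subset hπfin]
    rintro s ⟨s0, ⟨t, rfl⟩, rfl⟩
    exact ⟨g t, (smul_orbit_sub P0 R0 hRn g hg t).symm⟩
  -- an orbit meeting `B'` is `B'`
  have horb : ∀ t : Ω, ∀ q ∈ B', q ∈ orbit ↥R0 t → orbit ↥R0 t = B' := by
    intro t q hq hqt
    rw [hB', ← orbit_eq_iff.2 hq, ← orbit_eq_iff.2 hqt]
  have hH2ne : H2 ≠ alternatingGroup Ω := by
    intro heq
    have hwx : w ≠ x := hxw.1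
    have hyx : y ≠ x := fun e => hy (e ▸ hxB)
    have hyw : y ≠ w := fun e => hy (e ▸ hwB)
    have hgA : cyc x w y ∈ alternatingGroup Ω :=
      Perm.mem_alternatingGroup.2 (sign_cyc hwx.symm hyx.symm)
    have hg2 : cyc x w y ∈ H2 := by rw [heq]; exact hgA
    have hst := (Subgroup.mem_inf.1 hg2).1
    rw [mem_stabilizer_iff] at hst
    have h1 : cyc x w y • B' ∈ π := by
      rw [← hst]
      exact Set.smul_mem_smul_set ⟨x, rfl⟩
    obtain ⟨t, ht⟩ := h1
    replace ht : orbit ↥R0 t = cyc x w y • B' := ht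
    have h2 : w ∈ orbit ↥R0 t := by
      rw [ht]
      refine ⟨x, hxB, ?_⟩
      exact cyc_apply_left hwx.symm hyw.symm
    have h3 : orbit ↥R0 t = B' := horb t w hwB h2
    have h4 : y ∈ B' := by
      rw [← h3, ht]
      exact ⟨w, hwB, cyc_apply_mid⟩
    exact hy h4
  have hH2M : H2 ≤ M0 := hmax H2 hPH2 inf_le_right hH2ne
  -- the three-cycle `c`
  have hwx : w ≠ x := hxw.1
  have hcA : cyc x w w' ∈ alternatingGroup Ω :=
    Perm.mem_alternatingGroup.2 (sign_cyc hwx.symm hw'x.1.symm)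
  have hcB : cyc x w w' • B' = B' := by
    have : cyc x w w' ∈ stabilizer (Perm Ω) B' := by
      rw [mem_stabilizer_set_iff_smul_set_subset (Set.toFinite B')]
      rintro q ⟨q0, hq0, rfl⟩
      by_cases h1 : q0 = x
      · rw [h1]
        show cyc x w w' x ∈ B'
        rw [cyc_apply_left hwx.symm hw'x.2.symm]
        exact hwB
      by_cases h2 : q0 = w
      · rw [h2]
        show cyc x w w' w ∈ B'
        rw [cyc_apply_mid]
        exact hw'B
      by_cases h3 : q0 = w'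
      · rw [h3]
        show cyc x w w' w' ∈ B'
        rw [cyc_apply_right hw'x.1.symm hw'x.2.symm]
        exact hxB
      · show cyc x w w' q0 ∈ B'
        rw [cyc_apply_of_ne h1 h2 h3]
        exact hq0
    exact mem_stabilizer_iff.1 this
  have hcM : cyc x w w' ∈ M0 := by
    apply hH2M
    refine Subgroup.mem_inf.2 ⟨?_, hcA⟩
    rw [mem_stabilizer_set_iff_smul_set_subset hπfin]
    rintro s ⟨s0, ⟨t, rfl⟩, rfl⟩
    show cyc x w w' • orbit ↥R0 t ∈ π
    by_cases hmeet : ∃ q ∈ B', q ∈ orbit ↥R0 t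
    · obtain ⟨q, hq, hqt⟩ := hmeet
      rw [horb t q hq hqt, hcB]
      exact ⟨x, rfl⟩
    · push Not at hmeet
      have : cyc x w w' • orbit ↥R0 t = orbit ↥R0 t := by
        ext q
        rw [Set.mem_smul_set]
        constructor
        · rintro ⟨q0, hq0, rfl⟩
          have h1 : q0 ≠ x := fun e => hmeet x hxB (e ▸ hq0)
          have h2 : q0 ≠ w := fun e => hmeet w hwB (e ▸ hq0)
          have h3 : q0 ≠ w' := fun e => hmeet w' hw'B (e ▸ hq0)
          show cyc x w w' q0 ∈ _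
          rw [cyc_apply_of_ne h1 h2 h3]
          exact hq0
        · intro hq
          have h1 : q ≠ x := fun e => hmeet x hxB (e ▸ hq)
          have h2 : q ≠ w := fun e => hmeet w hwB (e ▸ hq)
          have h3 : q ≠ w' := fun e => hmeet w' hw'B (e ▸ hq)
          exact ⟨q, hq, cyc_apply_of_ne h1 h2 h3⟩
      rw [this]
      exact ⟨t, rfl⟩
  -- three-cycles in `M0` joining any two points in different orbits
  have hjoin : ∀ u v : Ω, Sep z u v → ∃ k ∈ M0, k.IsThreeCycle ∧ k u = v := by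
    intro u v huv
    obtain ⟨q, hq1, hq2, -⟩ := exists_sep3 hz3 hzf hc9 x u u
    obtain ⟨ga, hga1, hga2, hga3⟩ := exists_comm_map hz3 hzf hc9 hq1
    obtain ⟨gb, hgb1, hgb2, hgb3⟩ := exists_comm_map hz3 hzf hc9 (hq2.symm' hz3 hzf)
    set g1 : Perm Ω := gb * ga with hg1
    have hg1s : Perm.sign g1 = 1 := by rw [hg1, map_mul, hga1, hgb1, one_mul]
    have hg1c : z * g1 = g1 * z := by
      calc z * (gb * ga) = (z * gb) * ga := by group
        _ = gb * (z * ga) := by rw [hgb2]; group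
        _ = gb * ga * z := by rw [hga2]; group
    have hg1x : g1 x = u := by rw [hg1, Perm.mul_apply, hga3, hgb3]
    have hcomm1 : ∀ t, z (g1 t) = g1 (z t) := by
      intro t
      have := congrArg (fun f : Perm Ω => f t) hg1c
      simpa [Perm.mul_apply] using this
    have hsep1 : Sep z u (g1 w) := by
      refine ⟨?_, ?_, ?_⟩
      · rw [← hg1x]; exact fun e => hxw.1 (g1.injective e)
      · rw [← hg1x, hcomm1]; exact fun e => hxw.2.1 (g1.injective e)
      · rw [← hg1x, hcomm1, hcomm1]; exact fun e => hxw.2.2 (g1.injective e)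
    obtain ⟨g2, hg2s, hg2c, hg2u, hg2w⟩ := exists_comm_fix_map hz3 hzf hc9 hsep1 huv
    set g : Perm Ω := g2 * g1 with hg
    have hgM : g ∈ M0 := by
      apply hH1mem
      · rw [hg, map_mul, hg2s, hg1s, one_mul]
      · calc z * (g2 * g1) = (z * g2) * g1 := by group
          _ = g2 * (z * g1) := by rw [hg2c]; group
          _ = g2 * g1 * z := by rw [hg1c]; group
    have hgx : g x = u := by rw [hg, Perm.mul_apply, hg1x, hg2u]
    have hgw : g w = v := by rw [hg, Perm.mul_apply, hg2w]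
    refine ⟨g * cyc x w w' * g⁻¹, M0.mul_mem (M0.mul_mem hgM hcM) (M0.inv_mem hgM), ?_, ?_⟩
    · rw [cyc_conj]
      exact isThreeCycle_cyc (fun e => hwx (g.injective e).symm)
        (fun e => hw'x.1 (g.injective e).symm) (fun e => hw'x.2 (g.injective e).symm)
    · rw [cyc_conj, hgx, hgw]
      refine cyc_apply_left (fun e => huv.1 e.symm) ?_
      rw [← hgw]
      exact fun e => hw'x.2 (g.injective e).symm
  -- the subgroup generated by the three-cycles of `M0`
  set S : Set (Perm Ω) := {k | k ∈ M0 ∧ k.IsThreeCycle} with hS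
  have hSne : S.Nonempty :=
    ⟨cyc x w w', hcM, isThreeCycle_cyc hwx.symm hw'x.1.symm hw'x.2.symm⟩
  have hKM : Subgroup.closure S ≤ M0 := by
    rw [Subgroup.closure_le]
    exact fun k hk => hk.1
  have : IsPretransitive ↥(Subgroup.closure S) Ω := by
    refine ⟨fun u v => ?_⟩
    obtain ⟨q, hq1, hq2, -⟩ := exists_sep3 hz3 hzf hc9 u v v
    obtain ⟨k1, hk1M, hk1c, hk1⟩ := hjoin u q hq1
    obtain ⟨k2, hk2M, hk2c, hk2⟩ := hjoin q v (hq2.symm' hz3 hzf)
    refine ⟨⟨k2 * k1, Subgroup.mul_mem _ (Subgroup.subset_closure ⟨hk2M, hk2c⟩)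
      (Subgroup.subset_closure ⟨hk1M, hk1c⟩)⟩, ?_⟩
    show (k2 * k1) u = v
    rw [Perm.mul_apply, hk1, hk2]
  have hK := Cfsg.Agent.Helper8.Jd.eq_alternatingGroup_of_threeCycles S (fun k hk => hk.2) hSne
    (Subgroup.closure S) rfl
  apply hM0ne
  apply le_antisymm hM0
  rw [← hK]
  exact hKM

end Cfsg.Agent.Helper5.AltMin
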