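import Mathlib
import Cfsg.Agent.Helper5.AltMinB

set_option autoImplicit false
set_option linter.unusedSectionVars false

/-!
helper5: S2930, part D.  A Sylow `3`-subgroup `P` of the alternating group contains, for each
of its orbits `F` of length at least three, a central element of order three whose support is
exactly `F`.
-/

namespace Cfsg.Agent.Helper5.AltMin

open Equiv Equiv.Perm MulAction
open scoped Pointwise

/-- a nontrivial normal subgroup of a finite `p`-group meets the centre nontrivially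
(copy of helper1's `KWCond.normal_inf_center_ne_bot`, to keep imports light) -/
theorem normal_inf_center_ne_bot' {Q : Type*} [Group Q] [Finite Q] {p : ℕ} [hp : Fact p.Prime]
    (hQ : IsPGroup p Q) (M : Subgroup Q) [hM : M.Normal] (hMne : M ≠ ⊥) :
    ∃ b ∈ M, b ≠ 1 ∧ ∀ g : Q, g * b = b * g := by
  have hQ' : IsPGroup p (ConjAct Q) := hQ
  have hcard : p ∣ Nat.card M := by
    obtain ⟨k, hk⟩ := (hQ.to_subgroup M).exists_card_eq
    have hk0 : k ≠ 0 := by
      rintro rfl
      rw [pow_zero] at hk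
      exact hMne (Subgroup.card_eq_one.1 hk)
    rw [hk]
    exact dvd_pow_self p hk0
  have h1 : (1 : M) ∈ MulAction.fixedPoints (ConjAct Q) M := by
    intro g
    exact smul_one g
  obtain ⟨b, hb, hne⟩ := hQ'.exists_fixed_point_of_prime_dvd_card_of_fixed_point M hcard h1
  refine ⟨(b : Q), b.2, ?_, ?_⟩
  · intro h
    apply hne
    exact (Subtype.ext h).symm
  · intro g
    have h2 := hb (ConjAct.toConjAct g)
    have h3 := congrArg Subtype.val h2
    rw [ConjAct.Subgroup.val_conj_smul, ConjAct.smul_def, ConjAct.ofConjAct_toConjAct] at h3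
    calc g * b = g * b * g⁻¹ * g := by group
      _ = b * g := by rw [h3]

/-- If a Sylow `p`-subgroup `P` normalizes a subgroup `K` containing an element of order `p`,
then `K ∩ P` contains an element of order `p` central in `P`. -/
theorem exists_central_of_normalized {G : Type*} [Group G] [Finite G] {p : ℕ} [hp : Fact p.Prime]
    (P : Sylow p G) (K : Subgroup G) (hN : (P : Subgroup G) ≤ Subgroup.normalizer (K : Set G))
    (c0 : G) (hc0 : c0 ∈ K) (hc0o : orderOf c0 = p) :
    ∃ z ∈ K, z ∈ (P : Subgroup G) ∧ orderOf z = p ∧ ∀ g ∈ (P : Subgroup G), g * z = z * g := by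
  classical
  -- Step 1: a nontrivial element of `K ∩ P`
  obtain ⟨d, hdK, hdP, hd1⟩ : ∃ d ∈ K, d ∈ (P : Subgroup G) ∧ d ≠ 1 := by
    set N : Subgroup G := Subgroup.normalizer (K : Set G) with hNdef
    let P' : Sylow p ↥N := P.subtype hN
    let c0' : ↥N := ⟨c0, Subgroup.le_normalizer hc0⟩
    have ho : orderOf c0' = p := by rw [Subgroup.orderOf_mk]; exact hc0o
    have hQ0 : IsPGroup p ↥(Subgroup.zpowers c0') := by
      apply IsPGroup.of_card (n := 1)
      rw [Nat.card_zpowers, ho, pow_one]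
    obtain ⟨Q, hQ⟩ := hQ0.exists_le_sylow
    obtain ⟨g, hg⟩ := MulAction.exists_smul_eq ↥N Q P'
    have h1 : MulAut.conj g • c0' ∈ MulAut.conj g • (Q : Subgroup ↥N) :=
      Subgroup.smul_mem_pointwise_smul _ _ _ (hQ (Subgroup.mem_zpowers c0'))
    rw [← Sylow.pointwise_smul_def, ← Sylow.smul_def, hg] at h1
    have h2 : ((MulAut.conj g • c0' : ↥N) : G) ∈ (P : Subgroup G) := by
      have := h1
      rw [Sylow.coe_subtype, Subgroup.mem_subgroupOf] at this
      exact this
    have h3 : ((MulAut.conj g • c0' : ↥N) : G) = (g : G) * c0 * (g : G)⁻¹ := by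
      simp [MulAut.smul_def, c0']
    refine ⟨(g : G) * c0 * (g : G)⁻¹, ?_, h3 ▸ h2, ?_⟩
    · exact (Subgroup.mem_normalizer_iff.1 g.2 c0).1 hc0
    · intro h
      have : c0 = 1 := by
        have := congrArg (fun y => (g : G)⁻¹ * y * (g : G)) h
        simpa [mul_assoc] using this
      rw [this, orderOf_one] at hc0o
      exact hp.out.one_lt.ne hc0o
  -- Step 2: a nontrivial central element in `K ∩ P`
  have : (K.subgroupOf (P : Subgroup G)).Normal := Subgroup.normal_subgroupOf_of_le_normalizer hN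
  have hMne : K.subgroupOf (P : Subgroup G) ≠ ⊥ := by
    intro h
    have : (⟨d, hdP⟩ : ↥(P : Subgroup G)) ∈ K.subgroupOf (P : Subgroup G) :=
      Subgroup.mem_subgroupOf.2 hdK
    rw [h, Subgroup.mem_bot] at this
    exact hd1 (congrArg Subtype.val this)
  obtain ⟨b, hbM, hb1, hbc⟩ := normal_inf_center_ne_bot' P.isPGroup' _ hMne
  -- Step 3: an element of order `p`
  obtain ⟨k, hk⟩ := (IsPGroup.iff_orderOf.1 P.isPGroup') b
  have hk0 : k ≠ 0 := by
    rintro rfl
    rw [pow_zero, orderOf_eq_one_iff] at hk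
    exact hb1 hk
  set z' : ↥(P : Subgroup G) := b ^ p ^ (k - 1) with hz'
  have hz'o : orderOf z' = p := by
    rw [hz', orderOf_pow_of_dvd (pow_ne_zero _ hp.out.ne_zero)
      (hk ▸ pow_dvd_pow p (Nat.sub_le k 1)), hk, Nat.pow_div (Nat.sub_le k 1) hp.out.pos]
    have : k - (k - 1) = 1 := by omega
    rw [this, pow_one]
  refine ⟨(z' : G), ?_, z'.2, ?_, ?_⟩
  · have : z' ∈ K.subgroupOf (P : Subgroup G) := Subgroup.pow_mem _ hbM _
    exact Subgroup.mem_subgroupOf.1 this
  · rw [Subgroup.orderOf_coe]; exact hz'o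
  · intro g hg
    have h1 : Commute (⟨g, hg⟩ : ↥(P : Subgroup G)) b := hbc ⟨g, hg⟩
    have h2 : Commute (⟨g, hg⟩ : ↥(P : Subgroup G)) z' := h1.pow_right _
    exact congrArg Subtype.val h2.eq

variable {Ω : Type*} [Fintype Ω] [DecidableEq Ω]

/-- For an orbit `F` of length `≥ 3` of a Sylow `3`-subgroup `P` of the alternating group there
is an element of order three, central in `P`, moving exactly the points of `F`. -/
theorem exists_central_support_orbit (P : Sylow 3 ↥(alternatingGroup Ω)) (x : Ω)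
    (h3 : 3 ≤ (orbit ↥(P : Subgroup ↥(alternatingGroup Ω)) x).ncard) :
    ∃ z : ↥(alternatingGroup Ω), z ∈ (P : Subgroup ↥(alternatingGroup Ω)) ∧
      (∀ g ∈ (P : Subgroup ↥(alternatingGroup Ω)), g * z = z * g) ∧ z ^ 3 = 1 ∧
      ∀ t : Ω, (z : Perm Ω) t ≠ t ↔ t ∈ orbit ↥(P : Subgroup ↥(alternatingGroup Ω)) x := by
  classical
  have : Fact (Nat.Prime 3) := ⟨Nat.prime_three⟩
  set PP : Subgroup ↥(alternatingGroup Ω) := (P : Subgroup ↥(alternatingGroup Ω)) with hPP
  set F : Set Ω := orbit ↥PP x with hF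
  -- `F` is `P`-invariant
  have hFinv : ∀ g ∈ PP, ∀ t ∈ F, (g : Perm Ω) t ∈ F := by
    rintro g hg t ⟨r, rfl⟩
    refine ⟨⟨g, hg⟩ * r, ?_⟩
    show (⟨g, hg⟩ * r) • x = (g : Perm Ω) (r • x)
    rw [mul_smul]
    rfl
  have hFinv' : ∀ g ∈ PP, ∀ t, t ∉ F → (g : Perm Ω) t ∉ F := by
    intro g hg t ht h
    apply ht
    have := hFinv g⁻¹ (PP.inv_mem hg) _ h
    simpa using this
  set K : Subgroup ↥(alternatingGroup Ω) := fixingSubgroup ↥(alternatingGroup Ω) (Fᶜ : Set Ω)
    with hK
  have hKmem : ∀ k : ↥(alternatingGroup Ω), k ∈ K ↔ ∀ t, t ∉ F → (k : Perm Ω) t = t := by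
    intro k
    rw [hK, mem_fixingSubgroup_iff]
    rfl
  have hconj : ∀ g ∈ PP, ∀ k ∈ K, g * k * g⁻¹ ∈ K := by
    intro g hg k hk
    rw [hKmem] at hk ⊢
    intro t ht
    have h1 : ((g⁻¹ : ↥(alternatingGroup Ω)) : Perm Ω) t ∉ F := hFinv' g⁻¹ (PP.inv_mem hg) t ht
    have h2 := hk _ h1
    show ((g : Perm Ω) * (k : Perm Ω) * ((g⁻¹ : ↥(alternatingGroup Ω)) : Perm Ω)) t = t
    rw [Perm.mul_apply, Perm.mul_apply, h2]
    simp
  have hN : PP ≤ Subgroup.normalizer (K : Set ↥(alternatingGroup Ω)) := by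
    intro g hg
    rw [Subgroup.mem_normalizer_iff]
    intro k
    constructor
    · exact hconj g hg k
    · intro h
      have := hconj g⁻¹ (PP.inv_mem hg) _ h
      simpa [mul_assoc] using this
  -- a three-cycle inside `F`
  obtain ⟨a, b, c, ha, hb, hc, hab, hac, hbc⟩ := (Set.two_lt_ncard_iff (Set.toFinite F)).1 (by omega : 2 < F.ncard)
  let c0 : ↥(alternatingGroup Ω) := ⟨cyc a b c, Perm.mem_alternatingGroup.2 (sign_cyc hab hac)⟩
  have hc0o : orderOf c0 = 3 := by
    rw [Subgroup.orderOf_mk]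
    exact (isThreeCycle_cyc hab hac hbc).orderOf
  have hc0K : c0 ∈ K := by
    rw [hKmem]
    intro t ht
    show cyc a b c t = t
    exact cyc_apply_of_ne (fun e => ht (e ▸ ha)) (fun e => ht (e ▸ hb)) (fun e => ht (e ▸ hc))
  obtain ⟨z, hzK, hzP, hzo, hzc⟩ := exists_central_of_normalized P K hN c0 hc0K hc0o
  have hz3 : z ^ 3 = 1 := by rw [← hzo]; exact pow_orderOf_eq_one z
  refine ⟨z, hzP, hzc, hz3, ?_⟩
  have hout : ∀ t, t ∉ F → (z : Perm Ω) t = t := (hKmem z).1 hzK
  -- if `z` fixes one point of `F`, it fixes all of them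
  have hall : (∃ t0 ∈ F, (z : Perm Ω) t0 = t0) → False := by
    rintro ⟨t0, ht0, hfix⟩
    have hfixall : ∀ t ∈ F, (z : Perm Ω) t = t := by
      intro t ht
      obtain ⟨r0, hr0⟩ := ht0
      obtain ⟨r, hr⟩ := ht
      have hr0' : ((r0 : ↥(alternatingGroup Ω)) : Perm Ω) x = t0 := hr0
      have hr' : ((r : ↥(alternatingGroup Ω)) : Perm Ω) x = t := hr
      set g : ↥(alternatingGroup Ω) := (r : ↥(alternatingGroup Ω)) * (r0 : ↥(alternatingGroup Ω))⁻¹
        with hg
      have hgP : g ∈ PP := PP.mul_mem r.2 (PP.inv_mem r0.2)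
      have hgt : (g : Perm Ω) t0 = t := by
        rw [hg, ← hr0', ← hr']
        simp
      have hcomm := hzc g hgP
      have hcomm' : (g : Perm Ω) * (z : Perm Ω) = (z : Perm Ω) * (g : Perm Ω) :=
        congrArg Subtype.val hcomm
      have := congrArg (fun f : Perm Ω => f t0) hcomm'
      simp only [Perm.mul_apply] at this
      rw [hfix, hgt] at this
      exact this.symm
    have hz1 : (z : Perm Ω) = 1 := by
      ext t
      by_cases ht : t ∈ F
      · simpa using hfixall t ht
      · simpa using hout t ht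
    have : z = 1 := Subtype.ext hz1
    rw [this, orderOf_one] at hzo
    omega
  intro t
  constructor
  · intro hne
    by_contra ht
    exact hne (hout t ht)
  · intro ht hfix
    exact hall ⟨t, ht, hfix⟩

end Cfsg.Agent.Helper5.AltMin
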