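import Mathlib
import Cfsg.Agent.Helper1.PGroup
import Cfsg.Agent.Helper5.AltMinC

set_option autoImplicit false
set_option linter.unusedSectionVars false

/-!
helper5: S2930, part E.  A transitive `3`-subgroup of `Perm Ω` has a normal intransitive subgroup
with long orbits (the orbits of a maximal subgroup containing a point stabilizer).
-/

namespace Cfsg.Agent.Helper5.AltMin

open Equiv Equiv.Perm MulAction
open scoped Pointwise

variable {Ω : Type*} [Fintype Ω] [DecidableEq Ω]

theorem exists_normal_sub (P0 : Subgroup (Perm Ω)) (hP : IsPGroup 3 ↥P0) (x : Ω)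
    (htr : orbit ↥P0 x = Set.univ) (hc : 12 ≤ Fintype.card Ω) :
    ∃ R0 : Subgroup (Perm Ω), (∀ g ∈ P0, ∀ r ∈ R0, g * r * g⁻¹ ∈ R0) ∧
      (∃ y, y ∉ orbit ↥R0 x) ∧ 4 ≤ (orbit ↥R0 x).ncard := by
  classical
  have : Fact (Nat.Prime 3) := ⟨Nat.prime_three⟩
  set St : Subgroup ↥P0 := stabilizer ↥P0 x with hSt
  have hidx : St.index = Fintype.card Ω := by
    rw [hSt, MulAction.index_stabilizer, htr, Set.ncard_univ, Nat.card_eq_fintype_card]
  have hStne : St ≠ ⊤ := by
    intro h
    rw [h, Subgroup.index_top] at hidx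
    omega
  obtain ⟨R, hRco, hStR⟩ := (eq_top_or_exists_le_coatom St).resolve_left hStne
  have hRn : R.Normal := Cfsg.Agent.Helper1.IsPGroup.coatom_normal hP hRco
  have hRi : R.index = 3 := Cfsg.Agent.Helper1.IsPGroup.coatom_index hP hRco
  have hrel : St.relIndex R * 3 = Fintype.card Ω := by
    rw [← hRi, Subgroup.relIndex_mul_index hStR, hidx]
  -- the orbit of `R`
  have hstab : stabilizer ↥R x = St.subgroupOf R := by
    ext r
    rw [mem_stabilizer_iff, Subgroup.mem_subgroupOf, hSt, mem_stabilizer_iff]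
    rfl
  have hcardR : (orbit ↥R x).ncard = St.relIndex R := by
    rw [← MulAction.index_stabilizer, hstab]
    rfl
  set R0 : Subgroup (Perm Ω) := R.map P0.subtype with hR0
  have horb : orbit ↥R0 x = orbit ↥R x := by
    ext y
    rw [mem_orbit_sub_iff]
    constructor
    · rintro ⟨r, hr, rfl⟩
      obtain ⟨r', hr', rfl⟩ := Subgroup.mem_map.1 hr
      exact ⟨⟨r', hr'⟩, rfl⟩
    · rintro ⟨r, rfl⟩
      exact ⟨((r : ↥P0) : Perm Ω), Subgroup.mem_map_of_mem _ r.2, rfl⟩
  refine ⟨R0, ?_, ?_, ?_⟩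
  · intro g hg r hr
    obtain ⟨r', hr', rfl⟩ := Subgroup.mem_map.1 hr
    have := hRn.conj_mem r' hr' ⟨g, hg⟩
    exact Subgroup.mem_map.2 ⟨_, this, rfl⟩
  · by_contra hall
    push Not at hall
    have : orbit ↥R0 x = Set.univ := Set.eq_univ_of_forall hall
    rw [horb] at this
    rw [this, Set.ncard_univ, Nat.card_eq_fintype_card] at hcardR
    omega
  · rw [horb, hcardR]
    omega

end Cfsg.Agent.Helper5.AltMin
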