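import Mathlib
import Cfsg.Prelude.Def_LocalEven
import Cfsg.Agent.Helper5.AltMinD
import Cfsg.Agent.Helper5.AltMinE

set_option autoImplicit false
set_option linter.unusedSectionVars false
set_option linter.style.haveILetI false

/-!
helper5: S2930, part F.  If the alternating group of degree `n ≥ 5` is `3`-minimal then
`n = 6`, `n = 9` or `n = 3^a + 1` with `a ≥ 2`.
-/

namespace Cfsg.Agent.Helper5.AltMin

open Equiv Equiv.Perm MulAction
open scoped Pointwise

variable {Ω : Type*} [Fintype Ω] [DecidableEq Ω]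

/-- equal set stabilizers in the alternating group: transitivity on the set -/
theorem subset_of_stabilizer_eq (h4 : 4 ≤ Nat.card Ω) {s s' : Set Ω}
    (hst : stabilizer ↥(alternatingGroup Ω) s = stabilizer ↥(alternatingGroup Ω) s') {a : Ω}
    (ha : a ∈ s) (ha' : a ∈ s') : s ⊆ s' := by
  intro b hb
  obtain ⟨g, hg, hgab⟩ := alternatingGroup.exists_mem_stabilizer_smul_eq h4 a ha b hb
  rw [hst, mem_stabilizer_iff] at hg
  rw [← hgab, ← hg]
  exact Set.smul_mem_smul_set ha'

theorem eq_or_eq_compl_of_stabilizer_eq (h4 : 4 ≤ Nat.card Ω) {s s' : Set Ω}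
    (hst : stabilizer ↥(alternatingGroup Ω) s = stabilizer ↥(alternatingGroup Ω) s')
    (hne : s'.Nonempty) : s' = s ∨ s' = sᶜ := by
  obtain ⟨a, ha'⟩ := hne
  by_cases ha : a ∈ s
  · left
    exact Set.Subset.antisymm (subset_of_stabilizer_eq h4 hst.symm ha' ha)
      (subset_of_stabilizer_eq h4 hst ha ha')
  · right
    have hst' : stabilizer ↥(alternatingGroup Ω) sᶜ = stabilizer ↥(alternatingGroup Ω) s' := by
      rw [stabilizer_compl, hst]
    exact Set.Subset.antisymm (subset_of_stabilizer_eq h4 hst'.symm ha' ha)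
      (subset_of_stabilizer_eq h4 hst' ha ha')

theorem core (hn : 5 ≤ Fintype.card Ω) (h : Cfsg.IsPMinimal 3 ↥(alternatingGroup Ω)) :
    Fintype.card Ω = 6 ∨ Fintype.card Ω = 9 ∨ ∃ a : ℕ, 2 ≤ a ∧ Fintype.card Ω = 3 ^ a + 1 := by
  classical
  have : Fact (Nat.Prime 3) := ⟨Nat.prime_three⟩
  have h4 : 4 ≤ Nat.card Ω := by rw [Nat.card_eq_fintype_card]; omega
  obtain ⟨P⟩ : Nonempty (Sylow 3 ↥(alternatingGroup Ω)) := inferInstance
  set PP : Subgroup ↥(alternatingGroup Ω) := (P : Subgroup ↥(alternatingGroup Ω)) with hPP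
  obtain ⟨hnn, M, ⟨hMco, hPM⟩, huniq⟩ := h P
  set P0 : Subgroup (Perm Ω) := PP.map (alternatingGroup Ω).subtype with hP0def
  set M0 : Subgroup (Perm Ω) := M.map (alternatingGroup Ω).subtype with hM0def
  have hP0 : P0 ≤ alternatingGroup Ω := Subgroup.map_subtype_le _
  have hM0 : M0 ≤ alternatingGroup Ω := Subgroup.map_subtype_le _
  have hP0p : IsPGroup 3 ↥P0 := P.isPGroup'.map _
  have hmemP0 : ∀ g : ↥(alternatingGroup Ω), g ∈ PP → (g : Perm Ω) ∈ P0 := fun g hg =>
    Subgroup.mem_map_of_mem _ hg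
  have hM0ne : M0 ≠ alternatingGroup Ω := by
    intro heq
    apply hMco.1
    rw [eq_top_iff]
    intro g _
    have : (g : Perm Ω) ∈ M0 := by rw [heq]; exact g.2
    obtain ⟨g', hg', hgg'⟩ := Subgroup.mem_map.1 this
    have : g' = g := Subtype.ext hgg'
    rwa [← this]
  have hmax : ∀ K : Subgroup (Perm Ω), P0 ≤ K → K ≤ alternatingGroup Ω →
      K ≠ alternatingGroup Ω → K ≤ M0 := by
    intro K hPK hKA hKne
    have hK' : K.subgroupOf (alternatingGroup Ω) ≠ ⊤ := by
      intro htop
      rw [Subgroup.subgroupOf_eq_top] at htop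
      exact hKne (le_antisymm hKA htop)
    obtain ⟨M1, hM1, hKM1⟩ := (eq_top_or_exists_le_coatom _).resolve_left hK'
    have hPM1 : PP ≤ M1 := by
      intro g hg
      apply hKM1
      rw [Subgroup.mem_subgroupOf]
      exact hPK (hmemP0 g hg)
    have hM1M : M1 = M := huniq M1 ⟨hM1, hPM1⟩
    rw [hM1M] at hKM1
    rw [← Subgroup.map_subgroupOf_eq_of_le hKA]
    exact Subgroup.map_mono hKM1
  -- orbits
  have horbPP : ∀ t : Ω, orbit ↥PP t = orbit ↥P0 t := by
    intro t
    ext y
    rw [mem_orbit_sub_iff]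
    constructor
    · rintro ⟨r, rfl⟩
      exact ⟨((r : ↥(alternatingGroup Ω)) : Perm Ω), hmemP0 _ r.2, rfl⟩
    · rintro ⟨r, hr, rfl⟩
      obtain ⟨r', hr', rfl⟩ := Subgroup.mem_map.1 hr
      exact ⟨⟨r', hr'⟩, rfl⟩
  have hinv : ∀ t : Ω, ∀ r ∈ P0, ∀ q ∈ orbit ↥P0 t, r q ∈ orbit ↥P0 t := by
    intro t r hr q hq
    obtain ⟨r1, hr1, rfl⟩ := (mem_orbit_sub_iff P0 t q).1 hq
    exact (mem_orbit_sub_iff P0 t _).2 ⟨r * r1, P0.mul_mem hr hr1, rfl⟩
  have hsize : ∀ t : Ω, ∃ k : ℕ, (orbit ↥P0 t).ncard = 3 ^ k := by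
    intro t
    obtain ⟨k, hk⟩ := hP0p.card_orbit t
    exact ⟨k, by rw [← hk, Nat.card_coe_set_eq]⟩
  -- set stabilizers
  have hstabM : ∀ s : Set Ω, s.Nonempty → sᶜ.Nonempty → (∀ r ∈ P0, ∀ t ∈ s, r t ∈ s) →
      Nat.card Ω ≠ 2 * s.ncard → stabilizer ↥(alternatingGroup Ω) s = M := by
    intro s hs hsc hsinv hcard
    apply huniq
    refine ⟨alternatingGroup.isCoatom_stabilizer hs hsc hcard, ?_⟩
    intro g hg
    rw [mem_stabilizer_set_iff_smul_set_subset (Set.toFinite s)]
    rintro q ⟨q0, hq0, rfl⟩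
    exact hsinv _ (hmemP0 g hg) q0 hq0
  have htwo : ∀ s s' : Set Ω, s.Nonempty → sᶜ.Nonempty → (∀ r ∈ P0, ∀ t ∈ s, r t ∈ s) →
      Nat.card Ω ≠ 2 * s.ncard → s'.Nonempty → s'ᶜ.Nonempty → (∀ r ∈ P0, ∀ t ∈ s', r t ∈ s') →
      Nat.card Ω ≠ 2 * s'.ncard → s' = s ∨ s' = sᶜ := by
    intro s s' hs hsc hsinv hcard hs' hsc' hsinv' hcard'
    apply eq_or_eq_compl_of_stabilizer_eq h4 _ hs'
    rw [hstabM s hs hsc hsinv hcard, hstabM s' hs' hsc' hsinv' hcard']
  have hcardΩ : Nat.card Ω = Fintype.card Ω := Nat.card_eq_fintype_card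
  -- a base point
  obtain ⟨x0⟩ : Nonempty Ω := Fintype.card_pos_iff.1 (by omega)
  by_cases h1 : orbit ↥P0 x0 = Set.univ
  · -- transitive case
    obtain ⟨a, ha⟩ := hsize x0
    rw [h1, Set.ncard_univ, hcardΩ] at ha
    have ha2 : 2 ≤ a := by
      by_contra hlt
      have : a = 0 ∨ a = 1 := by omega
      rcases this with rfl | rfl <;> omega
    rcases Nat.eq_or_lt_of_le ha2 with h2 | h2
    · right; left
      rw [ha, ← h2]; norm_num
    · exfalso
      have h27 : 27 ≤ Fintype.card Ω := by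
        rw [ha]
        calc 27 = 3 ^ 3 := by norm_num
          _ ≤ 3 ^ a := Nat.pow_le_pow_right (by norm_num) h2
      -- the central element
      have h3o : 3 ≤ (orbit ↥PP x0).ncard := by
        rw [horbPP, h1, Set.ncard_univ, hcardΩ]; omega
      obtain ⟨z, hzP, hzc, hz3, hzs⟩ := exists_central_support_orbit P x0 h3o
      have hz3' : ∀ t, (z : Perm Ω) ((z : Perm Ω) ((z : Perm Ω) t)) = t := by
        intro t
        have : ((z ^ 3 : ↥(alternatingGroup Ω)) : Perm Ω) t = t := by rw [hz3]; rfl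
        simpa [pow_succ, Perm.mul_apply] using this
      have hzf : ∀ t, (z : Perm Ω) t ≠ t := by
        intro t
        rw [hzs, horbPP, h1]
        exact Set.mem_univ t
      have hzc' : ∀ g ∈ P0, g * (z : Perm Ω) = (z : Perm Ω) * g := by
        intro g hg
        obtain ⟨g', hg', rfl⟩ := Subgroup.mem_map.1 hg
        exact congrArg Subtype.val (hzc g' hg')
      obtain ⟨R0, hRn, hRint, hR4⟩ := exists_normal_sub P0 hP0p x0 h1 (by omega)
      exact machine (by omega) P0 M0 hP0 hM0 hM0ne hmax (z : Perm Ω) (hmemP0 z hzP) hzc' hz3' hzf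
        R0 hRn x0 hRint hR4
  · -- intransitive case
    obtain ⟨y, hy⟩ : ∃ y, y ∉ orbit ↥P0 x0 := by
      by_contra hall
      push Not at hall
      exact h1 (Set.eq_univ_of_forall hall)
    have hdisj12 : Disjoint (orbit ↥P0 x0) (orbit ↥P0 y) := by
      rcases orbit.eq_or_disjoint (G := ↥P0) x0 y with heq | hd
      · exfalso
        apply hy
        rw [heq]
        exact mem_orbit_self y
      · exact hd
    have hx0mem : x0 ∈ orbit ↥P0 x0 := mem_orbit_self x0
    have hymem : y ∈ orbit ↥P0 y := mem_orbit_self y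
    have hx0y : x0 ∉ orbit ↥P0 y := fun hx => Set.disjoint_left.1 hdisj12 hx0mem hx
    by_cases h2 : orbit ↥P0 x0 ∪ orbit ↥P0 y = Set.univ
    · -- exactly two orbits
      obtain ⟨a, ha⟩ := hsize x0
      obtain ⟨b, hb⟩ := hsize y
      have hsum : Fintype.card Ω = 3 ^ a + 3 ^ b := by
        rw [← ha, ← hb, ← Set.ncard_union_eq hdisj12 (Set.toFinite _) (Set.toFinite _), h2,
          Set.ncard_univ, hcardΩ]
      rcases Nat.eq_zero_or_pos a with ha0 | ha0
      · -- `n = 1 + 3^b`
        right; right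
        refine ⟨b, ?_, ?_⟩
        · by_contra hlt
          have : b = 0 ∨ b = 1 := by omega
          rcases this with rfl | rfl <;> simp [ha0] at hsum <;> omega
        · rw [hsum, ha0]; ring
      rcases Nat.eq_zero_or_pos b with hb0 | hb0
      · right; right
        refine ⟨a, ?_, ?_⟩
        · by_contra hlt
          have : a = 0 ∨ a = 1 := by omega
          rcases this with rfl | rfl <;> simp [hb0] at hsum <;> omega
        · rw [hsum, hb0]; ring
      by_cases hab : a = 1 ∧ b = 1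
      · left
        rw [hsum, hab.1, hab.2]
        norm_num
      · exfalso
        have ha3 : 3 ≤ 3 ^ a := by
          calc 3 = 3 ^ 1 := by norm_num
            _ ≤ 3 ^ a := Nat.pow_le_pow_right (by norm_num) ha0
        have hb3 : 3 ≤ 3 ^ b := by
          calc 3 = 3 ^ 1 := by norm_num
            _ ≤ 3 ^ b := Nat.pow_le_pow_right (by norm_num) hb0
        -- central elements on both orbits
        obtain ⟨z1, hz1P, hz1c, hz13, hz1s⟩ := exists_central_support_orbit P x0
          (by rw [horbPP, ha]; exact ha3)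
        obtain ⟨z2, hz2P, hz2c, hz23, hz2s⟩ := exists_central_support_orbit P y
          (by rw [horbPP, hb]; exact hb3)
        rw [horbPP] at hz1s hz2s
        set z : ↥(alternatingGroup Ω) := z1 * z2 with hz
        have hzP : z ∈ PP := PP.mul_mem hz1P hz2P
        have hzc : ∀ g ∈ PP, g * z = z * g := by
          intro g hg
          rw [hz, ← mul_assoc, hz1c g hg, mul_assoc, hz2c g hg, mul_assoc]
        have hz3 : z ^ 3 = 1 := by
          have hc12 : Commute z1 z2 := (hz1c z2 hz2P).symm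
          rw [hz, hc12.mul_pow, hz13, hz23, one_mul]
        have hz3' : ∀ t, (z : Perm Ω) ((z : Perm Ω) ((z : Perm Ω) t)) = t := by
          intro t
          have : ((z ^ 3 : ↥(alternatingGroup Ω)) : Perm Ω) t = t := by rw [hz3]; rfl
          simpa [pow_succ, Perm.mul_apply] using this
        have hzval : ∀ t, (z : Perm Ω) t = (z1 : Perm Ω) ((z2 : Perm Ω) t) := fun t => rfl
        have hzf : ∀ t, (z : Perm Ω) t ≠ t := by
          intro t
          rw [hzval]
          by_cases ht : t ∈ orbit ↥P0 x0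
          · have h2t : (z2 : Perm Ω) t = t := by
              by_contra hne
              exact Set.disjoint_left.1 hdisj12 ht ((hz2s t).1 hne)
            rw [h2t]
            exact (hz1s t).2 ht
          · have ht2 : t ∈ orbit ↥P0 y := by
              have : t ∈ orbit ↥P0 x0 ∪ orbit ↥P0 y := by rw [h2]; exact Set.mem_univ t
              exact this.resolve_left ht
            have h2t : (z2 : Perm Ω) t ≠ t := (hz2s t).2 ht2
            have h2mem : (z2 : Perm Ω) t ∈ orbit ↥P0 y := hinv y _ (hmemP0 z2 hz2P) t ht2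
            have h1fix : (z1 : Perm Ω) ((z2 : Perm Ω) t) = (z2 : Perm Ω) t := by
              by_contra hne
              exact Set.disjoint_left.1 hdisj12 ((hz1s _).1 hne) h2mem
            rw [h1fix]
            exact h2t
        have hzc' : ∀ g ∈ P0, g * (z : Perm Ω) = (z : Perm Ω) * g := by
          intro g hg
          obtain ⟨g', hg', rfl⟩ := Subgroup.mem_map.1 hg
          exact congrArg Subtype.val (hzc g' hg')
        have hcard12 : 12 ≤ Fintype.card Ω := by
          rw [hsum]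
          have : 2 ≤ a ∨ 2 ≤ b := by omega
          rcases this with h | h
          · have : 9 ≤ 3 ^ a := by
              calc 9 = 3 ^ 2 := by norm_num
                _ ≤ 3 ^ a := Nat.pow_le_pow_right (by norm_num) h
            omega
          · have : 9 ≤ 3 ^ b := by
              calc 9 = 3 ^ 2 := by norm_num
                _ ≤ 3 ^ b := Nat.pow_le_pow_right (by norm_num) h
            omega
        have hRn : ∀ g ∈ P0, ∀ r ∈ P0, g * r * g⁻¹ ∈ P0 := fun g hg r hr =>
          P0.mul_mem (P0.mul_mem hg hr) (P0.inv_mem hg)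
        have : 2 ≤ a ∨ 2 ≤ b := by omega
        rcases this with h | h
        · have h9 : 9 ≤ 3 ^ a := by
            calc 9 = 3 ^ 2 := by norm_num
              _ ≤ 3 ^ a := Nat.pow_le_pow_right (by norm_num) h
          exact machine hcard12 P0 M0 hP0 hM0 hM0ne hmax (z : Perm Ω) (hmemP0 z hzP) hzc' hz3' hzf
            P0 hRn x0 ⟨y, hy⟩ (by rw [ha]; omega)
        · have h9 : 9 ≤ 3 ^ b := by
            calc 9 = 3 ^ 2 := by norm_num
              _ ≤ 3 ^ b := Nat.pow_le_pow_right (by norm_num) h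
          exact machine hcard12 P0 M0 hP0 hM0 hM0ne hmax (z : Perm Ω) (hmemP0 z hzP) hzc' hz3' hzf
            P0 hRn y ⟨x0, hx0y⟩ (by rw [hb]; omega)
    · -- at least three orbits
      exfalso
      obtain ⟨w, hw⟩ : ∃ w, w ∉ orbit ↥P0 x0 ∪ orbit ↥P0 y := by
        by_contra hall
        push Not at hall
        exact h2 (Set.eq_univ_of_forall hall)
      have hw1 : w ∉ orbit ↥P0 x0 := fun hh => hw (Or.inl hh)
      have hw2 : w ∉ orbit ↥P0 y := fun hh => hw (Or.inr hh)
      have hwmem : w ∈ orbit ↥P0 w := mem_orbit_self w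
      have hdisj13 : Disjoint (orbit ↥P0 x0) (orbit ↥P0 w) := by
        rcases orbit.eq_or_disjoint (G := ↥P0) x0 w with heq | hd
        · exact absurd (heq ▸ hwmem) hw1
        · exact hd
      have hdisj23 : Disjoint (orbit ↥P0 y) (orbit ↥P0 w) := by
        rcases orbit.eq_or_disjoint (G := ↥P0) y w with heq | hd
        · exact absurd (heq ▸ hwmem) hw2
        · exact hd
      -- cardinalities
      have hc1 : 0 < (orbit ↥P0 x0).ncard := (Set.ncard_pos (Set.toFinite _)).2 ⟨x0, hx0mem⟩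
      have hc2 : 0 < (orbit ↥P0 y).ncard := (Set.ncard_pos (Set.toFinite _)).2 ⟨y, hymem⟩
      have hc3 : 0 < (orbit ↥P0 w).ncard := (Set.ncard_pos (Set.toFinite _)).2 ⟨w, hwmem⟩
      have hsum : (orbit ↥P0 x0).ncard + (orbit ↥P0 y).ncard + (orbit ↥P0 w).ncard ≤
          Fintype.card Ω := by
        have hd : Disjoint (orbit ↥P0 x0 ∪ orbit ↥P0 y) (orbit ↥P0 w) :=
          Set.disjoint_union_left.2 ⟨hdisj13, hdisj23⟩
        rw [← Set.ncard_union_eq hdisj12 (Set.toFinite _) (Set.toFinite _),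
          ← Set.ncard_union_eq hd (Set.toFinite _) (Set.toFinite _), ← hcardΩ, ← Set.ncard_univ]
        exact Set.ncard_le_ncard (Set.subset_univ _) (Set.toFinite _)
      -- hypotheses for each orbit
      have hx0c : (orbit ↥P0 x0)ᶜ.Nonempty := ⟨y, hy⟩
      have hyc : (orbit ↥P0 y)ᶜ.Nonempty := ⟨w, hw2⟩
      have hwc : (orbit ↥P0 w)ᶜ.Nonempty := ⟨y, fun hh => Set.disjoint_left.1 hdisj23 hymem hh⟩
      have hx0w : x0 ∉ orbit ↥P0 w := fun hh => Set.disjoint_left.1 hdisj13 hx0mem hh
      have hyw : y ∉ orbit ↥P0 w := fun hh => Set.disjoint_left.1 hdisj23 hymem hh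
      by_cases hA : 2 * (orbit ↥P0 x0).ncard < Fintype.card Ω
      · by_cases hB : 2 * (orbit ↥P0 y).ncard < Fintype.card Ω
        · rcases htwo _ _ ⟨x0, hx0mem⟩ hx0c (hinv x0) (by rw [hcardΩ]; omega) ⟨y, hymem⟩ hyc
            (hinv y) (by rw [hcardΩ]; omega) with heq | heq
          · exact hy (heq ▸ hymem)
          · have : w ∈ orbit ↥P0 y := by rw [heq]; exact hw1
            exact hw2 this
        · have hC : 2 * (orbit ↥P0 w).ncard < Fintype.card Ω := by omega
          rcases htwo _ _ ⟨x0, hx0mem⟩ hx0c (hinv x0) (by rw [hcardΩ]; omega) ⟨w, hwmem⟩ hwc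
            (hinv w) (by rw [hcardΩ]; omega) with heq | heq
          · exact hw1 (heq ▸ hwmem)
          · have : y ∈ orbit ↥P0 w := by rw [heq]; exact hy
            exact hyw this
      · have hB : 2 * (orbit ↥P0 y).ncard < Fintype.card Ω := by omega
        have hC : 2 * (orbit ↥P0 w).ncard < Fintype.card Ω := by omega
        rcases htwo _ _ ⟨y, hymem⟩ hyc (hinv y) (by rw [hcardΩ]; omega) ⟨w, hwmem⟩ hwc
          (hinv w) (by rw [hcardΩ]; omega) with heq | heq
        · exact hw2 (heq ▸ hwmem)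
        · have : x0 ∈ orbit ↥P0 w := by rw [heq]; exact hx0y
          exact hx0w this

end Cfsg.Agent.Helper5.AltMin
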