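import Mathlib
import Cfsg.Prelude.Def_GeometricClasses
import Cfsg.Agent.Helper5.AschCUT3
import Cfsg.Agent.Helper7.TensNMD

/-!
# ASCH-Ω9, piece P2 `tensorSquare_piece`

Every non-degenerate ternary symmetric form over a finite field of odd order has an orthogonal basis with three equal
norms; hence a tensor decomposition `3 ⊗ 3` with symmetric factors is a tensor square of the dot product.
-/

set_option autoImplicit false
set_option linter.style.haveILetI false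
set_option linter.unusedSectionVars false
set_option linter.unusedVariables false
set_option linter.unnecessarySeqFocus false

namespace Cfsg.Agent.Helper5.AschO9

open Cfsg Cfsg.Geo Cfsg.Agent.Helper5.GramForm Cfsg.Agent.Helper6.AschGen Cfsg.Agent.Helper9.AschComp
  Cfsg.Agent.Helper5.AschCU
open scoped MatrixGroups Matrix Kronecker

variable {n : ℕ} {F : Type*} [Field F]

/-- the general tensor-square lemma: if the two Gram matrices become proportional to the same matrix `G` after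
congruences, the tensor decomposition is a tensor square of `G` -/
theorem tensorSquare_of_conj (σ : F →+* F) {k : ℕ} (f : (Fin n → F) → (Fin n → F) → F)
    (e : Fin n ≃ Fin k × Fin k) (P : GL (Fin n) F) (G₁ G₂ G : Matrix (Fin k) (Fin k) F) (c : F) (hc : c ≠ 0)
    (hform : ∀ x y : Fin k × Fin k → F,
      f ((P : Matrix (Fin n) (Fin n) F) *ᵥ (x ∘ e)) ((P : Matrix (Fin n) (Fin n) F) *ᵥ (y ∘ e)) =
        c * formOfGram σ (G₁ ⊗ₖ G₂) x y)
    (a₁ a₂ : GL (Fin k) F) (μ : F) (hμ : μ ≠ 0)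
    (hconj : ((a₁ : Matrix (Fin k) (Fin k) F)ᵀ * G₁ * (a₁ : Matrix (Fin k) (Fin k) F).map σ) ⊗ₖ
      ((a₂ : Matrix (Fin k) (Fin k) F)ᵀ * G₂ * (a₂ : Matrix (Fin k) (Fin k) F).map σ) = μ • (G ⊗ₖ G)) :
    ∃ (e' : Fin n ≃ (Fin 2 → Fin k)) (P' : GL (Fin n) F),
      (∃ c' : F, c' ≠ 0 ∧ ∀ x y : (Fin 2 → Fin k) → F,
        f ((P' : Matrix (Fin n) (Fin n) F) *ᵥ (x ∘ e')) ((P' : Matrix (Fin n) (Fin n) F) *ᵥ (y ∘ e')) =
          c' * ∑ a, ∑ b, x a * (∏ i, G (a i) (b i)) * σ (y b)) ∧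
      tensorProductSubgroup k k e P ≤ tensorWreathSubgroup k 2 e' P' := by
  classical
  obtain ⟨K₀, hK₀⟩ : ∃ K₀ : GL (Fin k × Fin k) F, K₀ = kronGL a₁ a₂ := ⟨_, rfl⟩
  have hK₀v : (K₀ : Matrix (Fin k × Fin k) (Fin k × Fin k) F) =
      (a₁ : Matrix (Fin k) (Fin k) F) ⊗ₖ (a₂ : Matrix (Fin k) (Fin k) F) := by
    rw [hK₀, kronGL_val]
  have hK₀m : K₀ ∈ kroneckerSubgroup k k F := by rw [hK₀]; exact kronGL_mem a₁ a₂
  refine ⟨e.trans (pairEquiv k), P * glReindex e.symm K₀, ⟨c * μ, mul_ne_zero hc hμ, ?_⟩, ?_⟩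
  · intro x y
    have hx : ∀ x : (Fin 2 → Fin k) → F,
        ((P * glReindex e.symm K₀ : GL (Fin n) F) : Matrix (Fin n) (Fin n) F) *ᵥ (x ∘ (e.trans (pairEquiv k))) =
          (P : Matrix (Fin n) (Fin n) F) *ᵥ
            (((K₀ : Matrix (Fin k × Fin k) (Fin k × Fin k) F) *ᵥ (x ∘ pairEquiv k)) ∘ e) := by
      intro x
      rw [Units.val_mul, ← Matrix.mulVec_mulVec]
      congr 1
      exact glReindex_mulVec e K₀ (x ∘ pairEquiv k)
    rw [hx, hx, hform, mul_assoc]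
    congr 1
    have h3 := formOfGram_mulVec σ (G₁ ⊗ₖ G₂)
      (K₀ : Matrix (Fin k × Fin k) (Fin k × Fin k) F) (x ∘ pairEquiv k) (y ∘ pairEquiv k)
    rw [hK₀v, kron_gram_conj, hconj, formOfGram_smul] at h3
    rw [hK₀v]
    refine Eq.trans h3 ?_
    congr 1
    unfold formOfGram
    rw [← Equiv.sum_comp (pairEquiv k)]
    apply Finset.sum_congr rfl
    intro p _
    rw [← Equiv.sum_comp (pairEquiv k)]
    apply Finset.sum_congr rfl
    intro p' _
    rw [Fin.prod_univ_two, Matrix.kroneckerMap_apply]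
    rfl
  · intro g hg
    unfold tensorProductSubgroup at hg
    rw [Subgroup.mem_map] at hg
    obtain ⟨g', hg', rfl⟩ := hg
    rw [Subgroup.mem_map] at hg'
    obtain ⟨κ, hκ, rfl⟩ := hg'
    unfold tensorWreathSubgroup
    rw [Subgroup.mem_map]
    refine ⟨glReindex e.symm (K₀⁻¹ * κ * K₀), ?_, ?_⟩
    · rw [Subgroup.mem_map]
      refine ⟨glReindex (pairEquiv k) (K₀⁻¹ * κ * K₀), reindex_kronecker_mem k
        ((kroneckerSubgroup k k F).mul_mem ((kroneckerSubgroup k k F).mul_mem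
          ((kroneckerSubgroup k k F).inv_mem hK₀m) hκ) hK₀m), ?_⟩
      show glReindex (e.trans (pairEquiv k)).symm (glReindex (pairEquiv k) (K₀⁻¹ * κ * K₀)) =
        glReindex e.symm (K₀⁻¹ * κ * K₀)
      apply Units.ext
      ext i j
      rw [glReindex_apply, glReindex_apply, glReindex_apply]
      simp
    · show P * glReindex e.symm K₀ * glReindex e.symm (K₀⁻¹ * κ * K₀) * (P * glReindex e.symm K₀)⁻¹ =
        P * glReindex e.symm κ * P⁻¹
      rw [map_mul, map_mul, map_inv]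
      group

/-! ## equal-norm bases of ternary forms -/

section ternary

variable [Fintype F]

/-- a binary diagonal form over a finite field of odd order represents everything -/
theorem exists_rep (hodd : Odd (Fintype.card F)) (a b δ : F) (ha : a ≠ 0) (hb : b ≠ 0) :
    ∃ x y : F, a * x ^ 2 + b * y ^ 2 = δ := by
  classical
  have hf : (Polynomial.C a * Polynomial.X ^ 2 : Polynomial F).degree = 2 := by
    rw [Polynomial.degree_C_mul ha, Polynomial.degree_X_pow]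
    rfl
  have hg : (Polynomial.C b * Polynomial.X ^ 2 - Polynomial.C δ : Polynomial F).degree = 2 := by
    have h1 : (Polynomial.C b * Polynomial.X ^ 2 : Polynomial F).degree = 2 := by
      rw [Polynomial.degree_C_mul hb, Polynomial.degree_X_pow]
      rfl
    rw [Polynomial.degree_sub_eq_left_of_degree_lt, h1]
    rw [h1]
    exact lt_of_le_of_lt Polynomial.degree_C_le (by norm_num)
  obtain ⟨x, y, hxy⟩ := FiniteField.exists_root_sum_quadratic hf hg (Nat.odd_iff.1 hodd)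
  refine ⟨x, y, ?_⟩
  simp only [Polynomial.eval_sub, Polynomial.eval_pow, Polynomial.eval_X, Polynomial.eval_C,
    Polynomial.eval_mul] at hxy
  linear_combination hxy

theorem diag_step1 (a b c x y δ : F) (h1 : a * x ^ 2 + b * y ^ 2 = δ) :
    (!![x, b * y, 0; y, -(a * x), 0; 0, 0, 1] : Matrix (Fin 3) (Fin 3) F)ᵀ * Matrix.diagonal ![a, b, c] *
      !![x, b * y, 0; y, -(a * x), 0; 0, 0, 1] = Matrix.diagonal ![δ, a * b * δ, c] := by
  ext i j
  fin_cases i <;> fin_cases j <;>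
    simp [Matrix.mul_apply, Fin.sum_univ_three, Matrix.diagonal_apply] <;>
    first | ring1 | linear_combination h1 | linear_combination (a * b) * h1

theorem diag_step2 (a' b' c' x y δ : F) (h1 : b' * x ^ 2 + c' * y ^ 2 = δ) :
    (!![1, 0, 0; 0, x, c' * y; 0, y, -(b' * x)] : Matrix (Fin 3) (Fin 3) F)ᵀ * Matrix.diagonal ![a', b', c'] *
      !![1, 0, 0; 0, x, c' * y; 0, y, -(b' * x)] = Matrix.diagonal ![a', δ, b' * c' * δ] := by
  ext i j
  fin_cases i <;> fin_cases j <;>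
    simp [Matrix.mul_apply, Fin.sum_univ_three, Matrix.diagonal_apply] <;>
    first | ring1 | linear_combination h1 | linear_combination (b' * c') * h1

theorem diag_step3 (a' b' c' s : F) :
    (!![1, 0, 0; 0, 1, 0; 0, 0, s] : Matrix (Fin 3) (Fin 3) F)ᵀ * Matrix.diagonal ![a', b', c'] *
      !![1, 0, 0; 0, 1, 0; 0, 0, s] = Matrix.diagonal ![a', b', s ^ 2 * c'] := by
  ext i j
  fin_cases i <;> fin_cases j <;>
    simp [Matrix.mul_apply, Fin.sum_univ_three, Matrix.diagonal_apply] <;>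
    first | ring1

/-- every non-degenerate symmetric `3 × 3` matrix over a finite field of odd order is congruent to a scalar matrix -/
theorem exists_equal_norm (hodd : Odd (Fintype.card F)) (G : Matrix (Fin 3) (Fin 3) F) (hsymm : Gᵀ = G)
    (hnd : (Matrix.toBilin' G).Nondegenerate) :
    ∃ (A : Matrix (Fin 3) (Fin 3) F) (δ : F), δ ≠ 0 ∧ Aᵀ * G * A = δ • (1 : Matrix (Fin 3) (Fin 3) F) := by
  have h2 : (2 : F) ≠ 0 := two_ne_zero_of_odd_card hodd
  obtain ⟨U, U', d, hU, hU', hd, hdiag⟩ := Cfsg.Agent.Helper7.TensNM.exists_diag h2 G hsymm hnd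
  obtain ⟨a, ha⟩ : ∃ a, a = d 0 := ⟨_, rfl⟩
  obtain ⟨b, hb⟩ : ∃ b, b = d 1 := ⟨_, rfl⟩
  obtain ⟨c, hc⟩ : ∃ c, c = d 2 := ⟨_, rfl⟩
  have ha0 : a ≠ 0 := by rw [ha]; exact hd 0
  have hb0 : b ≠ 0 := by rw [hb]; exact hd 1
  have hc0 : c ≠ 0 := by rw [hc]; exact hd 2
  have hdd : Matrix.diagonal d = Matrix.diagonal ![a, b, c] := by
    congr 1
    ext i
    fin_cases i
    · exact ha.symm
    · exact hb.symm
    · exact hc.symm
  rw [hdd] at hdiag
  obtain ⟨δ, hδ⟩ : ∃ δ, δ = a * b * c := ⟨_, rfl⟩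
  have hδ0 : δ ≠ 0 := by rw [hδ]; exact mul_ne_zero (mul_ne_zero ha0 hb0) hc0
  obtain ⟨x, y, hxy⟩ := exists_rep hodd a b δ ha0 hb0
  obtain ⟨x', y', hxy'⟩ := exists_rep hodd (a * b * δ) c δ (mul_ne_zero (mul_ne_zero ha0 hb0) hδ0) hc0
  obtain ⟨V₁, hV₁⟩ : ∃ V₁ : Matrix (Fin 3) (Fin 3) F, V₁ = !![x, b * y, 0; y, -(a * x), 0; 0, 0, 1] := ⟨_, rfl⟩
  obtain ⟨V₂, hV₂⟩ : ∃ V₂ : Matrix (Fin 3) (Fin 3) F,
      V₂ = !![1, 0, 0; 0, x', c * y'; 0, y', -(a * b * δ * x')] := ⟨_, rfl⟩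
  obtain ⟨V₃, hV₃⟩ : ∃ V₃ : Matrix (Fin 3) (Fin 3) F, V₃ = !![1, 0, 0; 0, 1, 0; 0, 0, δ⁻¹] := ⟨_, rfl⟩
  have s1 : V₁ᵀ * Matrix.diagonal ![a, b, c] * V₁ = Matrix.diagonal ![δ, a * b * δ, c] := by
    rw [hV₁]
    exact diag_step1 a b c x y δ hxy
  have s2 : V₂ᵀ * Matrix.diagonal ![δ, a * b * δ, c] * V₂ = Matrix.diagonal ![δ, δ, a * b * δ * c * δ] := by
    rw [hV₂]
    exact diag_step2 δ (a * b * δ) c x' y' δ hxy'
  have s3 : V₃ᵀ * Matrix.diagonal ![δ, δ, a * b * δ * c * δ] * V₃ =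
      Matrix.diagonal ![δ, δ, δ⁻¹ ^ 2 * (a * b * δ * c * δ)] := by
    rw [hV₃]
    exact diag_step3 δ δ (a * b * δ * c * δ) δ⁻¹
  have hlast : δ⁻¹ ^ 2 * (a * b * δ * c * δ) = δ := by
    have : a * b * δ * c * δ = δ ^ 3 := by rw [hδ]; ring
    rw [this]
    field_simp
  rw [hlast] at s3
  have hscal : Matrix.diagonal ![δ, δ, δ] = δ • (1 : Matrix (Fin 3) (Fin 3) F) := by
    ext i j
    fin_cases i <;> fin_cases j <;> simp
  refine ⟨U * V₁ * V₂ * V₃, δ, hδ0, ?_⟩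
  rw [← hscal, ← s3, ← s2, ← s1, ← hdiag]
  simp only [Matrix.transpose_mul, Matrix.mul_assoc]

end ternary

/-- **P2** of ASCH-Ω9 (exact stub of `notes/helper2_aschO9_stubs.lean.txt`) -/
theorem tensorSquare_piece [Fintype F] (hodd : Odd (Fintype.card F)) {n : ℕ}
    (f : (Fin n → F) → (Fin n → F) → F)
    (e : Fin n ≃ Fin 3 × Fin 3) (P : GL (Fin n) F) (f₁ f₂ : (Fin 3 → F) → (Fin 3 → F) → F)
    (h₁ : IsSymmetricForm f₁) (h₂ : IsSymmetricForm f₂) (hT : IsTensorFormStructure id f f₁ f₂ e P) :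
    ∃ (e' : Fin n ≃ (Fin 2 → Fin 3)) (P' : GL (Fin n) F) (g₁ : (Fin 3 → F) → (Fin 3 → F) → F),
      IsSymmetricForm g₁ ∧ IsTensorPowerFormStructure id f g₁ e' P' ∧
      tensorProductSubgroup 3 3 e P ≤ tensorWreathSubgroup 3 2 e' P' := by
  classical
  obtain ⟨c, hc, hform⟩ := hT
  obtain ⟨A₁, δ₁, hδ₁, hA₁⟩ := exists_equal_norm hodd (gramMatrix f₁)
    (Cfsg.Agent.Helper7.TensNM.gram_transpose h₁.symm)
    (Cfsg.Agent.Helper7.TensNM.gram_nondegenerate h₁.bilinear h₁.nondegenerate)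
  obtain ⟨A₂, δ₂, hδ₂, hA₂⟩ := exists_equal_norm hodd (gramMatrix f₂)
    (Cfsg.Agent.Helper7.TensNM.gram_transpose h₂.symm)
    (Cfsg.Agent.Helper7.TensNM.gram_nondegenerate h₂.bilinear h₂.nondegenerate)
  have hdet : ∀ (A G : Matrix (Fin 3) (Fin 3) F) (δ : F), δ ≠ 0 →
      Aᵀ * G * A = δ • (1 : Matrix (Fin 3) (Fin 3) F) → A.det ≠ 0 := by
    intro A G δ hδ hA h0
    have h1 := congrArg Matrix.det hA
    rw [Matrix.det_mul, Matrix.det_mul, h0, mul_zero, Matrix.det_smul, Matrix.det_one, mul_one] at h1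
    exact pow_ne_zero _ hδ h1.symm
  obtain ⟨a₁, ha₁⟩ : ∃ a₁ : GL (Fin 3) F, (a₁ : Matrix (Fin 3) (Fin 3) F) = A₁ :=
    ⟨Matrix.GeneralLinearGroup.mkOfDetNeZero A₁ (hdet A₁ _ δ₁ hδ₁ hA₁), rfl⟩
  obtain ⟨a₂, ha₂⟩ : ∃ a₂ : GL (Fin 3) F, (a₂ : Matrix (Fin 3) (Fin 3) F) = A₂ :=
    ⟨Matrix.GeneralLinearGroup.mkOfDetNeZero A₂ (hdet A₂ _ δ₂ hδ₂ hA₂), rfl⟩
  have hmapid : ∀ M : Matrix (Fin 3) (Fin 3) F, M.map (RingHom.id F) = M := fun M => by
    ext i j
    rfl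
  obtain ⟨e', P', ⟨c', hc', hform'⟩, hle⟩ := tensorSquare_of_conj (RingHom.id F) f e P (gramMatrix f₁)
    (gramMatrix f₂) (1 : Matrix (Fin 3) (Fin 3) F) c hc hform a₁ a₂ (δ₁ * δ₂) (mul_ne_zero hδ₁ hδ₂) (by
      rw [ha₁, ha₂, hmapid, hmapid, hA₁, hA₂, Matrix.smul_kronecker, Matrix.kronecker_smul, smul_smul])
  have hg : gramMatrix (formOfGram id (1 : Matrix (Fin 3) (Fin 3) F)) = 1 := by
    ext i j
    exact formOfGram_single (RingHom.id F) 1 i j
  refine ⟨e', P', formOfGram id (1 : Matrix (Fin 3) (Fin 3) F),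
    isSymmetricForm_formOfGram (by rw [Matrix.det_one]; exact isUnit_one) Matrix.transpose_one,
    ⟨c', hc', ?_⟩, hle⟩
  intro x y
  rw [hform', hg]
  rfl

end Cfsg.Agent.Helper5.AschO9
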