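import Mathlib
import Cfsg.Prelude.Def_GeometricClasses
import Cfsg.Agent.Lead.AschBase
import Cfsg.Agent.Lead.AschOBase
import Cfsg.Agent.Helper2.TensorO3B
import Cfsg.Agent.Helper2.AschOmM2d

/-!
# ASCH-OM round 2: refining an orthogonal decomposition with orthonormal frames into 1-spaces

If every block of an isometric orthogonal decomposition has an `ε`-orthonormal frame (pairwise orthogonal vectors with
`Q = ε`), and over `F` a sum of `m` squares equal to `1` has a single non-zero term (e.g. `(q, m) = (3, 2), (3, 3),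
(5, 2)`), then the vectors of the frames span pairwise orthogonal, pairwise isometric `1`-spaces permuted by the
isometries in the stabiliser of the decomposition.
-/

set_option autoImplicit false
set_option linter.style.haveILetI false
set_option linter.unusedSectionVars false
set_option linter.unusedVariables false

namespace Cfsg.Agent.Helper5.AschOm

open Cfsg Cfsg.Geo Cfsg.Agent.Lead.Asch Cfsg.Agent.Lead.AschO Cfsg.Agent.Helper2.TensorO3
  Cfsg.Agent.Helper2.AschOm
open scoped MatrixGroups Matrix

variable {n : ℕ} {F : Type*} [Field F]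

/-- an `ε`-orthonormal family: pairwise orthogonal vectors with `Q = ε` -/
structure ONFam (Q : (Fin n → F) → F) {κ : Type} (ε : F) (v : κ → (Fin n → F)) : Prop where
  quad : ∀ p, Q (v p) = ε
  orth : ∀ p p', p ≠ p' → QuadraticMap.polar Q (v p) (v p') = 0

section onfam

variable {Q : (Fin n → F) → F} {κ : Type} [Fintype κ] [DecidableEq κ] {ε : F} {v : κ → (Fin n → F)}

theorem polar_self (hQ : IsNondegenerateQuadraticForm Q) (w : Fin n → F) :
    QuadraticMap.polar Q w w = 2 * Q w := by
  unfold QuadraticMap.polar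
  have h3 : w + w = (2 : F) • w := (two_smul F w).symm
  rw [h3, hQ.smul]
  ring

/-- the quadratic form on a combination of an orthonormal family -/
theorem ONFam.quad_sum (hQ : IsNondegenerateQuadraticForm Q) (hv : ONFam Q ε v) (x : κ → F) :
    Q (∑ p, x p • v p) = ε * ∑ p, x p ^ 2 := by
  rw [Q_sum_of_orth hQ Finset.univ (fun p => x p • v p)]
  · rw [Finset.mul_sum]
    apply Finset.sum_congr rfl
    intro p _
    rw [hQ.smul, hv.quad]
    ring
  · intro p _ p' _ hpp'
    rw [hQ.polar_bilinear.smul_left, hQ.polar_bilinear.smul_right, hv.orth p p' hpp', mul_zero, mul_zero]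

/-- the polar form of a combination of an orthonormal family with a member -/
theorem ONFam.polar_sum (hQ : IsNondegenerateQuadraticForm Q) (hv : ONFam Q ε v) (x : κ → F) (p' : κ) :
    QuadraticMap.polar Q (∑ p, x p • v p) (v p') = x p' * (2 * ε) := by
  rw [bilin_sum_left hQ.polar_bilinear, Finset.sum_eq_single p']
  · rw [hQ.polar_bilinear.smul_left, polar_self hQ, hv.quad]
  · intro p _ hp
    rw [hQ.polar_bilinear.smul_left, hv.orth p p' hp, mul_zero]
  · intro h
    exact absurd (Finset.mem_univ p') h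

theorem ONFam.linearIndependent (hQ : IsNondegenerateQuadraticForm Q) (h2 : (2 : F) ≠ 0) (hε : ε ≠ 0)
    (hv : ONFam Q ε v) : LinearIndependent F v := by
  rw [Fintype.linearIndependent_iff]
  intro x hx p'
  have h1 := hv.polar_sum hQ x p'
  rw [hx] at h1
  have h0 : QuadraticMap.polar Q (0 : Fin n → F) (v p') = 0 := bilin_zero_left hQ.polar_bilinear _
  rw [h0] at h1
  rcases mul_eq_zero.1 h1.symm with h | h
  · exact h
  · exact absurd h (mul_ne_zero h2 hε)

theorem ONFam.ne_zero (hQ : IsNondegenerateQuadraticForm Q) (hε : ε ≠ 0) (hv : ONFam Q ε v) (p : κ) :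
    v p ≠ 0 := by
  intro h
  have h1 := hv.quad p
  rw [h] at h1
  have h0 : Q (0 : Fin n → F) = 0 := by
    have := hQ.smul 0 (0 : Fin n → F)
    simpa using this
  rw [h0] at h1
  exact hε h1.symm

end onfam

section lines

variable {Q : (Fin n → F) → F} {ε : F}

/-- the lines spanned by an orthonormal basis form an isometric orthogonal decomposition -/
theorem lines_of_onfam {N : ℕ} (hQ : IsNondegenerateQuadraticForm Q) (h2 : (2 : F) ≠ 0) (hε : ε ≠ 0)
    (hN : 2 ≤ N) (hNn : N = n) (v : Fin N → (Fin n → F)) (hv : ONFam Q ε v) :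
    IsOrthogonalMDecomposition Q 1 (fun j => Submodule.span F {v j}) := by
  classical
  have hli := hv.linearIndependent hQ h2 hε
  have hself : ∀ j, QuadraticMap.polar Q (v j) (v j) = 2 * ε := fun j => by rw [polar_self hQ, hv.quad]
  refine ⟨⟨⟨hN, Nat.one_pos, fun j => finrank_span_singleton (hv.ne_zero hQ hε j), ?_, ?_⟩, ?_, ?_⟩, ?_⟩
  · exact hli.iSupIndep_span_singleton
  · rw [← Submodule.span_range_eq_iSup]
    exact hli.span_eq_top_of_card_eq_finrank' (by rw [Fintype.card_fin, Module.finrank_fin_fun, hNn])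
  · intro j w hw hw0
    obtain ⟨c, rfl⟩ := Submodule.mem_span_singleton.1 hw
    have hc : c ≠ 0 := by
      rintro rfl
      exact hw0 (zero_smul _ _)
    refine ⟨⟨v j, Submodule.mem_span_singleton_self _, ?_⟩, ⟨v j, Submodule.mem_span_singleton_self _, ?_⟩⟩
    · rw [hQ.polar_bilinear.smul_right, hself]
      exact mul_ne_zero hc (mul_ne_zero h2 hε)
    · rw [hQ.polar_bilinear.smul_left, hself]
      exact mul_ne_zero hc (mul_ne_zero h2 hε)
  · intro j j' hjj' u hu w hw
    obtain ⟨c, rfl⟩ := Submodule.mem_span_singleton.1 hu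
    obtain ⟨c', rfl⟩ := Submodule.mem_span_singleton.1 hw
    rw [hQ.polar_bilinear.smul_left, hQ.polar_bilinear.smul_right, hv.orth j j' hjj', mul_zero, mul_zero]
  · intro j j'
    refine ⟨(LinearEquiv.toSpanNonzeroSingleton F _ (v j) (hv.ne_zero hQ hε j)).symm.trans
      (LinearEquiv.toSpanNonzeroSingleton F _ (v j') (hv.ne_zero hQ hε j')), ?_⟩
    intro w
    obtain ⟨c, hc⟩ : ∃ c : F, w = LinearEquiv.toSpanNonzeroSingleton F _ (v j) (hv.ne_zero hQ hε j) c :=
      ⟨_, (LinearEquiv.apply_symm_apply _ w).symm⟩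
    rw [hc, LinearEquiv.trans_apply, LinearEquiv.symm_apply_apply, LinearEquiv.toSpanNonzeroSingleton_apply,
      LinearEquiv.toSpanNonzeroSingleton_apply]
    show Q (c • v j') = Q (c • v j)
    rw [hQ.smul, hQ.smul, hv.quad, hv.quad]

/-- an isometry preserves the polar form -/
theorem polar_isom {g : GL (Fin n) F} (hg : g ∈ isometryGroup F Q) (u w : Fin n → F) :
    QuadraticMap.polar Q ((g : Matrix (Fin n) (Fin n) F) *ᵥ u) ((g : Matrix (Fin n) (Fin n) F) *ᵥ w) =
      QuadraticMap.polar Q u w := by
  have h := mem_isometryGroup_iff.1 hg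
  unfold QuadraticMap.polar
  rw [← Matrix.mulVec_add, h, h, h]

/-- an isometry mapping every member of an orthonormal family to a multiple of a member permutes the lines -/
theorem stab_lines_of_onfam {N : ℕ} (hQ : IsNondegenerateQuadraticForm Q) (h2 : (2 : F) ≠ 0) (hε : ε ≠ 0)
    (v : Fin N → (Fin n → F)) (hv : ONFam Q ε v) {g : GL (Fin n) F} (hg : g ∈ isometryGroup F Q)
    (hmap : ∀ j, ∃ j' : Fin N, ∃ c : F, c ≠ 0 ∧ (g : Matrix (Fin n) (Fin n) F) *ᵥ v j = c • v j') :
    g ∈ decompositionStabilizer (fun j => Submodule.span F {v j}) := by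
  classical
  choose τ₀ c hc hgv using hmap
  have hinj : Function.Injective τ₀ := by
    intro j j' hjj'
    by_contra hne
    have h1 := polar_isom hg (v j) (v j')
    rw [hgv j, hgv j', hjj', hQ.polar_bilinear.smul_left, hQ.polar_bilinear.smul_right, polar_self hQ, hv.quad,
      hv.orth j j' hne] at h1
    exact mul_ne_zero (hc j) (mul_ne_zero (hc j') (mul_ne_zero h2 hε)) h1
  refine ⟨Equiv.ofBijective τ₀ (Finite.injective_iff_bijective.1 hinj), fun j => ?_⟩
  rw [Submodule.map_span, Set.image_singleton, Matrix.toLin'_apply, hgv j,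
    Submodule.span_singleton_smul_eq (isUnit_iff_ne_zero.mpr (hc j))]
  rfl

end lines

end Cfsg.Agent.Helper5.AschOm
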