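import Mathlib
import Cfsg.Prelude.Def_GeometricClasses
import Cfsg.Agent.Helper5.AschOmRefA

/-!
# ASCH-OM round 2: refining an orthogonal decomposition into 1-spaces, part B (frames of the blocks)
-/

set_option autoImplicit false
set_option linter.style.haveILetI false
set_option linter.unusedSectionVars false
set_option linter.unusedVariables false

namespace Cfsg.Agent.Helper5.AschOm

open Cfsg Cfsg.Geo Cfsg.Agent.Lead.Asch Cfsg.Agent.Lead.AschO Cfsg.Agent.Helper2.TensorO3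
  Cfsg.Agent.Helper2.AschOm
open scoped MatrixGroups Matrix

variable {n : ℕ} {F : Type*} [Field F]

section frames

variable {Q : (Fin n → F) → F} {t m : ℕ} {ε : F}

/-- counting dimensions in a decomposition -/
theorem card_of_decomp (D : Fin t → Submodule F (Fin n → F)) (hD : IsMDecomposition m D) : t * m = n := by
  classical
  have hint := DirectSum.isInternal_submodule_of_iSupIndep_of_iSup_eq_top hD.indep hD.iSup_eq_top
  have e := LinearEquiv.ofBijective (DirectSum.coeLinearMap D) hint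
  have h1 := e.finrank_eq
  rw [Module.finrank_directSum] at h1
  simp only [hD.finrank_eq, Finset.sum_const, Finset.card_univ, smul_eq_mul, Fintype.card_fin] at h1
  rw [Module.finrank_fin_fun] at h1
  exact h1

/-- the combined family of a system of frames -/
def famOf (b : Fin t → Fin m → (Fin n → F)) : Fin t × Fin m → (Fin n → F) := fun p => b p.1 p.2

theorem onfam_of_frames (D : Fin t → Submodule F (Fin n → F)) (hD : IsOrthogonalMDecomposition Q m D)
    (b : Fin t → Fin m → (Fin n → F)) (hbD : ∀ i a, b i a ∈ D i) (hb : ∀ i, ONFam Q ε (b i)) :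
    ONFam Q ε (famOf b) where
  quad := fun p => (hb p.1).quad p.2
  orth := by
    rintro ⟨i, a⟩ ⟨j, c⟩ hne
    by_cases hij : i = j
    · subst hij
      exact (hb i).orth a c (fun h => hne (by rw [h]))
    · exact hD.decomp.orthogonal i j hij _ (hbD i a) _ (hbD j c)

/-- a frame spans its block -/
theorem span_frame_eq (hQ : IsNondegenerateQuadraticForm Q) (h2 : (2 : F) ≠ 0) (hε : ε ≠ 0)
    (W : Submodule F (Fin n → F)) (hW : Module.finrank F W = m) (b : Fin m → (Fin n → F)) (hbW : ∀ a, b a ∈ W)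
    (hb : ONFam Q ε b) : Submodule.span F (Set.range b) = W := by
  apply Submodule.eq_of_le_of_finrank_eq
  · rw [Submodule.span_le]
    rintro _ ⟨a, rfl⟩
    exact hbW a
  · rw [finrank_span_eq_card (hb.linearIndependent hQ h2 hε), Fintype.card_fin, hW]

/-- **the refinement lemma**: blocks with `ε`-orthonormal frames, in a field where a sum of `m` squares equal to `1`
has a single non-zero term, refine to an isometric orthogonal decomposition into `1`-spaces. -/
theorem refine_of_frames (hQ : IsNondegenerateQuadraticForm Q) (h2 : (2 : F) ≠ 0)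
    (D : Fin t → Submodule F (Fin n → F)) (hD : IsOrthogonalMDecomposition Q m D) (hε : ε ≠ 0)
    (b : Fin t → Fin m → (Fin n → F)) (hbD : ∀ i a, b i a ∈ D i) (hb : ∀ i, ONFam Q ε (b i))
    (hmono : ∀ x : Fin m → F, (∑ a, x a ^ 2 = 1) → ∃ a, ∀ a', a' ≠ a → x a' = 0) :
    ∃ D' : Fin (t * m) → Submodule F (Fin n → F), IsOrthogonalMDecomposition Q 1 D' ∧
      decompositionStabilizer D ⊓ isometryGroup F Q ≤ decompositionStabilizer D' := by
  classical
  have hv : ONFam Q ε (famOf b) := onfam_of_frames D hD b hbD hb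
  obtain ⟨E, hE⟩ : ∃ E : Fin (t * m) ≃ Fin t × Fin m, E = finProdFinEquiv.symm := ⟨_, rfl⟩
  have hv' : ONFam Q ε (famOf b ∘ E) :=
    ⟨fun j => hv.quad _, fun j j' hjj' => hv.orth _ _ (fun h => hjj' (E.injective h))⟩
  have hcard : t * m = n := card_of_decomp D hD.decomp.decomp
  have h2tm : 2 ≤ t * m := by
    have h1 := hD.decomp.decomp.two_le
    have h3 := hD.decomp.decomp.pos
    calc 2 ≤ t := h1
      _ = t * 1 := (Nat.mul_one t).symm
      _ ≤ t * m := Nat.mul_le_mul_left t h3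
  refine ⟨fun j => Submodule.span F {(famOf b ∘ E) j}, lines_of_onfam hQ h2 hε h2tm hcard _ hv', ?_⟩
  rintro g ⟨hgD, hgI⟩
  refine stab_lines_of_onfam hQ h2 hε _ hv' hgI ?_
  intro j
  obtain ⟨σ, hσ⟩ := hgD
  obtain ⟨i, a, hEj⟩ : ∃ i a, E j = (i, a) := ⟨(E j).1, (E j).2, rfl⟩
  have hmem : (g : Matrix (Fin n) (Fin n) F) *ᵥ b i a ∈ D (σ i) := by
    rw [← hσ i]
    exact ⟨b i a, hbD i a, by rw [Matrix.toLin'_apply]⟩
  rw [← span_frame_eq hQ h2 hε (D (σ i)) (hD.decomp.decomp.finrank_eq (σ i)) (b (σ i)) (hbD (σ i)) (hb (σ i)),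
    Submodule.mem_span_range_iff_exists_fun] at hmem
  obtain ⟨x, hx⟩ := hmem
  have hQg : Q ((g : Matrix (Fin n) (Fin n) F) *ᵥ b i a) = ε := by
    rw [mem_isometryGroup_iff.1 hgI, (hb i).quad]
  rw [← hx, (hb (σ i)).quad_sum hQ x] at hQg
  have hsum : ∑ c, x c ^ 2 = 1 := by
    have h3 : ε * ∑ c, x c ^ 2 = ε * 1 := by rw [hQg, mul_one]
    exact mul_left_cancel₀ hε h3
  obtain ⟨a₀, ha₀⟩ := hmono x hsum
  have hx0 : x a₀ ≠ 0 := by
    intro h0
    rw [Finset.sum_eq_single a₀ (fun c _ hc => by rw [ha₀ c hc]; ring)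
      (fun h => absurd (Finset.mem_univ a₀) h), h0] at hsum
    norm_num at hsum
  refine ⟨E.symm (σ i, a₀), x a₀, hx0, ?_⟩
  show (g : Matrix (Fin n) (Fin n) F) *ᵥ famOf b (E j) = x a₀ • famOf b (E (E.symm (σ i, a₀)))
  rw [Equiv.apply_symm_apply, hEj]
  show (g : Matrix (Fin n) (Fin n) F) *ᵥ b i a = x a₀ • b (σ i) a₀
  rw [← hx, Finset.sum_eq_single a₀ (fun c _ hc => by rw [ha₀ c hc, zero_smul])
    (fun h => absurd (Finset.mem_univ a₀) h)]

/-- isometries between the blocks transport a frame of one block to all blocks -/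
theorem frames_of_one (D : Fin t → Submodule F (Fin n → F)) (hD : IsOrthogonalMDecomposition Q m D) (i₀ : Fin t)
    (b₀ : Fin m → (Fin n → F)) (hb₀D : ∀ a, b₀ a ∈ D i₀) (hb₀ : ONFam Q ε b₀) :
    ∃ b : Fin t → Fin m → (Fin n → F), (∀ i a, b i a ∈ D i) ∧ ∀ i, ONFam Q ε (b i) := by
  classical
  have hiso := fun i => hD.isometric i₀ i
  choose e he using hiso
  refine ⟨fun i a => ((e i ⟨b₀ a, hb₀D a⟩ : D i) : Fin n → F), fun i a => (e i ⟨b₀ a, hb₀D a⟩).2, fun i => ⟨?_, ?_⟩⟩
  · intro a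
    rw [he i, hb₀.quad a]
  · intro a a' haa'
    have h1 := hb₀.orth a a' haa'
    unfold QuadraticMap.polar at h1 ⊢
    have h3 : ((e i ⟨b₀ a, hb₀D a⟩ : D i) : Fin n → F) + ((e i ⟨b₀ a', hb₀D a'⟩ : D i) : Fin n → F) =
        ((e i (⟨b₀ a, hb₀D a⟩ + ⟨b₀ a', hb₀D a'⟩) : D i) : Fin n → F) := by
      rw [map_add]
      rfl
    rw [h3, he i, he i, he i]
    exact h1

/-- the refinement lemma, from a frame of one block -/
theorem refine_of_frame (hQ : IsNondegenerateQuadraticForm Q) (h2 : (2 : F) ≠ 0)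
    (D : Fin t → Submodule F (Fin n → F)) (hD : IsOrthogonalMDecomposition Q m D) (hε : ε ≠ 0) (i₀ : Fin t)
    (b₀ : Fin m → (Fin n → F)) (hb₀D : ∀ a, b₀ a ∈ D i₀) (hb₀ : ONFam Q ε b₀)
    (hmono : ∀ x : Fin m → F, (∑ a, x a ^ 2 = 1) → ∃ a, ∀ a', a' ≠ a → x a' = 0) :
    ∃ D' : Fin (t * m) → Submodule F (Fin n → F), IsOrthogonalMDecomposition Q 1 D' ∧
      decompositionStabilizer D ⊓ isometryGroup F Q ≤ decompositionStabilizer D' := by
  obtain ⟨b, hbD, hb⟩ := frames_of_one D hD i₀ b₀ hb₀D hb₀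
  exact refine_of_frames hQ h2 D hD hε b hbD hb hmono

end frames

end Cfsg.Agent.Helper5.AschOm
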