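import Mathlib
import Cfsg.Prelude.Def_GeometricClasses
import Cfsg.Agent.Helper5.AschOmRefB
import Cfsg.Agent.Helper5.AschGramForm
import Cfsg.Agent.Helper7.TensNMD

/-!
# ASCH-OM round 2: refining an orthogonal decomposition into 1-spaces, part C (orthogonal bases of a block)
-/

set_option autoImplicit false
set_option linter.style.haveILetI false
set_option linter.unusedSectionVars false
set_option linter.unusedVariables false

namespace Cfsg.Agent.Helper5.AschOm

open Cfsg Cfsg.Geo Cfsg.Agent.Lead.Asch Cfsg.Agent.Lead.AschO Cfsg.Agent.Helper2.TensorO3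
  Cfsg.Agent.Helper2.AschOm
open scoped MatrixGroups Matrix

variable {n : ℕ} {F : Type*} [Field F]

section orthbasis

variable {Q : (Fin n → F) → F}

/-- an orthogonal basis of anisotropic vectors of a non-degenerate subspace (characteristic not `2`) -/
theorem exists_orth_basis [Fintype F] (hQ : IsNondegenerateQuadraticForm Q) (h2 : (2 : F) ≠ 0) {m : ℕ}
    (W : Submodule F (Fin n → F)) (hWd : Module.finrank F W = m)
    (hW : IsNondegenerateOn (QuadraticMap.polar Q) W) :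
    ∃ w : Fin m → (Fin n → F), (∀ a, w a ∈ W) ∧ (∀ a, Q (w a) ≠ 0) ∧
      ∀ a a', a ≠ a' → QuadraticMap.polar Q (w a) (w a') = 0 := by
  classical
  obtain ⟨β, -⟩ : ∃ β, β = Module.finBasisOfFinrankEq F W hWd := ⟨_, rfl⟩
  obtain ⟨L, hL⟩ : ∃ L : (Fin m → F) →ₗ[F] (Fin n → F),
      L = W.subtype ∘ₗ (β.equivFun.symm : (Fin m → F) →ₗ[F] W) := ⟨_, rfl⟩
  have hLW : ∀ x, L x ∈ W := fun x => by rw [hL]; exact (β.equivFun.symm x).2
  have hLinj : ∀ x, L x = 0 → x = 0 := by
    intro x hx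
    rw [hL] at hx
    have h1 : (β.equivFun.symm x : W) = 0 := Subtype.ext hx
    exact (LinearEquiv.map_eq_zero_iff _).1 h1
  have hLsurj : ∀ w ∈ W, ∃ x, L x = w := by
    intro w hw
    refine ⟨β.equivFun ⟨w, hw⟩, ?_⟩
    rw [hL]
    simp
  obtain ⟨f', hf'def⟩ : ∃ f' : (Fin m → F) → (Fin m → F) → F,
      f' = fun x y => QuadraticMap.polar Q (L x) (L y) := ⟨_, rfl⟩
  have hf'a : ∀ x y, f' x y = QuadraticMap.polar Q (L x) (L y) := fun x y => by rw [hf'def]
  have hf' : IsBilinearForm f' := by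
    refine ⟨fun x y v => ?_, fun c x v => ?_, fun v x y => ?_, fun c v x => ?_⟩
    · rw [hf'a, hf'a, hf'a, map_add]
      exact hQ.polar_bilinear.add_left _ _ _
    · rw [hf'a, hf'a, map_smul]
      exact hQ.polar_bilinear.smul_left _ _ _
    · rw [hf'a, hf'a, hf'a, map_add]
      exact hQ.polar_bilinear.add_right _ _ _
    · rw [hf'a, hf'a, map_smul]
      exact hQ.polar_bilinear.smul_right _ _ _
  have hsymm : ∀ x y, f' x y = f' y x := fun x y => by
    rw [hf'a, hf'a]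
    exact QuadraticMap.polar_comm Q _ _
  have hnd : IsNondegenerateForm f' := by
    intro x hx
    have hLx : L x ≠ 0 := fun h => hx (hLinj x h)
    obtain ⟨⟨w₁, hw₁, h₁⟩, ⟨w₂, hw₂, h₂⟩⟩ := hW (L x) (hLW x) hLx
    obtain ⟨y₁, rfl⟩ := hLsurj w₁ hw₁
    obtain ⟨y₂, rfl⟩ := hLsurj w₂ hw₂
    exact ⟨⟨y₁, by rw [hf'a]; exact h₁⟩, ⟨y₂, by rw [hf'a]; exact h₂⟩⟩
  obtain ⟨U, U', d, hU, hU', hd, hdiag⟩ := Cfsg.Agent.Helper7.TensNM.exists_diag h2 (gramMatrix f')
    (Cfsg.Agent.Helper7.TensNM.gram_transpose hsymm) (Cfsg.Agent.Helper7.TensNM.gram_nondegenerate hf' hnd)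
  have hpol : ∀ a a', QuadraticMap.polar Q (L (U *ᵥ Pi.single a 1)) (L (U *ᵥ Pi.single a' 1)) =
      Matrix.diagonal d a a' := by
    intro a a'
    rw [← hf'a, Cfsg.Agent.Helper7.TensNM.form_eq_gram hf',
      Cfsg.Agent.Helper5.GramForm.formOfGram_mulVec (RingHom.id F)]
    have hm : U.map (RingHom.id F) = U := by
      ext i j
      rfl
    rw [hm, hdiag, Cfsg.Agent.Helper5.GramForm.formOfGram_single]
  refine ⟨fun a => L (U *ᵥ Pi.single a 1), fun a => hLW _, fun a => ?_, fun a a' haa' => ?_⟩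
  · intro h0
    have h1 := hpol a a
    rw [polar_self hQ, h0, mul_zero, Matrix.diagonal_apply_eq] at h1
    exact hd a h1.symm
  · rw [hpol, Matrix.diagonal_apply_ne _ haa']

end orthbasis

end Cfsg.Agent.Helper5.AschOm
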