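import Mathlib
import Cfsg.Prelude.Def_GeometricClasses
import Cfsg.Agent.Helper5.AschOmRefC

/-!
# ASCH-OM round 2: refining an orthogonal decomposition into 1-spaces, part D (the small fields)

`(q, m) = (3, 3)`, `(3, 2)` minus type, `(5, 2)` plus type.
-/

set_option autoImplicit false
set_option linter.style.haveILetI false
set_option linter.unusedSectionVars false
set_option linter.unusedVariables false

namespace Cfsg.Agent.Helper5.AschOm

open Cfsg Cfsg.Geo Cfsg.Agent.Lead.Asch Cfsg.Agent.Lead.AschO Cfsg.Agent.Helper2.TensorO3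
  Cfsg.Agent.Helper2.AschOm Cfsg.Agent.Helper7.TensNM
open scoped MatrixGroups Matrix

variable {n : ℕ} {F : Type*} [Field F] [Fintype F]

/-! ## sums of squares -/

theorem mono_three_two (hq : Fintype.card F = 3) (x : Fin 2 → F) (hx : ∑ a, x a ^ 2 = 1) :
    ∃ a, ∀ a', a' ≠ a → x a' = 0 := by
  rw [Fin.sum_univ_two] at hx
  by_cases h0 : x 0 = 0
  · refine ⟨1, fun a' ha' => ?_⟩
    fin_cases a'
    · exact h0
    · exact absurd rfl ha'
  · by_cases h1 : x 1 = 0
    · refine ⟨0, fun a' ha' => ?_⟩
      fin_cases a'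
      · exact absurd rfl ha'
      · exact h1
    · exfalso
      rw [sq_eq_one_of_ne hq h0, sq_eq_one_of_ne hq h1] at hx
      exact one_ne_zero (α := F) (by linear_combination hx)

theorem mono_three_three (hq : Fintype.card F = 3) (x : Fin 3 → F) (hx : ∑ a, x a ^ 2 = 1) :
    ∃ a, ∀ a', a' ≠ a → x a' = 0 := by
  rw [Fin.sum_univ_three] at hx
  have h3 : (3 : F) = 0 := Cfsg.Agent.Helper7.TensNM.three_eq_zero hq
  by_cases h0 : x 0 = 0 <;> by_cases h1 : x 1 = 0 <;> by_cases h2 : x 2 = 0
  · exfalso
    rw [h0, h1, h2] at hx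
    exact one_ne_zero (α := F) (by linear_combination -hx)
  · refine ⟨2, fun a' ha' => ?_⟩
    fin_cases a'
    · exact h0
    · exact h1
    · exact absurd rfl ha'
  · refine ⟨1, fun a' ha' => ?_⟩
    fin_cases a'
    · exact h0
    · exact absurd rfl ha'
    · exact h2
  · exfalso
    rw [h0, sq_eq_one_of_ne hq h1, sq_eq_one_of_ne hq h2] at hx
    exact one_ne_zero (α := F) (by linear_combination hx)
  · refine ⟨0, fun a' ha' => ?_⟩
    fin_cases a'
    · exact absurd rfl ha'
    · exact h1
    · exact h2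
  · exfalso
    rw [h1, sq_eq_one_of_ne hq h0, sq_eq_one_of_ne hq h2] at hx
    exact one_ne_zero (α := F) (by linear_combination hx)
  · exfalso
    rw [h2, sq_eq_one_of_ne hq h0, sq_eq_one_of_ne hq h1] at hx
    exact one_ne_zero (α := F) (by linear_combination hx)
  · exfalso
    rw [sq_eq_one_of_ne hq h0, sq_eq_one_of_ne hq h1, sq_eq_one_of_ne hq h2] at hx
    exact one_ne_zero (α := F) (by linear_combination h3 - hx)

theorem five_eq_zero (hq : Fintype.card F = 5) : (5 : F) = 0 := by
  have h := Nat.cast_card_eq_zero F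
  rw [hq] at h
  exact_mod_cast h

theorem sq_eq_of_five (hq : Fintype.card F = 5) {x : F} (hx : x ≠ 0) : x ^ 2 = 1 ∨ x ^ 2 = -1 := by
  have h := FiniteField.pow_card_sub_one_eq_one x hx
  rw [hq] at h
  have h1 : (x ^ 2 - 1) * (x ^ 2 + 1) = 0 := by
    have : x ^ (5 - 1) = x ^ 4 := by norm_num
    rw [this] at h
    linear_combination h
  rcases mul_eq_zero.1 h1 with h2 | h2
  · left
    linear_combination h2
  · right
    linear_combination h2

theorem mono_five_two (hq : Fintype.card F = 5) (x : Fin 2 → F) (hx : ∑ a, x a ^ 2 = 1) :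
    ∃ a, ∀ a', a' ≠ a → x a' = 0 := by
  rw [Fin.sum_univ_two] at hx
  have h5 : (5 : F) = 0 := five_eq_zero hq
  by_cases h0 : x 0 = 0
  · refine ⟨1, fun a' ha' => ?_⟩
    fin_cases a'
    · exact h0
    · exact absurd rfl ha'
  · by_cases h1 : x 1 = 0
    · refine ⟨0, fun a' ha' => ?_⟩
      fin_cases a'
      · exact absurd rfl ha'
      · exact h1
    · exfalso
      rcases sq_eq_of_five hq h0 with e0 | e0 <;> rcases sq_eq_of_five hq h1 with e1 | e1 <;>
        rw [e0, e1] at hx
      · exact one_ne_zero (α := F) (by linear_combination hx)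
      · exact one_ne_zero (α := F) (by linear_combination -hx)
      · exact one_ne_zero (α := F) (by linear_combination -hx)
      · exact one_ne_zero (α := F) (by linear_combination -2 * hx - h5)

/-! ## small tools -/

section tools

variable {Q : (Fin n → F) → F}

theorem qadd (Q : (Fin n → F) → F) (u v : Fin n → F) :
    Q (u + v) = Q u + Q v + QuadraticMap.polar Q u v := by
  unfold QuadraticMap.polar
  ring

theorem qsub (hQ : IsNondegenerateQuadraticForm Q) (u v : Fin n → F) :
    Q (u - v) = Q u + Q v - QuadraticMap.polar Q u v := by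
  have h1 : u - v = u + (-1 : F) • v := by rw [neg_one_smul, sub_eq_add_neg]
  rw [h1, qadd Q, hQ.smul, hQ.polar_bilinear.smul_right]
  ring

/-- a non-degenerate plane containing a non-zero singular vector is of plus type -/
theorem plus_of_singular (hQ : IsNondegenerateQuadraticForm Q) (W : Submodule F (Fin n → F))
    (hWd : Module.finrank F W = 2) (u : Fin n → F) (hu : u ∈ W) (hu0 : u ≠ 0) (hQu : Q u = 0) :
    IsPlusTypeOn Q W := by
  refine ⟨Submodule.span F {u}, ?_, ?_, ?_⟩
  · rw [Submodule.span_le]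
    intro x hx
    rw [Set.mem_singleton_iff] at hx
    rw [hx]
    exact hu
  · intro w hw
    obtain ⟨c, rfl⟩ := Submodule.mem_span_singleton.1 hw
    rw [hQ.smul, hQu, mul_zero]
  · rw [finrank_span_singleton hu0, hWd]

/-- an orthonormal family indexed by `Fin 2` -/
theorem onfam_two {ε : F} (u : Fin 2 → (Fin n → F)) (hq0 : Q (u 0) = ε) (hq1 : Q (u 1) = ε)
    (h01 : QuadraticMap.polar Q (u 0) (u 1) = 0) : ONFam Q ε u := by
  have h10 : QuadraticMap.polar Q (u 1) (u 0) = 0 := by rw [QuadraticMap.polar_comm]; exact h01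
  refine ⟨fun p => ?_, fun p p' hpp' => ?_⟩
  · fin_cases p
    · exact hq0
    · exact hq1
  · fin_cases p <;> fin_cases p'
    · exact absurd rfl hpp'
    · exact h01
    · exact h10
    · exact absurd rfl hpp'

/-- an orthonormal family indexed by `Fin 3` -/
theorem onfam_three {ε : F} (u : Fin 3 → (Fin n → F)) (hq0 : Q (u 0) = ε) (hq1 : Q (u 1) = ε)
    (hq2 : Q (u 2) = ε) (h01 : QuadraticMap.polar Q (u 0) (u 1) = 0)
    (h02 : QuadraticMap.polar Q (u 0) (u 2) = 0) (h12 : QuadraticMap.polar Q (u 1) (u 2) = 0) :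
    ONFam Q ε u := by
  have h10 : QuadraticMap.polar Q (u 1) (u 0) = 0 := by rw [QuadraticMap.polar_comm]; exact h01
  have h20 : QuadraticMap.polar Q (u 2) (u 0) = 0 := by rw [QuadraticMap.polar_comm]; exact h02
  have h21 : QuadraticMap.polar Q (u 2) (u 1) = 0 := by rw [QuadraticMap.polar_comm]; exact h12
  refine ⟨fun p => ?_, fun p p' hpp' => ?_⟩
  · fin_cases p
    · exact hq0
    · exact hq1
    · exact hq2
  · fin_cases p <;> fin_cases p'
    · exact absurd rfl hpp'
    · exact h01
    · exact h02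
    · exact h10
    · exact absurd rfl hpp'
    · exact h12
    · exact h20
    · exact h21
    · exact absurd rfl hpp'

end tools

end Cfsg.Agent.Helper5.AschOm
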