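import Mathlib
import Cfsg.Prelude.Def_GeometricClasses
import Cfsg.Agent.Helper5.AschOmRefD

/-!
# ASCH-OM round 2: refining an orthogonal decomposition into 1-spaces, part E (frames over the small fields)
-/

set_option autoImplicit false
set_option linter.style.haveILetI false
set_option linter.unusedSectionVars false
set_option linter.unusedVariables false

namespace Cfsg.Agent.Helper5.AschOm

open Cfsg Cfsg.Geo Cfsg.Agent.Lead.Asch Cfsg.Agent.Lead.AschO Cfsg.Agent.Helper2.TensorO3
  Cfsg.Agent.Helper2.AschOm Cfsg.Agent.Helper7.TensNM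
open scoped MatrixGroups Matrix

variable {n : ℕ} {F : Type*} [Field F] [Fintype F]

section frames3

variable {Q : (Fin n → F) → F}

theorem polar_sub_left (hQ : IsNondegenerateQuadraticForm Q) (u v w : Fin n → F) :
    QuadraticMap.polar Q (u - v) w = QuadraticMap.polar Q u w - QuadraticMap.polar Q v w := by
  have h1 : u - v = u + (-1 : F) • v := by rw [neg_one_smul, sub_eq_add_neg]
  rw [h1, hQ.polar_bilinear.add_left, hQ.polar_bilinear.smul_left]
  ring

theorem polar_sub_right (hQ : IsNondegenerateQuadraticForm Q) (u v w : Fin n → F) :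
    QuadraticMap.polar Q u (v - w) = QuadraticMap.polar Q u v - QuadraticMap.polar Q u w := by
  have h1 : v - w = v + (-1 : F) • w := by rw [neg_one_smul, sub_eq_add_neg]
  rw [h1, hQ.polar_bilinear.add_right, hQ.polar_bilinear.smul_right]
  ring

/-- two equal norms and an opposite one: change the pair -/
theorem fix_pair (hq : Fintype.card F = 3) (hQ : IsNondegenerateQuadraticForm Q) {δ : F} (u1 u2 u3 : Fin n → F)
    (h1 : Q u1 = δ) (h2 : Q u2 = δ) (h3 : Q u3 = -δ) (h12 : QuadraticMap.polar Q u1 u2 = 0)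
    (h13 : QuadraticMap.polar Q u1 u3 = 0) (h23 : QuadraticMap.polar Q u2 u3 = 0) :
    ONFam Q (-δ) ![u1 + u2, u1 - u2, u3] := by
  have h2' : (2 : F) = -1 := two_eq_neg_one hq
  have h21 : QuadraticMap.polar Q u2 u1 = 0 := by rw [QuadraticMap.polar_comm]; exact h12
  apply onfam_three
  · show Q (u1 + u2) = -δ
    rw [qadd Q, h1, h2, h12]
    linear_combination δ * h2'
  · show Q (u1 - u2) = -δ
    rw [qsub hQ, h1, h2, h12]
    linear_combination δ * h2'
  · exact h3
  · show QuadraticMap.polar Q (u1 + u2) (u1 - u2) = 0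
    rw [polar_sub_right hQ, hQ.polar_bilinear.add_left, hQ.polar_bilinear.add_left, polar_self hQ, polar_self hQ,
      h1, h2, h12, h21]
    ring
  · show QuadraticMap.polar Q (u1 + u2) u3 = 0
    rw [hQ.polar_bilinear.add_left, h13, h23, add_zero]
  · show QuadraticMap.polar Q (u1 - u2) u3 = 0
    rw [polar_sub_left hQ, h13, h23, sub_zero]

/-- a non-degenerate `3`-space over the field with three elements has an `ε`-orthonormal frame -/
theorem exists_frame_three_three (hq : Fintype.card F = 3) (hQ : IsNondegenerateQuadraticForm Q)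
    (W : Submodule F (Fin n → F)) (hWd : Module.finrank F W = 3)
    (hW : IsNondegenerateOn (QuadraticMap.polar Q) W) :
    ∃ (ε : F) (b : Fin 3 → (Fin n → F)), ε ≠ 0 ∧ (∀ a, b a ∈ W) ∧ ONFam Q ε b := by
  have h2 : (2 : F) ≠ 0 := by
    rw [two_eq_neg_one hq]
    exact neg_ne_zero.mpr one_ne_zero
  obtain ⟨w, hwW, hwQ, hworth⟩ := exists_orth_basis hQ h2 W hWd hW
  have h01 := hworth 0 1 (by decide)
  have h02 := hworth 0 2 (by decide)
  have h12 := hworth 1 2 (by decide)
  have h10 := hworth 1 0 (by decide)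
  have h20 := hworth 2 0 (by decide)
  have h21 := hworth 2 1 (by decide)
  rcases eq_or_eq_neg hq (hwQ 0) (hwQ 1) with e1 | e1
  · rcases eq_or_eq_neg hq (hwQ 0) (hwQ 2) with e2 | e2
    · exact ⟨Q (w 0), w, hwQ 0, hwW, onfam_three w rfl e1 e2 h01 h02 h12⟩
    · refine ⟨-Q (w 0), ![w 0 + w 1, w 0 - w 1, w 2], neg_ne_zero.mpr (hwQ 0), ?_,
        fix_pair hq hQ (w 0) (w 1) (w 2) rfl e1 e2 h01 h02 h12⟩
      intro a
      fin_cases a
      · exact W.add_mem (hwW 0) (hwW 1)
      · exact W.sub_mem (hwW 0) (hwW 1)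
      · exact hwW 2
  · rcases eq_or_eq_neg hq (hwQ 0) (hwQ 2) with e2 | e2
    · refine ⟨-Q (w 0), ![w 0 + w 2, w 0 - w 2, w 1], neg_ne_zero.mpr (hwQ 0), ?_,
        fix_pair hq hQ (w 0) (w 2) (w 1) rfl e2 e1 h02 h01 h21⟩
      intro a
      fin_cases a
      · exact W.add_mem (hwW 0) (hwW 2)
      · exact W.sub_mem (hwW 0) (hwW 2)
      · exact hwW 1
    · refine ⟨-Q (w 1), ![w 1 + w 2, w 1 - w 2, w 0], neg_ne_zero.mpr (hwQ 1), ?_,
        fix_pair hq hQ (w 1) (w 2) (w 0) rfl (by rw [e2, e1]) (by rw [e1, neg_neg]) h12 h10 h20⟩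
      intro a
      fin_cases a
      · exact W.add_mem (hwW 1) (hwW 2)
      · exact W.sub_mem (hwW 1) (hwW 2)
      · exact hwW 0

/-- an anisotropic plane over the field with three elements has an `ε`-orthonormal frame -/
theorem exists_frame_three_two (hq : Fintype.card F = 3) (hQ : IsNondegenerateQuadraticForm Q)
    (W : Submodule F (Fin n → F)) (hWd : Module.finrank F W = 2)
    (hW : IsNondegenerateOn (QuadraticMap.polar Q) W) (hminus : ¬ IsPlusTypeOn Q W) :
    ∃ (ε : F) (b : Fin 2 → (Fin n → F)), ε ≠ 0 ∧ (∀ a, b a ∈ W) ∧ ONFam Q ε b := by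
  have h2 : (2 : F) ≠ 0 := by
    rw [two_eq_neg_one hq]
    exact neg_ne_zero.mpr one_ne_zero
  obtain ⟨w, hwW, hwQ, hworth⟩ := exists_orth_basis hQ h2 W hWd hW
  have h01 := hworth 0 1 (by decide)
  rcases eq_or_eq_neg hq (hwQ 0) (hwQ 1) with e1 | e1
  · exact ⟨Q (w 0), w, hwQ 0, hwW, onfam_two w rfl e1 h01⟩
  · exfalso
    apply hminus
    refine plus_of_singular hQ W hWd (w 0 + w 1) (W.add_mem (hwW 0) (hwW 1)) ?_ ?_
    · intro h0
      have h3 : QuadraticMap.polar Q (w 0 + w 1) (w 0) = 2 * Q (w 0) := by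
        rw [hQ.polar_bilinear.add_left, polar_self hQ, hworth 1 0 (by decide), add_zero]
      rw [h0, bilin_zero_left hQ.polar_bilinear] at h3
      exact mul_ne_zero h2 (hwQ 0) h3.symm
    · rw [qadd Q, e1, h01]
      ring

/-- a hyperbolic plane over the field with five elements has a `1`-orthonormal frame -/
theorem exists_frame_five_two (hq : Fintype.card F = 5) (hQ : IsNondegenerateQuadraticForm Q)
    (W : Submodule F (Fin n → F)) (hWd : Module.finrank F W = 2)
    (hW : IsNondegenerateOn (QuadraticMap.polar Q) W) (hplus : IsPlusTypeOn Q W) :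
    ∃ (ε : F) (b : Fin 2 → (Fin n → F)), ε ≠ 0 ∧ (∀ a, b a ∈ W) ∧ ONFam Q ε b := by
  have h5 : (5 : F) = 0 := five_eq_zero hq
  obtain ⟨U, hUW, hUs, hUd⟩ := hplus
  have hU1 : 0 < Module.finrank F U := by omega
  obtain ⟨⟨u, huU⟩, hu0⟩ := Module.finrank_pos_iff_exists_ne_zero.1 hU1
  have hu0' : u ≠ 0 := fun h => hu0 (Subtype.ext h)
  have huW : u ∈ W := hUW huU
  have hQu : Q u = 0 := hUs u huU
  obtain ⟨-, ⟨x, hxW, hx⟩⟩ := hW u huW hu0'
  obtain ⟨p, hp⟩ : ∃ p, p = QuadraticMap.polar Q u x := ⟨_, rfl⟩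
  rw [← hp] at hx
  have huu : QuadraticMap.polar Q u u = 0 := by rw [polar_self hQ, hQu, mul_zero]
  -- `x' = p⁻¹ x`, `y = x' - Q x' • u`
  obtain ⟨x', hx'⟩ : ∃ x', x' = p⁻¹ • x := ⟨_, rfl⟩
  have hx'W : x' ∈ W := by rw [hx']; exact W.smul_mem _ hxW
  have hux' : QuadraticMap.polar Q u x' = 1 := by
    rw [hx', hQ.polar_bilinear.smul_right, ← hp, inv_mul_cancel₀ hx]
  obtain ⟨y, hy⟩ : ∃ y, y = x' - Q x' • u := ⟨_, rfl⟩
  have hyW : y ∈ W := by rw [hy]; exact W.sub_mem hx'W (W.smul_mem _ huW)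
  have hx'u : QuadraticMap.polar Q x' u = 1 := by rw [QuadraticMap.polar_comm]; exact hux'
  have hQy : Q y = 0 := by
    rw [hy, qsub hQ, hQ.smul, hQu, hQ.polar_bilinear.smul_right, hx'u]
    ring
  have huy : QuadraticMap.polar Q u y = 1 := by
    rw [hy, polar_sub_right hQ, hQ.polar_bilinear.smul_right, huu, hux']
    ring
  have hyu : QuadraticMap.polar Q y u = 1 := by rw [QuadraticMap.polar_comm]; exact huy
  have hyy : QuadraticMap.polar Q y y = 0 := by rw [polar_self hQ, hQy, mul_zero]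
  refine ⟨1, ![u + y, (3 : F) • (u - y)], one_ne_zero, ?_, ?_⟩
  · intro a
    fin_cases a
    · exact W.add_mem huW hyW
    · exact W.smul_mem _ (W.sub_mem huW hyW)
  · apply onfam_two
    · show Q (u + y) = 1
      rw [qadd Q, hQu, hQy, huy]
      ring
    · show Q ((3 : F) • (u - y)) = 1
      rw [hQ.smul, qsub hQ, hQu, hQy, huy]
      linear_combination (-2 : F) * h5
    · show QuadraticMap.polar Q (u + y) ((3 : F) • (u - y)) = 0
      rw [hQ.polar_bilinear.smul_right, polar_sub_right hQ, hQ.polar_bilinear.add_left,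
        hQ.polar_bilinear.add_left, huu, hyu, huy, hyy]
      ring

end frames3

/-! ## the three refinement theorems -/

section final

variable {Q : (Fin n → F) → F} {t : ℕ}

/-- `q = 3`: a decomposition into non-degenerate `3`-spaces refines to a decomposition into `1`-spaces -/
theorem refine_three_blocks_three (hq : Fintype.card F = 3) (hQ : IsNondegenerateQuadraticForm Q)
    (D : Fin t → Submodule F (Fin n → F)) (hD : IsOrthogonalMDecomposition Q 3 D) :
    ∃ D' : Fin (t * 3) → Submodule F (Fin n → F), IsOrthogonalMDecomposition Q 1 D' ∧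
      decompositionStabilizer D ⊓ isometryGroup F Q ≤ decompositionStabilizer D' := by
  have h2 : (2 : F) ≠ 0 := by
    rw [two_eq_neg_one hq]
    exact neg_ne_zero.mpr one_ne_zero
  have ht : 0 < t := lt_of_lt_of_le (by norm_num) hD.decomp.decomp.two_le
  obtain ⟨ε, b₀, hε, hb₀D, hb₀⟩ := exists_frame_three_three hq hQ (D ⟨0, ht⟩)
    (hD.decomp.decomp.finrank_eq _) (hD.decomp.nondegenerate _)
  exact refine_of_frame hQ h2 D hD hε ⟨0, ht⟩ b₀ hb₀D hb₀ (mono_three_three hq)

/-- `q = 3`: a decomposition into anisotropic planes refines to a decomposition into `1`-spaces -/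
theorem refine_minus_planes_three (hq : Fintype.card F = 3) (hQ : IsNondegenerateQuadraticForm Q)
    (D : Fin t → Submodule F (Fin n → F)) (hD : IsOrthogonalMDecomposition Q 2 D) (i₀ : Fin t)
    (hminus : ¬ IsPlusTypeOn Q (D i₀)) :
    ∃ D' : Fin (t * 2) → Submodule F (Fin n → F), IsOrthogonalMDecomposition Q 1 D' ∧
      decompositionStabilizer D ⊓ isometryGroup F Q ≤ decompositionStabilizer D' := by
  have h2 : (2 : F) ≠ 0 := by
    rw [two_eq_neg_one hq]
    exact neg_ne_zero.mpr one_ne_zero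
  obtain ⟨ε, b₀, hε, hb₀D, hb₀⟩ := exists_frame_three_two hq hQ (D i₀)
    (hD.decomp.decomp.finrank_eq _) (hD.decomp.nondegenerate _) hminus
  exact refine_of_frame hQ h2 D hD hε i₀ b₀ hb₀D hb₀ (mono_three_two hq)

/-- `q = 5`: a decomposition into hyperbolic planes refines to a decomposition into `1`-spaces -/
theorem refine_plus_planes_five (hq : Fintype.card F = 5) (hQ : IsNondegenerateQuadraticForm Q)
    (D : Fin t → Submodule F (Fin n → F)) (hD : IsOrthogonalMDecomposition Q 2 D) (i₀ : Fin t)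
    (hplus : IsPlusTypeOn Q (D i₀)) :
    ∃ D' : Fin (t * 2) → Submodule F (Fin n → F), IsOrthogonalMDecomposition Q 1 D' ∧
      decompositionStabilizer D ⊓ isometryGroup F Q ≤ decompositionStabilizer D' := by
  have h5 : (5 : F) = 0 := five_eq_zero hq
  have h2 : (2 : F) ≠ 0 := by
    intro h
    exact one_ne_zero (α := F) (by linear_combination h5 - 2 * h)
  obtain ⟨ε, b₀, hε, hb₀D, hb₀⟩ := exists_frame_five_two hq hQ (D i₀)
    (hD.decomp.decomp.finrank_eq _) (hD.decomp.nondegenerate _) hplus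
  exact refine_of_frame hQ h2 D hD hε i₀ b₀ hb₀D hb₀ (mono_five_two hq)

end final

end Cfsg.Agent.Helper5.AschOm

namespace Cfsg.Agent.Helper5.AschO9

open Cfsg Cfsg.Geo
open scoped MatrixGroups Matrix

variable {F : Type*} [Field F]

/-- **P3** of ASCH-Ω9 (exact stub of `notes/helper2_aschO9_stubs.lean.txt`) -/
theorem decompThree_piece [Fintype F] (hq : Fintype.card F = 3) {n : ℕ} (Q : (Fin n → F) → F)
    (hQ : IsNondegenerateQuadraticForm Q) (D : Fin 3 → Submodule F (Fin n → F))
    (hD : IsOrthogonalMDecomposition Q 3 D) :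
    ∃ D' : Fin 9 → Submodule F (Fin n → F), IsOrthogonalMDecomposition Q 1 D' ∧
      decompositionStabilizer D ⊓ isometryGroup F Q ≤ decompositionStabilizer D' :=
  Cfsg.Agent.Helper5.AschOm.refine_three_blocks_three hq hQ D hD

end Cfsg.Agent.Helper5.AschO9
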