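import Mathlib
import Cfsg.Prelude.Def_GeometricClasses
import Cfsg.Agent.Helper5.AschOmRefE

/-!
# ASCH-OM round 2 (Ω_12^+), piece C2 `c2_plus_planes_small`, part A: hyperbolic pairs of the blocks
-/

set_option autoImplicit false
set_option linter.style.haveILetI false
set_option linter.unusedSectionVars false
set_option linter.unusedVariables false

namespace Cfsg.Agent.Helper5.AschOm

open Cfsg Cfsg.Geo Cfsg.Agent.Lead.Asch Cfsg.Agent.Lead.AschO Cfsg.Agent.Helper2.TensorO3
  Cfsg.Agent.Helper2.AschOm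
open scoped MatrixGroups Matrix

variable {n : ℕ} {F : Type*} [Field F] [Fintype F]

section hyp

variable {Q : (Fin n → F) → F} {t : ℕ}

/-- a hyperbolic pair of a non-degenerate plane of plus type -/
theorem exists_hyp_pair (hQ : IsNondegenerateQuadraticForm Q) (W : Submodule F (Fin n → F))
    (hWd : Module.finrank F W = 2) (hW : IsNondegenerateOn (QuadraticMap.polar Q) W)
    (hplus : IsPlusTypeOn Q W) :
    ∃ u y : Fin n → F, u ∈ W ∧ y ∈ W ∧ Q u = 0 ∧ Q y = 0 ∧ QuadraticMap.polar Q u y = 1 := by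
  obtain ⟨U, hUW, hUs, hUd⟩ := hplus
  have hU1 : 0 < Module.finrank F U := by omega
  obtain ⟨⟨u, huU⟩, hu0⟩ := Module.finrank_pos_iff_exists_ne_zero.1 hU1
  have hu0' : u ≠ 0 := fun h => hu0 (Subtype.ext h)
  have huW : u ∈ W := hUW huU
  have hQu : Q u = 0 := hUs u huU
  obtain ⟨-, ⟨x, hxW, hx⟩⟩ := hW u huW hu0'
  obtain ⟨p, hp⟩ : ∃ p, p = QuadraticMap.polar Q u x := ⟨_, rfl⟩
  rw [← hp] at hx
  have huu : QuadraticMap.polar Q u u = 0 := by rw [polar_self hQ, hQu, mul_zero]
  obtain ⟨x', hx'⟩ : ∃ x', x' = p⁻¹ • x := ⟨_, rfl⟩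
  have hx'W : x' ∈ W := by rw [hx']; exact W.smul_mem _ hxW
  have hux' : QuadraticMap.polar Q u x' = 1 := by
    rw [hx', hQ.polar_bilinear.smul_right, ← hp, inv_mul_cancel₀ hx]
  obtain ⟨y, hy⟩ : ∃ y, y = x' - Q x' • u := ⟨_, rfl⟩
  have hyW : y ∈ W := by rw [hy]; exact W.sub_mem hx'W (W.smul_mem _ huW)
  have hx'u : QuadraticMap.polar Q x' u = 1 := by rw [QuadraticMap.polar_comm]; exact hux'
  have hQy : Q y = 0 := by
    rw [hy, qsub hQ, hQ.smul, hQu, hQ.polar_bilinear.smul_right, hx'u]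
    ring
  have huy : QuadraticMap.polar Q u y = 1 := by
    rw [hy, polar_sub_right hQ, hQ.polar_bilinear.smul_right, huu, hux']
    ring
  exact ⟨u, y, huW, hyW, hQu, hQy, huy⟩

/-- hyperbolic pairs of the blocks of a decomposition -/
structure HypFam (Q : (Fin n → F) → F) (D : Fin t → Submodule F (Fin n → F)) (e f : Fin t → (Fin n → F)) :
    Prop where
  e_mem : ∀ i, e i ∈ D i
  f_mem : ∀ i, f i ∈ D i
  qe : ∀ i, Q (e i) = 0
  qf : ∀ i, Q (f i) = 0
  pol : ∀ i, QuadraticMap.polar Q (e i) (f i) = 1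

/-- isometries between the blocks transport a hyperbolic pair of one block to all blocks -/
theorem exists_hypFam (hQ : IsNondegenerateQuadraticForm Q) (D : Fin t → Submodule F (Fin n → F))
    (hD : IsOrthogonalMDecomposition Q 2 D) (i₀ : Fin t) (hplus : IsPlusTypeOn Q (D i₀)) :
    ∃ e f : Fin t → (Fin n → F), HypFam Q D e f := by
  classical
  obtain ⟨u, y, huW, hyW, hQu, hQy, huy⟩ := exists_hyp_pair hQ (D i₀) (hD.decomp.decomp.finrank_eq i₀)
    (hD.decomp.nondegenerate i₀) hplus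
  have hiso := fun i => hD.isometric i₀ i
  choose φ hφ using hiso
  refine ⟨fun i => ((φ i ⟨u, huW⟩ : D i) : Fin n → F), fun i => ((φ i ⟨y, hyW⟩ : D i) : Fin n → F),
    fun i => (φ i ⟨u, huW⟩).2, fun i => (φ i ⟨y, hyW⟩).2, fun i => ?_, fun i => ?_, fun i => ?_⟩
  · rw [hφ i]
    exact hQu
  · rw [hφ i]
    exact hQy
  · unfold QuadraticMap.polar at huy ⊢
    have h3 : ((φ i ⟨u, huW⟩ : D i) : Fin n → F) + ((φ i ⟨y, hyW⟩ : D i) : Fin n → F) =
        ((φ i (⟨u, huW⟩ + ⟨y, hyW⟩) : D i) : Fin n → F) := by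
      rw [map_add]
      rfl
    rw [h3, hφ i, hφ i, hφ i]
    exact huy

variable {D : Fin t → Submodule F (Fin n → F)} {e f : Fin t → (Fin n → F)}

theorem HypFam.pol' (h : HypFam Q D e f) (i : Fin t) : QuadraticMap.polar Q (f i) (e i) = 1 := by
  rw [QuadraticMap.polar_comm]
  exact h.pol i

theorem HypFam.pee (hQ : IsNondegenerateQuadraticForm Q) (h : HypFam Q D e f) (i : Fin t) :
    QuadraticMap.polar Q (e i) (e i) = 0 := by rw [polar_self hQ, h.qe, mul_zero]

theorem HypFam.pff (hQ : IsNondegenerateQuadraticForm Q) (h : HypFam Q D e f) (i : Fin t) :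
    QuadraticMap.polar Q (f i) (f i) = 0 := by rw [polar_self hQ, h.qf, mul_zero]

/-- the quadratic form in hyperbolic coordinates -/
theorem HypFam.quad (hQ : IsNondegenerateQuadraticForm Q) (h : HypFam Q D e f) (i : Fin t) (x y : F) :
    Q (x • e i + y • f i) = x * y := by
  rw [qadd Q, hQ.smul, hQ.smul, h.qe, h.qf, hQ.polar_bilinear.smul_left, hQ.polar_bilinear.smul_right, h.pol]
  ring

/-- hyperbolic coordinates of a block -/
theorem HypFam.coords (hQ : IsNondegenerateQuadraticForm Q) (hD : IsOrthogonalMDecomposition Q 2 D)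
    (h : HypFam Q D e f) (i : Fin t) (v : Fin n → F) (hv : v ∈ D i) : ∃ x y : F, v = x • e i + y • f i := by
  have hli : LinearIndependent F ![e i, f i] := by
    rw [LinearIndependent.pair_iff]
    intro s r hsr
    have h1 : QuadraticMap.polar Q (s • e i + r • f i) (f i) = s := by
      rw [hQ.polar_bilinear.add_left, hQ.polar_bilinear.smul_left, hQ.polar_bilinear.smul_left, h.pol,
        h.pff hQ]
      ring
    have h2 : QuadraticMap.polar Q (s • e i + r • f i) (e i) = r := by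
      rw [hQ.polar_bilinear.add_left, hQ.polar_bilinear.smul_left, hQ.polar_bilinear.smul_left, h.pol',
        h.pee hQ]
      ring
    rw [hsr, bilin_zero_left hQ.polar_bilinear] at h1 h2
    exact ⟨h1.symm, h2.symm⟩
  have hspan : Submodule.span F (Set.range ![e i, f i]) = D i := by
    apply Submodule.eq_of_le_of_finrank_eq
    · rw [Submodule.span_le]
      rintro _ ⟨a, rfl⟩
      fin_cases a
      · exact h.e_mem i
      · exact h.f_mem i
    · rw [finrank_span_eq_card hli, Fintype.card_fin, hD.decomp.decomp.finrank_eq]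
  rw [← hspan, Submodule.mem_span_range_iff_exists_fun] at hv
  obtain ⟨c, hc⟩ := hv
  rw [Fin.sum_univ_two] at hc
  exact ⟨c 0, c 1, hc.symm⟩

/-- vectors of different blocks are orthogonal -/
theorem HypFam.orth_blocks (hD : IsOrthogonalMDecomposition Q 2 D) {i j : Fin t} (hij : i ≠ j)
    {u w : Fin n → F} (hu : u ∈ D i) (hw : w ∈ D j) : QuadraticMap.polar Q u w = 0 :=
  hD.decomp.orthogonal i j hij u hu w hw

end hyp

section stab

variable {Q : (Fin n → F) → F} {t : ℕ}

/-- a subgroup mapping a subspace into itself stabilises it -/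
theorem le_subspaceStabilizer_of_forall {H : Subgroup (GL (Fin n) F)} {W : Submodule F (Fin n → F)}
    (h : ∀ g ∈ H, ∀ v ∈ W, (g : Matrix (Fin n) (Fin n) F) *ᵥ v ∈ W) : H ≤ subspaceStabilizer W := by
  intro g hg
  rw [mem_subspaceStabilizer_iff]
  intro v
  refine ⟨h g hg v, fun hv => ?_⟩
  have h2 := h g⁻¹ (H.inv_mem hg) _ hv
  rw [Matrix.mulVec_mulVec, ← Units.val_mul, inv_mul_cancel, Units.val_one, Matrix.one_mulVec] at h2
  exact h2

/-- an element of the stabiliser of a decomposition maps each block into a block -/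
theorem maps_block {D : Fin t → Submodule F (Fin n → F)} {g : GL (Fin n) F}
    (hg : g ∈ decompositionStabilizer D) :
    ∃ σ : Equiv.Perm (Fin t), ∀ i, ∀ v ∈ D i, (g : Matrix (Fin n) (Fin n) F) *ᵥ v ∈ D (σ i) := by
  obtain ⟨σ, hσ⟩ := hg
  refine ⟨σ, fun i v hv => ?_⟩
  rw [← hσ i]
  exact ⟨v, hv, by rw [Matrix.toLin'_apply]⟩

end stab

end Cfsg.Agent.Helper5.AschOm
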