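import Mathlib
import Cfsg.Prelude.Def_GeometricClasses
import Cfsg.Agent.Helper5.AschOm3C2A

/-!
# ASCH-OM round 2 (Ω_12^+), piece C2 `c2_plus_planes_small`, part B: `q = 2` and `q = 3`
-/

set_option autoImplicit false
set_option linter.style.haveILetI false
set_option linter.unusedSectionVars false
set_option linter.unusedVariables false

namespace Cfsg.Agent.Helper5.AschOm

open Cfsg Cfsg.Geo Cfsg.Agent.Lead.Asch Cfsg.Agent.Lead.AschO Cfsg.Agent.Helper2.TensorO3
  Cfsg.Agent.Helper2.AschOm Cfsg.Agent.Helper7.TensNM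
open scoped MatrixGroups Matrix

variable {n : ℕ} {F : Type*} [Field F] [Fintype F]

variable {Q : (Fin n → F) → F} {t : ℕ} {D : Fin t → Submodule F (Fin n → F)} {e f : Fin t → (Fin n → F)}

/-! ## `q = 2` -/

theorem eq_zero_or_one_of_two (hq : Fintype.card F = 2) (x : F) : x = 0 ∨ x = 1 := by
  have h := FiniteField.pow_card x
  rw [hq] at h
  have h1 : x * (x - 1) = 0 := by linear_combination h
  rcases mul_eq_zero.1 h1 with h2 | h2
  · exact Or.inl h2
  · exact Or.inr (sub_eq_zero.1 h2)

/-- `q = 2`: the sum of the non-singular vectors of the blocks is fixed -/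
theorem c2_plus_two (hq : Fintype.card F = 2) (hQ : IsNondegenerateQuadraticForm Q)
    (hD : IsOrthogonalMDecomposition Q 2 D) (hef : HypFam Q D e f) {H : Subgroup (GL (Fin n) F)}
    (hHI : H ≤ isometryGroup F Q) (hle : H ≤ decompositionStabilizer D) :
    ∃ v : Fin n → F, v ≠ 0 ∧ H ≤ subspaceStabilizer (Submodule.span F {v}) := by
  classical
  have ht : 0 < t := lt_of_lt_of_le (by norm_num) hD.decomp.decomp.two_le
  -- the non-singular vector of a block
  have huniq : ∀ i, ∀ v ∈ D i, Q v = 1 → v = e i + f i := by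
    intro i v hv hQv
    obtain ⟨x, y, rfl⟩ := hef.coords hQ hD i v hv
    rw [hef.quad hQ] at hQv
    have hx : x = 1 := by
      rcases eq_zero_or_one_of_two hq x with h | h
      · rw [h, zero_mul] at hQv
        exact absurd hQv zero_ne_one
      · exact h
    have hy : y = 1 := by
      rw [hx, one_mul] at hQv
      exact hQv
    rw [hx, hy, one_smul, one_smul]
  have hQn : ∀ i, Q (e i + f i) = 1 := by
    intro i
    have := hef.quad hQ i 1 1
    rw [one_smul, one_smul, mul_one] at this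
    exact this
  refine ⟨∑ i, (e i + f i), ?_, ?_⟩
  · intro h0
    have h1 : QuadraticMap.polar Q (∑ i, (e i + f i)) (f ⟨0, ht⟩) = 1 := by
      rw [bilin_sum_left hQ.polar_bilinear, Finset.sum_eq_single ⟨0, ht⟩]
      · rw [hQ.polar_bilinear.add_left, hef.pol, hef.pff hQ, add_zero]
      · intro j _ hj
        exact HypFam.orth_blocks hD hj ((D j).add_mem (hef.e_mem j) (hef.f_mem j)) (hef.f_mem _)
      · intro h
        exact absurd (Finset.mem_univ _) h
    rw [h0, bilin_zero_left hQ.polar_bilinear] at h1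
    exact zero_ne_one h1
  · apply le_subspaceStabilizer_of_forall
    intro g hg v hv
    obtain ⟨c, rfl⟩ := Submodule.mem_span_singleton.1 hv
    obtain ⟨σ, hσ⟩ := maps_block (hle hg)
    have hgn : ∀ i, (g : Matrix (Fin n) (Fin n) F) *ᵥ (e i + f i) = e (σ i) + f (σ i) := by
      intro i
      apply huniq (σ i) _ (hσ i _ ((D i).add_mem (hef.e_mem i) (hef.f_mem i)))
      rw [mem_isometryGroup_iff.1 (hHI hg), hQn]
    have hgv : (g : Matrix (Fin n) (Fin n) F) *ᵥ (∑ i, (e i + f i)) = ∑ i, (e i + f i) := by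
      rw [Matrix.mulVec_sum]
      simp only [hgn]
      exact Equiv.sum_comp σ (fun i => e i + f i)
    rw [Matrix.mulVec_smul, hgv]
    exact Submodule.smul_mem _ _ (Submodule.mem_span_singleton_self _)

/-! ## `q = 3` -/

/-- the span of an orthonormal family is non-degenerate -/
theorem nondeg_span_onfam {κ : Type} [Fintype κ] [DecidableEq κ] {ε : F} {v : κ → (Fin n → F)}
    (hQ : IsNondegenerateQuadraticForm Q) (h2 : (2 : F) ≠ 0) (hε : ε ≠ 0) (hv : ONFam Q ε v) :
    IsNondegenerateOn (QuadraticMap.polar Q) (Submodule.span F (Set.range v)) := by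
  intro w hw hw0
  rw [Submodule.mem_span_range_iff_exists_fun] at hw
  obtain ⟨x, rfl⟩ := hw
  have hex : ∃ p, x p ≠ 0 := by
    by_contra hcon
    push Not at hcon
    apply hw0
    apply Finset.sum_eq_zero
    intro p _
    rw [hcon p, zero_smul]
  obtain ⟨p, hp⟩ := hex
  have h1 := hv.polar_sum hQ x p
  have hne : x p * (2 * ε) ≠ 0 := mul_ne_zero hp (mul_ne_zero h2 hε)
  refine ⟨⟨v p, Submodule.subset_span ⟨p, rfl⟩, ?_⟩, ⟨v p, Submodule.subset_span ⟨p, rfl⟩, ?_⟩⟩
  · rw [QuadraticMap.polar_comm, h1]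
    exact hne
  · rw [h1]
    exact hne

/-- `q = 3`: the spans of the vectors of norm `1` and of norm `-1` of the blocks -/
theorem c2_plus_three (hq : Fintype.card F = 3) (hQ : IsNondegenerateQuadraticForm Q)
    (hD : IsOrthogonalMDecomposition Q 2 D) (hef : HypFam Q D e f) {H : Subgroup (GL (Fin n) F)}
    (hHI : H ≤ isometryGroup F Q) (hle : H ≤ decompositionStabilizer D) :
    ∃ W W' : Submodule F (Fin n → F), IsNondegenerateOn (QuadraticMap.polar Q) W ∧
      IsNondegenerateOn (QuadraticMap.polar Q) W' ∧ AreOrthogonalFor (QuadraticMap.polar Q) W W' ∧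
      W ⊓ W' = ⊥ ∧ W ⊔ W' = ⊤ ∧ Module.finrank F W = t ∧ Module.finrank F W' = t ∧
      H ≤ subspaceStabilizer W ∧ H ≤ subspaceStabilizer W' := by
  classical
  have h2 : (2 : F) ≠ 0 := by
    rw [two_eq_neg_one hq]
    exact neg_ne_zero.mpr one_ne_zero
  have hm1 : (-1 : F) ≠ 0 := neg_ne_zero.mpr one_ne_zero
  -- the two families
  have hQp : ∀ i, Q (e i + f i) = 1 := by
    intro i
    have := hef.quad hQ i 1 1
    rw [one_smul, one_smul, mul_one] at this
    exact this
  have hQm : ∀ i, Q (e i - f i) = -1 := by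
    intro i
    rw [qsub hQ, hef.qe, hef.qf, hef.pol]
    ring
  have hpD : ∀ i, e i + f i ∈ D i := fun i => (D i).add_mem (hef.e_mem i) (hef.f_mem i)
  have hmD : ∀ i, e i - f i ∈ D i := fun i => (D i).sub_mem (hef.e_mem i) (hef.f_mem i)
  have hp : ONFam Q 1 (fun i => e i + f i) :=
    ⟨hQp, fun i j hij => HypFam.orth_blocks hD hij (hpD i) (hpD j)⟩
  have hm : ONFam Q (-1) (fun i => e i - f i) :=
    ⟨hQm, fun i j hij => HypFam.orth_blocks hD hij (hmD i) (hmD j)⟩
  have hpm : ∀ i j, QuadraticMap.polar Q (e i + f i) (e j - f j) = 0 := by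
    intro i j
    by_cases hij : i = j
    · subst hij
      rw [polar_sub_right hQ, hQ.polar_bilinear.add_left, hQ.polar_bilinear.add_left, hef.pee hQ, hef.pff hQ,
        hef.pol, hef.pol']
      ring
    · exact HypFam.orth_blocks hD hij (hpD i) (hmD j)
  obtain ⟨W, hWdef⟩ : ∃ W, W = Submodule.span F (Set.range fun i => e i + f i) := ⟨_, rfl⟩
  obtain ⟨W', hW'def⟩ : ∃ W', W' = Submodule.span F (Set.range fun i => e i - f i) := ⟨_, rfl⟩
  have hWnd : IsNondegenerateOn (QuadraticMap.polar Q) W := by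
    rw [hWdef]
    exact nondeg_span_onfam hQ h2 one_ne_zero hp
  have hW'nd : IsNondegenerateOn (QuadraticMap.polar Q) W' := by
    rw [hW'def]
    exact nondeg_span_onfam hQ h2 hm1 hm
  have horth : AreOrthogonalFor (QuadraticMap.polar Q) W W' := by
    intro u hu w hw
    rw [hWdef, Submodule.mem_span_range_iff_exists_fun] at hu
    rw [hW'def, Submodule.mem_span_range_iff_exists_fun] at hw
    obtain ⟨x, rfl⟩ := hu
    obtain ⟨y, rfl⟩ := hw
    rw [bilin_sum_left hQ.polar_bilinear]
    apply Finset.sum_eq_zero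
    intro i _
    rw [bilin_sum_right hQ.polar_bilinear]
    apply Finset.sum_eq_zero
    intro j _
    rw [hQ.polar_bilinear.smul_left, hQ.polar_bilinear.smul_right, hpm, mul_zero, mul_zero]
  have hdW : Module.finrank F W = t := by
    rw [hWdef, finrank_span_eq_card (hp.linearIndependent hQ h2 one_ne_zero), Fintype.card_fin]
  have hdW' : Module.finrank F W' = t := by
    rw [hW'def, finrank_span_eq_card (hm.linearIndependent hQ h2 hm1), Fintype.card_fin]
  have hinf : W ⊓ W' = ⊥ := by
    rw [eq_bot_iff]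
    intro x hx
    obtain ⟨hxW, hxW'⟩ := hx
    by_contra hx0
    obtain ⟨⟨w, hw, hne⟩, -⟩ := hWnd x hxW hx0
    exact hne (horth w hw x hxW')
  have hsup : W ⊔ W' = ⊤ := by
    apply Submodule.eq_top_of_finrank_eq
    have h1 := Submodule.finrank_sup_add_finrank_inf_eq W W'
    rw [hinf, finrank_bot, add_zero, hdW, hdW'] at h1
    rw [h1, Module.finrank_fin_fun, ← card_of_decomp D hD.decomp.decomp]
    ring
  -- the vectors of norm `±1` of a block
  have hsq : ∀ x : F, x ≠ 0 → x⁻¹ = x := by
    intro x hx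
    have h1 := sq_eq_one_of_ne hq hx
    exact inv_eq_of_mul_eq_one_right (by rw [← sq]; exact h1)
  have hone : ∀ i, ∀ v ∈ D i, Q v = 1 → ∃ x : F, v = x • (e i + f i) := by
    intro i v hv hQv
    obtain ⟨x, y, rfl⟩ := hef.coords hQ hD i v hv
    rw [hef.quad hQ] at hQv
    have hx0 : x ≠ 0 := by
      rintro rfl
      rw [zero_mul] at hQv
      exact zero_ne_one hQv
    have hy : y = x := by
      have : y = x⁻¹ := by
        field_simp
        rw [mul_comm]
        exact hQv
      rw [this, hsq x hx0]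
    exact ⟨x, by rw [hy, smul_add]⟩
  have hmone : ∀ i, ∀ v ∈ D i, Q v = -1 → ∃ x : F, v = x • (e i - f i) := by
    intro i v hv hQv
    obtain ⟨x, y, rfl⟩ := hef.coords hQ hD i v hv
    rw [hef.quad hQ] at hQv
    have hx0 : x ≠ 0 := by
      rintro rfl
      rw [zero_mul] at hQv
      exact hm1 hQv.symm
    have hy : y = -x := by
      have : y = -x⁻¹ := by
        field_simp
        rw [mul_comm]
        exact hQv
      rw [this, hsq x hx0]
    exact ⟨x, by rw [hy, smul_sub, neg_smul, sub_eq_add_neg]⟩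
  refine ⟨W, W', hWnd, hW'nd, horth, hinf, hsup, hdW, hdW', ?_, ?_⟩
  · apply le_subspaceStabilizer_of_forall
    intro g hg v hv
    obtain ⟨σ, hσ⟩ := maps_block (hle hg)
    have hmap : W.map (Matrix.toLin' (g : Matrix (Fin n) (Fin n) F)) ≤ W := by
      rw [hWdef, Submodule.map_span, Submodule.span_le]
      rintro _ ⟨_, ⟨i, rfl⟩, rfl⟩
      rw [Matrix.toLin'_apply]
      obtain ⟨x, hx⟩ := hone (σ i) _ (hσ i _ (hpD i)) (by rw [mem_isometryGroup_iff.1 (hHI hg), hQp])
      rw [hx]
      exact Submodule.smul_mem _ _ (Submodule.subset_span ⟨σ i, rfl⟩)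
    have := hmap (Submodule.mem_map_of_mem hv)
    rwa [Matrix.toLin'_apply] at this
  · apply le_subspaceStabilizer_of_forall
    intro g hg v hv
    obtain ⟨σ, hσ⟩ := maps_block (hle hg)
    have hmap : W'.map (Matrix.toLin' (g : Matrix (Fin n) (Fin n) F)) ≤ W' := by
      rw [hW'def, Submodule.map_span, Submodule.span_le]
      rintro _ ⟨_, ⟨i, rfl⟩, rfl⟩
      rw [Matrix.toLin'_apply]
      obtain ⟨x, hx⟩ := hmone (σ i) _ (hσ i _ (hmD i)) (by rw [mem_isometryGroup_iff.1 (hHI hg), hQm])
      rw [hx]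
      exact Submodule.smul_mem _ _ (Submodule.subset_span ⟨σ i, rfl⟩)
    have := hmap (Submodule.mem_map_of_mem hv)
    rwa [Matrix.toLin'_apply] at this

end Cfsg.Agent.Helper5.AschOm
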