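import Mathlib
import Cfsg.Prelude.Def_GeometricClasses
import Cfsg.Agent.Helper5.AschOm3C2A
import Cfsg.Agent.Lead.AschOC2

/-!
# ASCH-OM round 2 (Ω_12^+), piece C2 `c2_plus_planes_small`, part C: `q = 4`

The hyperbolic plane over `F_4` is the anisotropic plane over `F_2` extended to `F_4`: the three vectors of norm `1`
of a block are `a = e + f`, `b = ω e + ω² f` and `a + b`, so the stabiliser is rational over `F_2` in the basis `(a, b)`.
-/

set_option autoImplicit false
set_option linter.style.haveILetI false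
set_option linter.unusedSectionVars false
set_option linter.unusedVariables false

namespace Cfsg.Agent.Helper5.AschOm

open Cfsg Cfsg.Geo Cfsg.Agent.Lead.Asch Cfsg.Agent.Lead.AschO Cfsg.Agent.Helper2.TensorO3
  Cfsg.Agent.Helper2.AschOm
open scoped MatrixGroups Matrix

variable {n : ℕ} {F : Type*} [Field F] [Fintype F]

section field4

theorem two_eq_zero_of_four (hq : Fintype.card F = 4) : (2 : F) = 0 := by
  have h := Nat.cast_card_eq_zero F
  rw [hq] at h
  have h4 : (2 : F) * 2 = 0 := by
    have : ((4 : ℕ) : F) = 2 * 2 := by norm_num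
    rw [← this]
    exact h
  rcases mul_eq_zero.1 h4 with h | h <;> exact h

theorem exists_omega (hq : Fintype.card F = 4) : ∃ ω : F, ω ^ 2 + ω + 1 = 0 := by
  classical
  have hex : ∃ x : F, x ≠ 0 ∧ x ≠ 1 := by
    by_contra hcon
    push Not at hcon
    have hsub : (Finset.univ : Finset F) ⊆ {0, 1} := by
      intro x _
      by_cases hx : x = 0
      · rw [hx]
        simp
      · rw [hcon x hx]
        simp
    have h1 := Finset.card_le_card hsub
    rw [Finset.card_univ, hq] at h1
    have h3 : ({0, 1} : Finset F).card ≤ 2 := Finset.card_le_two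
    omega
  obtain ⟨x, hx0, hx1⟩ := hex
  refine ⟨x, ?_⟩
  have h4 := FiniteField.pow_card x
  rw [hq] at h4
  have h5 : x * (x - 1) * (x ^ 2 + x + 1) = 0 := by linear_combination h4
  rcases mul_eq_zero.1 h5 with h6 | h6
  · rcases mul_eq_zero.1 h6 with h7 | h7
    · exact absurd h7 hx0
    · exact absurd (sub_eq_zero.1 h7) hx1
  · exact h6

theorem four_cases (hq : Fintype.card F = 4) (ω : F) (hω : ω ^ 2 + ω + 1 = 0) (x : F) :
    x = 0 ∨ x = 1 ∨ x = ω ∨ x = ω + 1 := by
  have h2 := two_eq_zero_of_four hq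
  have hx := FiniteField.pow_card x
  rw [hq] at hx
  have hP : x * (x - 1) * (x - ω) * (x - (ω + 1)) = 0 := by
    linear_combination hx + (-x ^ 3 + x - ω * x ^ 3 + ω * x ^ 2) * h2 + (x ^ 2 - x) * hω
  rcases mul_eq_zero.1 hP with h | h
  · rcases mul_eq_zero.1 h with h | h
    · rcases mul_eq_zero.1 h with h | h
      · exact Or.inl h
      · exact Or.inr (Or.inl (sub_eq_zero.1 h))
    · exact Or.inr (Or.inr (Or.inl (sub_eq_zero.1 h)))
  · exact Or.inr (Or.inr (Or.inr (sub_eq_zero.1 h)))

end field4

section rational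

variable {Q : (Fin n → F) → F}

/-- a quadratic form with rational values and rational polar values on a family is rational on its rational
combinations -/
theorem quad_rational {ι : Type} [DecidableEq ι] (hQ : IsNondegenerateQuadraticForm Q) (F₀ : Subfield F)
    (b : ι → (Fin n → F)) (hQb : ∀ k, Q (b k) ∈ F₀) (hpb : ∀ k l, QuadraticMap.polar Q (b k) (b l) ∈ F₀)
    (c : ι → F) (hc : ∀ k, c k ∈ F₀) (s : Finset ι) : Q (∑ k ∈ s, c k • b k) ∈ F₀ := by
  induction s using Finset.induction_on with
  | empty =>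
    rw [Finset.sum_empty]
    have h0 : Q (0 : Fin n → F) = 0 := by
      have := hQ.smul 0 (0 : Fin n → F)
      simpa using this
    rw [h0]
    exact F₀.zero_mem
  | insert a s ha ih =>
    rw [Finset.sum_insert ha, qadd Q, hQ.smul, bilin_sum_right hQ.polar_bilinear]
    refine F₀.add_mem (F₀.add_mem (F₀.mul_mem (F₀.pow_mem (hc a) 2) (hQb a)) ih) (F₀.sum_mem fun l _ => ?_)
    rw [hQ.polar_bilinear.smul_left, hQ.polar_bilinear.smul_right]
    exact F₀.mul_mem (hc a) (F₀.mul_mem (hc l) (hpb a l))

theorem colMat_mulVec_eq_sum (b : Module.Basis (Fin n) F (Fin n → F)) (u : Fin n → F) :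
    colMat b *ᵥ u = ∑ k, u k • b k := by
  have hu : u = ∑ k, u k • (Pi.single k (1 : F) : Fin n → F) := by
    funext i
    simp [Finset.sum_apply, Pi.single_apply]
  conv_lhs => rw [hu]
  rw [Matrix.mulVec_sum]
  apply Finset.sum_congr rfl
  intro k _
  rw [Matrix.mulVec_smul, colMat_mulVec_single]

end rational

section four

variable {Q : (Fin n → F) → F} {t : ℕ} {D : Fin t → Submodule F (Fin n → F)} {e f : Fin t → (Fin n → F)}

/-- `q = 4`: the stabiliser lies in a subfield group over the prime field -/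
theorem c2_plus_four (hq : Fintype.card F = 4) (hQ : IsNondegenerateQuadraticForm Q)
    (hD : IsOrthogonalMDecomposition Q 2 D) (hef : HypFam Q D e f) {H : Subgroup (GL (Fin n) F)}
    (hHI : H ≤ isometryGroup F Q) (hle : H ≤ decompositionStabilizer D) :
    ∃ (F₀ : Subfield F) (r : ℕ) (P : GL (Fin n) F) (ζ : F), r.Prime ∧ Fintype.card F = Nat.card F₀ ^ r ∧ ζ ≠ 0 ∧
      IsQuadFormRationalStructure (fun v : Fin n → F => ζ * Q v) F₀ P ∧ H ≤ subfieldSubgroup F₀ P := by
  classical
  have h2 : (2 : F) = 0 := two_eq_zero_of_four hq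
  obtain ⟨ω, hω⟩ := exists_omega hq
  haveI : CharP F 2 := CharTwo.of_one_ne_zero_of_two_eq_zero one_ne_zero h2
  haveI : Fact (Nat.Prime 2) := ⟨Nat.prime_two⟩
  have hcard₀ : Nat.card (⊥ : Subfield F) = 2 := Subfield.card_bot F 2
  obtain ⟨F₀, hF₀⟩ : ∃ F₀ : Subfield F, F₀ = ⊥ := ⟨_, rfl⟩
  rw [← hF₀] at hcard₀
  have hω3 : ω * ω ^ 2 = 1 := by linear_combination (ω - 1) * hω
  -- the vectors of norm one
  obtain ⟨a, ha⟩ : ∃ a : Fin t → (Fin n → F), a = fun i => e i + f i := ⟨_, rfl⟩
  obtain ⟨b', hb'⟩ : ∃ b' : Fin t → (Fin n → F), b' = fun i => ω • e i + ω ^ 2 • f i := ⟨_, rfl⟩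
  have haD : ∀ i, a i ∈ D i := fun i => by
    rw [ha]
    exact (D i).add_mem (hef.e_mem i) (hef.f_mem i)
  have hbD : ∀ i, b' i ∈ D i := fun i => by
    rw [hb']
    exact (D i).add_mem ((D i).smul_mem _ (hef.e_mem i)) ((D i).smul_mem _ (hef.f_mem i))
  have hQa : ∀ i, Q (a i) = 1 := by
    intro i
    have := hef.quad hQ i 1 1
    rw [one_smul, one_smul, mul_one] at this
    rw [ha]
    exact this
  have hQb : ∀ i, Q (b' i) = 1 := by
    intro i
    rw [hb']
    show Q (ω • e i + ω ^ 2 • f i) = 1
    rw [hef.quad hQ, hω3]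
  have hab : ∀ i, QuadraticMap.polar Q (a i) (b' i) = 1 := by
    intro i
    rw [ha, hb']
    show QuadraticMap.polar Q (e i + f i) (ω • e i + ω ^ 2 • f i) = 1
    rw [hQ.polar_bilinear.add_left, hQ.polar_bilinear.add_right, hQ.polar_bilinear.add_right,
      hQ.polar_bilinear.smul_right, hQ.polar_bilinear.smul_right, hQ.polar_bilinear.smul_right,
      hQ.polar_bilinear.smul_right, hef.pee hQ, hef.pff hQ, hef.pol, hef.pol']
    linear_combination hω - h2
  have hba : ∀ i, QuadraticMap.polar Q (b' i) (a i) = 1 := fun i => by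
    rw [QuadraticMap.polar_comm]
    exact hab i
  have hself : ∀ v : Fin n → F, QuadraticMap.polar Q v v = 0 := fun v => by
    rw [polar_self hQ, h2, zero_mul]
  -- the family
  obtain ⟨w, hw⟩ : ∃ w : Fin t × Fin 2 → (Fin n → F), w = fun p => if p.2 = 0 then a p.1 else b' p.1 := ⟨_, rfl⟩
  have hw0 : ∀ i, w (i, 0) = a i := fun i => by rw [hw]; simp
  have hw1 : ∀ i, w (i, 1) = b' i := fun i => by rw [hw]; simp
  have hwD : ∀ p, w p ∈ D p.1 := by
    rintro ⟨i, j⟩
    fin_cases j
    · rw [show ((i, (⟨0, by norm_num⟩ : Fin 2)) : Fin t × Fin 2) = (i, 0) from rfl, hw0]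
      exact haD i
    · rw [show ((i, (⟨1, by norm_num⟩ : Fin 2)) : Fin t × Fin 2) = (i, 1) from rfl, hw1]
      exact hbD i
  have hQw : ∀ p, Q (w p) = 1 := by
    rintro ⟨i, j⟩
    fin_cases j
    · rw [show ((i, (⟨0, by norm_num⟩ : Fin 2)) : Fin t × Fin 2) = (i, 0) from rfl, hw0]
      exact hQa i
    · rw [show ((i, (⟨1, by norm_num⟩ : Fin 2)) : Fin t × Fin 2) = (i, 1) from rfl, hw1]
      exact hQb i
  have hgram : ∀ p p', QuadraticMap.polar Q (w p) (w p') = if p.1 = p'.1 ∧ p.2 ≠ p'.2 then 1 else 0 := by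
    rintro ⟨i, j⟩ ⟨i', j'⟩
    by_cases hii : i = i'
    · subst hii
      fin_cases j <;> fin_cases j'
      · rw [hself]
        simp
      · rw [show ((i, (⟨0, by norm_num⟩ : Fin 2)) : Fin t × Fin 2) = (i, 0) from rfl,
          show ((i, (⟨1, by norm_num⟩ : Fin 2)) : Fin t × Fin 2) = (i, 1) from rfl, hw0, hw1, hab]
        simp
      · rw [show ((i, (⟨0, by norm_num⟩ : Fin 2)) : Fin t × Fin 2) = (i, 0) from rfl,
          show ((i, (⟨1, by norm_num⟩ : Fin 2)) : Fin t × Fin 2) = (i, 1) from rfl, hw0, hw1, hba]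
        simp
      · rw [hself]
        simp
    · rw [if_neg (fun h => hii h.1)]
      exact HypFam.orth_blocks hD hii (hwD (i, j)) (hwD (i', j'))
  -- linear independence
  have hli : LinearIndependent F w := by
    rw [Fintype.linearIndependent_iff]
    intro c hc p₀
    obtain ⟨i, j⟩ := p₀
    obtain ⟨j', hj'⟩ : ∃ j' : Fin 2, j ≠ j' := by
      fin_cases j
      · exact ⟨1, by decide⟩
      · exact ⟨0, by decide⟩
    have h1 : QuadraticMap.polar Q (∑ p, c p • w p) (w (i, j')) = c (i, j) := by
      rw [bilin_sum_left hQ.polar_bilinear, Finset.sum_eq_single (i, j)]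
      · rw [hQ.polar_bilinear.smul_left, hgram, if_pos ⟨rfl, hj'⟩, mul_one]
      · rintro ⟨i₁, j₁⟩ _ hne
        rw [hQ.polar_bilinear.smul_left, hgram, if_neg, mul_zero]
        rintro ⟨h3, h4⟩
        apply hne
        have h5 : i₁ = i := h3
        have h6 : j₁ = j := by
          have h7 : j₁ ≠ j' := h4
          revert h7 hj'
          fin_cases j₁ <;> fin_cases j <;> fin_cases j' <;> simp
        rw [h5, h6]
      · intro h
        exact absurd (Finset.mem_univ _) h
    rw [hc, bilin_zero_left hQ.polar_bilinear] at h1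
    exact h1.symm
  -- the basis
  have hcard : t * 2 = n := card_of_decomp D hD.decomp.decomp
  obtain ⟨E, -⟩ : ∃ E : Fin n ≃ Fin t × Fin 2, E = (finCongr hcard.symm).trans finProdFinEquiv.symm := ⟨_, rfl⟩
  have hli' : LinearIndependent F (w ∘ E) := hli.comp _ E.injective
  have hnpos : 0 < n := by
    have := hD.decomp.decomp.two_le
    omega
  haveI : Nonempty (Fin n) := ⟨⟨0, hnpos⟩⟩
  obtain ⟨B, hB⟩ : ∃ B : Module.Basis (Fin n) F (Fin n → F), ∀ k, B k = w (E k) :=
    ⟨basisOfLinearIndependentOfCardEqFinrank hli' (by rw [Fintype.card_fin, Module.finrank_fin_fun]),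
      fun k => by rw [coe_basisOfLinearIndependentOfCardEqFinrank]; rfl⟩
  have hzero : (0 : F) ∈ F₀ := F₀.zero_mem
  have hone : (1 : F) ∈ F₀ := F₀.one_mem
  refine ⟨F₀, 2, colGL B, 1, Nat.prime_two, by rw [hcard₀, hq]; norm_num, one_ne_zero, ?_, ?_⟩
  · intro u hu
    rw [colGL_val, colMat_mulVec_eq_sum]
    show (1 : F) * Q (∑ k, u k • B k) ∈ F₀
    rw [one_mul]
    refine quad_rational hQ F₀ B (fun k => ?_) (fun k l => ?_) u hu Finset.univ
    · rw [hB, hQw]
      exact hone
    · rw [hB, hB, hgram]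
      split_ifs
      · exact hone
      · exact hzero
  · -- rational vectors
    have hrat_basis : ∀ k' k, B.repr (B k') k ∈ F₀ := by
      intro k' k
      rw [Module.Basis.repr_self, Finsupp.single_apply]
      split_ifs
      · exact hone
      · exact hzero
    -- the vectors of norm one of a block are rational
    have hnorm : ∀ i, ∀ v ∈ D i, Q v = 1 → ∀ k, B.repr v k ∈ F₀ := by
      intro i v hv hQv k
      obtain ⟨x, y, rfl⟩ := hef.coords hQ hD i v hv
      rw [hef.quad hQ] at hQv
      have hak : ∀ k, B.repr (a i) k ∈ F₀ := by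
        intro k
        have : a i = B (E.symm (i, 0)) := by rw [hB, Equiv.apply_symm_apply, hw0]
        rw [this]
        exact hrat_basis _ _
      have hbk : ∀ k, B.repr (b' i) k ∈ F₀ := by
        intro k
        have : b' i = B (E.symm (i, 1)) := by rw [hB, Equiv.apply_symm_apply, hw1]
        rw [this]
        exact hrat_basis _ _
      have habk : ∀ k, B.repr (a i + b' i) k ∈ F₀ := by
        intro k
        rw [map_add, Finsupp.add_apply]
        exact F₀.add_mem (hak k) (hbk k)
      rcases four_cases hq ω hω x with hx | hx | hx | hx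
      · rw [hx, zero_mul] at hQv
        exact absurd hQv zero_ne_one
      · have hy : y = 1 := by rw [hx, one_mul] at hQv; exact hQv
        have : x • e i + y • f i = a i := by rw [hx, hy, one_smul, one_smul, ha]
        rw [this]
        exact hak k
      · have hy : y = ω ^ 2 := by
          have h3 : ω * y = ω * ω ^ 2 := by rw [hω3, ← hx]; exact hQv
          have hω0 : ω ≠ 0 := by
            rintro rfl
            rw [zero_mul] at hω3
            exact zero_ne_one hω3
          exact mul_left_cancel₀ hω0 h3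
        have : x • e i + y • f i = b' i := by rw [hx, hy, hb']
        rw [this]
        exact hbk k
      · have hy : y = ω := by
          have h3 : (ω + 1) * y = (ω + 1) * ω := by
            rw [hx] at hQv
            rw [hQv]
            linear_combination h2 - hω
          have hω1 : ω + 1 ≠ 0 := by
            intro h0
            have : ω ^ 2 = 0 := by linear_combination hω - h0
            have hω0 : ω = 0 := pow_eq_zero_iff (by norm_num) |>.1 this
            rw [hω0, zero_mul] at hω3
            exact zero_ne_one hω3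
          exact mul_left_cancel₀ hω1 h3
        have : x • e i + y • f i = a i + b' i := by
          rw [hx, hy, ha, hb']
          show (ω + 1) • e i + ω • f i = e i + f i + (ω • e i + ω ^ 2 • f i)
          have h5 : (1 : F) + ω ^ 2 = ω := by linear_combination hω - ω * h2
          calc (ω + 1) • e i + ω • f i = (1 + ω) • e i + (1 + ω ^ 2) • f i := by rw [h5, add_comm ω 1]
            _ = e i + f i + (ω • e i + ω ^ 2 • f i) := by
                rw [add_smul, add_smul, one_smul, one_smul]
                abel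
        rw [this]
        exact habk k
    have key : ∀ g : GL (Fin n) F, g ∈ H → ∀ k k', ((colGL B)⁻¹ * g * colGL B : GL (Fin n) F).1 k k' ∈ F₀ := by
      intro g hg k k'
      have hentry : ((colGL B)⁻¹ * g * colGL B : GL (Fin n) F).1 k k' =
          B.equivFun ((g : Matrix (Fin n) (Fin n) F) *ᵥ B k') k := by
        have h1 : ((colGL B)⁻¹ * g * colGL B : GL (Fin n) F).1 *ᵥ (Pi.single k' 1) =
            B.equivFun ((g : Matrix (Fin n) (Fin n) F) *ᵥ B k') := by
          rw [Units.val_mul, Units.val_mul, colGL_val, colGL_inv_val, ← Matrix.mulVec_mulVec,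
            ← Matrix.mulVec_mulVec, colMat_mulVec_single, rowMat_mulVec]
        have h3 := congrFun h1 k
        rw [Matrix.mulVec_single_one] at h3
        exact h3
      rw [hentry]
      obtain ⟨σ, hσ⟩ := maps_block (hle hg)
      have hBD : B k' ∈ D (E k').1 := by
        rw [hB]
        exact hwD (E k')
      have hQg : Q ((g : Matrix (Fin n) (Fin n) F) *ᵥ B k') = 1 := by
        rw [mem_isometryGroup_iff.1 (hHI hg), hB, hQw]
      exact hnorm (σ (E k').1) _ (hσ (E k').1 _ hBD) hQg k
    intro g hg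
    have hE := Cfsg.Agent.Helper6.Asch.mem_range_map_of_entries F₀ ((colGL B)⁻¹ * g * colGL B) (key g hg)
    unfold subfieldSubgroup
    refine ⟨(colGL B)⁻¹ * g * colGL B, Subgroup.mem_sup_left hE, ?_⟩
    simp only [MulEquiv.coe_toMonoidHom, MulAut.conj_apply]
    group

end four

end Cfsg.Agent.Helper5.AschOm
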