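import Mathlib
import Cfsg.Prelude.Def_GeometricClasses
import Cfsg.Agent.Helper5.AschOm3C2B
import Cfsg.Agent.Helper5.AschOm3C2C

/-!
# ASCH-OM round 2 (Ω_12^+), piece C2 `c2_plus_planes_small`
-/

set_option autoImplicit false
set_option linter.style.haveILetI false
set_option linter.unusedSectionVars false
set_option linter.unusedVariables false

namespace Cfsg.Agent.Helper5.AschOm

open Cfsg Cfsg.Geo Cfsg.Agent.Lead.Asch Cfsg.Agent.Lead.AschO
open scoped MatrixGroups Matrix Kronecker commutatorElement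

variable {n : ℕ} {F : Type*} [Field F] [Fintype F]

theorem card_cases_lt_seven (hq : Fintype.card F < 7) :
    Fintype.card F = 2 ∨ Fintype.card F = 3 ∨ Fintype.card F = 4 ∨ Fintype.card F = 5 := by
  have h1 : 1 < Fintype.card F := Fintype.one_lt_card
  have h2 : IsPrimePow (Fintype.card F) := FiniteField.isPrimePow_card F
  have h6 : Fintype.card F ≠ 6 := by
    intro h
    rw [h] at h2
    exact absurd h2 (by decide)
  omega

/-- C2 (the subfield alternative is stated unfolded: it is lead's `SubfieldConcl Q H`) -/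
theorem c2_plus_planes_small (hq : Fintype.card F < 7) (Q : (Fin n → F) → F) (hQ : IsNondegenerateQuadraticForm Q)
    {t : ℕ} (D : Fin t → Submodule F (Fin n → F)) (hD : IsOrthogonalMDecomposition Q 2 D)
    (hplus : ∀ i, IsPlusTypeOn Q (D i)) {H : Subgroup (GL (Fin n) F)} (hHI : H ≤ isometryGroup F Q)
    (hle : H ≤ decompositionStabilizer D) :
    (Fintype.card F = 2 ∧ ∃ v : Fin n → F, v ≠ 0 ∧ H ≤ subspaceStabilizer (Submodule.span F {v})) ∨
    (Fintype.card F = 3 ∧ ∃ W W' : Submodule F (Fin n → F), IsNondegenerateOn (QuadraticMap.polar Q) W ∧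
      IsNondegenerateOn (QuadraticMap.polar Q) W' ∧ AreOrthogonalFor (QuadraticMap.polar Q) W W' ∧
      W ⊓ W' = ⊥ ∧ W ⊔ W' = ⊤ ∧ Module.finrank F W = t ∧ Module.finrank F W' = t ∧
      H ≤ subspaceStabilizer W ∧ H ≤ subspaceStabilizer W') ∨
    (Fintype.card F = 4 ∧ ∃ (F₀ : Subfield F) (r : ℕ) (P : GL (Fin n) F) (ζ : F), r.Prime ∧
      Fintype.card F = Nat.card F₀ ^ r ∧ ζ ≠ 0 ∧
      IsQuadFormRationalStructure (fun v : Fin n → F => ζ * Q v) F₀ P ∧ H ≤ subfieldSubgroup F₀ P) ∨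
    (Fintype.card F = 5 ∧ ∃ D' : Fin (2 * t) → Submodule F (Fin n → F), IsOrthogonalMDecomposition Q 1 D' ∧
      H ≤ decompositionStabilizer D') := by
  have ht : 0 < t := lt_of_lt_of_le (by norm_num) hD.decomp.decomp.two_le
  obtain ⟨e, f, hef⟩ := exists_hypFam hQ D hD ⟨0, ht⟩ (hplus _)
  rcases card_cases_lt_seven hq with h | h | h | h
  · exact Or.inl ⟨h, c2_plus_two h hQ hD hef hHI hle⟩
  · exact Or.inr (Or.inl ⟨h, c2_plus_three h hQ hD hef hHI hle⟩)
  · exact Or.inr (Or.inr (Or.inl ⟨h, c2_plus_four h hQ hD hef hHI hle⟩))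
  · refine Or.inr (Or.inr (Or.inr ⟨h, ?_⟩))
    have h5 := refine_plus_planes_five h hQ D hD ⟨0, ht⟩ (hplus _)
    rw [Nat.mul_comm t 2] at h5
    obtain ⟨D', hD', hle'⟩ := h5
    exact ⟨D', hD', fun g hg => hle' ⟨hle hg, hHI hg⟩⟩

end Cfsg.Agent.Helper5.AschOm
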