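import Mathlib
import Cfsg.Prelude.Def_GeometricClasses
import Cfsg.Agent.Helper5.AschOmRefE

/-!
# ASCH-OM round 2 (Ω_12^+): pieces C3 `c2_minus_planes_three`, C4 `c2_three_blocks_three`
-/

set_option autoImplicit false
set_option linter.style.haveILetI false
set_option linter.unusedSectionVars false
set_option linter.unusedVariables false

namespace Cfsg.Agent.Helper5.AschOm

open Cfsg Cfsg.Geo Cfsg.Agent.Lead.Asch Cfsg.Agent.Lead.AschO
open scoped MatrixGroups Matrix Kronecker commutatorElement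

variable {n : ℕ} {F : Type*} [Field F] [Fintype F]

/-- C3 -/
theorem c2_minus_planes_three (hq : Fintype.card F = 3) (Q : (Fin n → F) → F) (hQ : IsNondegenerateQuadraticForm Q)
    {t : ℕ} (D : Fin t → Submodule F (Fin n → F)) (hD : IsOrthogonalMDecomposition Q 2 D)
    (hminus : ∀ i, ¬ IsPlusTypeOn Q (D i)) {H : Subgroup (GL (Fin n) F)} (hHI : H ≤ isometryGroup F Q)
    (hle : H ≤ decompositionStabilizer D) :
    ∃ D' : Fin (2 * t) → Submodule F (Fin n → F), IsOrthogonalMDecomposition Q 1 D' ∧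
      H ≤ decompositionStabilizer D' := by
  have ht : 0 < t := lt_of_lt_of_le (by norm_num) hD.decomp.decomp.two_le
  have h := refine_minus_planes_three hq hQ D hD ⟨0, ht⟩ (hminus _)
  rw [Nat.mul_comm t 2] at h
  obtain ⟨D', hD', hle'⟩ := h
  exact ⟨D', hD', fun g hg => hle' ⟨hle hg, hHI hg⟩⟩

/-- C4 -/
theorem c2_three_blocks_three (hq : Fintype.card F = 3) (Q : (Fin n → F) → F) (hQ : IsNondegenerateQuadraticForm Q)
    {t : ℕ} (D : Fin t → Submodule F (Fin n → F)) (hD : IsOrthogonalMDecomposition Q 3 D)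
    {H : Subgroup (GL (Fin n) F)} (hHI : H ≤ isometryGroup F Q) (hle : H ≤ decompositionStabilizer D) :
    ∃ D' : Fin (3 * t) → Submodule F (Fin n → F), IsOrthogonalMDecomposition Q 1 D' ∧
      H ≤ decompositionStabilizer D' := by
  have h := refine_three_blocks_three hq hQ D hD
  rw [Nat.mul_comm t 3] at h
  obtain ⟨D', hD', hle'⟩ := h
  exact ⟨D', hD', fun g hg => hle' ⟨hle hg, hHI hg⟩⟩

end Cfsg.Agent.Helper5.AschOm
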