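import Mathlib
import Cfsg.Prelude.Def_GeometricClasses
import Cfsg.Agent.Lead.AschOBase
import Cfsg.Agent.Helper5.AschGramForm
import Cfsg.Agent.Helper5.AschCUT3
import Cfsg.Agent.Helper5.AschOm3X4B
import Cfsg.Agent.Helper7.TensNMA
import Cfsg.Agent.Helper7.TnSpB

/-!
# ASCH-OM3, piece X4 `tensor_O3_O4plus`

Symmetric ⊗ symmetric with factors of dimensions three and four, the second of plus type (`q` odd): the
four-dimensional factor is `F^2 ⊗ F^2` with the form `½ (J ⊗ J)`, its similarities are Kronecker products up to the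
swap of the two factors, and the swap is excluded inside `Ω` by the determinant.  Regrouping
`F^3 ⊗ (F^2 ⊗ F^2) = F^2 ⊗ (F^3 ⊗ F^2)` gives a tensor decomposition `2 ⊗ 6` into alternating forms.
-/

set_option autoImplicit false
set_option linter.style.haveILetI false
set_option linter.unusedSectionVars false
set_option linter.unusedVariables false
set_option linter.unnecessarySeqFocus false

namespace Cfsg.Agent.Helper5.AschOm3

open Cfsg Cfsg.Geo Cfsg.Agent.Helper5.GramForm Cfsg.Agent.Helper5.AschCU Cfsg.Agent.Helper5.GO4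
  Cfsg.Agent.Helper9.AschComp Cfsg.Agent.Lead.AschO
open scoped MatrixGroups Matrix Kronecker

variable {F : Type*} [Field F]

/-- the regrouping `F^3 ⊗ (F^2 ⊗ F^2) = F^2 ⊗ (F^3 ⊗ F^2)` of index sets -/
def regroup (s : Fin 4 ≃ Fin 2 × Fin 2) (t : Fin 3 × Fin 2 ≃ Fin 6) : Fin 3 × Fin 4 ≃ Fin 2 × Fin 6 where
  toFun p := ((s p.2).1, t (p.1, (s p.2).2))
  invFun r := ((t.symm r.2).1, s.symm (r.1, (t.symm r.2).2))
  left_inv p := by simp
  right_inv r := by simp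

theorem regroup_apply (s : Fin 4 ≃ Fin 2 × Fin 2) (t : Fin 3 × Fin 2 ≃ Fin 6) (p : Fin 3 × Fin 4) :
    regroup s t p = ((s p.2).1, t (p.1, (s p.2).2)) := rfl

/-- elements of `Ω` have determinant one -/
theorem det_eq_one_of_mem_omegaGL {ι : Type} [Fintype ι] [DecidableEq ι] {Q : (ι → F) → F} {x : GL ι F}
    (hx : x ∈ omegaGL Q) : (x : Matrix ι ι F).det = 1 := by
  obtain ⟨y, hy, rfl⟩ := hx
  have h1 : y ∈ ((Matrix.GeneralLinearGroup.det (n := ι) (R := F)).comp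
      (Cfsg.isometryGroup F Q).subtype).ker :=
    (Abelianization.commutator_subset_ker _) hy
  rw [MonoidHom.mem_ker, MonoidHom.comp_apply] at h1
  have h2 := congrArg (fun u : Fˣ => (u : F)) h1
  simpa using h2

variable [Fintype F]

/-- X4 -/
theorem tensor_O3_O4plus (hodd : Odd (Fintype.card F)) (Q : (Fin 12 → F) → F) (hQ : IsNondegenerateQuadraticForm Q)
    {H : Subgroup (GL (Fin 12) F)} (hHΩ : H ≤ omegaGL Q)
    (e : Fin 12 ≃ Fin 3 × Fin 4) (P : GL (Fin 12) F)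
    (f₁ : (Fin 3 → F) → (Fin 3 → F) → F) (f₂ : (Fin 4 → F) → (Fin 4 → F) → F)
    (h₁ : IsSymmetricForm f₁) (h₂ : IsSymmetricForm f₂)
    (hT : IsTensorFormStructure id (QuadraticMap.polar Q) f₁ f₂ e P)
    (hplus : IsPlusTypeOn (fun v : Fin 4 → F => f₂ v v) ⊤)
    (hle : H ≤ tensorProductSubgroup 3 4 e P) :
    ∃ (e' : Fin 12 ≃ Fin 2 × Fin 6) (P' : GL (Fin 12) F) (g₁ : (Fin 2 → F) → (Fin 2 → F) → F)
      (g₂ : (Fin 6 → F) → (Fin 6 → F) → F), IsSymplecticForm g₁ ∧ IsSymplecticForm g₂ ∧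
      IsTensorFormStructure id (QuadraticMap.polar Q) g₁ g₂ e' P' ∧
      (∀ (x₁ : Fin 2 → F) (x₂ : Fin 6 → F),
        Q ((P' : Matrix (Fin 12) (Fin 12) F) *ᵥ ((fun a : Fin 2 × Fin 6 => x₁ a.1 * x₂ a.2) ∘ e')) = 0) ∧
      H ≤ tensorProductSubgroup 2 6 e' P' := by
  classical
  have h2 : (2 : F) ≠ 0 := two_ne_zero_of_odd_card hodd
  have hpol : ∀ v, QuadraticMap.polar Q v v = 2 * Q v := by
    intro v
    unfold QuadraticMap.polar
    have h3 : v + v = (2 : F) • v := (two_smul F v).symm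
    rw [h3, hQ.smul]
    ring
  obtain ⟨c, hc, hform⟩ := hT
  obtain ⟨s⟩ : Nonempty (Fin 4 ≃ Fin 2 × Fin 2) := ⟨(finProdFinEquiv (m := 2) (n := 2)).symm⟩
  obtain ⟨t⟩ : Nonempty (Fin 3 × Fin 2 ≃ Fin 6) := ⟨finProdFinEquiv (m := 3) (n := 2)⟩
  obtain ⟨V, hVdet, hVgram⟩ := exists_hyp_frame h2 f₂ h₂ hplus s
  obtain ⟨G₁, hG₁⟩ : ∃ G₁, G₁ = gramMatrix f₁ := ⟨_, rfl⟩
  obtain ⟨G₂, hG₂⟩ : ∃ G₂, G₂ = gramMatrix f₂ := ⟨_, rfl⟩
  obtain ⟨J, hJ⟩ : ∃ J, J = Jalt F := ⟨_, rfl⟩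
  obtain ⟨JJs, hJJs⟩ : ∃ JJs, JJs = (J ⊗ₖ J).submatrix s s := ⟨_, rfl⟩
  rw [← hG₁, ← hG₂] at hform
  rw [← hG₂, ← hJ, ← hJJs] at hVgram
  have hJT : Jᵀ = -J := by rw [hJ]; exact Jalt_transpose
  have hJdet : J.det = 1 := by rw [hJ]; exact Jalt_det
  have hG₁s : G₁ᵀ = G₁ := by
    rw [hG₁]
    ext i j
    exact h₁.symm _ _
  have hG₁det : G₁.det ≠ 0 := by
    intro hd
    obtain ⟨v, hv, hv0⟩ := Matrix.exists_mulVec_eq_zero_iff.mpr hd
    obtain ⟨⟨x, hx⟩, -⟩ := h₁.nondegenerate v hv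
    apply hx
    rw [Cfsg.Agent.Helper7.TnSp.eq_dot_gram f₁ h₁.bilinear, ← hG₁, hv0, dotProduct_zero]
  have hG₁ne : G₁ ≠ 0 := by
    intro h0
    apply hG₁det
    rw [h0, Matrix.det_zero]
  have hG₂ne : G₂ ≠ 0 := by
    rw [hG₂]
    exact Cfsg.Agent.Helper7.TnSp.gram_ne_zero f₂ h₂.bilinear h₂.nondegenerate
  have hm : ∀ {κ : Type} [Fintype κ] (M : Matrix κ κ F), M.map (RingHom.id F) = M := by
    intro κ _ M
    ext i j
    rfl
  -- the inverse of `V`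
  obtain ⟨V', hV'⟩ : ∃ V' : Matrix (Fin 4) (Fin 4) F, V' = V⁻¹ := ⟨_, rfl⟩
  have hVV' : V * V' = 1 := by
    rw [hV']
    exact Matrix.mul_nonsing_inv V (isUnit_iff_ne_zero.mpr hVdet)
  have hV'V : V' * V = 1 := by
    rw [hV']
    exact Matrix.nonsing_inv_mul V (isUnit_iff_ne_zero.mpr hVdet)
  obtain ⟨VG, hVG, hVGi⟩ : ∃ VG : GL (Fin 4) F, (VG : Matrix (Fin 4) (Fin 4) F) = V ∧
      ((VG⁻¹ : GL (Fin 4) F) : Matrix (Fin 4) (Fin 4) F) = V' := ⟨⟨V, V', hVV', hV'V⟩, rfl, rfl⟩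
  obtain ⟨K₀, hK₀⟩ : ∃ K₀ : GL (Fin 3 × Fin 4) F, K₀ = kronGL 1 VG := ⟨_, rfl⟩
  have hK₀v : (K₀ : Matrix (Fin 3 × Fin 4) (Fin 3 × Fin 4) F) = (1 : Matrix (Fin 3) (Fin 3) F) ⊗ₖ V := by
    rw [hK₀, kronGL_val, Units.val_one, hVG]
  have hK₀i : ((K₀⁻¹ : GL (Fin 3 × Fin 4) F) : Matrix (Fin 3 × Fin 4) (Fin 3 × Fin 4) F) =
      (1 : Matrix (Fin 3) (Fin 3) F) ⊗ₖ V' := by
    rw [hK₀]
    show (((1 : GL (Fin 3) F)⁻¹ : GL (Fin 3) F) : Matrix (Fin 3) (Fin 3) F) ⊗ₖ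
      ((VG⁻¹ : GL (Fin 4) F) : Matrix (Fin 4) (Fin 4) F) = _
    rw [inv_one, Units.val_one, hVGi]
  obtain ⟨ρ, hρ⟩ : ∃ ρ : Fin 3 × Fin 4 ≃ Fin 2 × Fin 6, ρ = regroup s t := ⟨_, rfl⟩
  have hρa : ∀ p, ρ p = ((s p.2).1, t (p.1, (s p.2).2)) := by
    intro p
    rw [hρ]
    rfl
  obtain ⟨P', hP'⟩ : ∃ P' : GL (Fin 12) F, P' = P * glReindex e.symm K₀ := ⟨_, rfl⟩
  obtain ⟨G₆, hG₆⟩ : ∃ G₆ : Matrix (Fin 6) (Fin 6) F, G₆ = (G₁ ⊗ₖ J).submatrix t.symm t.symm := ⟨_, rfl⟩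
  -- the two alternating forms
  have hJu : IsUnit J.det := by rw [hJdet]; exact isUnit_one
  have hg₁ : IsSymplecticForm (formOfGram id J) := isSymplecticForm_formOfGram h2 hJu hJT
  have hG₆T : G₆ᵀ = -G₆ := by
    ext i j
    rw [hG₆]
    simp only [Matrix.transpose_apply, Matrix.submatrix_apply, Matrix.kroneckerMap_apply, Matrix.neg_apply]
    have e1 : G₁ (t.symm j).1 (t.symm i).1 = G₁ (t.symm i).1 (t.symm j).1 := by
      have := congrFun (congrFun hG₁s (t.symm i).1) (t.symm j).1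
      rwa [Matrix.transpose_apply] at this
    have e2 : J (t.symm j).2 (t.symm i).2 = - J (t.symm i).2 (t.symm j).2 := by
      have := congrFun (congrFun hJT (t.symm i).2) (t.symm j).2
      rwa [Matrix.transpose_apply, Matrix.neg_apply] at this
    rw [e1, e2]
    ring
  have hG₆u : IsUnit G₆.det := by
    rw [hG₆, Matrix.det_submatrix_equiv_self, Matrix.det_kronecker, hJdet, one_pow, mul_one]
    exact isUnit_iff_ne_zero.mpr (pow_ne_zero _ hG₁det)
  have hg₂ : IsSymplecticForm (formOfGram id G₆) := isSymplecticForm_formOfGram h2 hG₆u hG₆T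
  have hgr₁ : gramMatrix (formOfGram id J) = J := by
    ext a b
    exact formOfGram_single (RingHom.id F) J a b
  have hgr₂ : gramMatrix (formOfGram id G₆) = G₆ := by
    ext a b
    exact formOfGram_single (RingHom.id F) G₆ a b
  -- the action of `P'`
  have hx : ∀ x : Fin 2 × Fin 6 → F, (P' : Matrix (Fin 12) (Fin 12) F) *ᵥ (x ∘ (e.trans ρ)) =
      (P : Matrix (Fin 12) (Fin 12) F) *ᵥ
        (((K₀ : Matrix (Fin 3 × Fin 4) (Fin 3 × Fin 4) F) *ᵥ (x ∘ ρ)) ∘ e) := by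
    intro x
    rw [hP', Units.val_mul, ← Matrix.mulVec_mulVec]
    congr 1
    exact glReindex_mulVec e K₀ (x ∘ ρ)
  have hconj : ((1 : Matrix (Fin 3) (Fin 3) F) ⊗ₖ V)ᵀ * (G₁ ⊗ₖ G₂) * ((1 : Matrix (Fin 3) (Fin 3) F) ⊗ₖ V) =
      G₁ ⊗ₖ ((2⁻¹ : F) • JJs) := by
    have h3 := kron_gram_conj (RingHom.id F) (1 : Matrix (Fin 3) (Fin 3) F) G₁ V G₂
    rw [hm, hm, hm, Matrix.transpose_one, Matrix.one_mul, Matrix.mul_one, hVgram] at h3
    exact h3
  -- the form in the new structure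
  have hform' : ∀ x y : Fin 2 × Fin 6 → F,
      QuadraticMap.polar Q ((P' : Matrix (Fin 12) (Fin 12) F) *ᵥ (x ∘ (e.trans ρ)))
        ((P' : Matrix (Fin 12) (Fin 12) F) *ᵥ (y ∘ (e.trans ρ))) =
        c * 2⁻¹ * formOfGram id (J ⊗ₖ G₆) x y := by
    intro x y
    rw [hx, hx, hform, mul_assoc]
    congr 1
    have h3 := formOfGram_mulVec (RingHom.id F) (G₁ ⊗ₖ G₂)
      (K₀ : Matrix (Fin 3 × Fin 4) (Fin 3 × Fin 4) F) (x ∘ ρ) (y ∘ ρ)
    rw [hm, hK₀v, hconj] at h3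
    rw [hK₀v]
    refine Eq.trans h3 ?_
    show formOfGram id (G₁ ⊗ₖ ((2⁻¹ : F) • JJs)) (x ∘ ρ) (y ∘ ρ) = 2⁻¹ * formOfGram id (J ⊗ₖ G₆) x y
    unfold formOfGram
    rw [Finset.mul_sum, ← Equiv.sum_comp ρ]
    apply Finset.sum_congr rfl
    intro p _
    rw [Finset.mul_sum, ← Equiv.sum_comp ρ]
    apply Finset.sum_congr rfl
    intro p' _
    have e1 : (G₁ ⊗ₖ ((2⁻¹ : F) • JJs)) p p' = 2⁻¹ * ((J ⊗ₖ G₆) (ρ p) (ρ p')) := by
      rw [hρa, hρa, hJJs, hG₆]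
      simp only [Matrix.kroneckerMap_apply, Matrix.smul_apply, Matrix.submatrix_apply, smul_eq_mul,
        Equiv.symm_apply_apply]
      ring
    simp only [Function.comp_apply, id]
    rw [e1]
    ring
  refine ⟨e.trans ρ, P', formOfGram id J, formOfGram id G₆, hg₁, hg₂,
    ⟨c * 2⁻¹, mul_ne_zero hc (inv_ne_zero h2), fun x y => by rw [hgr₁, hgr₂]; exact hform' x y⟩, ?_, ?_⟩
  · -- pure tensors are singular
    intro x₁ x₂
    have h3 := hform' (Cfsg.Agent.Helper7.TensNM.pt x₁ x₂) (Cfsg.Agent.Helper7.TensNM.pt x₁ x₂)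
    have h4 : formOfGram id (J ⊗ₖ G₆) (Cfsg.Agent.Helper7.TensNM.pt x₁ x₂) (Cfsg.Agent.Helper7.TensNM.pt x₁ x₂) =
        formOfGram id J x₁ x₁ * formOfGram id G₆ x₂ x₂ :=
      Cfsg.Agent.Helper7.TensNM.formOfGram_pt (RingHom.id F) J G₆ x₁ x₁ x₂ x₂
    have h5 : formOfGram id J x₁ x₁ = 0 := hg₁.alternating x₁
    rw [h4, h5, zero_mul, mul_zero, hpol] at h3
    rcases mul_eq_zero.1 h3 with h6 | h6
    · exact absurd h6 h2
    · exact h6
  · -- the group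
    intro h hh
    have hisoQ : ∀ w, Q ((h : Matrix (Fin 12) (Fin 12) F) *ᵥ w) = Q w := by
      have h3 : h ∈ isometryGroup F Q := by
        have h4 : omegaGL Q ≤ isometryGroup F Q := by
          unfold omegaGL
          exact Subgroup.map_subtype_le _
        exact h4 (hHΩ hh)
      exact mem_isometryGroup_iff.1 h3
    have hdet : (h : Matrix (Fin 12) (Fin 12) F).det = 1 := det_eq_one_of_mem_omegaGL (hHΩ hh)
    have hmem := hle hh
    unfold tensorProductSubgroup at hmem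
    rw [Subgroup.mem_map] at hmem
    obtain ⟨g', hg', hg'h⟩ := hmem
    rw [Subgroup.mem_map] at hg'
    obtain ⟨k, ⟨a, b, hk⟩, hkg'⟩ := hg'
    have hh' : h = P * glReindex e.symm k * P⁻¹ := by
      rw [← hg'h, ← hkg']
      rfl
    have hact : ∀ x : Fin 3 × Fin 4 → F, (h : Matrix (Fin 12) (Fin 12) F) *ᵥ
        ((P : Matrix (Fin 12) (Fin 12) F) *ᵥ (x ∘ e)) =
        (P : Matrix (Fin 12) (Fin 12) F) *ᵥ
          (((k : Matrix (Fin 3 × Fin 4) (Fin 3 × Fin 4) F) *ᵥ x) ∘ e) := by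
      intro x
      rw [hh', Matrix.mulVec_mulVec, ← Units.val_mul, inv_mul_cancel_right, Units.val_mul, ← Matrix.mulVec_mulVec]
      congr 1
      exact glReindex_mulVec e k x
    have hpolh : ∀ u v, QuadraticMap.polar Q ((h : Matrix (Fin 12) (Fin 12) F) *ᵥ u)
        ((h : Matrix (Fin 12) (Fin 12) F) *ᵥ v) = QuadraticMap.polar Q u v := by
      intro u v
      unfold QuadraticMap.polar
      rw [← Matrix.mulVec_add, hisoQ, hisoQ, hisoQ]
    have hpres : ((a : Matrix (Fin 3) (Fin 3) F) ⊗ₖ (b : Matrix (Fin 4) (Fin 4) F))ᵀ * (G₁ ⊗ₖ G₂) *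
        ((a : Matrix (Fin 3) (Fin 3) F) ⊗ₖ (b : Matrix (Fin 4) (Fin 4) F)) = G₁ ⊗ₖ G₂ := by
      rw [← hk]
      apply Cfsg.Agent.Helper7.TnSp.matrix_eq_of_forall_dot
      intro u v
      rw [Cfsg.Agent.Helper7.TnSp.dot_transpose_mul_mul, ← Cfsg.Agent.Helper7.TnSp.formOfGram_id,
        ← Cfsg.Agent.Helper7.TnSp.formOfGram_id]
      apply mul_left_cancel₀ hc
      rw [← hform, ← hform, ← hact, ← hact, hpolh]
    have h2' : ((a : Matrix (Fin 3) (Fin 3) F)ᵀ * G₁ * (a : Matrix (Fin 3) (Fin 3) F)) ⊗ₖ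
        ((b : Matrix (Fin 4) (Fin 4) F)ᵀ * G₂ * (b : Matrix (Fin 4) (Fin 4) F)) = G₁ ⊗ₖ G₂ := by
      rw [← hpres, Matrix.mul_kronecker_mul, Matrix.mul_kronecker_mul, Matrix.kroneckerMap_transpose]
    obtain ⟨ν, hν, hA, hB⟩ := Cfsg.Agent.Helper7.TnSp.kron_factor _ _ _ _ h2' hG₁ne hG₂ne
    -- the second factor in the hyperbolic frame
    obtain ⟨b', hb'⟩ : ∃ b' : Matrix (Fin 4) (Fin 4) F, b' = V' * (b : Matrix (Fin 4) (Fin 4) F) * V := ⟨_, rfl⟩
    have hb'sim : b'ᵀ * JJs * b' = ν⁻¹ • JJs := by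
      have h3 : b'ᵀ * (Vᵀ * G₂ * V) * b' = ν⁻¹ • (Vᵀ * G₂ * V) := by
        rw [hb']
        calc (V' * (b : Matrix (Fin 4) (Fin 4) F) * V)ᵀ * (Vᵀ * G₂ * V) * (V' * (b : Matrix (Fin 4) (Fin 4) F) * V)
            = Vᵀ * ((b : Matrix (Fin 4) (Fin 4) F)ᵀ * ((V * V')ᵀ * G₂ * (V * V')) *
                (b : Matrix (Fin 4) (Fin 4) F)) * V := by
              simp only [Matrix.transpose_mul, Matrix.mul_assoc]
          _ = Vᵀ * ((b : Matrix (Fin 4) (Fin 4) F)ᵀ * G₂ * (b : Matrix (Fin 4) (Fin 4) F)) * V := by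
              rw [hVV', Matrix.transpose_one, Matrix.one_mul, Matrix.mul_one]
          _ = ν⁻¹ • (Vᵀ * G₂ * V) := by
              rw [hB, Matrix.mul_smul, Matrix.smul_mul]
      rw [hVgram, Matrix.mul_smul, Matrix.smul_mul, smul_comm] at h3
      exact smul_right_injective _ (inv_ne_zero h2) h3
    obtain ⟨b'', hb''⟩ : ∃ b'' : Matrix (Fin 2 × Fin 2) (Fin 2 × Fin 2) F, b'' = b'.submatrix s.symm s.symm :=
      ⟨_, rfl⟩
    have hb'eq : b' = b''.submatrix s s := by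
      rw [hb'']
      ext i j
      simp
    have hb''sim : b''ᵀ * (J ⊗ₖ J) * b'' = ν⁻¹ • (J ⊗ₖ J) := by
      have h3 : (b''ᵀ * (J ⊗ₖ J) * b'').submatrix s s = (ν⁻¹ • (J ⊗ₖ J)).submatrix s s := by
        rw [← Matrix.submatrix_mul_equiv _ _ _ s, ← Matrix.submatrix_mul_equiv _ _ _ s,
          ← Matrix.transpose_submatrix, ← hb'eq, ← hJJs, hb'sim, hJJs, Matrix.submatrix_smul]
        rfl
      have h4 := congrArg (fun M => M.submatrix s.symm s.symm) h3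
      simpa using h4
    rw [hJ] at hb''sim
    rcases go4_kinds h2 b'' (inv_ne_zero hν) hb''sim with ⟨A, C, hA', hC', hAC⟩ | hdetb
    · -- a Kronecker product: regroup
      obtain ⟨AG, hAG⟩ : ∃ AG : GL (Fin 2) F, (AG : Matrix (Fin 2) (Fin 2) F) = A :=
        ⟨Matrix.GeneralLinearGroup.mkOfDetNeZero A hA'.ne_zero, rfl⟩
      obtain ⟨CG, hCG⟩ : ∃ CG : GL (Fin 2) F, (CG : Matrix (Fin 2) (Fin 2) F) = C :=
        ⟨Matrix.GeneralLinearGroup.mkOfDetNeZero C hC'.ne_zero, rfl⟩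
      obtain ⟨κ, hκ⟩ : ∃ κ : GL (Fin 2 × Fin 6) F, κ = kronGL AG (glReindex t (kronGL a CG)) := ⟨_, rfl⟩
      have hκm : κ ∈ kroneckerSubgroup 2 6 F := by
        rw [hκ]
        exact kronGL_mem _ _
      have hkey : glReindex ρ.symm κ = K₀⁻¹ * k * K₀ := by
        apply Units.ext
        rw [Units.val_mul, Units.val_mul, hK₀i, hK₀v, hk, ← Matrix.mul_kronecker_mul, ← Matrix.mul_kronecker_mul,
          Matrix.one_mul, Matrix.mul_one, ← hb']
        ext p p'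
        rw [glReindex_apply, Equiv.symm_symm, hκ, kronGL_val, Matrix.kroneckerMap_apply, glReindex_apply,
          kronGL_val, Matrix.kroneckerMap_apply, Matrix.kroneckerMap_apply, hAG, hCG]
        have hbe : b' p.2 p'.2 = A (s p.2).1 (s p'.2).1 * C (s p.2).2 (s p'.2).2 := by
          have h3 := congrFun (congrFun hAC (s p.2)) (s p'.2)
          rw [hb'', Matrix.submatrix_apply, Equiv.symm_apply_apply, Equiv.symm_apply_apply,
            Matrix.kroneckerMap_apply] at h3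
          exact h3
        rw [hbe, hρa, hρa]
        simp only [Equiv.symm_apply_apply]
        ring
      unfold tensorProductSubgroup
      rw [Subgroup.mem_map]
      refine ⟨glReindex (e.trans ρ).symm κ, ?_, ?_⟩
      · rw [Subgroup.mem_map]
        exact ⟨κ, hκm, rfl⟩
      · show P' * glReindex (e.trans ρ).symm κ * P'⁻¹ = h
        have h3 : glReindex (e.trans ρ).symm κ = glReindex e.symm (glReindex ρ.symm κ) := by
          apply Units.ext
          ext i j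
          rw [glReindex_apply, glReindex_apply, glReindex_apply]
          simp
        rw [h3, hkey, hP', hh', map_mul, map_mul, map_inv]
        group
    · -- the swap: excluded by the determinant
      exfalso
      have hdb' : b'.det = b''.det := by rw [hb'', Matrix.det_submatrix_equiv_self]
      have hVdd : V'.det * V.det = 1 := by rw [← Matrix.det_mul, hV'V, Matrix.det_one]
      have hdb : (b : Matrix (Fin 4) (Fin 4) F).det = b'.det := by
        rw [hb', Matrix.det_mul, Matrix.det_mul]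
        linear_combination (-(b : Matrix (Fin 4) (Fin 4) F).det) * hVdd
      have hda : (a : Matrix (Fin 3) (Fin 3) F).det ^ 2 = ν ^ 3 := by
        have h3 := congrArg Matrix.det hA
        rw [Matrix.det_mul, Matrix.det_mul, Matrix.det_transpose, Matrix.det_smul, Fintype.card_fin] at h3
        have h4 : G₁.det * ((a : Matrix (Fin 3) (Fin 3) F).det ^ 2 - ν ^ 3) = 0 := by linear_combination h3
        rcases mul_eq_zero.1 h4 with h5 | h5
        · exact absurd h5 hG₁det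
        · linear_combination h5
      have hPd : (P : Matrix (Fin 12) (Fin 12) F).det * ((P⁻¹ : GL (Fin 12) F) : Matrix (Fin 12) (Fin 12) F).det = 1 := by
        rw [← Matrix.det_mul, ← Units.val_mul, mul_inv_cancel, Units.val_one, Matrix.det_one]
      have hRd : ((glReindex e.symm k : GL (Fin 12) F) : Matrix (Fin 12) (Fin 12) F).det =
          (k : Matrix (Fin 3 × Fin 4) (Fin 3 × Fin 4) F).det :=
        Matrix.det_submatrix_equiv_self e (k : Matrix (Fin 3 × Fin 4) (Fin 3 × Fin 4) F)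
      have hdh : (h : Matrix (Fin 12) (Fin 12) F).det =
          (a : Matrix (Fin 3) (Fin 3) F).det ^ 4 * (b : Matrix (Fin 4) (Fin 4) F).det ^ 3 := by
        rw [hh', Units.val_mul, Units.val_mul, Matrix.det_mul, Matrix.det_mul, hRd, hk, Matrix.det_kronecker,
          Fintype.card_fin, Fintype.card_fin]
        linear_combination ((a : Matrix (Fin 3) (Fin 3) F).det ^ 4 * (b : Matrix (Fin 4) (Fin 4) F).det ^ 3) * hPd
      rw [hdet, hdb, hdb', hdetb] at hdh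
      have h6 : ν ^ 6 * (ν⁻¹) ^ 6 = 1 := by rw [← mul_pow, mul_inv_cancel₀ hν, one_pow]
      have h7 : (1 : F) = -1 := by
        calc (1 : F) = (a : Matrix (Fin 3) (Fin 3) F).det ^ 4 * (-(ν⁻¹) ^ 2) ^ 3 := hdh
          _ = -(((a : Matrix (Fin 3) (Fin 3) F).det ^ 2) ^ 2 * (ν⁻¹) ^ 6) := by ring
          _ = -(ν ^ 6 * (ν⁻¹) ^ 6) := by rw [hda]; ring
          _ = -1 := by rw [h6]
      apply h2
      linear_combination h7

end Cfsg.Agent.Helper5.AschOm3
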