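import Mathlib
import Cfsg.Prelude.Def_GeometricClasses
import Cfsg.Agent.Helper5.AschGramForm
import Cfsg.Agent.Helper5.AschOmM3e
import Cfsg.Agent.Helper7.AschSpT33
import Cfsg.Agent.Helper8.AschOmType
import Cfsg.Agent.Helper8.QuadTypeH

/-!
# ASCH-OM3, piece X5 `minus_of_tensor_sym_minus`

Symmetric ⊗ symmetric (`q` odd) with an odd-dimensional first factor and a second factor of minus type is of minus
type: after diagonalising the first factor the space is the orthogonal sum of `n₁` blocks, each similar to the second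
factor, hence of minus type; an odd number of minus blocks is of minus type.
-/

set_option autoImplicit false
set_option linter.style.haveILetI false
set_option linter.unusedSectionVars false
set_option linter.unusedVariables false
set_option linter.unnecessarySeqFocus false

namespace Cfsg.Agent.Helper5.AschOm3

open Cfsg Cfsg.Geo Cfsg.Agent.Helper7.TensNM Cfsg.Agent.Helper7.AschSpT33 Cfsg.Agent.Helper5.GramForm
  Cfsg.Agent.Helper5.AschOm
open scoped MatrixGroups Matrix Kronecker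

variable {n : ℕ} {F : Type*} [Field F]

/-- the form of a diagonal matrix on two standard basis vectors -/
theorem formOfGram_diag_ev {t : ℕ} (d : Fin t → F) (l l' : Fin t) :
    formOfGram (RingHom.id F) (Matrix.diagonal d) (ev F l) (ev F l') = if l = l' then d l else 0 := by
  unfold formOfGram
  rw [Finset.sum_eq_single l]
  · rw [Finset.sum_eq_single l']
    · rw [ev_apply, ev_apply, if_pos rfl, if_pos rfl, Matrix.diagonal_apply]
      by_cases h : l = l' <;> simp [h]
    · intro b _ hb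
      rw [ev_apply l' b, if_neg hb]
      simp
    · intro h
      exact absurd (Finset.mem_univ _) h
  · intro a _ ha
    apply Finset.sum_eq_zero
    intro b _
    rw [ev_apply l a, if_neg ha]
    simp
  · intro h
    exact absurd (Finset.mem_univ _) h

variable [Fintype F]

/-- X5 -/
theorem minus_of_tensor_sym_minus (hodd : Odd (Fintype.card F)) (Q : (Fin n → F) → F)
    (hQ : IsNondegenerateQuadraticForm Q) {n₁ n₂ : ℕ} (hn₁ : Odd n₁) (hn₂ : Even n₂)
    (e : Fin n ≃ Fin n₁ × Fin n₂) (P : GL (Fin n) F)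
    (f₁ : (Fin n₁ → F) → (Fin n₁ → F) → F) (f₂ : (Fin n₂ → F) → (Fin n₂ → F) → F)
    (h₁ : IsSymmetricForm f₁) (h₂ : IsSymmetricForm f₂)
    (hT : IsTensorFormStructure id (QuadraticMap.polar Q) f₁ f₂ e P)
    (hminus : ¬ IsPlusTypeOn (fun v : Fin n₂ → F => f₂ v v) ⊤) : ¬ IsPlusTypeOn Q ⊤ := by
  classical
  have h2 : (2 : F) ≠ 0 := two_ne_zero_of_odd_card hodd
  have hpol : ∀ v, QuadraticMap.polar Q v v = 2 * Q v := by
    intro v
    unfold QuadraticMap.polar
    have h3 : v + v = (2 : F) • v := (two_smul F v).symm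
    rw [h3, hQ.smul]
    ring
  obtain ⟨c, hc, hform⟩ := hT
  obtain ⟨U, U', d, hU, hU', hd, hG⟩ := exists_diag h2 (gramMatrix f₁) (gram_transpose h₁.symm)
    (gram_nondegenerate h₁.bilinear h₁.nondegenerate)
  have hf : ∀ (u u' : Fin n₁ → F) (y y' : Fin n₂ → F),
      QuadraticMap.polar Q (Rm e P *ᵥ pt u y) (Rm e P *ᵥ pt u' y') =
        c * (formOfGram (RingHom.id F) (gramMatrix f₁) u u' * formOfGram (RingHom.id F) (gramMatrix f₂) y y') := by
    intro u u' y y'
    rw [← mulVec_comp, ← mulVec_comp, hform]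
    have h1 := formOfGram_pt (RingHom.id F) (gramMatrix f₁) (gramMatrix f₂) u u' y y'
    exact congrArg (fun z => c * z) h1
  have hgram : ∀ y y' : Fin n₂ → F, formOfGram (RingHom.id F) (gramMatrix f₂) y y' = f₂ y y' :=
    fun y y' => (form_eq_gram h₂.bilinear y y').symm
  have hUmap : U.map (RingHom.id F) = U := by
    ext i j; rfl
  obtain ⟨R, hR⟩ : ∃ R, R = Rm e P * (U ⊗ₖ (1 : Matrix (Fin n₂) (Fin n₂) F)) := ⟨_, rfl⟩
  obtain ⟨R', hR'⟩ : ∃ R', R' = (U' ⊗ₖ (1 : Matrix (Fin n₂) (Fin n₂) F)) * Rm' e P := ⟨_, rfl⟩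
  have hRR' : R * R' = 1 := by
    rw [hR, hR', Matrix.mul_assoc, ← Matrix.mul_assoc (U ⊗ₖ 1), ← Matrix.mul_kronecker_mul, hU, Matrix.one_mul,
      Matrix.one_kronecker_one, Matrix.one_mul, Rm_mul_Rm']
  have hR'R : R' * R = 1 := by
    rw [hR, hR', Matrix.mul_assoc, ← Matrix.mul_assoc (Rm' e P), Rm'_mul_Rm, Matrix.one_mul,
      ← Matrix.mul_kronecker_mul, hU', Matrix.one_mul, Matrix.one_kronecker_one]
  -- the form on the blocks
  have hev : ∀ (l l' : Fin n₁) (y y' : Fin n₂ → F),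
      QuadraticMap.polar Q (R *ᵥ pt (ev F l) y) (R *ᵥ pt (ev F l') y') =
        if l = l' then c * d l * f₂ y y' else 0 := by
    intro l l' y y'
    rw [hR, ← Matrix.mulVec_mulVec, ← Matrix.mulVec_mulVec, kron_mulVec_pt, kron_mulVec_pt, Matrix.one_mulVec,
      Matrix.one_mulVec, hf, Cfsg.Agent.Helper7.TensNM.formOfGram_mulVec, hUmap, hG, formOfGram_diag_ev, hgram]
    split_ifs <;> ring
  -- the type calculus
  obtain ⟨Q', hQ'⟩ : ∃ Q' : QuadraticForm F (Fin n → F), Q' = Cfsg.Agent.Lead.AschOm.toQF Q hQ := ⟨_, rfl⟩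
  have hQ'a : ∀ v, Q' v = Q v := by
    intro v
    rw [hQ']
    rfl
  have hB : ∀ u v, QuadraticMap.polarBilin Q' u v = QuadraticMap.polar Q u v := by
    intro u v
    rw [hQ']
    rfl
  have hV : Cfsg.Agent.Helper7.SpOrd.ND (QuadraticMap.polarBilin Q') ⊤ := by
    rw [hQ']
    exact Cfsg.Agent.Helper8.QuadType.nd_top_of_nondeg (Cfsg.Agent.Lead.AschOm.toQF_nondeg Q hQ)
  have hnd : ∀ l, Cfsg.Agent.Helper7.SpOrd.ND (QuadraticMap.polarBilin Q') (blk R l) := by
    intro l u hu hu0
    obtain ⟨y, rfl⟩ := mem_blk.mp hu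
    have hy : y ≠ 0 := by
      intro hy
      apply hu0
      rw [hy, pt_zero_right, Matrix.mulVec_zero]
    obtain ⟨-, ⟨y₂, hy₂⟩⟩ := h₂.nondegenerate y hy
    refine ⟨_, mem_blk.mpr ⟨y₂, rfl⟩, ?_⟩
    rw [hB, hev, if_pos rfl]
    exact mul_ne_zero (mul_ne_zero hc (hd l)) hy₂
  have horth : ∀ i j, i ≠ j → blk R j ≤
      LinearMap.BilinForm.orthogonal (QuadraticMap.polarBilin Q') (blk R i) := by
    intro i j hij
    rw [hQ']
    rw [Cfsg.Agent.Helper8.AschOm.le_orth_iff_areOrthogonalFor Q hQ]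
    intro u hu v hv
    obtain ⟨y, rfl⟩ := mem_blk.mp hu
    obtain ⟨y', rfl⟩ := mem_blk.mp hv
    rw [hev, if_neg hij]
  have hfr : ∀ l, Module.finrank F (blk R l) = n₂ := by
    intro l
    rw [blk_eq_map R R' hRR' hR'R, LinearEquiv.finrank_map_eq, finrank_supp, Fintype.card_fin]
  have hevn : ∀ l, Even (Module.finrank F (blk R l)) := by
    intro l
    rw [hfr]
    exact hn₂
  have htop : (⨆ l, blk R l) = ⊤ := by
    have h : (⨆ l, blk R l) = (⨆ l : Fin n₁, supp F (Fin n₂) l).map (Matrix.mulVecLin R) := by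
      rw [Submodule.map_iSup]
      rfl
    rw [h, supp_iSup, Submodule.map_top, LinearMap.range_eq_top]
    intro v
    refine ⟨R' *ᵥ v, ?_⟩
    rw [Matrix.mulVecLin_apply, Matrix.mulVec_mulVec, hRR', Matrix.one_mulVec]
  have hp : ∀ l, Cfsg.Agent.Helper7.QTy.Hyp Q' (blk R l) ↔ False := by
    intro l
    refine ⟨?_, False.elim⟩
    rintro ⟨U₀, hU₀le, hU₀s, hU₀d⟩
    apply hminus
    obtain ⟨L, hL⟩ : ∃ L : (Fin n₂ → F) →ₗ[F] (Fin n → F),
        L = (blk R l).subtype ∘ₗ (blkEquiv R R' hRR' hR'R l).toLinearMap := ⟨_, rfl⟩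
    have hLa : ∀ y, L y = R *ᵥ pt (ev F l) y := by
      intro y
      rw [hL]
      rfl
    have hLinj : Function.Injective L := by
      rw [hL]
      exact (blk R l).injective_subtype.comp (blkEquiv R R' hRR' hR'R l).injective
    have hLr : LinearMap.range L = blk R l := by
      rw [hL, LinearMap.range_comp, LinearEquiv.range, Submodule.map_top, Submodule.range_subtype]
    refine ⟨U₀.comap L, le_top, ?_, ?_⟩
    · intro y hy
      have h3 : Q' (L y) = 0 := hU₀s (L y) hy
      rw [hQ'a] at h3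
      have h4 := hev l l y y
      rw [if_pos rfl, ← hLa, hpol, h3, mul_zero] at h4
      rcases mul_eq_zero.1 h4.symm with h5 | h5
      · exact absurd h5 (mul_ne_zero hc (hd l))
      · exact h5
    · have h3 : (U₀.comap L).map L = U₀ := by
        rw [Submodule.map_comap_eq, hLr]
        exact inf_eq_right.2 hU₀le
      have h4 : Module.finrank F (U₀.comap L) = Module.finrank F U₀ := by
        rw [(Submodule.equivMapOfInjective L hLinj (U₀.comap L)).finrank_eq, h3]
      rw [h4, hU₀d, hfr, finrank_top, Module.finrank_fin_fun]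
  have hmain := Cfsg.Agent.Helper8.QuadType.hyp_iSup_iff hV (blk R) False hnd horth hevn hp
  rw [htop] at hmain
  intro hplus
  have h5 : Cfsg.Agent.Helper7.QTy.Hyp Q' ⊤ := by
    rw [hQ']
    exact (Cfsg.Agent.Helper8.AschOm.hyp_iff_isPlusTypeOn Q hQ ⊤).2 hplus
  rcases hmain.1 h5 with h6 | h6
  · exact (Nat.not_even_iff_odd.2 hn₁) h6
  · exact h6

end Cfsg.Agent.Helper5.AschOm3
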