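import Mathlib
import Cfsg.Prelude.Def_GeometricClasses
import Cfsg.Agent.Lead.AschBase
import Cfsg.Agent.Helper5.AschGramForm
import Cfsg.Agent.Helper8.SpEvenH
import Cfsg.Agent.Helper8.AschSpO2B

/-!
# ASCH-OM, piece M3d `plus_of_tensor_sym_plus`

Symmetric ⊗ symmetric (`q` odd) with a second factor of plus type is of plus type: if `U₂` is a totally singular
subspace of half dimension of the second factor, then `F^{n₁} ⊗ U₂` is one of the tensor product.
-/

set_option autoImplicit false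
set_option linter.style.haveILetI false
set_option linter.unusedSectionVars false
set_option linter.unusedVariables false

namespace Cfsg.Agent.Helper5.AschOm

open Cfsg Cfsg.Geo Cfsg.Agent.Lead.Asch Cfsg.Agent.Helper5.GramForm Cfsg.Agent.Helper8.SpEven
open scoped MatrixGroups Matrix Kronecker

variable {n : ℕ} {F : Type*} [Field F]

/-- the form of a Kronecker product, row by row -/
theorem formOfGram_kron_rows {n₁ n₂ : ℕ} (G₁ : Matrix (Fin n₁) (Fin n₁) F) (G₂ : Matrix (Fin n₂) (Fin n₂) F)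
    (x y : Fin n₁ × Fin n₂ → F) :
    formOfGram id (G₁ ⊗ₖ G₂) x y =
      ∑ a, ∑ b, G₁ a b * formOfGram id G₂ (fun i => x (a, i)) (fun j => y (b, j)) := by
  unfold formOfGram
  simp only [Fintype.sum_prod_type, Matrix.kroneckerMap_apply, id]
  apply Finset.sum_congr rfl
  intro a _
  rw [Finset.sum_comm]
  apply Finset.sum_congr rfl
  intro b _
  rw [Finset.mul_sum]
  apply Finset.sum_congr rfl
  intro i _
  rw [Finset.mul_sum]
  apply Finset.sum_congr rfl
  intro j _
  ring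

/-- the vectors of `F^{n₁} ⊗ F^{n₂}` all of whose rows lie in `U₂` -/
def rowsSub {n₁ n₂ : ℕ} (U₂ : Submodule F (Fin n₂ → F)) : Submodule F (Fin n₁ × Fin n₂ → F) where
  carrier := {x | ∀ a, (fun j => x (a, j)) ∈ U₂}
  add_mem' := fun {x y} hx hy a => U₂.add_mem (hx a) (hy a)
  zero_mem' := fun a => U₂.zero_mem
  smul_mem' := fun c x hx a => U₂.smul_mem c (hx a)

theorem mem_rowsSub {n₁ n₂ : ℕ} (U₂ : Submodule F (Fin n₂ → F)) (x : Fin n₁ × Fin n₂ → F) :
    x ∈ rowsSub (n₁ := n₁) U₂ ↔ ∀ a, (fun j => x (a, j)) ∈ U₂ := Iff.rfl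

/-- `rowsSub U₂ ≅ U₂^{n₁}` -/
def rowsEquiv {n₁ n₂ : ℕ} (U₂ : Submodule F (Fin n₂ → F)) :
    rowsSub (n₁ := n₁) U₂ ≃ₗ[F] (Fin n₁ → U₂) where
  toFun x := fun a => ⟨fun j => x.1 (a, j), x.2 a⟩
  invFun y := ⟨fun p => (y p.1).1 p.2, fun a => (y a).2⟩
  map_add' := fun x y => rfl
  map_smul' := fun c x => rfl
  left_inv := fun x => rfl
  right_inv := fun y => rfl

theorem finrank_rowsSub {n₁ n₂ : ℕ} (U₂ : Submodule F (Fin n₂ → F)) :
    Module.finrank F (rowsSub (n₁ := n₁) U₂) = n₁ * Module.finrank F U₂ := by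
  rw [(rowsEquiv (n₁ := n₁) U₂).finrank_eq, Module.finrank_pi_fintype, Finset.sum_const, Finset.card_univ,
    Fintype.card_fin, smul_eq_mul]

/-- M3d -/
theorem plus_of_tensor_sym_plus [Fintype F] (hodd : Odd (Fintype.card F)) (Q : (Fin n → F) → F)
    (hQ : IsNondegenerateQuadraticForm Q) {n₁ n₂ : ℕ} (e : Fin n ≃ Fin n₁ × Fin n₂) (P : GL (Fin n) F)
    (f₁ : (Fin n₁ → F) → (Fin n₁ → F) → F) (f₂ : (Fin n₂ → F) → (Fin n₂ → F) → F)
    (h₁ : IsSymmetricForm f₁) (h₂ : IsSymmetricForm f₂)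
    (hT : IsTensorFormStructure id (QuadraticMap.polar Q) f₁ f₂ e P)
    (hplus : IsPlusTypeOn (fun v : Fin n₂ → F => f₂ v v) ⊤) : IsPlusTypeOn Q ⊤ := by
  classical
  have h2 : (2 : F) ≠ 0 := two_ne_zero_of_odd_card hodd
  obtain ⟨U₂, -, hU₂s, hU₂d⟩ := hplus
  obtain ⟨c, hc0, hc⟩ := hT
  have hU₂s' : ∀ w ∈ U₂, f₂ w w = 0 := hU₂s
  -- `U₂` is totally isotropic
  have hiso : ∀ u ∈ U₂, ∀ v ∈ U₂, f₂ u v = 0 := by
    intro u hu v hv
    have h3 := hU₂s' (u + v) (U₂.add_mem hu hv)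
    rw [h₂.bilinear.add_left, h₂.bilinear.add_right, h₂.bilinear.add_right, hU₂s' u hu, hU₂s' v hv,
      h₂.symm v u] at h3
    have h4 : (2 : F) * f₂ u v = 0 := by linear_combination h3
    rcases mul_eq_zero.1 h4 with h5 | h5
    · exact absurd h5 h2
    · exact h5
  have hpol : ∀ v, QuadraticMap.polar Q v v = 2 * Q v := by
    intro v
    unfold QuadraticMap.polar
    have h3 : v + v = (2 : F) • v := (two_smul F v).symm
    rw [h3, hQ.smul]
    ring
  have hcard : n = n₁ * n₂ := by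
    have := Fintype.card_congr e
    simpa using this
  refine ⟨(rowsSub (n₁ := n₁) U₂).map (tauLin e P), le_top, ?_, ?_⟩
  · rintro _ ⟨x, hx, rfl⟩
    have h3 : QuadraticMap.polar Q (tauLin e P x) (tauLin e P x) = 0 := by
      rw [tauLin_apply, hc, formOfGram_kron_rows]
      have h4 : ∀ a b, formOfGram id (gramMatrix f₂) (fun i => x (a, i)) (fun j => x (b, j)) = 0 := by
        intro a b
        rw [← Cfsg.Agent.Helper8.AschSp.bilin_eq_formOfGram h₂.bilinear]
        exact hiso _ (hx a) _ (hx b)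
      simp only [h4, mul_zero, Finset.sum_const_zero]
    rw [hpol] at h3
    rcases mul_eq_zero.1 h3 with h5 | h5
    · exact absurd h5 h2
    · exact h5
  · rw [← (Submodule.equivMapOfInjective (tauLin e P) (tauLin_injective e P) (rowsSub (n₁ := n₁) U₂)).finrank_eq,
      finrank_rowsSub, finrank_top, Module.finrank_fin_fun, hcard]
    rw [finrank_top, Module.finrank_fin_fun] at hU₂d
    calc 2 * (n₁ * Module.finrank F U₂) = n₁ * (2 * Module.finrank F U₂) := by ring
      _ = n₁ * n₂ := by rw [hU₂d]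

end Cfsg.Agent.Helper5.AschOm
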