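import Mathlib
import Cfsg.Prelude.Def_GeometricClasses
import Cfsg.Agent.Helper3.AschUSubA
import Cfsg.Agent.Helper5.AschForm8
import Cfsg.Agent.Helper5.AschGramForm
import Cfsg.Agent.Helper9.AschC6Base

/-!
# ASCH-PP, pieces G4a `unitary_of_twist` and G4b `bilinear_of_twist`

If `x J = J σ(x⁻ᵀ)` for all `x` in an absolutely irreducible group `N`, then `G := J⁻ᵀ` satisfies `xᵀ G σ(x) = G`;
so does `σ(G)ᵀ`, hence `σ(G)ᵀ = c G`, and a scalar multiple of `G` is Hermitian (`σ` of order two) resp.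
`G` is symmetric or skew-symmetric (`σ = 1`, odd characteristic).
-/

set_option autoImplicit false
set_option linter.style.haveILetI false
set_option linter.unusedSectionVars false
set_option linter.unusedVariables false

namespace Cfsg.Agent.Helper5.AschPP

open Cfsg Cfsg.Geo Cfsg.Agent.Helper9.AschC6 Cfsg.Agent.Helper5.AschF Cfsg.Agent.Helper5.GramForm
open Cfsg.Agent.Helper3.AschU Cfsg.Agent.Helper7.Herm
open scoped MatrixGroups Matrix

variable {n : ℕ} {F : Type*} [Field F]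

/-- from `x J = J τ(x⁻ᵀ)` to the invariance of the Gram matrix `J⁻ᵀ` -/
theorem gramInv_of_twist (τ : F →+* F) (J x : GL (Fin n) F)
    (h : (x : Matrix (Fin n) (Fin n) F) * (J : Matrix (Fin n) (Fin n) F) =
      (J : Matrix (Fin n) (Fin n) F) * (((x⁻¹ : GL (Fin n) F) : Matrix (Fin n) (Fin n) F)ᵀ).map τ) :
    GramInv τ (x : Matrix (Fin n) (Fin n) F) ((J⁻¹ : GL (Fin n) F) : Matrix (Fin n) (Fin n) F)ᵀ := by
  obtain ⟨X, hX⟩ : ∃ X : Matrix (Fin n) (Fin n) F, X = (x : Matrix (Fin n) (Fin n) F) := ⟨_, rfl⟩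
  obtain ⟨Xi, hXi⟩ : ∃ X : Matrix (Fin n) (Fin n) F, X = ((x⁻¹ : GL (Fin n) F) : Matrix (Fin n) (Fin n) F) :=
    ⟨_, rfl⟩
  obtain ⟨Jm, hJm⟩ : ∃ X : Matrix (Fin n) (Fin n) F, X = (J : Matrix (Fin n) (Fin n) F) := ⟨_, rfl⟩
  obtain ⟨Ji, hJi⟩ : ∃ X : Matrix (Fin n) (Fin n) F, X = ((J⁻¹ : GL (Fin n) F) : Matrix (Fin n) (Fin n) F) :=
    ⟨_, rfl⟩
  have hJJ : Jiᵀ * Jmᵀ = 1 := by
    rw [hJi, hJm, ← Matrix.transpose_mul, ← Units.val_mul, mul_inv_cancel, Units.val_one, Matrix.transpose_one]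
  have hJJ' : Jmᵀ * Jiᵀ = 1 := by
    rw [hJi, hJm, ← Matrix.transpose_mul, ← Units.val_mul, inv_mul_cancel, Units.val_one, Matrix.transpose_one]
  have hXX : Xi.map τ * X.map τ = 1 := by
    rw [hXi, hX, ← Matrix.map_mul, ← Units.val_mul, inv_mul_cancel, Units.val_one,
      Matrix.map_one _ (map_zero τ) (map_one τ)]
  rw [← hX, ← hXi, ← hJm] at h
  rw [← hX, ← hJi]
  have h2 : Jmᵀ * Xᵀ = Xi.map τ * Jmᵀ := by
    have := congrArg Matrix.transpose h
    rw [Matrix.transpose_mul, Matrix.transpose_mul, Matrix.transpose_map, Matrix.transpose_transpose] at this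
    exact this
  show Xᵀ * Jiᵀ * X.map τ = Jiᵀ
  calc Xᵀ * Jiᵀ * X.map τ = Jiᵀ * (Jmᵀ * Xᵀ) * Jiᵀ * X.map τ := by rw [← mul_assoc Jiᵀ, hJJ, one_mul]
    _ = Jiᵀ * (Xi.map τ * (Jmᵀ * Jiᵀ) * X.map τ) := by rw [h2]; simp only [mul_assoc]
    _ = Jiᵀ := by rw [hJJ', mul_one, hXX, mul_one]

/-- with `G` also `τ(G)ᵀ` is invariant (`τ` an involution) -/
theorem gramInv_conj (τ : F →+* F) (hτ : ∀ a, τ (τ a) = a) {X G : Matrix (Fin n) (Fin n) F}
    (h : GramInv τ X G) : GramInv τ X (G.map τ)ᵀ := by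
  have h1 : ((Xᵀ * G * X.map τ).map τ)ᵀ = (G.map τ)ᵀ := by rw [h]
  have h2 : (X.map τ).map τ = X := by
    ext i j
    simp [hτ]
  rw [Matrix.map_mul, Matrix.map_mul, Matrix.transpose_mul, Matrix.transpose_mul, h2,
    Matrix.transpose_map, Matrix.transpose_transpose, ← mul_assoc] at h1
  exact h1

theorem map_smul_transpose (τ : F →+* F) (d : F) (G : Matrix (Fin n) (Fin n) F) :
    ((d • G).map τ)ᵀ = τ d • (G.map τ)ᵀ := by
  ext i j
  simp

/-- G4a -/
theorem unitary_of_twist [Fintype F] {q₀ : ℕ} (hF : Fintype.card F = q₀ ^ 2)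
    {N : Subgroup (GL (Fin n) F)} (hN : ActsAbsolutelyIrreducibly (matrixSet N)) (J : GL (Fin n) F)
    (hJ : ∀ x ∈ N, (x : GL (Fin n) F) * J =
      J * Matrix.GeneralLinearGroup.map (Cfsg.Agent.Helper3.AschU.sigq hF : F ≃+* F).toRingHom (tinv x)) :
    ∃ f : (Fin n → F) → (Fin n → F) → F, IsUnitaryForm (Cfsg.Agent.Helper3.AschU.sigq hF) f ∧
      FixesForm (matrixSet N) f := by
  classical
  have hne : sigq hF ≠ RingEquiv.refl F := by
    intro h
    obtain ⟨a, ha⟩ := exists_pow_q_ne hF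
    apply ha
    exact congrArg (fun e : F ≃+* F => e a) h
  have hinv : ∀ a, sigq hF (sigq hF a) = a := fun a => pow_q_pow_q hF a
  rcases Nat.eq_zero_or_pos n with hn0 | hn
  · subst hn0
    refine ⟨fun _ _ => 0, ⟨hne, hinv, by simp, by simp, fun _ _ => (map_zero (sigq hF)).symm, ?_⟩,
      fun s _ u v => rfl⟩
    intro v hv
    exact absurd (Subsingleton.elim v 0) hv
  haveI : Nonempty (Fin n) := ⟨⟨0, hn⟩⟩
  obtain ⟨τ, hτdef⟩ : ∃ τ : F →+* F, τ = (sigq hF : F ≃+* F).toRingHom := ⟨_, rfl⟩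
  have hτapp : ∀ a, τ a = sigq hF a := fun a => by rw [hτdef]; rfl
  have hτ2 : ∀ a, τ (τ a) = a := fun a => by rw [hτapp, hτapp]; exact hinv a
  obtain ⟨G, hGdef⟩ : ∃ G : Matrix (Fin n) (Fin n) F,
      G = ((J⁻¹ : GL (Fin n) F) : Matrix (Fin n) (Fin n) F)ᵀ := ⟨_, rfl⟩
  have hGu : IsUnit G.det := by
    rw [hGdef, Matrix.det_transpose]
    exact Matrix.isUnits_det_units _
  have hG0 : G ≠ 0 := by
    intro h
    rw [h, Matrix.det_zero] at hGu
    exact not_isUnit_zero hGu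
  have hRu : ∀ r ∈ matrixSet N, IsUnit r.det := by
    rintro _ ⟨x, hx, rfl⟩
    exact Matrix.isUnits_det_units x
  have hG : ∀ r ∈ matrixSet N, GramInv τ r G := by
    rintro _ ⟨x, hx, rfl⟩
    rw [hGdef]
    apply gramInv_of_twist τ J x
    have := congrArg (fun g : GL (Fin n) F => (g : Matrix (Fin n) (Fin n) F)) (hJ x hx)
    rw [hτdef]
    exact this
  have hG' : ∀ r ∈ matrixSet N, GramInv τ r (G.map τ)ᵀ := fun r hr => gramInv_conj τ hτ2 (hG r hr)
  obtain ⟨c, hc⟩ := gram_unique τ hN hRu hG hG' hG0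
  have hcc : τ c * c = 1 := by
    have h1 : G = (τ c * c) • G := by
      have h0 : (((G.map τ)ᵀ).map τ)ᵀ = G := by
        ext i j
        simp [hτ2]
      conv_lhs => rw [← h0, hc]
      rw [map_smul_transpose, hc, smul_smul]
    by_contra hne1
    apply hG0
    have h3 : (1 - τ c * c) • G = 0 := by rw [sub_smul, one_smul, ← h1, sub_self]
    rcases smul_eq_zero.1 h3 with h4 | h4
    · exact absurd (sub_eq_zero.1 h4).symm hne1
    · exact h4
  obtain ⟨d, hd0, hd⟩ : ∃ d : F, d ≠ 0 ∧ τ d * c = d := by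
    by_cases hc1 : 1 + c = 0
    · obtain ⟨w, hw⟩ := exists_pow_q_ne hF
      have hcm : c = -1 := by linear_combination hc1
      refine ⟨w - τ w, ?_, ?_⟩
      · intro h
        apply hw
        have := (sub_eq_zero.1 h).symm
        rw [hτapp] at this
        exact this
      · rw [hcm, map_sub, hτ2]
        ring
    · refine ⟨1 + c, hc1, ?_⟩
      rw [map_add, map_one, add_mul, one_mul, hcc, add_comm]
  have hG₂u : IsUnit (d • G).det := by
    rw [Matrix.det_smul]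
    exact (IsUnit.pow _ hd0.isUnit).mul hGu
  have hG₂H : (((d • G).map τ))ᵀ = d • G := by
    rw [map_smul_transpose, hc, smul_smul, hd]
  have hG₂ : ∀ r ∈ matrixSet N, GramInv τ r (d • G) := by
    intro r hr
    show rᵀ * (d • G) * r.map τ = d • G
    rw [Matrix.mul_smul, Matrix.smul_mul, hG r hr]
  have hform : IsUnitaryForm (sigq hF) (formOfGram τ (d • G)) := by
    have h5 : ((d • G).map (sigq hF))ᵀ = d • G := by
      rw [hτdef] at hG₂H
      exact hG₂H
    have := isUnitaryForm_formOfGram (sigq hF) hne hinv hG₂u h5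
    rw [hτdef]
    exact this
  exact ⟨formOfGram τ (d • G), hform, fun s hs u v => formOfGram_fixes τ (hG₂ s hs) u v⟩

/-- G4b -/
theorem bilinear_of_twist [Fintype F] (hodd : Odd (Fintype.card F))
    {N : Subgroup (GL (Fin n) F)} (hN : ActsAbsolutelyIrreducibly (matrixSet N)) (J : GL (Fin n) F)
    (hJ : ∀ x ∈ N, (x : GL (Fin n) F) * J = J * tinv x) :
    (∃ f : (Fin n → F) → (Fin n → F) → F, IsSymplecticForm f ∧ FixesForm (matrixSet N) f) ∨
    (∃ Q : (Fin n → F) → F, IsNondegenerateQuadraticForm Q ∧ FixesQuadForm (matrixSet N) Q) := by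
  classical
  have h2 : (2 : F) ≠ 0 := two_ne_zero_of_odd_card hodd
  rcases Nat.eq_zero_or_pos n with hn0 | hn
  · subst hn0
    left
    refine ⟨fun _ _ => 0, ⟨⟨by simp, by simp, by simp, by simp⟩, by simp, by simp, ?_⟩, fun s _ u v => rfl⟩
    intro v hv
    exact absurd (Subsingleton.elim v 0) hv
  haveI : Nonempty (Fin n) := ⟨⟨0, hn⟩⟩
  obtain ⟨τ, hτdef⟩ : ∃ τ : F →+* F, τ = RingHom.id F := ⟨_, rfl⟩
  have hmapτ : ∀ M : Matrix (Fin n) (Fin n) F, M.map τ = M := by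
    intro M
    ext i j
    rw [hτdef]
    rfl
  obtain ⟨G, hGdef⟩ : ∃ G : Matrix (Fin n) (Fin n) F,
      G = ((J⁻¹ : GL (Fin n) F) : Matrix (Fin n) (Fin n) F)ᵀ := ⟨_, rfl⟩
  have hGu : IsUnit G.det := by
    rw [hGdef, Matrix.det_transpose]
    exact Matrix.isUnits_det_units _
  have hG0 : G ≠ 0 := by
    intro h
    rw [h, Matrix.det_zero] at hGu
    exact not_isUnit_zero hGu
  have hRu : ∀ r ∈ matrixSet N, IsUnit r.det := by
    rintro _ ⟨x, hx, rfl⟩
    exact Matrix.isUnits_det_units x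
  have hG : ∀ r ∈ matrixSet N, GramInv τ r G := by
    rintro _ ⟨x, hx, rfl⟩
    rw [hGdef]
    apply gramInv_of_twist τ J x
    rw [hmapτ]
    exact congrArg (fun g : GL (Fin n) F => (g : Matrix (Fin n) (Fin n) F)) (hJ x hx)
  have hG' : ∀ r ∈ matrixSet N, GramInv τ r Gᵀ := by
    intro r hr
    have := gramInv_conj τ (fun a => by rw [hτdef]; rfl) (hG r hr)
    rw [hmapτ] at this
    exact this
  obtain ⟨c, hc⟩ := gram_unique τ hN hRu hG hG' hG0
  have hcc : c * c = 1 := by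
    have h1 : G = (c * c) • G := by
      conv_lhs => rw [← Matrix.transpose_transpose G, hc, Matrix.transpose_smul, hc, smul_smul]
    by_contra hne1
    apply hG0
    have h3 : (1 - c * c) • G = 0 := by rw [sub_smul, one_smul, ← h1, sub_self]
    rcases smul_eq_zero.1 h3 with h4 | h4
    · exact absurd (sub_eq_zero.1 h4).symm hne1
    · exact h4
  have hfix : ∀ s ∈ matrixSet N, ∀ u v, formOfGram id G (s *ᵥ u) (s *ᵥ v) = formOfGram id G u v := by
    intro s hs u v
    have h3 := hG s hs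
    rw [hτdef] at h3
    exact formOfGram_fixes (RingHom.id F) h3 u v
  have hc1 : c = 1 ∨ c = -1 := by
    have : (c - 1) * (c + 1) = 0 := by linear_combination hcc
    rcases mul_eq_zero.1 this with h | h
    · left; exact sub_eq_zero.1 h
    · right; exact eq_neg_of_add_eq_zero_left h
  rcases hc1 with h1 | h1
  · right
    rw [h1, one_smul] at hc
    exact ⟨fun v => formOfGram id G v v, isNondegenerateQuadraticForm_formOfGram h2 hGu hc,
      fun s hs v => hfix s hs v v⟩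
  · left
    rw [h1, neg_one_smul] at hc
    exact ⟨formOfGram id G, isSymplecticForm_formOfGram h2 hGu hc, hfix⟩

end Cfsg.Agent.Helper5.AschPP
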