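import Mathlib
import Cfsg.Prelude.Def_GeometricClasses
import Cfsg.Agent.Helper5.AschCUT3
import Cfsg.Agent.Helper5.AschU5a

/-!
# ASCH-PP-U, piece U23-A `tensorSquare_normalize`

A unitary tensor-square structure `f ≃ c • (f₁ ⊗ f₁)` on the standard unitary space can be normalised: after replacing
`P` by `μ • P · (a ⊗ a)` with `aᵀ G₁ a^σ = 1` and `μ ^ (q + 1) = c⁻¹`, the form is the standard Hermitian form on
`F ^ (Fin 2 → Fin k)`, and the tensor-wreath subgroup does not change.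
-/

set_option autoImplicit false
set_option linter.style.haveILetI false
set_option linter.unusedSectionVars false
set_option linter.unusedVariables false
set_option linter.unnecessarySeqFocus false

namespace Cfsg.Agent.Helper5.U23

open Cfsg Cfsg.Geo Cfsg.Agent.Helper5.GramForm Cfsg.Agent.Helper6.AschGen Cfsg.Agent.Helper9.AschComp
  Cfsg.Agent.Helper5.AschCU Cfsg.Agent.Helper3.AschU
open scoped MatrixGroups Matrix Kronecker

variable {n : ℕ} {F : Type*} [Field F]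

/-- a non-zero scalar matrix, as an invertible matrix -/
def scalGL (n : ℕ) (c : F) (hc : c ≠ 0) : GL (Fin n) F :=
  ⟨c • 1, c⁻¹ • 1, by rw [smul_mul_smul_comm, mul_inv_cancel₀ hc, one_mul, one_smul],
    by rw [smul_mul_smul_comm, inv_mul_cancel₀ hc, one_mul, one_smul]⟩

theorem scalGL_val (n : ℕ) (c : F) (hc : c ≠ 0) :
    ((scalGL n c hc : GL (Fin n) F) : Matrix (Fin n) (Fin n) F) = c • 1 := rfl

theorem scalGL_comm (c : F) (hc : c ≠ 0) (g : GL (Fin n) F) : g * scalGL n c hc = scalGL n c hc * g := by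
  apply Units.ext
  rw [Units.val_mul, Units.val_mul, scalGL_val, Matrix.mul_smul, Matrix.smul_mul, Matrix.mul_one, Matrix.one_mul]

section unitary

variable [Fintype F]

/-- a non-degenerate unitary form has an orthonormal basis -/
theorem exists_unit_gram (q : ℕ) (hF : Fintype.card F = q ^ 2) {k : ℕ}
    {f₁ : (Fin k → F) → (Fin k → F) → F} (h₁ : IsUnitaryFormPow q f₁) :
    ∃ a : GL (Fin k) F, (a : Matrix (Fin k) (Fin k) F)ᵀ * gramMatrix f₁ *
      (a : Matrix (Fin k) (Fin k) F).map (sigq hF : F →+* F) = 1 := by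
  haveI : Fact (Fintype.card F = q ^ 2) := ⟨hF⟩
  obtain ⟨P₁, hP₁⟩ := Cfsg.Agent.Helper8.HermReg.exists_herm_factor_gen (q := q) (gramMatrix f₁)
    (fun i j => Cfsg.Agent.Helper8.SLU.gram_herm h₁ i j) (Cfsg.Agent.Helper8.SLU.gram_det_ne_zero h₁)
  have hm : ∀ M : Matrix (Fin k) (Fin k) F, M.map (· ^ q) = M.map (sigq hF : F →+* F) := fun M => rfl
  rw [hm] at hP₁
  have hd₁ : P₁.det ≠ 0 := by
    intro h0
    apply Cfsg.Agent.Helper8.SLU.gram_det_ne_zero h₁
    rw [← hP₁, Matrix.det_mul, Matrix.det_transpose, h0, zero_mul]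
  have hu₁ : IsUnit P₁.det := isUnit_iff_ne_zero.mpr hd₁
  have h1 : P₁ * P₁⁻¹ = 1 := Matrix.mul_nonsing_inv P₁ hu₁
  have h2 : P₁⁻¹ * P₁ = 1 := Matrix.nonsing_inv_mul P₁ hu₁
  obtain ⟨Y, hY⟩ : ∃ Y, Y = P₁⁻¹ := ⟨_, rfl⟩
  rw [← hY] at h1 h2
  have hdY : Y.det ≠ 0 := by
    intro h0
    have := congrArg Matrix.det h1
    rw [Matrix.det_mul, h0, mul_zero, Matrix.det_one] at this
    exact zero_ne_one this
  refine ⟨Matrix.GeneralLinearGroup.mkOfDetNeZero Y hdY, ?_⟩
  show Yᵀ * gramMatrix f₁ * Y.map (sigq hF : F →+* F) = 1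
  have t1 : Yᵀ * P₁ᵀ = 1 := by rw [← Matrix.transpose_mul, h1, Matrix.transpose_one]
  have s1 : P₁.map (sigq hF : F →+* F) * Y.map (sigq hF : F →+* F) = 1 := by
    rw [← Matrix.map_mul, h1, Matrix.map_one _ (map_zero _) (map_one _)]
  rw [← hP₁]
  calc Yᵀ * (P₁ᵀ * P₁.map (sigq hF : F →+* F)) * Y.map (sigq hF : F →+* F)
      = (Yᵀ * P₁ᵀ) * (P₁.map (sigq hF : F →+* F) * Y.map (sigq hF : F →+* F)) := by
        simp only [Matrix.mul_assoc]
    _ = 1 := by rw [t1, s1, Matrix.mul_one]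

/-- the value `h(v, v)` of the standard Hermitian form lies in the fixed field -/
theorem hermForm_self_pow (q : ℕ) (hF : Fintype.card F = q ^ 2) (v : Fin n → F) :
    (hermForm n F q v v) ^ q = hermForm n F q v v := by
  have h1 : (hermForm n F q v v) ^ q = (sigq hF : F →+* F) (hermForm n F q v v) := rfl
  rw [h1]
  unfold hermForm
  rw [map_sum]
  apply Finset.sum_congr rfl
  intro i _
  rw [map_mul]
  show (v i) ^ q * ((v i) ^ q) ^ q = v i * (v i) ^ q
  have h2 : ((v i) ^ q) ^ q = v i := by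
    rw [← pow_mul, ← pow_two, ← hF, FiniteField.pow_card]
  rw [h2, mul_comm]

/-- **U23-A**: normalise a unitary tensor-square structure -/
theorem tensorSquare_normalize (q : ℕ) (hF : Fintype.card F = q ^ 2) (k : ℕ)
    (e : Fin n ≃ (Fin 2 → Fin k)) (P : GL (Fin n) F) (f₁ : (Fin k → F) → (Fin k → F) → F)
    (h₁ : IsUnitaryFormPow q f₁)
    (hT : IsTensorPowerFormStructure (fun x : F => x ^ q) (hermForm n F q) f₁ e P) :
    ∃ P' : GL (Fin n) F, tensorWreathSubgroup k 2 e P ≤ tensorWreathSubgroup k 2 e P' ∧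
      ∀ x y : (Fin 2 → Fin k) → F,
        hermForm n F q ((P' : Matrix (Fin n) (Fin n) F) *ᵥ (x ∘ e)) ((P' : Matrix (Fin n) (Fin n) F) *ᵥ (y ∘ e)) =
          ∑ a, x a * y a ^ q := by
  classical
  obtain ⟨a, ha⟩ := exists_unit_gram q hF h₁
  obtain ⟨c, hc, hform⟩ := hT
  obtain ⟨K₀, hK₀⟩ : ∃ K₀ : GL (Fin k × Fin k) F, K₀ = kronGL a a := ⟨_, rfl⟩
  have hK₀v : (K₀ : Matrix (Fin k × Fin k) (Fin k × Fin k) F) =
      (a : Matrix (Fin k) (Fin k) F) ⊗ₖ (a : Matrix (Fin k) (Fin k) F) := by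
    rw [hK₀, kronGL_val]
  have hK₀m : K₀ ∈ kroneckerSubgroup k k F := by rw [hK₀]; exact kronGL_mem a a
  obtain ⟨K, hK⟩ : ∃ K : GL (Fin 2 → Fin k) F, K = glReindex (pairEquiv k) K₀ := ⟨_, rfl⟩
  have hKm : K ∈ tensorWreathStandard k 2 F := by rw [hK]; exact reindex_kronecker_mem k hK₀m
  obtain ⟨P₁, hP₁⟩ : ∃ P₁ : GL (Fin n) F, P₁ = P * glReindex e.symm K := ⟨_, rfl⟩
  -- the action of `P₁`
  have hx : ∀ x : (Fin 2 → Fin k) → F, (P₁ : Matrix (Fin n) (Fin n) F) *ᵥ (x ∘ e) =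
      (P : Matrix (Fin n) (Fin n) F) *ᵥ
        (((K : Matrix (Fin 2 → Fin k) (Fin 2 → Fin k) F) *ᵥ x) ∘ e) := by
    intro x
    rw [hP₁, Units.val_mul, ← Matrix.mulVec_mulVec]
    congr 1
    exact glReindex_mulVec e K x
  have hKx : ∀ x : (Fin 2 → Fin k) → F, ((K : Matrix (Fin 2 → Fin k) (Fin 2 → Fin k) F) *ᵥ x) ∘ pairEquiv k =
      (K₀ : Matrix (Fin k × Fin k) (Fin k × Fin k) F) *ᵥ (x ∘ pairEquiv k) := by
    intro x
    have := glReindex_mulVec (pairEquiv k).symm K₀ (x ∘ pairEquiv k)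
    rw [Equiv.symm_symm] at this
    rw [hK]
    funext p
    have h2 := congrFun this (pairEquiv k p)
    simp only [Function.comp_apply, Equiv.symm_apply_apply] at h2
    rw [Function.comp_apply, ← h2]
    congr 2
    funext z
    simp
  -- the form in the new basis
  have hf₁ : ∀ x y : (Fin 2 → Fin k) → F,
      hermForm n F q ((P₁ : Matrix (Fin n) (Fin n) F) *ᵥ (x ∘ e)) ((P₁ : Matrix (Fin n) (Fin n) F) *ᵥ (y ∘ e)) =
        c * ∑ a, x a * y a ^ q := by
    intro x y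
    rw [hx, hx, hform]
    congr 1
    have h3 := formOfGram_mulVec (sigq hF : F →+* F) (gramMatrix f₁ ⊗ₖ gramMatrix f₁)
      (K₀ : Matrix (Fin k × Fin k) (Fin k × Fin k) F) (x ∘ pairEquiv k) (y ∘ pairEquiv k)
    rw [hK₀v, kron_gram_conj, ha, Matrix.one_kronecker_one] at h3
    rw [← hK₀v, ← hKx, ← hKx] at h3
    have h4 : formOfGram (sigq hF : F →+* F) (1 : Matrix (Fin k × Fin k) (Fin k × Fin k) F)
        (x ∘ pairEquiv k) (y ∘ pairEquiv k) = ∑ a, x a * y a ^ q := by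
      unfold formOfGram
      rw [← Equiv.sum_comp (pairEquiv k)]
      apply Finset.sum_congr rfl
      intro p _
      rw [Finset.sum_eq_single p]
      · rw [Matrix.one_apply_eq, mul_one]
        rfl
      · intro p' _ hp'
        rw [Matrix.one_apply_ne (Ne.symm hp'), mul_zero, zero_mul]
      · intro hp
        exact absurd (Finset.mem_univ p) hp
    rw [← h4, ← h3]
    unfold formOfGram
    rw [← Equiv.sum_comp (pairEquiv k)]
    apply Finset.sum_congr rfl
    intro p _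
    rw [← Equiv.sum_comp (pairEquiv k)]
    apply Finset.sum_congr rfl
    intro p' _
    rw [Fin.prod_univ_two, Matrix.kroneckerMap_apply]
    rfl
  -- the group does not change
  have hgrp : ∀ (μ : F) (hμ : μ ≠ 0),
      tensorWreathSubgroup k 2 e P ≤ tensorWreathSubgroup k 2 e (P₁ * scalGL n μ hμ) := by
    intro μ hμ g hg
    unfold tensorWreathSubgroup at hg
    rw [Subgroup.mem_map] at hg
    obtain ⟨g', hg', rfl⟩ := hg
    rw [Subgroup.mem_map] at hg'
    obtain ⟨w, hw, rfl⟩ := hg'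
    unfold tensorWreathSubgroup
    rw [Subgroup.mem_map]
    refine ⟨glReindex e.symm (K⁻¹ * w * K), ?_, ?_⟩
    · rw [Subgroup.mem_map]
      exact ⟨K⁻¹ * w * K, (tensorWreathStandard k 2 F).mul_mem ((tensorWreathStandard k 2 F).mul_mem
        ((tensorWreathStandard k 2 F).inv_mem hKm) hw) hKm, rfl⟩
    · show P₁ * scalGL n μ hμ * glReindex e.symm (K⁻¹ * w * K) * (P₁ * scalGL n μ hμ)⁻¹ =
        P * glReindex e.symm w * P⁻¹
      have hcm := scalGL_comm μ hμ (glReindex e.symm (K⁻¹ * w * K))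
      rw [mul_assoc P₁, ← hcm, hP₁, map_mul, map_mul, map_inv]
      group
  rcases isEmpty_or_nonempty (Fin 2 → Fin k) with hemp | hne
  · refine ⟨P₁ * scalGL n 1 one_ne_zero, hgrp 1 one_ne_zero, ?_⟩
    intro x y
    haveI : IsEmpty (Fin n) := e.isEmpty
    unfold hermForm
    rw [Finset.sum_of_isEmpty, Finset.sum_of_isEmpty]
  · obtain ⟨a₀⟩ := hne
    -- `c` lies in the fixed field
    have hcq : c ^ q = c := by
      have h5 := hf₁ (Pi.single a₀ 1) (Pi.single a₀ 1)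
      have h6 : ∑ a, (Pi.single a₀ (1 : F) : (Fin 2 → Fin k) → F) a *
          (Pi.single a₀ (1 : F) : (Fin 2 → Fin k) → F) a ^ q = 1 := by
        rw [Finset.sum_eq_single a₀]
        · rw [Pi.single_eq_same, one_pow, one_mul]
        · intro b _ hb
          rw [Pi.single_eq_of_ne hb, zero_mul]
        · intro hp
          exact absurd (Finset.mem_univ a₀) hp
      rw [h6, mul_one] at h5
      rw [← h5]
      exact hermForm_self_pow q hF _
    have hci : c⁻¹ ^ q = c⁻¹ := by rw [inv_pow, hcq]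
    obtain ⟨μ, hμ⟩ := Cfsg.Agent.Helper5.AschU.exists_norm_eq hF c⁻¹ hci (inv_ne_zero hc)
    have hμ0 : μ ≠ 0 := by
      intro h0
      rw [h0, zero_pow (by omega)] at hμ
      exact inv_ne_zero hc hμ.symm
    refine ⟨P₁ * scalGL n μ hμ0, hgrp μ hμ0, ?_⟩
    intro x y
    have hs : ∀ x : (Fin 2 → Fin k) → F,
        ((P₁ * scalGL n μ hμ0 : GL (Fin n) F) : Matrix (Fin n) (Fin n) F) *ᵥ (x ∘ e) =
          (P₁ : Matrix (Fin n) (Fin n) F) *ᵥ ((μ • x) ∘ e) := by
      intro x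
      rw [Units.val_mul, ← Matrix.mulVec_mulVec, scalGL_val, Matrix.smul_mulVec, Matrix.one_mulVec]
      rfl
    rw [hs, hs, hf₁, Finset.mul_sum]
    apply Finset.sum_congr rfl
    intro b _
    show c * (μ * x b * (μ * y b) ^ q) = x b * y b ^ q
    rw [mul_pow]
    have h7 : c * (μ * x b * (μ ^ q * y b ^ q)) = c * μ ^ (q + 1) * (x b * y b ^ q) := by ring
    rw [h7, hμ, mul_inv_cancel₀ hc, one_mul]

end unitary

end Cfsg.Agent.Helper5.U23
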