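import Mathlib
import Cfsg.Agent.Helper7.BNBruhat

set_option autoImplicit false

/-!
Orbital (Iwahori–Hecke) matrices of a (B,N)-pair on `G ⧸ B` and their multiplication rules
(package P5b of the S2319 swarm): `M_r * M_w = M_{r w}` if `ℓ(w) < ℓ(r w)`,
`M_r * M_r = q • 1 + (q - 1) • M_r`.
-/

namespace Cfsg.Agent.Helper5.BNOrbRel

open Cfsg Cfsg.Agent.Helper7.BN Cfsg.Agent.Helper7.InvWords

variable {G : Type*} [Group G] (P : Cfsg.BNPair G)

/-! ### Group level -/

theorem h5or_CW_RS_inv {r : W P} (hr : r ∈ RS P) {g : G} (h : g ∈ CW P r) : g⁻¹ ∈ CW P r := by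
  have h' := CW_inv P h
  rwa [RS_inv P hr] at h'

theorem h5or_not_mem_B_of_RS {r : W P} (hr : r ∈ RS P) {g : G} (h : g ∈ CW P r) : g ∉ P.B := by
  intro hb
  have h1 : g ∈ CW P 1 := by rw [CW_one]; exact hb
  exact RS_ne_one P hr (eq_of_mem_CW P h h1)

/-- existence of a middle element -/
theorem h5or_exists_mid {a b : W P} {x z : G} (h : x⁻¹ * z ∈ CW P (a * b)) :
    ∃ y : G, x⁻¹ * y ∈ CW P a ∧ y⁻¹ * z ∈ CW P b := by
  obtain ⟨y', hy', z', hz', e⟩ := CW_mul_decomp P h
  refine ⟨x * y', by simpa using hy', ?_⟩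
  have e2 : (x * y')⁻¹ * z = z' := by
    have hz : z = x * (y' * z') := by rw [← e]; group
    rw [hz]; group
  rw [e2]; exact hz'

/-- uniqueness of the middle coset in the good case -/
theorem h5or_mid_unique {r w : W P} (hr : r ∈ RS P) (hg : Good P r w) {x y₁ y₂ z : G}
    (h1 : x⁻¹ * y₁ ∈ CW P r) (h1' : y₁⁻¹ * z ∈ CW P w)
    (h2 : x⁻¹ * y₂ ∈ CW P r) (h2' : y₂⁻¹ * z ∈ CW P w) : y₁⁻¹ * y₂ ∈ P.B := by
  have e : (x⁻¹ * y₁)⁻¹ * (x⁻¹ * y₂) = y₁⁻¹ * y₂ := by group
  have h3 := CW_T3_left P hr (h5or_CW_RS_inv P hr h1) h2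
  rw [e, RS_mul_self P hr, CW_one] at h3
  rcases h3 with h3 | h3
  · exact h3
  · exfalso
    have h4 := hg _ h3 _ h2'
    have e2 : y₁⁻¹ * y₂ * (y₂⁻¹ * z) = y₁⁻¹ * z := by group
    rw [e2] at h4
    have h5 := eq_of_mem_CW P h4 h1'
    have hr1 : r = 1 := by
      have h6 : r * w = 1 * w := by rw [one_mul]; exact h5
      exact mul_right_cancel h6
    exact RS_ne_one P hr hr1

/-- the rank one parabolic `B ∪ C(r)` is closed under products of two elements of `C(r)` -/
theorem h5or_mul_mem_rank_one {r : W P} (hr : r ∈ RS P) {g h : G} (hg : g ∈ CW P r) (hh : h ∈ CW P r) :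
    g * h ∈ (P.B : Set G) ∪ CW P r := by
  have h3 := CW_T3_left P hr hg hh
  rwa [RS_mul_self P hr, CW_one] at h3

/-! ### Cosets -/

/-- relative position `w` of two cosets of `B` -/
def h5or_Rel (w : W P) (c d : G ⧸ P.B) : Prop :=
  (Quotient.out c)⁻¹ * Quotient.out d ∈ CW P w

theorem h5or_rel_mk (w : W P) (x y : G) :
    h5or_Rel P w (x : G ⧸ P.B) (y : G ⧸ P.B) ↔ x⁻¹ * y ∈ CW P w := by
  unfold h5or_Rel
  obtain ⟨b, hb⟩ := QuotientGroup.mk_out_eq_mul P.B x
  obtain ⟨b', hb'⟩ := QuotientGroup.mk_out_eq_mul P.B y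
  rw [hb, hb']
  have e : (x * (b : G))⁻¹ * (y * (b' : G)) = (b : G)⁻¹ * (x⁻¹ * y) * (b' : G) := by group
  rw [e]
  constructor
  · intro h
    have h1 := B_mul_CW P (CW_mul_B P h (P.B.inv_mem b'.2)) b.2
    have e2 : (b : G) * ((b : G)⁻¹ * (x⁻¹ * y) * (b' : G) * (b' : G)⁻¹) = x⁻¹ * y := by group
    rwa [e2] at h1
  · intro h
    exact CW_mul_B P (B_mul_CW P h (P.B.inv_mem b.2)) b'.2

theorem h5or_rel_one_iff (c d : G ⧸ P.B) : h5or_Rel P 1 c d ↔ c = d := by
  induction c using QuotientGroup.induction_on with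
  | H x =>
  induction d using QuotientGroup.induction_on with
  | H y =>
  rw [h5or_rel_mk, CW_one, QuotientGroup.eq]
  rfl

theorem h5or_rel_exists (c d : G ⧸ P.B) : ∃ w : W P, h5or_Rel P w c d :=
  exists_mem_CW P _

theorem h5or_rel_unique {w w' : W P} {c d : G ⧸ P.B} (h : h5or_Rel P w c d) (h' : h5or_Rel P w' c d) :
    w = w' := eq_of_mem_CW P h h'

theorem h5or_rel_inv {w : W P} {c d : G ⧸ P.B} (h : h5or_Rel P w c d) : h5or_Rel P w⁻¹ d c := by
  unfold h5or_Rel at *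
  have h' := CW_inv P h
  simpa using h'

theorem h5or_rel_inv_iff {w : W P} {c d : G ⧸ P.B} : h5or_Rel P w⁻¹ d c ↔ h5or_Rel P w c d := by
  constructor
  · intro h
    have := h5or_rel_inv P h
    simpa using this
  · exact h5or_rel_inv P

theorem h5or_rel_symm {r : W P} (hr : r ∈ RS P) {c d : G ⧸ P.B} (h : h5or_Rel P r c d) :
    h5or_Rel P r d c := by
  have := h5or_rel_inv P h
  rwa [RS_inv P hr] at this

theorem h5or_rel_smul (w : W P) (g : G) (c d : G ⧸ P.B) :
    h5or_Rel P w (g • c) (g • d) ↔ h5or_Rel P w c d := by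
  induction c using QuotientGroup.induction_on with
  | H x =>
  induction d using QuotientGroup.induction_on with
  | H y =>
  have e1 : g • (x : G ⧸ P.B) = ((g * x : G) : G ⧸ P.B) := rfl
  have e2 : g • (y : G ⧸ P.B) = ((g * y : G) : G ⧸ P.B) := rfl
  rw [e1, e2, h5or_rel_mk, h5or_rel_mk]
  have e : (g * x)⁻¹ * (g * y) = x⁻¹ * y := by group
  rw [e]

theorem h5or_rel_irrefl {r : W P} (hr : r ∈ RS P) (c : G ⧸ P.B) : ¬ h5or_Rel P r c c := by
  intro h
  have h1 : h5or_Rel P 1 c c := (h5or_rel_one_iff P c c).mpr rfl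
  exact RS_ne_one P hr (h5or_rel_unique P h h1)

/-- composition of relative positions: existence -/
theorem h5or_rel_exists_mid {a b : W P} {c e : G ⧸ P.B} (h : h5or_Rel P (a * b) c e) :
    ∃ d : G ⧸ P.B, h5or_Rel P a c d ∧ h5or_Rel P b d e := by
  induction c using QuotientGroup.induction_on with
  | H x =>
  induction e using QuotientGroup.induction_on with
  | H z =>
  rw [h5or_rel_mk] at h
  obtain ⟨y, h1, h2⟩ := h5or_exists_mid P h
  exact ⟨(y : G ⧸ P.B), (h5or_rel_mk P _ _ _).mpr h1, (h5or_rel_mk P _ _ _).mpr h2⟩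

theorem h5or_rel_mid_unique {r w : W P} (hr : r ∈ RS P) (hg : Good P r w) {c d₁ d₂ e : G ⧸ P.B}
    (h1 : h5or_Rel P r c d₁) (h1' : h5or_Rel P w d₁ e)
    (h2 : h5or_Rel P r c d₂) (h2' : h5or_Rel P w d₂ e) : d₁ = d₂ := by
  induction c using QuotientGroup.induction_on with
  | H x =>
  induction e using QuotientGroup.induction_on with
  | H z =>
  induction d₁ using QuotientGroup.induction_on with
  | H y₁ =>
  induction d₂ using QuotientGroup.induction_on with
  | H y₂ =>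
  rw [h5or_rel_mk] at h1 h1' h2 h2'
  rw [QuotientGroup.eq]
  exact h5or_mid_unique P hr hg h1 h1' h2 h2'

theorem h5or_rel_good {r w : W P} (hg : Good P r w) {c d e : G ⧸ P.B}
    (h1 : h5or_Rel P r c d) (h2 : h5or_Rel P w d e) : h5or_Rel P (r * w) c e := by
  induction c using QuotientGroup.induction_on with
  | H x =>
  induction e using QuotientGroup.induction_on with
  | H z =>
  induction d using QuotientGroup.induction_on with
  | H y =>
  rw [h5or_rel_mk] at h1 h2 ⊢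
  have h3 := hg _ h1 _ h2
  have e : x⁻¹ * y * (y⁻¹ * z) = x⁻¹ * z := by group
  rwa [e] at h3

theorem h5or_rel_rank_one {r : W P} (hr : r ∈ RS P) {c d e : G ⧸ P.B}
    (h1 : h5or_Rel P r c d) (h2 : h5or_Rel P r d e) : c = e ∨ h5or_Rel P r c e := by
  induction c using QuotientGroup.induction_on with
  | H x =>
  induction e using QuotientGroup.induction_on with
  | H z =>
  induction d using QuotientGroup.induction_on with
  | H y =>
  rw [h5or_rel_mk] at h1 h2 ⊢
  have h3 := h5or_mul_mem_rank_one P hr h1 h2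
  have e : x⁻¹ * y * (y⁻¹ * z) = x⁻¹ * z := by group
  rw [e] at h3
  rcases h3 with h3 | h3
  · left
    rw [QuotientGroup.eq]
    exact h3
  · right
    exact h3

end Cfsg.Agent.Helper5.BNOrbRel
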