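import Mathlib
import Cfsg.Agent.Helper5.BNOrbRelA

set_option autoImplicit false
set_option linter.unusedSectionVars false

/-!
Orbital matrices `M_w` on `G ⧸ B` of a (B,N)-pair and the Iwahori relations (P5b of the S2319 swarm).
-/

namespace Cfsg.Agent.Helper5.BNOrbRel

open Cfsg Cfsg.Agent.Helper7.BN Cfsg.Agent.Helper7.InvWords

variable {G : Type*} [Group G] (P : Cfsg.BNPair G) (K : Type*) [CommRing K]

open Classical in
/-- the orbital matrix of relative position `w` -/
noncomputable def h5or_M (w : W P) : Matrix (G ⧸ P.B) (G ⧸ P.B) K :=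
  fun c d => if h5or_Rel P w c d then 1 else 0

theorem h5or_M_apply_of_rel {w : W P} {c d : G ⧸ P.B} (h : h5or_Rel P w c d) : h5or_M P K w c d = 1 := by
  unfold h5or_M; rw [if_pos h]

theorem h5or_M_apply_of_not_rel {w : W P} {c d : G ⧸ P.B} (h : ¬ h5or_Rel P w c d) : h5or_M P K w c d = 0 := by
  unfold h5or_M; rw [if_neg h]

variable [Fintype (G ⧸ P.B)] [DecidableEq (G ⧸ P.B)]

omit [Fintype (G ⧸ P.B)] in
theorem h5or_M_one : h5or_M P K (1 : W P) = 1 := by
  ext c d
  by_cases h : c = d
  · subst h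
    rw [h5or_M_apply_of_rel P K ((h5or_rel_one_iff P c c).mpr rfl), Matrix.one_apply_eq]
  · rw [h5or_M_apply_of_not_rel P K (fun h' => h ((h5or_rel_one_iff P c d).mp h')), Matrix.one_apply_ne h]

omit [Fintype (G ⧸ P.B)] [DecidableEq (G ⧸ P.B)] in
/-- entries of `M_a M_b` are products which are `0` or `1` -/
theorem h5or_M_mul_entry (a b : W P) (c d e : G ⧸ P.B) :
    (h5or_M P K a c d * h5or_M P K b d e = 1 ∧ h5or_Rel P a c d ∧ h5or_Rel P b d e) ∨
    (h5or_M P K a c d * h5or_M P K b d e = 0 ∧ ¬ (h5or_Rel P a c d ∧ h5or_Rel P b d e)) := by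
  by_cases h1 : h5or_Rel P a c d
  · by_cases h2 : h5or_Rel P b d e
    · left
      rw [h5or_M_apply_of_rel P K h1, h5or_M_apply_of_rel P K h2, mul_one]
      exact ⟨rfl, h1, h2⟩
    · right
      rw [h5or_M_apply_of_not_rel P K h2, mul_zero]
      exact ⟨rfl, fun h => h2 h.2⟩
  · right
    rw [h5or_M_apply_of_not_rel P K h1, zero_mul]
    exact ⟨rfl, fun h => h1 h.1⟩

/-- `M_r M_w = M_{rw}` in the good case. -/
theorem h5or_M_mul_good {r w : W P} (hr : r ∈ RS P) (hg : Good P r w) :
    h5or_M P K r * h5or_M P K w = h5or_M P K (r * w) := by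
  ext c e
  rw [Matrix.mul_apply]
  by_cases h : h5or_Rel P (r * w) c e
  · obtain ⟨d₀, h1, h2⟩ := h5or_rel_exists_mid P h
    rw [Finset.sum_eq_single d₀]
    · rw [h5or_M_apply_of_rel P K h1, h5or_M_apply_of_rel P K h2, mul_one, h5or_M_apply_of_rel P K h]
    · intro d _ hd
      rcases h5or_M_mul_entry P K r w c d e with ⟨_, h3, h4⟩ | ⟨h0, _⟩
      · exact absurd (h5or_rel_mid_unique P hr hg h3 h4 h1 h2) hd
      · exact h0
    · intro h'; exact absurd (Finset.mem_univ _) h'
  · rw [Finset.sum_eq_zero, h5or_M_apply_of_not_rel P K h]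
    intro d _
    rcases h5or_M_mul_entry P K r w c d e with ⟨_, h3, h4⟩ | ⟨h0, _⟩
    · exact absurd (h5or_rel_good P hg h3 h4) h
    · exact h0

/-- the quadratic relation -/
theorem h5or_M_sq {r : W P} (hr : r ∈ RS P) (q : ℕ)
    (hq : ∀ c : G ⧸ P.B, ∑ d, h5or_M P K r c d = (q : K)) :
    h5or_M P K r * h5or_M P K r = (q : K) • (1 : Matrix (G ⧸ P.B) (G ⧸ P.B) K) + ((q : K) - 1) • h5or_M P K r := by
  ext c e
  rw [Matrix.mul_apply]
  have hsum := hq c
  by_cases hce : c = e
  · subst hce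
    have hterm : ∀ d, h5or_M P K r c d * h5or_M P K r d c = h5or_M P K r c d := by
      intro d
      by_cases h : h5or_Rel P r c d
      · rw [h5or_M_apply_of_rel P K h, h5or_M_apply_of_rel P K (h5or_rel_symm P hr h), mul_one]
      · rw [h5or_M_apply_of_not_rel P K h, zero_mul]
    simp_rw [hterm]
    rw [hsum]
    simp [h5or_M_apply_of_not_rel P K (h5or_rel_irrefl P hr c)]
  · by_cases h : h5or_Rel P r c e
    · have hterm : ∀ d, h5or_M P K r c d * h5or_M P K r d e
          = h5or_M P K r c d - (if d = e then 1 else 0) := by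
        intro d
        by_cases hde : d = e
        · subst hde
          rw [h5or_M_apply_of_not_rel P K (h5or_rel_irrefl P hr d), mul_zero, if_pos rfl,
            h5or_M_apply_of_rel P K h, sub_self]
        · by_cases h1 : h5or_Rel P r c d
          · have h2 : h5or_Rel P r d e := by
              rcases h5or_rel_rank_one P hr (h5or_rel_symm P hr h1) h with h3 | h3
              · exact absurd h3 hde
              · exact h3
            rw [h5or_M_apply_of_rel P K h1, h5or_M_apply_of_rel P K h2, if_neg hde, mul_one, sub_zero]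
          · rw [h5or_M_apply_of_not_rel P K h1, zero_mul, if_neg hde, sub_zero]
      simp_rw [hterm]
      rw [Finset.sum_sub_distrib, hsum]
      simp [h5or_M_apply_of_rel P K h, Matrix.one_apply_ne hce]
    · rw [Finset.sum_eq_zero]
      · simp [h5or_M_apply_of_not_rel P K h, Matrix.one_apply_ne hce]
      · intro d _
        rcases h5or_M_mul_entry P K r r c d e with ⟨_, h1, h2⟩ | ⟨h0, _⟩
        · rcases h5or_rel_rank_one P hr h1 h2 with h3 | h3
          · exact absurd h3 hce
          · exact absurd h3 h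
        · exact h0

omit [Fintype (G ⧸ P.B)] [DecidableEq (G ⧸ P.B)] in
theorem h5or_M_transpose (w : W P) : (h5or_M P K w).transpose = h5or_M P K w⁻¹ := by
  ext c d
  rw [Matrix.transpose_apply]
  by_cases h : h5or_Rel P w d c
  · rw [h5or_M_apply_of_rel P K h, h5or_M_apply_of_rel P K (h5or_rel_inv P h)]
  · rw [h5or_M_apply_of_not_rel P K h,
      h5or_M_apply_of_not_rel P K (fun h' => h ((h5or_rel_inv_iff P).mp h'))]

/-- `M_w M_r = M_{wr}` in the good case (right version). -/
theorem h5or_M_mul_good_right {r w : W P} (hr : r ∈ RS P) (hg : Good P r w⁻¹) :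
    h5or_M P K w * h5or_M P K r = h5or_M P K (w * r) := by
  have h := h5or_M_mul_good P K hr hg
  have h' := congrArg Matrix.transpose h
  rw [Matrix.transpose_mul, h5or_M_transpose, h5or_M_transpose, h5or_M_transpose, inv_inv,
    mul_inv_rev, inv_inv, RS_inv P hr] at h'
  exact h'

theorem h5or_M_mul_of_lt {r w : W P} (hr : r ∈ RS P) (h : len (RS P) w < len (RS P) (r * w)) :
    h5or_M P K r * h5or_M P K w = h5or_M P K (r * w) :=
  h5or_M_mul_good P K hr ((good_iff P hr).mpr h)

omit [Fintype (G ⧸ P.B)] [DecidableEq (G ⧸ P.B)] in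
theorem h5or_len_inv (w : W P) : len (RS P) w⁻¹ = len (RS P) w :=
  len_inv (invol_RS P) (mem_closure_RS P w)

theorem h5or_M_mul_of_lt_right {r w : W P} (hr : r ∈ RS P) (h : len (RS P) w < len (RS P) (w * r)) :
    h5or_M P K w * h5or_M P K r = h5or_M P K (w * r) := by
  apply h5or_M_mul_good_right P K hr
  rw [good_iff P hr, h5or_len_inv]
  have e : r * w⁻¹ = (w * r)⁻¹ := by rw [mul_inv_rev, RS_inv P hr]
  rw [e, h5or_len_inv]
  exact h

theorem h5or_M_mul_of_gt {r w : W P} (hr : r ∈ RS P) (q : ℕ)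
    (hq : ∀ c : G ⧸ P.B, ∑ d, h5or_M P K r c d = (q : K))
    (h : len (RS P) (r * w) < len (RS P) w) :
    h5or_M P K r * h5or_M P K w = (q : K) • h5or_M P K (r * w) + ((q : K) - 1) • h5or_M P K w := by
  have e : r * (r * w) = w := by rw [← mul_assoc, RS_mul_self P hr, one_mul]
  have h1 : h5or_M P K r * h5or_M P K (r * w) = h5or_M P K w := by
    have := h5or_M_mul_of_lt P K hr (w := r * w) (by rw [e]; exact h)
    rwa [e] at this
  calc h5or_M P K r * h5or_M P K w
      = h5or_M P K r * (h5or_M P K r * h5or_M P K (r * w)) := by rw [h1]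
    _ = (h5or_M P K r * h5or_M P K r) * h5or_M P K (r * w) := by rw [Matrix.mul_assoc]
    _ = ((q : K) • (1 : Matrix (G ⧸ P.B) (G ⧸ P.B) K) + ((q : K) - 1) • h5or_M P K r) * h5or_M P K (r * w) := by
        rw [h5or_M_sq P K hr q hq]
    _ = (q : K) • h5or_M P K (r * w) + ((q : K) - 1) • h5or_M P K w := by
        rw [Matrix.add_mul, Matrix.smul_mul, Matrix.smul_mul, Matrix.one_mul, h1]

theorem h5or_M_mul_of_gt_right {r w : W P} (hr : r ∈ RS P) (q : ℕ)
    (hq : ∀ c : G ⧸ P.B, ∑ d, h5or_M P K r c d = (q : K))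
    (h : len (RS P) (w * r) < len (RS P) w) :
    h5or_M P K w * h5or_M P K r = (q : K) • h5or_M P K (w * r) + ((q : K) - 1) • h5or_M P K w := by
  have e : w * r * r = w := by rw [mul_assoc, RS_mul_self P hr, mul_one]
  have h1 : h5or_M P K (w * r) * h5or_M P K r = h5or_M P K w := by
    have := h5or_M_mul_of_lt_right P K hr (w := w * r) (by rw [e]; exact h)
    rwa [e] at this
  calc h5or_M P K w * h5or_M P K r
      = (h5or_M P K (w * r) * h5or_M P K r) * h5or_M P K r := by rw [h1]
    _ = h5or_M P K (w * r) * (h5or_M P K r * h5or_M P K r) := by rw [Matrix.mul_assoc]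
    _ = h5or_M P K (w * r) * ((q : K) • (1 : Matrix (G ⧸ P.B) (G ⧸ P.B) K) + ((q : K) - 1) • h5or_M P K r) := by
        rw [h5or_M_sq P K hr q hq]
    _ = (q : K) • h5or_M P K (w * r) + ((q : K) - 1) • h5or_M P K w := by
        rw [Matrix.mul_add, Matrix.mul_smul, Matrix.mul_smul, Matrix.mul_one, h1]

end Cfsg.Agent.Helper5.BNOrbRel
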