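import Mathlib
import Cfsg.Agent.Helper5.BNOrbRelB
import Cfsg.Agent.Hk.Defs

set_option autoImplicit false
set_option linter.unusedSectionVars false

/-!
The coordinate map `Θ v = ∑ v w • M_w` for the orbital matrices of a (B,N)-pair:
`M_r Θ v = Θ (lam r v)`, `Θ v M_r = Θ (rho r v)`, and the description of `Zsp` (P5b of the S2319 swarm).
-/

namespace Cfsg.Agent.Helper5.BNOrbRel

open Cfsg Cfsg.Agent.Helper7.BN Cfsg.Agent.Helper7.InvWords Cfsg.Agent.Hk

variable {G : Type*} [Group G] (P : Cfsg.BNPair G)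

theorem h5or_len_mul_ne_right {r : W P} (hr : r ∈ RS P) (w : W P) :
    len (RS P) (w * r) ≠ len (RS P) w := by
  have h := len_mul_ne P hr (w := w⁻¹)
  have e : r * w⁻¹ = (w * r)⁻¹ := by rw [mul_inv_rev, RS_inv P hr]
  have h1 : len (RS P) (w * r)⁻¹ = len (RS P) (w * r) := len_inv (invol_RS P) (mem_closure_RS P _)
  have h2 : len (RS P) w⁻¹ = len (RS P) w := len_inv (invol_RS P) (mem_closure_RS P _)
  rw [e, h1, h2] at h
  exact h

theorem h5or_rel_rep (w : W P) : ∃ c d : G ⧸ P.B, h5or_Rel P w c d := by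
  obtain ⟨g, hg⟩ := CW_nonempty P w
  refine ⟨((1 : G) : G ⧸ P.B), (g : G ⧸ P.B), ?_⟩
  rw [h5or_rel_mk]
  simpa using hg

variable [Fintype (G ⧸ P.B)] [DecidableEq (G ⧸ P.B)] [Fintype (W P)]

/-- `Θ v = ∑_w v w • M_w` -/
noncomputable def h5or_Theta (v : W P → ℂ) : Matrix (G ⧸ P.B) (G ⧸ P.B) ℂ :=
  ∑ w, v w • h5or_M P ℂ w

omit [DecidableEq (G ⧸ P.B)] in
theorem h5or_Theta_apply {v : W P → ℂ} {w : W P} {c d : G ⧸ P.B} (h : h5or_Rel P w c d) :
    h5or_Theta P v c d = v w := by
  unfold h5or_Theta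
  rw [Matrix.sum_apply, Finset.sum_eq_single w]
  · rw [Matrix.smul_apply, h5or_M_apply_of_rel P ℂ h, smul_eq_mul, mul_one]
  · intro w' _ hw'
    rw [Matrix.smul_apply, h5or_M_apply_of_not_rel P ℂ (fun h' => hw' (h5or_rel_unique P h' h)),
      smul_zero]
  · intro h'; exact absurd (Finset.mem_univ _) h'

omit [DecidableEq (G ⧸ P.B)] in
theorem h5or_Theta_injective : Function.Injective (h5or_Theta P) := by
  intro v v' h
  funext w
  obtain ⟨c, d, hcd⟩ := h5or_rel_rep P w
  have h1 := congrFun (congrFun h c) d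
  rwa [h5or_Theta_apply P hcd, h5or_Theta_apply P hcd] at h1

omit [DecidableEq (G ⧸ P.B)] in
theorem h5or_Theta_add (v v' : W P → ℂ) : h5or_Theta P (v + v') = h5or_Theta P v + h5or_Theta P v' := by
  unfold h5or_Theta
  rw [← Finset.sum_add_distrib]
  refine Finset.sum_congr rfl fun w _ => ?_
  rw [Pi.add_apply, add_smul]

omit [DecidableEq (G ⧸ P.B)] in
theorem h5or_Theta_smul (a : ℂ) (v : W P → ℂ) : h5or_Theta P (a • v) = a • h5or_Theta P v := by
  unfold h5or_Theta
  rw [Finset.smul_sum]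
  refine Finset.sum_congr rfl fun w _ => ?_
  rw [Pi.smul_apply, smul_eq_mul, mul_smul]

/-- left multiplication by `M_r` is `lam r` in coordinates -/
theorem h5or_M_mul_Theta {r : W P} (hr : r ∈ RS P) (q : ℕ)
    (hq : ∀ c : G ⧸ P.B, ∑ d, h5or_M P ℂ r c d = (q : ℂ)) (v : W P → ℂ) :
    h5or_M P ℂ r * h5or_Theta P v = h5or_Theta P (lam (RS P) (q : ℂ) r v) := by
  have hne : ∀ w : W P, len (RS P) (r * w) ≠ len (RS P) w := fun w => len_mul_ne P hr
  have hrr : ∀ w : W P, r * (r * w) = w := fun w => by rw [← mul_assoc, RS_mul_self P hr, one_mul]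
  unfold h5or_Theta
  rw [Matrix.mul_sum]
  have h1 : ∀ w : W P, h5or_M P ℂ r * (v w • h5or_M P ℂ w) =
      (if len (RS P) (r * w) < len (RS P) w then (q : ℂ) * v w else v w) • h5or_M P ℂ (r * w)
      + (if len (RS P) (r * w) < len (RS P) w then ((q : ℂ) - 1) * v w else 0) • h5or_M P ℂ w := by
    intro w
    rw [Matrix.mul_smul]
    by_cases h : len (RS P) (r * w) < len (RS P) w
    · rw [if_pos h, if_pos h, h5or_M_mul_of_gt P ℂ hr q hq h, smul_add, smul_smul, smul_smul,
        mul_comm (v w) (q : ℂ), mul_comm (v w) ((q : ℂ) - 1)]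
    · have h' : len (RS P) w < len (RS P) (r * w) := lt_of_le_of_ne (not_lt.mp h) (hne w).symm
      rw [if_neg h, if_neg h, h5or_M_mul_of_lt P ℂ hr h', zero_smul, add_zero]
  simp_rw [h1]
  rw [Finset.sum_add_distrib]
  have h2 : ∑ w : W P, (if len (RS P) (r * w) < len (RS P) w then (q : ℂ) * v w else v w) •
        h5or_M P ℂ (r * w)
      = ∑ x : W P, (if len (RS P) x < len (RS P) (r * x) then (q : ℂ) * v (r * x) else v (r * x)) •
        h5or_M P ℂ x := by
    apply Fintype.sum_equiv (Equiv.mulLeft r)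
    intro w
    simp only [Equiv.coe_mulLeft, hrr]
  rw [h2, ← Finset.sum_add_distrib]
  refine Finset.sum_congr rfl fun x _ => ?_
  rw [← add_smul]
  congr 1
  rw [lam_apply]
  by_cases h : len (RS P) (r * x) < len (RS P) x
  · have h' : ¬ len (RS P) x < len (RS P) (r * x) := by omega
    rw [if_pos h, if_neg h', if_pos h]; ring
  · have h' : len (RS P) x < len (RS P) (r * x) := lt_of_le_of_ne (not_lt.mp h) (hne x).symm
    rw [if_neg h, if_pos h', if_neg h]; ring

/-- right multiplication by `M_r` is `rho r` in coordinates -/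
theorem h5or_Theta_mul_M {r : W P} (hr : r ∈ RS P) (q : ℕ)
    (hq : ∀ c : G ⧸ P.B, ∑ d, h5or_M P ℂ r c d = (q : ℂ)) (v : W P → ℂ) :
    h5or_Theta P v * h5or_M P ℂ r = h5or_Theta P (rho (RS P) (q : ℂ) r v) := by
  have hne : ∀ w : W P, len (RS P) (w * r) ≠ len (RS P) w := fun w => h5or_len_mul_ne_right P hr w
  have hrr : ∀ w : W P, w * r * r = w := fun w => by rw [mul_assoc, RS_mul_self P hr, mul_one]
  unfold h5or_Theta
  rw [Matrix.sum_mul]
  have h1 : ∀ w : W P, (v w • h5or_M P ℂ w) * h5or_M P ℂ r =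
      (if len (RS P) (w * r) < len (RS P) w then (q : ℂ) * v w else v w) • h5or_M P ℂ (w * r)
      + (if len (RS P) (w * r) < len (RS P) w then ((q : ℂ) - 1) * v w else 0) • h5or_M P ℂ w := by
    intro w
    rw [Matrix.smul_mul]
    by_cases h : len (RS P) (w * r) < len (RS P) w
    · rw [if_pos h, if_pos h, h5or_M_mul_of_gt_right P ℂ hr q hq h, smul_add, smul_smul, smul_smul,
        mul_comm (v w) (q : ℂ), mul_comm (v w) ((q : ℂ) - 1)]
    · have h' : len (RS P) w < len (RS P) (w * r) := lt_of_le_of_ne (not_lt.mp h) (hne w).symm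
      rw [if_neg h, if_neg h, h5or_M_mul_of_lt_right P ℂ hr h', zero_smul, add_zero]
  simp_rw [h1]
  rw [Finset.sum_add_distrib]
  have h2 : ∑ w : W P, (if len (RS P) (w * r) < len (RS P) w then (q : ℂ) * v w else v w) •
        h5or_M P ℂ (w * r)
      = ∑ x : W P, (if len (RS P) x < len (RS P) (x * r) then (q : ℂ) * v (x * r) else v (x * r)) •
        h5or_M P ℂ x := by
    apply Fintype.sum_equiv (Equiv.mulRight r)
    intro w
    simp only [Equiv.coe_mulRight, hrr]
  rw [h2, ← Finset.sum_add_distrib]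
  refine Finset.sum_congr rfl fun x _ => ?_
  rw [← add_smul]
  congr 1
  rw [rho_apply]
  by_cases h : len (RS P) (x * r) < len (RS P) x
  · have h' : ¬ len (RS P) x < len (RS P) (x * r) := by omega
    rw [if_pos h, if_neg h', if_pos h]; ring
  · have h' : len (RS P) x < len (RS P) (x * r) := lt_of_le_of_ne (not_lt.mp h) (hne x).symm
    rw [if_neg h, if_pos h', if_neg h]; ring

omit [Fintype (W P)] in
/-- `M_w` is the product of the `M_r` along a reduced word -/
theorem h5or_M_prod_of_reduced : ∀ l : List (W P), IsWord (RS P) l → Cfsg.Agent.Helper7.InvWords.IsReduced (RS P) l →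
    h5or_M P ℂ l.prod = (l.map (h5or_M P ℂ)).prod := by
  intro l
  induction l with
  | nil =>
    intro _ _
    rw [List.prod_nil, List.map_nil, List.prod_nil, h5or_M_one]
  | cons r l ih =>
    intro hw hred
    have hred' := Cfsg.Agent.Helper7.InvWords.IsReduced.tail (invol_RS P) hw hred
    have hw' := isWord_cons.mp hw
    rw [List.prod_cons, List.map_cons, List.prod_cons, ← ih hw'.2 hred']
    have hlt : len (RS P) l.prod < len (RS P) (r * l.prod) := by
      unfold Cfsg.Agent.Helper7.InvWords.IsReduced at hred hred'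
      rw [List.prod_cons, List.length_cons] at hred
      omega
    exact (h5or_M_mul_of_lt P ℂ hw'.1 hlt).symm

omit [Fintype (W P)] in
theorem h5or_commute_M_of_gens (X : Matrix (G ⧸ P.B) (G ⧸ P.B) ℂ)
    (h : ∀ r ∈ RS P, h5or_M P ℂ r * X = X * h5or_M P ℂ r) (w : W P) :
    h5or_M P ℂ w * X = X * h5or_M P ℂ w := by
  obtain ⟨l, hl, hlw, hlen⟩ := exists_reduced_word (invol_RS P) (mem_closure_RS P w)
  have hred : Cfsg.Agent.Helper7.InvWords.IsReduced (RS P) l := by unfold Cfsg.Agent.Helper7.InvWords.IsReduced; rw [hlw]; exact hlen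
  rw [← hlw, h5or_M_prod_of_reduced P l hl hred]
  have hc : Commute X (l.map (h5or_M P ℂ)).prod := by
    apply Commute.list_prod_right
    intro y hy
    obtain ⟨r, hr, rfl⟩ := List.mem_map.mp hy
    exact (h r (hl r hr)).symm
  exact hc.eq.symm

/-- membership in `Zsp` means: `Θ v` commutes with all orbital matrices -/
theorem h5or_mem_Zsp_iff (q : ℕ)
    (hq : ∀ r ∈ RS P, ∀ c : G ⧸ P.B, ∑ d, h5or_M P ℂ r c d = (q : ℂ)) (v : W P → ℂ) :
    v ∈ Zsp (RS P) (q : ℂ) ↔
      ∀ w : W P, h5or_M P ℂ w * h5or_Theta P v = h5or_Theta P v * h5or_M P ℂ w := by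
  rw [mem_Zsp]
  constructor
  · intro h
    apply h5or_commute_M_of_gens
    intro r hr
    rw [h5or_M_mul_Theta P hr q (hq r hr), h5or_Theta_mul_M P hr q (hq r hr), h r hr]
  · intro h r hr
    apply h5or_Theta_injective P
    rw [← h5or_M_mul_Theta P hr q (hq r hr), ← h5or_Theta_mul_M P hr q (hq r hr)]
    exact h r

end Cfsg.Agent.Helper5.BNOrbRel
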