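import Mathlib
import Cfsg.Agent.Helper5.BTOpt

/-!
# Variant of `Cfsg.Agent.Helper5.BTOpt.h5bt_optimal` with a weaker midpoint hypothesis
-/

set_option autoImplicit false

namespace Cfsg.Agent.Helper5.BTOpt2

open Cfsg.Agent.Helper5.BTOpt

variable {G : Type*} [Group G] [Finite G]
variable {E : Type*} [NormedAddCommGroup E] [InnerProductSpace ℝ E] [FiniteDimensional ℝ E]

/-- The abstract optimal-functional theorem, with the midpoint hypothesis `h3` only required for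
the pairs `(l, ρ n l)`, `l ∈ C`, `n ∈ N` (this is all the proof uses; convenient when `Uh l` is a
root-product subgroup and the intersection lemma is only available for a dominant `l`). -/
theorem h5bt_optimal'
    (G₀ B N : Subgroup G) (hB : B ≤ G₀) (hN : N ≤ G₀)
    (hBNB : ∀ g ∈ G₀, ∃ b ∈ B, ∃ n ∈ N, ∃ b' ∈ B, g = b * n * b')
    (C : Set E) (hC : IsClosed C)
    (Uh : E → Set G) (ρ : G → E → E)
    (hρ : ∀ n ∈ N, ∀ l : E, ‖ρ n l‖ = ‖l‖)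
    (h1 : ∀ b ∈ B, ∀ l ∈ C, ∀ u ∈ Uh l, b * u * b⁻¹ ∈ Uh l)
    (h2 : ∀ n ∈ N, ∀ l : E, ∀ u ∈ Uh l, n * u * n⁻¹ ∈ Uh (ρ n l))
    (h3 : ∀ l ∈ C, ∀ n ∈ N, Uh l ∩ Uh (ρ n l) ⊆ Uh ((1 / 2 : ℝ) • (l + ρ n l)))
    (h4 : ∀ m : E, ∃ n ∈ N, ρ n m ∈ C)
    (h5 : ∀ S : Set G, IsClosed {l : E | S ⊆ Uh l})
    (h6 : Uh 0 ⊆ {1})
    (V : Subgroup G) (hV : V ≠ ⊥)
    (h7 : ∃ g ∈ G₀, ∃ l ∈ C, ∀ v ∈ V, g⁻¹ * v * g ∈ Uh l) :
    ∃ g ∈ G₀, ∃ l ∈ C, l ≠ 0 ∧ (∀ v ∈ V, g⁻¹ * v * g ∈ Uh l) ∧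
      ∀ x ∈ Subgroup.normalizer (V : Set G) ⊓ G₀, ∃ b ∈ B, ∃ n ∈ N, ∃ b' ∈ B,
        g⁻¹ * x * g = b * n * b' ∧ ρ n l = l := by
  classical
  -- the set of admissible functionals
  set T : Set E := ⋃ g ∈ (G₀ : Set G),
    (C ∩ {l : E | ((fun v => g⁻¹ * v * g) '' (V : Set G)) ⊆ Uh l}) with hT
  have hTmem : ∀ l : E, l ∈ T ↔ l ∈ C ∧ ∃ g ∈ G₀, ∀ v ∈ V, g⁻¹ * v * g ∈ Uh l := by
    intro l
    simp only [hT, Set.mem_iUnion, Set.mem_inter_iff, Set.mem_setOf_eq, Set.image_subset_iff,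
      exists_prop, SetLike.mem_coe]
    constructor
    · rintro ⟨g, hg, hl, hsub⟩
      exact ⟨hl, g, hg, fun v hv => hsub hv⟩
    · rintro ⟨hl, g, hg, hsub⟩
      exact ⟨g, hg, hl, fun v hv => hsub v hv⟩
  have hTclosed : IsClosed T :=
    (Set.toFinite (G₀ : Set G)).isClosed_biUnion (fun g _ => hC.inter (h5 _))
  have hTne : T.Nonempty := by
    obtain ⟨g, hg, l, hl, hgl⟩ := h7
    exact ⟨l, (hTmem l).2 ⟨hl, g, hg, hgl⟩⟩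
  obtain ⟨l₀, hl₀T, hmin⟩ := h5bt_exists_min_norm hTclosed hTne
  obtain ⟨hl₀C, g, hg, hgl₀⟩ := (hTmem l₀).1 hl₀T
  refine ⟨g, hg, l₀, hl₀C, ?_, hgl₀, ?_⟩
  · -- `l₀ ≠ 0`
    rintro rfl
    apply hV
    rw [Subgroup.eq_bot_iff_forall]
    intro v hv
    have h := h6 (hgl₀ v hv)
    rw [Set.mem_singleton_iff] at h
    have : v = g * (g⁻¹ * v * g) * g⁻¹ := by group
    rw [this, h]; group
  · rintro x ⟨hxN, hxG⟩
    have hxG' : x ∈ G₀ := hxG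
    have hconj : ∀ v ∈ V, x⁻¹ * v * x ∈ V := by
      intro v hv
      have h := (Subgroup.mem_normalizer_iff''.1 hxN) v
      exact h.1 hv
    have hmem : g⁻¹ * x * g ∈ G₀ := G₀.mul_mem (G₀.mul_mem (G₀.inv_mem hg) hxG') hg
    obtain ⟨b, hb, n, hn, b', hb', hx⟩ := hBNB _ hmem
    refine ⟨b, hb, n, hn, b', hb', hx, ?_⟩
    -- the two memberships of `y⁻¹ V y`, `y = g b`
    have hA : ∀ v ∈ V, (g * b)⁻¹ * v * (g * b) ∈ Uh l₀ := by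
      intro v hv
      have h := h1 b⁻¹ (B.inv_mem hb) l₀ hl₀C _ (hgl₀ v hv)
      have e : b⁻¹ * (g⁻¹ * v * g) * b⁻¹⁻¹ = (g * b)⁻¹ * v * (g * b) := by group
      rwa [e] at h
    have hnb : n * b' = b⁻¹ * (g⁻¹ * x * g) := by rw [hx]; group
    have hB' : ∀ v ∈ V, (g * b)⁻¹ * v * (g * b) ∈ Uh (ρ n l₀) := by
      intro v hv
      have hv' := hconj v hv
      have h := h1 b' hb' l₀ hl₀C _ (hgl₀ _ hv')
      have h' := h2 n hn l₀ _ h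
      have e : n * (b' * (g⁻¹ * (x⁻¹ * v * x) * g) * b'⁻¹) * n⁻¹
          = (g * b)⁻¹ * v * (g * b) := by
        have e1 : n * (b' * (g⁻¹ * (x⁻¹ * v * x) * g) * b'⁻¹) * n⁻¹
            = (n * b') * (g⁻¹ * (x⁻¹ * v * x) * g) * (n * b')⁻¹ := by group
        rw [e1, hnb]; group
      rwa [e] at h'
    set m : E := (1 / 2 : ℝ) • (l₀ + ρ n l₀) with hm
    have hM : ∀ v ∈ V, (g * b)⁻¹ * v * (g * b) ∈ Uh m :=
      fun v hv => h3 l₀ hl₀C n hn ⟨hA v hv, hB' v hv⟩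
    obtain ⟨n', hn', hn'C⟩ := h4 m
    have hmT : ρ n' m ∈ T := by
      refine (hTmem _).2 ⟨hn'C, g * b * n'⁻¹, ?_, ?_⟩
      · exact G₀.mul_mem (G₀.mul_mem hg (hB hb)) (G₀.inv_mem (hN hn'))
      · intro v hv
        have h := h2 n' hn' m _ (hM v hv)
        have e : n' * ((g * b)⁻¹ * v * (g * b)) * n'⁻¹
            = (g * b * n'⁻¹)⁻¹ * v * (g * b * n'⁻¹) := by group
        rwa [e] at h
    have hle : ‖l₀‖ ≤ ‖m‖ := by
      have := hmin _ hmT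
      rwa [hρ n' hn' m] at this
    exact h5bt_eq_of_midpoint_norm_ge (hρ n hn l₀) hle

end Cfsg.Agent.Helper5.BTOpt2
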