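import Mathlib

set_option autoImplicit false

namespace Cfsg.Agent.Helper5.Carmichael

variable {G : Type*} [Group G]

/-- Carmichael's relations on the family `x`, for indices `< m`. -/
structure Rel (x : ℕ → G) (m : ℕ) : Prop where
  h3 : x 0 ^ 3 = 1
  h2 : ∀ i, 1 ≤ i → i < m → x i ^ 2 = 1
  hb : ∀ i, i + 1 < m → (x i * x (i + 1)) ^ 3 = 1
  hc : ∀ i k, i + 1 < k → k < m → (x i * x k) ^ 2 = 1

theorem Rel.mono {x : ℕ → G} {m m' : ℕ} (h : Rel x m) (hm : m' ≤ m) : Rel x m' :=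
  ⟨h.h3, fun i h1 hi => h.h2 i h1 (lt_of_lt_of_le hi hm),
    fun i hi => h.hb i (lt_of_lt_of_le hi hm),
    fun i k hik hk => h.hc i k hik (lt_of_lt_of_le hk hm)⟩

/-- the descending product `x j * x (j-1) * ⋯` with `k` letters (truncated subtraction). -/
def desc (x : ℕ → G) (j : ℕ) : ℕ → G
  | 0 => 1
  | k + 1 => desc x j k * x (j - k)

@[simp] theorem desc_zero (x : ℕ → G) (j : ℕ) : desc x j 0 = 1 := rfl
theorem desc_succ (x : ℕ → G) (j k : ℕ) : desc x j (k + 1) = desc x j k * x (j - k) := rfl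

/-! ### generic group identities -/

theorem g_inv_of_sq {a : G} (ha : a ^ 2 = 1) : a⁻¹ = a := by
  rw [inv_eq_iff_mul_eq_one, ← pow_two, ha]

theorem g_comm {a b : G} (ha : a ^ 2 = 1) (hb : b ^ 2 = 1) (hab : (a * b) ^ 2 = 1) :
    a * b = b * a := by
  have h1 : a * b = (a * b)⁻¹ := by
    rw [eq_inv_iff_mul_eq_one, ← pow_two, hab]
  rw [mul_inv_rev, g_inv_of_sq ha, g_inv_of_sq hb] at h1
  exact h1

theorem g_twist {c a : G} (ha : a ^ 2 = 1) (h : (c * a) ^ 2 = 1) : a * c = c⁻¹ * a := by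
  have h1 : c * a = (c * a)⁻¹ := by
    rw [eq_inv_iff_mul_eq_one, ← pow_two, h]
  rw [mul_inv_rev, g_inv_of_sq ha] at h1
  -- c * a = a * c⁻¹
  have : a * c = a * (c * a) * a⁻¹ := by group
  rw [this, h1, g_inv_of_sq ha]
  have h2 : a * a = 1 := by rw [← pow_two, ha]
  calc a * (a * c⁻¹) * a = (a * a) * c⁻¹ * a := by group
    _ = c⁻¹ * a := by rw [h2, one_mul]

theorem g_twist' {c a : G} (ha : a ^ 2 = 1) (h : (c * a) ^ 2 = 1) : a * c⁻¹ = c * a := by
  have h1 := g_twist ha h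
  calc a * c⁻¹ = c * (c⁻¹ * a) * c⁻¹ := by group
    _ = c * (a * c) * c⁻¹ := by rw [h1]
    _ = c * a := by group

theorem g_braid {a b : G} (ha : a ^ 2 = 1) (hb : b ^ 2 = 1) (h : (a * b) ^ 3 = 1) :
    a * b * a = b * a * b := by
  have h1 : a * b * a * (b * a * b) = 1 := by
    have : a * b * a * (b * a * b) = (a * b) ^ 3 := by
      simp only [pow_succ, pow_zero, one_mul, mul_assoc]
    rw [this, h]
  have h2 : a * b * a = (b * a * b)⁻¹ := eq_inv_of_mul_eq_one_left h1
  rw [h2, mul_inv_rev, mul_inv_rev, g_inv_of_sq ha, g_inv_of_sq hb, mul_assoc]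

theorem g_braid0 {c a : G} (ha : a ^ 2 = 1) (h : (c * a) ^ 3 = 1) :
    a * c * a = c⁻¹ * a * c⁻¹ := by
  have h1 : c * (a * c * a) * (c * a) = 1 := by
    have : c * (a * c * a) * (c * a) = (c * a) ^ 3 := by
      simp only [pow_succ, pow_zero, one_mul, mul_assoc]
    rw [this, h]
  have h2 : c * (a * c * a) = (c * a)⁻¹ := eq_inv_of_mul_eq_one_left h1
  have h3 : a * c * a = c⁻¹ * (c * a)⁻¹ := by
    rw [← h2]; group
  rw [h3, mul_inv_rev, g_inv_of_sq ha, mul_assoc]

theorem g_braid0' {c a : G} (ha : a ^ 2 = 1) (h : (c * a) ^ 3 = 1) :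
    a * c⁻¹ * a = c * a * c := by
  have h1 := g_braid0 ha h
  have h2 : (a * c * a)⁻¹ = (c⁻¹ * a * c⁻¹)⁻¹ := by rw [h1]
  simp only [mul_inv_rev, inv_inv, g_inv_of_sq ha] at h2
  simpa only [mul_assoc] using h2

/-! ### consequences of the relations -/

section
variable {x : ℕ → G} {m : ℕ}

theorem Rel.comm (h : Rel x m) {i k : ℕ} (h1 : 1 ≤ i) (hik : i + 1 < k) (hk : k < m) :
    x i * x k = x k * x i :=
  g_comm (h.h2 i h1 (by omega)) (h.h2 k (by omega) hk) (h.hc i k hik hk)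

theorem Rel.twist (h : Rel x m) {k : ℕ} (h1 : 1 < k) (hk : k < m) :
    x k * x 0 = (x 0)⁻¹ * x k :=
  g_twist (h.h2 k (by omega) hk) (h.hc 0 k (by omega) hk)

theorem Rel.twist' (h : Rel x m) {k : ℕ} (h1 : 1 < k) (hk : k < m) :
    x k * (x 0)⁻¹ = x 0 * x k :=
  g_twist' (h.h2 k (by omega) hk) (h.hc 0 k (by omega) hk)

theorem Rel.braid (h : Rel x m) {i : ℕ} (h1 : 1 ≤ i) (hi : i + 1 < m) :
    x i * x (i + 1) * x i = x (i + 1) * x i * x (i + 1) :=
  g_braid (h.h2 i h1 (by omega)) (h.h2 (i + 1) (by omega) hi) (h.hb i hi)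

theorem Rel.braid0 (h : Rel x m) (hm : 1 < m) :
    x 1 * x 0 * x 1 = (x 0)⁻¹ * x 1 * (x 0)⁻¹ :=
  g_braid0 (h.h2 1 le_rfl hm) (h.hb 0 hm)

theorem Rel.braid0' (h : Rel x m) (hm : 1 < m) :
    x 1 * (x 0)⁻¹ * x 1 = x 0 * x 1 * x 0 :=
  g_braid0' (h.h2 1 le_rfl hm) (h.hb 0 hm)

theorem Rel.sq0 (h : Rel x m) : x 0 * x 0 = (x 0)⁻¹ := by
  have := h.h3
  rw [eq_inv_iff_mul_eq_one]
  simpa only [pow_succ, pow_zero, one_mul] using this

theorem Rel.mul_self (h : Rel x m) {i : ℕ} (h1 : 1 ≤ i) (hi : i < m) : x i * x i = 1 := by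
  rw [← pow_two, h.h2 i h1 hi]

end

/-! ### moving letters through descending products -/

section
variable {x : ℕ → G} {j : ℕ}

theorem desc_comm (h : Rel x (j + 1)) {i : ℕ} (h1 : 1 ≤ i) :
    ∀ k : ℕ, i + k < j → x i * desc x j k = desc x j k * x i := by
  intro k
  induction k with
  | zero => intro _; simp
  | succ k ih =>
    intro hk
    rw [desc_succ, ← mul_assoc, ih (by omega), mul_assoc, mul_assoc,
      h.comm h1 (by omega : i + 1 < j - k) (by omega)]

theorem desc_twist (h : Rel x (j + 1)) :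
    ∀ k : ℕ, k < j → ∀ z : G, (z = x 0 ∨ z = (x 0)⁻¹) →
      ∃ z' : G, (z' = x 0 ∨ z' = (x 0)⁻¹) ∧ desc x j k * z = z' * desc x j k := by
  intro k
  induction k with
  | zero => intro _ z hz; exact ⟨z, hz, by simp⟩
  | succ k ih =>
    intro hk z hz
    have hjk : 1 < j - k := by omega
    have hjk' : j - k < j + 1 := by omega
    rcases hz with rfl | rfl
    · obtain ⟨z', hz', e⟩ := ih (by omega) (x 0)⁻¹ (Or.inr rfl)
      refine ⟨z', hz', ?_⟩
      rw [desc_succ, mul_assoc, h.twist hjk hjk', ← mul_assoc, e, mul_assoc]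
    · obtain ⟨z', hz', e⟩ := ih (by omega) (x 0) (Or.inl rfl)
      refine ⟨z', hz', ?_⟩
      rw [desc_succ, mul_assoc, h.twist' hjk hjk', ← mul_assoc, e, mul_assoc]

theorem desc_braid (h : Rel x (j + 1)) {i : ℕ} (hi : i ≤ j) :
    ∀ k : ℕ, k ≤ j → j + 2 ≤ i + k → desc x j k * x i = x (i - 1) * desc x j k := by
  intro k
  induction k with
  | zero => intro _ h2; omega
  | succ k ih =>
    intro hk h2
    rcases Nat.eq_or_lt_of_le h2 with e | hlt
    · -- i + k = j + 1 : `x i` is the last letter of `desc k`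
      obtain ⟨k', rfl⟩ : ∃ k', k = k' + 1 := ⟨k - 1, by omega⟩
      have e1 : j - k' = i := by omega
      have e2 : j - (k' + 1) = i - 1 := by omega
      have e3 : i = (i - 1) + 1 := by omega
      rw [desc_succ, desc_succ, e1, e2]
      have hb := h.braid (i := i - 1) (by omega) (by omega)
      rw [← e3] at hb
      have hc := desc_comm h (i := i - 1) (by omega) k' (by omega)
      calc desc x j k' * x i * x (i - 1) * x i
          = desc x j k' * (x i * x (i - 1) * x i) := by simp only [mul_assoc]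
        _ = desc x j k' * (x (i - 1) * x i * x (i - 1)) := by rw [hb]
        _ = (desc x j k' * x (i - 1)) * x i * x (i - 1) := by simp only [mul_assoc]
        _ = x (i - 1) * (desc x j k' * x i * x (i - 1)) := by
            rw [← hc]; simp only [mul_assoc]
    · have ih' := ih (by omega) (by omega)
      have hc := h.comm (i := j - k) (k := i) (by omega) (by omega) (by omega)
      rw [desc_succ, mul_assoc, hc, ← mul_assoc, ih', mul_assoc]

end

/-! ### the chain of subgroups -/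

/-- the subgroup generated by `x i`, `i < j`. -/
def Hs (x : ℕ → G) (j : ℕ) : Subgroup G := Subgroup.closure (x '' {i | i < j})

theorem mem_Hs {x : ℕ → G} {j i : ℕ} (hi : i < j) : x i ∈ Hs x j :=
  Subgroup.subset_closure ⟨i, hi, rfl⟩

theorem Hs_mono {x : ℕ → G} {j j' : ℕ} (h : j ≤ j') : Hs x j ≤ Hs x j' :=
  Subgroup.closure_mono (Set.image_mono fun _ hi => lt_of_lt_of_le hi h)

section
variable {x : ℕ → G} {j : ℕ}

theorem step_mul (h : Rel x (j + 1)) (hj : 1 ≤ j) {k i : ℕ} (hk : k ≤ j + 2) (hi : i ≤ j) :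
    ∃ u ∈ Hs x j, ∃ k' ≤ j + 2, desc x j k * x i = u * desc x j k' := by
  have hx0 : x 0 ∈ Hs x j := mem_Hs (by omega)
  have hz : ∀ z : G, (z = x 0 ∨ z = (x 0)⁻¹) → z ∈ Hs x j := by
    rintro z (rfl | rfl)
    · exact hx0
    · exact inv_mem hx0
  obtain ⟨j', rfl⟩ : ∃ j', j = j' + 1 := ⟨j - 1, by omega⟩
  have hd1 : desc x (j' + 1) (j' + 1) = desc x (j' + 1) j' * x 1 := by
    rw [desc_succ]; congr 2; omega
  have hd2 : desc x (j' + 1) (j' + 2) = desc x (j' + 1) (j' + 1) * x 0 := by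
    rw [desc_succ]; congr 2; omega
  have hd3 : desc x (j' + 1) (j' + 3) = desc x (j' + 1) (j' + 1) * (x 0)⁻¹ := by
    rw [desc_succ, hd2, mul_assoc, ← h.sq0]; congr 3; omega
  rcases Nat.lt_or_ge k (j' + 2) with hk1 | hk1
  · -- k ≤ j
    rcases Nat.lt_trichotomy (i + k) (j' + 1) with h1 | h1 | h1
    · rcases Nat.eq_zero_or_pos i with rfl | hi0
      · obtain ⟨z', hz', e⟩ := desc_twist h k (by omega) (x 0) (Or.inl rfl)
        exact ⟨z', hz z' hz', k, hk, e⟩
      · exact ⟨x i, mem_Hs (by omega), k, hk, (desc_comm h hi0 k (by omega)).symm⟩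
    · refine ⟨1, one_mem _, k + 1, by omega, ?_⟩
      rw [desc_succ, one_mul]; congr 2; omega
    · rcases Nat.eq_or_lt_of_le (Nat.succ_le_of_lt h1) with e | hlt
      · -- i + k = j + 1
        obtain ⟨k', rfl⟩ : ∃ k', k = k' + 1 := ⟨k - 1, by omega⟩
        refine ⟨1, one_mem _, k', by omega, ?_⟩
        have e1 : j' + 1 - k' = i := by omega
        rw [desc_succ, e1, mul_assoc, h.mul_self (by omega) (by omega), mul_one, one_mul]
      · exact ⟨x (i - 1), mem_Hs (by omega), k, hk, desc_braid h hi k (by omega) (by omega)⟩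
  · rcases Nat.eq_or_lt_of_le hk1 with e | hlt
    · -- k = j + 1
      obtain rfl : k = j' + 2 := e.symm
      rcases Nat.lt_trichotomy i 1 with h1 | rfl | h1
      · obtain rfl : i = 0 := by omega
        refine ⟨1, one_mem _, j' + 3, le_rfl, ?_⟩
        rw [one_mul, desc_succ (k := j' + 2)]; congr 2; omega
      · obtain ⟨z', hz', e⟩ := desc_twist h j' (by omega) (x 0)⁻¹ (Or.inr rfl)
        refine ⟨z', hz z' hz', j' + 3, le_rfl, ?_⟩
        rw [hd2, hd3, hd1]
        calc desc x (j' + 1) j' * x 1 * x 0 * x 1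
            = desc x (j' + 1) j' * (x 1 * x 0 * x 1) := by simp only [mul_assoc]
          _ = desc x (j' + 1) j' * ((x 0)⁻¹ * x 1 * (x 0)⁻¹) := by rw [h.braid0 (by omega)]
          _ = (desc x (j' + 1) j' * (x 0)⁻¹) * x 1 * (x 0)⁻¹ := by simp only [mul_assoc]
          _ = z' * (desc x (j' + 1) j' * x 1 * (x 0)⁻¹) := by rw [e]; simp only [mul_assoc]
      · refine ⟨x (i - 1), mem_Hs (by omega), j' + 3, le_rfl, ?_⟩
        rw [hd2, hd3]
        have hb := desc_braid h hi (j' + 1) le_rfl (by omega)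
        calc desc x (j' + 1) (j' + 1) * x 0 * x i
            = desc x (j' + 1) (j' + 1) * (x 0 * x i) := by simp only [mul_assoc]
          _ = desc x (j' + 1) (j' + 1) * (x i * (x 0)⁻¹) := by
              rw [h.twist' (by omega : 1 < i) (by omega)]
          _ = (desc x (j' + 1) (j' + 1) * x i) * (x 0)⁻¹ := by simp only [mul_assoc]
          _ = x (i - 1) * (desc x (j' + 1) (j' + 1) * (x 0)⁻¹) := by
              rw [hb]; simp only [mul_assoc]
    · -- k = j + 2
      obtain rfl : k = j' + 3 := by omega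
      rcases Nat.lt_trichotomy i 1 with h1 | rfl | h1
      · obtain rfl : i = 0 := by omega
        refine ⟨1, one_mem _, j' + 1, by omega, ?_⟩
        rw [hd3, one_mul, mul_assoc, inv_mul_cancel, mul_one]
      · obtain ⟨z', hz', e⟩ := desc_twist h j' (by omega) (x 0) (Or.inl rfl)
        refine ⟨z', hz z' hz', j' + 2, by omega, ?_⟩
        rw [hd2, hd3, hd1]
        calc desc x (j' + 1) j' * x 1 * (x 0)⁻¹ * x 1
            = desc x (j' + 1) j' * (x 1 * (x 0)⁻¹ * x 1) := by simp only [mul_assoc]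
          _ = desc x (j' + 1) j' * (x 0 * x 1 * x 0) := by rw [h.braid0' (by omega)]
          _ = (desc x (j' + 1) j' * x 0) * x 1 * x 0 := by simp only [mul_assoc]
          _ = z' * (desc x (j' + 1) j' * x 1 * x 0) := by rw [e]; simp only [mul_assoc]
      · refine ⟨x (i - 1), mem_Hs (by omega), j' + 2, by omega, ?_⟩
        rw [hd2, hd3]
        have hb := desc_braid h hi (j' + 1) le_rfl (by omega)
        calc desc x (j' + 1) (j' + 1) * (x 0)⁻¹ * x i
            = desc x (j' + 1) (j' + 1) * ((x 0)⁻¹ * x i) := by simp only [mul_assoc]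
          _ = desc x (j' + 1) (j' + 1) * (x i * x 0) := by
              rw [h.twist (by omega : 1 < i) (by omega)]
          _ = (desc x (j' + 1) (j' + 1) * x i) * x 0 := by simp only [mul_assoc]
          _ = x (i - 1) * (desc x (j' + 1) (j' + 1) * x 0) := by
              rw [hb]; simp only [mul_assoc]

/-- the set covered by the `j + 3` cosets. -/
def Cov (x : ℕ → G) (j : ℕ) : Set G :=
  {g | ∃ u ∈ Hs x j, ∃ k ≤ j + 2, g = u * desc x j k}

theorem cov_mul (h : Rel x (j + 1)) (hj : 1 ≤ j) {g : G} (hg : g ∈ Cov x j) {i : ℕ}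
    (hi : i ≤ j) : g * x i ∈ Cov x j := by
  obtain ⟨u, hu, k, hk, rfl⟩ := hg
  obtain ⟨u', hu', k', hk', e⟩ := step_mul h hj hk hi
  exact ⟨u * u', mul_mem hu hu', k', hk', by rw [mul_assoc, e, mul_assoc]⟩

theorem cov_mul_inv (h : Rel x (j + 1)) (hj : 1 ≤ j) {g : G} (hg : g ∈ Cov x j) {i : ℕ}
    (hi : i ≤ j) : g * (x i)⁻¹ ∈ Cov x j := by
  rcases Nat.eq_zero_or_pos i with rfl | hi0
  · rw [← h.sq0, ← mul_assoc]
    exact cov_mul h hj (cov_mul h hj hg hi) hi
  · rw [g_inv_of_sq (h.h2 i hi0 (by omega))]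
    exact cov_mul h hj hg hi

theorem step_cover (h : Rel x (j + 1)) (hj : 1 ≤ j) :
    ∀ g ∈ Hs x (j + 1), g ∈ Cov x j := by
  intro g hg
  unfold Hs at hg
  induction hg using Subgroup.closure_induction_right with
  | one => exact ⟨1, one_mem _, 0, by omega, by simp⟩
  | mul_right g hg y hy ih =>
    obtain ⟨i, hi, rfl⟩ := hy
    exact cov_mul h hj ih (Nat.lt_succ_iff.mp hi)
  | mul_inv_cancel g hg y hy ih =>
    obtain ⟨i, hi, rfl⟩ := hy
    exact cov_mul_inv h hj ih (Nat.lt_succ_iff.mp hi)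

theorem step_card (h : Rel x (j + 1)) (hj : 1 ≤ j) [Finite (Hs x j)] :
    Finite (Hs x (j + 1)) ∧ Nat.card (Hs x (j + 1)) ≤ (j + 3) * Nat.card (Hs x j) := by
  have hc := step_cover h hj
  choose u hu k hk hg using hc
  let F : Hs x (j + 1) → Hs x j × Fin (j + 3) := fun g =>
    (⟨u g g.2, hu g g.2⟩, ⟨k g g.2, Nat.lt_succ_of_le (hk g g.2)⟩)
  have hF : Function.Injective F := by
    intro a b hab
    have h1 : u a a.2 = u b b.2 := congrArg (fun p => (p.1 : G)) hab
    have h2 : k a a.2 = k b b.2 := congrArg (fun p => (p.2 : ℕ)) hab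
    apply Subtype.ext
    rw [hg a a.2, hg b b.2, h1, h2]
  refine ⟨Finite.of_injective F hF, ?_⟩
  have := Nat.card_le_card_of_injective F hF
  rwa [Nat.card_prod, Nat.card_fin, mul_comm] at this

end


theorem base_card {x : ℕ → G} (h : x 0 ^ 3 = 1) :
    Finite (Hs x 1) ∧ Nat.card (Hs x 1) ≤ 3 := by
  have hH : Hs x 1 = Subgroup.zpowers (x 0) := by
    unfold Hs
    rw [Subgroup.zpowers_eq_closure]
    congr 1
    ext g
    constructor
    · rintro ⟨i, hi, rfl⟩
      obtain rfl : i = 0 := by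
        have : i < 1 := hi
        omega
      rfl
    · rintro rfl
      exact ⟨0, Nat.zero_lt_one, rfl⟩
  have hfin : IsOfFinOrder (x 0) := isOfFinOrder_iff_pow_eq_one.mpr ⟨3, by norm_num, h⟩
  rw [hH]
  refine ⟨?_, ?_⟩
  · exact Set.finite_coe_iff.mpr (finite_zpowers.mpr hfin)
  · rw [Nat.card_zpowers]
    exact Nat.le_of_dvd (by norm_num) (orderOf_dvd_of_pow_eq_one h)

theorem card_bound {x : ℕ → G} :
    ∀ m : ℕ, 1 ≤ m → Rel x m → Finite (Hs x m) ∧ 2 * Nat.card (Hs x m) ≤ (m + 2).factorial := by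
  intro m hm
  induction m, hm using Nat.le_induction with
  | base =>
    intro h
    obtain ⟨h1, h2⟩ := base_card h.h3
    refine ⟨h1, ?_⟩
    have : (1 + 2).factorial = 6 := by decide
    omega
  | succ j hj ih =>
    intro h
    obtain ⟨h1, h2⟩ := ih (h.mono (Nat.le_succ j))
    haveI := h1
    obtain ⟨h3, h4⟩ := step_card h hj
    refine ⟨h3, ?_⟩
    have e : (j + 1 + 2).factorial = (j + 3) * (j + 2).factorial := by
      rw [show j + 1 + 2 = (j + 2) + 1 by ring, Nat.factorial_succ]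
    rw [e]
    calc 2 * Nat.card (Hs x (j + 1)) ≤ 2 * ((j + 3) * Nat.card (Hs x j)) :=
          Nat.mul_le_mul_left _ h4
      _ = (j + 3) * (2 * Nat.card (Hs x j)) := by ring
      _ ≤ (j + 3) * (j + 2).factorial := Nat.mul_le_mul_left _ h2


theorem Hs_one (x : ℕ → G) : Hs x 1 = Subgroup.zpowers (x 0) := by
  unfold Hs
  rw [Subgroup.zpowers_eq_closure]
  congr 1
  ext g
  constructor
  · rintro ⟨i, hi, rfl⟩
    obtain rfl : i = 0 := by
      have : i < 1 := hi
      omega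
    rfl
  · rintro rfl
    exact ⟨0, Nat.zero_lt_one, rfl⟩

theorem desc_mem (x : ℕ → G) (j : ℕ) : ∀ k : ℕ, desc x j k ∈ Hs x (j + 1) := by
  intro k
  induction k with
  | zero => exact one_mem _
  | succ k ih => exact mul_mem ih (mem_Hs (by omega))

end Cfsg.Agent.Helper5.Carmichael
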