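import Mathlib
import Cfsg.Agent.Helper5.CarmichaelA

set_option autoImplicit false
set_option linter.unusedSectionVars false

namespace Cfsg.Agent.Helper5.Carmichael

open Equiv

variable {α : Type*} [DecidableEq α] [Fintype α]

/-- Carmichael generators of the alternating group on the points `p 0, p 1, …`. -/
def yy (p : ℕ → α) (i : ℕ) : Perm α :=
  if i = 0 then swap (p 0) (p 1) * swap (p 1) (p 2)
  else swap (p 0) (p 1) * swap (p (i + 1)) (p (i + 2))

theorem yy_zero (p : ℕ → α) : yy p 0 = swap (p 0) (p 1) * swap (p 1) (p 2) := by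
  simp [yy]

theorem yy_pos (p : ℕ → α) {i : ℕ} (hi : 1 ≤ i) :
    yy p i = swap (p 0) (p 1) * swap (p (i + 1)) (p (i + 2)) := by
  have : i ≠ 0 := by omega
  simp [yy, this]

theorem swap_cube {a b c : α} (ab : a ≠ b) (ac : a ≠ c) (bc : b ≠ c) :
    (swap a b * swap b c) ^ 3 = 1 := by
  have h := (Equiv.Perm.isThreeCycle_swap_mul_swap_same ab.symm bc ac).orderOf
  rw [swap_comm b a] at h
  rw [← h]
  exact pow_orderOf_eq_one _

theorem swap_commute {a b c d : α} (ac : a ≠ c) (ad : a ≠ d) (bc : b ≠ c) (bd : b ≠ d) :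
    Commute (swap a b) (swap c d) := by
  by_cases hab : a = b
  · subst hab; rw [swap_self]; exact Commute.one_left _
  by_cases hcd : c = d
  · subst hcd; rw [swap_self]; exact Commute.one_right _
  apply Equiv.Perm.Disjoint.commute
  apply Equiv.Perm.disjoint_swap_swap
  simp [ac, ad, bc, bd, hab, hcd]

theorem swap_sq (a b : α) : swap a b ^ 2 = 1 := by
  rw [pow_two, swap_mul_self]

section
variable {p : ℕ → α} {N : ℕ}

theorem yy_rel (hp : ∀ a b, a < N → b < N → a ≠ b → p a ≠ p b) {m : ℕ} (hm1 : 1 ≤ m) (hm : m + 2 ≤ N) :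
    Rel (yy p) m := by
  have ne : ∀ a b, a < N → b < N → a ≠ b → p a ≠ p b := hp
  have hT : ∀ i, 1 ≤ i → i < m →
      Commute (swap (p 0) (p 1)) (swap (p (i + 1)) (p (i + 2))) := by
    intro i h1 hi
    exact swap_commute (ne _ _ (by omega) (by omega) (by omega))
      (ne _ _ (by omega) (by omega) (by omega)) (ne _ _ (by omega) (by omega) (by omega))
      (ne _ _ (by omega) (by omega) (by omega))
  have hTT : swap (p 0) (p 1) * swap (p 0) (p 1) = 1 := swap_mul_self _ _
  refine ⟨?_, ?_, ?_, ?_⟩
  · rw [yy_zero]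
    exact swap_cube (ne _ _ (by omega) (by omega) (by omega))
      (ne _ _ (by omega) (by omega) (by omega)) (ne _ _ (by omega) (by omega) (by omega))
  · intro i h1 hi
    rw [yy_pos p h1, (hT i h1 hi).mul_pow, swap_sq, swap_sq, one_mul]
  · intro i hi
    rcases Nat.eq_zero_or_pos i with rfl | h1
    · rw [yy_zero, yy_pos p le_rfl]
      have e : swap (p 0) (p 1) * swap (p 1) (p 2) * (swap (p 0) (p 1) * swap (p 2) (p 3))
          = swap (p 0) (p 2) * swap (p 2) (p 3) := by
        have := swap_mul_swap_mul_swap (x := p 2) (y := p 1) (z := p 0)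
          (ne _ _ (by omega) (by omega) (by omega)) (ne _ _ (by omega) (by omega) (by omega))
        rw [swap_comm (p 1) (p 0), swap_comm (p 2) (p 1)] at this
        rw [← mul_assoc, this]
      rw [e]
      exact swap_cube (ne _ _ (by omega) (by omega) (by omega))
        (ne _ _ (by omega) (by omega) (by omega)) (ne _ _ (by omega) (by omega) (by omega))
    · rw [yy_pos p h1, yy_pos p (by omega : 1 ≤ i + 1)]
      have e : swap (p 0) (p 1) * swap (p (i + 1)) (p (i + 2)) *
          (swap (p 0) (p 1) * swap (p (i + 1 + 1)) (p (i + 1 + 2)))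
          = swap (p (i + 1)) (p (i + 2)) * swap (p (i + 2)) (p (i + 3)) := by
        rw [(hT i h1 (by omega)).eq, mul_assoc, ← mul_assoc (swap (p 0) (p 1)), hTT, one_mul]
      rw [e]
      exact swap_cube (ne _ _ (by omega) (by omega) (by omega))
        (ne _ _ (by omega) (by omega) (by omega)) (ne _ _ (by omega) (by omega) (by omega))
  · intro i k hik hk
    rcases Nat.eq_zero_or_pos i with rfl | h1
    · rw [yy_zero, yy_pos p (by omega : 1 ≤ k)]
      have e : swap (p 0) (p 1) * swap (p 1) (p 2) *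
          (swap (p 0) (p 1) * swap (p (k + 1)) (p (k + 2)))
          = swap (p 0) (p 2) * swap (p (k + 1)) (p (k + 2)) := by
        have := swap_mul_swap_mul_swap (x := p 2) (y := p 1) (z := p 0)
          (ne _ _ (by omega) (by omega) (by omega)) (ne _ _ (by omega) (by omega) (by omega))
        rw [swap_comm (p 1) (p 0), swap_comm (p 2) (p 1)] at this
        rw [← mul_assoc, this]
      rw [e]
      have hc : Commute (swap (p 0) (p 2)) (swap (p (k + 1)) (p (k + 2))) :=
        swap_commute (ne _ _ (by omega) (by omega) (by omega))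
          (ne _ _ (by omega) (by omega) (by omega)) (ne _ _ (by omega) (by omega) (by omega))
          (ne _ _ (by omega) (by omega) (by omega))
      rw [hc.mul_pow, swap_sq, swap_sq, one_mul]
    · rw [yy_pos p h1, yy_pos p (by omega : 1 ≤ k)]
      have e : swap (p 0) (p 1) * swap (p (i + 1)) (p (i + 2)) *
          (swap (p 0) (p 1) * swap (p (k + 1)) (p (k + 2)))
          = swap (p (i + 1)) (p (i + 2)) * swap (p (k + 1)) (p (k + 2)) := by
        rw [(hT i h1 (by omega)).eq, mul_assoc, ← mul_assoc (swap (p 0) (p 1)), hTT, one_mul]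
      rw [e]
      have hc : Commute (swap (p (i + 1)) (p (i + 2))) (swap (p (k + 1)) (p (k + 2))) :=
        swap_commute (ne _ _ (by omega) (by omega) (by omega))
          (ne _ _ (by omega) (by omega) (by omega)) (ne _ _ (by omega) (by omega) (by omega))
          (ne _ _ (by omega) (by omega) (by omega))
      rw [hc.mul_pow, swap_sq, swap_sq, one_mul]

end


section
variable {p : ℕ → α} {N : ℕ}

theorem yy_apply_succ (hp : ∀ a b, a < N → b < N → a ≠ b → p a ≠ p b) {i : ℕ} (h1 : 1 ≤ i)
    (hi : i + 2 < N) : yy p i (p (i + 1)) = p (i + 2) := by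
  rw [yy_pos p h1, Perm.mul_apply, swap_apply_left,
    swap_apply_of_ne_of_ne (hp _ _ (by omega) (by omega) (by omega))
      (hp _ _ (by omega) (by omega) (by omega))]

theorem yy_zero_apply_one (hp : ∀ a b, a < N → b < N → a ≠ b → p a ≠ p b) (hN : 3 ≤ N) :
    yy p 0 (p 1) = p 2 := by
  rw [yy_zero, Perm.mul_apply, swap_apply_left,
    swap_apply_of_ne_of_ne (hp _ _ (by omega) (by omega) (by omega))
      (hp _ _ (by omega) (by omega) (by omega))]

theorem yy_zero_apply_zero (hp : ∀ a b, a < N → b < N → a ≠ b → p a ≠ p b) (hN : 3 ≤ N) :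
    yy p 0 (p 0) = p 1 := by
  rw [yy_zero, Perm.mul_apply,
    swap_apply_of_ne_of_ne (hp _ _ (by omega) (by omega) (by omega))
      (hp _ _ (by omega) (by omega) (by omega)), swap_apply_left]

theorem yy_fix (hp : ∀ a b, a < N → b < N → a ≠ b → p a ≠ p b) {i j : ℕ} (hij : i < j)
    (hj : j + 2 < N) : yy p i (p (j + 2)) = p (j + 2) := by
  rcases Nat.eq_zero_or_pos i with rfl | h1
  · rw [yy_zero, Perm.mul_apply,
      swap_apply_of_ne_of_ne (hp _ _ (by omega) (by omega) (by omega))
        (hp _ _ (by omega) (by omega) (by omega)),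
      swap_apply_of_ne_of_ne (hp _ _ (by omega) (by omega) (by omega))
        (hp _ _ (by omega) (by omega) (by omega))]
  · rw [yy_pos p h1, Perm.mul_apply,
      swap_apply_of_ne_of_ne (hp _ _ (by omega) (by omega) (by omega))
        (hp _ _ (by omega) (by omega) (by omega)),
      swap_apply_of_ne_of_ne (hp _ _ (by omega) (by omega) (by omega))
        (hp _ _ (by omega) (by omega) (by omega))]

theorem desc_apply (hp : ∀ a b, a < N → b < N → a ≠ b → p a ≠ p b) {j : ℕ} (hj : 1 ≤ j)
    (hjN : j + 2 < N) :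
    ∀ k : ℕ, k ≤ j + 2 → desc (yy p) j k (p (j + 2 - k)) = p (j + 2) := by
  intro k
  induction k with
  | zero => intro _; simp
  | succ k ih =>
    intro hk
    rw [desc_succ, Perm.mul_apply]
    have ih' := ih (by omega)
    rcases Nat.lt_trichotomy k j with h1 | rfl | h1
    · have e1 : j + 2 - (k + 1) = (j - k) + 1 := by omega
      have e2 : j + 2 - k = (j - k) + 2 := by omega
      rw [e1, yy_apply_succ hp (by omega) (by omega), ← e2, ih']
    · have e1 : k + 2 - (k + 1) = 1 := by omega
      have e2 : k + 2 - k = 2 := by omega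
      rw [e1, Nat.sub_self, yy_zero_apply_one hp (by omega)]
      rw [e2] at ih'
      exact ih'
    · obtain rfl : k = j + 1 := by omega
      have e1 : j + 2 - (j + 1 + 1) = 0 := by omega
      have e2 : j + 2 - (j + 1) = 1 := by omega
      have e3 : j - (j + 1) = 0 := by omega
      rw [e1, e3, yy_zero_apply_zero hp (by omega)]
      rw [e2] at ih'
      exact ih'

theorem Hs_fix (hp : ∀ a b, a < N → b < N → a ≠ b → p a ≠ p b) {j : ℕ} (hjN : j + 2 < N) :
    ∀ g ∈ Hs (yy p) j, g (p (j + 2)) = p (j + 2) := by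
  intro g hg
  unfold Hs at hg
  induction hg using Subgroup.closure_induction with
  | mem g hg =>
    obtain ⟨i, hi, rfl⟩ := hg
    exact yy_fix hp hi hjN
  | one => rfl
  | mul a b _ _ iha ihb => rw [Perm.mul_apply, ihb, iha]
  | inv a _ iha => rw [Perm.inv_eq_iff_eq, iha]

theorem low_step (hp : ∀ a b, a < N → b < N → a ≠ b → p a ≠ p b) {j : ℕ} (hj : 1 ≤ j)
    (hjN : j + 2 < N) :
    (j + 3) * Nat.card (Hs (yy p) j) ≤ Nat.card (Hs (yy p) (j + 1)) := by
  let F : Hs (yy p) j × Fin (j + 3) → Hs (yy p) (j + 1) := fun q =>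
    ⟨q.1.1 * desc (yy p) j q.2, mul_mem (Hs_mono (Nat.le_succ j) q.1.2) (desc_mem _ _ _)⟩
  have hF : Function.Injective F := by
    rintro ⟨⟨u, hu⟩, ⟨k, hk⟩⟩ ⟨⟨u', hu'⟩, ⟨k', hk'⟩⟩ hqq
    have e : u * desc (yy p) j k = u' * desc (yy p) j k' := congrArg Subtype.val hqq
    have a1 : (u * desc (yy p) j k) (p (j + 2 - k)) = p (j + 2) := by
      rw [Perm.mul_apply, desc_apply hp hj hjN k (by omega), Hs_fix hp hjN u hu]
    have a2 : (u * desc (yy p) j k) (p (j + 2 - k')) = p (j + 2) := by
      rw [e, Perm.mul_apply, desc_apply hp hj hjN k' (by omega), Hs_fix hp hjN u' hu']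
    have a3 : p (j + 2 - k) = p (j + 2 - k') :=
      (u * desc (yy p) j k).injective (a1.trans a2.symm)
    have hkk : k = k' := by
      by_contra hne
      exact hp (j + 2 - k) (j + 2 - k') (by omega) (by omega) (by omega) a3
    subst hkk
    have huu : u = u' := mul_right_cancel e
    subst huu
    rfl
  have := Nat.card_le_card_of_injective F hF
  rwa [Nat.card_prod, Nat.card_fin, mul_comm] at this

theorem low_bound (hp : ∀ a b, a < N → b < N → a ≠ b → p a ≠ p b) :
    ∀ m : ℕ, 1 ≤ m → m + 2 ≤ N → (m + 2).factorial ≤ 2 * Nat.card (Hs (yy p) m) := by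
  intro m hm
  induction m, hm using Nat.le_induction with
  | base =>
    intro hN
    rw [Hs_one, Nat.card_zpowers, yy_zero]
    have h := (Equiv.Perm.isThreeCycle_swap_mul_swap_same
      (hp 1 0 (by omega) (by omega) (by omega)) (hp 1 2 (by omega) (by omega) (by omega))
      (hp 0 2 (by omega) (by omega) (by omega))).orderOf
    rw [swap_comm (p 1) (p 0)] at h
    rw [h]
    decide
  | succ j hj ih =>
    intro hN
    have h1 := ih (by omega)
    have h2 := low_step hp hj (by omega : j + 2 < N)
    have e : (j + 1 + 2).factorial = (j + 3) * (j + 2).factorial := by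
      rw [show j + 1 + 2 = (j + 2) + 1 by ring, Nat.factorial_succ]
    rw [e]
    calc (j + 3) * (j + 2).factorial ≤ (j + 3) * (2 * Nat.card (Hs (yy p) j)) :=
          Nat.mul_le_mul_left _ h1
      _ = 2 * ((j + 3) * Nat.card (Hs (yy p) j)) := by ring
      _ ≤ 2 * Nat.card (Hs (yy p) (j + 1)) := Nat.mul_le_mul_left _ h2

theorem yy_sign (hp : ∀ a b, a < N → b < N → a ≠ b → p a ≠ p b) {i : ℕ} (hi : i + 2 < N) :
    Equiv.Perm.sign (yy p i) = 1 := by
  rcases Nat.eq_zero_or_pos i with rfl | h1
  · rw [yy_zero, map_mul, Equiv.Perm.sign_swap (hp _ _ (by omega) (by omega) (by omega)),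
      Equiv.Perm.sign_swap (hp _ _ (by omega) (by omega) (by omega))]
    rfl
  · rw [yy_pos p h1, map_mul, Equiv.Perm.sign_swap (hp _ _ (by omega) (by omega) (by omega)),
      Equiv.Perm.sign_swap (hp _ _ (by omega) (by omega) (by omega))]
    rfl

end

end Cfsg.Agent.Helper5.Carmichael
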