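import Mathlib
import Cfsg.Agent.Helper5.CarmichaelB

set_option autoImplicit false

namespace Cfsg.Agent.Helper5.Carmichael

/-- Carmichael's relators on `m` generators. -/
def rels (m : ℕ) : Set (FreeGroup (Fin m)) :=
  {g : FreeGroup (Fin m) | ∃ i : Fin m, i.val = 0 ∧ g = FreeGroup.of i ^ 3} ∪
   {g | ∃ i : Fin m, 1 ≤ i.val ∧ g = FreeGroup.of i ^ 2} ∪
   {g | ∃ i j : Fin m, j.val = i.val + 1 ∧ g = (FreeGroup.of i * FreeGroup.of j) ^ 3} ∪
   {g | ∃ i j : Fin m, i.val + 1 < j.val ∧ g = (FreeGroup.of i * FreeGroup.of j) ^ 2}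

/-- the points `0, 1, …` of `Fin (m + 2)`. -/
def pt (m : ℕ) (i : ℕ) : Fin (m + 2) := if h : i < m + 2 then ⟨i, h⟩ else 0

theorem pt_ne (m : ℕ) : ∀ a b, a < m + 2 → b < m + 2 → a ≠ b → pt m a ≠ pt m b := by
  intro a b ha hb hab h
  simp only [pt, ha, hb, dif_pos, Fin.mk.injEq] at h
  exact hab h

/-- the generators of the presented group, indexed by `ℕ`. -/
noncomputable def gen (m : ℕ) (i : ℕ) : PresentedGroup (rels m) :=
  if h : i < m then PresentedGroup.of ⟨i, h⟩ else 1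

theorem gen_of (m : ℕ) (i : Fin m) : gen m i.val = PresentedGroup.of i := by
  simp [gen]

theorem gen_rel (m : ℕ) (hm : 1 ≤ m) : Rel (gen m) m := by
  refine ⟨?_, ?_, ?_, ?_⟩
  · have : gen m 0 = PresentedGroup.of (⟨0, hm⟩ : Fin m) := gen_of m ⟨0, hm⟩
    rw [this]
    have h : (FreeGroup.of (⟨0, hm⟩ : Fin m)) ^ 3 ∈ rels m :=
      Or.inl (Or.inl (Or.inl ⟨⟨0, hm⟩, rfl, rfl⟩))
    have := PresentedGroup.one_of_mem h
    rw [map_pow] at this; exact this
  · intro i h1 hi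
    have : gen m i = PresentedGroup.of (⟨i, hi⟩ : Fin m) := gen_of m ⟨i, hi⟩
    rw [this]
    have h : (FreeGroup.of (⟨i, hi⟩ : Fin m)) ^ 2 ∈ rels m :=
      Or.inl (Or.inl (Or.inr ⟨⟨i, hi⟩, h1, rfl⟩))
    have := PresentedGroup.one_of_mem h
    rw [map_pow] at this; exact this
  · intro i hi
    have e1 : gen m i = PresentedGroup.of (⟨i, by omega⟩ : Fin m) := gen_of m ⟨i, by omega⟩
    have e2 : gen m (i + 1) = PresentedGroup.of (⟨i + 1, hi⟩ : Fin m) := gen_of m ⟨i + 1, hi⟩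
    rw [e1, e2]
    have h : (FreeGroup.of (⟨i, by omega⟩ : Fin m) * FreeGroup.of (⟨i + 1, hi⟩ : Fin m)) ^ 3
        ∈ rels m :=
      Or.inl (Or.inr ⟨⟨i, by omega⟩, ⟨i + 1, hi⟩, rfl, rfl⟩)
    have := PresentedGroup.one_of_mem h
    rw [map_pow, map_mul] at this; exact this
  · intro i k hik hk
    have e1 : gen m i = PresentedGroup.of (⟨i, by omega⟩ : Fin m) := gen_of m ⟨i, by omega⟩
    have e2 : gen m k = PresentedGroup.of (⟨k, hk⟩ : Fin m) := gen_of m ⟨k, hk⟩
    rw [e1, e2]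
    have h : (FreeGroup.of (⟨i, by omega⟩ : Fin m) * FreeGroup.of (⟨k, hk⟩ : Fin m)) ^ 2
        ∈ rels m :=
      Or.inr ⟨⟨i, by omega⟩, ⟨k, hk⟩, hik, rfl⟩
    have := PresentedGroup.one_of_mem h
    rw [map_pow, map_mul] at this; exact this

theorem Hs_gen (m : ℕ) : Hs (gen m) m = ⊤ := by
  rw [← PresentedGroup.closure_range_of (rels m)]
  unfold Hs
  congr 1
  ext g
  constructor
  · rintro ⟨i, hi, rfl⟩
    exact ⟨⟨i, hi⟩, (gen_of m ⟨i, hi⟩).symm⟩
  · rintro ⟨i, rfl⟩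
    exact ⟨i.val, i.2, gen_of m i⟩

theorem lift_rels (m : ℕ) (hm : 1 ≤ m) :
    ∀ r ∈ rels m, FreeGroup.lift (fun i : Fin m => yy (pt m) i.val) r = 1 := by
  have hR : Rel (yy (pt m)) m := yy_rel (pt_ne m) hm le_rfl
  intro r hr
  rcases hr with ((⟨i, hi, rfl⟩ | ⟨i, hi, rfl⟩) | ⟨i, j, hij, rfl⟩) | ⟨i, j, hij, rfl⟩
  · rw [map_pow, FreeGroup.lift_apply_of, hi]
    exact hR.h3
  · rw [map_pow, FreeGroup.lift_apply_of]
    exact hR.h2 i.val hi i.2
  · rw [map_pow, map_mul, FreeGroup.lift_apply_of, FreeGroup.lift_apply_of, hij]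
    exact hR.hb i.val (by have := j.2; omega)
  · rw [map_pow, map_mul, FreeGroup.lift_apply_of, FreeGroup.lift_apply_of]
    exact hR.hc i.val j.val hij j.2

/-- the homomorphism onto the alternating group. -/
noncomputable def psi (m : ℕ) (hm : 1 ≤ m) :
    PresentedGroup (rels m) →* Equiv.Perm (Fin (m + 2)) :=
  PresentedGroup.toGroup (lift_rels m hm)

theorem psi_gen (m : ℕ) (hm : 1 ≤ m) {i : ℕ} (hi : i < m) :
    psi m hm (gen m i) = yy (pt m) i := by
  have : gen m i = PresentedGroup.of (⟨i, hi⟩ : Fin m) := gen_of m ⟨i, hi⟩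
  rw [this]
  exact PresentedGroup.toGroup.of (lift_rels m hm)

theorem range_psi (m : ℕ) (hm : 1 ≤ m) : (psi m hm).range = Hs (yy (pt m)) m := by
  rw [MonoidHom.range_eq_map, ← Hs_gen m]
  unfold Hs
  rw [MonoidHom.map_closure, Set.image_image]
  congr 1
  apply Set.image_congr
  intro i hi
  exact psi_gen m hm hi

theorem range_le (m : ℕ) (hm : 1 ≤ m) : (psi m hm).range ≤ alternatingGroup (Fin (m + 2)) := by
  rw [range_psi]
  unfold Hs
  rw [Subgroup.closure_le]
  rintro g ⟨i, hi, rfl⟩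
  exact Equiv.Perm.mem_alternatingGroup.mpr (yy_sign (pt_ne m) (by
    have : i < m := hi
    omega))

theorem main (m : ℕ) (hm : 1 ≤ m) :
    Nonempty (PresentedGroup (rels m) ≃* alternatingGroup (Fin (m + 2))) := by
  -- upper bound
  obtain ⟨hfin, hup⟩ := card_bound (x := gen m) m hm (gen_rel m hm)
  rw [Hs_gen] at hup
  rw [Subgroup.card_top] at hup
  have : Finite (PresentedGroup (rels m)) := by
    rw [Hs_gen] at hfin
    exact Finite.of_injective (fun g => (⟨g, Subgroup.mem_top g⟩ : (⊤ : Subgroup _)))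
      (fun a b h => congrArg Subtype.val h)
  -- lower bound
  have hlow := low_bound (pt_ne m) m hm le_rfl
  rw [← range_psi m hm] at hlow
  -- the alternating group
  have hA : 2 * Nat.card (alternatingGroup (Fin (m + 2))) = (m + 2).factorial := by
    rw [two_mul_nat_card_alternatingGroup, Nat.card_perm, Nat.card_eq_fintype_card,
      Fintype.card_fin]
  have hrange : (psi m hm).range = alternatingGroup (Fin (m + 2)) :=
    Subgroup.eq_of_le_of_card_ge (range_le m hm) (by omega)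
  have hsurj : Function.Surjective (psi m hm).rangeRestrict := (psi m hm).rangeRestrict_surjective
  have hbij : Function.Bijective (psi m hm).rangeRestrict :=
    hsurj.bijective_of_nat_card_le (by omega)
  exact ⟨(MulEquiv.ofBijective _ hbij).trans (MulEquiv.subgroupCongr hrange)⟩

end Cfsg.Agent.Helper5.Carmichael
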