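import Mathlib
import Cfsg.Prelude.Def_LocalStructure
import Cfsg.Prelude.Def_LocalEven
import Cfsg.Agent.Helper5.Basic
import Cfsg.Agent.Helper5.Misc
import Cfsg.Agent.Helper5.Cores
import Cfsg.Agent.Helper5.PGroupCenter
import Cfsg.Agent.Helper5.CharP
import Cfsg.Agent.Helper5.CharP2
import Cfsg.Agent.Helper2.CharPLocal

/-!
Helper lemmas (helper5): characteristic `p` for normalizers and centralizers of `p`-subgroups,
and criteria for parabolic and local characteristic `p`.
-/

set_option autoImplicit false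

namespace Cfsg.Agent.Helper5

open Cfsg.Agent.Helper2

variable {G : Type*} [Group G]

/-- If `C_G(B)` has characteristic `p` (for a `p`-subgroup `B`) then so does `N_G(B)`. -/
theorem hasCharP_normalizer_of_centralizer [Finite G] {p : ℕ} [Fact p.Prime] (B : Subgroup G)
    (hB : IsPGroup p ↥B) (hK : HasCharP p ↥(Subgroup.centralizer (B : Set G))) :
    HasCharP p ↥(Subgroup.normalizer (B : Set G)) := by
  classical
  have hKN : Subgroup.centralizer (B : Set G) ≤ Subgroup.normalizer (B : Set G) :=
    Subgroup.centralizer_le_normalizer _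
  have hNK : Subgroup.normalizer (B : Set G) ≤
      Subgroup.normalizer ((Subgroup.centralizer (B : Set G) : Subgroup G) : Set G) :=
    normalizer_le_normalizer_centralizer B
  intro c hc
  rw [mem_centralizer_pCore_iff] at hc
  have hBle : B ≤ (Cfsg.pCore p ↥(Subgroup.normalizer (B : Set G))).map (Subgroup.normalizer (B : Set G)).subtype :=
    le_pCore_map_subtype _ B Subgroup.le_normalizer hB le_rfl
  have hcK : (c : G) ∈ Subgroup.centralizer (B : Set G) :=
    Subgroup.centralizer_le (SetLike.coe_subset_coe.mpr hBle) hc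
  have hOpK : (Cfsg.pCore p ↥(Subgroup.centralizer (B : Set G))).map (Subgroup.centralizer (B : Set G)).subtype ≤
      (Cfsg.pCore p ↥(Subgroup.normalizer (B : Set G))).map (Subgroup.normalizer (B : Set G)).subtype :=
    le_pCore_of_normal_in_normal _ (Subgroup.centralizer (B : Set G)) _ hKN hNK
      (pCore_map_subtype_le p _) (isPGroup_pCore_map_subtype p _) (le_normalizer_pCore_map_subtype p _)
  have hc' : (⟨(c : G), hcK⟩ : ↥(Subgroup.centralizer (B : Set G))) ∈
      Subgroup.centralizer (Cfsg.pCore p ↥(Subgroup.centralizer (B : Set G)) : Set ↥(Subgroup.centralizer (B : Set G))) := by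
    rw [mem_centralizer_pCore_iff]
    exact Subgroup.centralizer_le (SetLike.coe_subset_coe.mpr hOpK) hc
  have h4 := hK hc'
  have h5 : (c : G) ∈ (Cfsg.pCore p ↥(Subgroup.normalizer (B : Set G))).map (Subgroup.normalizer (B : Set G)).subtype :=
    hOpK ⟨⟨(c : G), hcK⟩, h4, rfl⟩
  obtain ⟨c'', hc'', hcc⟩ := h5
  have : c'' = c := Subtype.ext hcc
  rwa [this] at hc''

/-- If `z` is central in the `p`-subgroup `X` and `C_G(z)` has characteristic `p`, then `C_G(X)` and
`N_G(X)` have characteristic `p`. -/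
theorem hasCharP_of_central_elt [Finite G] {p : ℕ} [Fact p.Prime] (X : Subgroup G)
    (hX : IsPGroup p ↥X) (z : G) (hzX : z ∈ X) (hzc : ∀ x ∈ X, x * z = z * x)
    (hz : HasCharP p ↥(Subgroup.centralizer ({z} : Set G))) :
    HasCharP p ↥(Subgroup.centralizer (X : Set G)) ∧ HasCharP p ↥(Subgroup.normalizer (X : Set G)) := by
  have hXH : X ≤ Subgroup.centralizer ({z} : Set G) := by
    intro x hx
    rw [Subgroup.mem_centralizer_singleton_iff]
    exact hzc x hx
  have hHN := hasCharP_inf_normalizer _ X hXH hX hz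
  have hKH : Subgroup.centralizer (X : Set G) ≤ Subgroup.centralizer ({z} : Set G) :=
    Subgroup.centralizer_le (Set.singleton_subset_iff.mpr hzX)
  have hKN : Subgroup.centralizer (X : Set G) ≤ Subgroup.normalizer (X : Set G) :=
    Subgroup.centralizer_le_normalizer _
  have hNK := normalizer_le_normalizer_centralizer X
  have hK : HasCharP p ↥(Subgroup.centralizer (X : Set G)) :=
    hasCharP_of_le_normalizer _ _ (le_inf hKH hKN) (le_trans inf_le_right hNK) hHN
  exact ⟨hK, hasCharP_normalizer_of_centralizer X hX hK⟩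

/-- Conjugation equivalence between centralizers of conjugate elements. -/
def centralizerConjEquiv (z g : G) :
    ↥(Subgroup.centralizer ({z} : Set G)) ≃* ↥(Subgroup.centralizer ({g * z * g⁻¹} : Set G)) where
  toFun x := ⟨g * x * g⁻¹, by
    have hx := Subgroup.mem_centralizer_singleton_iff.mp x.2
    rw [Subgroup.mem_centralizer_singleton_iff]
    have e1 : g * z * g⁻¹ * (g * (x : G) * g⁻¹) = g * (z * x) * g⁻¹ := by group
    have e2 : g * (x : G) * g⁻¹ * (g * z * g⁻¹) = g * (x * z) * g⁻¹ := by group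
    rw [e1, e2, hx]⟩
  invFun y := ⟨g⁻¹ * y * g, by
    have hy := Subgroup.mem_centralizer_singleton_iff.mp y.2
    rw [Subgroup.mem_centralizer_singleton_iff]
    have e1 : z * (g⁻¹ * (y : G) * g) = g⁻¹ * (g * z * g⁻¹ * y) * g := by group
    have e2 : g⁻¹ * (y : G) * g * z = g⁻¹ * (y * (g * z * g⁻¹)) * g := by group
    rw [e1, e2, hy]⟩
  left_inv x := by
    apply Subtype.ext
    simp only
    group
  right_inv y := by
    apply Subtype.ext
    simp only
    group
  map_mul' x y := by
    apply Subtype.ext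
    simp only [Subgroup.coe_mul]
    group

theorem hasCharP_centralizer_conj {p : ℕ} (z g : G)
    (h : HasCharP p ↥(Subgroup.centralizer ({z} : Set G))) :
    HasCharP p ↥(Subgroup.centralizer ({g * z * g⁻¹} : Set G)) :=
  h.of_equiv (centralizerConjEquiv z g)

/-- Criterion for parabolic characteristic `p`. -/
theorem isOfParabolicCharacteristic_of_centralizers [Finite G] {p : ℕ} [Fact p.Prime] (S : Sylow p G)
    (h : ∀ z : G, z ≠ 1 → z ∈ (S : Subgroup G) → (∀ s ∈ (S : Subgroup G), s * z = z * s) → z ^ p = 1 →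
      HasCharP p ↥(Subgroup.centralizer ({z} : Set G))) :
    Cfsg.IsOfParabolicCharacteristic p G := by
  intro R hR hR1 hpar
  obtain ⟨T, hT⟩ := hpar
  have hRT : R ≤ (T : Subgroup G) := by
    have hsup : IsPGroup p ↥(R ⊔ (T : Subgroup G)) :=
      IsPGroup.to_sup_of_normal_left' hR T.isPGroup' hT
    have := T.is_maximal' hsup le_sup_right
    rw [← this]; exact le_sup_left
  obtain ⟨z, hzR, hzo, hzc⟩ := exists_orderOf_eq_prime_central (T : Subgroup G) R T.isPGroup' hRT hR1 hT
  obtain ⟨k, hk⟩ := sylow_exists_map_conj_eq S T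
  have hp : p.Prime := Fact.out
  have hz1 : z ≠ 1 := by
    intro h1
    rw [h1, orderOf_one] at hzo
    exact hp.one_lt.ne hzo
  have hzp : z ^ p = 1 := by rw [← hzo]; exact pow_orderOf_eq_one z
  have hzT : z ∈ (T : Subgroup G) := hRT hzR
  -- transport to S
  have hz'S : k⁻¹ * z * k ∈ (S : Subgroup G) := by
    rw [← hk] at hzT
    exact (mem_map_conj_iff _ k z).mp hzT
  have hz'c : ∀ s ∈ (S : Subgroup G), s * (k⁻¹ * z * k) = (k⁻¹ * z * k) * s := by
    intro s hs
    have hsT : k * s * k⁻¹ ∈ (T : Subgroup G) := by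
      rw [← hk]; exact conj_mem_map_conj _ k s hs
    have := hzc _ hsT
    have e1 : s * (k⁻¹ * z * k) = k⁻¹ * (k * s * k⁻¹ * z) * k := by group
    have e2 : k⁻¹ * z * k * s = k⁻¹ * (z * (k * s * k⁻¹)) * k := by group
    rw [e1, e2, this]
  have hz'1 : k⁻¹ * z * k ≠ 1 := by
    intro h1
    apply hz1
    have : z = k * (k⁻¹ * z * k) * k⁻¹ := by group
    rw [this, h1]; group
  have hz'p : (k⁻¹ * z * k) ^ p = 1 := by
    have : (k⁻¹ * z * k) ^ p = k⁻¹ * z ^ p * k := by
      have := conj_pow (a := k⁻¹) (b := z) (i := p)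
      simpa using this
    rw [this, hzp]; group
  have h1 := h _ hz'1 hz'S hz'c hz'p
  have h2 := hasCharP_centralizer_conj (k⁻¹ * z * k) k h1
  have e : k * (k⁻¹ * z * k) * k⁻¹ = z := by group
  rw [e] at h2
  exact (hasCharP_of_central_elt R hR z hzR (fun x hx => hzc x (hRT hx)) h2).2

end Cfsg.Agent.Helper5
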