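import Mathlib
import Cfsg.Prelude.Def_LocalStructure
import Cfsg.Prelude.Def_LocalEven
import Cfsg.Agent.Helper5.Basic
import Cfsg.Agent.Helper5.Misc
import Cfsg.Agent.Helper5.Cores
import Cfsg.Agent.Helper5.CharP
import Cfsg.Agent.Helper5.CharP2
import Cfsg.Agent.Helper5.CharP3
import Cfsg.Agent.Helper1.Subnormal
import Cfsg.Agent.Helper2.CharPLocal

/-!
Helper lemmas (helper5): parabolic characteristic `p` passes to suitable subnormal subgroups.
-/

set_option autoImplicit false

namespace Cfsg.Agent.Helper5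

open Cfsg.Agent.Helper2

variable {G : Type*} [Group G]

theorem centralizer_singleton_eq_centralizer_zpowers (z : G) :
    Subgroup.centralizer ({z} : Set G) = Subgroup.centralizer ((Subgroup.zpowers z : Subgroup G) : Set G) := by
  apply le_antisymm
  · intro c hc
    rw [Subgroup.mem_centralizer_iff]
    intro y hy
    obtain ⟨k, rfl⟩ := Subgroup.mem_zpowers_iff.mp hy
    have h1 : z * c = c * z := (Subgroup.mem_centralizer_iff.mp hc) z rfl
    have : Commute z c := h1
    exact (this.zpow_left k).eq
  · exact Subgroup.centralizer_le (by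
      intro y hy
      rw [Set.mem_singleton_iff] at hy
      rw [hy]
      exact Subgroup.mem_zpowers z)

/-- In a group of parabolic characteristic `p`, centralizers of nontrivial central elements of a Sylow
`p`-subgroup have characteristic `p`. -/
theorem hasCharP_centralizer_of_parabolic [Finite G] {p : ℕ} [Fact p.Prime]
    (hG : Cfsg.IsOfParabolicCharacteristic p G) (S : Sylow p G) (z : G) (hz1 : z ≠ 1)
    (hzS : z ∈ (S : Subgroup G)) (hzc : ∀ s ∈ (S : Subgroup G), s * z = z * s) :
    HasCharP p ↥(Subgroup.centralizer ({z} : Set G)) := by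
  have hRp : IsPGroup p ↥(Subgroup.zpowers z) := S.isPGroup'.to_le (by
    rw [Subgroup.zpowers_le]; exact hzS)
  have hR1 : Subgroup.zpowers z ≠ ⊥ := by
    intro h
    apply hz1
    rw [Subgroup.zpowers_eq_bot] at h
    exact h
  have hSC : (S : Subgroup G) ≤ Subgroup.centralizer ((Subgroup.zpowers z : Subgroup G) : Set G) := by
    rw [← centralizer_singleton_eq_centralizer_zpowers]
    intro s hs
    rw [Subgroup.mem_centralizer_iff]
    intro y hy
    rw [Set.mem_singleton_iff] at hy
    rw [hy]
    exact (hzc s hs).symm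
  have hpar : Cfsg.IsParabolic p (Subgroup.normalizer ((Subgroup.zpowers z : Subgroup G) : Set G)) :=
    ⟨S, le_trans hSC (Subgroup.centralizer_le_normalizer _)⟩
  have hN : HasCharP p ↥(Subgroup.normalizer ((Subgroup.zpowers z : Subgroup G) : Set G)) :=
    hG _ hRp hR1 hpar
  rw [centralizer_singleton_eq_centralizer_zpowers]
  exact hasCharP_of_le_normalizer _ _ (Subgroup.centralizer_le_normalizer _)
    (normalizer_le_normalizer_centralizer _) hN

/-- The centralizer of `z` in the subgroup `L`, as a subgroup of `C_G(z)`. -/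
def centralizerSubgroupEquiv (L : Subgroup G) (z : ↥L) :
    ↥(L.subgroupOf (Subgroup.centralizer ({(z : G)} : Set G))) ≃*
      ↥(Subgroup.centralizer ({z} : Set ↥L)) where
  toFun c := ⟨⟨((c : ↥(Subgroup.centralizer ({(z : G)} : Set G))) : G), Subgroup.mem_subgroupOf.mp c.2⟩, by
    have hc := (c : ↥(Subgroup.centralizer ({(z : G)} : Set G))).2
    rw [Subgroup.mem_centralizer_iff] at hc ⊢
    intro y hy
    rw [Set.mem_singleton_iff] at hy
    rw [hy]
    apply Subtype.ext
    exact hc (z : G) rfl⟩
  invFun y := ⟨⟨((y : ↥L) : G), by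
    have hy := y.2
    rw [Subgroup.mem_centralizer_iff] at hy ⊢
    intro w hw
    rw [Set.mem_singleton_iff] at hw
    rw [hw]
    exact congrArg Subtype.val (hy z rfl)⟩, by
    rw [Subgroup.mem_subgroupOf]
    exact (y : ↥L).2⟩
  left_inv c := by
    apply Subtype.ext
    apply Subtype.ext
    rfl
  right_inv y := by
    apply Subtype.ext
    apply Subtype.ext
    rfl
  map_mul' c d := by
    apply Subtype.ext
    apply Subtype.ext
    rfl

theorem hasCharP_centralizer_subnormal [Finite G] {p : ℕ} [Fact p.Prime] (L : Subgroup G)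
    (hL : L.IsSubnormal) (z : ↥L) (h : HasCharP p ↥(Subgroup.centralizer ({(z : G)} : Set G))) :
    HasCharP p ↥(Subgroup.centralizer ({z} : Set ↥L)) := by
  have h1 : (L.subgroupOf (Subgroup.centralizer ({(z : G)} : Set G))).IsSubnormal := hL.subgroupOf
  have h2 := h.of_subnormal _ h1
  exact h2.of_equiv (centralizerSubgroupEquiv L z)

/-- Parabolic characteristic `p` passes to a subnormal subgroup `L` provided the elements of order
dividing `p` of `Z(S ∩ L)` are central in `S`. -/
theorem isOfParabolicCharacteristic_subnormal [Finite G] {p : ℕ} [Fact p.Prime]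
    (hG : Cfsg.IsOfParabolicCharacteristic p G) (S : Sylow p G) (L : Subgroup G) (hL : L.IsSubnormal)
    (hZ : ∀ z ∈ (S : Subgroup G) ⊓ L, (∀ s ∈ (S : Subgroup G) ⊓ L, s * z = z * s) → z ^ p = 1 →
      z ∈ (S : Subgroup G) ⊓ Subgroup.centralizer ((S : Subgroup G) : Set G)) :
    Cfsg.IsOfParabolicCharacteristic p ↥L := by
  obtain ⟨S₁, hS₁⟩ := Cfsg.Agent.Helper1.sylow_inf_subnormal p L hL S
  apply isOfParabolicCharacteristic_of_centralizers S₁
  intro z hz1 hzS₁ hzc hzp
  apply hasCharP_centralizer_subnormal L hL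
  rw [hS₁] at hzS₁ hzc
  have hzSL : (z : G) ∈ (S : Subgroup G) ⊓ L := ⟨Subgroup.mem_subgroupOf.mp hzS₁, z.2⟩
  have hzcG : ∀ s ∈ (S : Subgroup G) ⊓ L, s * (z : G) = (z : G) * s := by
    intro s hs
    have := hzc ⟨s, hs.2⟩ (Subgroup.mem_subgroupOf.mpr hs.1)
    exact congrArg Subtype.val this
  have hzpG : (z : G) ^ p = 1 := by
    have := congrArg Subtype.val hzp
    simpa using this
  have hzZ := hZ (z : G) hzSL hzcG hzpG
  have hz1G : (z : G) ≠ 1 := by
    intro h
    apply hz1
    exact Subtype.ext h
  apply hasCharP_centralizer_of_parabolic hG S (z : G) hz1G hzZ.1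
  intro s hs
  exact (Subgroup.mem_centralizer_iff.mp hzZ.2) s hs

end Cfsg.Agent.Helper5
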