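import Mathlib
import Cfsg.Prelude.Def_Chevalley
import Cfsg.Agent.Helper7.ChevFieldAut

/-!
# Chevalley groups over isomorphic fields, and commutator subgroups of isomorphic groups
-/

set_option autoImplicit false

namespace Cfsg.Agent.Helper5.ChevEquiv

open Cfsg Cfsg.Lie

/-- The isomorphism of general linear groups induced by an isomorphism of fields, entrywise. -/
noncomputable def glMapEquiv {ι : Type*} [Fintype ι] [DecidableEq ι] {F₁ F₂ : Type*} [Field F₁]
    [Field F₂] (f : F₁ ≃+* F₂) : GL ι F₁ ≃* GL ι F₂ :=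
  Units.mapEquiv (RingEquiv.mapMatrix f).toMulEquiv

theorem glMapEquiv_coe {ι : Type*} [Fintype ι] [DecidableEq ι] {F₁ F₂ : Type*} [Field F₁]
    [Field F₂] (f : F₁ ≃+* F₂) (g : GL ι F₁) :
    ((glMapEquiv f g : GL ι F₂) : Matrix ι ι F₂) = (g : Matrix ι ι F₁).map f := rfl

theorem glMapEquiv_symm_coe {ι : Type*} [Fintype ι] [DecidableEq ι] {F₁ F₂ : Type*} [Field F₁]
    [Field F₂] (f : F₁ ≃+* F₂) (g : GL ι F₂) :
    (((glMapEquiv f).symm g : GL ι F₁) : Matrix ι ι F₁) = (g : Matrix ι ι F₂).map f.symm := rfl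

theorem map_group_eq {F₁ F₂ : Type*} [Field F₁] [Field F₂] (D : ChevalleyDatum) (f : F₁ ≃+* F₂) :
    (D.group F₁).map (glMapEquiv f).toMonoidHom = D.group F₂ := by
  unfold ChevalleyDatum.group
  rw [MonoidHom.map_closure]
  congr 1
  ext g
  constructor
  · rintro ⟨h, ⟨r, t, hh⟩, rfl⟩
    refine ⟨r, f t, ?_⟩
    change ((glMapEquiv f h : GL D.Idx F₂) : Matrix D.Idx D.Idx F₂) = _
    rw [glMapEquiv_coe, hh]
    exact Cfsg.Agent.Helper7.xMat_map D (f : F₁ →+* F₂) r t
  · rintro ⟨r, t, hg⟩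
    refine ⟨(glMapEquiv f).symm g, ⟨r, f.symm t, ?_⟩, ?_⟩
    · rw [glMapEquiv_symm_coe, hg]
      exact Cfsg.Agent.Helper7.xMat_map D (f.symm : F₂ →+* F₁) r t
    · exact (glMapEquiv f).apply_symm_apply g

/-- The isomorphism of Chevalley groups induced by an isomorphism of fields. -/
noncomputable def chevEquiv {F₁ F₂ : Type*} [Field F₁] [Field F₂] (D : ChevalleyDatum)
    (f : F₁ ≃+* F₂) : ↥(D.group F₁) ≃* ↥(D.group F₂) :=
  ((glMapEquiv f).subgroupMap (D.group F₁)).trans (MulEquiv.subgroupCongr (map_group_eq D f))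

/-- Isomorphic groups have isomorphic commutator subgroups. -/
noncomputable def commutatorEquiv {G G' : Type*} [Group G] [Group G'] (E : G ≃* G') :
    ↥(commutator G) ≃* ↥(commutator G') :=
  (E.subgroupMap (commutator G)).trans (MulEquiv.subgroupCongr (by
    rw [commutator_def, commutator_def, Subgroup.map_commutator]
    have h : (⊤ : Subgroup G).map (E : G →* G') = ⊤ :=
      Subgroup.map_top_of_surjective _ E.surjective
    exact congrArg (fun X => ⁅X, X⁆) h))

end Cfsg.Agent.Helper5.ChevEquiv
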