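import Mathlib
import Cfsg.Prelude.Def_FischerSpaces
import Cfsg.Prelude.Def_CaseTheorems
import Cfsg.Agent.Helper2.Quasisimple

set_option autoImplicit false

/-!
Lifting connectedness of the commuting graph of a class of involutions from `G / Z(L)` to `G`.
-/

namespace Cfsg.Agent.Helper5.CommGraphLift

open Cfsg
open scoped commutatorElement

variable {G : Type*} [Group G]

/-- reachability in the commuting graph on `D`, stated for elements of `G` -/
def Rch (D : Set G) (x y : G) : Prop :=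
  ∃ (hx : x ∈ D) (hy : y ∈ D), (commutingGraph D).Reachable ⟨x, hx⟩ ⟨y, hy⟩

theorem rch_refl {D : Set G} {x : G} (hx : x ∈ D) : Rch D x x := ⟨hx, hx, SimpleGraph.Reachable.refl _⟩

theorem rch_symm {D : Set G} {x y : G} (h : Rch D x y) : Rch D y x := by
  obtain ⟨hx, hy, h⟩ := h
  exact ⟨hy, hx, h.symm⟩

theorem rch_trans {D : Set G} {x y z : G} (h : Rch D x y) (h' : Rch D y z) : Rch D x z := by
  obtain ⟨hx, hy, h⟩ := h
  obtain ⟨hy', hz, h'⟩ := h'
  exact ⟨hx, hz, h.trans h'⟩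

theorem rch_of_commute {D : Set G} {x y : G} (hx : x ∈ D) (hy : y ∈ D) (h : Commute x y) :
    Rch D x y := by
  by_cases hxy : x = y
  · subst hxy
    exact rch_refl hx
  · refine ⟨hx, hy, SimpleGraph.Adj.reachable ?_⟩
    unfold commutingGraph
    rw [SimpleGraph.fromRel_adj]
    exact ⟨fun h' => hxy (congrArg Subtype.val h'), Or.inl h⟩

theorem rch_conj {D : Set G} (hD : ∀ (g x : G), x ∈ D → g * x * g⁻¹ ∈ D) (g : G) {x y : G}
    (h : Rch D x y) : Rch D (g * x * g⁻¹) (g * y * g⁻¹) := by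
  obtain ⟨hx, hy, h⟩ := h
  let f : commutingGraph D →g commutingGraph D :=
    { toFun := fun a => ⟨g * a.1 * g⁻¹, hD g a.1 a.2⟩
      map_rel' := by
        intro a b hab
        unfold commutingGraph at hab ⊢
        rw [SimpleGraph.fromRel_adj] at hab ⊢
        obtain ⟨hne, hc⟩ := hab
        refine ⟨?_, ?_⟩
        · intro h'
          apply hne
          apply Subtype.ext
          have h2 : g * a.1 * g⁻¹ = g * b.1 * g⁻¹ := congrArg Subtype.val h'
          exact mul_left_cancel (mul_right_cancel h2)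
        · have hc' : Commute a.1 b.1 := hc.elim id (fun h => h.symm)
          left
          change (g * a.1 * g⁻¹) * (g * b.1 * g⁻¹) = (g * b.1 * g⁻¹) * (g * a.1 * g⁻¹)
          have e1 : (g * a.1 * g⁻¹) * (g * b.1 * g⁻¹) = g * (a.1 * b.1) * g⁻¹ := by group
          have e2 : (g * b.1 * g⁻¹) * (g * a.1 * g⁻¹) = g * (b.1 * a.1) * g⁻¹ := by group
          rw [e1, e2, hc'.eq] }
  exact ⟨hD g x hx, hD g y hy, h.map f⟩

section main

variable [Finite G] (L : Subgroup G) [L.Normal] (d : G)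

/-- if `d` centralizes `L` modulo the centre of `L` and `L` is perfect then `d` centralizes `L` -/
theorem commute_of_perfect (hperf : Group.IsPerfect L)
    (h : ∀ l ∈ L, ∀ m ∈ L, (l * d * l⁻¹ * d⁻¹) * m = m * (l * d * l⁻¹ * d⁻¹)) :
    ∀ l ∈ L, d * l = l * d := by
  -- d l d⁻¹ = z_l l with z_l commuting with L
  have hconj : ∀ l ∈ L, d * l * d⁻¹ ∈ L := fun l hl => ‹L.Normal›.conj_mem l hl d
  have key : ∀ x ∈ L, ∀ y ∈ L, d * (x * y * x⁻¹ * y⁻¹) * d⁻¹ = x * y * x⁻¹ * y⁻¹ := by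
    intro x hx y hy
    -- d x d⁻¹ = zx⁻¹ * x where zx = x d x⁻¹ d⁻¹
    set zx := x * d * x⁻¹ * d⁻¹ with hzx
    set zy := y * d * y⁻¹ * d⁻¹ with hzy
    have ex : d * x * d⁻¹ = zx⁻¹ * x := by rw [hzx]; group
    have ey : d * y * d⁻¹ = zy⁻¹ * y := by rw [hzy]; group
    have cx : ∀ m ∈ L, zx⁻¹ * m = m * zx⁻¹ := by
      intro m hm
      have := h x hx m hm
      rw [← hzx] at this
      calc zx⁻¹ * m = zx⁻¹ * (m * zx) * zx⁻¹ := by group
        _ = zx⁻¹ * (zx * m) * zx⁻¹ := by rw [this]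
        _ = m * zx⁻¹ := by group
    have cy : ∀ m ∈ L, zy⁻¹ * m = m * zy⁻¹ := by
      intro m hm
      have := h y hy m hm
      rw [← hzy] at this
      calc zy⁻¹ * m = zy⁻¹ * (m * zy) * zy⁻¹ := by group
        _ = zy⁻¹ * (zy * m) * zy⁻¹ := by rw [this]
        _ = m * zy⁻¹ := by group
    have e1 : d * (x * y * x⁻¹ * y⁻¹) * d⁻¹ =
        (d * x * d⁻¹) * (d * y * d⁻¹) * (d * x * d⁻¹)⁻¹ * (d * y * d⁻¹)⁻¹ := by group
    rw [e1, ex, ey]
    -- (zx⁻¹ x)(zy⁻¹ y)(zx⁻¹ x)⁻¹(zy⁻¹ y)⁻¹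
    have hxi : x⁻¹ ∈ L := L.inv_mem hx
    have hyi : y⁻¹ ∈ L := L.inv_mem hy
    have s1 : zx⁻¹ * x * (zy⁻¹ * y) * (zx⁻¹ * x)⁻¹ * (zy⁻¹ * y)⁻¹ =
        zx⁻¹ * x * (zy⁻¹ * y) * (x⁻¹ * zx) * (y⁻¹ * zy) := by group
    rw [s1]
    have hzxL : ∀ m ∈ L, zx * m = m * zx := fun m hm => by
      have := h x hx m hm; rw [← hzx] at this; exact this
    have hzyL : ∀ m ∈ L, zy * m = m * zy := fun m hm => by
      have := h y hy m hm; rw [← hzy] at this; exact this
    calc zx⁻¹ * x * (zy⁻¹ * y) * (x⁻¹ * zx) * (y⁻¹ * zy)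
        = zx⁻¹ * (x * zy⁻¹) * y * x⁻¹ * (zx * y⁻¹) * zy := by group
      _ = zx⁻¹ * (zy⁻¹ * x) * y * x⁻¹ * (y⁻¹ * zx) * zy := by
          rw [← cy x hx, hzxL y⁻¹ hyi]
      _ = zx⁻¹ * zy⁻¹ * (x * y * x⁻¹ * y⁻¹) * zx * zy := by group
      _ = zx⁻¹ * zy⁻¹ * (zx * (x * y * x⁻¹ * y⁻¹)) * zy := by
          rw [hzxL (x * y * x⁻¹ * y⁻¹) (L.mul_mem (L.mul_mem (L.mul_mem hx hy) hxi) hyi)]; group
      _ = zx⁻¹ * (zy⁻¹ * zx) * (x * y * x⁻¹ * y⁻¹) * zy := by group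
      _ = zx⁻¹ * (zy⁻¹ * zx) * (zy * (x * y * x⁻¹ * y⁻¹)) := by
          rw [hzyL (x * y * x⁻¹ * y⁻¹) (L.mul_mem (L.mul_mem (L.mul_mem hx hy) hxi) hyi)]; group
      _ = (zx⁻¹ * zy⁻¹ * zx * zy) * (x * y * x⁻¹ * y⁻¹) := by group
      _ = x * y * x⁻¹ * y⁻¹ := by
          -- zx and zy commute? zx = x * (d x⁻¹ d⁻¹) ∈ L
          have hzxmem : zx ∈ L := by
            rw [hzx]
            have : x * d * x⁻¹ * d⁻¹ = x * (d * x⁻¹ * d⁻¹) := by group
            rw [this]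
            exact L.mul_mem hx (hconj _ hxi)
          have : zy * zx = zx * zy := hzyL zx hzxmem
          have e : zx⁻¹ * zy⁻¹ * zx * zy = 1 := by
            calc zx⁻¹ * zy⁻¹ * zx * zy = zx⁻¹ * zy⁻¹ * (zx * zy) := by group
              _ = zx⁻¹ * zy⁻¹ * (zy * zx) := by rw [this]
              _ = 1 := by group
          rw [e, one_mul]
  -- the centralizer of d in L contains all commutators
  let T : Subgroup L := (Subgroup.centralizer ({d} : Set G)).subgroupOf L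
  have hT : commutator L ≤ T := by
    rw [commutator_eq_closure, Subgroup.closure_le]
    rintro _ ⟨x, y, rfl⟩
    change ((⁅x, y⁆ : L) : G) ∈ Subgroup.centralizer ({d} : Set G)
    rw [Subgroup.mem_centralizer_singleton_iff]
    have := key x.1 x.2 y.1 y.2
    have e : ((⁅x, y⁆ : L) : G) = x.1 * y.1 * x.1⁻¹ * y.1⁻¹ := by
      rw [commutatorElement_def]
      simp only [Subgroup.coe_mul, Subgroup.coe_inv]
    rw [e]
    have h2 : d * (x.1 * y.1 * x.1⁻¹ * y.1⁻¹) = (x.1 * y.1 * x.1⁻¹ * y.1⁻¹) * d := by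
      calc d * (x.1 * y.1 * x.1⁻¹ * y.1⁻¹) = (d * (x.1 * y.1 * x.1⁻¹ * y.1⁻¹) * d⁻¹) * d := by group
        _ = (x.1 * y.1 * x.1⁻¹ * y.1⁻¹) * d := by rw [this]
    first
      | exact h2
      | exact h2.symm
  rw [hperf.commutator_eq_top] at hT
  intro l hl
  have : (⟨l, hl⟩ : L) ∈ T := hT (Subgroup.mem_top _)
  change l ∈ Subgroup.centralizer ({d} : Set G) at this
  rw [Subgroup.mem_centralizer_singleton_iff] at this
  first
    | exact this
    | exact this.symm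

end main

end Cfsg.Agent.Helper5.CommGraphLift
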