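import Mathlib
import Cfsg.Agent.Helper5.CommGraphLift

set_option autoImplicit false

/-!
Lifting connectedness of the commuting graph of a class of involutions from `G / Z(L)` to `G`:
the main theorem.
-/

namespace Cfsg.Agent.Helper5.CommGraphLift

open Cfsg
open scoped commutatorElement

variable {G : Type*} [Group G] [Finite G]

theorem mem_cj {X : Type*} [Group X] {a b : X} : b ∈ conjugatesOf a ↔ IsConj a b := Iff.rfl

theorem lift_connected (L : Subgroup G) [L.Normal] (hL : Cfsg.IsQuasisimple ↥L) (d : G)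
    (hd : orderOf d = 2) (hgen : L ⊔ Subgroup.zpowers d = ⊤)
    (hodd : Odd (Nat.card ↥(Subgroup.center ↥L)))
    (hinv : ∀ c ∈ (Subgroup.center ↥L).map L.subtype, d * c * d⁻¹ = c⁻¹)
    [hn : ((Subgroup.center ↥L).map L.subtype).Normal]
    (hconn : (Cfsg.commutingGraph (conjugatesOf (QuotientGroup.mk d :
      G ⧸ (Subgroup.center ↥L).map L.subtype))).Connected) :
    (Cfsg.commutingGraph (conjugatesOf d)).Connected := by
  classical
  set Z : Subgroup G := (Subgroup.center ↥L).map L.subtype with hZ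
  set D : Set G := conjugatesOf d with hD
  have hZL : Z ≤ L := by
    rintro _ ⟨x, -, rfl⟩
    exact x.2
  have hZc : ∀ c ∈ Z, ∀ l ∈ L, c * l = l * c := by
    rintro _ ⟨x, hx, rfl⟩ l hl
    have := Subgroup.mem_center_iff.mp hx ⟨l, hl⟩
    have h2 := congrArg Subtype.val this
    simp only [Subgroup.coe_mul] at h2
    exact h2.symm
  have hdD : d ∈ D := by rw [hD, mem_cj]
  have hDconj : ∀ (g x : G), x ∈ D → g * x * g⁻¹ ∈ D := by
    intro g x hx
    rw [hD, mem_cj] at hx ⊢
    exact hx.trans (isConj_iff.mpr ⟨g, rfl⟩)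
  have hDex : ∀ x ∈ D, ∃ g : G, g * d * g⁻¹ = x := by
    intro x hx
    rw [hD, mem_cj] at hx
    exact isConj_iff.mp hx
  have hdd : d * d = 1 := by
    have := pow_orderOf_eq_one d
    rw [hd, pow_two] at this
    exact this
  have hDsq : ∀ x ∈ D, x * x = 1 := by
    intro x hx
    obtain ⟨g, rfl⟩ := hDex x hx
    calc g * d * g⁻¹ * (g * d * g⁻¹) = g * (d * d) * g⁻¹ := by group
      _ = 1 := by rw [hdd]; group
  have hDinv : ∀ x ∈ D, x⁻¹ = x := fun x hx => inv_eq_of_mul_eq_one_right (hDsq x hx)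
  -- every element of D inverts Z
  have hDZ : ∀ x ∈ D, ∀ c ∈ Z, x * c * x⁻¹ = c⁻¹ := by
    intro x hx c hc
    obtain ⟨g, rfl⟩ := hDex x hx
    have hc' : g⁻¹ * c * g ∈ Z := by
      have := hn.conj_mem c hc g⁻¹
      rwa [inv_inv] at this
    have := hinv _ hc'
    calc g * d * g⁻¹ * c * (g * d * g⁻¹)⁻¹ = g * (d * (g⁻¹ * c * g) * d⁻¹) * g⁻¹ := by group
      _ = g * (g⁻¹ * c * g)⁻¹ * g⁻¹ := by rw [this]
      _ = c⁻¹ := by group
  -- square roots in Z
  have hsqrt : ∀ c ∈ Z, ∃ e ∈ Z, e * e = c := by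
    intro c hc
    have hcard : Odd (Nat.card Z) := by
      have : Nat.card Z = Nat.card (Subgroup.center ↥L) :=
        Nat.card_congr ((Subgroup.center ↥L).equivMapOfInjective L.subtype
          L.subtype_injective).symm.toEquiv
      rw [this]
      exact hodd
    obtain ⟨k, hk⟩ := hcard
    refine ⟨c ^ (k + 1), Z.pow_mem hc _, ?_⟩
    have h1 : c ^ (Nat.card Z) = 1 := by
      have h0 : orderOf c ∣ Nat.card Z := by
        have := orderOf_dvd_natCard (⟨c, hc⟩ : Z)
        rwa [Subgroup.orderOf_mk] at this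
      exact orderOf_dvd_iff_pow_eq_one.mp h0
    rw [← pow_add]
    have : k + 1 + (k + 1) = Nat.card Z + 1 := by omega
    rw [this, pow_succ, h1, one_mul]
  -- cosets of Z in D
  have hDcoset : ∀ b ∈ D, ∀ c ∈ Z, b * c ∈ D := by
    intro b hb c hc
    obtain ⟨e, he, rfl⟩ := hsqrt c hc
    have h1 := hDZ b hb e he
    have h2 : b * (e * e) = e⁻¹ * b * (e⁻¹)⁻¹ := by
      have h3 : b * e = e⁻¹ * b := by
        calc b * e = (b * e * b⁻¹) * b := by group
          _ = e⁻¹ * b := by rw [h1]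
      calc b * (e * e) = (b * e) * e := by group
        _ = e⁻¹ * b * e := by rw [h3]
        _ = e⁻¹ * b * (e⁻¹)⁻¹ := by rw [inv_inv]
    rw [h2]
    exact hDconj _ _ hb
  -- lifting commuting pairs
  have hlift : ∀ a ∈ D, ∀ b ∈ D, a * b * a⁻¹ * b⁻¹ ∈ Z → ∃ c ∈ Z, Commute a (b * c) := by
    intro a ha b hb hab
    rw [hDinv a ha, hDinv b hb] at hab
    obtain ⟨c, hc, hcc⟩ := hsqrt _ (Z.inv_mem hab)
    refine ⟨c, hc, ?_⟩
    have hca : c * a = a * c⁻¹ := by
      have h0 := hDZ a ha c⁻¹ (Z.inv_mem hc)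
      rw [inv_inv] at h0
      calc c * a = (a * c⁻¹ * a⁻¹) * a := by rw [h0]
        _ = a * c⁻¹ := by group
    have hcb : c⁻¹ * b = b * c := by
      have := hDZ b hb c hc
      calc c⁻¹ * b = (b * c * b⁻¹) * b := by rw [this]
        _ = b * c := by group
    have hsq : (a * (b * c)) * (a * (b * c)) = 1 := by
      calc (a * (b * c)) * (a * (b * c)) = a * b * (c * a) * b * c := by group
        _ = a * b * (a * c⁻¹) * b * c := by rw [hca]
        _ = a * b * a * (c⁻¹ * b) * c := by group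
        _ = a * b * a * (b * c) * c := by rw [hcb]
        _ = (a * b * a * b) * (c * c) := by group
        _ = 1 := by rw [hcc]; group
    have hbc := hDsq _ (hDcoset b hb c hc)
    have haa := hDsq a ha
    -- a (bc) = (bc) a
    change a * (b * c) = b * c * a
    calc a * (b * c) = (b * c * (b * c)) * (a * (b * c)) * (a * a) := by rw [hbc, haa]; group
      _ = (b * c) * ((b * c) * a) * ((b * c) * a) * a := by group
      _ = b * c * a := by
          have h5 : (b * c) * a * ((b * c) * a) = 1 := by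
            have : (b * c * a) = (a * (b * c))⁻¹ := by
              rw [mul_inv_rev, hDinv a ha, hDinv _ (hDcoset b hb c hc)]
            rw [this, ← mul_inv_rev, hsq, inv_one]
          calc (b * c) * ((b * c) * a) * ((b * c) * a) * a
              = (b * c) * (((b * c) * a) * ((b * c) * a)) * a := by group
            _ = b * c * a := by rw [h5, mul_one]
  -- path lifting
  have hpath : ∀ (u v : conjugatesOf (QuotientGroup.mk d : G ⧸ Z)),
      (Cfsg.commutingGraph (conjugatesOf (QuotientGroup.mk d : G ⧸ Z))).Reachable u v →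
      ∀ a ∈ D, (QuotientGroup.mk a : G ⧸ Z) = u.1 →
        ∃ b ∈ D, (QuotientGroup.mk b : G ⧸ Z) = v.1 ∧ Rch D a b := by
    intro u v huv
    obtain ⟨p⟩ := huv
    induction p with
    | nil =>
      intro a ha hau
      exact ⟨a, ha, hau, rch_refl ha⟩
    | @cons u w v hadj p ih =>
      intro a ha hau
      -- a representative of w
      have hw := w.2
      rw [mem_cj, isConj_iff] at hw
      obtain ⟨gq, hgq⟩ := hw
      obtain ⟨g, rfl⟩ := QuotientGroup.mk_surjective gq
      have hw0D : g * d * g⁻¹ ∈ D := hDconj g d hdD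
      have hw0 : (QuotientGroup.mk (g * d * g⁻¹) : G ⧸ Z) = w.1 := by
        rw [← hgq]
        simp only [QuotientGroup.mk_mul, QuotientGroup.mk_inv]
      unfold commutingGraph at hadj
      rw [SimpleGraph.fromRel_adj] at hadj
      have hcomm : Commute u.1 w.1 := hadj.2.elim id (fun h => h.symm)
      have hmem : a * (g * d * g⁻¹) * a⁻¹ * (g * d * g⁻¹)⁻¹ ∈ Z := by
        rw [← QuotientGroup.eq_one_iff]
        simp only [QuotientGroup.mk_mul, QuotientGroup.mk_inv] at hau hw0 ⊢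
        rw [hau, hw0]
        rw [hcomm.eq]
        group
      obtain ⟨c, hc, hcomm2⟩ := hlift a ha _ hw0D hmem
      have hw1D : g * d * g⁻¹ * c ∈ D := hDcoset _ hw0D c hc
      have hw1 : (QuotientGroup.mk (g * d * g⁻¹ * c) : G ⧸ Z) = w.1 := by
        rw [QuotientGroup.mk_mul, hw0, (QuotientGroup.eq_one_iff c).mpr hc, mul_one]
      obtain ⟨b, hb, hbv, hrb⟩ := ih _ hw1D hw1
      exact ⟨b, hb, hbv, rch_trans (rch_of_commute ha hw1D hcomm2) hrb⟩
  -- every element of D has a Z-translate reachable from d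
  have hreach : ∀ b ∈ D, ∃ c ∈ Z, Rch D d (b * c) := by
    intro b hb
    have hdq : (QuotientGroup.mk d : G ⧸ Z) ∈ conjugatesOf (QuotientGroup.mk d : G ⧸ Z) := by
      rw [mem_cj]
    have hbq : (QuotientGroup.mk b : G ⧸ Z) ∈ conjugatesOf (QuotientGroup.mk d : G ⧸ Z) := by
      rw [mem_cj, isConj_iff]
      obtain ⟨g, rfl⟩ := hDex b hb
      exact ⟨QuotientGroup.mk g, by simp only [QuotientGroup.mk_mul, QuotientGroup.mk_inv]⟩
    obtain ⟨b', hb', hbb', hr⟩ := hpath ⟨_, hdq⟩ ⟨_, hbq⟩ (hconn.preconnected _ _) d hdD rfl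
    have hc : b⁻¹ * b' ∈ Z := QuotientGroup.eq.mp hbb'.symm
    refine ⟨b⁻¹ * b', hc, ?_⟩
    have : b * (b⁻¹ * b') = b' := by group
    rw [this]
    exact hr
  rw [SimpleGraph.connected_iff_exists_forall_reachable]
  refine ⟨⟨d, hdD⟩, ?_⟩
  suffices hall : ∀ b ∈ D, Rch D d b by
    rintro ⟨b, hb⟩
    obtain ⟨_, _, h⟩ := hall b hb
    exact h
  by_cases hZbot : Z = ⊥
  · intro b hb
    obtain ⟨c, hc, hr⟩ := hreach b hb
    rw [hZbot, Subgroup.mem_bot] at hc
    rw [hc, mul_one] at hr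
    exact hr
  -- the stabilizer of the component of d
  let N : Subgroup G :=
    { carrier := {g | Rch D d (g * d * g⁻¹)}
      one_mem' := by
        change Rch D d (1 * d * 1⁻¹)
        rw [one_mul, inv_one, mul_one]
        exact rch_refl hdD
      mul_mem' := by
        intro g h hg hh
        change Rch D d (g * h * d * (g * h)⁻¹)
        have h1 := rch_conj hDconj g hh
        have e : g * (h * d * h⁻¹) * g⁻¹ = g * h * d * (g * h)⁻¹ := by group
        rw [e] at h1
        exact rch_trans hg h1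
      inv_mem' := by
        intro g hg
        change Rch D d (g⁻¹ * d * g⁻¹⁻¹)
        have h1 := rch_conj hDconj g⁻¹ hg
        have e : g⁻¹ * (g * d * g⁻¹) * g⁻¹⁻¹ = d := by group
        rw [e] at h1
        exact rch_symm h1 }
  have hNmem : ∀ g, g ∈ N ↔ Rch D d (g * d * g⁻¹) := fun g => Iff.rfl
  have hCN : ∀ x ∈ D, Rch D d x → x ∈ N := by
    intro x hx hr
    rw [hNmem]
    have h1 := rch_conj hDconj x hr
    have e : x * x * x⁻¹ = x := by group
    rw [e] at h1
    exact rch_trans hr (rch_symm h1)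
  have hDNZ : ∀ b ∈ D, b ∈ N ⊔ Z := by
    intro b hb
    obtain ⟨c, hc, hr⟩ := hreach b hb
    have h1 : b * c ∈ N := hCN _ (hDcoset b hb c hc) hr
    have : b = (b * c) * c⁻¹ := by group
    rw [this]
    exact Subgroup.mul_mem _ (Subgroup.mem_sup_left h1) (Subgroup.mem_sup_right (Z.inv_mem hc))
  -- the normal closure of d
  have hK : Subgroup.normalClosure ({d} : Set G) ≤ N ⊔ Z := by
    unfold Subgroup.normalClosure
    rw [Subgroup.closure_le]
    intro x hx
    rw [Group.mem_conjugatesOfSet_iff] at hx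
    obtain ⟨a, ha, hax⟩ := hx
    rw [Set.mem_singleton_iff] at ha
    subst ha
    apply hDNZ
    rw [hD, mem_cj]
    exact hax
  have hPn : ((Subgroup.normalClosure ({d} : Set G)).subgroupOf L).Normal := by
    have : (Subgroup.normalClosure ({d} : Set G)).Normal := Subgroup.normalClosure_normal
    exact Subgroup.Normal.subgroupOf this L
  have hdK : d ∈ Subgroup.normalClosure ({d} : Set G) :=
    Subgroup.subset_normalClosure (Set.mem_singleton d)
  rcases Cfsg.Agent.Helper2.isSubnormal_quasisimple hL _ hPn.isSubnormal with hP | hP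
  · -- L ≤ K
    have hLK : L ≤ N ⊔ Z := by
      intro l hl
      have : (⟨l, hl⟩ : L) ∈ (Subgroup.normalClosure ({d} : Set G)).subgroupOf L := by
        rw [hP]; trivial
      exact hK this
    have htop : N ⊔ Z = ⊤ := by
      rw [eq_top_iff, ← hgen]
      apply sup_le hLK
      rw [Subgroup.zpowers_le]
      exact hK hdK
    -- decompose elements of L
    have hdec : ∀ l ∈ L, ∃ n ∈ N, ∃ z ∈ Z, l = n * z := by
      intro l _
      have hl : l ∈ N ⊔ Z := by rw [htop]; trivial
      have h2 : l ∈ ((N ⊔ Z : Subgroup G) : Set G) := hl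
      rw [Subgroup.mul_normal] at h2
      obtain ⟨n, hn', z, hz, rfl⟩ := Set.mem_mul.mp h2
      exact ⟨n, hn', z, hz, rfl⟩
    have hLN : L ≤ N := by
      have hT : commutator L ≤ N.subgroupOf L := by
        rw [commutator_eq_closure, Subgroup.closure_le]
        rintro _ ⟨x, y, rfl⟩
        change ((⁅x, y⁆ : L) : G) ∈ N
        obtain ⟨n1, hn1, z1, hz1, e1⟩ := hdec x.1 x.2
        obtain ⟨n2, hn2, z2, hz2, e2⟩ := hdec y.1 y.2
        have hn1L : n1 ∈ L := by
          have : n1 = x.1 * z1⁻¹ := by rw [e1]; group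
          rw [this]
          exact L.mul_mem x.2 (L.inv_mem (hZL hz1))
        have hn2L : n2 ∈ L := by
          have : n2 = y.1 * z2⁻¹ := by rw [e2]; group
          rw [this]
          exact L.mul_mem y.2 (L.inv_mem (hZL hz2))
        have e : ((⁅x, y⁆ : L) : G) = n1 * n2 * n1⁻¹ * n2⁻¹ := by
          rw [commutatorElement_def]
          simp only [Subgroup.coe_mul, Subgroup.coe_inv]
          rw [e1, e2]
          have c1 : ∀ l ∈ L, z1 * l = l * z1 := hZc z1 hz1
          have c2 : ∀ l ∈ L, z2 * l = l * z2 := hZc z2 hz2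
          have c1i : ∀ l ∈ L, z1⁻¹ * l = l * z1⁻¹ := hZc _ (Z.inv_mem hz1)
          have c2i : ∀ l ∈ L, z2⁻¹ * l = l * z2⁻¹ := hZc _ (Z.inv_mem hz2)
          have hn1i : n1⁻¹ ∈ L := L.inv_mem hn1L
          have hn2i : n2⁻¹ ∈ L := L.inv_mem hn2L
          calc n1 * z1 * (n2 * z2) * (n1 * z1)⁻¹ * (n2 * z2)⁻¹
              = n1 * (z1 * n2) * z2 * (z1⁻¹ * n1⁻¹) * (z2⁻¹ * n2⁻¹) := by group
            _ = n1 * (n2 * z1) * z2 * (n1⁻¹ * z1⁻¹) * (n2⁻¹ * z2⁻¹) := by
                rw [c1 n2 hn2L, c1i n1⁻¹ hn1i, c2i n2⁻¹ hn2i]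
            _ = n1 * n2 * z1 * (z2 * n1⁻¹) * (z1⁻¹ * n2⁻¹) * z2⁻¹ := by group
            _ = n1 * n2 * z1 * (n1⁻¹ * z2) * (n2⁻¹ * z1⁻¹) * z2⁻¹ := by
                rw [c2 n1⁻¹ hn1i, c1i n2⁻¹ hn2i]
            _ = n1 * n2 * (z1 * n1⁻¹) * (z2 * n2⁻¹) * z1⁻¹ * z2⁻¹ := by group
            _ = n1 * n2 * (n1⁻¹ * z1) * (n2⁻¹ * z2) * z1⁻¹ * z2⁻¹ := by
                rw [c1 n1⁻¹ hn1i, c2 n2⁻¹ hn2i]
            _ = n1 * n2 * n1⁻¹ * (z1 * n2⁻¹) * z2 * z1⁻¹ * z2⁻¹ := by group
            _ = n1 * n2 * n1⁻¹ * (n2⁻¹ * z1) * z2 * z1⁻¹ * z2⁻¹ := by rw [c1 n2⁻¹ hn2i]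
            _ = n1 * n2 * n1⁻¹ * n2⁻¹ * (z1 * z2 * z1⁻¹ * z2⁻¹) := by group
            _ = n1 * n2 * n1⁻¹ * n2⁻¹ := by
                have : z1 * z2 = z2 * z1 := c1 z2 (hZL hz2)
                have e' : z1 * z2 * z1⁻¹ * z2⁻¹ = 1 := by rw [this]; group
                rw [e', mul_one]
        rw [e]
        exact N.mul_mem (N.mul_mem (N.mul_mem hn1 hn2) (N.inv_mem hn1)) (N.inv_mem hn2)
      rw [hL.1.commutator_eq_top] at hT
      intro l hl
      exact hT (Subgroup.mem_top (⟨l, hl⟩ : L))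
    have hNtop : N = ⊤ := by
      rw [eq_top_iff, ← htop]
      exact sup_le le_rfl (hZL.trans hLN)
    intro b hb
    obtain ⟨g, rfl⟩ := hDex b hb
    have : g ∈ N := by rw [hNtop]; trivial
    exact this
  · -- d centralizes L, so Z = 1
    exfalso
    apply hZbot
    have hcent : ∀ l ∈ L, d * l = l * d := by
      apply commute_of_perfect L d hL.1
      intro l hl m hm
      have h1 : l * d * l⁻¹ * d⁻¹ ∈ L := by
        have : l * d * l⁻¹ * d⁻¹ = l * (d * l⁻¹ * d⁻¹) := by group
        rw [this]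
        exact L.mul_mem hl (‹L.Normal›.conj_mem _ (L.inv_mem hl) d)
      have h2 : l * d * l⁻¹ * d⁻¹ ∈ Subgroup.normalClosure ({d} : Set G) := by
        have hc : l * d * l⁻¹ ∈ Subgroup.normalClosure ({d} : Set G) :=
          Subgroup.normalClosure_normal.conj_mem d hdK l
        exact Subgroup.mul_mem _ hc (Subgroup.inv_mem _ hdK)
      have h3 : (⟨l * d * l⁻¹ * d⁻¹, h1⟩ : L) ∈ Subgroup.center L := hP h2
      have h4 := Subgroup.mem_center_iff.mp h3 ⟨m, hm⟩
      have h5 := congrArg Subtype.val h4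
      simp only [Subgroup.coe_mul] at h5
      exact h5.symm
    rw [eq_bot_iff]
    intro c hc
    rw [Subgroup.mem_bot]
    have h1 := hinv c hc
    have h2 : d * c * d⁻¹ = c := by rw [hcent c (hZL hc)]; group
    rw [h2] at h1
    -- c = c⁻¹, odd order
    obtain ⟨e, he, rfl⟩ := hsqrt c hc
    have h3 : (e * e) * (e * e) = 1 := by
      nth_rewrite 2 [h1]
      group
    have h4 : e ^ 4 = 1 := by
      rw [← h3]
      simp only [pow_succ, pow_zero, one_mul, mul_assoc]
    have hcardZ : Odd (Nat.card Z) := by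
      have : Nat.card Z = Nat.card (Subgroup.center ↥L) :=
        Nat.card_congr ((Subgroup.center ↥L).equivMapOfInjective L.subtype
          L.subtype_injective).symm.toEquiv
      rw [this]
      exact hodd
    have h5 : orderOf e ∣ 4 := orderOf_dvd_of_pow_eq_one h4
    have h6 : orderOf e ∣ Nat.card Z := by
      have := orderOf_dvd_natCard (⟨e, he⟩ : Z)
      rwa [Subgroup.orderOf_mk] at this
    have h7 : Nat.Coprime 4 (Nat.card Z) := by
      have h2' : Nat.Coprime 2 (Nat.card Z) := (Nat.coprime_two_left).mpr hcardZ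
      have : Nat.Coprime (2 ^ 2) (Nat.card Z) := Nat.Coprime.pow_left 2 h2'
      exact this
    have h8 : orderOf e = 1 := Nat.eq_one_of_dvd_coprimes h7 h5 h6
    rw [orderOf_eq_one_iff] at h8
    rw [h8, mul_one]

end Cfsg.Agent.Helper5.CommGraphLift
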