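import Mathlib
import Cfsg.Agent.Helper1.AbelianAct
import Cfsg.Agent.Helper2.Layer5

/-!
Helper lemmas (helper5): coprime action on the abelianization: if `L = [L, Q]` and `L/L'` is covered by a
subgroup of order prime to `|Q|`, then `C_L(Q) ≤ L'`. Also `Z(A) ∩ A' ≤ Φ(A)`.
-/

set_option autoImplicit false

namespace Cfsg.Agent.Helper5

open Cfsg.Agent.Helper1 Cfsg.Agent.Helper2
open scoped commutatorElement

variable {G : Type*} [Group G]

theorem commutator_self_le (L : Subgroup G) : ⁅L, L⁆ ≤ L := by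
  rw [Subgroup.commutator_le]
  intro a ha b hb
  rw [commutatorElement_def]
  exact L.mul_mem (L.mul_mem (L.mul_mem ha hb) (L.inv_mem ha)) (L.inv_mem hb)

theorem inf_centralizer_le_commutator_of_coprime [Finite G] (L Q FL : Subgroup G)
    (hQL : Q ≤ Subgroup.normalizer (L : Set G)) (hLQ : ⁅L, Q⁆ = L) (hFL : FL ≤ L)
    (hL : L ≤ FL ⊔ ⁅L, L⁆) (hcop : (Nat.card ↥Q).Coprime (Nat.card ↥FL)) :
    L ⊓ Subgroup.centralizer (Q : Set G) ≤ ⁅L, L⁆ := by
  set X := L ⊔ Q with hX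
  have hLX : L ≤ X := le_sup_left
  have hQX : Q ≤ X := le_sup_right
  set D := ⁅L, L⁆ with hD
  have hDL : D ≤ L := commutator_self_le L
  have hXNL : X ≤ Subgroup.normalizer (L : Set G) := sup_le Subgroup.le_normalizer hQL
  have hXND : X ≤ Subgroup.normalizer (D : Set G) := hXNL.trans (normalizer_le_normalizer_commutator L)
  have hNn : (D.subgroupOf X).Normal :=
    (Subgroup.normal_subgroupOf_iff_le_normalizer (hDL.trans hLX)).mpr hXND
  have hLXn : (L.subgroupOf X).Normal :=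
    (Subgroup.normal_subgroupOf_iff_le_normalizer hLX).mpr hXNL
  set π := QuotientGroup.mk' (D.subgroupOf X) with hπ
  have hπs : Function.Surjective π := QuotientGroup.mk'_surjective _
  have hker : π.ker = D.subgroupOf X := QuotientGroup.ker_mk' _
  set V := (L.subgroupOf X).map π with hV
  set A := (Q.subgroupOf X).map π with hA
  have hVn : V.Normal := Subgroup.Normal.map hLXn π hπs
  have hcomm : ∀ a b : ↥V, a * b = b * a := by
    rintro ⟨_, ⟨l₁, hl₁, rfl⟩⟩ ⟨_, ⟨l₂, hl₂, rfl⟩⟩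
    apply Subtype.ext
    show π l₁ * π l₂ = π l₂ * π l₁
    rw [← map_mul, ← map_mul]
    apply (QuotientGroup.eq).mpr
    rw [Subgroup.mem_subgroupOf]
    have h1 : (((l₁ * l₂)⁻¹ * (l₂ * l₁) : ↥X) : G) = ⁅((l₂ : G))⁻¹, ((l₁ : G))⁻¹⁆ := by
      rw [commutatorElement_def]; push_cast; group
    rw [h1]
    exact Subgroup.commutator_mem_commutator (L.inv_mem (Subgroup.mem_subgroupOf.mp hl₂))
      (L.inv_mem (Subgroup.mem_subgroupOf.mp hl₁))
  haveI : IsMulCommutative ↥V := ⟨⟨hcomm⟩⟩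
  have hAV : A ≤ Subgroup.normalizer (V : Set _) := by
    rw [Subgroup.normalizer_eq_top]; exact le_top
  -- `V` is the image of `FL`
  have hVF : V ≤ (FL.subgroupOf X).map π := by
    rw [hV]
    have h1 : L.subgroupOf X ≤ FL.subgroupOf X ⊔ D.subgroupOf X := by
      rw [← Subgroup.subgroupOf_sup (hFL.trans hLX) (hDL.trans hLX)]
      exact Subgroup.comap_mono hL
    refine (Subgroup.map_mono h1).trans ?_
    rw [Subgroup.map_sup]
    have h2 : (D.subgroupOf X).map π = ⊥ := by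
      rw [(Subgroup.map_eq_bot_iff _), hker]
    rw [h2, sup_bot_eq]
  have hcardV : Nat.card ↥V ∣ Nat.card ↥FL := by
    have h1 : Nat.card ↥V ∣ Nat.card ↥((FL.subgroupOf X).map π) := Subgroup.card_dvd_of_le hVF
    have h2 : Nat.card ↥((FL.subgroupOf X).map π) ∣ Nat.card ↥(FL.subgroupOf X) :=
      Subgroup.card_map_dvd _ _
    have h3 : Nat.card ↥(FL.subgroupOf X) = Nat.card ↥FL :=
      Nat.card_congr (Subgroup.subgroupOfEquivOfLe (hFL.trans hLX)).toEquiv
    rw [h3] at h2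
    exact h1.trans h2
  have hcardA : Nat.card ↥A ∣ Nat.card ↥Q := by
    have h2 : Nat.card ↥((Q.subgroupOf X).map π) ∣ Nat.card ↥(Q.subgroupOf X) :=
      Subgroup.card_map_dvd _ _
    have h3 : Nat.card ↥(Q.subgroupOf X) = Nat.card ↥Q :=
      Nat.card_congr (Subgroup.subgroupOfEquivOfLe hQX).toEquiv
    rw [h3] at h2
    exact h2
  have hcopAV : (Nat.card ↥A).Coprime (Nat.card ↥V) :=
    (hcop.coprime_dvd_left hcardA).coprime_dvd_right hcardV
  have hdec := (abelian_coprime_decomp A V hAV hcopAV).1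
  have hVA : ⁅V, A⁆ = V := by
    rw [hV, hA, ← Subgroup.map_commutator]
    congr 1
    apply Subgroup.map_injective X.subtype_injective
    rw [Subgroup.map_commutator, Subgroup.subgroupOf_map_subtype, Subgroup.subgroupOf_map_subtype,
      inf_eq_left.mpr hLX, inf_eq_left.mpr hQX, hLQ]
  rw [hVA, inf_eq_left.mpr inf_le_left] at hdec
  intro x hx
  obtain ⟨hxL, hxQ⟩ := Subgroup.mem_inf.mp hx
  have hmem : π ⟨x, hLX hxL⟩ ∈ V ⊓ Subgroup.centralizer (A : Set _) := by
    apply Subgroup.mem_inf.mpr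
    refine ⟨⟨⟨x, hLX hxL⟩, Subgroup.mem_subgroupOf.mpr hxL, rfl⟩, ?_⟩
    rw [Subgroup.mem_centralizer_iff]
    rintro _ ⟨q, hq, rfl⟩
    rw [← map_mul, ← map_mul]
    congr 1
    apply Subtype.ext
    exact (Subgroup.mem_centralizer_iff.mp hxQ) (q : G) (Subgroup.mem_subgroupOf.mp hq)
  rw [hdec, Subgroup.mem_bot] at hmem
  have h5 : (⟨x, hLX hxL⟩ : ↥X) ∈ π.ker := MonoidHom.mem_ker.mpr hmem
  rw [hker] at h5
  exact Subgroup.mem_subgroupOf.mp h5

theorem comm_mul_central_left {A : Type*} [Group A] (u : A) (hu : ∀ g : A, g * u = u * g) (a b : A) :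
    ⁅a * u, b⁆ = ⁅a, b⁆ := by
  calc ⁅a * u, b⁆ = a * (u * b) * u⁻¹ * a⁻¹ * b⁻¹ := by rw [commutatorElement_def]; group
    _ = a * (b * u) * u⁻¹ * a⁻¹ * b⁻¹ := by rw [hu b]
    _ = ⁅a, b⁆ := by rw [commutatorElement_def]; group

theorem comm_mul_central_right {A : Type*} [Group A] (u : A) (hu : ∀ g : A, g * u = u * g) (a b : A) :
    ⁅a, b * u⁆ = ⁅a, b⁆ := by
  calc ⁅a, b * u⁆ = a * b * (u * a⁻¹) * u⁻¹ * b⁻¹ := by rw [commutatorElement_def]; group
    _ = a * b * (a⁻¹ * u) * u⁻¹ * b⁻¹ := by rw [hu a⁻¹]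
    _ = ⁅a, b⁆ := by rw [commutatorElement_def]; group

/-- `Z(A) ∩ A' ≤ Φ(A)`. -/
theorem center_inf_commutator_le_frattini (A : Type*) [Group A] [Finite A] :
    Subgroup.center A ⊓ commutator A ≤ frattini A := by
  intro z hz
  obtain ⟨hzZ, hzC⟩ := Subgroup.mem_inf.mp hz
  unfold frattini Order.radical
  rw [Subgroup.mem_iInf]
  intro M
  rw [Subgroup.mem_iInf]
  intro hM
  by_contra hzM
  have hsup : M ⊔ Subgroup.zpowers z = ⊤ := by
    apply hM.2
    apply lt_of_le_of_ne le_sup_left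
    intro heq
    apply hzM
    rw [heq]
    exact Subgroup.mem_sup_right (Subgroup.mem_zpowers z)
  -- every element is `m * z^i`
  have hdecomp : ∀ a : A, ∃ m ∈ M, ∃ i : ℤ, a = m * z ^ i := by
    intro a
    have ha : a ∈ M ⊔ Subgroup.zpowers z := by rw [hsup]; trivial
    have hzn : (Subgroup.zpowers z).Normal := by
      constructor
      intro n hn g
      obtain ⟨i, rfl⟩ := Subgroup.mem_zpowers_iff.mp hn
      have : g * z ^ i * g⁻¹ = z ^ i := by
        have hc : g * z ^ i = z ^ i * g :=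
          (Subgroup.mem_center_iff.mp (Subgroup.zpow_mem _ hzZ i) g)
        rw [hc]; group
      rw [this]; exact Subgroup.mem_zpowers_iff.mpr ⟨i, rfl⟩
    obtain ⟨m, hm, w, hw, rfl⟩ := Subgroup.mem_sup_of_normal_right.mp ha
    obtain ⟨i, rfl⟩ := Subgroup.mem_zpowers_iff.mp hw
    exact ⟨m, hm, i, rfl⟩
  have hcomm_le : commutator A ≤ M := by
    rw [commutator_def, Subgroup.commutator_le]
    intro a _ b _
    obtain ⟨m₁, hm₁, i, rfl⟩ := hdecomp a
    obtain ⟨m₂, hm₂, j, rfl⟩ := hdecomp b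
    have hzi : ∀ (k : ℤ) (g : A), g * z ^ k = z ^ k * g := fun k g =>
      (Subgroup.mem_center_iff.mp (Subgroup.zpow_mem _ hzZ k) g)
    have this : ⁅m₁ * z ^ i, m₂ * z ^ j⁆ = ⁅m₁, m₂⁆ := by
      rw [comm_mul_central_left (z ^ i) (hzi i), comm_mul_central_right (z ^ j) (hzi j)]
    rw [this]
    exact Subgroup.commutator_mem_commutator (H₁ := M) (H₂ := M) hm₁ hm₂ |> fun h =>
      (commutator_self_le M) h
  exact hzM (hcomm_le hzC)

end Cfsg.Agent.Helper5
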