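import Mathlib
import Cfsg.Prelude.Def_KGroupFacts

/-!
# The universal property of a Schur cover of a perfect group

A finite stem extension `σ : Γ → G` of a perfect group whose kernel is at least as large as the
kernel of every finite stem extension maps onto every finite perfect central extension of `G`,
compatibly with the maps to `G` (the commutator subgroup of the pullback is a stem extension).
-/

set_option autoImplicit false

namespace Cfsg.Agent.Helper5.CoverU

open Cfsg
open scoped commutatorElement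

universe u

/-- the order of the source of a surjective homomorphism. -/
theorem card_eq_mul_ker {A B : Type*} [Group A] [Group B] (f : A →* B)
    (hf : Function.Surjective f) : Nat.card A = Nat.card B * Nat.card f.ker := by
  rw [Subgroup.card_eq_card_quotient_mul_card_subgroup f.ker,
    Nat.card_congr (QuotientGroup.quotientKerEquivOfSurjective f hf).toEquiv]

/-- a commutator does not see central factors, on the left. -/
theorem comm_central_left {H : Type*} [Group H] (a c h : H) (hc : ∀ g : H, c * g = g * c) :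
    ⁅a * c, h⁆ = ⁅a, h⁆ := by
  rw [commutatorElement_def, commutatorElement_def, mul_inv_rev]
  have e : c * h * c⁻¹ = h := by rw [hc h, mul_assoc, mul_inv_cancel, mul_one]
  calc a * c * h * (c⁻¹ * a⁻¹) * h⁻¹ = a * (c * h * c⁻¹) * a⁻¹ * h⁻¹ := by group
    _ = a * h * a⁻¹ * h⁻¹ := by rw [e]

/-- a commutator does not see central factors, on the right. -/
theorem comm_central_right {H : Type*} [Group H] (b c h : H) (hc : ∀ g : H, c * g = g * c) :
    ⁅h, b * c⁆ = ⁅h, b⁆ := by
  rw [commutatorElement_def, commutatorElement_def, mul_inv_rev]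
  have e : c * h⁻¹ * c⁻¹ = h⁻¹ := by rw [hc h⁻¹, mul_assoc, mul_inv_cancel, mul_one]
  calc h * (b * c) * h⁻¹ * (c⁻¹ * b⁻¹) = h * b * (c * h⁻¹ * c⁻¹) * b⁻¹ := by group
    _ = h * b * h⁻¹ * b⁻¹ := by rw [e]

/-- a stem extension of a perfect group is perfect. -/
theorem perfect_of_stem {G Γ : Type*} [Group G] [Group Γ] (σ : Γ →* G)
    (h : IsStemExtension σ) [hG : Group.IsPerfect G] : Group.IsPerfect Γ := by
  obtain ⟨hs, -, hk⟩ := h
  refine ⟨?_⟩
  rw [eq_top_iff]
  intro x _
  have h1 : (commutator Γ).map σ = commutator G := by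
    rw [commutator_def, Subgroup.map_commutator, ← MonoidHom.range_eq_map,
      MonoidHom.range_eq_top_of_surjective σ hs, ← commutator_def]
  have h2 : σ x ∈ (commutator Γ).map σ := by
    rw [h1, hG.commutator_eq_top]
    exact Subgroup.mem_top _
  obtain ⟨c, hc, hcx⟩ := h2
  have h3 : c⁻¹ * x ∈ σ.ker := by
    rw [MonoidHom.mem_ker, map_mul, map_inv, hcx, inv_mul_cancel]
  have h4 := mul_mem hc (hk h3)
  rwa [mul_inv_cancel_left] at h4

section lift
variable {G Γ L : Type u} [Group G] [Group Γ] [Group L] [Finite Γ] [Finite L]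

/-- the pullback of two homomorphisms. -/
def pull (σ : Γ →* G) (τ : L →* G) : Subgroup (Γ × L) :=
  (σ.comp (MonoidHom.fst Γ L)).eqLocus (τ.comp (MonoidHom.snd Γ L))

theorem mem_pull (σ : Γ →* G) (τ : L →* G) (p : Γ × L) : p ∈ pull σ τ ↔ σ p.1 = τ p.2 :=
  Iff.rfl

/-- **the universal property.** -/
theorem exists_lift (σ : Γ →* G) (τ : L →* G) (hσ : IsStemExtension σ) (hτ : IsStemExtension τ)
    [hΓ : Group.IsPerfect Γ] [hL : Group.IsPerfect L]
    (hmax : ∀ (Γ' : Type u) [Group Γ'] [Finite Γ'] (σ' : Γ' →* G), IsStemExtension σ' →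
      Nat.card σ'.ker ≤ Nat.card σ.ker) :
    ∃ φ : Γ →* L, Function.Surjective φ ∧ τ.comp φ = σ := by
  obtain ⟨hσs, hσc, -⟩ := hσ
  obtain ⟨hτs, hτc, -⟩ := hτ
  set P : Subgroup (Γ × L) := pull σ τ with hP
  set D : Subgroup (Γ × L) := ⁅P, P⁆ with hD
  have hDP : D ≤ P := by
    rw [hD, Subgroup.commutator_le]
    intro g₁ h₁ g₂ h₂
    rw [commutatorElement_def]
    exact mul_mem (mul_mem (mul_mem h₁ h₂) (inv_mem h₁)) (inv_mem h₂)
  have hP1 : P.map (MonoidHom.fst Γ L) = ⊤ := by
    rw [eq_top_iff]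
    intro x _
    obtain ⟨y, hy⟩ := hτs (σ x)
    exact ⟨(x, y), hy.symm, rfl⟩
  have hP2 : P.map (MonoidHom.snd Γ L) = ⊤ := by
    rw [eq_top_iff]
    intro y _
    obtain ⟨x, hx⟩ := hσs (τ y)
    exact ⟨(x, y), hx, rfl⟩
  have hD1 : D.map (MonoidHom.fst Γ L) = ⊤ := by
    rw [hD, Subgroup.map_commutator, hP1, ← commutator_def, hΓ.commutator_eq_top]
  have hD2 : D.map (MonoidHom.snd Γ L) = ⊤ := by
    rw [hD, Subgroup.map_commutator, hP2, ← commutator_def, hL.commutator_eq_top]
  -- the elements of `P` are products of an element of `D` and a central element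
  have hdec : ∀ p ∈ P, ∃ d ∈ D, ∃ c : Γ × L, (∀ g : Γ × L, c * g = g * c) ∧ p = d * c := by
    intro p hp
    have h1 : p.1 ∈ D.map (MonoidHom.fst Γ L) := by rw [hD1]; exact Subgroup.mem_top _
    obtain ⟨d, hd, hdp⟩ := h1
    refine ⟨d, hd, d⁻¹ * p, ?_, by rw [mul_inv_cancel_left]⟩
    have hd' : σ d.1 = τ d.2 := hDP hd
    have hp' : σ p.1 = τ p.2 := hp
    have e1 : (d⁻¹ * p).1 = 1 := by
      show d⁻¹.1 * p.1 = 1
      rw [Prod.fst_inv, ← hdp]
      exact inv_mul_cancel _
    have e2 : (d⁻¹ * p).2 ∈ τ.ker := by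
      rw [MonoidHom.mem_ker]
      show τ (d⁻¹.2 * p.2) = 1
      rw [Prod.snd_inv, map_mul, map_inv, ← hd', ← hp', ← hdp]
      exact inv_mul_cancel _
    have e3 := hτc e2
    rw [Subgroup.mem_center_iff] at e3
    intro g
    apply Prod.ext
    · show (d⁻¹ * p).1 * g.1 = g.1 * (d⁻¹ * p).1
      rw [e1, one_mul, mul_one]
    · show (d⁻¹ * p).2 * g.2 = g.2 * (d⁻¹ * p).2
      exact (e3 g.2).symm
  -- `D` is perfect
  have hDperf : ⁅D, D⁆ = D := by
    apply le_antisymm
    · rw [Subgroup.commutator_le]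
      intro g₁ h₁ g₂ h₂
      rw [commutatorElement_def]
      exact mul_mem (mul_mem (mul_mem h₁ h₂) (inv_mem h₁)) (inv_mem h₂)
    · conv_lhs => rw [hD]
      rw [Subgroup.commutator_le]
      intro p hp q hq
      obtain ⟨d, hd, c, hc, rfl⟩ := hdec p hp
      obtain ⟨d', hd', c', hc', rfl⟩ := hdec q hq
      rw [comm_central_left d c _ hc, comm_central_right d' c' _ hc']
      exact Subgroup.commutator_mem_commutator hd hd'
  have hDperf' : Group.IsPerfect D := Subgroup.isPerfect_iff.mpr hDperf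
  -- the stem extension `D → G`
  let f1 : D →* Γ := (MonoidHom.fst Γ L).comp D.subtype
  let f2 : D →* L := (MonoidHom.snd Γ L).comp D.subtype
  have hf1 : Function.Surjective f1 := by
    intro x
    have h1 : x ∈ D.map (MonoidHom.fst Γ L) := by rw [hD1]; exact Subgroup.mem_top _
    obtain ⟨d, hd, hdx⟩ := h1
    exact ⟨⟨d, hd⟩, hdx⟩
  have hf2 : Function.Surjective f2 := by
    intro y
    have h1 : y ∈ D.map (MonoidHom.snd Γ L) := by rw [hD2]; exact Subgroup.mem_top _
    obtain ⟨d, hd, hdy⟩ := h1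
    exact ⟨⟨d, hd⟩, hdy⟩
  have hcomp : ∀ d : D, τ (f2 d) = σ (f1 d) := by
    intro d
    exact (hDP d.property).symm
  let ρ : D →* G := σ.comp f1
  have hρs : Function.Surjective ρ := hσs.comp hf1
  have hρ : IsStemExtension ρ := by
    refine ⟨hρs, ?_, ?_⟩
    · intro d hd
      have h1 : σ (f1 d) = 1 := hd
      have h2 : τ (f2 d) = 1 := by rw [hcomp, h1]
      have c1 := hσc (MonoidHom.mem_ker.mpr h1)
      have c2 := hτc (MonoidHom.mem_ker.mpr h2)
      rw [Subgroup.mem_center_iff] at c1 c2 ⊢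
      intro g
      apply Subtype.ext
      apply Prod.ext
      · exact c1 (f1 g)
      · exact c2 (f2 g)
    · rw [hDperf'.commutator_eq_top]
      exact le_top
  have hle := hmax D ρ hρ
  -- `f1` is bijective
  have hcD : Nat.card D = Nat.card G * Nat.card ρ.ker := card_eq_mul_ker ρ hρs
  have hcΓ : Nat.card Γ = Nat.card G * Nat.card σ.ker := card_eq_mul_ker σ hσs
  have hcard : Nat.card D ≤ Nat.card Γ := by
    rw [hcD, hcΓ]
    exact Nat.mul_le_mul_left _ hle
  have hbij : Function.Bijective f1 := hf1.bijective_of_nat_card_le hcard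
  let e1 : D ≃* Γ := MulEquiv.ofBijective f1 hbij
  refine ⟨f2.comp e1.symm.toMonoidHom, hf2.comp e1.symm.surjective, ?_⟩
  ext x
  show τ (f2 (e1.symm x)) = σ x
  rw [hcomp]
  congr 1
  exact e1.apply_symm_apply x

end lift

end Cfsg.Agent.Helper5.CoverU
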