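import Mathlib

set_option autoImplicit false

/-!
The group `K ⋊ S` of affine maps `x ↦ s x + v` with `s ∈ S ≤ Kˣ` over a finite field `K`,
its solvability and its set of element orders.
-/

namespace Cfsg.Agent.Helper5.SpecAff

/-- the group `K ⋊ S` of affine maps `x ↦ s x + v`, `s ∈ S ≤ Kˣ`. -/
@[ext] structure Aff (K : Type) [Field K] (S : Subgroup Kˣ) where
  /-- translation part -/
  v : K
  /-- linear part -/
  s : S

variable {K : Type} [Field K] {S : Subgroup Kˣ}

/-- the scalar of the linear part -/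
def Aff.c (a : Aff K S) : K := ((a.s : Kˣ) : K)

instance instMulAff : Mul (Aff K S) := ⟨fun a b => ⟨a.v + ((a.s : Kˣ) : K) * b.v, a.s * b.s⟩⟩
instance instOneAff : One (Aff K S) := ⟨⟨0, 1⟩⟩
instance instInvAff : Inv (Aff K S) := ⟨fun a => ⟨-(((a.s⁻¹ : S) : Kˣ) : K) * a.v, a.s⁻¹⟩⟩

theorem mul_v (a b : Aff K S) : (a * b).v = a.v + ((a.s : Kˣ) : K) * b.v := rfl
theorem mul_s (a b : Aff K S) : (a * b).s = a.s * b.s := rfl
theorem one_v : (1 : Aff K S).v = 0 := rfl
theorem one_s : (1 : Aff K S).s = 1 := rfl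
theorem inv_v (a : Aff K S) : (a⁻¹).v = -(((a.s⁻¹ : S) : Kˣ) : K) * a.v := rfl
theorem inv_s (a : Aff K S) : (a⁻¹).s = a.s⁻¹ := rfl

instance instGroupAff : Group (Aff K S) where
  mul_assoc a b c := by
    apply Aff.ext
    · simp only [mul_v, mul_s, Subgroup.coe_mul, Units.val_mul]; ring
    · simp only [mul_s, mul_assoc]
  one_mul a := by
    apply Aff.ext
    · simp only [mul_v, one_v, one_s, Subgroup.coe_one, Units.val_one, one_mul, zero_add]
    · simp only [mul_s, one_s, one_mul]
  mul_one a := by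
    apply Aff.ext
    · simp only [mul_v, one_v, mul_zero, add_zero]
    · simp only [mul_s, one_s, mul_one]
  inv_mul_cancel a := by
    apply Aff.ext
    · simp only [mul_v, inv_v, inv_s, one_v]; ring
    · simp only [mul_s, inv_s, inv_mul_cancel, one_s]

theorem pow_s (a : Aff K S) (k : ℕ) : (a ^ k).s = a.s ^ k := by
  induction k with
  | zero => rw [pow_zero, pow_zero, one_s]
  | succ k ih => rw [pow_succ, pow_succ, mul_s, ih]

theorem pow_v_mul (a : Aff K S) (k : ℕ) :
    (((a.s : Kˣ) : K) - 1) * (a ^ k).v = (((a.s : Kˣ) : K) ^ k - 1) * a.v := by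
  induction k with
  | zero => rw [pow_zero, pow_zero, one_v, mul_zero, sub_self, zero_mul]
  | succ k ih =>
    rw [pow_succ, mul_v, pow_s, mul_add, ih]
    simp only [Subgroup.coe_pow, Units.val_pow_eq_pow_val]
    ring

theorem pow_v_of_s_eq_one (a : Aff K S) (h : a.s = 1) (k : ℕ) : (a ^ k).v = (k : K) * a.v := by
  induction k with
  | zero => rw [pow_zero, one_v, Nat.cast_zero, zero_mul]
  | succ k ih =>
    rw [pow_succ, mul_v, pow_s, ih, h, one_pow]
    simp only [Subgroup.coe_one, Units.val_one, one_mul, Nat.cast_succ]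
    ring

theorem eq_one_iff (a : Aff K S) : a = 1 ↔ a.v = 0 ∧ a.s = 1 := by
  constructor
  · rintro rfl
    exact ⟨rfl, rfl⟩
  · rintro ⟨h1, h2⟩
    exact Aff.ext h1 h2

theorem coe_s_ne_one {a : Aff K S} (h : a.s ≠ 1) : ((a.s : Kˣ) : K) ≠ 1 := by
  intro h1
  apply h
  apply Subtype.ext
  apply Units.ext
  rw [h1]
  rfl

theorem pow_eq_one_iff_of_s_ne {a : Aff K S} (h : a.s ≠ 1) (k : ℕ) : a ^ k = 1 ↔ a.s ^ k = 1 := by
  rw [eq_one_iff, pow_s]
  constructor
  · exact fun h => h.2
  · intro hk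
    refine ⟨?_, hk⟩
    have h1 := pow_v_mul a k
    have h2 : ((a.s : Kˣ) : K) ^ k = 1 := by
      have := congrArg (fun x : S => ((x : Kˣ) : K)) hk
      simpa only [Subgroup.coe_pow, Units.val_pow_eq_pow_val, Subgroup.coe_one, Units.val_one] using this
    rw [h2, sub_self, zero_mul] at h1
    exact (mul_eq_zero.mp h1).resolve_left (sub_ne_zero.mpr (coe_s_ne_one h))

theorem orderOf_of_s_ne {a : Aff K S} (h : a.s ≠ 1) : orderOf a = orderOf a.s := by
  apply Nat.dvd_antisymm
  · rw [orderOf_dvd_iff_pow_eq_one, pow_eq_one_iff_of_s_ne h, pow_orderOf_eq_one]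
  · rw [orderOf_dvd_iff_pow_eq_one, ← pow_eq_one_iff_of_s_ne h, pow_orderOf_eq_one]

theorem orderOf_of_s_eq (p : ℕ) [Fact p.Prime] [CharP K p] {a : Aff K S} (h : a.s = 1) (hv : a.v ≠ 0) :
    orderOf a = p := by
  have hk : ∀ k : ℕ, a ^ k = 1 ↔ p ∣ k := by
    intro k
    rw [eq_one_iff, pow_s, h, one_pow, pow_v_of_s_eq_one a h]
    constructor
    · rintro ⟨h1, -⟩
      rcases mul_eq_zero.mp h1 with h2 | h2
      · exact (CharP.cast_eq_zero_iff K p k).mp h2
      · exact absurd h2 hv
    · intro hd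
      refine ⟨?_, rfl⟩
      rw [(CharP.cast_eq_zero_iff K p k).mpr hd, zero_mul]
  apply Nat.dvd_antisymm
  · rw [orderOf_dvd_iff_pow_eq_one, hk]
  · rw [← hk, pow_orderOf_eq_one]

/-- the embedding of the translation group -/
def trans : Multiplicative K →* Aff K S where
  toFun v := ⟨Multiplicative.toAdd v, 1⟩
  map_one' := rfl
  map_mul' a b := by
    apply Aff.ext
    · simp only [mul_v, Subgroup.coe_one, Units.val_one, one_mul, toAdd_mul]
    · simp only [mul_s, mul_one]

/-- the projection to the linear part -/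
def lin : Aff K S →* S where
  toFun a := a.s
  map_one' := rfl
  map_mul' _ _ := rfl

theorem isSolvable_aff : Group.IsSolvable (Aff K S) := by
  apply Group.isSolvable_of_ker_le_range (trans (K := K) (S := S)) (lin (K := K) (S := S))
  intro a ha
  rw [MonoidHom.mem_ker] at ha
  refine ⟨Multiplicative.ofAdd a.v, ?_⟩
  apply Aff.ext
  · rfl
  · exact ha.symm

/-- `Aff K S` as a product of sets -/
def equivProd : Aff K S ≃ K × S where
  toFun a := (a.v, a.s)
  invFun x := ⟨x.1, x.2⟩
  left_inv _ := rfl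
  right_inv _ := rfl

theorem finite_aff [Finite K] : Finite (Aff K S) := Finite.of_equiv _ (equivProd (K := K) (S := S)).symm

/-- the set of element orders of `K ⋊ S` -/
theorem range_orderOf (p : ℕ) [Fact p.Prime] [CharP K p] [Finite K] :
    Set.range (orderOf : Aff K S → ℕ) = {1, p} ∪ {k | k ∣ Nat.card S} := by
  ext k
  constructor
  · rintro ⟨a, rfl⟩
    by_cases h : a.s = 1
    · by_cases hv : a.v = 0
      · left
        rw [(eq_one_iff a).mpr ⟨hv, h⟩, orderOf_one]
        exact Set.mem_insert _ _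
      · left
        rw [orderOf_of_s_eq p h hv]
        exact Set.mem_insert_of_mem _ rfl
    · right
      rw [orderOf_of_s_ne h]
      exact orderOf_dvd_natCard _
  · rintro (hk | hk)
    · rcases hk with rfl | rfl
      · exact ⟨1, orderOf_one⟩
      · refine ⟨⟨1, 1⟩, ?_⟩
        exact orderOf_of_s_eq k rfl one_ne_zero
    · change k ∣ Nat.card S at hk
      by_cases hk1 : k = 1
      · subst hk1
        exact ⟨1, orderOf_one⟩
      · obtain ⟨s, hs⟩ : ∃ s : S, orderOf s = k := by
          obtain ⟨g, hg⟩ := IsCyclic.exists_ofOrder_eq_natCard (α := S)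
          obtain ⟨d, hd⟩ := hk
          refine ⟨g ^ d, ?_⟩
          have hpos : 0 < Nat.card S := Nat.card_pos
          rw [orderOf_pow, hg, hd]
          have hd0 : d ≠ 0 := by
            rintro rfl
            rw [hd, mul_zero] at hpos
            exact lt_irrefl _ hpos
          rw [Nat.gcd_mul_left_left, Nat.mul_div_cancel _ (Nat.pos_of_ne_zero hd0)]
        have hs1 : s ≠ 1 := by
          rintro rfl
          rw [orderOf_one] at hs
          exact hk1 hs.symm
        refine ⟨⟨0, s⟩, ?_⟩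
        rw [orderOf_of_s_ne (a := (⟨0, s⟩ : Aff K S)) hs1]
        exact hs

end Cfsg.Agent.Helper5.SpecAff
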