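import Mathlib
import Cfsg.Agent.Helper5.SpecAff
import Cfsg.Agent.Helper5.SpecPSL

set_option autoImplicit false

/-!
A finite solvable group with the same set of element orders as `PSL₂(F) × PSL₂(F)`.
-/

namespace Cfsg.Agent.Helper5.SpecMain

open Matrix Cfsg.Agent.Helper5.SpecAff Cfsg.Agent.Helper5.SpecPSL

theorem range_orderOf_prod {X Y : Type*} [Monoid X] [Monoid Y] :
    Set.range (orderOf : X × Y → ℕ) =
      {k | ∃ a ∈ Set.range (orderOf : X → ℕ), ∃ b ∈ Set.range (orderOf : Y → ℕ), k = Nat.lcm a b} := by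
  ext k
  constructor
  · rintro ⟨x, rfl⟩
    exact ⟨_, ⟨x.1, rfl⟩, _, ⟨x.2, rfl⟩, Prod.orderOf x⟩
  · rintro ⟨_, ⟨x, rfl⟩, _, ⟨y, rfl⟩, rfl⟩
    exact ⟨(x, y), Prod.orderOf _⟩

/-- subgroups of every order dividing `|Kˣ|` -/
theorem exists_subgroup_card {K : Type} [Field K] [Finite K] {r : ℕ} (h : r ∣ Nat.card Kˣ) :
    ∃ S : Subgroup Kˣ, Nat.card S = r := by
  obtain ⟨g, hg⟩ := IsCyclic.exists_ofOrder_eq_natCard (α := Kˣ)
  obtain ⟨y, hy⟩ := exists_orderOf_of_dvd (x := g) (k := r) (by rw [hg]; exact h) (orderOf_pos g).ne'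
  exact ⟨Subgroup.zpowers y, by rw [Nat.card_zpowers, hy]⟩

theorem spectrum_eq (p m n : ℕ) (hp : p.Prime) :
    {k | ∃ a ∈ ({1, p} ∪ {k | k ∣ m} : Set ℕ), ∃ b ∈ ({1, p} ∪ {k | k ∣ n} : Set ℕ), k = Nat.lcm a b} =
      {k | ∃ a ∈ {k | k ∣ p ∨ k ∣ m ∨ k ∣ n}, ∃ b ∈ {k | k ∣ p ∨ k ∣ m ∨ k ∣ n}, k = Nat.lcm a b} := by
  have hP : ∀ a : ℕ, a ∈ ({1, p} : Set ℕ) ↔ a ∣ p := by
    intro a
    rw [Nat.dvd_prime hp]
    exact Iff.rfl
  ext k
  constructor
  · rintro ⟨a, ha, b, hb, rfl⟩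
    refine ⟨a, ?_, b, ?_, rfl⟩
    · rcases ha with ha | ha
      · exact Or.inl ((hP a).mp ha)
      · exact Or.inr (Or.inl ha)
    · rcases hb with hb | hb
      · exact Or.inl ((hP b).mp hb)
      · exact Or.inr (Or.inr hb)
  · rintro ⟨a, ha, b, hb, rfl⟩
    have h1 : (1 : ℕ) ∈ ({1, p} ∪ {k | k ∣ m} : Set ℕ) := Or.inl (Or.inl rfl)
    have h1' : (1 : ℕ) ∈ ({1, p} ∪ {k | k ∣ n} : Set ℕ) := Or.inl (Or.inl rfl)
    rcases ha with ha | ha | ha <;> rcases hb with hb | hb | hb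
    · exact ⟨Nat.lcm a b, Or.inl ((hP _).mpr (Nat.lcm_dvd ha hb)), 1, h1', (Nat.lcm_one_right _).symm⟩
    · exact ⟨b, Or.inr hb, a, Or.inl ((hP _).mpr ha), Nat.lcm_comm a b⟩
    · exact ⟨a, Or.inl ((hP _).mpr ha), b, Or.inr hb, rfl⟩
    · exact ⟨a, Or.inr ha, b, Or.inl ((hP _).mpr hb), rfl⟩
    · exact ⟨Nat.lcm a b, Or.inr (Nat.lcm_dvd ha hb), 1, h1', (Nat.lcm_one_right _).symm⟩
    · exact ⟨a, Or.inr ha, b, Or.inr hb, rfl⟩
    · exact ⟨b, Or.inl ((hP _).mpr hb), a, Or.inr ha, Nat.lcm_comm a b⟩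
    · exact ⟨b, Or.inr hb, a, Or.inr ha, Nat.lcm_comm a b⟩
    · exact ⟨1, h1, Nat.lcm a b, Or.inr (Nat.lcm_dvd ha hb), (Nat.lcm_one_left _).symm⟩

theorem main {F : Type*} [Field F] [Fintype F] :
    ∃ (H : Type) (_ : Group H) (_ : Finite H), Group.IsSolvable H ∧
      Set.range (orderOf : H → ℕ) =
        Set.range (orderOf : ProjectiveSpecialLinearGroup (Fin 2) F × ProjectiveSpecialLinearGroup (Fin 2) F → ℕ) := by
  classical
  obtain ⟨p, hpc⟩ := CharP.exists F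
  have := hpc
  have hp : p.Prime := by
    rcases CharP.char_is_prime_or_zero F p with h | h
    · exact h
    · exfalso
      subst h
      have : CharZero F := CharP.charP_to_charZero F
      exact not_finite F
  have : Fact p.Prime := ⟨hp⟩
  obtain ⟨f, -, hq⟩ := FiniteField.card F p
  have hf0 : 2 * (f : ℕ) ≠ 0 := by
    have := f.pos
    omega
  have hK : Nat.card (GaloisField p (2 * f)) = Fintype.card F ^ 2 := by
    rw [GaloisField.card p _ hf0, hq, ← pow_mul, mul_comm]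
  have hKu : Nat.card (GaloisField p (2 * f))ˣ = (Fintype.card F - 1) * (Fintype.card F + 1) := by
    rw [Nat.card_units, hK]
    have h1 : 1 ≤ Fintype.card F := Fintype.card_pos
    obtain ⟨c, hc⟩ : ∃ c, Fintype.card F = c + 1 := ⟨Fintype.card F - 1, by omega⟩
    rw [hc, Nat.add_sub_cancel]
    have : (c + 1) ^ 2 = c * (c + 1 + 1) + 1 := by ring
    rw [this, Nat.add_sub_cancel]
  obtain ⟨S₁, hS₁⟩ := exists_subgroup_card (K := GaloisField p (2 * f))
    (r := (Fintype.card F - 1) / dd F)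
    (by rw [hKu]; exact Dvd.dvd.mul_right (Nat.div_dvd_of_dvd dd_dvd_sub) _)
  obtain ⟨S₂, hS₂⟩ := exists_subgroup_card (K := GaloisField p (2 * f))
    (r := (Fintype.card F + 1) / dd F)
    (by rw [hKu]; exact Dvd.dvd.mul_left (Nat.div_dvd_of_dvd dd_dvd_add) _)
  have := finite_aff (K := GaloisField p (2 * f)) (S := S₁)
  have := finite_aff (K := GaloisField p (2 * f)) (S := S₂)
  have := isSolvable_aff (K := GaloisField p (2 * f)) (S := S₁)
  have := isSolvable_aff (K := GaloisField p (2 * f)) (S := S₂)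
  refine ⟨Aff (GaloisField p (2 * f)) S₁ × Aff (GaloisField p (2 * f)) S₂, inferInstance, inferInstance,
    inferInstance, ?_⟩
  rw [range_orderOf_prod, range_orderOf_prod, SpecAff.range_orderOf p, SpecAff.range_orderOf p,
    SpecPSL.range_orderOf p, hS₁, hS₂]
  exact spectrum_eq p _ _ hp

end Cfsg.Agent.Helper5.SpecMain
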