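import Mathlib
import Cfsg.Agent.Helper5.SpecMain

set_option autoImplicit false

/-!
Groups critical for a spectrum: generic lemmas.  `CP p X` says that the elements of `p`-power order
of `X` commute pairwise.
-/

namespace Cfsg.Agent.Helper5.CritSpec

open Cfsg.Agent.Helper5.SpecAff Cfsg.Agent.Helper5.SpecMain

/-- the elements of `p`-power order commute pairwise -/
def CP (p : ℕ) (X : Type*) [Group X] : Prop :=
  ∀ x y : X, (∃ e, x ^ (p ^ e) = 1) → (∃ e, y ^ (p ^ e) = 1) → x * y = y * x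

theorem CP_of_mulEquiv {p : ℕ} {X Y : Type*} [Group X] [Group Y] (f : X ≃* Y) (h : CP p Y) : CP p X := by
  intro x y ⟨e, hx⟩ ⟨e', hy⟩
  apply f.injective
  rw [map_mul, map_mul]
  exact h (f x) (f y) ⟨e, by rw [← map_pow, hx, map_one]⟩ ⟨e', by rw [← map_pow, hy, map_one]⟩

/-- a Frobenius-type group with spectrum `{1, P, Q}` whose `P`-elements commute -/
theorem exists_factor (P Q : ℕ) (hP : P.Prime) (hQ : Q.Prime) (hPQ : P ≠ Q) :
    ∃ (X : Type) (_ : Group X) (_ : Fintype X),
      Set.range (orderOf : X → ℕ) = {1, P, Q} ∧ CP P X := by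
  classical
  haveI : Fact P.Prime := ⟨hP⟩
  haveI : Fact Q.Prime := ⟨hQ⟩
  have hQ1 : Q - 1 ≠ 0 := by have := hQ.two_le; omega
  have hdvd : Q ∣ Nat.card (GaloisField P (Q - 1))ˣ := by
    rw [Nat.card_units, GaloisField.card P _ hQ1]
    have h1 : ((P : ℕ) : ZMod Q) ≠ 0 := by
      intro h
      rw [ZMod.natCast_eq_zero_iff] at h
      exact hPQ ((Nat.prime_dvd_prime_iff_eq hQ hP).mp h).symm
    have h2 := ZMod.pow_card_sub_one_eq_one h1
    have hpos : 1 ≤ P ^ (Q - 1) := Nat.one_le_pow _ _ hP.pos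
    rw [← ZMod.natCast_eq_zero_iff, Nat.cast_sub hpos, Nat.cast_pow, h2, Nat.cast_one, sub_self]
  obtain ⟨S, hS⟩ := exists_subgroup_card (K := GaloisField P (Q - 1)) hdvd
  haveI := finite_aff (K := GaloisField P (Q - 1)) (S := S)
  refine ⟨Aff (GaloisField P (Q - 1)) S, inferInstance, Fintype.ofFinite _, ?_, ?_⟩
  · rw [SpecAff.range_orderOf P, hS]
    ext k
    simp only [Set.mem_union, Set.mem_insert_iff, Set.mem_singleton_iff, Set.mem_ofPred_eq]
    rw [Nat.dvd_prime hQ]
    tauto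
  · intro x y ⟨e, hx⟩ ⟨e', hy⟩
    have key : ∀ (z : Aff (GaloisField P (Q - 1)) S) (f : ℕ), z ^ (P ^ f) = 1 → z.s = 1 := by
      intro z f hz
      by_contra hs
      have h1 : orderOf z ∣ P ^ f := orderOf_dvd_of_pow_eq_one hz
      have h2 : orderOf z ∣ Q := by
        rw [orderOf_of_s_ne hs]
        exact (orderOf_dvd_natCard z.s).trans (dvd_of_eq hS)
      have hcop : Nat.Coprime (P ^ f) Q :=
        Nat.Coprime.pow_left _ ((Nat.coprime_primes hP hQ).mpr hPQ)
      have h3 : orderOf z = 1 := Nat.eq_one_of_dvd_coprimes hcop h1 h2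
      rw [orderOf_eq_one_iff] at h3
      rw [h3] at hs
      exact hs rfl
    apply Aff.ext
    · rw [mul_v, mul_v, key x e hx, key y e' hy]
      simp only [Subgroup.coe_one, Units.val_one, one_mul]
      exact add_comm _ _
    · rw [mul_s, mul_s, key x e hx, key y e' hy]

end Cfsg.Agent.Helper5.CritSpec
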