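import Mathlib
import Cfsg.Agent.Helper5.CritSpecA

set_option autoImplicit false

/-!
Groups critical for a spectrum: generic lemmas on `CP p X` (products, sections, commutators) and
the set of element orders of a product of groups with pairwise coprime spectra.
-/

namespace Cfsg.Agent.Helper5.CritSpec

theorem CP_pi {p : ℕ} {ι : Type*} (X : ι → Type*) [∀ j, Group (X j)] (h : ∀ j, CP p (X j)) :
    CP p (∀ j, X j) := by
  intro x y ⟨e, hx⟩ ⟨e', hy⟩
  funext j
  rw [Pi.mul_apply, Pi.mul_apply]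
  exact h j (x j) (y j) ⟨e, by rw [← Pi.pow_apply, hx, Pi.one_apply]⟩
    ⟨e', by rw [← Pi.pow_apply, hy, Pi.one_apply]⟩

theorem eq_one_of_pow_of_forall_orderOf_ne {p : ℕ} (hp : p.Prime) {X : Type*} [Group X]
    (h : ∀ x : X, orderOf x ≠ p) (x : X) (e : ℕ) (hx : x ^ (p ^ e) = 1) : x = 1 := by
  obtain ⟨k, hk, hk2⟩ := (Nat.dvd_prime_pow hp).mp (orderOf_dvd_of_pow_eq_one hx)
  rcases Nat.eq_zero_or_pos k with h0 | h0
  · rw [h0, pow_zero, orderOf_eq_one_iff] at hk2
    exact hk2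
  · exfalso
    apply h (x ^ (p ^ (k - 1)))
    have hpos : 0 < p ^ (k - 1) := pow_pos hp.pos _
    rw [orderOf_pow' x hpos.ne', hk2]
    have : p ^ k = p ^ (k - 1) * p := by
      rw [← pow_succ]
      congr 1
      omega
    rw [this, Nat.gcd_eq_right (dvd_mul_right _ _), Nat.mul_div_cancel_left _ hpos]

theorem CP_of_forall_orderOf_ne {p : ℕ} (hp : p.Prime) {X : Type*} [Group X]
    (h : ∀ x : X, orderOf x ≠ p) : CP p X := by
  intro x y ⟨e, hx⟩ ⟨e', hy⟩
  rw [eq_one_of_pow_of_forall_orderOf_ne hp h x e hx, eq_one_of_pow_of_forall_orderOf_ne hp h y e' hy]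

/-- lifting an element of `p`-power order of a quotient to an element of `p`-power order -/
theorem exists_lift_pow {p : ℕ} (hp : p.Prime) {H : Type*} [Group H] [Finite H] (N : Subgroup H)
    [N.Normal] (z : H ⧸ N) (e : ℕ) (hz : z ^ (p ^ e) = 1) :
    ∃ (x : H) (k : ℕ), (QuotientGroup.mk x : H ⧸ N) = z ∧ x ^ (p ^ k) = 1 := by
  obtain ⟨x, rfl⟩ := QuotientGroup.mk_surjective z
  have hn : orderOf x ≠ 0 := (orderOf_pos x).ne'
  set n := orderOf x with hn_def
  set k := n.factorization p with hk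
  set m := n / p ^ k with hm
  have hnm : p ^ k * m = n := Nat.ordProj_mul_ordCompl_eq_self n p
  have hcop : Nat.Coprime (p ^ e) m := Nat.Coprime.pow_left _ (Nat.coprime_ordCompl hp hn)
  obtain ⟨u, hu1, hu0⟩ := Nat.chineseRemainder hcop 1 0
  rw [Nat.modEq_zero_iff_dvd] at hu0
  refine ⟨x ^ u, k, ?_, ?_⟩
  · rw [QuotientGroup.mk_pow]
    have h1 : orderOf (QuotientGroup.mk x : H ⧸ N) ∣ p ^ e := orderOf_dvd_of_pow_eq_one hz
    have h2 : u ≡ 1 [MOD orderOf (QuotientGroup.mk x : H ⧸ N)] := hu1.of_dvd h1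
    rw [← pow_eq_pow_iff_modEq] at h2
    rw [h2, pow_one]
  · rw [← pow_mul]
    apply orderOf_dvd_iff_pow_eq_one.mp
    rw [← hn_def, ← hnm, mul_comm u]
    exact mul_dvd_mul_left _ hu0

theorem CP_quotient {p : ℕ} (hp : p.Prime) {X : Type*} [Group X] [Finite X] (h : CP p X)
    (H : Subgroup X) (N : Subgroup H) [N.Normal] : CP p (H ⧸ N) := by
  intro x y ⟨e, hx⟩ ⟨e', hy⟩
  obtain ⟨x', k, rfl, hx'⟩ := exists_lift_pow hp N x e hx
  obtain ⟨y', k', rfl, hy'⟩ := exists_lift_pow hp N y e' hy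
  have h1 : (x' : X) * (y' : X) = (y' : X) * (x' : X) := by
    apply h
    · exact ⟨k, by rw [← Subgroup.coe_pow, hx', Subgroup.coe_one]⟩
    · exact ⟨k', by rw [← Subgroup.coe_pow, hy', Subgroup.coe_one]⟩
  have h2 : x' * y' = y' * x' := Subtype.ext h1
  rw [← QuotientGroup.mk_mul, ← QuotientGroup.mk_mul, h2]

/-- if the `P`-elements commute and the `Q`-elements commute, then elements of orders `P` and `Q`
commute, so that there is an element of order `P * Q` -/
theorem exists_orderOf_mul_of_CP {P Q : ℕ} (hPQ : Nat.Coprime P Q) {Y : Type*} [Group Y]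
    (h1 : CP P Y) (h2 : CP Q Y) (x y : Y) (hx : orderOf x = P) (hy : orderOf y = Q) :
    ∃ z : Y, orderOf z = P * Q := by
  have hxP : x ^ P = 1 := by rw [← hx, pow_orderOf_eq_one]
  have hyQ : y ^ Q = 1 := by rw [← hy, pow_orderOf_eq_one]
  set c := x * y * x⁻¹ * y⁻¹ with hc
  have hcP : c ^ P = 1 := by
    have e1 : c = x * (y * x⁻¹ * y⁻¹) := by rw [hc]; group
    have hw : (y * x⁻¹ * y⁻¹) ^ P = 1 := by
      rw [conj_pow, inv_pow, hxP, inv_one, mul_one, mul_inv_cancel]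
    have hcomm : Commute x (y * x⁻¹ * y⁻¹) :=
      h1 x (y * x⁻¹ * y⁻¹) ⟨1, by rw [pow_one, hxP]⟩ ⟨1, by rw [pow_one, hw]⟩
    rw [e1, hcomm.mul_pow, hxP, hw, one_mul]
  have hcQ : c ^ Q = 1 := by
    have e1 : c = (x * y * x⁻¹) * y⁻¹ := by rw [hc]
    have hw : (x * y * x⁻¹) ^ Q = 1 := by
      rw [conj_pow, hyQ, mul_one, mul_inv_cancel]
    have hw' : (y⁻¹) ^ Q = 1 := by rw [inv_pow, hyQ, inv_one]
    have hcomm : Commute (x * y * x⁻¹) y⁻¹ :=
      h2 (x * y * x⁻¹) y⁻¹ ⟨1, by rw [pow_one, hw]⟩ ⟨1, by rw [pow_one, hw']⟩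
    rw [e1, hcomm.mul_pow, hw, hw', one_mul]
  have hc1 : c = 1 := by
    have hd1 : orderOf c ∣ P := orderOf_dvd_of_pow_eq_one hcP
    have hd2 : orderOf c ∣ Q := orderOf_dvd_of_pow_eq_one hcQ
    have := Nat.eq_one_of_dvd_coprimes hPQ hd1 hd2
    rwa [orderOf_eq_one_iff] at this
  have hcomm : Commute x y := by
    have : x * y * x⁻¹ * y⁻¹ = 1 := hc1
    have h3 : x * y = y * x := by
      have h4 : x * y * x⁻¹ * y⁻¹ * (y * x) = 1 * (y * x) := by rw [this]
      rw [one_mul] at h4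
      rw [← h4]
      group
    exact h3
  refine ⟨x * y, ?_⟩
  rw [hcomm.orderOf_mul_eq_mul_orderOf_of_coprime (by rw [hx, hy]; exact hPQ), hx, hy]

/-- a proper section has smaller order -/
theorem card_section_lt {Y : Type*} [Group Y] [Finite Y] (H : Subgroup Y) (N : Subgroup H)
    [N.Normal] (h : H ≠ ⊤ ∨ N ≠ ⊥) : Nat.card (H ⧸ N) < Nat.card Y := by
  have h1 : Nat.card H = Nat.card (H ⧸ N) * Nat.card N :=
    Subgroup.card_eq_card_quotient_mul_card_subgroup N
  have h2 : Nat.card H ≤ Nat.card Y := Subgroup.card_le_card_group H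
  have hN : 0 < Nat.card N := Nat.card_pos
  have hQ : 0 < Nat.card (H ⧸ N) := Nat.card_pos
  rcases h with h | h
  · have h3 : Nat.card H ≠ Nat.card Y := fun h' => h ((Subgroup.card_eq_iff_eq_top H).mp h')
    have h4 : Nat.card H < Nat.card Y := lt_of_le_of_ne h2 h3
    calc Nat.card (H ⧸ N) ≤ Nat.card (H ⧸ N) * Nat.card N := Nat.le_mul_of_pos_right _ hN
      _ = Nat.card H := h1.symm
      _ < Nat.card Y := h4
  · have h3 : 1 < Nat.card N := (Subgroup.one_lt_card_iff_ne_bot N).mpr h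
    calc Nat.card (H ⧸ N) < Nat.card (H ⧸ N) * Nat.card N := by
          exact (Nat.lt_mul_iff_one_lt_right hQ).mpr h3
      _ = Nat.card H := h1.symm
      _ ≤ Nat.card Y := h2

/-- the set of element orders of a product of groups with pairwise coprime element orders -/
theorem range_orderOf_pi {ι : Type*} [Fintype ι] (X : ι → Type*) [∀ j, Group (X j)]
    (A : ι → Set ℕ) (hA : ∀ j, Set.range (orderOf : X j → ℕ) = A j)
    (hcop : ∀ j j', j ≠ j' → ∀ m ∈ A j, ∀ m' ∈ A j', Nat.Coprime m m') :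
    Set.range (orderOf : (∀ j, X j) → ℕ) =
      {m | ∃ c : ι → ℕ, (∀ j, c j ∈ A j) ∧ m = ∏ j, c j} := by
  have key : ∀ x : (∀ j, X j), orderOf x = ∏ j, orderOf (x j) := by
    intro x
    rw [Pi.orderOf, Finset.lcm_eq_prod]
    intro j _ j' _ hjj'
    exact hcop j j' hjj' _ (by rw [← hA j]; exact ⟨x j, rfl⟩) _ (by rw [← hA j']; exact ⟨x j', rfl⟩)
  ext m
  constructor
  · rintro ⟨x, rfl⟩
    refine ⟨fun j => orderOf (x j), fun j => ?_, key x⟩
    rw [← hA j]
    exact ⟨x j, rfl⟩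
  · rintro ⟨c, hc, rfl⟩
    have : ∀ j, ∃ y : X j, orderOf y = c j := by
      intro j
      have := hc j
      rw [← hA j] at this
      exact this
    choose x hx using this
    refine ⟨x, ?_⟩
    rw [key x]
    exact Finset.prod_congr rfl (fun j _ => hx j)

end Cfsg.Agent.Helper5.CritSpec
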