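import Mathlib
import Cfsg.Agent.Helper5.CritSpecB

set_option autoImplicit false

/-!
`2 ^ s` pairwise non-isomorphic groups critical for the spectrum of all products
`c 0 * … * c (s - 1)` with `c j ∈ {1, p j 0, p j 1}`.
-/

namespace Cfsg.Agent.Helper5.CritSpec

/-- the set of products `∏ c j` with `c j ∈ {1, p j 0, p j 1}` -/
def Om (s : ℕ) (p : Fin s → Fin 2 → ℕ) : Set ℕ :=
  {m : ℕ | ∃ c : Fin s → ℕ, (∀ j, c j = 1 ∨ c j = p j 0 ∨ c j = p j 1) ∧ m = ∏ j, c j}

variable {s : ℕ} (p : Fin s → Fin 2 → ℕ)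

theorem prime_mem_Om (j : Fin s) (i : Fin 2) : p j i ∈ Om s p := by
  refine ⟨fun j' => if j' = j then p j i else 1, ?_, ?_⟩
  · intro j'
    by_cases h : j' = j
    · subst h
      have e1 : (fun j'' => if j'' = j' then p j' i else 1) j' = p j' i := if_pos rfl
      rw [e1]
      rcases Fin.exists_fin_two.mp ⟨i, rfl⟩ with h | h
      · right; left; rw [h]
      · right; right; rw [h]
    · left
      simp only [if_neg h]
  · rw [Finset.prod_ite_eq' Finset.univ j (fun _ => p j i), if_pos (Finset.mem_univ _)]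

theorem mul_not_mem_Om (hp : ∀ j i, (p j i).Prime)
    (hinj : ∀ j i j' i', p j i = p j' i' → j = j' ∧ i = i') (j : Fin s) (i i' : Fin 2)
    (hii' : i ≠ i') : p j i * p j i' ∉ Om s p := by
  rintro ⟨c, hc, h⟩
  have key : ∀ i'' : Fin 2, p j i'' ∣ ∏ j, c j → c j = p j i'' := by
    intro i'' hd
    rw [(hp j i'').prime.dvd_finsetProd_iff] at hd
    obtain ⟨j', -, hj'⟩ := hd
    have h3 : ∀ i3, c j' = p j' i3 → c j = p j i'' := by
      intro i3 h3
      rw [h3] at hj'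
      have h4 := (Nat.prime_dvd_prime_iff_eq (hp j i'') (hp j' i3)).mp hj'
      obtain ⟨h5, h6⟩ := hinj _ _ _ _ h4
      subst h5
      subst h6
      exact h3
    rcases hc j' with h1 | h1 | h1
    · rw [h1] at hj'
      exact absurd (Nat.dvd_one.mp hj') (hp j i'').one_lt.ne'
    · exact h3 0 h1
    · exact h3 1 h1
  have e1 := key i (h ▸ dvd_mul_right _ _)
  have e2 := key i' (h ▸ dvd_mul_left _ _)
  exact hii' (hinj _ _ _ _ (e1.symm.trans e2)).2

theorem mem_triple_iff (q : Fin 2 → ℕ) (i : Fin 2) (c : ℕ) :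
    c ∈ ({1, q i, q (i + 1)} : Set ℕ) ↔ (c = 1 ∨ c = q 0 ∨ c = q 1) := by
  simp only [Set.mem_insert_iff, Set.mem_singleton_iff]
  rcases Fin.exists_fin_two.mp ⟨i, rfl⟩ with h | h
  · rw [h]
    have : (0 : Fin 2) + 1 = 1 := by decide
    rw [this]
  · rw [h]
    have : (1 : Fin 2) + 1 = 0 := by decide
    rw [this]
    tauto

theorem coprime_of_mem (hp : ∀ j i, (p j i).Prime)
    (hinj : ∀ j i j' i', p j i = p j' i' → j = j' ∧ i = i') {j j' : Fin s} (hjj' : j ≠ j')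
    {m m' : ℕ} (hm : m = 1 ∨ m = p j 0 ∨ m = p j 1) (hm' : m' = 1 ∨ m' = p j' 0 ∨ m' = p j' 1) :
    Nat.Coprime m m' := by
  have key : ∀ i i', Nat.Coprime (p j i) (p j' i') := fun i i' =>
    (Nat.coprime_primes (hp _ _) (hp _ _)).mpr (fun h => hjj' (hinj _ _ _ _ h).1)
  rcases hm with rfl | rfl | rfl <;> rcases hm' with rfl | rfl | rfl <;>
    first | exact Nat.coprime_one_left _ | exact Nat.coprime_one_right _ | exact key _ _

theorem exists_in_class (hp : ∀ j i, (p j i).Prime)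
    (hinj : ∀ j i j' i', p j i = p j' i' → j = j' ∧ i = i') (a : Fin s → Fin 2) :
    ∃ (Y : Type) (_ : Group Y) (_ : Finite Y),
      Set.range (orderOf : Y → ℕ) = Om s p ∧ ∀ j, CP (p j (a j)) Y := by
  have hne : ∀ i : Fin 2, i ≠ i + 1 := by decide
  have hex : ∀ j, ∃ (X : Type) (_ : Group X) (_ : Fintype X),
      Set.range (orderOf : X → ℕ) = {1, p j (a j), p j (a j + 1)} ∧ CP (p j (a j)) X := fun j =>
    exists_factor (p j (a j)) (p j (a j + 1)) (hp _ _) (hp _ _)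
      (fun h => hne (a j) (hinj _ _ _ _ h).2)
  choose X iG iF hspec hCP using hex
  refine ⟨∀ j, X j, inferInstance, inferInstance, ?_, ?_⟩
  · rw [range_orderOf_pi X (fun j => {1, p j (a j), p j (a j + 1)}) hspec]
    · ext m
      constructor
      · rintro ⟨c, hc, rfl⟩
        exact ⟨c, fun j => (mem_triple_iff (p j) (a j) (c j)).mp (hc j), rfl⟩
      · rintro ⟨c, hc, rfl⟩
        exact ⟨c, fun j => (mem_triple_iff (p j) (a j) (c j)).mpr (hc j), rfl⟩
    · intro j j' hjj' m hm m' hm'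
      exact coprime_of_mem p hp hinj hjj' ((mem_triple_iff (p j) (a j) m).mp hm)
        ((mem_triple_iff (p j') (a j') m').mp hm')
  · intro j₀
    apply CP_pi
    intro j
    by_cases hj : j = j₀
    · subst hj
      exact hCP j
    · apply CP_of_forall_orderOf_ne (hp _ _)
      intro x hx
      have h1 : orderOf x ∈ Set.range (orderOf : X j → ℕ) := ⟨x, rfl⟩
      rw [hspec j, mem_triple_iff (p j) (a j), hx] at h1
      rcases h1 with h1 | h1 | h1
      · exact (hp j₀ (a j₀)).one_lt.ne' h1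
      · exact hj (hinj _ _ _ _ h1).1.symm
      · exact hj (hinj _ _ _ _ h1).1.symm

theorem main (s : ℕ) (p : Fin s → Fin 2 → ℕ)
    (hp : ∀ j i, (p j i).Prime) (hinj : ∀ j i j' i', p j i = p j' i' → j = j' ∧ i = i') :
    ∃ (G : Fin (2 ^ s) → Type) (_ : ∀ a, Group (G a)) (_ : ∀ a, Fintype (G a)),
      (∀ a b, a ≠ b → ¬ Nonempty (G a ≃* G b)) ∧
      ∀ a, Set.range (orderOf : (G a) → ℕ) = Om s p ∧
      ∀ (H : Subgroup (G a)) (N : Subgroup ↥H) [N.Normal], (H ≠ ⊤ ∨ N ≠ ⊥) →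
        Set.range (orderOf : (↥H ⧸ N) → ℕ) ≠ Om s p := by
  classical
  have hmin : ∀ a : Fin s → Fin 2, ∃ (Y : Type) (_ : Group Y) (_ : Finite Y),
      Set.range (orderOf : Y → ℕ) = Om s p ∧ (∀ j, CP (p j (a j)) Y) ∧
      ∀ (Z : Type) (_ : Group Z) (_ : Finite Z), Set.range (orderOf : Z → ℕ) = Om s p →
        (∀ j, CP (p j (a j)) Z) → Nat.card Y ≤ Nat.card Z := by
    intro a
    have hex : ∃ n, ∃ (Y : Type) (_ : Group Y) (_ : Finite Y), Nat.card Y = n ∧
        Set.range (orderOf : Y → ℕ) = Om s p ∧ (∀ j, CP (p j (a j)) Y) := by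
      obtain ⟨Y, iG, iF, h1, h2⟩ := exists_in_class p hp hinj a
      exact ⟨Nat.card Y, Y, iG, iF, rfl, h1, h2⟩
    obtain ⟨Y, iG, iF, hcard, h1, h2⟩ := Nat.find_spec hex
    refine ⟨Y, iG, iF, h1, h2, ?_⟩
    intro Z iGZ iFZ hZ1 hZ2
    rw [hcard]
    exact Nat.find_min' hex ⟨Z, iGZ, iFZ, rfl, hZ1, hZ2⟩
  choose Y iG iF hY1 hY2 hY3 using hmin
  let e : (Fin s → Fin 2) ≃ Fin (2 ^ s) := finFunctionFinEquiv
  refine ⟨fun k => Y (e.symm k), fun k => iG (e.symm k),
    fun k => @Fintype.ofFinite _ (iF (e.symm k)), ?_, ?_⟩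
  · intro k k' hkk' ⟨f⟩
    have hne : e.symm k ≠ e.symm k' := fun h => hkk' (e.symm.injective h)
    obtain ⟨j, hj⟩ := Function.ne_iff.mp hne
    have hc1 : CP (p j (e.symm k j)) (Y (e.symm k)) := hY2 _ j
    have hc2 : CP (p j (e.symm k' j)) (Y (e.symm k)) := CP_of_mulEquiv f (hY2 _ j)
    have hx : p j (e.symm k j) ∈ Set.range (orderOf : Y (e.symm k) → ℕ) := by
      rw [hY1]; exact prime_mem_Om p j _
    have hy : p j (e.symm k' j) ∈ Set.range (orderOf : Y (e.symm k) → ℕ) := by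
      rw [hY1]; exact prime_mem_Om p j _
    obtain ⟨x, hx⟩ := hx
    obtain ⟨y, hy⟩ := hy
    have hcop : Nat.Coprime (p j (e.symm k j)) (p j (e.symm k' j)) :=
      (Nat.coprime_primes (hp _ _) (hp _ _)).mpr (fun h => hj (hinj _ _ _ _ h).2)
    obtain ⟨z, hz⟩ := exists_orderOf_mul_of_CP hcop hc1 hc2 x y hx hy
    have hz' : p j (e.symm k j) * p j (e.symm k' j) ∈ Om s p := by
      rw [← hY1 (e.symm k), ← hz]
      exact ⟨z, rfl⟩
    exact mul_not_mem_Om p hp hinj j _ _ hj hz'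
  · intro k
    refine ⟨hY1 _, ?_⟩
    intro H N _ hHN hspec
    have h1 := hY3 (e.symm k) (H ⧸ N) inferInstance inferInstance hspec
      (fun j => CP_quotient (hp _ _) (hY2 _ j) H N)
    exact absurd (card_section_lt H N hHN) (not_lt.mpr h1)

end Cfsg.Agent.Helper5.CritSpec
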