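import Mathlib

/-!
# Subgroups with cyclic quotient

If `x` normalises the subgroup `H` of `G` and every element of a generating set of `G` lies in a
coset `H x ^ i`, then `H` is normal in `G` with cyclic quotient; in particular `H` contains the
commutator subgroup of `G`.
-/

set_option autoImplicit false

namespace Cfsg.Agent.Helper5.CycQuot

variable {G : Type*} [Group G]

theorem conj_pow_mem {H : Subgroup G} {x : G} (hx : ∀ h ∈ H, x * h * x⁻¹ ∈ H) :
    ∀ (k : ℕ), ∀ h ∈ H, x ^ k * h * (x ^ k)⁻¹ ∈ H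
  | 0, h, hh => by simpa using hh
  | k + 1, h, hh => by
    have h1 := hx _ (conj_pow_mem hx k h hh)
    have h2 : x ^ (k + 1) * h * (x ^ (k + 1))⁻¹ = x * (x ^ k * h * (x ^ k)⁻¹) * x⁻¹ := by
      rw [pow_succ', mul_inv_rev]
      simp only [mul_assoc]
    rw [h2]
    exact h1

/-- if conjugation by an element of finite order maps `H` into itself then so does conjugation by
its inverse. -/
theorem conj_inv_mem {H : Subgroup G} {x : G} (hx : ∀ h ∈ H, x * h * x⁻¹ ∈ H) {n : ℕ}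
    (hn : 0 < n) (hxn : x ^ n = 1) : ∀ h ∈ H, x⁻¹ * h * x ∈ H := by
  intro h hh
  obtain ⟨m, rfl⟩ : ∃ m, n = m + 1 := ⟨n - 1, by omega⟩
  have h1 : x ^ m = x⁻¹ := by
    rw [pow_succ] at hxn
    exact eq_inv_of_mul_eq_one_left hxn
  have h2 := conj_pow_mem hx m h hh
  rwa [h1, inv_inv] at h2

theorem conj_zpow_mem {H : Subgroup G} {x : G} (hx : ∀ h ∈ H, x * h * x⁻¹ ∈ H)
    (hx' : ∀ h ∈ H, x⁻¹ * h * x ∈ H) (i : ℤ) : ∀ h ∈ H, x ^ i * h * (x ^ i)⁻¹ ∈ H := by
  intro h hh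
  rcases Int.eq_nat_or_neg i with ⟨k, rfl | rfl⟩
  · rw [zpow_natCast]
    exact conj_pow_mem hx k h hh
  · rw [zpow_neg, zpow_natCast, ← inv_pow]
    have hx2 : ∀ h ∈ H, x⁻¹ * h * (x⁻¹)⁻¹ ∈ H := by
      intro h hh
      rw [inv_inv]
      exact hx' h hh
    exact conj_pow_mem hx2 k h hh

/-- every element of the group generated by `S` lies in a coset `H x ^ i`. -/
theorem exists_zpow_mul_mem (H : Subgroup G) (x : G) (hx : ∀ h ∈ H, x * h * x⁻¹ ∈ H)
    (hx' : ∀ h ∈ H, x⁻¹ * h * x ∈ H) (S : Set G) (hS : ∀ s ∈ S, ∃ i : ℤ, s * x ^ i ∈ H) :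
    ∀ g ∈ Subgroup.closure S, ∃ i : ℤ, g * x ^ i ∈ H := by
  intro g hg
  induction hg using Subgroup.closure_induction with
  | mem s hs => exact hS s hs
  | one => exact ⟨0, by simp [one_mem]⟩
  | mul a b _ _ ha hb =>
    obtain ⟨i, hi⟩ := ha
    obtain ⟨j, hj⟩ := hb
    refine ⟨j + i, ?_⟩
    have h1 := conj_zpow_mem hx hx' (-i) _ hj
    have h2 : a * b * x ^ (j + i) = (a * x ^ i) * (x ^ (-i) * (b * x ^ j) * (x ^ (-i))⁻¹) := by
      rw [zpow_neg, inv_inv, zpow_add]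
      simp only [mul_assoc]
      rw [mul_inv_cancel_left]
    rw [h2]
    exact mul_mem hi h1
  | inv a _ ha =>
    obtain ⟨i, hi⟩ := ha
    refine ⟨-i, ?_⟩
    have h1 := conj_zpow_mem hx hx' i _ (inv_mem hi)
    have h2 : a⁻¹ * x ^ (-i) = x ^ i * (a * x ^ i)⁻¹ * (x ^ i)⁻¹ := by
      rw [mul_inv_rev, zpow_neg]
      simp only [mul_assoc]
      rw [mul_inv_cancel_left]
    rw [h2]
    exact h1

/-- a subgroup normalised by `x` whose cosets `H x ^ i` cover the group is normal. -/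
theorem normal_of_cover (H : Subgroup G) (x : G) (hx : ∀ h ∈ H, x * h * x⁻¹ ∈ H)
    (hx' : ∀ h ∈ H, x⁻¹ * h * x ∈ H) (hall : ∀ g : G, ∃ i : ℤ, g * x ^ i ∈ H) : H.Normal := by
  constructor
  intro h hh g
  obtain ⟨i, hi⟩ := hall g
  have h1 := conj_zpow_mem hx hx' (-i) h hh
  have h2 : g * h * g⁻¹ = (g * x ^ i) * (x ^ (-i) * h * (x ^ (-i))⁻¹) * (g * x ^ i)⁻¹ := by
    rw [zpow_neg, inv_inv, mul_inv_rev]
    simp only [mul_assoc]
    rw [mul_inv_cancel_left, mul_inv_cancel_left]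
  rw [h2]
  exact mul_mem (mul_mem hi h1) (inv_mem hi)

/-- a subgroup normalised by `x` whose cosets `H x ^ i` cover the group contains the commutator
subgroup. -/
theorem commutator_le_of_cover (H : Subgroup G) (x : G) (hx : ∀ h ∈ H, x * h * x⁻¹ ∈ H)
    (hx' : ∀ h ∈ H, x⁻¹ * h * x ∈ H) (hall : ∀ g : G, ∃ i : ℤ, g * x ^ i ∈ H) :
    commutator G ≤ H := by
  have hN : H.Normal := normal_of_cover H x hx hx' hall
  have hmk : ∀ g : G, ∃ i : ℤ, (QuotientGroup.mk g : G ⧸ H) = (QuotientGroup.mk x : G ⧸ H) ^ i := by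
    intro g
    obtain ⟨i, hi⟩ := hall g
    refine ⟨-i, ?_⟩
    have h1 : (QuotientGroup.mk (g * x ^ i) : G ⧸ H) = 1 := (QuotientGroup.eq_one_iff _).mpr hi
    rw [QuotientGroup.mk_mul, QuotientGroup.mk_zpow] at h1
    rw [zpow_neg]
    exact eq_inv_of_mul_eq_one_left h1
  have hcomm : ∀ p q : G ⧸ H, p * q = q * p := by
    intro p q
    induction p using QuotientGroup.induction_on with
    | H g1 =>
      induction q using QuotientGroup.induction_on with
      | H g2 =>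
        obtain ⟨i, hi⟩ := hmk g1
        obtain ⟨j, hj⟩ := hmk g2
        rw [hi, hj, ← zpow_add, ← zpow_add, add_comm]
  let _ : CommGroup (G ⧸ H) := { (inferInstance : Group (G ⧸ H)) with mul_comm := hcomm }
  have h := Abelianization.commutator_subset_ker (QuotientGroup.mk' H)
  rwa [QuotientGroup.ker_mk'] at h

end Cfsg.Agent.Helper5.CycQuot
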