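import Mathlib
import Cfsg.Prelude.Def_DStar
import Cfsg.Prelude.Def_PLocal
import Cfsg.Agent.Helper5.Basic
import Cfsg.Agent.Helper5.Misc
import Cfsg.Agent.Helper5.MaxAbelian
import Cfsg.Agent.Helper5.SCN
import Cfsg.Agent.Helper5.Replace
import Cfsg.Agent.Helper2.Component

/-!
Helper lemmas (helper5): the subgroup `D*(S)` of a finite `p`-group.
-/

set_option autoImplicit false

namespace Cfsg.Agent.Helper5

variable {S : Type*} [Group S]

open scoped commutatorElement

/-- A subgroup generated by a set `k` whose pairwise commutators lie in a subgroup `N` centralized by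
`k` has derived subgroup inside `N`. -/
theorem commutator_closure_le_of_central (k : Set S) (N : Subgroup S)
    (hN : ∀ n ∈ N, ∀ s ∈ k, s * n = n * s)
    (hk : ∀ s ∈ k, ∀ t ∈ k, ⁅s, t⁆ ∈ N) :
    ⁅Subgroup.closure k, Subgroup.closure k⁆ ≤ N ∧
    ⁅⁅Subgroup.closure k, Subgroup.closure k⁆, Subgroup.closure k⁆ = ⊥ := by
  have hNc : ∀ n ∈ N, ∀ h ∈ Subgroup.closure k, h * n = n * h := by
    intro n hn h hh
    induction hh using Subgroup.closure_induction with
    | mem s hs => exact hN n hn s hs
    | one => simp
    | mul x y _ _ hx hy => rw [mul_assoc, hy, ← mul_assoc, hx, mul_assoc]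
    | inv x _ hx =>
      have : x⁻¹ * n = x⁻¹ * (n * x) * x⁻¹ := by group
      rw [this, ← hx]; group
  have hconj : ∀ n ∈ N, ∀ h ∈ Subgroup.closure k, h * n * h⁻¹ = n := by
    intro n hn h hh
    rw [hNc n hn h hh, mul_inv_cancel_right]
  have hconj' : ∀ n ∈ N, ∀ h ∈ Subgroup.closure k, h⁻¹ * n * h = n := by
    intro n hn h hh
    have := hconj n hn h⁻¹ (Subgroup.inv_mem _ hh)
    rwa [inv_inv] at this
  have key : ∀ x ∈ Subgroup.closure k, ∀ y ∈ Subgroup.closure k, ⁅x, y⁆ ∈ N := by
    intro x hx y hy
    induction hx, hy using Subgroup.closure_induction₂ with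
    | mem x y hx hy => exact hk x hx y hy
    | one_left x hx => simp
    | one_right x hx => simp
    | mul_left x y z hx hy hz h1 h2 =>
      have e : ⁅x * y, z⁆ = x * ⁅y, z⁆ * x⁻¹ * ⁅x, z⁆ := by
        simp only [commutatorElement_def]; group
      rw [e, hconj _ h2 x hx]
      exact N.mul_mem h2 h1
    | mul_right y z x hy hz hx h1 h2 =>
      have e : ⁅x, y * z⁆ = ⁅x, y⁆ * (y * ⁅x, z⁆ * y⁻¹) := by
        simp only [commutatorElement_def]; group
      rw [e, hconj _ h2 y hy]
      exact N.mul_mem h1 h2
    | inv_left x y hx hy h =>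
      have e : ⁅x⁻¹, y⁆ = x⁻¹ * ⁅x, y⁆⁻¹ * x := by
        simp only [commutatorElement_def]; group
      rw [e, hconj' _ (N.inv_mem h) x hx]
      exact N.inv_mem h
    | inv_right x y hx hy h =>
      have e : ⁅x, y⁻¹⁆ = y⁻¹ * ⁅x, y⁆⁻¹ * y := by
        simp only [commutatorElement_def]; group
      rw [e, hconj' _ (N.inv_mem h) y hy]
      exact N.inv_mem h
  have h1 : ⁅Subgroup.closure k, Subgroup.closure k⁆ ≤ N := by
    rw [Subgroup.commutator_le]
    exact key
  refine ⟨h1, ?_⟩
  rw [Subgroup.commutator_eq_bot_iff_le_centralizer]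
  intro c hc
  rw [Subgroup.mem_centralizer_iff]
  intro h hh
  exact hNc c (h1 hc) h hh

/-- A member of `dStarFamily S` centralizes every abelian subgroup that it normalizes
(`S` a nilpotent finite group). -/
theorem dStarFamily_centralizes [Finite S] [Group.IsNilpotent S] {A : Subgroup S}
    (hA : A ∈ Cfsg.dStarFamily S) :
    ∀ B : Subgroup S, IsMulCommutative ↥B → A ≤ Subgroup.normalizer (B : Set S) →
      ∀ a ∈ A, ∀ b ∈ B, a * b = b * a := by
  classical
  have main : ∀ n : ℕ, ∀ B : Subgroup S, Nat.card ↥B = n → IsMulCommutative ↥B →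
      A ≤ Subgroup.normalizer (B : Set S) → ∀ a ∈ A, ∀ b ∈ B, a * b = b * a := by
    intro n
    induction n using Nat.strong_induction_on with
    | _ n ih =>
      intro B hBn hBc hAB
      have hB'B : ⁅B, A⁆ ≤ B := by
        rw [Subgroup.commutator_comm]
        exact Cfsg.Agent.Helper2.commutator_le_of_le_normalizer hAB
      by_cases heq : ⁅B, A⁆ = B
      · -- then B = ⊥
        have hlcs : ∀ m : ℕ, B ≤ Subgroup.lowerCentralSeries (⊤ : Subgroup S) m := by
          intro m
          induction m with
          | zero => simp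
          | succ m ihm =>
            rw [Subgroup.lowerCentralSeries_succ]
            calc B = ⁅B, A⁆ := heq.symm
              _ ≤ ⁅Subgroup.lowerCentralSeries (⊤ : Subgroup S) m, ⊤⁆ := Subgroup.commutator_mono ihm le_top
        obtain ⟨m, hm⟩ := Subgroup.nilpotent_iff_lowerCentralSeries.mp (inferInstance : Group.IsNilpotent S)
        have hBbot : B ≤ ⊥ := hm ▸ hlcs m
        intro a _ b hb
        have : b = 1 := by simpa using hBbot hb
        rw [this]; simp
      · have hlt : ⁅B, A⁆ < B := lt_of_le_of_ne hB'B heq
        have hcardlt : Nat.card ↥⁅B, A⁆ < n := by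
          rw [← hBn]
          exact Set.Finite.card_lt_card (Set.toFinite _) (SetLike.coe_ssubset_coe.mpr hlt)
        have hB'c : IsMulCommutative ↥⁅B, A⁆ := isMulCommutative_of_le hB'B
        have hB'n : A ≤ Subgroup.normalizer ((⁅B, A⁆ : Subgroup S) : Set S) := by
          intro a ha
          rw [mem_normalizer_iff_map_conj, Subgroup.map_commutator]
          have e1 : B.map (MulAut.conj a).toMonoidHom = B :=
            (mem_normalizer_iff_map_conj B a).mp (hAB ha)
          have e2 : A.map (MulAut.conj a).toMonoidHom = A :=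
            (mem_normalizer_iff_map_conj A a).mp (Subgroup.le_normalizer ha)
          rw [e1, e2]
        have hcent := ih _ hcardlt ⁅B, A⁆ rfl hB'c hB'n
        intro a ha b hb
        have hAc : IsMulCommutative ↥A := hA.1
        -- the group generated by A and b has class at most two
        have hcl := commutator_closure_le_of_central ((A : Set S) ∪ {b}) ⁅B, A⁆
          (by
            intro n hn s hs
            rcases hs with hs | hs
            · exact hcent s hs n hn
            · rw [Set.mem_singleton_iff] at hs
              rw [hs]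
              exact setLike_mul_comm hb (hB'B hn))
          (by
            intro s hs t ht
            rcases hs with hs | hs <;> rcases ht with ht | ht
            · have : ⁅s, t⁆ = 1 := by
                rw [commutatorElement_eq_one_iff_mul_comm]
                exact setLike_mul_comm hs ht
              rw [this]; exact Subgroup.one_mem _
            · rw [Set.mem_singleton_iff] at ht
              rw [ht]
              have h1 : ⁅b, s⁆ ∈ ⁅B, A⁆ := Subgroup.commutator_mem_commutator hb hs
              have h2 : ⁅s, b⁆ = ⁅b, s⁆⁻¹ := (commutatorElement_inv b s).symm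
              rw [h2]; exact Subgroup.inv_mem _ h1
            · rw [Set.mem_singleton_iff] at hs
              rw [hs]
              exact Subgroup.commutator_mem_commutator hb ht
            · rw [Set.mem_singleton_iff] at hs ht
              rw [hs, ht, commutatorElement_self]; exact Subgroup.one_mem _)
        have hclos : Subgroup.closure ((A : Set S) ∪ {b}) = A ⊔ Subgroup.zpowers b := by
          rw [Subgroup.closure_union, Subgroup.closure_eq, Subgroup.zpowers_eq_closure]
        rw [hclos] at hcl
        exact hA.2 b hcl.2 a ha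
  intro B hBc hAB
  exact main _ B rfl hBc hAB

/-- Every member of `dStarFamily S` lies in every self-centralizing normal abelian subgroup. -/
theorem dStarFamily_le_of_self_centralizing [Finite S] [Group.IsNilpotent S] {A : Subgroup S}
    (hA : A ∈ Cfsg.dStarFamily S) (M : Subgroup S) [M.Normal] (hMc : IsMulCommutative ↥M)
    (hM : Subgroup.centralizer (M : Set S) ≤ M) : A ≤ M := by
  intro a ha
  apply hM
  rw [Subgroup.mem_centralizer_iff]
  intro m hm
  have hn : A ≤ Subgroup.normalizer (M : Set S) := by
    rw [Subgroup.normalizer_eq_top]; exact le_top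
  exact (dStarFamily_centralizes hA M hMc hn a ha m hm).symm

theorem dStar_le_of_self_centralizing [Finite S] [Group.IsNilpotent S]
    (M : Subgroup S) [M.Normal] (hMc : IsMulCommutative ↥M)
    (hM : Subgroup.centralizer (M : Set S) ≤ M) : Cfsg.dStar S ≤ M := by
  unfold Cfsg.dStar
  apply sSup_le
  intro A hA
  exact dStarFamily_le_of_self_centralizing hA M hMc hM

/-- The family is closed under joins (given that the join is abelian). -/
theorem dStar_mem_family_of_commutative (h : IsMulCommutative ↥(Cfsg.dStar S)) :
    Cfsg.dStar S ∈ Cfsg.dStarFamily S := by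
  refine ⟨h, ?_⟩
  intro x hx
  have hle : Cfsg.dStar S ≤ Subgroup.centralizer ({x} : Set S) := by
    unfold Cfsg.dStar
    apply sSup_le
    intro A hA a ha
    rw [Subgroup.mem_centralizer_iff]
    intro y hy
    rw [Set.mem_singleton_iff] at hy
    rw [hy]
    have hAD : A ≤ Cfsg.dStar S := le_sSup hA
    have hmono : A ⊔ Subgroup.zpowers x ≤ Cfsg.dStar S ⊔ Subgroup.zpowers x := sup_le_sup_right hAD _
    have h2 : ⁅⁅A ⊔ Subgroup.zpowers x, A ⊔ Subgroup.zpowers x⁆, A ⊔ Subgroup.zpowers x⁆ = ⊥ := by
      rw [eq_bot_iff, ← hx]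
      exact Subgroup.commutator_mono (Subgroup.commutator_mono hmono hmono) hmono
    exact (hA.2 x h2 a ha).symm
  intro a ha
  have := hle ha
  rw [Subgroup.mem_centralizer_iff] at this
  exact (this x rfl).symm

end Cfsg.Agent.Helper5
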