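import Mathlib
import Cfsg.Prelude.Def_DStar
import Cfsg.Prelude.Def_PLocal
import Cfsg.Agent.Helper5.Basic
import Cfsg.Agent.Helper5.Misc
import Cfsg.Agent.Helper5.MaxAbelian
import Cfsg.Agent.Helper5.SCN
import Cfsg.Agent.Helper5.DStar

/-!
Helper lemmas (helper5): `D*(P)` for a `p`-subgroup `P` of a group `G`, viewed inside `G`.
-/

set_option autoImplicit false

namespace Cfsg.Agent.Helper5

open scoped commutatorElement

variable {S : Type*} [Group S]

/-- The triple commutator of `A ⊔ ⟨x⟩`, abbreviated. -/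
def cl2 (A : Subgroup S) (x : S) : Prop :=
  ⁅⁅A ⊔ Subgroup.zpowers x, A ⊔ Subgroup.zpowers x⁆, A ⊔ Subgroup.zpowers x⁆ = ⊥

theorem cl2_map_iff {S' : Type*} [Group S'] (f : S →* S') (hf : Function.Injective f) (A : Subgroup S) (x : S) :
    cl2 (A.map f) (f x) ↔ cl2 A x := by
  unfold cl2
  have e : A.map f ⊔ Subgroup.zpowers (f x) = (A ⊔ Subgroup.zpowers x).map f := by
    rw [Subgroup.map_sup, MonoidHom.map_zpowers]
  rw [e, ← Subgroup.map_commutator, ← Subgroup.map_commutator]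
  exact Subgroup.map_eq_bot_iff_of_injective _ hf

theorem cl2_mono {A B : Subgroup S} (h : A ≤ B) {x : S} (hB : cl2 B x) : cl2 A x := by
  unfold cl2 at *
  have hmono : A ⊔ Subgroup.zpowers x ≤ B ⊔ Subgroup.zpowers x := sup_le_sup_right h _
  rw [eq_bot_iff, ← hB]
  exact Subgroup.commutator_mono (Subgroup.commutator_mono hmono hmono) hmono

/-- The family behind `D*` is invariant under isomorphisms. -/
theorem dStarFamily_map_equiv {S' : Type*} [Group S'] (φ : S ≃* S') {A : Subgroup S}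
    (hA : A ∈ Cfsg.dStarFamily S) : A.map φ.toMonoidHom ∈ Cfsg.dStarFamily S' := by
  obtain ⟨hAc, hAx⟩ := hA
  refine ⟨inferInstance, ?_⟩
  intro x' hx' a' ha'
  obtain ⟨a, ha, rfl⟩ := ha'
  have hx : x' = φ.toMonoidHom (φ.symm x') := by simp
  have h1 : cl2 (A.map φ.toMonoidHom) (φ.toMonoidHom (φ.symm x')) := by
    rw [← hx]; exact hx'
  rw [cl2_map_iff φ.toMonoidHom φ.injective] at h1
  have h2 := hAx (φ.symm x') h1 a ha
  rw [hx, ← map_mul, ← map_mul, h2]

theorem dStar_normal : (Cfsg.dStar S).Normal := by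
  constructor
  intro n hn g
  have hle : (Cfsg.dStar S).map (MulAut.conj g).toMonoidHom ≤ Cfsg.dStar S := by
    rw [Subgroup.map_le_iff_le_comap]
    unfold Cfsg.dStar
    apply sSup_le
    intro A hA
    rw [← Subgroup.map_le_iff_le_comap]
    exact le_sSup (dStarFamily_map_equiv (MulAut.conj g) hA)
  exact hle (conj_mem_map_conj _ g n hn)

section InG

variable {G : Type*} [Group G]

/-- `D*(P)` inside `G` lies in `P`. -/
theorem dStarOf_le (P : Subgroup G) : Cfsg.dStarOf P ≤ P := by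
  unfold Cfsg.dStarOf
  exact Subgroup.map_subtype_le _

theorem dStarOf_normalized (P : Subgroup G) : P ≤ Subgroup.normalizer (Cfsg.dStarOf P : Set G) := by
  intro s hs
  rw [Subgroup.mem_normalizer_iff]
  have hn : (Cfsg.dStar ↥P).Normal := dStar_normal
  intro d
  unfold Cfsg.dStarOf
  constructor
  · rintro ⟨d', hd', rfl⟩
    exact ⟨⟨s, hs⟩ * d' * ⟨s, hs⟩⁻¹, hn.conj_mem d' hd' ⟨s, hs⟩, rfl⟩
  · rintro ⟨e', he', he⟩
    have h1 := hn.conj_mem e' he' ⟨s, hs⟩⁻¹
    refine ⟨⟨s, hs⟩⁻¹ * e' * ⟨s, hs⟩⁻¹⁻¹, h1, ?_⟩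
    simp only [Subgroup.subtype_apply, Subgroup.coe_mul, Subgroup.coe_inv, inv_inv] at he ⊢
    rw [he]; group

variable [Finite G] {p : ℕ} [Fact p.Prime]

theorem dStar_mem_family_of_isPGroup {P : Subgroup G} (hP : IsPGroup p P) :
    Cfsg.dStar ↥P ∈ Cfsg.dStarFamily ↥P := by
  haveI : Group.IsNilpotent ↥P := hP.isNilpotent
  have hbc : IsMulCommutative ↥(⊥ : Subgroup ↥P) := inferInstance
  obtain ⟨C, hCn, hCc, -, -, hCC⟩ := exists_scn_ge hP (⊤ : Subgroup ↥P) ⊥ bot_le hbc
  have hM : Subgroup.centralizer (C : Set ↥P) ≤ C := by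
    rw [top_inf_eq] at hCC
    exact le_of_eq hCC
  have hle := dStar_le_of_self_centralizing C hCc hM
  exact dStar_mem_family_of_commutative (isMulCommutative_of_le hle)

theorem dStarOf_commutative {P : Subgroup G} (hP : IsPGroup p P) :
    IsMulCommutative ↥(Cfsg.dStarOf P) := by
  have := (dStar_mem_family_of_isPGroup hP).1
  unfold Cfsg.dStarOf
  infer_instance

/-- The defining property of `D*(P)`, inside `G`. -/
theorem dStarOf_centralized {P : Subgroup G} (hP : IsPGroup p P) (x : G) (hx : x ∈ P)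
    (hcl : cl2 (Cfsg.dStarOf P) x) : ∀ d ∈ Cfsg.dStarOf P, d * x = x * d := by
  have hfam := dStar_mem_family_of_isPGroup hP
  rintro d ⟨d', hd', rfl⟩
  have h1 : cl2 ((Cfsg.dStar ↥P).map P.subtype) (P.subtype ⟨x, hx⟩) := hcl
  rw [cl2_map_iff P.subtype P.subtype_injective] at h1
  have h2 := hfam.2 ⟨x, hx⟩ h1 d' hd'
  have h3 := congrArg P.subtype h2
  simpa using h3

/-- `D*(P)` centralizes every abelian subgroup of `P` that it normalizes. -/
theorem dStarOf_centralizes {P : Subgroup G} (hP : IsPGroup p P) (B : Subgroup G) (hBP : B ≤ P)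
    (hBc : IsMulCommutative ↥B) (hDB : Cfsg.dStarOf P ≤ Subgroup.normalizer (B : Set G)) :
    ∀ d ∈ Cfsg.dStarOf P, ∀ b ∈ B, d * b = b * d := by
  haveI : Group.IsNilpotent ↥P := hP.isNilpotent
  have hfam := dStar_mem_family_of_isPGroup hP
  have hB'c : IsMulCommutative ↥(B.subgroupOf P) := by
    apply IsMulCommutative.of_setLike_mul_comm
    intro a ha b hb
    apply Subtype.ext
    simp only [Subgroup.coe_mul]
    exact setLike_mul_comm (Subgroup.mem_subgroupOf.mp ha) (Subgroup.mem_subgroupOf.mp hb)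
  have hn : Cfsg.dStar ↥P ≤ Subgroup.normalizer ((B.subgroupOf P : Subgroup ↥P) : Set ↥P) := by
    intro d' hd'
    rw [Subgroup.mem_normalizer_iff]
    intro b'
    have hd : (d' : G) ∈ Subgroup.normalizer (B : Set G) := hDB ⟨d', hd', rfl⟩
    rw [Subgroup.mem_subgroupOf, Subgroup.mem_subgroupOf]
    have := (Subgroup.mem_normalizer_iff.mp hd) (b' : G)
    simpa using this
  have hcent := dStarFamily_centralizes hfam (B.subgroupOf P) hB'c hn
  rintro d ⟨d', hd', rfl⟩ b hb
  have h2 := hcent d' hd' ⟨b, hBP hb⟩ (Subgroup.mem_subgroupOf.mpr hb)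
  have h3 := congrArg P.subtype h2
  simpa using h3

omit [Finite G] in
/-- Maximality of `D*(P)`, inside `G`. -/
theorem le_dStarOf {P : Subgroup G} (V : Subgroup G) (hVP : V ≤ P) (hVc : IsMulCommutative ↥V)
    (hV : ∀ x ∈ P, cl2 V x → ∀ v ∈ V, v * x = x * v) : V ≤ Cfsg.dStarOf P := by
  have hV'c : IsMulCommutative ↥(V.subgroupOf P) := by
    apply IsMulCommutative.of_setLike_mul_comm
    intro a ha b hb
    apply Subtype.ext
    simp only [Subgroup.coe_mul]
    exact setLike_mul_comm (Subgroup.mem_subgroupOf.mp ha) (Subgroup.mem_subgroupOf.mp hb)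
  have hmap : (V.subgroupOf P).map P.subtype = V := by
    rw [Subgroup.subgroupOf_map_subtype]; exact inf_eq_left.mpr hVP
  have hfam : V.subgroupOf P ∈ Cfsg.dStarFamily ↥P := by
    refine ⟨hV'c, ?_⟩
    intro x' hx' a' ha'
    have h1 : cl2 ((V.subgroupOf P).map P.subtype) (P.subtype x') := by
      rw [cl2_map_iff P.subtype P.subtype_injective]; exact hx'
    rw [hmap] at h1
    have h2 := hV (x' : G) x'.2 h1 (a' : G) (Subgroup.mem_subgroupOf.mp ha')
    apply Subtype.ext
    simpa using h2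
  have hle : V.subgroupOf P ≤ Cfsg.dStar ↥P := le_sSup hfam
  rw [← hmap]
  unfold Cfsg.dStarOf
  exact Subgroup.map_mono hle

end InG

end Cfsg.Agent.Helper5
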