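import Mathlib
import Cfsg.Prelude.Def_Solvable
import Cfsg.Agent.Helper4.PCore

/-!
Helper lemmas (helper5): a group `G` with a normal `2`-subgroup `T`, `G/T` dihedral of order `2r`
(`r` an odd prime) and `C_T(R) = 1` for a Sylow `r`-subgroup `R`: `N_G(R)` is a dihedral complement,
involutions outside `T` are conjugate, and `|C_T(a)|² = |T|` for involutions `a` of `N_G(R)`.
-/

set_option autoImplicit false
set_option linter.unusedSectionVars false

namespace Cfsg.Agent.Helper5.DQ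

open Subgroup

variable {G : Type*} [Group G] [Finite G] {r : ℕ} [hr : Fact r.Prime]

/-- The rotation subgroup pulled back. -/
def rotK (φ : G →* DihedralGroup r) : Subgroup G := (zpowers (DihedralGroup.r (1 : ZMod r))).comap φ

theorem card_rot : Nat.card (zpowers (DihedralGroup.r (1 : ZMod r))) = r := by
  rw [Nat.card_zpowers, DihedralGroup.orderOf_r_one]

theorem index_rot : (zpowers (DihedralGroup.r (1 : ZMod r))).index = 2 := by
  have h := Subgroup.card_mul_index (zpowers (DihedralGroup.r (1 : ZMod r)))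
  rw [card_rot, DihedralGroup.nat_card] at h
  have hpos : 0 < r := hr.out.pos
  have : r * (zpowers (DihedralGroup.r (1 : ZMod r))).index = r * 2 := by rw [h]; ring
  exact Nat.eq_of_mul_eq_mul_left hpos this

theorem index_rotK (φ : G →* DihedralGroup r) (hφ : Function.Surjective φ) : (rotK φ).index = 2 := by
  unfold rotK
  rw [Subgroup.index_comap_of_surjective _ hφ, index_rot]

theorem ker_le_rotK (φ : G →* DihedralGroup r) : φ.ker ≤ rotK φ := by
  intro x hx
  rw [MonoidHom.mem_ker] at hx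
  change φ x ∈ zpowers (DihedralGroup.r (1 : ZMod r))
  rw [hx]
  exact Subgroup.one_mem _

/-- An element of odd order lies in every subgroup of index two. -/
theorem mem_of_index_two_of_odd {K : Subgroup G} (hK : K.index = 2) {x : G} (hx : Odd (orderOf x)) :
    x ∈ K := by
  obtain ⟨k, hk⟩ := hx
  have h1 : x = (x ^ 2) ^ (k + 1) := by
    rw [← pow_mul, show 2 * (k + 1) = orderOf x + 1 by omega, pow_succ, pow_orderOf_eq_one, one_mul]
  rw [h1]
  exact K.pow_mem (Subgroup.sq_mem_of_index_two hK x) _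

/-- An element of the pulled-back rotation group outside the kernel has order divisible by `r`. -/
theorem dvd_orderOf_of_mem_rotK (φ : G →* DihedralGroup r) {x : G} (hxK : x ∈ rotK φ)
    (hx : x ∉ φ.ker) : r ∣ orderOf x := by
  have h1 : orderOf (φ x) ∣ orderOf x := orderOf_map_dvd φ x
  have h2 : orderOf (φ x) ∣ r := by
    have h3 : orderOf (⟨φ x, hxK⟩ : zpowers (DihedralGroup.r (1 : ZMod r))) ∣
        Nat.card (zpowers (DihedralGroup.r (1 : ZMod r))) := orderOf_dvd_natCard _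
    rw [card_rot] at h3
    rwa [← Subgroup.orderOf_coe] at h3
  have h4 : orderOf (φ x) ≠ 1 := by
    intro h
    exact hx (MonoidHom.mem_ker.mpr (orderOf_eq_one_iff.mp h))
  rcases (Nat.dvd_prime hr.out).mp h2 with h5 | h5
  · exact absurd h5 h4
  · rw [← h5]; exact h1

theorem mem_zpowers_of_orderOf_two {N : Type*} [Group N] {b x : N} (hb : orderOf b = 2)
    (hx : x ∈ zpowers b) : x = 1 ∨ x = b := by
  rw [Subgroup.mem_zpowers_iff] at hx
  obtain ⟨k, rfl⟩ := hx
  have h1 : b ^ k = b ^ (k % (orderOf b : ℤ)) := (zpow_mod_orderOf b k).symm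
  rw [hb] at h1
  rcases Int.emod_two_eq_zero_or_one k with h2 | h2
  · left; rw [h1]; push_cast; rw [h2, zpow_zero]
  · right; rw [h1]; push_cast; rw [h2, zpow_one]

/-- In a group of order `2r`, `r` an odd prime, any two involutions are conjugate. -/
theorem conj_involutions {N : Type*} [Group N] [Finite N] (hN : Nat.card N = 2 * r) (hr2 : r ≠ 2)
    {a b : N} (ha : orderOf a = 2) (hb : orderOf b = 2) : ∃ n : N, n * a * n⁻¹ = b := by
  haveI : Fact (Nat.Prime 2) := ⟨Nat.prime_two⟩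
  have hf : (Nat.card N).factorization 2 = 1 := by
    rw [hN, Nat.factorization_mul (by norm_num) hr.out.ne_zero]
    have h2 : r.factorization 2 = 0 := by
      apply Nat.factorization_eq_zero_of_not_dvd
      intro h'
      exact hr2 ((Nat.prime_dvd_prime_iff_eq Nat.prime_two hr.out).mp h').symm
    simp [h2, Nat.prime_two.factorization_self]
  let Pa : Sylow 2 N := Sylow.ofCard (zpowers a) (by rw [Nat.card_zpowers, ha, hf, pow_one])
  let Pb : Sylow 2 N := Sylow.ofCard (zpowers b) (by rw [Nat.card_zpowers, hb, hf, pow_one])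
  obtain ⟨n, hn⟩ := MulAction.exists_smul_eq N Pa Pb
  have h1 : n * a * n⁻¹ ∈ ((n • Pa : Sylow 2 N) : Subgroup N) := by
    rw [Sylow.coe_subgroup_smul, Subgroup.mem_pointwise_smul_iff_inv_smul_mem, ← map_inv,
      MulAut.smul_def, MulAut.conj_apply, inv_inv]
    have : n⁻¹ * (n * a * n⁻¹) * n = a := by group
    rw [this]
    exact Subgroup.mem_zpowers a
  rw [hn] at h1
  have h2 : n * a * n⁻¹ ∈ zpowers b := h1
  refine ⟨n, ?_⟩
  rcases mem_zpowers_of_orderOf_two hb h2 with h3 | h3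
  · exfalso
    have h4 : a = 1 := by
      calc a = n⁻¹ * (n * a * n⁻¹) * n := by group
        _ = 1 := by rw [h3]; group
    rw [h4, orderOf_one] at ha
    omega
  · exact h3

/-- Counting by fibres with an injection of each fibre into a fixed type. -/
theorem card_le_mul_of_fibers {α β γ : Type*} [Finite β] [Finite γ] (f : α → β)
    (ι : ∀ b : β, {x : α // f x = b} → γ) (hι : ∀ b, Function.Injective (ι b)) :
    Nat.card α ≤ Nat.card γ * Nat.card β := by
  rw [← Nat.card_prod]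
  apply Nat.card_le_card_of_injective (fun x : α => (ι (f x) ⟨x, rfl⟩, f x))
  intro x x' hxx
  have h2 : f x = f x' := congrArg Prod.snd hxx
  have h1 : ι (f x) ⟨x, rfl⟩ = ι (f x') ⟨x', rfl⟩ := congrArg Prod.fst hxx
  have key : ∀ (b : β) (hb : f x' = b), ι (f x') ⟨x', rfl⟩ = ι b ⟨x', hb⟩ := by
    intro b hb
    subst hb
    rfl
  rw [key (f x) h2.symm] at h1
  have := hι (f x) h1
  exact congrArg Subtype.val this

/-- The standing hypotheses. -/
structure Hyp (T : Subgroup G) (R : Sylow r G) (φ : G →* DihedralGroup r) : Prop where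
  r2 : r ≠ 2
  surj : Function.Surjective φ
  ker : φ.ker = T
  pg : IsPGroup 2 T
  cent : T ⊓ centralizer ((R : Subgroup G) : Set G) = ⊥

namespace Hyp

variable {T : Subgroup G} {R : Sylow r G} {φ : G →* DihedralGroup r}

theorem normalT (h : Hyp T R φ) : T.Normal := by
  rw [← h.ker]
  exact MonoidHom.normal_ker φ

theorem odd_r (h : Hyp T R φ) : Odd r := hr.out.odd_of_ne_two h.r2

theorem mem_T_iff (h : Hyp T R φ) {x : G} : x ∈ T ↔ φ x = 1 := by
  rw [← h.ker, MonoidHom.mem_ker]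

theorem card_G (h : Hyp T R φ) : Nat.card G = Nat.card T * (2 * r) := by
  have h1 := Subgroup.card_eq_card_quotient_mul_card_subgroup φ.ker
  have h2 : Nat.card (G ⧸ φ.ker) = 2 * r := by
    rw [Nat.card_congr (QuotientGroup.quotientKerEquivOfSurjective φ h.surj).toEquiv,
      DihedralGroup.nat_card]
  rw [h1, h2, h.ker, mul_comm]

theorem card_R (h : Hyp T R φ) : Nat.card R = r := by
  obtain ⟨k, hk⟩ := IsPGroup.iff_card.mp h.pg
  rw [Sylow.card_eq_multiplicity, h.card_G, hk]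
  have h2 : (2 : ℕ).factorization r = 0 := by
    apply Nat.factorization_eq_zero_of_not_dvd
    intro h'
    exact h.r2 ((Nat.prime_dvd_prime_iff_eq hr.out Nat.prime_two).mp h')
  rw [Nat.factorization_mul (by positivity) (by have := hr.out.pos; positivity),
    Nat.factorization_mul (by norm_num) hr.out.ne_zero, Nat.factorization_pow]
  simp [h2, hr.out.factorization_self]

theorem inf_TR (h : Hyp T R φ) : T ⊓ (R : Subgroup G) = ⊥ := by
  rw [← disjoint_iff]
  apply Subgroup.disjoint_of_coprime_natCard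
  obtain ⟨k, hk⟩ := IsPGroup.iff_card.mp h.pg
  rw [hk, h.card_R]
  apply Nat.Coprime.pow_left
  rw [Nat.coprime_primes Nat.prime_two hr.out]
  exact fun h' => h.r2 h'.symm

theorem R_le_rotK (h : Hyp T R φ) : (R : Subgroup G) ≤ rotK φ := by
  intro x hx
  apply mem_of_index_two_of_odd (index_rotK φ h.surj)
  have h1 : orderOf x ∣ r := by
    have h2 : orderOf (⟨x, hx⟩ : (R : Subgroup G)) ∣ Nat.card (R : Subgroup G) := orderOf_dvd_natCard _
    rw [h.card_R] at h2
    rwa [← Subgroup.orderOf_coe] at h2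
  rcases (Nat.dvd_prime hr.out).mp h1 with h5 | h5
  · rw [h5]; exact odd_one
  · rw [h5]; exact h.odd_r

theorem normal_rotK (h : Hyp T R φ) : (rotK φ).Normal :=
  Subgroup.normal_of_index_eq_two (index_rotK φ h.surj)

theorem map_R (h : Hyp T R φ) : (R : Subgroup G).map φ = zpowers (DihedralGroup.r (1 : ZMod r)) := by
  have hle : (R : Subgroup G).map φ ≤ zpowers (DihedralGroup.r (1 : ZMod r)) := by
    rintro _ ⟨x, hx, rfl⟩
    exact h.R_le_rotK hx
  apply Subgroup.eq_of_le_of_card_ge hle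
  rw [card_rot]
  have hinj : Function.Injective (φ.comp (R : Subgroup G).subtype) := by
    rw [← MonoidHom.ker_eq_bot_iff, eq_bot_iff]
    intro x hx
    rw [MonoidHom.mem_ker] at hx
    have h1 : (x : G) ∈ T ⊓ (R : Subgroup G) := ⟨h.mem_T_iff.mpr hx, x.2⟩
    rw [h.inf_TR] at h1
    exact Subtype.ext h1
  have h3 : Nat.card (R : Subgroup G) ≤ Nat.card ((R : Subgroup G).map φ) := by
    apply Nat.card_le_card_of_injective
      (fun x : (R : Subgroup G) => (⟨φ x, ⟨x, x.2, rfl⟩⟩ : (R : Subgroup G).map φ))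
    intro x y hxy
    exact hinj (congrArg Subtype.val hxy)
  rw [h.card_R] at h3
  exact h3

theorem N_sup_T (h : Hyp T R φ) : normalizer ((R : Subgroup G) : Set G) ⊔ T = ⊤ := by
  haveI := h.normal_rotK
  haveI := h.normalT
  have h1 : normalizer ((R : Subgroup G) : Set G) ⊔ rotK φ = ⊤ :=
    Sylow.normalizer_sup_eq_top' R h.R_le_rotK
  rw [eq_top_iff]
  intro g _
  have hg : g ∈ normalizer ((R : Subgroup G) : Set G) ⊔ rotK φ := by rw [h1]; trivial
  rw [← SetLike.mem_coe, Subgroup.mul_normal, Set.mem_mul] at hg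
  obtain ⟨n, hn, k, hk, rfl⟩ := hg
  have hk' : φ k ∈ (R : Subgroup G).map φ := by rw [h.map_R]; exact hk
  obtain ⟨y, hy, hyk⟩ := hk'
  have h2 : y⁻¹ * k ∈ T := by
    rw [h.mem_T_iff, map_mul, map_inv, hyk, inv_mul_cancel]
  have h3 : n * k = (n * y) * (y⁻¹ * k) := by group
  rw [h3]
  exact Subgroup.mul_mem_sup (Subgroup.mul_mem _ hn (Subgroup.le_normalizer hy)) h2

theorem N_inf_T (h : Hyp T R φ) : normalizer ((R : Subgroup G) : Set G) ⊓ T = ⊥ := by
  haveI := h.normalT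
  rw [eq_bot_iff]
  intro x hx
  obtain ⟨hxN, hxT⟩ := Subgroup.mem_inf.mp hx
  rw [Subgroup.mem_bot]
  have hc : x ∈ T ⊓ centralizer ((R : Subgroup G) : Set G) := by
    refine Subgroup.mem_inf.mpr ⟨hxT, ?_⟩
    rw [Subgroup.mem_centralizer_iff]
    intro y hy
    have h1 : x * y * x⁻¹ * y⁻¹ ∈ T ⊓ (R : Subgroup G) := by
      constructor
      · have : x * y * x⁻¹ * y⁻¹ = x * (y * x⁻¹ * y⁻¹) := by group
        rw [this]
        exact T.mul_mem hxT (Subgroup.Normal.conj_mem inferInstance _ (T.inv_mem hxT) y)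
      · exact Subgroup.mul_mem _ ((Subgroup.mem_normalizer_iff.mp hxN y).mp hy) (Subgroup.inv_mem _ hy)
    rw [h.inf_TR, Subgroup.mem_bot] at h1
    calc y * x = (x * y * x⁻¹ * y⁻¹)⁻¹ * (x * y) := by group
      _ = x * y := by rw [h1, inv_one, one_mul]
  rw [h.cent] at hc
  exact hc

theorem equivN (h : Hyp T R φ) :
    Nonempty (↥(normalizer ((R : Subgroup G) : Set G)) ≃* DihedralGroup r) := by
  haveI := h.normalT
  let f : ↥(normalizer ((R : Subgroup G) : Set G)) →* DihedralGroup r :=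
    φ.comp (normalizer ((R : Subgroup G) : Set G)).subtype
  have hinj : Function.Injective f := by
    rw [← MonoidHom.ker_eq_bot_iff, eq_bot_iff]
    intro x hx
    rw [MonoidHom.mem_ker] at hx
    have h1 : (x : G) ∈ normalizer ((R : Subgroup G) : Set G) ⊓ T := ⟨x.2, h.mem_T_iff.mpr hx⟩
    rw [h.N_inf_T] at h1
    exact Subtype.ext h1
  have hsurj : Function.Surjective f := by
    intro dd
    obtain ⟨g, rfl⟩ := h.surj dd
    have hg : g ∈ normalizer ((R : Subgroup G) : Set G) ⊔ T := by rw [h.N_sup_T]; trivial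
    rw [← SetLike.mem_coe, Subgroup.mul_normal, Set.mem_mul] at hg
    obtain ⟨n, hn, t, ht, rfl⟩ := hg
    refine ⟨⟨n, hn⟩, ?_⟩
    change φ n = φ (n * t)
    rw [map_mul, h.mem_T_iff.mp ht, mul_one]
  exact ⟨MulEquiv.ofBijective f ⟨hinj, hsurj⟩⟩

theorem card_R_eq_pow (h : Hyp T R φ) : r ^ (Nat.card G).factorization r = r := by
  rw [← Sylow.card_eq_multiplicity R, h.card_R]

/-- Every subgroup of order `r` is a conjugate of `R`. -/
theorem exists_conj_of_card (h : Hyp T R φ) (H : Subgroup G) (hH : Nat.card H = r) :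
    ∃ g : G, ∀ x : G, x ∈ H ↔ g⁻¹ * x * g ∈ (R : Subgroup G) := by
  let P : Sylow r G := Sylow.ofCard H (by rw [hH, h.card_R_eq_pow])
  obtain ⟨g, hg⟩ := MulAction.exists_smul_eq G R P
  refine ⟨g, fun x => ?_⟩
  have h1 : x ∈ H ↔ x ∈ ((g • R : Sylow r G) : Subgroup G) := by rw [hg]; rfl
  rw [h1, Sylow.coe_subgroup_smul, Subgroup.mem_pointwise_smul_iff_inv_smul_mem, ← map_inv,
    MulAut.smul_def, MulAut.conj_apply, inv_inv]

theorem zpowers_eq_R (h : Hyp T R φ) {z : G} (hz : z ∈ (R : Subgroup G)) (hz1 : z ≠ 1) :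
    zpowers z = (R : Subgroup G) := by
  apply Subgroup.eq_of_le_of_card_ge ((Subgroup.zpowers_le).mpr hz)
  rw [h.card_R, Nat.card_zpowers]
  have h1 : orderOf z ∣ r := by
    have h2 : orderOf (⟨z, hz⟩ : (R : Subgroup G)) ∣ Nat.card (R : Subgroup G) := orderOf_dvd_natCard _
    rw [h.card_R] at h2
    rwa [← Subgroup.orderOf_coe] at h2
  rcases (Nat.dvd_prime hr.out).mp h1 with h5 | h5
  · exact absurd (orderOf_eq_one_iff.mp h5) hz1
  · rw [h5]

/-- An element of `T` commuting with a nonidentity element of `R` is trivial. -/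
theorem eq_one_of_commute_gen (h : Hyp T R φ) {z : G} (hz : z ∈ (R : Subgroup G)) (hz1 : z ≠ 1)
    {t : G} (ht : t ∈ T) (hc : z * t = t * z) : t = 1 := by
  have h1 : t ∈ T ⊓ centralizer ((R : Subgroup G) : Set G) := by
    refine Subgroup.mem_inf.mpr ⟨ht, ?_⟩
    rw [Subgroup.mem_centralizer_iff]
    intro y hy
    rw [SetLike.mem_coe, ← h.zpowers_eq_R hz hz1, Subgroup.mem_zpowers_iff] at hy
    obtain ⟨k, rfl⟩ := hy
    exact ((Commute.zpow_left (show Commute z t from hc) k)).eq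
  rw [h.cent] at h1
  exact h1

/-- An element of `T` commuting with an element of order divisible by `r` is trivial. -/
theorem eq_one_of_commute (h : Hyp T R φ) {x u : G} (hx : r ∣ orderOf x) (hu : u ∈ T)
    (hc : x * u = u * x) : u = 1 := by
  haveI := h.normalT
  set w := x ^ (orderOf x / r) with hw
  have hx0 : orderOf x ≠ 0 := (orderOf_pos x).ne'
  have hwo : orderOf w = r := orderOf_pow_orderOf_div hx0 hx
  have hwc : Commute w u := (Commute.pow_left (show Commute x u from hc) _)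
  obtain ⟨g, hg⟩ := h.exists_conj_of_card (zpowers w) (by rw [Nat.card_zpowers, hwo])
  have hw1 : w ≠ 1 := by
    intro h1
    rw [h1, orderOf_one] at hwo
    exact hr.out.one_lt.ne hwo
  have hz : g⁻¹ * w * g ∈ (R : Subgroup G) := (hg w).mp (Subgroup.mem_zpowers w)
  have hz1 : g⁻¹ * w * g ≠ 1 := by
    intro h1
    apply hw1
    calc w = g * (g⁻¹ * w * g) * g⁻¹ := by group
      _ = 1 := by rw [h1]; group
  have h2 : g⁻¹ * u * g = 1 := by
    apply h.eq_one_of_commute_gen hz hz1 (by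
      have := Subgroup.Normal.conj_mem (inferInstance : T.Normal) u hu g⁻¹
      simpa using this)
    calc g⁻¹ * w * g * (g⁻¹ * u * g) = g⁻¹ * (w * u) * g := by group
      _ = g⁻¹ * (u * w) * g := by rw [hwc.eq]
      _ = g⁻¹ * u * g * (g⁻¹ * w * g) := by group
  calc u = g * (g⁻¹ * u * g) * g⁻¹ := by group
    _ = 1 := by rw [h2]; group

theorem notMem_rotK (h : Hyp T R φ) {b : G} (hb : orderOf b = 2) (hbT : b ∉ T) : b ∉ rotK φ := by
  intro hbK
  have h1 := dvd_orderOf_of_mem_rotK φ hbK (by rw [h.ker]; exact hbT)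
  rw [hb] at h1
  exact h.r2 ((Nat.prime_dvd_prime_iff_eq hr.out Nat.prime_two).mp h1)

theorem phi_involution (h : Hyp T R φ) {b : G} (hb : orderOf b = 2) (hbT : b ∉ T) :
    ∃ i, φ b = DihedralGroup.sr i := by
  haveI : NeZero r := ⟨hr.out.ne_zero⟩
  have h1 := h.notMem_rotK hb hbT
  rcases hφ : φ b with j | i
  · exfalso
    apply h1
    change φ b ∈ zpowers (DihedralGroup.r (1 : ZMod r))
    rw [hφ, Subgroup.mem_zpowers_iff]
    refine ⟨(j.val : ℤ), ?_⟩
    rw [zpow_natCast, DihedralGroup.r_one_pow, ZMod.natCast_zmod_val]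
  · exact ⟨i, rfl⟩

theorem phi_R (h : Hyp T R φ) {y : G} (hy : y ∈ (R : Subgroup G)) :
    ∃ j, φ y = DihedralGroup.r j := by
  have h1 : φ y ∈ zpowers (DihedralGroup.r (1 : ZMod r)) := h.R_le_rotK hy
  rw [Subgroup.mem_zpowers_iff] at h1
  obtain ⟨k, hk⟩ := h1
  rw [DihedralGroup.r_one_zpow] at hk
  exact ⟨_, hk.symm⟩

theorem two_ne_zero' (h : Hyp T R φ) : (2 : ZMod r) ≠ 0 := by
  intro h2
  have h3 : ((2 : ℕ) : ZMod r) = 0 := by exact_mod_cast h2
  rw [ZMod.natCast_eq_zero_iff] at h3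
  exact h.r2 ((Nat.prime_dvd_prime_iff_eq hr.out Nat.prime_two).mp h3)

theorem conj_ne (h : Hyp T R φ) {a y : G} (ha : orderOf a = 2) (haT : a ∉ T)
    (hy : y ∈ (R : Subgroup G)) (hy1 : y ≠ 1) : a * y * a⁻¹ ≠ y := by
  intro hc
  obtain ⟨i, hi⟩ := h.phi_involution ha haT
  obtain ⟨j, hj⟩ := h.phi_R hy
  have h1 := congrArg φ hc
  rw [map_mul, map_mul, map_inv, hi, hj, DihedralGroup.inv_sr, DihedralGroup.sr_mul_r,
    DihedralGroup.sr_mul_sr] at h1
  have h2 : i - (i + j) = j := by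
    injection h1
  have h3 : (2 : ZMod r) * j = 0 := by linear_combination -h2
  have h4 : j = 0 := (mul_eq_zero.mp h3).resolve_left h.two_ne_zero'
  rw [h4, DihedralGroup.r_zero] at hj
  have h5 : y ∈ T ⊓ (R : Subgroup G) := Subgroup.mem_inf.mpr ⟨h.mem_T_iff.mpr hj, hy⟩
  rw [h.inf_TR] at h5
  exact hy1 h5

theorem exists_ne_one_mem_R (h : Hyp T R φ) : ∃ y ∈ (R : Subgroup G), y ≠ 1 := by
  have h1 : (R : Subgroup G) ≠ ⊥ := by
    intro hb
    have h2 := h.card_R
    rw [show Nat.card (R : Subgroup G) = 1 by rw [hb]; exact Subgroup.card_bot] at h2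
    exact hr.out.one_lt.ne h2
  exact (Subgroup.ne_bot_iff_exists_ne_one).mp h1 |>.elim fun y hy => ⟨y.1, y.2, fun h' => hy (Subtype.ext h')⟩

theorem orderOf_conj' (g a : G) : orderOf (g * a * g⁻¹) = orderOf a := by
  have := orderOf_injective (MulAut.conj g).toMonoidHom (MulAut.conj g).injective a
  simpa [MulAut.conj_apply] using this

theorem inv_eq_self_of_orderOf_two {a : G} (ha : orderOf a = 2) : a⁻¹ = a := by
  have h1 : a ^ 2 = 1 := by rw [← ha]; exact pow_orderOf_eq_one a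
  rw [inv_eq_iff_mul_eq_one, ← pow_two, h1]

theorem ne_one_of_orderOf_two {a : G} (ha : orderOf a = 2) : a ≠ 1 := by
  rintro rfl
  rw [orderOf_one] at ha
  omega

theorem notMem_T_of_mem_N (h : Hyp T R φ) {a : G} (haN : a ∈ normalizer ((R : Subgroup G) : Set G))
    (ha : orderOf a = 2) : a ∉ T := by
  intro haT
  have h1 : a ∈ normalizer ((R : Subgroup G) : Set G) ⊓ T := Subgroup.mem_inf.mpr ⟨haN, haT⟩
  rw [h.N_inf_T] at h1
  exact ne_one_of_orderOf_two ha h1

/-- A second involution of the normalizer. -/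
theorem exists_second (h : Hyp T R φ) {a : G} (haN : a ∈ normalizer ((R : Subgroup G) : Set G))
    (ha : orderOf a = 2) :
    ∃ y ∈ (R : Subgroup G), a * (y * a * y⁻¹) ∈ (R : Subgroup G) ∧ a * (y * a * y⁻¹) ≠ 1 := by
  obtain ⟨y, hy, hy1⟩ := h.exists_ne_one_mem_R
  have haT := h.notMem_T_of_mem_N haN ha
  have hne := h.conj_ne ha haT hy hy1
  refine ⟨y, hy, ?_, ?_⟩
  · have h1 : a * (y * a * y⁻¹) = (a * y * a⁻¹) * y⁻¹ := by
      rw [inv_eq_self_of_orderOf_two ha]; group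
    rw [h1]
    exact Subgroup.mul_mem _ ((Subgroup.mem_normalizer_iff.mp haN y).mp hy) (Subgroup.inv_mem _ hy)
  · intro h1
    apply hne
    have h2 : a * (y * a * y⁻¹) = (a * y * a⁻¹) * y⁻¹ := by
      rw [inv_eq_self_of_orderOf_two ha]; group
    rw [h2] at h1
    exact mul_inv_eq_one.mp h1

theorem mem_normalizer_of_involution {H : Subgroup G} {c : G} (hc : orderOf c = 2)
    (hH : ∀ y ∈ H, c * y * c⁻¹ ∈ H) : c ∈ normalizer (H : Set G) := by
  rw [Subgroup.mem_normalizer_iff]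
  intro y
  constructor
  · exact hH y
  · intro hy
    have h1 := hH _ hy
    have h2 : c * (c * y * c⁻¹) * c⁻¹ = y := by
      have hc2 : c * c = 1 := by
        have : c ^ 2 = 1 := by rw [← hc]; exact pow_orderOf_eq_one c
        rwa [pow_two] at this
      have hci : c⁻¹ = c := inv_eq_self_of_orderOf_two hc
      rw [hci]
      calc c * (c * y * c) * c = (c * c) * y * (c * c) := by group
        _ = y := by rw [hc2]; group
    rwa [h2] at h1

theorem card_N (h : Hyp T R φ) : Nat.card ↥(normalizer ((R : Subgroup G) : Set G)) = 2 * r := by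
  obtain ⟨e⟩ := h.equivN
  rw [Nat.card_congr e.toEquiv, DihedralGroup.nat_card]

/-- Every involution outside `T` is conjugate to a given involution of the normalizer of `R`. -/
theorem conj_of_involution (h : Hyp T R φ) {a : G}
    (haN : a ∈ normalizer ((R : Subgroup G) : Set G)) (ha : orderOf a = 2) {b : G}
    (hb : orderOf b = 2) (hbT : b ∉ T) : ∃ g : G, g * a * g⁻¹ = b := by
  haveI := h.normalT
  obtain ⟨y, hy, hzR, hz1⟩ := h.exists_second haN ha
  have haT := h.notMem_T_of_mem_N haN ha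
  set a' := y * a * y⁻¹ with ha'
  have ha'o : orderOf a' = 2 := by rw [ha', orderOf_conj', ha]
  have ha'T : a' ∉ T := by
    intro hh
    apply haT
    have := Subgroup.Normal.conj_mem (inferInstance : T.Normal) a' hh y⁻¹
    rw [ha'] at this
    have h2 : y⁻¹ * (y * a * y⁻¹) * y⁻¹⁻¹ = a := by group
    rwa [h2] at this
  have hφne : φ a ≠ φ a' := by
    intro heq
    apply hz1
    have h1 : φ (a * a') = 1 := by
      rw [map_mul, ← heq, ← map_mul, ← pow_two, ← ha, pow_orderOf_eq_one, map_one]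
    have h2 : a * a' ∈ T ⊓ (R : Subgroup G) := Subgroup.mem_inf.mpr ⟨h.mem_T_iff.mpr h1, hzR⟩
    rw [h.inf_TR] at h2
    exact h2
  -- choose a'' among a, a' with different image from b
  obtain ⟨a'', ha''N, ha''o, ha''T, hne, hconj⟩ : ∃ a'' : G,
      a'' ∈ normalizer ((R : Subgroup G) : Set G) ∧ orderOf a'' = 2 ∧ a'' ∉ T ∧ φ b ≠ φ a'' ∧
        ∃ g : G, g * a * g⁻¹ = a'' := by
    by_cases hba : φ b = φ a
    · refine ⟨a', ?_, ha'o, ha'T, by rw [hba]; exact hφne, y, rfl⟩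
      exact Subgroup.mul_mem _ (Subgroup.mul_mem _ (Subgroup.le_normalizer hy) haN)
        (Subgroup.inv_mem _ (Subgroup.le_normalizer hy))
    · exact ⟨a, haN, ha, haT, hba, 1, by group⟩
  set x := b * a'' with hx
  have hidx := index_rotK φ h.surj
  have hxK : x ∈ rotK φ :=
    (Subgroup.mul_mem_iff_of_index_two hidx).mpr
      (iff_of_false (h.notMem_rotK hb hbT) (h.notMem_rotK ha''o ha''T))
  have hxT : x ∉ φ.ker := by
    rw [h.ker, h.mem_T_iff, hx, map_mul]
    intro h1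
    apply hne
    have h2 : φ b = (φ a'')⁻¹ := eq_inv_of_mul_eq_one_left h1
    rw [h2, ← map_inv, inv_eq_self_of_orderOf_two ha''o]
  have hrx := dvd_orderOf_of_mem_rotK φ hxK hxT
  set w := x ^ (orderOf x / r) with hw
  have hx0 : orderOf x ≠ 0 := (orderOf_pos x).ne'
  have hwo : orderOf w = r := orderOf_pow_orderOf_div hx0 hrx
  obtain ⟨g, hg⟩ := h.exists_conj_of_card (zpowers w) (by rw [Nat.card_zpowers, hwo])
  have hbi : b⁻¹ = b := inv_eq_self_of_orderOf_two hb
  have hai : a''⁻¹ = a'' := inv_eq_self_of_orderOf_two ha''o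
  have hb2 : b * b = 1 := by
    have : b ^ 2 = 1 := by rw [← hb]; exact pow_orderOf_eq_one b
    rwa [pow_two] at this
  have hbx : b * x * b⁻¹ = x⁻¹ := by
    rw [hx, mul_inv_rev, hbi, hai]
    calc b * (b * a'') * b = (b * b) * a'' * b := by group
      _ = a'' * b := by rw [hb2, one_mul]
  have hbw : b * w * b⁻¹ = w⁻¹ := by
    have h1 : b * w * b⁻¹ = (b * x * b⁻¹) ^ (orderOf x / r) := by
      rw [hw, conj_pow]
    rw [h1, hbx, inv_pow]
  have hbn : ∀ v ∈ zpowers w, b * v * b⁻¹ ∈ zpowers w := by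
    intro v hv
    rw [Subgroup.mem_zpowers_iff] at hv
    obtain ⟨k, rfl⟩ := hv
    have h1 : b * w ^ k * b⁻¹ = (b * w * b⁻¹) ^ k := by rw [conj_zpow]
    rw [h1, hbw]
    exact Subgroup.zpow_mem _ (Subgroup.inv_mem _ (Subgroup.mem_zpowers w)) k
  set c := g⁻¹ * b * g with hc
  have hco : orderOf c = 2 := by
    have := orderOf_conj' g⁻¹ b
    rw [inv_inv] at this
    rw [hc, this, hb]
  have hcN : c ∈ normalizer ((R : Subgroup G) : Set G) := by
    apply mem_normalizer_of_involution hco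
    intro v hv
    have h1 : g * v * g⁻¹ ∈ zpowers w := by
      rw [hg]
      have : g⁻¹ * (g * v * g⁻¹) * g = v := by group
      rw [this]
      exact hv
    have h2 := (hg _).mp (hbn _ h1)
    have h3 : g⁻¹ * (b * (g * v * g⁻¹) * b⁻¹) * g = c * v * c⁻¹ := by
      rw [hc]; group
    rwa [h3] at h2
  have hao' : orderOf (⟨a, haN⟩ : ↥(normalizer ((R : Subgroup G) : Set G))) = 2 := by
    rw [← ha, ← Subgroup.orderOf_coe]
  have hco' : orderOf (⟨c, hcN⟩ : ↥(normalizer ((R : Subgroup G) : Set G))) = 2 := by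
    rw [← hco, ← Subgroup.orderOf_coe]
  obtain ⟨n, hn⟩ := conj_involutions (r := r) h.card_N h.r2 hao' hco'
  have hn' : (n : G) * a * (n : G)⁻¹ = c := by
    have := congrArg Subtype.val hn
    simpa using this
  refine ⟨g * n, ?_⟩
  calc g * ↑n * a * (g * ↑n)⁻¹ = g * (↑n * a * (↑n : G)⁻¹) * g⁻¹ := by group
    _ = g * c * g⁻¹ := by rw [hn']
    _ = b := by rw [hc]; group


/-- The involutions in the coset `T a`. -/
def InvCoset (T : Subgroup G) (a : G) : Type _ := {b : G // b * b = 1 ∧ b * a ∈ T}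

instance (T : Subgroup G) (a : G) : Finite (InvCoset T a) := by
  unfold InvCoset; infer_instance

theorem card_cent_conj_le (T : Subgroup G) [T.Normal] (a y : G) :
    Nat.card ↥(T ⊓ centralizer ({a} : Set G)) ≤
      Nat.card ↥(T ⊓ centralizer ({y * a * y⁻¹} : Set G)) := by
  apply Nat.card_le_card_of_injective
    (fun s : ↥(T ⊓ centralizer ({a} : Set G)) =>
      (⟨y * (s : G) * y⁻¹, by
        have hs := Subgroup.mem_inf.mp s.2
        refine Subgroup.mem_inf.mpr ⟨Subgroup.Normal.conj_mem inferInstance _ hs.1 y, ?_⟩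
        rw [Subgroup.mem_centralizer_iff]
        intro v hv
        rw [Set.mem_singleton_iff] at hv
        subst hv
        have h1 := (Subgroup.mem_centralizer_iff.mp hs.2) a rfl
        calc y * a * y⁻¹ * (y * (s : G) * y⁻¹) = y * (a * s) * y⁻¹ := by group
          _ = y * (s * a) * y⁻¹ := by rw [h1]
          _ = y * (s : G) * y⁻¹ * (y * a * y⁻¹) := by group⟩ :
        ↥(T ⊓ centralizer ({y * a * y⁻¹} : Set G))))
  intro s s' hss
  have h1 : y * (s : G) * y⁻¹ = y * (s' : G) * y⁻¹ := congrArg Subtype.val hss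
  exact Subtype.ext (mul_left_cancel (mul_right_cancel h1))

theorem card_cent_conj (T : Subgroup G) [T.Normal] (a y : G) :
    Nat.card ↥(T ⊓ centralizer ({y * a * y⁻¹} : Set G)) =
      Nat.card ↥(T ⊓ centralizer ({a} : Set G)) := by
  apply le_antisymm
  · have h1 := card_cent_conj_le T (y * a * y⁻¹) y⁻¹
    have h2 : y⁻¹ * (y * a * y⁻¹) * y⁻¹⁻¹ = a := by group
    rwa [h2] at h1
  · exact card_cent_conj_le T a y

/-- F1: centralizers of two involutions with product a generator of `R` meet trivially. -/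
theorem card_cent_mul_le (h : Hyp T R φ) {a a' : G} (hz : a * a' ∈ (R : Subgroup G))
    (hz1 : a * a' ≠ 1) :
    Nat.card ↥(T ⊓ centralizer ({a} : Set G)) * Nat.card ↥(T ⊓ centralizer ({a'} : Set G)) ≤
      Nat.card T := by
  rw [← Nat.card_prod]
  apply Nat.card_le_card_of_injective
    (fun p : ↥(T ⊓ centralizer ({a} : Set G)) × ↥(T ⊓ centralizer ({a'} : Set G)) =>
      (⟨(p.1 : G) * (p.2 : G), T.mul_mem (Subgroup.mem_inf.mp p.1.2).1 (Subgroup.mem_inf.mp p.2.2).1⟩ : ↥T))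
  rintro ⟨s₁, s₁'⟩ ⟨s₂, s₂'⟩ hss
  have h1 : (s₁ : G) * (s₁' : G) = (s₂ : G) * (s₂' : G) := congrArg Subtype.val hss
  have hs₁ := Subgroup.mem_inf.mp s₁.2
  have hs₂ := Subgroup.mem_inf.mp s₂.2
  have hs₁' := Subgroup.mem_inf.mp s₁'.2
  have hs₂' := Subgroup.mem_inf.mp s₂'.2
  set u := (s₂ : G)⁻¹ * (s₁ : G) with hu
  have hu' : u = (s₂' : G) * (s₁' : G)⁻¹ := by
    rw [hu]
    calc (s₂ : G)⁻¹ * (s₁ : G) = (s₂ : G)⁻¹ * ((s₁ : G) * (s₁' : G)) * (s₁' : G)⁻¹ := by group
      _ = (s₂ : G)⁻¹ * ((s₂ : G) * (s₂' : G)) * (s₁' : G)⁻¹ := by rw [h1]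
      _ = (s₂' : G) * (s₁' : G)⁻¹ := by group
  have huT : u ∈ T := T.mul_mem (T.inv_mem hs₂.1) hs₁.1
  have hua : a * u = u * a := by
    have e1 := (Subgroup.mem_centralizer_iff.mp hs₁.2) a rfl
    have e2 := (Subgroup.mem_centralizer_iff.mp hs₂.2) a rfl
    have e3 : a * (s₂ : G)⁻¹ = (s₂ : G)⁻¹ * a := by
      calc a * (s₂ : G)⁻¹ = (s₂ : G)⁻¹ * ((s₂ : G) * a) * (s₂ : G)⁻¹ := by group
        _ = (s₂ : G)⁻¹ * (a * (s₂ : G)) * (s₂ : G)⁻¹ := by rw [e2]
        _ = (s₂ : G)⁻¹ * a := by group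
    rw [hu, ← mul_assoc, e3, mul_assoc, e1, mul_assoc]
  have hua' : a' * u = u * a' := by
    have e1 := (Subgroup.mem_centralizer_iff.mp hs₁'.2) a' rfl
    have e2 := (Subgroup.mem_centralizer_iff.mp hs₂'.2) a' rfl
    have e3 : a' * (s₁' : G)⁻¹ = (s₁' : G)⁻¹ * a' := by
      calc a' * (s₁' : G)⁻¹ = (s₁' : G)⁻¹ * ((s₁' : G) * a') * (s₁' : G)⁻¹ := by group
        _ = (s₁' : G)⁻¹ * (a' * (s₁' : G)) * (s₁' : G)⁻¹ := by rw [e1]
        _ = (s₁' : G)⁻¹ * a' := by group
    rw [hu', ← mul_assoc, e2, mul_assoc, e3, mul_assoc]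
  have hzu : a * a' * u = u * (a * a') := by
    rw [mul_assoc, hua', ← mul_assoc, hua, mul_assoc]
  have hu1 : u = 1 := h.eq_one_of_commute_gen hz hz1 huT hzu
  have e1 : (s₁ : G) = (s₂ : G) := by
    rw [hu] at hu1
    exact (inv_mul_eq_one.mp hu1).symm
  have e2 : (s₁' : G) = (s₂' : G) := by
    rw [hu'] at hu1
    exact (mul_inv_eq_one.mp hu1).symm
  exact Prod.ext (Subtype.ext e1) (Subtype.ext e2)

/-- F2: orbit counting. -/
theorem card_T_le (T : Subgroup G) [T.Normal] {a : G} (ha : a * a = 1) :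
    Nat.card T ≤ Nat.card ↥(T ⊓ centralizer ({a} : Set G)) * Nat.card (InvCoset T a) := by
  have hai : a⁻¹ = a := inv_eq_of_mul_eq_one_left ha
  let f : ↥T → InvCoset T a := fun t =>
    ⟨(t : G) * a * (t : G)⁻¹, by
      constructor
      · calc (t : G) * a * (t : G)⁻¹ * ((t : G) * a * (t : G)⁻¹) = (t : G) * (a * a) * (t : G)⁻¹ := by group
          _ = 1 := by rw [ha]; group
      · have h1 : (t : G) * a * (t : G)⁻¹ * a = (t : G) * (a * (t : G)⁻¹ * a⁻¹) := by
          rw [hai]; group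
        rw [h1]
        exact T.mul_mem t.2 (Subgroup.Normal.conj_mem inferInstance _ (T.inv_mem t.2) a)⟩
  apply card_le_mul_of_fibers f
    (fun b x => (⟨((Classical.choose (⟨x.1, x.2⟩ : ∃ s : ↥T, f s = b) : ↥T) : G)⁻¹ * (x.1 : G), by
      have hs := Classical.choose_spec (⟨x.1, x.2⟩ : ∃ s : ↥T, f s = b)
      set s := Classical.choose (⟨x.1, x.2⟩ : ∃ s : ↥T, f s = b) with hsdef
      have h1 : (s : G) * a * (s : G)⁻¹ = (x.1 : G) * a * (x.1 : G)⁻¹ := by
        have := congrArg Subtype.val (hs.trans x.2.symm)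
        exact this
      refine Subgroup.mem_inf.mpr ⟨T.mul_mem (T.inv_mem s.2) x.1.2, ?_⟩
      rw [Subgroup.mem_centralizer_iff]
      intro v hv
      rw [Set.mem_singleton_iff] at hv
      subst hv
      calc v * ((s : G)⁻¹ * (x.1 : G)) = (s : G)⁻¹ * ((s : G) * v * (s : G)⁻¹) * (s : G) * ((s : G)⁻¹ * (x.1 : G)) := by group
        _ = (s : G)⁻¹ * ((x.1 : G) * v * (x.1 : G)⁻¹) * (s : G) * ((s : G)⁻¹ * (x.1 : G)) := by rw [h1]
        _ = (s : G)⁻¹ * (x.1 : G) * v := by group⟩ : ↥(T ⊓ centralizer ({a} : Set G))))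
  intro b x x' hxx
  have h1 := congrArg Subtype.val hxx
  simp only [] at h1
  have h2 : (x.1 : G) = (x'.1 : G) := mul_left_cancel h1
  exact Subtype.ext (Subtype.ext h2)

theorem orderOf_eq_two_of_sq {b : G} (hb : b * b = 1) (hb1 : b ≠ 1) : orderOf b = 2 := by
  apply orderOf_eq_prime
  · rw [pow_two, hb]
  · exact hb1

theorem InvCoset.notMem (h : Hyp T R φ) {a : G} (haT : a ∉ T) (b : InvCoset T a) : b.1 ∉ T := by
  intro hb
  apply haT
  have h1 : a = b.1⁻¹ * (b.1 * a) := by group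
  rw [h1]
  exact T.mul_mem (T.inv_mem hb) b.2.2

theorem InvCoset.order_eq (h : Hyp T R φ) {a : G} (haT : a ∉ T) (b : InvCoset T a) :
    orderOf b.1 = 2 := by
  apply orderOf_eq_two_of_sq b.2.1
  intro h1
  apply InvCoset.notMem h haT b
  rw [h1]
  exact T.one_mem

theorem InvCoset.phi (h : Hyp T R φ) {a : G} (ha : orderOf a = 2) (b : InvCoset T a) :
    φ b.1 = φ a := by
  have h1 : φ (b.1 * a) = 1 := h.mem_T_iff.mp b.2.2
  rw [map_mul] at h1
  rw [eq_inv_of_mul_eq_one_left h1, ← map_inv, inv_eq_self_of_orderOf_two ha]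

/-- F3. -/
theorem card_inv_mul_le (h : Hyp T R φ) {a a' : G} (ha : orderOf a = 2) (ha' : orderOf a' = 2)
    (haT : a ∉ T) (ha'T : a' ∉ T) (hz : a * a' ∈ (R : Subgroup G)) (hz1 : a * a' ≠ 1) :
    Nat.card (InvCoset T a) * Nat.card (InvCoset T a') ≤ Nat.card T := by
  haveI := h.normalT
  have hai : a⁻¹ = a := inv_eq_self_of_orderOf_two ha
  rw [← Nat.card_prod]
  apply Nat.card_le_card_of_injective
    (fun p : InvCoset T a × InvCoset T a' =>
      (⟨p.1.1 * p.2.1 * a' * a, by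
        have h1 : p.1.1 * p.2.1 * a' * a = (p.1.1 * a) * (a⁻¹ * (p.2.1 * a') * a⁻¹⁻¹) := by group
        rw [h1]
        exact T.mul_mem p.1.2.2 (Subgroup.Normal.conj_mem inferInstance _ p.2.2.2 a⁻¹)⟩ : ↥T))
  rintro ⟨b₁, b₁'⟩ ⟨b₂, b₂'⟩ hbb
  have h0 : b₁.1 * b₁'.1 * a' * a = b₂.1 * b₂'.1 * a' * a := congrArg Subtype.val hbb
  have h1 : b₁.1 * b₁'.1 = b₂.1 * b₂'.1 := mul_right_cancel (mul_right_cancel h0)
  have i1 : b₁.1⁻¹ = b₁.1 := inv_eq_of_mul_eq_one_left b₁.2.1
  have i2 : b₂.1⁻¹ = b₂.1 := inv_eq_of_mul_eq_one_left b₂.2.1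
  have i1' : b₁'.1⁻¹ = b₁'.1 := inv_eq_of_mul_eq_one_left b₁'.2.1
  have i2' : b₂'.1⁻¹ = b₂'.1 := inv_eq_of_mul_eq_one_left b₂'.2.1
  set u := b₂.1 * b₁.1 with hu
  have hu' : u = b₂'.1 * b₁'.1 := by
    rw [hu]
    calc b₂.1 * b₁.1 = b₂.1 * (b₁.1 * b₁'.1) * b₁'.1⁻¹ := by group
      _ = b₂.1 * (b₂.1 * b₂'.1) * b₁'.1⁻¹ := by rw [h1]
      _ = (b₂.1 * b₂.1) * b₂'.1 * b₁'.1⁻¹ := by group
      _ = b₂'.1 * b₁'.1 := by rw [b₂.2.1, one_mul, i1']
  have huT : u ∈ T := by
    have e1 : u = (b₂.1 * a) * (b₁.1 * a)⁻¹ := by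
      rw [hu, mul_inv_rev, i1, hai]
      calc b₂.1 * b₁.1 = b₂.1 * (a * a) * b₁.1 := by
            rw [show a * a = 1 by rw [← pow_two, ← ha, pow_orderOf_eq_one]]; group
        _ = b₂.1 * a * (a * b₁.1) := by group
    rw [e1]
    exact T.mul_mem b₂.2.2 (T.inv_mem b₁.2.2)
  have huinv : u⁻¹ = b₁.1 * b₂.1 := by rw [hu, mul_inv_rev, i1, i2]
  have huinv' : u⁻¹ = b₁'.1 * b₂'.1 := by rw [hu', mul_inv_rev, i1', i2']
  have hxu : b₁.1 * b₁'.1 * u = u * (b₁.1 * b₁'.1) := by
    have e1 : b₁'.1 * u = u⁻¹ * b₁'.1 := by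
      rw [huinv', hu', mul_assoc]
    have e2 : b₁.1 * u⁻¹ = u * b₁.1 := by
      rw [huinv, hu]
      calc b₁.1 * (b₁.1 * b₂.1) = (b₁.1 * b₁.1) * b₂.1 := by group
        _ = b₂.1 * (b₁.1 * b₁.1) := by rw [b₁.2.1, one_mul, mul_one]
        _ = b₂.1 * b₁.1 * b₁.1 := by group
    calc b₁.1 * b₁'.1 * u = b₁.1 * (b₁'.1 * u) := by group
      _ = b₁.1 * (u⁻¹ * b₁'.1) := by rw [e1]
      _ = (b₁.1 * u⁻¹) * b₁'.1 := by group
      _ = u * b₁.1 * b₁'.1 := by rw [e2]
      _ = u * (b₁.1 * b₁'.1) := by group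
  have hidx := index_rotK φ h.surj
  have hxK : b₁.1 * b₁'.1 ∈ rotK φ :=
    (Subgroup.mul_mem_iff_of_index_two hidx).mpr
      (iff_of_false (h.notMem_rotK (InvCoset.order_eq h haT b₁) (InvCoset.notMem h haT b₁))
        (h.notMem_rotK (InvCoset.order_eq h ha'T b₁') (InvCoset.notMem h ha'T b₁')))
  have hxT : b₁.1 * b₁'.1 ∉ φ.ker := by
    rw [h.ker, h.mem_T_iff, map_mul, InvCoset.phi h ha b₁, InvCoset.phi h ha' b₁', ← map_mul,
      ← h.mem_T_iff]
    intro h2
    have h3 : a * a' ∈ T ⊓ (R : Subgroup G) := Subgroup.mem_inf.mpr ⟨h2, hz⟩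
    rw [h.inf_TR] at h3
    exact hz1 h3
  have hu1 : u = 1 := h.eq_one_of_commute (dvd_orderOf_of_mem_rotK φ hxK hxT) huT hxu
  have e1 : b₁.1 = b₂.1 := by
    rw [hu] at hu1
    rw [← i2]
    exact (inv_eq_of_mul_eq_one_right hu1).symm ▸ rfl
  have e2 : b₁'.1 = b₂'.1 := by
    rw [hu'] at hu1
    rw [← i2']
    exact (inv_eq_of_mul_eq_one_right hu1).symm ▸ rfl
  exact Prod.ext (Subtype.ext e1) (Subtype.ext e2)

theorem card_cent_sq (h : Hyp T R φ) {a : G} (haN : a ∈ normalizer ((R : Subgroup G) : Set G))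
    (ha : orderOf a = 2) :
    Nat.card ↥(T ⊓ centralizer ({a} : Set G)) ^ 2 = Nat.card T := by
  haveI := h.normalT
  obtain ⟨y, hy, hzR, hz1⟩ := h.exists_second haN ha
  have haT := h.notMem_T_of_mem_N haN ha
  have ha'o : orderOf (y * a * y⁻¹) = 2 := by rw [orderOf_conj', ha]
  have ha'T : y * a * y⁻¹ ∉ T := by
    intro hh
    apply haT
    have := Subgroup.Normal.conj_mem (inferInstance : T.Normal) _ hh y⁻¹
    have h2 : y⁻¹ * (y * a * y⁻¹) * y⁻¹⁻¹ = a := by group
    rwa [h2] at this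
  have hsq : ∀ {b : G}, orderOf b = 2 → b * b = 1 := by
    intro b hb
    rw [← pow_two, ← hb, pow_orderOf_eq_one]
  have F1 := h.card_cent_mul_le hzR hz1
  have F2 := card_T_le T (hsq ha)
  have F2' := card_T_le T (hsq ha'o)
  have F3 := h.card_inv_mul_le ha ha'o haT ha'T hzR hz1
  rw [card_cent_conj T a y] at F1 F2'
  set c := Nat.card ↥(T ⊓ centralizer ({a} : Set G)) with hc
  set m := Nat.card T with hm
  set A := Nat.card (InvCoset T a) with hA
  set A' := Nat.card (InvCoset T (y * a * y⁻¹)) with hA'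
  have hmpos : 0 < m := Nat.card_pos
  have h1 : m * m ≤ (c * c) * m := by
    calc m * m ≤ (c * A) * (c * A') := Nat.mul_le_mul F2 F2'
      _ = (c * c) * (A * A') := by ring
      _ ≤ (c * c) * m := Nat.mul_le_mul_left _ F3
  have h2 : m ≤ c * c := Nat.le_of_mul_le_mul_right h1 hmpos
  rw [pow_two]
  exact le_antisymm F1 h2

end Hyp

end Cfsg.Agent.Helper5.DQ
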