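import Mathlib
import Cfsg.Agent.Helper5.F78Dat
import Cfsg.Agent.Helper5.Fi22vLPA

/-! generated: the relators number 46 to 46 of the presentation of `Fi₂₂` fix the 78 packed basis vectors -/

set_option autoImplicit false

namespace Cfsg.Agent.Helper5.F78

open Cfsg.Agent.Helper5.PackLA
open Cfsg.Agent.Helper5.Fi22vLP (R9)

set_option maxRecDepth 100000 in
theorem chk4 : ∀ i, 46 ≤ i → i < 47 → ∀ j, j < 78 →
    actN 65536 13 78 cols (R9.getD i []) (65536 ^ j) = 65536 ^ j := by decide +kernel

end Cfsg.Agent.Helper5.F78
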