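import Mathlib
import Cfsg.Agent.Helper5.F78Dat

/-! generated: the packed columns are well formed -/

set_option autoImplicit false

namespace Cfsg.Agent.Helper5.F78

open Cfsg.Agent.Helper5.PackLA

instance (B p n : ℕ) (cols : List ℕ) : Decidable (ColsOK B p n cols) := by
  unfold ColsOK; infer_instance

set_option maxRecDepth 100000 in
theorem cols_ok : ∀ c, c < 9 → ColsOK 65536 13 78 (cols c) := by decide +kernel

end Cfsg.Agent.Helper5.F78
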