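import Mathlib
import Cfsg.Prelude.Def_Spor_Fi22
import Cfsg.Agent.Helper5.F78ChkA
import Cfsg.Agent.Helper5.F78Chk0
import Cfsg.Agent.Helper5.F78Chk1
import Cfsg.Agent.Helper5.F78Chk2
import Cfsg.Agent.Helper5.F78Chk3
import Cfsg.Agent.Helper5.F78Chk4
import Cfsg.Agent.Helper5.F78Chk5
import Cfsg.Agent.Helper5.Fi22vIso

/-!
# The presented `Fi₂₂` embeds into `GL₇₈(13)`

Nine explicit `78 × 78` matrices modulo 13 (packed, `F78Dat`) satisfy the relators of the
presentation of `Fi₂₂` (checked with the packed linear algebra of `PackLA`); the presented group is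
simple, so the homomorphism they define is injective.
-/

set_option autoImplicit false

namespace Cfsg.Agent.Helper5.F78

open Cfsg.Agent.Helper5.LP Cfsg.Agent.Helper5.PackLA Cfsg.Spor
open Cfsg.Agent.Helper5.Fi22vLP (R9 lettersA)

/-- the image of a letter. -/
def MM (c : ℕ) : Matrix (Fin 78) (Fin 78) (ZMod 13) := matOf 65536 13 78 (cols c)

theorem R9_length : R9.length = 48 := by decide +kernel

theorem chk_all : ∀ i, i < 48 → ∀ j, j < 78 →
    actN 65536 13 78 cols (R9.getD i []) (65536 ^ j) = 65536 ^ j := by
  intro i hi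
  rcases Nat.lt_or_ge i 16 with h | h
  · exact chk0 i (Nat.zero_le _) h
  rcases Nat.lt_or_ge i 32 with h' | h'
  · exact chk1 i h h'
  rcases Nat.lt_or_ge i 45 with h'' | h''
  · exact chk2 i h' h''
  rcases Nat.lt_or_ge i 46 with h3 | h3
  · exact chk3 i h'' h3
  rcases Nat.lt_or_ge i 47 with h4 | h4
  · exact chk4 i h3 h4
  · exact chk5 i h4 hi

theorem MM_rels : ∀ l ∈ R9, (l.map MM).prod = 1 := by
  intro l hl
  obtain ⟨i, hi, rfl⟩ := List.getElem_of_mem hl
  have hi' : i < 48 := by rw [← R9_length]; exact hi
  refine prod_eq_one_of_check (B := 65536) (p := 13) (n := 78) (by norm_num) (by norm_num)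
    (by norm_num) cols R9[i] (fun c hc => cols_ok c (lettersA R9[i] hl c hc)) ?_
  intro j hj
  have h := chk_all i hi' j hj
  rw [List.getD_eq_getElem _ _ hi] at h
  exact h

theorem MM_sq (c : ℕ) (hc : c < 9) : MM c * MM c = 1 := by
  have h := MM_rels [c, c] (by interval_cases c <;> decide +kernel)
  simpa using h

/-- the general linear group, as an opaque type (to keep the instances syntactically simple). -/
def G78 : Type := Matrix.GeneralLinearGroup (Fin 78) (ZMod 13)

instance : Group G78 := inferInstanceAs (Group (Matrix.GeneralLinearGroup (Fin 78) (ZMod 13)))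

/-- the identity isomorphism. -/
def toGL : G78 ≃* Matrix.GeneralLinearGroup (Fin 78) (ZMod 13) := MulEquiv.refl _

/-- the matrix of an element. -/
def mval : G78 →* Matrix (Fin 78) (Fin 78) (ZMod 13) :=
  (Units.coeHom (Matrix (Fin 78) (Fin 78) (ZMod 13))).comp toGL.toMonoidHom

theorem mval_injective : Function.Injective mval := by
  intro a b h
  exact toGL.injective (Units.ext h)

/-- the images of the letters as invertible matrices. -/
def UU (c : ℕ) : G78 :=
  toGL.symm (if h : c < 9 then ⟨MM c, MM c, MM_sq c h, MM_sq c h⟩ else 1)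

theorem UU_val (c : ℕ) (hc : c < 9) : mval (UU c) = MM c := by
  unfold UU
  rw [dif_pos hc]
  rfl

theorem UU_prod_val (l : List ℕ) (hl : ∀ c ∈ l, c < 9) :
    mval ((l.map UU).prod) = (l.map MM).prod := by
  rw [map_list_prod, List.map_map]
  congr 1
  apply List.map_congr_left
  intro c hc
  exact UU_val c (hl c hc)

theorem UU_rels : ∀ l ∈ R9, (l.map UU).prod = 1 := by
  intro l hl
  apply mval_injective
  rw [UU_prod_val l (lettersA l hl), MM_rels l hl, map_one]

/-- the homomorphism from the list-presented group. -/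
def psi : LPG 9 R9 →* G78 := lift UU lettersA UU_rels

theorem MM_ne : MM 0 ≠ 1 := by
  intro h
  have h1 := congrFun (congrFun h 0) 1
  revert h1
  decide +kernel

theorem lift_injective {K : Type*} [Group K] (f : ℕ → K) (hf : ∀ l ∈ R9, (l.map f).prod = 1)
    (h0 : f 0 ≠ 1) : Function.Injective (lift f lettersA hf) := by
  have := Fi22vLP.simple_card.1
  rw [← MonoidHom.ker_eq_bot_iff]
  rcases (inferInstance : ((lift f lettersA hf).ker).Normal).eq_bot_or_eq_top with h | h
  · exact h
  · exfalso
    have h1 : ev 9 R9 [0] ∈ (lift f lettersA hf).ker := by rw [h]; exact Subgroup.mem_top _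
    have hlt : ∀ c ∈ [0], c < 9 := by
      intro c hc
      rw [List.mem_singleton] at hc
      omega
    have h2 : lift f lettersA hf (ev 9 R9 [0]) = 1 := h1
    rw [lift_ev f lettersA hf [0] hlt, List.map_cons, List.map_nil, List.prod_cons,
      List.prod_nil, mul_one] at h2
    exact h0 h2

theorem UU_ne : UU 0 ≠ 1 := by
  intro h
  have h2 := congrArg mval h
  rw [UU_val 0 (by norm_num), map_one] at h2
  exact MM_ne h2

theorem psi_injective : Function.Injective psi := lift_injective UU UU_rels UU_ne

/-- **The presented `Fi₂₂` is isomorphic to a subgroup of `GL₇₈(13)`.** -/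
theorem exists_embedding :
    ∃ f : Fi22 →* Matrix.GeneralLinearGroup (Fin 78) (ZMod 13), Function.Injective f := by
  obtain ⟨e⟩ := Fi22vLP.spor_equiv
  exact ⟨(toGL.toMonoidHom.comp psi).comp e.toMonoidHom,
    (toGL.injective.comp psi_injective).comp e.injective⟩

end Cfsg.Agent.Helper5.F78
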