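import Mathlib
import Cfsg.Agent.Helper2.Wt_Proj

/-!
# S4414 group prep (helper5, piece D)
-/

set_option linter.style.haveILetI false
set_option linter.unusedVariables false
set_option linter.unusedSectionVars false

namespace Cfsg.Agent.Helper5.Fg

variable {S : Type*} [Group S] [Finite S]

/-- A subgroup of order `p` or `p²` is commutative. -/
theorem h5_comm_of_card {p : ℕ} (hp : p.Prime) (A : Subgroup S)
    (hA : Nat.card ↥A = p ∨ Nat.card ↥A = p ^ 2) : ∀ a ∈ A, ∀ b ∈ A, a * b = b * a := by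
  haveI : Fact p.Prime := ⟨hp⟩
  intro a ha b hb
  have hc : IsMulCommutative ↥A := by
    rcases hA with h | h
    · haveI hcyc : IsCyclic ↥A := isCyclic_of_prime_card h
      exact IsCyclic.isMulCommutative
    · exact IsPGroup.isMulCommutative_of_card_eq_prime_sq (G := ↥A) h
  have h1 : (⟨a, ha⟩ : ↥A) * ⟨b, hb⟩ = ⟨b, hb⟩ * ⟨a, ha⟩ := hc.is_comm.comm _ _
  simpa using congrArg Subtype.val h1

/-- In an irreducible module on which the normal subgroup `A ≠ ⊥` acts faithfully, `A` has no nonzero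
fixed vector. -/
theorem h5_fixed_eq_zero {E : Type*} [AddCommGroup E] [Module (ZMod 2) E]
    (ρ : Representation (ZMod 2) S E)
    (hirr : ∀ N : Submodule (ZMod 2) E, (∀ s : S, ∀ m ∈ N, ρ s m ∈ N) → N = ⊥ ∨ N = ⊤)
    (A : Subgroup S) [hA : A.Normal] (hA1 : A ≠ ⊥)
    (hfaith : ∀ x ∈ A, ρ x = 1 → x = 1) (v : E) (hv : ∀ a ∈ A, ρ a v = v) : v = 0 := by
  let N : Submodule (ZMod 2) E :=
    { carrier := {w | ∀ a ∈ A, ρ a w = w}
      add_mem' := by
        intro x y hx hy a ha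
        rw [map_add, hx a ha, hy a ha]
      zero_mem' := by intro a _; simp
      smul_mem' := by
        intro c x hx a ha
        rw [map_smul, hx a ha] }
  have hN : ∀ s : S, ∀ m ∈ N, ρ s m ∈ N := by
    intro s m hm a ha
    have h1 : s⁻¹ * a * s ∈ A := by
      have := hA.conj_mem a ha s⁻¹
      simpa using this
    have h2 := hm _ h1
    have : ρ a (ρ s m) = ρ s (ρ (s⁻¹ * a * s) m) := by
      rw [← Module.End.mul_apply, ← Module.End.mul_apply, ← map_mul, ← map_mul]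
      congr 2; group
    rw [this, h2]
  rcases hirr N hN with h | h
  · have : v ∈ N := hv
    rw [h] at this
    simpa using this
  · exfalso
    apply hA1
    rw [Subgroup.eq_bot_iff_forall]
    intro x hx
    apply hfaith x hx
    ext w
    have : w ∈ N := by rw [h]; trivial
    simpa using this x hx

end Cfsg.Agent.Helper5.Fg

namespace Cfsg.Agent.Helper5.Fg

open scoped commutatorElement

variable {S : Type*} [Group S] [Finite S]

/-- A character of the normal subgroup `A` that is invariant under conjugation by `Q` is trivial as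
soon as `⁅A, Q⁆ = A`. -/
theorem h5_char_trivial {K : Type*} [CommMonoid K] (A Q : Subgroup S) [hA : A.Normal]
    (hcomm : ⁅A, Q⁆ = A) (χ : ↥A →* K)
    (hinv : ∀ y ∈ Q, ∀ a : ↥A, χ ⟨y * a * y⁻¹, hA.conj_mem a a.2 y⟩ = χ a) :
    ∀ a : ↥A, χ a = 1 := by
  have key : ∀ x ∈ ⁅A, Q⁆, ∃ hx : x ∈ A, χ ⟨x, hx⟩ = 1 := by
    intro x hx
    rw [Subgroup.commutator_def] at hx
    induction hx using Subgroup.closure_induction with
    | mem x hx =>
      obtain ⟨a, ha, y, hy, rfl⟩ := hx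
      have h1 : y * a⁻¹ * y⁻¹ ∈ A := hA.conj_mem _ (A.inv_mem ha) y
      have h2 : ⁅a, y⁆ = a * (y * a⁻¹ * y⁻¹) := by
        rw [commutatorElement_def]; group
      refine ⟨by rw [h2]; exact A.mul_mem ha h1, ?_⟩
      have h3 : (⟨⁅a, y⁆, by rw [h2]; exact A.mul_mem ha h1⟩ : ↥A)
          = ⟨a, ha⟩ * ⟨y * a⁻¹ * y⁻¹, h1⟩ := by
        apply Subtype.ext; simp only [Subgroup.coe_mul]; exact h2
      rw [h3, map_mul]
      have h4 := hinv y hy ⟨a⁻¹, A.inv_mem ha⟩
      simp only at h4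
      rw [h4, ← map_mul]
      have : (⟨a, ha⟩ : ↥A) * ⟨a⁻¹, A.inv_mem ha⟩ = 1 := by
        apply Subtype.ext; simp
      rw [this, map_one]
    | one => exact ⟨A.one_mem, by
        have : (⟨1, A.one_mem⟩ : ↥A) = 1 := rfl
        rw [this, map_one]⟩
    | mul x y _ _ hx hy =>
      obtain ⟨hxA, hx1⟩ := hx
      obtain ⟨hyA, hy1⟩ := hy
      refine ⟨A.mul_mem hxA hyA, ?_⟩
      have : (⟨x * y, A.mul_mem hxA hyA⟩ : ↥A) = ⟨x, hxA⟩ * ⟨y, hyA⟩ := rfl
      rw [this, map_mul, hx1, hy1, one_mul]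
    | inv x _ hx =>
      obtain ⟨hxA, hx1⟩ := hx
      refine ⟨A.inv_mem hxA, ?_⟩
      have h5 : (⟨x⁻¹, A.inv_mem hxA⟩ : ↥A) * ⟨x, hxA⟩ = 1 := by
        apply Subtype.ext; simp
      have h6 := congrArg χ h5
      rw [map_mul, hx1, mul_one, map_one] at h6
      exact h6
  intro a
  have ha : (a : S) ∈ ⁅A, Q⁆ := by rw [hcomm]; exact a.2
  obtain ⟨_, h⟩ := key a ha
  exact h

end Cfsg.Agent.Helper5.Fg

namespace Cfsg.Agent.Helper5.Fg

variable {S : Type*} [Group S] [Finite S]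

/-- A minimal normal subgroup of order `p` or `p²` has exponent `p`. -/
theorem h5_pow_eq_one_of_minimal {p : ℕ} (hp : p.Prime) (A : Subgroup S) [hA : A.Normal]
    (hcard : Nat.card ↥A = p ∨ Nat.card ↥A = p ^ 2)
    (hmin : ∀ N : Subgroup S, N.Normal → N ≤ A → N = ⊥ ∨ N = A) : ∀ a ∈ A, a ^ p = 1 := by
  haveI : Fact p.Prime := ⟨hp⟩
  have hcomm := h5_comm_of_card hp A hcard
  let Ω : Subgroup S :=
    { carrier := {a | a ∈ A ∧ a ^ p = 1}
      mul_mem' := by
        intro a b ha hb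
        refine ⟨A.mul_mem ha.1 hb.1, ?_⟩
        have hc : Commute a b := hcomm a ha.1 b hb.1
        rw [hc.mul_pow, ha.2, hb.2, one_mul]
      one_mem' := ⟨A.one_mem, one_pow p⟩
      inv_mem' := by
        intro a ha
        exact ⟨A.inv_mem ha.1, by rw [inv_pow, ha.2, inv_one]⟩ }
  have hΩN : Ω.Normal := by
    constructor
    intro a ha s
    exact ⟨hA.conj_mem a ha.1 s, by rw [conj_pow, ha.2, mul_one, mul_inv_cancel]⟩
  have hΩA : Ω ≤ A := fun a ha => ha.1
  have hdvd : p ∣ Nat.card ↥A := by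
    rcases hcard with h | h
    · rw [h]
    · rw [h]; exact dvd_pow_self p two_ne_zero
  obtain ⟨x, hx⟩ := exists_prime_orderOf_dvd_card' (G := ↥A) p hdvd
  have hxΩ : (x : S) ∈ Ω := by
    refine ⟨x.2, ?_⟩
    have h1 : x ^ p = 1 := by rw [← hx]; exact pow_orderOf_eq_one x
    have h2 := congrArg Subtype.val h1
    simpa using h2
  have hx1 : (x : S) ≠ 1 := by
    intro h
    have : x = 1 := Subtype.ext h
    rw [this, orderOf_one] at hx
    exact hp.one_lt.ne hx
  rcases hmin Ω hΩN hΩA with h | h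
  · exfalso
    rw [h, Subgroup.mem_bot] at hxΩ
    exact hx1 hxΩ
  · intro a ha
    have : a ∈ Ω := by rw [h]; exact ha
    exact this.2

/-- The same as `h5_char_trivial`, phrased with helper2's `Wt.twist`: a character of `A` fixed by the
twists of all elements of `Q` is trivial as soon as `⁅A, Q⁆ = A`. -/
theorem h5_twist_fixed_trivial {K : Type*} [Field K] (A Q : Subgroup S) [hA : A.Normal]
    (hcomm : ⁅A, Q⁆ = A) (χ : ↥A →* Kˣ)
    (hinv : ∀ y ∈ Q, Cfsg.Agent.Helper2.Wt.twist A y χ = χ) : χ = 1 := by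
  ext a
  have h := h5_char_trivial A Q hcomm χ (by
    intro y hy a
    have h1 := hinv y⁻¹ (Q.inv_mem hy)
    have h2 := DFunLike.congr_fun h1 a
    have h3 : Cfsg.Agent.Helper2.Wt.twist A y⁻¹ χ a = χ (MulAut.conjNormal (y⁻¹)⁻¹ a) := rfl
    rw [h3, inv_inv] at h2
    have h4 : (MulAut.conjNormal y a : ↥A) = ⟨y * a * y⁻¹, hA.conj_mem a a.2 y⟩ :=
      Subtype.ext (MulAut.conjNormal_apply y a)
    rw [h4] at h2
    exact h2) a
  rw [h]; rfl

end Cfsg.Agent.Helper5.Fg

namespace Cfsg.Agent.Helper5.Fg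

open Cfsg.Agent.Helper2.Wt

variable {S : Type*} [Group S] [Finite S]

/-- Orbit counting: if the subgroup `Q` of prime order `q` permutes the finite set `J` of characters
of `A` (by `Wt.twist`) and fixes none of them, then `q ∣ #J`. -/
theorem h5_prime_dvd_card_of_invariant {K : Type*} [Field K] (A Q : Subgroup S) [hA : A.Normal]
    {q : ℕ} (hq : q.Prime) (hQ : Nat.card ↥Q = q) (J : Finset (↥A →* Kˣ))
    (hJ : ∀ y ∈ Q, ∀ χ ∈ J, twist A y χ ∈ J)
    (hfix : ∀ χ ∈ J, ∃ y ∈ Q, twist A y χ ≠ χ) : q ∣ J.card := by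
  haveI : Fact q.Prime := ⟨hq⟩
  letI : MulAction ↥Q {χ // χ ∈ J} :=
    { smul := fun y χ => ⟨twist A (y : S) χ.1, hJ y y.2 χ.1 χ.2⟩
      one_smul := by
        intro χ
        apply Subtype.ext
        show twist A ((1 : ↥Q) : S) χ.1 = χ.1
        rw [Subgroup.coe_one, twist_one]
      mul_smul := by
        intro x y χ
        apply Subtype.ext
        show twist A ((x * y : ↥Q) : S) χ.1 = twist A (x : S) (twist A (y : S) χ.1)
        rw [Subgroup.coe_mul, twist_mul] }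
  have hQp : IsPGroup q ↥Q := IsPGroup.of_card (n := 1) (by rw [hQ, pow_one])
  have h := hQp.card_modEq_card_fixedPoints {χ // χ ∈ J}
  have hempty : IsEmpty (MulAction.fixedPoints ↥Q {χ // χ ∈ J}) := by
    constructor
    rintro ⟨χ, hχ⟩
    obtain ⟨y, hy, hne⟩ := hfix χ.1 χ.2
    apply hne
    have := hχ ⟨y, hy⟩
    exact congrArg Subtype.val this
  have h0 : Nat.card (MulAction.fixedPoints ↥Q {χ // χ ∈ J}) = 0 := Nat.card_of_isEmpty
  rw [h0, Nat.card_eq_fintype_card, Fintype.card_coe] at h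
  exact (Nat.modEq_zero_iff_dvd).1 h

/-- Orbit counting with the hypothesis `⁅A, Q⁆ = A`: a `Q`-invariant finite set of non-trivial
characters of `A` has cardinality divisible by `q = |Q|`. -/
theorem h5_prime_dvd_card_of_commutator {K : Type*} [Field K] (A Q : Subgroup S) [hA : A.Normal]
    (hcomm : ⁅A, Q⁆ = A) {q : ℕ} (hq : q.Prime) (hQ : Nat.card ↥Q = q) (J : Finset (↥A →* Kˣ))
    (hJ : ∀ y ∈ Q, ∀ χ ∈ J, twist A y χ ∈ J) (h1 : (1 : ↥A →* Kˣ) ∉ J) : q ∣ J.card := by
  apply h5_prime_dvd_card_of_invariant A Q hq hQ J hJ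
  intro χ hχ
  by_contra hcon
  have hall : ∀ y ∈ Q, twist A y χ = χ := by
    intro y hy
    by_contra hne
    exact hcon ⟨y, hy, hne⟩
  have := h5_twist_fixed_trivial A Q hcomm χ hall
  rw [this] at hχ
  exact h1 hχ

end Cfsg.Agent.Helper5.Fg
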