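import Mathlib

/-!
# S4414: a 2-group acting on a finite nonzero subspace in characteristic 2 fixes a nonzero vector
(helper5)
-/

set_option autoImplicit false
set_option linter.style.haveILetI false
set_option linter.unusedVariables false
set_option linter.unusedSectionVars false

namespace Cfsg.Agent.Helper5.Fg

variable {S : Type*} [Group S]

/-- Let `σ` be a representation of `S` on a finite `K`-module `W`, `K` of characteristic 2, `T` a
2-subgroup of `S` and `V ≠ ⊥` a `T`-invariant subspace.  Then `V` contains a nonzero `T`-fixed vector. -/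
theorem h5_exists_fixed_ne_zero {K : Type*} [Field K] [CharP K 2] {W : Type*} [AddCommGroup W]
    [Module K W] [Finite W] (σ : Representation K S W) (T : Subgroup S) (hT : IsPGroup 2 ↥T)
    (V : Submodule K W) (hV : ∀ t ∈ T, ∀ x ∈ V, σ t x ∈ V) (hV0 : V ≠ ⊥) :
    ∃ f ∈ V, f ≠ 0 ∧ ∀ t ∈ T, σ t f = f := by
  haveI : Fact (Nat.Prime 2) := ⟨Nat.prime_two⟩
  letI : MulAction ↥T ↥V :=
    { smul := fun t x => ⟨σ (t : S) x.1, hV t t.2 x.1 x.2⟩
      one_smul := by
        intro x
        apply Subtype.ext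
        show σ ((1 : ↥T) : S) x.1 = x.1
        rw [Subgroup.coe_one, map_one]; rfl
      mul_smul := by
        intro s t x
        apply Subtype.ext
        show σ ((s * t : ↥T) : S) x.1 = σ (s : S) (σ (t : S) x.1)
        rw [Subgroup.coe_mul, map_mul]; rfl }
  have h := hT.card_modEq_card_fixedPoints ↥V
  -- `|V|` is even
  obtain ⟨v, hvV, hv0⟩ := (Submodule.ne_bot_iff V).1 hV0
  have h2 : 2 ∣ Nat.card ↥V := by
    let v' : ↥V := ⟨v, hvV⟩
    have hv' : v' ≠ 0 := fun h => hv0 (congrArg Subtype.val h)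
    have hord : addOrderOf v' = 2 := by
      apply addOrderOf_eq_prime
      · rw [two_nsmul]
        have : v' + v' = (2 : K) • v' := by rw [two_smul]
        rw [this, CharP.ofNat_eq_zero K 2, zero_smul]
      · exact hv'
    rw [← hord]
    exact addOrderOf_dvd_natCard v'
  have h3 : 2 ∣ Nat.card (MulAction.fixedPoints ↥T ↥V) := by
    have := (Nat.modEq_zero_iff_dvd.2 h2).symm.trans h
    exact Nat.modEq_zero_iff_dvd.1 this.symm
  have h0 : (0 : ↥V) ∈ MulAction.fixedPoints ↥T ↥V := by
    intro t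
    apply Subtype.ext
    show σ (t : S) (0 : W) = 0
    rw [map_zero]
  have hcard : 1 < Nat.card (MulAction.fixedPoints ↥T ↥V) := by
    have hpos : 0 < Nat.card (MulAction.fixedPoints ↥T ↥V) :=
      Nat.card_pos_iff.2 ⟨⟨⟨0, h0⟩⟩, inferInstance⟩
    rcases h3 with ⟨k, hk⟩
    omega
  haveI hnt : Nontrivial (MulAction.fixedPoints ↥T ↥V) := Finite.one_lt_card_iff_nontrivial.1 hcard
  obtain ⟨⟨x, hx⟩, hne⟩ := exists_ne (⟨0, h0⟩ : MulAction.fixedPoints ↥T ↥V)
  refine ⟨x.1, x.2, ?_, ?_⟩
  · intro hx0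
    apply hne
    apply Subtype.ext
    apply Subtype.ext
    exact hx0
  · intro t ht
    have := hx ⟨t, ht⟩
    exact congrArg Subtype.val this

end Cfsg.Agent.Helper5.Fg
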