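import Mathlib

/-!
# Feit–Higman: the arithmetic endgame (helper5)

If `a, b ≥ 1` are natural numbers, `m ≥ 2`, and `√(ab)·cos(2πj/m)` is rational for every
`j` with `1 ≤ j` and `2j < m`, then `m ∈ {2,3,4,6,8}`.
-/

set_option linter.style.haveILetI false
set_option linter.unusedVariables false

namespace Cfsg.Agent.Helper5.Fh

open Real

/-- `cos (4π/m)` rational forces `m ∣ 4, 8` or `12`. -/
theorem h5_cos_four_pi_div_rat {m : ℕ} (hm : 0 < m)
    (h : ∃ q : ℚ, Real.cos (4 * π / m) = q) : m ∣ 4 ∨ m ∣ 8 ∨ m ∣ 12 := by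
  set r : ℚ := (4 : ℚ) / m with hr
  have hden : r.den ≤ 3 := by
    by_contra hlt
    rw [not_le] at hlt
    have hirr := irrational_cos_rat_mul_pi (r := r) hlt
    obtain ⟨q, hq⟩ := h
    apply hirr
    refine ⟨q, ?_⟩
    rw [← hq]
    congr 1
    rw [hr]; push_cast; ring
  have hmq : (m : ℚ) ≠ 0 := by exact_mod_cast hm.ne'
  have hkey : (r.num : ℚ) * m = 4 * r.den := by
    have h1 : (r.num : ℚ) = r * r.den := by
      have := Rat.mul_den_eq_num r
      exact this.symm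
    rw [h1, hr]; field_simp
  have hkeyZ : r.num * (m : ℤ) = 4 * (r.den : ℤ) := by exact_mod_cast hkey
  have hdvd : (m : ℤ) ∣ 4 * (r.den : ℤ) := ⟨r.num, by rw [← hkeyZ]; ring⟩
  have hdvdN : m ∣ 4 * r.den := by exact_mod_cast hdvd
  have hpos : 0 < r.den := r.den_pos
  have h3 : r.den = 1 ∨ r.den = 2 ∨ r.den = 3 := by omega
  rcases h3 with h1 | h1 | h1 <;> rw [h1] at hdvdN
  · left; simpa using hdvdN
  · right; left; simpa using hdvdN
  · right; right; simpa using hdvdN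

/-- The Feit–Higman arithmetic endgame. -/
theorem h5_fh_endgame (m a b : ℕ) (hm : 2 ≤ m) (ha : 1 ≤ a) (hb : 1 ≤ b)
    (h : ∀ j : ℕ, 1 ≤ j → 2 * j < m →
      ∃ q : ℚ, Real.sqrt ((a : ℝ) * b) * Real.cos (2 * π * j / m) = q) :
    m ∈ ({2, 3, 4, 6, 8} : Set ℕ) := by
  have hab : (0 : ℝ) < (a : ℝ) * b := by positivity
  by_cases hm4 : m ≤ 4
  · interval_cases m <;> simp
  rw [not_le] at hm4
  -- j = 1
  obtain ⟨q1, hq1⟩ := h 1 le_rfl (by omega)
  rw [Nat.cast_one, mul_one] at hq1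
  have hsq : Real.sqrt ((a : ℝ) * b) ^ 2 = (a : ℝ) * b := Real.sq_sqrt hab.le
  have hcos4 : ∃ q : ℚ, Real.cos (4 * π / m) = q := by
    have h2 : Real.cos (4 * π / m) = 2 * Real.cos (2 * π / m) ^ 2 - 1 := by
      rw [← Real.cos_two_mul]; congr 1; ring
    have h3 : (a : ℝ) * b * Real.cos (2 * π / m) ^ 2 = (q1 : ℝ) ^ 2 := by
      rw [← hq1, mul_pow, hsq]
    refine ⟨2 * (q1 ^ 2 / ((a : ℚ) * b)) - 1, ?_⟩
    have h4 : Real.cos (2 * π / m) ^ 2 = (q1 : ℝ) ^ 2 / ((a : ℝ) * b) := by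
      rw [eq_div_iff hab.ne']
      linarith [h3]
    rw [h2, h4]
    push_cast
    ring
  have hdiv := h5_cos_four_pi_div_rat (by omega : 0 < m) hcos4
  have hmle : m ≤ 12 := by
    rcases hdiv with h1 | h1 | h1
    · exact le_trans (Nat.le_of_dvd (by norm_num) h1) (by norm_num)
    · exact le_trans (Nat.le_of_dvd (by norm_num) h1) (by norm_num)
    · exact Nat.le_of_dvd (by norm_num) h1
  have hcases : m = 6 ∨ m = 8 ∨ m = 12 := by
    interval_cases m <;> revert hdiv <;> decide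
  rcases hcases with rfl | rfl | rfl
  · simp
  · simp
  · -- m = 12 is impossible
    exfalso
    obtain ⟨q2, hq2⟩ := h 2 (by norm_num) (by norm_num)
    have hc1 : Real.cos (2 * π / (12 : ℕ)) = Real.sqrt 3 / 2 := by
      rw [← Real.cos_pi_div_six]; congr 1; push_cast; ring
    have hc2 : Real.cos (2 * π * (2 : ℕ) / (12 : ℕ)) = 1 / 2 := by
      rw [← Real.cos_pi_div_three]; congr 1; push_cast; ring
    rw [hc1] at hq1
    rw [hc2] at hq2
    have hs : Real.sqrt ((a : ℝ) * b) = 2 * (q2 : ℝ) := by linarith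
    have hq2ne : (q2 : ℝ) ≠ 0 := by
      intro h0
      rw [h0, mul_zero] at hs
      have := Real.sqrt_pos.mpr hab
      linarith
    have h3 : Real.sqrt 3 = (q1 : ℝ) / (q2 : ℝ) := by
      rw [hs] at hq1
      field_simp
      linarith
    have hirr : Irrational (Real.sqrt 3) := by
      have : Nat.Prime 3 := by norm_num
      simpa using this.irrational_sqrt
    apply hirr
    exact ⟨q1 / q2, by push_cast; exact h3.symm⟩

end Cfsg.Agent.Helper5.Fh
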