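import Mathlib

/-!
# Feit–Higman: rationality of `y` from rationality of two generic degrees (helper5)
-/

set_option linter.style.haveILetI false
set_option linter.unusedVariables false

namespace Cfsg.Agent.Helper5.Fh

/-- If `(A+2y)(B-2y)/(P-y²)` and `(A-2y)(B+2y)/(P-y²)` are both rational, where `A, B, P` are
rational with `A ≠ B`, `A * B ≠ 4 * P` and `y² ≠ P`, then `y` is rational. -/
theorem h5_rat_of_two_degrees (A B P : ℚ) (y : ℝ) (hP : y ^ 2 ≠ (P : ℝ))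
    (hAB : A ≠ B) (h4 : A * B ≠ 4 * P) (r₁ r₂ : ℚ)
    (h₁ : ((A : ℝ) + 2 * y) * ((B : ℝ) - 2 * y) / ((P : ℝ) - y ^ 2) = r₁)
    (h₂ : ((A : ℝ) - 2 * y) * ((B : ℝ) + 2 * y) / ((P : ℝ) - y ^ 2) = r₂) :
    ∃ q : ℚ, y = q := by
  have hD : (P : ℝ) - y ^ 2 ≠ 0 := fun h => hP (by linarith)
  rw [div_eq_iff hD] at h₁ h₂
  -- sum and difference
  have hs : 2 * ((A : ℝ) * B - 4 * y ^ 2) = ((r₁ : ℝ) + r₂) * ((P : ℝ) - y ^ 2) := by
    linear_combination h₁ + h₂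
  have hd : 4 * y * ((B : ℝ) - A) = ((r₁ : ℝ) - r₂) * ((P : ℝ) - y ^ 2) := by
    linear_combination h₁ - h₂
  -- y² is rational
  have hs8 : (r₁ : ℝ) + r₂ ≠ 8 := by
    intro h8
    rw [h8] at hs
    apply h4
    have : (A : ℝ) * B = 4 * P := by linarith
    exact_mod_cast this
  have hy2 : y ^ 2 = (((r₁ + r₂) * P - 2 * (A * B)) / (r₁ + r₂ - 8) : ℚ) := by
    push_cast
    rw [eq_div_iff (sub_ne_zero.mpr hs8)]
    linear_combination hs
  have hBA : (B : ℝ) - A ≠ 0 := by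
    intro h0
    apply hAB
    have : (A : ℝ) = B := by linarith
    exact_mod_cast this
  refine ⟨(r₁ - r₂) * (P - ((r₁ + r₂) * P - 2 * (A * B)) / (r₁ + r₂ - 8)) / (4 * (B - A)), ?_⟩
  have : y = ((r₁ : ℝ) - r₂) * ((P : ℝ) - y ^ 2) / (4 * ((B : ℝ) - A)) := by
    rw [eq_div_iff (mul_ne_zero (by norm_num) hBA)]
    linear_combination hd
  rw [hy2] at this
  rw [this]
  push_cast
  ring

end Cfsg.Agent.Helper5.Fh
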