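import Mathlib
import Cfsg.Agent.Helper7.FHDefs

/-!
# S1142 piece L12 : telescoping trigonometric sums (helper5)

Besides `trig_sums` (verbatim from the blueprint) this file has the two general
sum formulas `h5_sum_two_cos_sq`, `h5_sum_sin_comb_sq` used for L13a and L14a.
-/

set_option autoImplicit false
set_option linter.unusedVariables false
set_option linter.unusedSectionVars false
set_option linter.style.longLine false
set_option linter.unusedTactic false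
set_option linter.unreachableTactic false

namespace Cfsg.Agent.Helper7.FH

open Matrix Finset

theorem h5_two_sin_mul_cos (θ x : ℝ) :
    2 * Real.sin θ * Real.cos x = Real.sin (x + θ) - Real.sin (x - θ) := by
  rw [Real.sin_add, Real.sin_sub]; ring

theorem trig_sums (θ : ℝ) (hs : Real.sin θ ≠ 0) (N : ℕ) :
    2 * Real.sin θ * ∑ k ∈ Finset.range N, Real.cos (2 * k * θ) =
      Real.sin ((2 * N - 1) * θ) + Real.sin θ ∧
    2 * Real.sin θ * ∑ k ∈ Finset.range N, Real.cos ((2 * k + 1) * θ) = Real.sin (2 * N * θ) := by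
  constructor
  · induction N with
    | zero =>
      have e : (2 * ((0 : ℕ) : ℝ) - 1) * θ = -θ := by push_cast; ring
      rw [Finset.sum_range_zero, e, Real.sin_neg]; ring
    | succ n ih =>
      rw [Finset.sum_range_succ, mul_add, ih, h5_two_sin_mul_cos]
      have e1 : 2 * (n : ℝ) * θ + θ = (2 * ((n + 1 : ℕ) : ℝ) - 1) * θ := by push_cast; ring
      have e2 : 2 * (n : ℝ) * θ - θ = (2 * (n : ℝ) - 1) * θ := by ring
      rw [e1, e2]; ring
  · induction N with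
    | zero =>
      have e : 2 * ((0 : ℕ) : ℝ) * θ = 0 := by push_cast; ring
      rw [Finset.sum_range_zero, e, Real.sin_zero]; ring
    | succ n ih =>
      rw [Finset.sum_range_succ, mul_add, ih, h5_two_sin_mul_cos]
      have e1 : (2 * (n : ℝ) + 1) * θ + θ = 2 * ((n + 1 : ℕ) : ℝ) * θ := by push_cast; ring
      have e2 : (2 * (n : ℝ) + 1) * θ - θ = 2 * (n : ℝ) * θ := by ring
      rw [e1, e2]; ring

/-- `∑_{i<N} (2 cos (iθ))² = 2N + 2 ∑_{i<N} cos (2iθ)`. -/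
theorem h5_sum_two_cos_sq (θ : ℝ) (N : ℕ) :
    ∑ i ∈ Finset.range N, (2 * Real.cos (i * θ)) ^ 2 =
      2 * (N : ℝ) + 2 * ∑ i ∈ Finset.range N, Real.cos (2 * i * θ) := by
  have h : ∀ i ∈ Finset.range N, (2 * Real.cos ((i : ℝ) * θ)) ^ 2 =
      2 + 2 * Real.cos (2 * (i : ℝ) * θ) := by
    intro i _
    have := Real.cos_sq ((i : ℝ) * θ)
    rw [show 2 * ((i : ℝ) * θ) = 2 * (i : ℝ) * θ by ring] at this
    rw [mul_pow, this]; ring
  rw [Finset.sum_congr rfl h, Finset.sum_add_distrib, Finset.sum_const, Finset.card_range,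
    ← Finset.mul_sum, nsmul_eq_mul]
  ring

/-- the same sum over `Ico 1 N`. -/
theorem h5_sum_two_cos_sq_Ico (θ : ℝ) (N : ℕ) (hN : 1 ≤ N) :
    ∑ i ∈ Finset.Ico 1 N, (2 * Real.cos (i * θ)) ^ 2 =
      2 * (N : ℝ) + 2 * (∑ i ∈ Finset.range N, Real.cos (2 * i * θ)) - 4 := by
  have h := h5_sum_two_cos_sq θ N
  rw [Finset.range_eq_Ico, Finset.sum_eq_sum_Ico_succ_bot (by omega : 0 < N)] at h
  rw [← Finset.range_eq_Ico] at h
  have e : (((0 : ℕ) : ℝ)) * θ = 0 := by push_cast; ring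
  rw [e, Real.cos_zero] at h
  have h' : ∑ i ∈ Finset.Ico (0 + 1) N, (2 * Real.cos ((i : ℝ) * θ)) ^ 2 =
      ∑ i ∈ Finset.Ico 1 N, (2 * Real.cos ((i : ℝ) * θ)) ^ 2 := by rw [zero_add]
  rw [h'] at h
  linarith

theorem h5_sin_comb_sq (α β x θ : ℝ) :
    (α * Real.sin x + β * Real.sin (x + θ)) ^ 2 =
      (α ^ 2 + β ^ 2) / 2 + α * β * Real.cos θ - α ^ 2 / 2 * Real.cos (2 * x)
        - β ^ 2 / 2 * Real.cos (2 * (x + θ)) - α * β * Real.cos (2 * x + θ) := by
  have h1 := Real.sin_sq_eq_half_sub x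
  have h2 := Real.sin_sq_eq_half_sub (x + θ)
  have h3 := Real.cos_sub (x + θ) x
  rw [show x + θ - x = θ by ring] at h3
  have h4 := Real.cos_add (x + θ) x
  rw [show x + θ + x = 2 * x + θ by ring] at h4
  linear_combination α ^ 2 * h1 + β ^ 2 * h2 - α * β * h3 + α * β * h4

/-- `∑_{i<N} (α sin (iθ) + β sin ((i+1)θ))²` in terms of the two basic cosine sums. -/
theorem h5_sum_sin_comb_sq (α β θ : ℝ) (N : ℕ) :
    ∑ i ∈ Finset.range N, (α * Real.sin (i * θ) + β * Real.sin ((i + 1) * θ)) ^ 2 =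
      (N : ℝ) * ((α ^ 2 + β ^ 2) / 2 + α * β * Real.cos θ)
        - α ^ 2 / 2 * ∑ i ∈ Finset.range N, Real.cos (2 * i * θ)
        - β ^ 2 / 2 * (∑ i ∈ Finset.range (N + 1), Real.cos (2 * i * θ) - 1)
        - α * β * ∑ i ∈ Finset.range N, Real.cos ((2 * i + 1) * θ) := by
  have h : ∀ i ∈ Finset.range N,
      (α * Real.sin ((i : ℝ) * θ) + β * Real.sin (((i : ℝ) + 1) * θ)) ^ 2 =
      ((α ^ 2 + β ^ 2) / 2 + α * β * Real.cos θ) - α ^ 2 / 2 * Real.cos (2 * (i : ℝ) * θ)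
        - β ^ 2 / 2 * Real.cos (2 * ((i + 1 : ℕ) : ℝ) * θ)
        - α * β * Real.cos ((2 * (i : ℝ) + 1) * θ) := by
    intro i _
    rw [show ((i : ℝ) + 1) * θ = (i : ℝ) * θ + θ by ring, h5_sin_comb_sq]
    rw [show 2 * ((i : ℝ) * θ) = 2 * (i : ℝ) * θ by ring,
      show 2 * ((i : ℝ) * θ + θ) = 2 * ((i + 1 : ℕ) : ℝ) * θ by push_cast; ring,
      show 2 * (i : ℝ) * θ + θ = (2 * (i : ℝ) + 1) * θ by ring]
  rw [Finset.sum_congr rfl h]
  rw [Finset.sum_sub_distrib, Finset.sum_sub_distrib, Finset.sum_sub_distrib, Finset.sum_const,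
    Finset.card_range, nsmul_eq_mul, ← Finset.mul_sum, ← Finset.mul_sum, ← Finset.mul_sum]
  rw [Finset.sum_range_succ' (fun i : ℕ => Real.cos (2 * (i : ℝ) * θ)) N]
  have e : 2 * (((0 : ℕ) : ℝ)) * θ = 0 := by push_cast; ring
  rw [e, Real.cos_zero]
  ring

end Cfsg.Agent.Helper7.FH
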