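import Mathlib
import Cfsg.Agent.Helper7.FHDefs
import Cfsg.Agent.Helper5.Fh_L12

/-!
# S1142 piece L13a : `trig_even` (helper5)
-/

set_option autoImplicit false
set_option linter.unusedVariables false
set_option linter.unusedSectionVars false
set_option linter.style.longLine false
set_option linter.unusedTactic false
set_option linter.unreachableTactic false

namespace Cfsg.Agent.Helper7.FH

open Matrix Finset

theorem trig_even (d' j : ℕ) (hj : 1 ≤ j) (hjd : j < d') (α β : ℝ) :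
    (∑ i ∈ Finset.range (d' + 1), (2 * Real.cos (i * (Real.pi * j / d'))) ^ 2 +
      ∑ i ∈ Finset.Ico 1 d', (2 * Real.cos (i * (Real.pi * j / d'))) ^ 2 = 4 * (d' : ℝ)) ∧
    (∑ i ∈ Finset.range d', (α * Real.sin (i * (Real.pi * j / d')) +
        β * Real.sin ((i + 1) * (Real.pi * j / d'))) ^ 2 =
      (d' : ℝ) / 2 * (α ^ 2 + β ^ 2 + 2 * α * β * Real.cos (Real.pi * j / d'))) := by
  set θ : ℝ := Real.pi * j / d' with hθ
  have hd0 : (0 : ℝ) < (d' : ℝ) := by exact_mod_cast (by omega : 0 < d')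
  have hj0 : (0 : ℝ) < (j : ℝ) := by exact_mod_cast (by omega : 0 < j)
  have hjd' : (j : ℝ) < (d' : ℝ) := by exact_mod_cast hjd
  have hθ0 : 0 < θ := by rw [hθ]; positivity
  have hθπ : θ < Real.pi := by
    rw [hθ, div_lt_iff₀ hd0]
    exact mul_lt_mul_of_pos_left hjd' Real.pi_pos
  have hs : Real.sin θ ≠ 0 := (Real.sin_pos_of_pos_of_lt_pi hθ0 hθπ).ne'
  have hdθ : (d' : ℝ) * θ = j * Real.pi := by rw [hθ]; field_simp
  -- the three basic sums
  have hA : ∑ i ∈ Finset.range d', Real.cos (2 * i * θ) = 0 := by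
    have h := (trig_sums θ hs d').1
    rw [show (2 * (d' : ℝ) - 1) * θ = (j : ℝ) * (2 * Real.pi) - θ by
      rw [sub_mul, mul_assoc, hdθ]; ring, Real.sin_nat_mul_two_pi_sub, neg_add_cancel] at h
    rcases mul_eq_zero.1 h with h0 | h0
    · exact absurd (by linarith : Real.sin θ = 0) hs
    · exact h0
  have hA1 : ∑ i ∈ Finset.range (d' + 1), Real.cos (2 * i * θ) = 1 := by
    rw [Finset.sum_range_succ, hA, zero_add,
      show 2 * (d' : ℝ) * θ = (j : ℝ) * (2 * Real.pi) by rw [mul_assoc, hdθ]; ring,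
      Real.cos_nat_mul_two_pi]
  have hB : ∑ i ∈ Finset.range d', Real.cos ((2 * i + 1) * θ) = 0 := by
    have h := (trig_sums θ hs d').2
    rw [show 2 * (d' : ℝ) * θ = ((2 * j : ℕ) : ℝ) * Real.pi by
      rw [mul_assoc, hdθ]; push_cast; ring, Real.sin_nat_mul_pi] at h
    rcases mul_eq_zero.1 h with h0 | h0
    · exact absurd (by linarith : Real.sin θ = 0) hs
    · exact h0
  constructor
  · rw [h5_sum_two_cos_sq, h5_sum_two_cos_sq_Ico θ d' (by omega), hA, hA1]
    push_cast; ring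
  · rw [h5_sum_sin_comb_sq, hA, hA1, hB]
    ring

end Cfsg.Agent.Helper7.FH
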