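import Mathlib
import Cfsg.Agent.Helper7.FHDefs
import Cfsg.Agent.Helper5.Fh_L12

/-!
# S1142 piece L14a : `trig_odd` (helper5)
-/

set_option autoImplicit false
set_option linter.unusedVariables false
set_option linter.unusedSectionVars false
set_option linter.style.longLine false
set_option linter.unusedTactic false
set_option linter.unreachableTactic false

namespace Cfsg.Agent.Helper7.FH

open Matrix Finset

theorem h5_sum_sin_add_sq (θ : ℝ) (N : ℕ) :
    ∑ i ∈ Finset.range N, (Real.sin (i * θ) + Real.sin ((i + 1) * θ)) ^ 2 =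
      (N : ℝ) * (1 + Real.cos θ)
        - 1 / 2 * ∑ i ∈ Finset.range N, Real.cos (2 * i * θ)
        - 1 / 2 * (∑ i ∈ Finset.range (N + 1), Real.cos (2 * i * θ) - 1)
        - ∑ i ∈ Finset.range N, Real.cos ((2 * i + 1) * θ) := by
  have h := h5_sum_sin_comb_sq 1 1 θ N
  simp only [one_mul] at h
  rw [h]; ring

theorem trig_odd (d' j : ℕ) (hj : 1 ≤ j) (hjd : j ≤ d') :
    (∑ i ∈ Finset.range (d' + 1), (2 * Real.cos (i * (2 * Real.pi * j / (2 * d' + 1)))) ^ 2 +
      ∑ i ∈ Finset.Ico 1 (d' + 1), (2 * Real.cos (i * (2 * Real.pi * j / (2 * d' + 1)))) ^ 2 =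
        2 * (2 * (d' : ℝ) + 1)) ∧
    (∑ i ∈ Finset.range (d' + 1), (Real.sin (i * (2 * Real.pi * j / (2 * d' + 1))) +
        Real.sin ((i + 1) * (2 * Real.pi * j / (2 * d' + 1)))) ^ 2 +
      ∑ i ∈ Finset.range d', (Real.sin (i * (2 * Real.pi * j / (2 * d' + 1))) +
        Real.sin ((i + 1) * (2 * Real.pi * j / (2 * d' + 1)))) ^ 2 =
        (2 * (d' : ℝ) + 1) * (1 + Real.cos (2 * Real.pi * j / (2 * d' + 1)))) := by
  set θ : ℝ := 2 * Real.pi * j / (2 * d' + 1) with hθ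
  have hM0 : (0 : ℝ) < 2 * (d' : ℝ) + 1 := by positivity
  have hj0 : (0 : ℝ) < (j : ℝ) := by exact_mod_cast (by omega : 0 < j)
  have hjd' : 2 * (j : ℝ) < 2 * (d' : ℝ) + 1 := by exact_mod_cast (by omega : 2 * j < 2 * d' + 1)
  have hθ0 : 0 < θ := by rw [hθ]; positivity
  have hθπ : θ < Real.pi := by
    rw [hθ, div_lt_iff₀ hM0]
    nlinarith [Real.pi_pos]
  have hs : Real.sin θ ≠ 0 := (Real.sin_pos_of_pos_of_lt_pi hθ0 hθπ).ne'
  have hMθ : (2 * (d' : ℝ) + 1) * θ = j * (2 * Real.pi) := by rw [hθ]; field_simp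
  -- the basic sums
  have hA1 : ∑ i ∈ Finset.range (d' + 1), Real.cos (2 * i * θ) = 1 / 2 := by
    have h := (trig_sums θ hs (d' + 1)).1
    rw [show (2 * ((d' + 1 : ℕ) : ℝ) - 1) * θ = ((2 * j : ℕ) : ℝ) * Real.pi by
      rw [show (2 * ((d' + 1 : ℕ) : ℝ) - 1) = 2 * (d' : ℝ) + 1 by push_cast; ring, hMθ]
      push_cast; ring, Real.sin_nat_mul_pi, zero_add] at h
    have h2 : Real.sin θ * (2 * ∑ i ∈ Finset.range (d' + 1), Real.cos (2 * i * θ)) =
        Real.sin θ * 1 := by linarith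
    have := mul_left_cancel₀ hs h2
    linarith
  have hA0 : ∑ i ∈ Finset.range d', Real.cos (2 * i * θ) = 1 / 2 - Real.cos θ := by
    have h := hA1
    rw [Finset.sum_range_succ,
      show 2 * (d' : ℝ) * θ = (j : ℝ) * (2 * Real.pi) - θ by rw [← hMθ]; ring,
      Real.cos_nat_mul_two_pi_sub] at h
    linarith
  have hA2 : ∑ i ∈ Finset.range (d' + 1 + 1), Real.cos (2 * i * θ) = 1 / 2 + Real.cos θ := by
    rw [Finset.sum_range_succ, hA1,
      show 2 * ((d' + 1 : ℕ) : ℝ) * θ = θ + (j : ℝ) * (2 * Real.pi) by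
        rw [← hMθ]; push_cast; ring,
      Real.cos_add_nat_mul_two_pi]
  have hB1 : ∑ i ∈ Finset.range (d' + 1), Real.cos ((2 * i + 1) * θ) = 1 / 2 := by
    have h := (trig_sums θ hs (d' + 1)).2
    rw [show 2 * ((d' + 1 : ℕ) : ℝ) * θ = θ + (j : ℝ) * (2 * Real.pi) by
        rw [← hMθ]; push_cast; ring,
      Real.sin_add_nat_mul_two_pi] at h
    have h2 : Real.sin θ * (2 * ∑ i ∈ Finset.range (d' + 1), Real.cos ((2 * i + 1) * θ)) =
        Real.sin θ * 1 := by linarith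
    have := mul_left_cancel₀ hs h2
    linarith
  have hB0 : ∑ i ∈ Finset.range d', Real.cos ((2 * i + 1) * θ) = -(1 / 2) := by
    have h := (trig_sums θ hs d').2
    rw [show 2 * (d' : ℝ) * θ = (j : ℝ) * (2 * Real.pi) - θ by rw [← hMθ]; ring,
      Real.sin_nat_mul_two_pi_sub] at h
    have h2 : Real.sin θ * (2 * ∑ i ∈ Finset.range d', Real.cos ((2 * i + 1) * θ)) =
        Real.sin θ * (-1) := by linarith
    have := mul_left_cancel₀ hs h2
    linarith
  constructor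
  · rw [h5_sum_two_cos_sq, h5_sum_two_cos_sq_Ico θ (d' + 1) (by omega), hA1]
    push_cast; ring
  · rw [h5_sum_sin_add_sq, h5_sum_sin_add_sq, hA1, hA0, hA2, hB1, hB0]
    push_cast; ring

end Cfsg.Agent.Helper7.FH
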