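import Mathlib
import Cfsg.Agent.Helper7.FHDefs
import Cfsg.Agent.Helper5.FhEndgame
import Cfsg.Agent.Helper5.FhRat

/-!
# S1142 piece L15 : `nt_even` (helper5)
-/

set_option autoImplicit false
set_option linter.unusedVariables false
set_option linter.unusedSectionVars false
set_option linter.style.haveILetI false

namespace Cfsg.Agent.Helper7.FH

open Matrix Finset

theorem nt_even (a b d' : ℕ) (ha : 2 ≤ a) (hb : 2 ≤ b) (hd : 1 ≤ d')
    (h : ∀ j : ℕ, 1 ≤ j → j < d' → ∃ r : ℚ,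
      ((a : ℝ) + b + 2 * (Real.sqrt ((a : ℝ) * b) * Real.cos (Real.pi * j / d'))) *
        ((a : ℝ) * b + 1 - 2 * (Real.sqrt ((a : ℝ) * b) * Real.cos (Real.pi * j / d'))) /
        ((a : ℝ) * b - (Real.sqrt ((a : ℝ) * b) * Real.cos (Real.pi * j / d')) ^ 2) = (r : ℝ)) :
    d' = 1 ∨ d' = 2 ∨ d' = 3 ∨ d' = 4 := by
  have hab : (0 : ℝ) < (a : ℝ) * b := by positivity
  have hd0 : (0 : ℝ) < (d' : ℝ) := by exact_mod_cast hd
  have haR : (2 : ℝ) ≤ (a : ℝ) := by exact_mod_cast ha
  have hbR : (2 : ℝ) ≤ (b : ℝ) := by exact_mod_cast hb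
  -- every y_j is rational
  have hy : ∀ j : ℕ, 1 ≤ j → j < d' →
      ∃ q : ℚ, Real.sqrt ((a : ℝ) * b) * Real.cos (Real.pi * j / d') = q := by
    intro j hj hjd
    set y : ℝ := Real.sqrt ((a : ℝ) * b) * Real.cos (Real.pi * j / d') with hydef
    obtain ⟨r₁, hr₁⟩ := h j hj hjd
    obtain ⟨r₂, hr₂⟩ := h (d' - j) (by omega) (by omega)
    -- cos (π (d'-j)/d') = - cos (π j / d')
    have hcos : Real.cos (Real.pi * ((d' - j : ℕ) : ℝ) / d') = - Real.cos (Real.pi * j / d') := by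
      rw [Nat.cast_sub hjd.le, ← Real.cos_pi_sub]
      congr 1
      field_simp
    rw [hcos] at hr₂
    -- |cos| < 1
    have hθ0 : 0 < Real.pi * j / d' := by
      have : (0 : ℝ) < (j : ℝ) := by exact_mod_cast hj
      positivity
    have hθπ : Real.pi * j / d' < Real.pi := by
      rw [div_lt_iff₀ hd0]
      have : (j : ℝ) < (d' : ℝ) := by exact_mod_cast hjd
      nlinarith [Real.pi_pos]
    have hc1 : Real.cos (Real.pi * j / d') < 1 := by
      have := Real.cos_lt_cos_of_nonneg_of_le_pi le_rfl hθπ.le hθ0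
      simpa using this
    have hc2 : -1 < Real.cos (Real.pi * j / d') := by
      have := Real.cos_lt_cos_of_nonneg_of_le_pi hθ0.le le_rfl hθπ
      simpa using this
    have hcsq : Real.cos (Real.pi * j / d') ^ 2 < 1 := by nlinarith
    have hy2 : y ^ 2 ≠ (((a * b : ℕ) : ℚ) : ℝ) := by
      rw [hydef, mul_pow, Real.sq_sqrt hab.le]
      push_cast
      intro heq
      nlinarith
    have hAB : ((a + b : ℕ) : ℚ) ≠ ((a * b + 1 : ℕ) : ℚ) := by
      intro heq
      have : a + b = a * b + 1 := by exact_mod_cast heq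
      nlinarith
    have h4 : ((a + b : ℕ) : ℚ) * ((a * b + 1 : ℕ) : ℚ) ≠ 4 * ((a * b : ℕ) : ℚ) := by
      intro heq
      have : (a + b) * (a * b + 1) = 4 * (a * b) := by exact_mod_cast heq
      nlinarith [Nat.mul_le_mul ha hb]
    refine Cfsg.Agent.Helper5.Fh.h5_rat_of_two_degrees _ _ _ y hy2 hAB h4 r₁ r₂ ?_ ?_
    · rw [← hr₁]; push_cast; ring
    · rw [← hr₂]; push_cast; ring
  -- apply the endgame with m = 2 d'
  have hend := Cfsg.Agent.Helper5.Fh.h5_fh_endgame (2 * d') a b (by omega) (by omega) (by omega) (by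
    intro j hj hjm
    obtain ⟨q, hq⟩ := hy j hj (by omega)
    refine ⟨q, ?_⟩
    rw [← hq]
    congr 2
    push_cast
    field_simp)
  simp only [Set.mem_insert_iff, Set.mem_singleton_iff] at hend
  omega

end Cfsg.Agent.Helper7.FH
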