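import Mathlib
import Cfsg.Agent.Helper7.FHDefs

/-!
# S1142 piece L16 : `nt_odd` (helper5)
-/

set_option autoImplicit false
set_option linter.unusedVariables false
set_option linter.unusedSectionVars false
set_option linter.style.haveILetI false

namespace Cfsg.Agent.Helper7.FH

open Matrix Finset

/-- `cos (K π / N)` rational forces `N ∣ K`, `N ∣ 2K` or `N ∣ 3K`. -/
theorem h5_cos_rat_dvd {K N : ℕ} (hN : 0 < N)
    (h : ∃ q : ℚ, Real.cos (K * Real.pi / N) = q) : N ∣ K * 1 ∨ N ∣ K * 2 ∨ N ∣ K * 3 := by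
  set r : ℚ := (K : ℚ) / N with hr
  have hden : r.den ≤ 3 := by
    by_contra hlt
    rw [not_le] at hlt
    have hirr := irrational_cos_rat_mul_pi (r := r) hlt
    obtain ⟨q, hq⟩ := h
    apply hirr
    refine ⟨q, ?_⟩
    rw [← hq]
    congr 1
    rw [hr]; push_cast; ring
  have hmq : (N : ℚ) ≠ 0 := by exact_mod_cast hN.ne'
  have hkey : (r.num : ℚ) * N = K * r.den := by
    have h1 : (r.num : ℚ) = r * r.den := (Rat.mul_den_eq_num r).symm
    rw [h1, hr]; field_simp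
  have hkeyZ : r.num * (N : ℤ) = (K : ℤ) * (r.den : ℤ) := by exact_mod_cast hkey
  have hdvd : (N : ℤ) ∣ (K : ℤ) * (r.den : ℤ) := ⟨r.num, by rw [← hkeyZ]; ring⟩
  have hdvdN : N ∣ K * r.den := by exact_mod_cast hdvd
  have hpos : 0 < r.den := r.den_pos
  have h3 : r.den = 1 ∨ r.den = 2 ∨ r.den = 3 := by omega
  rcases h3 with h1 | h1 | h1 <;> rw [h1] at hdvdN
  · left; exact hdvdN
  · right; left; exact hdvdN
  · right; right; exact hdvdN

theorem nt_odd (q d' : ℕ) (hq : 2 ≤ q) (hd : 1 ≤ d')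
    (h : ∀ j : ℕ, 1 ≤ j → j ≤ d' → ∃ r : ℚ,
      ((q : ℝ) ^ 2 + 1 - 2 * q * Real.cos (2 * Real.pi * j / (2 * d' + 1))) /
        (1 - Real.cos (2 * Real.pi * j / (2 * d' + 1))) = (r : ℝ)) :
    d' = 1 := by
  obtain ⟨r, hr⟩ := h 1 le_rfl hd
  rw [Nat.cast_one, mul_one] at hr
  set θ : ℝ := 2 * Real.pi / (2 * d' + 1) with hθ
  have hN0 : (0 : ℝ) < 2 * (d' : ℝ) + 1 := by positivity
  have hθ0 : 0 < θ := by rw [hθ]; positivity
  have hθπ : θ < Real.pi := by
    rw [hθ, div_lt_iff₀ hN0]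
    have : (1 : ℝ) ≤ (d' : ℝ) := by exact_mod_cast hd
    nlinarith [Real.pi_pos]
  have hc1 : Real.cos θ < 1 := by
    have := Real.cos_lt_cos_of_nonneg_of_le_pi le_rfl hθπ.le hθ0
    simpa using this
  have hne : 1 - Real.cos θ ≠ 0 := by linarith
  rw [div_eq_iff hne] at hr
  have hqR : (2 : ℝ) ≤ (q : ℝ) := by exact_mod_cast hq
  -- r ≠ 2 q
  have hr2q : (r : ℝ) ≠ 2 * q := by
    intro heq
    rw [heq] at hr
    nlinarith
  have hcos : ∃ c : ℚ, Real.cos θ = c := by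
    refine ⟨(r - q ^ 2 - 1) / (r - 2 * q), ?_⟩
    push_cast
    rw [eq_div_iff (sub_ne_zero.mpr hr2q)]
    linarith
  have hdv := h5_cos_rat_dvd (K := 2) (N := 2 * d' + 1) (by omega) (by
    obtain ⟨c, hc⟩ := hcos
    refine ⟨c, ?_⟩
    rw [← hc, hθ]
    congr 1
    push_cast
    ring)
  rcases hdv with h1 | h1 | h1
  · have := Nat.le_of_dvd (by norm_num) h1; omega
  · have h2 := Nat.le_of_dvd (by norm_num) h1
    have : d' = 1 ∨ d' = 0 := by omega
    rcases this with h3 | h3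
    · exact h3
    · omega
  · have h2 := Nat.le_of_dvd (by norm_num) h1
    have h3 : d' ≤ 2 := by omega
    interval_cases d'
    · rfl
    · exfalso; revert h1; decide

end Cfsg.Agent.Helper7.FH
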