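import Cfsg.Agent.Helper5.Fi22TCData

/-! kernel check of the coset enumeration certificate: Fi22TC -/

namespace Cfsg.Agent.Helper5.Fi22TC
open Cfsg.Agent.Helper5.TC

set_option maxRecDepth 1000000 in
theorem cert_ok : certOK D 3539 3510 RS cert = true := by decide +kernel

end Cfsg.Agent.Helper5.Fi22TC
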