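import Cfsg.Agent.Helper5.Fi22bTCDatD
import Cfsg.Agent.Helper5.TCCertC

/-! kernel checks of words: Fi22bTC -/

set_option autoImplicit false
set_option Elab.async false

namespace Cfsg.Agent.Helper5.Fi22bTC
open Cfsg.Agent.Helper5.TC

set_option maxRecDepth 1000000 in
theorem set_ok : setOK 17031 14080 RS = true := by decide +kernel

set_option maxRecDepth 1000000 in
theorem rev_ok : revOK D D.nw = true := by decide +kernel

set_option maxRecDepth 1000000 in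
theorem words_ok : wordsOK D D.nw = true := by decide +kernel

theorem word_81 : unpack (D.wlen 81) (D.wordP 81) = [8, 7, 3, 5, 4, 3, 1, 2, 3, 8, 7, 3, 5, 4, 3, 1, 2, 3, 8, 7, 3, 5, 4, 3, 1, 2, 3, 8, 7, 3, 5, 4, 3, 1, 2, 3, 8, 7, 3, 5, 4, 3, 1, 2, 3, 8, 7, 3, 5, 4, 3, 1, 2, 3, 8, 7, 3, 5, 4, 3, 1, 2, 3, 8, 7, 3, 5, 4, 3, 1, 2, 3, 8, 7, 3, 5, 4, 3, 1, 2, 3, 8, 7, 3, 5, 4, 3, 1, 2, 3] := by decide +kernel

theorem word_82 : unpack (D.wlen 82) (D.wordP 82) = [7, 5, 4, 3, 2, 1, 0, 7, 5, 4, 3, 2, 1, 0, 7, 5, 4, 3, 2, 1, 0, 7, 5, 4, 3, 2, 1, 0, 7, 5, 4, 3, 2, 1, 0, 7, 5, 4, 3, 2, 1, 0, 7, 5, 4, 3, 2, 1, 0, 7, 5, 4, 3, 2, 1, 0, 7, 5, 4, 3, 2, 1, 0] := by decide +kernel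

theorem word_83 : unpack (D.wlen 83) (D.wordP 83) = [7, 6, 5, 4, 3, 2, 1, 7, 6, 5, 4, 3, 2, 1, 7, 6, 5, 4, 3, 2, 1, 7, 6, 5, 4, 3, 2, 1, 7, 6, 5, 4, 3, 2, 1, 7, 6, 5, 4, 3, 2, 1, 7, 6, 5, 4, 3, 2, 1, 7, 6, 5, 4, 3, 2, 1, 7, 6, 5, 4, 3, 2, 1] := by decide +kernel

theorem word_84 : unpack (D.wlen 84) (D.wordP 84) = [1] := by decide +kernel

theorem word_85 : unpack (D.wlen 85) (D.wordP 85) = [2] := by decide +kernel

theorem word_86 : unpack (D.wlen 86) (D.wordP 86) = [3] := by decide +kernel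

theorem word_87 : unpack (D.wlen 87) (D.wordP 87) = [4] := by decide +kernel

theorem word_88 : unpack (D.wlen 88) (D.wordP 88) = [5] := by decide +kernel

theorem word_89 : unpack (D.wlen 89) (D.wordP 89) = [6] := by decide +kernel

theorem word_90 : unpack (D.wlen 90) (D.wordP 90) = [7] := by decide +kernel

theorem word_91 : unpack (D.wlen 91) (D.wordP 91) = [8] := by decide +kernel

end Cfsg.Agent.Helper5.Fi22bTC
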