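import Cfsg.Agent.Helper5.Fi22bTCDatD

/-! kernel checks of edges, aliases, rows: Fi22bTC -/

set_option autoImplicit false
set_option Elab.async false

namespace Cfsg.Agent.Helper5.Fi22bTC
open Cfsg.Agent.Helper5.TC

set_option maxRecDepth 1000000 in
theorem aliases_0 : aliasRange E 6357 0 = true := by decide +kernel

set_option maxRecDepth 1000000 in
theorem edges_8_0 : edgesRange E 8 5626 0 = true := by decide +kernel

set_option maxRecDepth 1000000 in
theorem edges_3_1 : edgesRange E 3 3953 3886 = true := by decide +kernel

set_option maxRecDepth 1000000 in
theorem edges_2_1 : edgesRange E 2 3821 2973 = true := by decide +kernel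

set_option maxRecDepth 1000000 in
theorem edges_5_0 : edgesRange E 5 3745 0 = true := by decide +kernel

set_option maxRecDepth 1000000 in
theorem edges_4_0 : edgesRange E 4 3666 0 = true := by decide +kernel

set_option maxRecDepth 1000000 in
theorem edges_5_1 : edgesRange E 5 3481 3745 = true := by decide +kernel

set_option maxRecDepth 1000000 in
theorem edges_1_1 : edgesRange E 1 3406 2867 = true := by decide +kernel

set_option maxRecDepth 1000000 in
theorem edges_3_3 : edgesRange E 3 3308 10528 = true := by decide +kernel

set_option maxRecDepth 1000000 in
theorem edges_6_5 : edgesRange E 6 3740 13291 = true := by decide +kernel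

set_option maxRecDepth 1000000 in
theorem edges_2_0 : edgesRange E 2 2973 0 = true := by decide +kernel

set_option maxRecDepth 1000000 in
theorem edges_0_0 : edgesRange E 0 2696 0 = true := by decide +kernel

set_option maxRecDepth 1000000 in
theorem edges_2_4 : edgesRange E 2 2606 11393 = true := by decide +kernel

set_option maxRecDepth 1000000 in
theorem edges_3_4 : edgesRange E 3 2461 13836 = true := by decide +kernel

set_option maxRecDepth 1000000 in
theorem edges_0_2 : edgesRange E 0 2421 5977 = true := by decide +kernel

set_option maxRecDepth 1000000 in
theorem edges_1_2 : edgesRange E 1 2407 6273 = true := by decide +kernel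

set_option maxRecDepth 1000000 in
theorem edges_5_4 : edgesRange E 5 2348 11733 = true := by decide +kernel

set_option maxRecDepth 1000000 in
theorem edges_5_2 : edgesRange E 5 2311 7226 = true := by decide +kernel

set_option maxRecDepth 1000000 in
theorem edges_2_3 : edgesRange E 2 2217 9176 = true := by decide +kernel

set_option maxRecDepth 1000000 in
theorem edges_5_3 : edgesRange E 5 2196 9537 = true := by decide +kernel

set_option maxRecDepth 1000000 in
theorem edges_6_3 : edgesRange E 6 2165 9053 = true := by decide +kernel

set_option maxRecDepth 1000000 in
theorem edges_7_3 : edgesRange E 7 2117 13832 = true := by decide +kernel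

set_option maxRecDepth 1000000 in
theorem edges_6_4 : edgesRange E 6 2073 11218 = true := by decide +kernel

set_option maxRecDepth 1000000 in
theorem edges_0_6 : edgesRange E 0 2055 14647 = true := by decide +kernel

set_option maxRecDepth 1000000 in
theorem edges_1_6 : edgesRange E 1 1786 15245 = true := by decide +kernel

set_option maxRecDepth 1000000 in
theorem edges_5_5 : edgesRange E 5 2950 14081 = true := by decide +kernel

set_option maxRecDepth 1000000 in
theorem edges_7_4 : edgesRange E 7 1082 15949 = true := by decide +kernel

set_option maxRecDepth 1000000 in
theorem aliases_1 : aliasRange E 10674 6357 = true := by decide +kernel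

set_option maxRecDepth 1000000 in
theorem rows_0 : rowsRange E RS 3000 0 = true := by decide +kernel

set_option maxRecDepth 1000000 in
theorem rows_2 : rowsRange E RS 3000 6000 = true := by decide +kernel

set_option maxRecDepth 1000000 in
theorem rows_4 : rowsRange E RS 3000 12000 = true := by decide +kernel

set_option maxRecDepth 1000000 in
theorem edges_0_7 : edgesRange E 0 329 16702 = true := by decide +kernel

end Cfsg.Agent.Helper5.Fi22bTC
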