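import Cfsg.Agent.Helper5.Fi22bTCDatD

/-! kernel checks of edges, aliases, rows: Fi22bTC -/

set_option autoImplicit false
set_option Elab.async false

namespace Cfsg.Agent.Helper5.Fi22bTC
open Cfsg.Agent.Helper5.TC

set_option maxRecDepth 1000000 in
theorem edges_7_0 : edgesRange E 7 5905 0 = true := by decide +kernel

set_option maxRecDepth 1000000 in
theorem edges_8_1 : edgesRange E 8 5725 5626 = true := by decide +kernel

set_option maxRecDepth 1000000 in
theorem edges_7_1 : edgesRange E 7 4223 5905 = true := by decide +kernel

set_option maxRecDepth 1000000 in
theorem edges_3_0 : edgesRange E 3 3886 0 = true := by decide +kernel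

set_option maxRecDepth 1000000 in
theorem edges_4_1 : edgesRange E 4 3733 3666 = true := by decide +kernel

set_option maxRecDepth 1000000 in
theorem edges_7_2 : edgesRange E 7 3704 10128 = true := by decide +kernel

set_option maxRecDepth 1000000 in
theorem edges_4_4 : edgesRange E 4 3450 12276 = true := by decide +kernel

set_option maxRecDepth 1000000 in
theorem edges_6_0 : edgesRange E 6 3433 0 = true := by decide +kernel

set_option maxRecDepth 1000000 in
theorem edges_0_1 : edgesRange E 0 3281 2696 = true := by decide +kernel

set_option maxRecDepth 1000000 in
theorem edges_6_1 : edgesRange E 6 3281 3433 = true := by decide +kernel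

set_option maxRecDepth 1000000 in
theorem edges_1_0 : edgesRange E 1 2867 0 = true := by decide +kernel

set_option maxRecDepth 1000000 in
theorem edges_3_2 : edgesRange E 3 2689 7839 = true := by decide +kernel

set_option maxRecDepth 1000000 in
theorem edges_8_2 : edgesRange E 8 2587 11351 = true := by decide +kernel

set_option maxRecDepth 1000000 in
theorem edges_4_2 : edgesRange E 4 2444 7399 = true := by decide +kernel

set_option maxRecDepth 1000000 in
theorem edges_4_3 : edgesRange E 4 2433 9843 = true := by decide +kernel

set_option maxRecDepth 1000000 in
theorem edges_2_2 : edgesRange E 2 2382 6794 = true := by decide +kernel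

set_option maxRecDepth 1000000 in
theorem edges_6_2 : edgesRange E 6 2339 6714 = true := by decide +kernel

set_option maxRecDepth 1000000 in
theorem edges_1_5 : edgesRange E 1 2254 12991 = true := by decide +kernel

set_option maxRecDepth 1000000 in
theorem edges_2_5 : edgesRange E 2 2191 13999 = true := by decide +kernel

set_option maxRecDepth 1000000 in
theorem edges_1_4 : edgesRange E 1 2167 10824 = true := by decide +kernel

set_option maxRecDepth 1000000 in
theorem edges_1_3 : edgesRange E 1 2144 8680 = true := by decide +kernel

set_option maxRecDepth 1000000 in
theorem edges_0_5 : edgesRange E 0 2118 12529 = true := by decide +kernel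

set_option maxRecDepth 1000000 in
theorem edges_0_3 : edgesRange E 0 2076 8398 = true := by decide +kernel

set_option maxRecDepth 1000000 in
theorem edges_0_4 : edgesRange E 0 2055 10474 = true := by decide +kernel

set_option maxRecDepth 1000000 in
theorem edges_8_3 : edgesRange E 8 2040 13938 = true := by decide +kernel

set_option maxRecDepth 1000000 in
theorem edges_4_5 : edgesRange E 4 1305 15726 = true := by decide +kernel

set_option maxRecDepth 1000000 in
theorem edges_8_4 : edgesRange E 8 1053 15978 = true := by decide +kernel

set_option maxRecDepth 1000000 in
theorem edges_2_6 : edgesRange E 2 841 16190 = true := by decide +kernel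

set_option maxRecDepth 1000000 in
theorem edges_3_5 : edgesRange E 3 734 16297 = true := by decide +kernel

set_option maxRecDepth 1000000 in
theorem rows_1 : rowsRange E RS 3000 3000 = true := by decide +kernel

set_option maxRecDepth 1000000 in
theorem rows_3 : rowsRange E RS 3000 9000 = true := by decide +kernel

set_option maxRecDepth 1000000 in
theorem rows_5 : rowsRange E RS 2031 15000 = true := by decide +kernel

end Cfsg.Agent.Helper5.Fi22bTC
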