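import Cfsg.Agent.Helper5.Fi22bTCDatD
import Cfsg.Agent.Helper5.Fi22bTCDatT
import Cfsg.Agent.Helper5.TC2C

/-! kernel checks of the coset table: Fi22bTC -/

set_option autoImplicit false
set_option Elab.async false

namespace Cfsg.Agent.Helper5.Fi22bTC
open Cfsg.Agent.Helper5.TC

set_option maxRecDepth 1000000 in
theorem relc_82_0 : relPtsF ctF (D.wlen 82) (D.wordP 82) 3174 0 = true := by decide +kernel

set_option maxRecDepth 1000000 in
theorem relc_83_2 : relPtsF ctF (D.wlen 83) (D.wordP 83) 3174 6348 = true := by decide +kernel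

set_option maxRecDepth 1000000 in
theorem relc_11_0 : relPtsF ctF (D.wlen 11) (D.wordP 11) 14080 0 = true := by decide +kernel

set_option maxRecDepth 1000000 in
theorem relc_31_0 : relPtsF ctF (D.wlen 31) (D.wordP 31) 14080 0 = true := by decide +kernel

set_option maxRecDepth 1000000 in
theorem relc_59_0 : relPtsF ctF (D.wlen 59) (D.wordP 59) 14080 0 = true := by decide +kernel

set_option maxRecDepth 1000000 in
theorem relc_4_0 : relPtsF ctF (D.wlen 4) (D.wordP 4) 14080 0 = true := by decide +kernel

set_option maxRecDepth 1000000 in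
theorem relc_13_0 : relPtsF ctF (D.wlen 13) (D.wordP 13) 14080 0 = true := by decide +kernel

set_option maxRecDepth 1000000 in
theorem relc_22_0 : relPtsF ctF (D.wlen 22) (D.wordP 22) 14080 0 = true := by decide +kernel

set_option maxRecDepth 1000000 in
theorem relc_28_0 : relPtsF ctF (D.wlen 28) (D.wordP 28) 14080 0 = true := by decide +kernel

set_option maxRecDepth 1000000 in
theorem relc_38_0 : relPtsF ctF (D.wlen 38) (D.wordP 38) 14080 0 = true := by decide +kernel

set_option maxRecDepth 1000000 in
theorem relc_47_0 : relPtsF ctF (D.wlen 47) (D.wordP 47) 14080 0 = true := by decide +kernel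

set_option maxRecDepth 1000000 in
theorem relc_56_0 : relPtsF ctF (D.wlen 56) (D.wordP 56) 14080 0 = true := by decide +kernel

set_option maxRecDepth 1000000 in
theorem relc_64_0 : relPtsF ctF (D.wlen 64) (D.wordP 64) 14080 0 = true := by decide +kernel

set_option maxRecDepth 1000000 in
theorem relc_73_0 : relPtsF ctF (D.wlen 73) (D.wordP 73) 14080 0 = true := by decide +kernel

set_option maxRecDepth 1000000 in
theorem relc_82_4 : relPtsF ctF (D.wlen 82) (D.wordP 82) 1384 12696 = true := by decide +kernel

set_option maxRecDepth 1000000 in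
theorem relc_20_0 : relPtsF ctF (D.wlen 20) (D.wordP 20) 14080 0 = true := by decide +kernel

set_option maxRecDepth 1000000 in
theorem relc_80_0 : relPtsF ctF (D.wlen 80) (D.wordP 80) 14080 0 = true := by decide +kernel

set_option maxRecDepth 1000000 in
theorem inv_7 : invRowF ctF 14080 7 14080 0 = true := by decide +kernel

end Cfsg.Agent.Helper5.Fi22bTC
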