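import Cfsg.Agent.Helper5.Fi22bTCDatD
import Cfsg.Agent.Helper5.Fi22bTCDatT
import Cfsg.Agent.Helper5.TC2C

/-! kernel checks of the coset table: Fi22bTC -/

set_option autoImplicit false
set_option Elab.async false

namespace Cfsg.Agent.Helper5.Fi22bTC
open Cfsg.Agent.Helper5.TC

set_option maxRecDepth 1000000 in
theorem relc_82_1 : relPtsF ctF (D.wlen 82) (D.wordP 82) 3174 3174 = true := by decide +kernel

set_option maxRecDepth 1000000 in
theorem relc_83_3 : relPtsF ctF (D.wlen 83) (D.wordP 83) 3174 9522 = true := by decide +kernel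

set_option maxRecDepth 1000000 in
theorem relc_19_0 : relPtsF ctF (D.wlen 19) (D.wordP 19) 14080 0 = true := by decide +kernel

set_option maxRecDepth 1000000 in
theorem relc_34_0 : relPtsF ctF (D.wlen 34) (D.wordP 34) 14080 0 = true := by decide +kernel

set_option maxRecDepth 1000000 in
theorem relc_66_0 : relPtsF ctF (D.wlen 66) (D.wordP 66) 14080 0 = true := by decide +kernel

set_option maxRecDepth 1000000 in
theorem relc_5_0 : relPtsF ctF (D.wlen 5) (D.wordP 5) 14080 0 = true := by decide +kernel

set_option maxRecDepth 1000000 in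
theorem relc_14_0 : relPtsF ctF (D.wlen 14) (D.wordP 14) 14080 0 = true := by decide +kernel

set_option maxRecDepth 1000000 in
theorem relc_23_0 : relPtsF ctF (D.wlen 23) (D.wordP 23) 14080 0 = true := by decide +kernel

set_option maxRecDepth 1000000 in
theorem relc_32_0 : relPtsF ctF (D.wlen 32) (D.wordP 32) 14080 0 = true := by decide +kernel

set_option maxRecDepth 1000000 in
theorem relc_42_0 : relPtsF ctF (D.wlen 42) (D.wordP 42) 14080 0 = true := by decide +kernel

set_option maxRecDepth 1000000 in
theorem relc_48_0 : relPtsF ctF (D.wlen 48) (D.wordP 48) 14080 0 = true := by decide +kernel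

set_option maxRecDepth 1000000 in
theorem relc_57_0 : relPtsF ctF (D.wlen 57) (D.wordP 57) 14080 0 = true := by decide +kernel

set_option maxRecDepth 1000000 in
theorem relc_65_0 : relPtsF ctF (D.wlen 65) (D.wordP 65) 14080 0 = true := by decide +kernel

set_option maxRecDepth 1000000 in
theorem relc_74_0 : relPtsF ctF (D.wlen 74) (D.wordP 74) 14080 0 = true := by decide +kernel

set_option maxRecDepth 1000000 in
theorem relc_83_4 : relPtsF ctF (D.wlen 83) (D.wordP 83) 1384 12696 = true := by decide +kernel

set_option maxRecDepth 1000000 in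
theorem relc_30_0 : relPtsF ctF (D.wlen 30) (D.wordP 30) 14080 0 = true := by decide +kernel

set_option maxRecDepth 1000000 in
theorem relc_81_6 : relPtsF ctF (D.wlen 81) (D.wordP 81) 748 13332 = true := by decide +kernel

set_option maxRecDepth 1000000 in
theorem inv_6 : invRowF ctF 14080 6 14080 0 = true := by decide +kernel

end Cfsg.Agent.Helper5.Fi22bTC
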