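import Cfsg.Agent.Helper5.Fi22bTCDatD
import Cfsg.Agent.Helper5.Fi22bTCDatT
import Cfsg.Agent.Helper5.TC2C

/-! kernel checks of the coset table: Fi22bTC -/

set_option autoImplicit false
set_option Elab.async false

namespace Cfsg.Agent.Helper5.Fi22bTC
open Cfsg.Agent.Helper5.TC

set_option maxRecDepth 1000000 in
theorem relc_82_2 : relPtsF ctF (D.wlen 82) (D.wordP 82) 3174 6348 = true := by decide +kernel

set_option maxRecDepth 1000000 in
theorem relc_81_0 : relPtsF ctF (D.wlen 81) (D.wordP 81) 2222 0 = true := by decide +kernel

set_option maxRecDepth 1000000 in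
theorem relc_81_4 : relPtsF ctF (D.wlen 81) (D.wordP 81) 2222 8888 = true := by decide +kernel

set_option maxRecDepth 1000000 in
theorem relc_39_0 : relPtsF ctF (D.wlen 39) (D.wordP 39) 14080 0 = true := by decide +kernel

set_option maxRecDepth 1000000 in
theorem relc_71_0 : relPtsF ctF (D.wlen 71) (D.wordP 71) 14080 0 = true := by decide +kernel

set_option maxRecDepth 1000000 in
theorem relc_6_0 : relPtsF ctF (D.wlen 6) (D.wordP 6) 14080 0 = true := by decide +kernel

set_option maxRecDepth 1000000 in
theorem relc_15_0 : relPtsF ctF (D.wlen 15) (D.wordP 15) 14080 0 = true := by decide +kernel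

set_option maxRecDepth 1000000 in
theorem relc_24_0 : relPtsF ctF (D.wlen 24) (D.wordP 24) 14080 0 = true := by decide +kernel

set_option maxRecDepth 1000000 in
theorem relc_33_0 : relPtsF ctF (D.wlen 33) (D.wordP 33) 14080 0 = true := by decide +kernel

set_option maxRecDepth 1000000 in
theorem relc_43_0 : relPtsF ctF (D.wlen 43) (D.wordP 43) 14080 0 = true := by decide +kernel

set_option maxRecDepth 1000000 in
theorem relc_52_0 : relPtsF ctF (D.wlen 52) (D.wordP 52) 14080 0 = true := by decide +kernel

set_option maxRecDepth 1000000 in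
theorem relc_58_0 : relPtsF ctF (D.wlen 58) (D.wordP 58) 14080 0 = true := by decide +kernel

set_option maxRecDepth 1000000 in
theorem relc_67_0 : relPtsF ctF (D.wlen 67) (D.wordP 67) 14080 0 = true := by decide +kernel

set_option maxRecDepth 1000000 in
theorem relc_75_0 : relPtsF ctF (D.wlen 75) (D.wordP 75) 14080 0 = true := by decide +kernel

set_option maxRecDepth 1000000 in
theorem relc_0_0 : relPtsF ctF (D.wlen 0) (D.wordP 0) 14080 0 = true := by decide +kernel

set_option maxRecDepth 1000000 in
theorem relc_60_0 : relPtsF ctF (D.wlen 60) (D.wordP 60) 14080 0 = true := by decide +kernel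

set_option maxRecDepth 1000000 in
theorem inv_4 : invRowF ctF 14080 4 14080 0 = true := by decide +kernel

set_option maxRecDepth 1000000 in
theorem sub_ok : subAll ctF D D.nw = true := by decide +kernel

end Cfsg.Agent.Helper5.Fi22bTC
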