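import Cfsg.Agent.Helper5.Fi22bTCDatD
import Cfsg.Agent.Helper5.Fi22bTCDatT
import Cfsg.Agent.Helper5.TC2C

/-! kernel checks of the coset table: Fi22bTC -/

set_option autoImplicit false
set_option Elab.async false

namespace Cfsg.Agent.Helper5.Fi22bTC
open Cfsg.Agent.Helper5.TC

set_option maxRecDepth 1000000 in
theorem relc_82_3 : relPtsF ctF (D.wlen 82) (D.wordP 82) 3174 9522 = true := by decide +kernel

set_option maxRecDepth 1000000 in
theorem relc_81_1 : relPtsF ctF (D.wlen 81) (D.wordP 81) 2222 2222 = true := by decide +kernel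

set_option maxRecDepth 1000000 in
theorem relc_81_5 : relPtsF ctF (D.wlen 81) (D.wordP 81) 2222 11110 = true := by decide +kernel

set_option maxRecDepth 1000000 in
theorem relc_41_0 : relPtsF ctF (D.wlen 41) (D.wordP 41) 14080 0 = true := by decide +kernel

set_option maxRecDepth 1000000 in
theorem relc_79_0 : relPtsF ctF (D.wlen 79) (D.wordP 79) 14080 0 = true := by decide +kernel

set_option maxRecDepth 1000000 in
theorem relc_7_0 : relPtsF ctF (D.wlen 7) (D.wordP 7) 14080 0 = true := by decide +kernel

set_option maxRecDepth 1000000 in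
theorem relc_16_0 : relPtsF ctF (D.wlen 16) (D.wordP 16) 14080 0 = true := by decide +kernel

set_option maxRecDepth 1000000 in
theorem relc_25_0 : relPtsF ctF (D.wlen 25) (D.wordP 25) 14080 0 = true := by decide +kernel

set_option maxRecDepth 1000000 in
theorem relc_35_0 : relPtsF ctF (D.wlen 35) (D.wordP 35) 14080 0 = true := by decide +kernel

set_option maxRecDepth 1000000 in
theorem relc_44_0 : relPtsF ctF (D.wlen 44) (D.wordP 44) 14080 0 = true := by decide +kernel

set_option maxRecDepth 1000000 in
theorem relc_53_0 : relPtsF ctF (D.wlen 53) (D.wordP 53) 14080 0 = true := by decide +kernel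

set_option maxRecDepth 1000000 in
theorem relc_61_0 : relPtsF ctF (D.wlen 61) (D.wordP 61) 14080 0 = true := by decide +kernel

set_option maxRecDepth 1000000 in
theorem relc_68_0 : relPtsF ctF (D.wlen 68) (D.wordP 68) 14080 0 = true := by decide +kernel

set_option maxRecDepth 1000000 in
theorem relc_76_0 : relPtsF ctF (D.wlen 76) (D.wordP 76) 14080 0 = true := by decide +kernel

set_option maxRecDepth 1000000 in
theorem relc_10_0 : relPtsF ctF (D.wlen 10) (D.wordP 10) 14080 0 = true := by decide +kernel

set_option maxRecDepth 1000000 in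
theorem relc_70_0 : relPtsF ctF (D.wlen 70) (D.wordP 70) 14080 0 = true := by decide +kernel

set_option maxRecDepth 1000000 in
theorem inv_5 : invRowF ctF 14080 5 14080 0 = true := by decide +kernel

end Cfsg.Agent.Helper5.Fi22bTC
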