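import Cfsg.Agent.Helper5.Fi22bTCDatD
import Cfsg.Agent.Helper5.Fi22bTCDatT
import Cfsg.Agent.Helper5.TC2C

/-! kernel checks of the coset table: Fi22bTC -/

set_option autoImplicit false
set_option Elab.async false

namespace Cfsg.Agent.Helper5.Fi22bTC
open Cfsg.Agent.Helper5.TC

set_option maxRecDepth 1000000 in
theorem relc_83_0 : relPtsF ctF (D.wlen 83) (D.wordP 83) 3174 0 = true := by decide +kernel

set_option maxRecDepth 1000000 in
theorem relc_81_2 : relPtsF ctF (D.wlen 81) (D.wordP 81) 2222 4444 = true := by decide +kernel

set_option maxRecDepth 1000000 in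
theorem relc_1_0 : relPtsF ctF (D.wlen 1) (D.wordP 1) 14080 0 = true := by decide +kernel

set_option maxRecDepth 1000000 in
theorem relc_21_0 : relPtsF ctF (D.wlen 21) (D.wordP 21) 14080 0 = true := by decide +kernel

set_option maxRecDepth 1000000 in
theorem relc_49_0 : relPtsF ctF (D.wlen 49) (D.wordP 49) 14080 0 = true := by decide +kernel

set_option maxRecDepth 1000000 in
theorem relc_2_0 : relPtsF ctF (D.wlen 2) (D.wordP 2) 14080 0 = true := by decide +kernel

set_option maxRecDepth 1000000 in
theorem relc_8_0 : relPtsF ctF (D.wlen 8) (D.wordP 8) 14080 0 = true := by decide +kernel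

set_option maxRecDepth 1000000 in
theorem relc_17_0 : relPtsF ctF (D.wlen 17) (D.wordP 17) 14080 0 = true := by decide +kernel

set_option maxRecDepth 1000000 in
theorem relc_26_0 : relPtsF ctF (D.wlen 26) (D.wordP 26) 14080 0 = true := by decide +kernel

set_option maxRecDepth 1000000 in
theorem relc_36_0 : relPtsF ctF (D.wlen 36) (D.wordP 36) 14080 0 = true := by decide +kernel

set_option maxRecDepth 1000000 in
theorem relc_45_0 : relPtsF ctF (D.wlen 45) (D.wordP 45) 14080 0 = true := by decide +kernel

set_option maxRecDepth 1000000 in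
theorem relc_54_0 : relPtsF ctF (D.wlen 54) (D.wordP 54) 14080 0 = true := by decide +kernel

set_option maxRecDepth 1000000 in
theorem relc_62_0 : relPtsF ctF (D.wlen 62) (D.wordP 62) 14080 0 = true := by decide +kernel

set_option maxRecDepth 1000000 in
theorem relc_69_0 : relPtsF ctF (D.wlen 69) (D.wordP 69) 14080 0 = true := by decide +kernel

set_option maxRecDepth 1000000 in
theorem relc_77_0 : relPtsF ctF (D.wlen 77) (D.wordP 77) 14080 0 = true := by decide +kernel

set_option maxRecDepth 1000000 in
theorem relc_40_0 : relPtsF ctF (D.wlen 40) (D.wordP 40) 14080 0 = true := by decide +kernel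

set_option maxRecDepth 1000000 in
theorem inv_0 : invRowF ctF 14080 0 14080 0 = true := by decide +kernel

set_option maxRecDepth 1000000 in
theorem inv_2 : invRowF ctF 14080 2 14080 0 = true := by decide +kernel

set_option maxRecDepth 1000000 in
theorem inv_8 : invRowF ctF 14080 8 14080 0 = true := by decide +kernel

end Cfsg.Agent.Helper5.Fi22bTC
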