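import Cfsg.Agent.Helper5.Fi22bTCDatD
import Cfsg.Agent.Helper5.Fi22bTCDatT
import Cfsg.Agent.Helper5.TC2C

/-! kernel checks of the coset table: Fi22bTC -/

set_option autoImplicit false
set_option Elab.async false

namespace Cfsg.Agent.Helper5.Fi22bTC
open Cfsg.Agent.Helper5.TC

set_option maxRecDepth 1000000 in
theorem relc_83_1 : relPtsF ctF (D.wlen 83) (D.wordP 83) 3174 3174 = true := by decide +kernel

set_option maxRecDepth 1000000 in
theorem relc_81_3 : relPtsF ctF (D.wlen 81) (D.wordP 81) 2222 6666 = true := by decide +kernel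

set_option maxRecDepth 1000000 in
theorem relc_9_0 : relPtsF ctF (D.wlen 9) (D.wordP 9) 14080 0 = true := by decide +kernel

set_option maxRecDepth 1000000 in
theorem relc_29_0 : relPtsF ctF (D.wlen 29) (D.wordP 29) 14080 0 = true := by decide +kernel

set_option maxRecDepth 1000000 in
theorem relc_51_0 : relPtsF ctF (D.wlen 51) (D.wordP 51) 14080 0 = true := by decide +kernel

set_option maxRecDepth 1000000 in
theorem relc_3_0 : relPtsF ctF (D.wlen 3) (D.wordP 3) 14080 0 = true := by decide +kernel

set_option maxRecDepth 1000000 in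
theorem relc_12_0 : relPtsF ctF (D.wlen 12) (D.wordP 12) 14080 0 = true := by decide +kernel

set_option maxRecDepth 1000000 in
theorem relc_18_0 : relPtsF ctF (D.wlen 18) (D.wordP 18) 14080 0 = true := by decide +kernel

set_option maxRecDepth 1000000 in
theorem relc_27_0 : relPtsF ctF (D.wlen 27) (D.wordP 27) 14080 0 = true := by decide +kernel

set_option maxRecDepth 1000000 in
theorem relc_37_0 : relPtsF ctF (D.wlen 37) (D.wordP 37) 14080 0 = true := by decide +kernel

set_option maxRecDepth 1000000 in
theorem relc_46_0 : relPtsF ctF (D.wlen 46) (D.wordP 46) 14080 0 = true := by decide +kernel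

set_option maxRecDepth 1000000 in
theorem relc_55_0 : relPtsF ctF (D.wlen 55) (D.wordP 55) 14080 0 = true := by decide +kernel

set_option maxRecDepth 1000000 in
theorem relc_63_0 : relPtsF ctF (D.wlen 63) (D.wordP 63) 14080 0 = true := by decide +kernel

set_option maxRecDepth 1000000 in
theorem relc_72_0 : relPtsF ctF (D.wlen 72) (D.wordP 72) 14080 0 = true := by decide +kernel

set_option maxRecDepth 1000000 in
theorem relc_78_0 : relPtsF ctF (D.wlen 78) (D.wordP 78) 14080 0 = true := by decide +kernel

set_option maxRecDepth 1000000 in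
theorem relc_50_0 : relPtsF ctF (D.wlen 50) (D.wordP 50) 14080 0 = true := by decide +kernel

set_option maxRecDepth 1000000 in
theorem inv_1 : invRowF ctF 14080 1 14080 0 = true := by decide +kernel

set_option maxRecDepth 1000000 in
theorem inv_3 : invRowF ctF 14080 3 14080 0 = true := by decide +kernel

set_option maxRecDepth 1000000 in
theorem conn_ok : connF ctF 9 14080 0 = true := by decide +kernel

end Cfsg.Agent.Helper5.Fi22bTC
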