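import Cfsg.Agent.Helper5.Fi22bTCChkE0
import Cfsg.Agent.Helper5.Fi22bTCChkE1
import Cfsg.Agent.Helper5.Fi22bTCChkR0
import Cfsg.Agent.Helper5.Fi22bTCChkR1
import Cfsg.Agent.Helper5.Fi22bTCChkR2
import Cfsg.Agent.Helper5.Fi22bTCChkR3
import Cfsg.Agent.Helper5.Fi22bTCChkR4
import Cfsg.Agent.Helper5.Fi22bTCChkR5
import Cfsg.Agent.Helper5.Fi22bTCChkA
import Cfsg.Agent.Helper5.TC2C

/-! summary of the kernel checks: Fi22bTC -/

set_option autoImplicit false
set_option Elab.async false

namespace Cfsg.Agent.Helper5.Fi22bTC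
open Cfsg.Agent.Helper5.TC

theorem edgesx_0 : ∀ v, v < 17031 → edgeOK E 0 v = true := by
  intro v hv
  rcases Nat.lt_or_ge v 2696 with h0 | h0
  · exact edgesRange_spec E 0 2696 0 edges_0_0 v (by omega) (by omega)
  rcases Nat.lt_or_ge v 5977 with h1 | h1
  · exact edgesRange_spec E 0 3281 2696 edges_0_1 v (by omega) (by omega)
  rcases Nat.lt_or_ge v 8398 with h2 | h2
  · exact edgesRange_spec E 0 2421 5977 edges_0_2 v (by omega) (by omega)
  rcases Nat.lt_or_ge v 10474 with h3 | h3
  · exact edgesRange_spec E 0 2076 8398 edges_0_3 v (by omega) (by omega)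
  rcases Nat.lt_or_ge v 12529 with h4 | h4
  · exact edgesRange_spec E 0 2055 10474 edges_0_4 v (by omega) (by omega)
  rcases Nat.lt_or_ge v 14647 with h5 | h5
  · exact edgesRange_spec E 0 2118 12529 edges_0_5 v (by omega) (by omega)
  rcases Nat.lt_or_ge v 16702 with h6 | h6
  · exact edgesRange_spec E 0 2055 14647 edges_0_6 v (by omega) (by omega)
  exact edgesRange_spec E 0 329 16702 edges_0_7 v (by omega) (by omega)

theorem edgesx_1 : ∀ v, v < 17031 → edgeOK E 1 v = true := by
  intro v hv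
  rcases Nat.lt_or_ge v 2867 with h0 | h0
  · exact edgesRange_spec E 1 2867 0 edges_1_0 v (by omega) (by omega)
  rcases Nat.lt_or_ge v 6273 with h1 | h1
  · exact edgesRange_spec E 1 3406 2867 edges_1_1 v (by omega) (by omega)
  rcases Nat.lt_or_ge v 8680 with h2 | h2
  · exact edgesRange_spec E 1 2407 6273 edges_1_2 v (by omega) (by omega)
  rcases Nat.lt_or_ge v 10824 with h3 | h3
  · exact edgesRange_spec E 1 2144 8680 edges_1_3 v (by omega) (by omega)
  rcases Nat.lt_or_ge v 12991 with h4 | h4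
  · exact edgesRange_spec E 1 2167 10824 edges_1_4 v (by omega) (by omega)
  rcases Nat.lt_or_ge v 15245 with h5 | h5
  · exact edgesRange_spec E 1 2254 12991 edges_1_5 v (by omega) (by omega)
  exact edgesRange_spec E 1 1786 15245 edges_1_6 v (by omega) (by omega)

theorem edgesx_2 : ∀ v, v < 17031 → edgeOK E 2 v = true := by
  intro v hv
  rcases Nat.lt_or_ge v 2973 with h0 | h0
  · exact edgesRange_spec E 2 2973 0 edges_2_0 v (by omega) (by omega)
  rcases Nat.lt_or_ge v 6794 with h1 | h1
  · exact edgesRange_spec E 2 3821 2973 edges_2_1 v (by omega) (by omega)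
  rcases Nat.lt_or_ge v 9176 with h2 | h2
  · exact edgesRange_spec E 2 2382 6794 edges_2_2 v (by omega) (by omega)
  rcases Nat.lt_or_ge v 11393 with h3 | h3
  · exact edgesRange_spec E 2 2217 9176 edges_2_3 v (by omega) (by omega)
  rcases Nat.lt_or_ge v 13999 with h4 | h4
  · exact edgesRange_spec E 2 2606 11393 edges_2_4 v (by omega) (by omega)
  rcases Nat.lt_or_ge v 16190 with h5 | h5
  · exact edgesRange_spec E 2 2191 13999 edges_2_5 v (by omega) (by omega)
  exact edgesRange_spec E 2 841 16190 edges_2_6 v (by omega) (by omega)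

theorem edgesx_3 : ∀ v, v < 17031 → edgeOK E 3 v = true := by
  intro v hv
  rcases Nat.lt_or_ge v 3886 with h0 | h0
  · exact edgesRange_spec E 3 3886 0 edges_3_0 v (by omega) (by omega)
  rcases Nat.lt_or_ge v 7839 with h1 | h1
  · exact edgesRange_spec E 3 3953 3886 edges_3_1 v (by omega) (by omega)
  rcases Nat.lt_or_ge v 10528 with h2 | h2
  · exact edgesRange_spec E 3 2689 7839 edges_3_2 v (by omega) (by omega)
  rcases Nat.lt_or_ge v 13836 with h3 | h3
  · exact edgesRange_spec E 3 3308 10528 edges_3_3 v (by omega) (by omega)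
  rcases Nat.lt_or_ge v 16297 with h4 | h4
  · exact edgesRange_spec E 3 2461 13836 edges_3_4 v (by omega) (by omega)
  exact edgesRange_spec E 3 734 16297 edges_3_5 v (by omega) (by omega)

theorem edgesx_4 : ∀ v, v < 17031 → edgeOK E 4 v = true := by
  intro v hv
  rcases Nat.lt_or_ge v 3666 with h0 | h0
  · exact edgesRange_spec E 4 3666 0 edges_4_0 v (by omega) (by omega)
  rcases Nat.lt_or_ge v 7399 with h1 | h1
  · exact edgesRange_spec E 4 3733 3666 edges_4_1 v (by omega) (by omega)
  rcases Nat.lt_or_ge v 9843 with h2 | h2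
  · exact edgesRange_spec E 4 2444 7399 edges_4_2 v (by omega) (by omega)
  rcases Nat.lt_or_ge v 12276 with h3 | h3
  · exact edgesRange_spec E 4 2433 9843 edges_4_3 v (by omega) (by omega)
  rcases Nat.lt_or_ge v 15726 with h4 | h4
  · exact edgesRange_spec E 4 3450 12276 edges_4_4 v (by omega) (by omega)
  exact edgesRange_spec E 4 1305 15726 edges_4_5 v (by omega) (by omega)

theorem edgesx_5 : ∀ v, v < 17031 → edgeOK E 5 v = true := by
  intro v hv
  rcases Nat.lt_or_ge v 3745 with h0 | h0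
  · exact edgesRange_spec E 5 3745 0 edges_5_0 v (by omega) (by omega)
  rcases Nat.lt_or_ge v 7226 with h1 | h1
  · exact edgesRange_spec E 5 3481 3745 edges_5_1 v (by omega) (by omega)
  rcases Nat.lt_or_ge v 9537 with h2 | h2
  · exact edgesRange_spec E 5 2311 7226 edges_5_2 v (by omega) (by omega)
  rcases Nat.lt_or_ge v 11733 with h3 | h3
  · exact edgesRange_spec E 5 2196 9537 edges_5_3 v (by omega) (by omega)
  rcases Nat.lt_or_ge v 14081 with h4 | h4
  · exact edgesRange_spec E 5 2348 11733 edges_5_4 v (by omega) (by omega)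
  exact edgesRange_spec E 5 2950 14081 edges_5_5 v (by omega) (by omega)

theorem edgesx_6 : ∀ v, v < 17031 → edgeOK E 6 v = true := by
  intro v hv
  rcases Nat.lt_or_ge v 3433 with h0 | h0
  · exact edgesRange_spec E 6 3433 0 edges_6_0 v (by omega) (by omega)
  rcases Nat.lt_or_ge v 6714 with h1 | h1
  · exact edgesRange_spec E 6 3281 3433 edges_6_1 v (by omega) (by omega)
  rcases Nat.lt_or_ge v 9053 with h2 | h2
  · exact edgesRange_spec E 6 2339 6714 edges_6_2 v (by omega) (by omega)
  rcases Nat.lt_or_ge v 11218 with h3 | h3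
  · exact edgesRange_spec E 6 2165 9053 edges_6_3 v (by omega) (by omega)
  rcases Nat.lt_or_ge v 13291 with h4 | h4
  · exact edgesRange_spec E 6 2073 11218 edges_6_4 v (by omega) (by omega)
  exact edgesRange_spec E 6 3740 13291 edges_6_5 v (by omega) (by omega)

theorem edgesx_7 : ∀ v, v < 17031 → edgeOK E 7 v = true := by
  intro v hv
  rcases Nat.lt_or_ge v 5905 with h0 | h0
  · exact edgesRange_spec E 7 5905 0 edges_7_0 v (by omega) (by omega)
  rcases Nat.lt_or_ge v 10128 with h1 | h1
  · exact edgesRange_spec E 7 4223 5905 edges_7_1 v (by omega) (by omega)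
  rcases Nat.lt_or_ge v 13832 with h2 | h2
  · exact edgesRange_spec E 7 3704 10128 edges_7_2 v (by omega) (by omega)
  rcases Nat.lt_or_ge v 15949 with h3 | h3
  · exact edgesRange_spec E 7 2117 13832 edges_7_3 v (by omega) (by omega)
  exact edgesRange_spec E 7 1082 15949 edges_7_4 v (by omega) (by omega)

theorem edgesx_8 : ∀ v, v < 17031 → edgeOK E 8 v = true := by
  intro v hv
  rcases Nat.lt_or_ge v 5626 with h0 | h0
  · exact edgesRange_spec E 8 5626 0 edges_8_0 v (by omega) (by omega)
  rcases Nat.lt_or_ge v 11351 with h1 | h1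
  · exact edgesRange_spec E 8 5725 5626 edges_8_1 v (by omega) (by omega)
  rcases Nat.lt_or_ge v 13938 with h2 | h2
  · exact edgesRange_spec E 8 2587 11351 edges_8_2 v (by omega) (by omega)
  rcases Nat.lt_or_ge v 15978 with h3 | h3
  · exact edgesRange_spec E 8 2040 13938 edges_8_3 v (by omega) (by omega)
  exact edgesRange_spec E 8 1053 15978 edges_8_4 v (by omega) (by omega)

theorem hA0 : ∀ v, v < 17031 → aliasOK E v = true := by
  intro v hv
  rcases Nat.lt_or_ge v 6357 with h0 | h0
  · exact aliasRange_spec E 6357 0 aliases_0 v (by omega) (by omega)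
  exact aliasRange_spec E 10674 6357 aliases_1 v (by omega) (by omega)

theorem hrows0 : ∀ v, v < 17031 → tb RS v = true → rowOK2 E RS v E.D.k = true := by
  intro v hv
  rcases Nat.lt_or_ge v 3000 with h0 | h0
  · exact rowsRange_spec E RS 3000 0 rows_0 v (by omega) (by omega)
  rcases Nat.lt_or_ge v 6000 with h1 | h1
  · exact rowsRange_spec E RS 3000 3000 rows_1 v (by omega) (by omega)
  rcases Nat.lt_or_ge v 9000 with h2 | h2
  · exact rowsRange_spec E RS 3000 6000 rows_2 v (by omega) (by omega)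
  rcases Nat.lt_or_ge v 12000 with h3 | h3
  · exact rowsRange_spec E RS 3000 9000 rows_3 v (by omega) (by omega)
  rcases Nat.lt_or_ge v 15000 with h4 | h4
  · exact rowsRange_spec E RS 3000 12000 rows_4 v (by omega) (by omega)
  exact rowsRange_spec E RS 2031 15000 rows_5 v (by omega) (by omega)

theorem relw_0 : ∀ v, v < 14080 → walkT ctF (D.wlen 0) (D.wordP 0) v = v := by
  intro v hv
  exact relPtsF_spec ctF _ _ 14080 0 relc_0_0 v (by omega) (by omega)

theorem relw_1 : ∀ v, v < 14080 → walkT ctF (D.wlen 1) (D.wordP 1) v = v := by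
  intro v hv
  exact relPtsF_spec ctF _ _ 14080 0 relc_1_0 v (by omega) (by omega)

theorem relw_2 : ∀ v, v < 14080 → walkT ctF (D.wlen 2) (D.wordP 2) v = v := by
  intro v hv
  exact relPtsF_spec ctF _ _ 14080 0 relc_2_0 v (by omega) (by omega)

theorem relw_3 : ∀ v, v < 14080 → walkT ctF (D.wlen 3) (D.wordP 3) v = v := by
  intro v hv
  exact relPtsF_spec ctF _ _ 14080 0 relc_3_0 v (by omega) (by omega)

theorem relw_4 : ∀ v, v < 14080 → walkT ctF (D.wlen 4) (D.wordP 4) v = v := by
  intro v hv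
  exact relPtsF_spec ctF _ _ 14080 0 relc_4_0 v (by omega) (by omega)

theorem relw_5 : ∀ v, v < 14080 → walkT ctF (D.wlen 5) (D.wordP 5) v = v := by
  intro v hv
  exact relPtsF_spec ctF _ _ 14080 0 relc_5_0 v (by omega) (by omega)

theorem relw_6 : ∀ v, v < 14080 → walkT ctF (D.wlen 6) (D.wordP 6) v = v := by
  intro v hv
  exact relPtsF_spec ctF _ _ 14080 0 relc_6_0 v (by omega) (by omega)

theorem relw_7 : ∀ v, v < 14080 → walkT ctF (D.wlen 7) (D.wordP 7) v = v := by
  intro v hv
  exact relPtsF_spec ctF _ _ 14080 0 relc_7_0 v (by omega) (by omega)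

theorem relw_8 : ∀ v, v < 14080 → walkT ctF (D.wlen 8) (D.wordP 8) v = v := by
  intro v hv
  exact relPtsF_spec ctF _ _ 14080 0 relc_8_0 v (by omega) (by omega)

theorem relw_9 : ∀ v, v < 14080 → walkT ctF (D.wlen 9) (D.wordP 9) v = v := by
  intro v hv
  exact relPtsF_spec ctF _ _ 14080 0 relc_9_0 v (by omega) (by omega)

theorem relw_10 : ∀ v, v < 14080 → walkT ctF (D.wlen 10) (D.wordP 10) v = v := by
  intro v hv
  exact relPtsF_spec ctF _ _ 14080 0 relc_10_0 v (by omega) (by omega)

theorem relw_11 : ∀ v, v < 14080 → walkT ctF (D.wlen 11) (D.wordP 11) v = v := by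
  intro v hv
  exact relPtsF_spec ctF _ _ 14080 0 relc_11_0 v (by omega) (by omega)

theorem relw_12 : ∀ v, v < 14080 → walkT ctF (D.wlen 12) (D.wordP 12) v = v := by
  intro v hv
  exact relPtsF_spec ctF _ _ 14080 0 relc_12_0 v (by omega) (by omega)

theorem relw_13 : ∀ v, v < 14080 → walkT ctF (D.wlen 13) (D.wordP 13) v = v := by
  intro v hv
  exact relPtsF_spec ctF _ _ 14080 0 relc_13_0 v (by omega) (by omega)

theorem relw_14 : ∀ v, v < 14080 → walkT ctF (D.wlen 14) (D.wordP 14) v = v := by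
  intro v hv
  exact relPtsF_spec ctF _ _ 14080 0 relc_14_0 v (by omega) (by omega)

theorem relw_15 : ∀ v, v < 14080 → walkT ctF (D.wlen 15) (D.wordP 15) v = v := by
  intro v hv
  exact relPtsF_spec ctF _ _ 14080 0 relc_15_0 v (by omega) (by omega)

theorem relw_16 : ∀ v, v < 14080 → walkT ctF (D.wlen 16) (D.wordP 16) v = v := by
  intro v hv
  exact relPtsF_spec ctF _ _ 14080 0 relc_16_0 v (by omega) (by omega)

theorem relw_17 : ∀ v, v < 14080 → walkT ctF (D.wlen 17) (D.wordP 17) v = v := by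
  intro v hv
  exact relPtsF_spec ctF _ _ 14080 0 relc_17_0 v (by omega) (by omega)

theorem relw_18 : ∀ v, v < 14080 → walkT ctF (D.wlen 18) (D.wordP 18) v = v := by
  intro v hv
  exact relPtsF_spec ctF _ _ 14080 0 relc_18_0 v (by omega) (by omega)

theorem relw_19 : ∀ v, v < 14080 → walkT ctF (D.wlen 19) (D.wordP 19) v = v := by
  intro v hv
  exact relPtsF_spec ctF _ _ 14080 0 relc_19_0 v (by omega) (by omega)

theorem relw_20 : ∀ v, v < 14080 → walkT ctF (D.wlen 20) (D.wordP 20) v = v := by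
  intro v hv
  exact relPtsF_spec ctF _ _ 14080 0 relc_20_0 v (by omega) (by omega)

theorem relw_21 : ∀ v, v < 14080 → walkT ctF (D.wlen 21) (D.wordP 21) v = v := by
  intro v hv
  exact relPtsF_spec ctF _ _ 14080 0 relc_21_0 v (by omega) (by omega)

theorem relw_22 : ∀ v, v < 14080 → walkT ctF (D.wlen 22) (D.wordP 22) v = v := by
  intro v hv
  exact relPtsF_spec ctF _ _ 14080 0 relc_22_0 v (by omega) (by omega)

theorem relw_23 : ∀ v, v < 14080 → walkT ctF (D.wlen 23) (D.wordP 23) v = v := by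
  intro v hv
  exact relPtsF_spec ctF _ _ 14080 0 relc_23_0 v (by omega) (by omega)

theorem relw_24 : ∀ v, v < 14080 → walkT ctF (D.wlen 24) (D.wordP 24) v = v := by
  intro v hv
  exact relPtsF_spec ctF _ _ 14080 0 relc_24_0 v (by omega) (by omega)

theorem relw_25 : ∀ v, v < 14080 → walkT ctF (D.wlen 25) (D.wordP 25) v = v := by
  intro v hv
  exact relPtsF_spec ctF _ _ 14080 0 relc_25_0 v (by omega) (by omega)

theorem relw_26 : ∀ v, v < 14080 → walkT ctF (D.wlen 26) (D.wordP 26) v = v := by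
  intro v hv
  exact relPtsF_spec ctF _ _ 14080 0 relc_26_0 v (by omega) (by omega)

theorem relw_27 : ∀ v, v < 14080 → walkT ctF (D.wlen 27) (D.wordP 27) v = v := by
  intro v hv
  exact relPtsF_spec ctF _ _ 14080 0 relc_27_0 v (by omega) (by omega)

theorem relw_28 : ∀ v, v < 14080 → walkT ctF (D.wlen 28) (D.wordP 28) v = v := by
  intro v hv
  exact relPtsF_spec ctF _ _ 14080 0 relc_28_0 v (by omega) (by omega)

theorem relw_29 : ∀ v, v < 14080 → walkT ctF (D.wlen 29) (D.wordP 29) v = v := by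
  intro v hv
  exact relPtsF_spec ctF _ _ 14080 0 relc_29_0 v (by omega) (by omega)

theorem relw_30 : ∀ v, v < 14080 → walkT ctF (D.wlen 30) (D.wordP 30) v = v := by
  intro v hv
  exact relPtsF_spec ctF _ _ 14080 0 relc_30_0 v (by omega) (by omega)

theorem relw_31 : ∀ v, v < 14080 → walkT ctF (D.wlen 31) (D.wordP 31) v = v := by
  intro v hv
  exact relPtsF_spec ctF _ _ 14080 0 relc_31_0 v (by omega) (by omega)

theorem relw_32 : ∀ v, v < 14080 → walkT ctF (D.wlen 32) (D.wordP 32) v = v := by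
  intro v hv
  exact relPtsF_spec ctF _ _ 14080 0 relc_32_0 v (by omega) (by omega)

theorem relw_33 : ∀ v, v < 14080 → walkT ctF (D.wlen 33) (D.wordP 33) v = v := by
  intro v hv
  exact relPtsF_spec ctF _ _ 14080 0 relc_33_0 v (by omega) (by omega)

theorem relw_34 : ∀ v, v < 14080 → walkT ctF (D.wlen 34) (D.wordP 34) v = v := by
  intro v hv
  exact relPtsF_spec ctF _ _ 14080 0 relc_34_0 v (by omega) (by omega)

theorem relw_35 : ∀ v, v < 14080 → walkT ctF (D.wlen 35) (D.wordP 35) v = v := by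
  intro v hv
  exact relPtsF_spec ctF _ _ 14080 0 relc_35_0 v (by omega) (by omega)

theorem relw_36 : ∀ v, v < 14080 → walkT ctF (D.wlen 36) (D.wordP 36) v = v := by
  intro v hv
  exact relPtsF_spec ctF _ _ 14080 0 relc_36_0 v (by omega) (by omega)

theorem relw_37 : ∀ v, v < 14080 → walkT ctF (D.wlen 37) (D.wordP 37) v = v := by
  intro v hv
  exact relPtsF_spec ctF _ _ 14080 0 relc_37_0 v (by omega) (by omega)

theorem relw_38 : ∀ v, v < 14080 → walkT ctF (D.wlen 38) (D.wordP 38) v = v := by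
  intro v hv
  exact relPtsF_spec ctF _ _ 14080 0 relc_38_0 v (by omega) (by omega)

theorem relw_39 : ∀ v, v < 14080 → walkT ctF (D.wlen 39) (D.wordP 39) v = v := by
  intro v hv
  exact relPtsF_spec ctF _ _ 14080 0 relc_39_0 v (by omega) (by omega)

theorem relw_40 : ∀ v, v < 14080 → walkT ctF (D.wlen 40) (D.wordP 40) v = v := by
  intro v hv
  exact relPtsF_spec ctF _ _ 14080 0 relc_40_0 v (by omega) (by omega)

theorem relw_41 : ∀ v, v < 14080 → walkT ctF (D.wlen 41) (D.wordP 41) v = v := by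
  intro v hv
  exact relPtsF_spec ctF _ _ 14080 0 relc_41_0 v (by omega) (by omega)

theorem relw_42 : ∀ v, v < 14080 → walkT ctF (D.wlen 42) (D.wordP 42) v = v := by
  intro v hv
  exact relPtsF_spec ctF _ _ 14080 0 relc_42_0 v (by omega) (by omega)

theorem relw_43 : ∀ v, v < 14080 → walkT ctF (D.wlen 43) (D.wordP 43) v = v := by
  intro v hv
  exact relPtsF_spec ctF _ _ 14080 0 relc_43_0 v (by omega) (by omega)

theorem relw_44 : ∀ v, v < 14080 → walkT ctF (D.wlen 44) (D.wordP 44) v = v := by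
  intro v hv
  exact relPtsF_spec ctF _ _ 14080 0 relc_44_0 v (by omega) (by omega)

theorem relw_45 : ∀ v, v < 14080 → walkT ctF (D.wlen 45) (D.wordP 45) v = v := by
  intro v hv
  exact relPtsF_spec ctF _ _ 14080 0 relc_45_0 v (by omega) (by omega)

theorem relw_46 : ∀ v, v < 14080 → walkT ctF (D.wlen 46) (D.wordP 46) v = v := by
  intro v hv
  exact relPtsF_spec ctF _ _ 14080 0 relc_46_0 v (by omega) (by omega)

theorem relw_47 : ∀ v, v < 14080 → walkT ctF (D.wlen 47) (D.wordP 47) v = v := by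
  intro v hv
  exact relPtsF_spec ctF _ _ 14080 0 relc_47_0 v (by omega) (by omega)

theorem relw_48 : ∀ v, v < 14080 → walkT ctF (D.wlen 48) (D.wordP 48) v = v := by
  intro v hv
  exact relPtsF_spec ctF _ _ 14080 0 relc_48_0 v (by omega) (by omega)

theorem relw_49 : ∀ v, v < 14080 → walkT ctF (D.wlen 49) (D.wordP 49) v = v := by
  intro v hv
  exact relPtsF_spec ctF _ _ 14080 0 relc_49_0 v (by omega) (by omega)

theorem relw_50 : ∀ v, v < 14080 → walkT ctF (D.wlen 50) (D.wordP 50) v = v := by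
  intro v hv
  exact relPtsF_spec ctF _ _ 14080 0 relc_50_0 v (by omega) (by omega)

theorem relw_51 : ∀ v, v < 14080 → walkT ctF (D.wlen 51) (D.wordP 51) v = v := by
  intro v hv
  exact relPtsF_spec ctF _ _ 14080 0 relc_51_0 v (by omega) (by omega)

theorem relw_52 : ∀ v, v < 14080 → walkT ctF (D.wlen 52) (D.wordP 52) v = v := by
  intro v hv
  exact relPtsF_spec ctF _ _ 14080 0 relc_52_0 v (by omega) (by omega)

theorem relw_53 : ∀ v, v < 14080 → walkT ctF (D.wlen 53) (D.wordP 53) v = v := by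
  intro v hv
  exact relPtsF_spec ctF _ _ 14080 0 relc_53_0 v (by omega) (by omega)

theorem relw_54 : ∀ v, v < 14080 → walkT ctF (D.wlen 54) (D.wordP 54) v = v := by
  intro v hv
  exact relPtsF_spec ctF _ _ 14080 0 relc_54_0 v (by omega) (by omega)

theorem relw_55 : ∀ v, v < 14080 → walkT ctF (D.wlen 55) (D.wordP 55) v = v := by
  intro v hv
  exact relPtsF_spec ctF _ _ 14080 0 relc_55_0 v (by omega) (by omega)

theorem relw_56 : ∀ v, v < 14080 → walkT ctF (D.wlen 56) (D.wordP 56) v = v := by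
  intro v hv
  exact relPtsF_spec ctF _ _ 14080 0 relc_56_0 v (by omega) (by omega)

theorem relw_57 : ∀ v, v < 14080 → walkT ctF (D.wlen 57) (D.wordP 57) v = v := by
  intro v hv
  exact relPtsF_spec ctF _ _ 14080 0 relc_57_0 v (by omega) (by omega)

theorem relw_58 : ∀ v, v < 14080 → walkT ctF (D.wlen 58) (D.wordP 58) v = v := by
  intro v hv
  exact relPtsF_spec ctF _ _ 14080 0 relc_58_0 v (by omega) (by omega)

theorem relw_59 : ∀ v, v < 14080 → walkT ctF (D.wlen 59) (D.wordP 59) v = v := by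
  intro v hv
  exact relPtsF_spec ctF _ _ 14080 0 relc_59_0 v (by omega) (by omega)

theorem relw_60 : ∀ v, v < 14080 → walkT ctF (D.wlen 60) (D.wordP 60) v = v := by
  intro v hv
  exact relPtsF_spec ctF _ _ 14080 0 relc_60_0 v (by omega) (by omega)

theorem relw_61 : ∀ v, v < 14080 → walkT ctF (D.wlen 61) (D.wordP 61) v = v := by
  intro v hv
  exact relPtsF_spec ctF _ _ 14080 0 relc_61_0 v (by omega) (by omega)

theorem relw_62 : ∀ v, v < 14080 → walkT ctF (D.wlen 62) (D.wordP 62) v = v := by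
  intro v hv
  exact relPtsF_spec ctF _ _ 14080 0 relc_62_0 v (by omega) (by omega)

theorem relw_63 : ∀ v, v < 14080 → walkT ctF (D.wlen 63) (D.wordP 63) v = v := by
  intro v hv
  exact relPtsF_spec ctF _ _ 14080 0 relc_63_0 v (by omega) (by omega)

theorem relw_64 : ∀ v, v < 14080 → walkT ctF (D.wlen 64) (D.wordP 64) v = v := by
  intro v hv
  exact relPtsF_spec ctF _ _ 14080 0 relc_64_0 v (by omega) (by omega)

theorem relw_65 : ∀ v, v < 14080 → walkT ctF (D.wlen 65) (D.wordP 65) v = v := by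
  intro v hv
  exact relPtsF_spec ctF _ _ 14080 0 relc_65_0 v (by omega) (by omega)

theorem relw_66 : ∀ v, v < 14080 → walkT ctF (D.wlen 66) (D.wordP 66) v = v := by
  intro v hv
  exact relPtsF_spec ctF _ _ 14080 0 relc_66_0 v (by omega) (by omega)

theorem relw_67 : ∀ v, v < 14080 → walkT ctF (D.wlen 67) (D.wordP 67) v = v := by
  intro v hv
  exact relPtsF_spec ctF _ _ 14080 0 relc_67_0 v (by omega) (by omega)

theorem relw_68 : ∀ v, v < 14080 → walkT ctF (D.wlen 68) (D.wordP 68) v = v := by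
  intro v hv
  exact relPtsF_spec ctF _ _ 14080 0 relc_68_0 v (by omega) (by omega)

theorem relw_69 : ∀ v, v < 14080 → walkT ctF (D.wlen 69) (D.wordP 69) v = v := by
  intro v hv
  exact relPtsF_spec ctF _ _ 14080 0 relc_69_0 v (by omega) (by omega)

theorem relw_70 : ∀ v, v < 14080 → walkT ctF (D.wlen 70) (D.wordP 70) v = v := by
  intro v hv
  exact relPtsF_spec ctF _ _ 14080 0 relc_70_0 v (by omega) (by omega)

theorem relw_71 : ∀ v, v < 14080 → walkT ctF (D.wlen 71) (D.wordP 71) v = v := by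
  intro v hv
  exact relPtsF_spec ctF _ _ 14080 0 relc_71_0 v (by omega) (by omega)

theorem relw_72 : ∀ v, v < 14080 → walkT ctF (D.wlen 72) (D.wordP 72) v = v := by
  intro v hv
  exact relPtsF_spec ctF _ _ 14080 0 relc_72_0 v (by omega) (by omega)

theorem relw_73 : ∀ v, v < 14080 → walkT ctF (D.wlen 73) (D.wordP 73) v = v := by
  intro v hv
  exact relPtsF_spec ctF _ _ 14080 0 relc_73_0 v (by omega) (by omega)

theorem relw_74 : ∀ v, v < 14080 → walkT ctF (D.wlen 74) (D.wordP 74) v = v := by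
  intro v hv
  exact relPtsF_spec ctF _ _ 14080 0 relc_74_0 v (by omega) (by omega)

theorem relw_75 : ∀ v, v < 14080 → walkT ctF (D.wlen 75) (D.wordP 75) v = v := by
  intro v hv
  exact relPtsF_spec ctF _ _ 14080 0 relc_75_0 v (by omega) (by omega)

theorem relw_76 : ∀ v, v < 14080 → walkT ctF (D.wlen 76) (D.wordP 76) v = v := by
  intro v hv
  exact relPtsF_spec ctF _ _ 14080 0 relc_76_0 v (by omega) (by omega)

theorem relw_77 : ∀ v, v < 14080 → walkT ctF (D.wlen 77) (D.wordP 77) v = v := by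
  intro v hv
  exact relPtsF_spec ctF _ _ 14080 0 relc_77_0 v (by omega) (by omega)

theorem relw_78 : ∀ v, v < 14080 → walkT ctF (D.wlen 78) (D.wordP 78) v = v := by
  intro v hv
  exact relPtsF_spec ctF _ _ 14080 0 relc_78_0 v (by omega) (by omega)

theorem relw_79 : ∀ v, v < 14080 → walkT ctF (D.wlen 79) (D.wordP 79) v = v := by
  intro v hv
  exact relPtsF_spec ctF _ _ 14080 0 relc_79_0 v (by omega) (by omega)

theorem relw_80 : ∀ v, v < 14080 → walkT ctF (D.wlen 80) (D.wordP 80) v = v := by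
  intro v hv
  exact relPtsF_spec ctF _ _ 14080 0 relc_80_0 v (by omega) (by omega)

theorem relw_81 : ∀ v, v < 14080 → walkT ctF (D.wlen 81) (D.wordP 81) v = v := by
  intro v hv
  rcases Nat.lt_or_ge v 2222 with h0 | h0
  · exact relPtsF_spec ctF _ _ 2222 0 relc_81_0 v (by omega) (by omega)
  rcases Nat.lt_or_ge v 4444 with h1 | h1
  · exact relPtsF_spec ctF _ _ 2222 2222 relc_81_1 v (by omega) (by omega)
  rcases Nat.lt_or_ge v 6666 with h2 | h2
  · exact relPtsF_spec ctF _ _ 2222 4444 relc_81_2 v (by omega) (by omega)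
  rcases Nat.lt_or_ge v 8888 with h3 | h3
  · exact relPtsF_spec ctF _ _ 2222 6666 relc_81_3 v (by omega) (by omega)
  rcases Nat.lt_or_ge v 11110 with h4 | h4
  · exact relPtsF_spec ctF _ _ 2222 8888 relc_81_4 v (by omega) (by omega)
  rcases Nat.lt_or_ge v 13332 with h5 | h5
  · exact relPtsF_spec ctF _ _ 2222 11110 relc_81_5 v (by omega) (by omega)
  exact relPtsF_spec ctF _ _ 748 13332 relc_81_6 v (by omega) (by omega)

theorem relw_82 : ∀ v, v < 14080 → walkT ctF (D.wlen 82) (D.wordP 82) v = v := by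
  intro v hv
  rcases Nat.lt_or_ge v 3174 with h0 | h0
  · exact relPtsF_spec ctF _ _ 3174 0 relc_82_0 v (by omega) (by omega)
  rcases Nat.lt_or_ge v 6348 with h1 | h1
  · exact relPtsF_spec ctF _ _ 3174 3174 relc_82_1 v (by omega) (by omega)
  rcases Nat.lt_or_ge v 9522 with h2 | h2
  · exact relPtsF_spec ctF _ _ 3174 6348 relc_82_2 v (by omega) (by omega)
  rcases Nat.lt_or_ge v 12696 with h3 | h3
  · exact relPtsF_spec ctF _ _ 3174 9522 relc_82_3 v (by omega) (by omega)
  exact relPtsF_spec ctF _ _ 1384 12696 relc_82_4 v (by omega) (by omega)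

theorem relw_83 : ∀ v, v < 14080 → walkT ctF (D.wlen 83) (D.wordP 83) v = v := by
  intro v hv
  rcases Nat.lt_or_ge v 3174 with h0 | h0
  · exact relPtsF_spec ctF _ _ 3174 0 relc_83_0 v (by omega) (by omega)
  rcases Nat.lt_or_ge v 6348 with h1 | h1
  · exact relPtsF_spec ctF _ _ 3174 3174 relc_83_1 v (by omega) (by omega)
  rcases Nat.lt_or_ge v 9522 with h2 | h2
  · exact relPtsF_spec ctF _ _ 3174 6348 relc_83_2 v (by omega) (by omega)
  rcases Nat.lt_or_ge v 12696 with h3 | h3
  · exact relPtsF_spec ctF _ _ 3174 9522 relc_83_3 v (by omega) (by omega)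
  exact relPtsF_spec ctF _ _ 1384 12696 relc_83_4 v (by omega) (by omega)

theorem hE : ∀ v, v < E.M → ∀ x, x < E.D.k → edgeOK E x v = true := by
  intro v hv x hx
  have hv' : v < 17031 := hv
  have hx' : x < 9 := hx
  interval_cases x
  · exact edgesx_0 v hv'
  · exact edgesx_1 v hv'
  · exact edgesx_2 v hv'
  · exact edgesx_3 v hv'
  · exact edgesx_4 v hv'
  · exact edgesx_5 v hv'
  · exact edgesx_6 v hv'
  · exact edgesx_7 v hv'
  · exact edgesx_8 v hv'

theorem hA : ∀ v, v < E.M → aliasOK E v = true := fun v hv => hA0 v hv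

theorem hrows : ∀ v, v < E.M → tb RS v = true → rowOK2 E RS v E.D.k = true := fun v hv => hrows0 v hv

theorem hT : ∀ x, x < E.D.k → ∀ v, v < 14080 → ctF x v < 14080 ∧ ctF x (ctF x v) = v := by
  intro x hx v hv
  have hx' : x < 9 := hx
  interval_cases x
  · exact invRowF_spec ctF 14080 0 14080 0 inv_0 v (Nat.zero_le _) (by omega)
  · exact invRowF_spec ctF 14080 1 14080 0 inv_1 v (Nat.zero_le _) (by omega)
  · exact invRowF_spec ctF 14080 2 14080 0 inv_2 v (Nat.zero_le _) (by omega)
  · exact invRowF_spec ctF 14080 3 14080 0 inv_3 v (Nat.zero_le _) (by omega)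
  · exact invRowF_spec ctF 14080 4 14080 0 inv_4 v (Nat.zero_le _) (by omega)
  · exact invRowF_spec ctF 14080 5 14080 0 inv_5 v (Nat.zero_le _) (by omega)
  · exact invRowF_spec ctF 14080 6 14080 0 inv_6 v (Nat.zero_le _) (by omega)
  · exact invRowF_spec ctF 14080 7 14080 0 inv_7 v (Nat.zero_le _) (by omega)
  · exact invRowF_spec ctF 14080 8 14080 0 inv_8 v (Nat.zero_le _) (by omega)

theorem hltr : ∀ j, j < E.D.nw → lettersOK E.D.k (E.D.wlen j) (E.D.wordP j) = true :=
  wordsOK_spec D D.nw words_ok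

theorem hrelT : ∀ wi, wi < E.D.nrel → ∀ v, v < 14080 →
    walkT ctF (E.D.wlen wi) (E.D.wordP wi) v = v := by
  intro wi hwi
  have hwi' : wi < 84 := hwi
  interval_cases wi
  · exact relw_0
  · exact relw_1
  · exact relw_2
  · exact relw_3
  · exact relw_4
  · exact relw_5
  · exact relw_6
  · exact relw_7
  · exact relw_8
  · exact relw_9
  · exact relw_10
  · exact relw_11
  · exact relw_12
  · exact relw_13
  · exact relw_14
  · exact relw_15
  · exact relw_16
  · exact relw_17
  · exact relw_18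
  · exact relw_19
  · exact relw_20
  · exact relw_21
  · exact relw_22
  · exact relw_23
  · exact relw_24
  · exact relw_25
  · exact relw_26
  · exact relw_27
  · exact relw_28
  · exact relw_29
  · exact relw_30
  · exact relw_31
  · exact relw_32
  · exact relw_33
  · exact relw_34
  · exact relw_35
  · exact relw_36
  · exact relw_37
  · exact relw_38
  · exact relw_39
  · exact relw_40
  · exact relw_41
  · exact relw_42
  · exact relw_43
  · exact relw_44
  · exact relw_45
  · exact relw_46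
  · exact relw_47
  · exact relw_48
  · exact relw_49
  · exact relw_50
  · exact relw_51
  · exact relw_52
  · exact relw_53
  · exact relw_54
  · exact relw_55
  · exact relw_56
  · exact relw_57
  · exact relw_58
  · exact relw_59
  · exact relw_60
  · exact relw_61
  · exact relw_62
  · exact relw_63
  · exact relw_64
  · exact relw_65
  · exact relw_66
  · exact relw_67
  · exact relw_68
  · exact relw_69
  · exact relw_70
  · exact relw_71
  · exact relw_72
  · exact relw_73
  · exact relw_74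
  · exact relw_75
  · exact relw_76
  · exact relw_77
  · exact relw_78
  · exact relw_79
  · exact relw_80
  · exact relw_81
  · exact relw_82
  · exact relw_83

theorem hsubT : ∀ wi, wi < E.D.nw → E.D.nrel ≤ wi →
    walkT ctF (E.D.wlen wi) (E.D.wordP wi) 0 = 0 :=
  subAll_spec ctF D D.nw sub_ok

theorem hconn : ∀ v, v < 14080 → v ≠ 0 → ∃ x, x < E.D.k ∧ ctF x v < v := by
  intro v hv
  exact connF_spec ctF 9 14080 0 conn_ok v (Nat.zero_le _) (by omega)

end Cfsg.Agent.Helper5.Fi22bTC
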