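import Cfsg.Agent.Helper5.Fi22cTCDatD

/-! kernel checks of edges, aliases, rows: Fi22cTC -/

set_option autoImplicit false
set_option Elab.async false

namespace Cfsg.Agent.Helper5.Fi22cTC
open Cfsg.Agent.Helper5.TC

set_option maxRecDepth 1000000 in
theorem edges_8_0 : edgesRange E 8 3515 0 = true := by decide +kernel

set_option maxRecDepth 1000000 in
theorem edges_7_0 : edgesRange E 7 3539 0 = true := by decide +kernel

set_option maxRecDepth 1000000 in
theorem edges_5_0 : edgesRange E 5 2780 0 = true := by decide +kernel

set_option maxRecDepth 1000000 in
theorem edges_4_0 : edgesRange E 4 2773 0 = true := by decide +kernel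

set_option maxRecDepth 1000000 in
theorem edges_3_0 : edgesRange E 3 2738 0 = true := by decide +kernel

set_option maxRecDepth 1000000 in
theorem edges_6_0 : edgesRange E 6 2650 0 = true := by decide +kernel

set_option maxRecDepth 1000000 in
theorem edges_2_0 : edgesRange E 2 2309 0 = true := by decide +kernel

set_option maxRecDepth 1000000 in
theorem edges_1_0 : edgesRange E 1 2183 0 = true := by decide +kernel

set_option maxRecDepth 1000000 in
theorem edges_0_0 : edgesRange E 0 2138 0 = true := by decide +kernel

set_option maxRecDepth 1000000 in
theorem edges_0_1 : edgesRange E 0 1401 2138 = true := by decide +kernel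

set_option maxRecDepth 1000000 in
theorem edges_1_1 : edgesRange E 1 1356 2183 = true := by decide +kernel

set_option maxRecDepth 1000000 in
theorem edges_2_1 : edgesRange E 2 1230 2309 = true := by decide +kernel

set_option maxRecDepth 1000000 in
theorem edges_6_1 : edgesRange E 6 889 2650 = true := by decide +kernel

set_option maxRecDepth 1000000 in
theorem edges_5_1 : edgesRange E 5 759 2780 = true := by decide +kernel

set_option maxRecDepth 1000000 in
theorem rows_0 : rowsRange E RS 3000 0 = true := by decide +kernel

set_option maxRecDepth 1000000 in
theorem edges_4_1 : edgesRange E 4 766 2773 = true := by decide +kernel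

set_option maxRecDepth 1000000 in
theorem edges_3_1 : edgesRange E 3 801 2738 = true := by decide +kernel

set_option maxRecDepth 1000000 in
theorem aliases_0 : aliasRange E 3539 0 = true := by decide +kernel

set_option maxRecDepth 1000000 in
theorem rows_1 : rowsRange E RS 539 3000 = true := by decide +kernel

set_option maxRecDepth 1000000 in
theorem edges_8_1 : edgesRange E 8 24 3515 = true := by decide +kernel

end Cfsg.Agent.Helper5.Fi22cTC
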