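import Cfsg.Agent.Helper5.Fi22cTCDatD
import Cfsg.Agent.Helper5.Fi22cTCDatT
import Cfsg.Agent.Helper5.TC2C

/-! kernel checks of the coset table: Fi22cTC -/

set_option autoImplicit false
set_option Elab.async false

namespace Cfsg.Agent.Helper5.Fi22cTC
open Cfsg.Agent.Helper5.TC

set_option maxRecDepth 1000000 in
theorem relc_82_0 : relPtsF ctF (D.wlen 82) (D.wordP 82) 3174 0 = true := by decide +kernel

set_option maxRecDepth 1000000 in
theorem relc_81_0 : relPtsF ctF (D.wlen 81) (D.wordP 81) 2222 0 = true := by decide +kernel

set_option maxRecDepth 1000000 in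
theorem relc_1_0 : relPtsF ctF (D.wlen 1) (D.wordP 1) 3510 0 = true := by decide +kernel

set_option maxRecDepth 1000000 in
theorem relc_9_0 : relPtsF ctF (D.wlen 9) (D.wordP 9) 3510 0 = true := by decide +kernel

set_option maxRecDepth 1000000 in
theorem relc_19_0 : relPtsF ctF (D.wlen 19) (D.wordP 19) 3510 0 = true := by decide +kernel

set_option maxRecDepth 1000000 in
theorem relc_29_0 : relPtsF ctF (D.wlen 29) (D.wordP 29) 3510 0 = true := by decide +kernel

set_option maxRecDepth 1000000 in
theorem relc_34_0 : relPtsF ctF (D.wlen 34) (D.wordP 34) 3510 0 = true := by decide +kernel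

set_option maxRecDepth 1000000 in
theorem relc_41_0 : relPtsF ctF (D.wlen 41) (D.wordP 41) 3510 0 = true := by decide +kernel

set_option maxRecDepth 1000000 in
theorem relc_51_0 : relPtsF ctF (D.wlen 51) (D.wordP 51) 3510 0 = true := by decide +kernel

set_option maxRecDepth 1000000 in
theorem relc_66_0 : relPtsF ctF (D.wlen 66) (D.wordP 66) 3510 0 = true := by decide +kernel

set_option maxRecDepth 1000000 in
theorem relc_79_0 : relPtsF ctF (D.wlen 79) (D.wordP 79) 3510 0 = true := by decide +kernel

set_option maxRecDepth 1000000 in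
theorem relc_3_0 : relPtsF ctF (D.wlen 3) (D.wordP 3) 3510 0 = true := by decide +kernel

set_option maxRecDepth 1000000 in
theorem relc_5_0 : relPtsF ctF (D.wlen 5) (D.wordP 5) 3510 0 = true := by decide +kernel

set_option maxRecDepth 1000000 in
theorem relc_7_0 : relPtsF ctF (D.wlen 7) (D.wordP 7) 3510 0 = true := by decide +kernel

set_option maxRecDepth 1000000 in
theorem relc_12_0 : relPtsF ctF (D.wlen 12) (D.wordP 12) 3510 0 = true := by decide +kernel

set_option maxRecDepth 1000000 in
theorem relc_14_0 : relPtsF ctF (D.wlen 14) (D.wordP 14) 3510 0 = true := by decide +kernel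

set_option maxRecDepth 1000000 in
theorem relc_16_0 : relPtsF ctF (D.wlen 16) (D.wordP 16) 3510 0 = true := by decide +kernel

set_option maxRecDepth 1000000 in
theorem relc_18_0 : relPtsF ctF (D.wlen 18) (D.wordP 18) 3510 0 = true := by decide +kernel

set_option maxRecDepth 1000000 in
theorem relc_23_0 : relPtsF ctF (D.wlen 23) (D.wordP 23) 3510 0 = true := by decide +kernel

set_option maxRecDepth 1000000 in
theorem relc_25_0 : relPtsF ctF (D.wlen 25) (D.wordP 25) 3510 0 = true := by decide +kernel

set_option maxRecDepth 1000000 in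
theorem relc_27_0 : relPtsF ctF (D.wlen 27) (D.wordP 27) 3510 0 = true := by decide +kernel

set_option maxRecDepth 1000000 in
theorem relc_32_0 : relPtsF ctF (D.wlen 32) (D.wordP 32) 3510 0 = true := by decide +kernel

set_option maxRecDepth 1000000 in
theorem relc_35_0 : relPtsF ctF (D.wlen 35) (D.wordP 35) 3510 0 = true := by decide +kernel

set_option maxRecDepth 1000000 in
theorem relc_37_0 : relPtsF ctF (D.wlen 37) (D.wordP 37) 3510 0 = true := by decide +kernel

set_option maxRecDepth 1000000 in
theorem relc_42_0 : relPtsF ctF (D.wlen 42) (D.wordP 42) 3510 0 = true := by decide +kernel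

set_option maxRecDepth 1000000 in
theorem relc_44_0 : relPtsF ctF (D.wlen 44) (D.wordP 44) 3510 0 = true := by decide +kernel

set_option maxRecDepth 1000000 in
theorem relc_46_0 : relPtsF ctF (D.wlen 46) (D.wordP 46) 3510 0 = true := by decide +kernel

set_option maxRecDepth 1000000 in
theorem relc_48_0 : relPtsF ctF (D.wlen 48) (D.wordP 48) 3510 0 = true := by decide +kernel

set_option maxRecDepth 1000000 in
theorem relc_53_0 : relPtsF ctF (D.wlen 53) (D.wordP 53) 3510 0 = true := by decide +kernel

set_option maxRecDepth 1000000 in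
theorem relc_55_0 : relPtsF ctF (D.wlen 55) (D.wordP 55) 3510 0 = true := by decide +kernel

set_option maxRecDepth 1000000 in
theorem relc_57_0 : relPtsF ctF (D.wlen 57) (D.wordP 57) 3510 0 = true := by decide +kernel

set_option maxRecDepth 1000000 in
theorem relc_61_0 : relPtsF ctF (D.wlen 61) (D.wordP 61) 3510 0 = true := by decide +kernel

set_option maxRecDepth 1000000 in
theorem relc_63_0 : relPtsF ctF (D.wlen 63) (D.wordP 63) 3510 0 = true := by decide +kernel

set_option maxRecDepth 1000000 in
theorem relc_65_0 : relPtsF ctF (D.wlen 65) (D.wordP 65) 3510 0 = true := by decide +kernel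

set_option maxRecDepth 1000000 in
theorem relc_68_0 : relPtsF ctF (D.wlen 68) (D.wordP 68) 3510 0 = true := by decide +kernel

set_option maxRecDepth 1000000 in
theorem relc_72_0 : relPtsF ctF (D.wlen 72) (D.wordP 72) 3510 0 = true := by decide +kernel

set_option maxRecDepth 1000000 in
theorem relc_74_0 : relPtsF ctF (D.wlen 74) (D.wordP 74) 3510 0 = true := by decide +kernel

set_option maxRecDepth 1000000 in
theorem relc_76_0 : relPtsF ctF (D.wlen 76) (D.wordP 76) 3510 0 = true := by decide +kernel

set_option maxRecDepth 1000000 in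
theorem relc_78_0 : relPtsF ctF (D.wlen 78) (D.wordP 78) 3510 0 = true := by decide +kernel

set_option maxRecDepth 1000000 in
theorem relc_83_1 : relPtsF ctF (D.wlen 83) (D.wordP 83) 336 3174 = true := by decide +kernel

set_option maxRecDepth 1000000 in
theorem relc_10_0 : relPtsF ctF (D.wlen 10) (D.wordP 10) 3510 0 = true := by decide +kernel

set_option maxRecDepth 1000000 in
theorem relc_30_0 : relPtsF ctF (D.wlen 30) (D.wordP 30) 3510 0 = true := by decide +kernel

set_option maxRecDepth 1000000 in
theorem relc_50_0 : relPtsF ctF (D.wlen 50) (D.wordP 50) 3510 0 = true := by decide +kernel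

set_option maxRecDepth 1000000 in
theorem relc_70_0 : relPtsF ctF (D.wlen 70) (D.wordP 70) 3510 0 = true := by decide +kernel

set_option maxRecDepth 1000000 in
theorem inv_0 : invRowF ctF 3510 0 3510 0 = true := by decide +kernel

set_option maxRecDepth 1000000 in
theorem inv_2 : invRowF ctF 3510 2 3510 0 = true := by decide +kernel

set_option maxRecDepth 1000000 in
theorem inv_4 : invRowF ctF 3510 4 3510 0 = true := by decide +kernel

set_option maxRecDepth 1000000 in
theorem inv_6 : invRowF ctF 3510 6 3510 0 = true := by decide +kernel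

set_option maxRecDepth 1000000 in
theorem inv_8 : invRowF ctF 3510 8 3510 0 = true := by decide +kernel

set_option maxRecDepth 1000000 in
theorem sub_ok : subAll ctF D D.nw = true := by decide +kernel

end Cfsg.Agent.Helper5.Fi22cTC
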