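import Cfsg.Agent.Helper5.Fi22cTCDatD
import Cfsg.Agent.Helper5.Fi22cTCDatT
import Cfsg.Agent.Helper5.TC2C

/-! kernel checks of the coset table: Fi22cTC -/

set_option autoImplicit false
set_option Elab.async false

namespace Cfsg.Agent.Helper5.Fi22cTC
open Cfsg.Agent.Helper5.TC

set_option maxRecDepth 1000000 in
theorem relc_83_0 : relPtsF ctF (D.wlen 83) (D.wordP 83) 3174 0 = true := by decide +kernel

set_option maxRecDepth 1000000 in
theorem relc_81_1 : relPtsF ctF (D.wlen 81) (D.wordP 81) 1288 2222 = true := by decide +kernel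

set_option maxRecDepth 1000000 in
theorem orb1_ok : orbOK ctF D 3510 S1 1 2816 oc1 = true := by decide +kernel

set_option maxRecDepth 1000000 in
theorem orb2_ok : orbOK ctF D 3510 S2 6 693 oc2 = true := by decide +kernel

set_option maxRecDepth 1000000 in
theorem relc_11_0 : relPtsF ctF (D.wlen 11) (D.wordP 11) 3510 0 = true := by decide +kernel

set_option maxRecDepth 1000000 in
theorem relc_21_0 : relPtsF ctF (D.wlen 21) (D.wordP 21) 3510 0 = true := by decide +kernel

set_option maxRecDepth 1000000 in
theorem relc_31_0 : relPtsF ctF (D.wlen 31) (D.wordP 31) 3510 0 = true := by decide +kernel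

set_option maxRecDepth 1000000 in
theorem relc_39_0 : relPtsF ctF (D.wlen 39) (D.wordP 39) 3510 0 = true := by decide +kernel

set_option maxRecDepth 1000000 in
theorem relc_49_0 : relPtsF ctF (D.wlen 49) (D.wordP 49) 3510 0 = true := by decide +kernel

set_option maxRecDepth 1000000 in
theorem relc_59_0 : relPtsF ctF (D.wlen 59) (D.wordP 59) 3510 0 = true := by decide +kernel

set_option maxRecDepth 1000000 in
theorem relc_71_0 : relPtsF ctF (D.wlen 71) (D.wordP 71) 3510 0 = true := by decide +kernel

set_option maxRecDepth 1000000 in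
theorem relc_2_0 : relPtsF ctF (D.wlen 2) (D.wordP 2) 3510 0 = true := by decide +kernel

set_option maxRecDepth 1000000 in
theorem relc_4_0 : relPtsF ctF (D.wlen 4) (D.wordP 4) 3510 0 = true := by decide +kernel

set_option maxRecDepth 1000000 in
theorem relc_6_0 : relPtsF ctF (D.wlen 6) (D.wordP 6) 3510 0 = true := by decide +kernel

set_option maxRecDepth 1000000 in
theorem relc_8_0 : relPtsF ctF (D.wlen 8) (D.wordP 8) 3510 0 = true := by decide +kernel

set_option maxRecDepth 1000000 in
theorem relc_13_0 : relPtsF ctF (D.wlen 13) (D.wordP 13) 3510 0 = true := by decide +kernel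

set_option maxRecDepth 1000000 in
theorem relc_15_0 : relPtsF ctF (D.wlen 15) (D.wordP 15) 3510 0 = true := by decide +kernel

set_option maxRecDepth 1000000 in
theorem relc_17_0 : relPtsF ctF (D.wlen 17) (D.wordP 17) 3510 0 = true := by decide +kernel

set_option maxRecDepth 1000000 in
theorem relc_22_0 : relPtsF ctF (D.wlen 22) (D.wordP 22) 3510 0 = true := by decide +kernel

set_option maxRecDepth 1000000 in
theorem relc_24_0 : relPtsF ctF (D.wlen 24) (D.wordP 24) 3510 0 = true := by decide +kernel

set_option maxRecDepth 1000000 in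
theorem relc_26_0 : relPtsF ctF (D.wlen 26) (D.wordP 26) 3510 0 = true := by decide +kernel

set_option maxRecDepth 1000000 in
theorem relc_28_0 : relPtsF ctF (D.wlen 28) (D.wordP 28) 3510 0 = true := by decide +kernel

set_option maxRecDepth 1000000 in
theorem relc_33_0 : relPtsF ctF (D.wlen 33) (D.wordP 33) 3510 0 = true := by decide +kernel

set_option maxRecDepth 1000000 in
theorem relc_36_0 : relPtsF ctF (D.wlen 36) (D.wordP 36) 3510 0 = true := by decide +kernel

set_option maxRecDepth 1000000 in
theorem relc_38_0 : relPtsF ctF (D.wlen 38) (D.wordP 38) 3510 0 = true := by decide +kernel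

set_option maxRecDepth 1000000 in
theorem relc_43_0 : relPtsF ctF (D.wlen 43) (D.wordP 43) 3510 0 = true := by decide +kernel

set_option maxRecDepth 1000000 in
theorem relc_45_0 : relPtsF ctF (D.wlen 45) (D.wordP 45) 3510 0 = true := by decide +kernel

set_option maxRecDepth 1000000 in
theorem relc_47_0 : relPtsF ctF (D.wlen 47) (D.wordP 47) 3510 0 = true := by decide +kernel

set_option maxRecDepth 1000000 in
theorem relc_52_0 : relPtsF ctF (D.wlen 52) (D.wordP 52) 3510 0 = true := by decide +kernel

set_option maxRecDepth 1000000 in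
theorem relc_54_0 : relPtsF ctF (D.wlen 54) (D.wordP 54) 3510 0 = true := by decide +kernel

set_option maxRecDepth 1000000 in
theorem relc_56_0 : relPtsF ctF (D.wlen 56) (D.wordP 56) 3510 0 = true := by decide +kernel

set_option maxRecDepth 1000000 in
theorem relc_58_0 : relPtsF ctF (D.wlen 58) (D.wordP 58) 3510 0 = true := by decide +kernel

set_option maxRecDepth 1000000 in
theorem relc_62_0 : relPtsF ctF (D.wlen 62) (D.wordP 62) 3510 0 = true := by decide +kernel

set_option maxRecDepth 1000000 in
theorem relc_64_0 : relPtsF ctF (D.wlen 64) (D.wordP 64) 3510 0 = true := by decide +kernel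

set_option maxRecDepth 1000000 in
theorem relc_67_0 : relPtsF ctF (D.wlen 67) (D.wordP 67) 3510 0 = true := by decide +kernel

set_option maxRecDepth 1000000 in
theorem relc_69_0 : relPtsF ctF (D.wlen 69) (D.wordP 69) 3510 0 = true := by decide +kernel

set_option maxRecDepth 1000000 in
theorem relc_73_0 : relPtsF ctF (D.wlen 73) (D.wordP 73) 3510 0 = true := by decide +kernel

set_option maxRecDepth 1000000 in
theorem relc_75_0 : relPtsF ctF (D.wlen 75) (D.wordP 75) 3510 0 = true := by decide +kernel

set_option maxRecDepth 1000000 in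
theorem relc_77_0 : relPtsF ctF (D.wlen 77) (D.wordP 77) 3510 0 = true := by decide +kernel

set_option maxRecDepth 1000000 in
theorem relc_82_1 : relPtsF ctF (D.wlen 82) (D.wordP 82) 336 3174 = true := by decide +kernel

set_option maxRecDepth 1000000 in
theorem relc_0_0 : relPtsF ctF (D.wlen 0) (D.wordP 0) 3510 0 = true := by decide +kernel

set_option maxRecDepth 1000000 in
theorem relc_20_0 : relPtsF ctF (D.wlen 20) (D.wordP 20) 3510 0 = true := by decide +kernel

set_option maxRecDepth 1000000 in
theorem relc_40_0 : relPtsF ctF (D.wlen 40) (D.wordP 40) 3510 0 = true := by decide +kernel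

set_option maxRecDepth 1000000 in
theorem relc_60_0 : relPtsF ctF (D.wlen 60) (D.wordP 60) 3510 0 = true := by decide +kernel

set_option maxRecDepth 1000000 in
theorem relc_80_0 : relPtsF ctF (D.wlen 80) (D.wordP 80) 3510 0 = true := by decide +kernel

set_option maxRecDepth 1000000 in
theorem inv_1 : invRowF ctF 3510 1 3510 0 = true := by decide +kernel

set_option maxRecDepth 1000000 in
theorem inv_3 : invRowF ctF 3510 3 3510 0 = true := by decide +kernel

set_option maxRecDepth 1000000 in
theorem inv_5 : invRowF ctF 3510 5 3510 0 = true := by decide +kernel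

set_option maxRecDepth 1000000 in
theorem inv_7 : invRowF ctF 3510 7 3510 0 = true := by decide +kernel

set_option maxRecDepth 1000000 in
theorem conn_ok : connF ctF 9 3510 0 = true := by decide +kernel

end Cfsg.Agent.Helper5.Fi22cTC
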