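import Cfsg.Agent.Helper5.Fi22cTCDatA
import Cfsg.Agent.Helper5.Fi22cTCDatB
import Cfsg.Agent.Helper5.Fi22cTCDatC

/-! generated certificate data (D): Fi22cTC -/

set_option autoImplicit false
set_option Elab.async false

namespace Cfsg.Agent.Helper5.Fi22cTC
open Cfsg.Agent.Helper5.TC

def D : Dat where
  k := 9
  tgt := tgF
  par := parF
  gen := genF
  ali := aliF
  wordP := fun wi => Nat.mod (Nat.shiftRight wtT (Nat.mul 512 wi)) 13407807929942597099574024998205846127479365820592393377723561443721764030073546976801874298166903427690031858186486050853753882811946569946433649006084096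
  wordR := fun wi => Nat.mod (Nat.shiftRight wrT (Nat.mul 512 wi)) 13407807929942597099574024998205846127479365820592393377723561443721764030073546976801874298166903427690031858186486050853753882811946569946433649006084096
  wlen := fun wi => Nat.mod (Nat.shiftRight wlT (Nat.mul 8 wi)) 256
  nrel := 84
  nw := 93
  fuel := 4

def E : Dat2 where
  D := D
  rank := rkF
  arank := arkF
  ev := evF
  M := 3539

def RS : ℕ := 0x7fffffffffffffffffffffffffffffffffffffffffffffffffffffffffffffffffffffffffffffffffffffffffffffffffffffffffffffffffffffffffffffffffffffffffffffffffffffffffffffffffffffffffffffffffffffffffffffffffffffffffffffffffffffffffffffffffffffffffffffffffffffffffffffffffffffffffffffffffffffffffffffffffffffffffffffffffffffffffffffffffffffffffffffffffffffffffffffffffffffffffffffffffffffffffffffffffffffffffffffffffffffffffffffffffffffffffffffffffffffffffffffffffffffffffffffffffffffffffffffffffffffffffffffffffffffffffffffffffffffffffffffffffffffffffffffffffffffffffffffffffffffffffffffffffffffffffffffffffffffffffffffffffffffffffffffffffffffffffffffffffffffffffffffffffffffffffffffffffffffffff7ffffffffffffffffdffffffff83ffffffffff05ffffffffff9fffffffffffffffffffff97fffffffffffffffffffffffffffffffffffffffffffffffffffffffffffffffffffffffffffffffffffffffffffffffffffffffffffffffffffddfffd4dffecdf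

end Cfsg.Agent.Helper5.Fi22cTC
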