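import Cfsg.Agent.Helper5.Fi23TCDatD

/-! kernel checks of edges, aliases, rows: Fi23TC -/

set_option autoImplicit false
set_option Elab.async false

namespace Cfsg.Agent.Helper5.Fi23TC
open Cfsg.Agent.Helper5.TC

set_option maxRecDepth 1000000 in
theorem edges_9_3 : edgesRange E 9 12156 15281 = true := by decide +kernel

set_option maxRecDepth 1000000 in
theorem aliases_1 : aliasRange E 5896 8222 = true := by decide +kernel

set_option maxRecDepth 1000000 in
theorem edges_4_4 : edgesRange E 4 5041 16388 = true := by decide +kernel

set_option maxRecDepth 1000000 in
theorem edges_8_4 : edgesRange E 8 4797 26500 = true := by decide +kernel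

set_option maxRecDepth 1000000 in
theorem edges_1_7 : edgesRange E 1 4567 23813 = true := by decide +kernel

set_option maxRecDepth 1000000 in
theorem edges_4_3 : edgesRange E 4 4537 11851 = true := by decide +kernel

set_option maxRecDepth 1000000 in
theorem edges_8_5 : edgesRange E 8 4452 31297 = true := by decide +kernel

set_option maxRecDepth 1000000 in
theorem edges_6_3 : edgesRange E 6 4344 10555 = true := by decide +kernel

set_option maxRecDepth 1000000 in
theorem edges_1_4 : edgesRange E 1 4226 11842 = true := by decide +kernel

set_option maxRecDepth 1000000 in
theorem edges_0_7 : edgesRange E 0 4072 22489 = true := by decide +kernel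

set_option maxRecDepth 1000000 in
theorem edges_1_3 : edgesRange E 1 3785 8057 = true := by decide +kernel

set_option maxRecDepth 1000000 in
theorem edges_5_1 : edgesRange E 5 3747 3515 = true := by decide +kernel

set_option maxRecDepth 1000000 in
theorem edges_4_1 : edgesRange E 4 3625 3520 = true := by decide +kernel

set_option maxRecDepth 1000000 in
theorem edges_3_1 : edgesRange E 3 3532 3194 = true := by decide +kernel

set_option maxRecDepth 1000000 in
theorem edges_4_6 : edgesRange E 4 3467 26301 = true := by decide +kernel

set_option maxRecDepth 1000000 in
theorem edges_3_6 : edgesRange E 3 3338 27449 = true := by decide +kernel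

set_option maxRecDepth 1000000 in
theorem edges_7_7 : edgesRange E 7 3216 26322 = true := by decide +kernel

set_option maxRecDepth 1000000 in
theorem edges_6_7 : edgesRange E 6 3100 27202 = true := by decide +kernel

set_option maxRecDepth 1000000 in
theorem edges_0_15 : edgesRange E 0 2957 42145 = true := by decide +kernel

set_option maxRecDepth 1000000 in
theorem edges_3_11 : edgesRange E 3 2803 42841 = true := by decide +kernel

set_option maxRecDepth 1000000 in
theorem edges_1_14 : edgesRange E 1 2722 41799 = true := by decide +kernel

set_option maxRecDepth 1000000 in
theorem edges_1_1 : edgesRange E 1 2562 2360 = true := by decide +kernel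

set_option maxRecDepth 1000000 in
theorem edges_1_8 : edgesRange E 1 2516 28380 = true := by decide +kernel

set_option maxRecDepth 1000000 in
theorem edges_4_7 : edgesRange E 4 2441 29768 = true := by decide +kernel

set_option maxRecDepth 1000000 in
theorem edges_9_6 : edgesRange E 9 2382 37993 = true := by decide +kernel

set_option maxRecDepth 1000000 in
theorem edges_5_12 : edgesRange E 5 2331 39831 = true := by decide +kernel

set_option maxRecDepth 1000000 in
theorem edges_5_9 : edgesRange E 5 2223 33158 = true := by decide +kernel

set_option maxRecDepth 1000000 in
theorem edges_6_15 : edgesRange E 6 2216 44875 = true := by decide +kernel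

set_option maxRecDepth 1000000 in
theorem edges_2_9 : edgesRange E 2 2151 32268 = true := by decide +kernel

set_option maxRecDepth 1000000 in
theorem edges_7_8 : edgesRange E 7 2109 29538 = true := by decide +kernel

set_option maxRecDepth 1000000 in
theorem edges_1_9 : edgesRange E 1 2099 30896 = true := by decide +kernel

set_option maxRecDepth 1000000 in
theorem edges_1_15 : edgesRange E 1 2072 44521 = true := by decide +kernel

set_option maxRecDepth 1000000 in
theorem edges_7_9 : edgesRange E 7 2068 31647 = true := by decide +kernel

set_option maxRecDepth 1000000 in
theorem edges_7_10 : edgesRange E 7 2042 33715 = true := by decide +kernel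

set_option maxRecDepth 1000000 in
theorem edges_7_11 : edgesRange E 7 2031 35757 = true := by decide +kernel

set_option maxRecDepth 1000000 in
theorem edges_7_14 : edgesRange E 7 2001 41792 = true := by decide +kernel

set_option maxRecDepth 1000000 in
theorem edges_3_12 : edgesRange E 3 1797 45644 = true := by decide +kernel

set_option maxRecDepth 1000000 in
theorem aliases_6 : aliasRange E 18289 29152 = true := by decide +kernel

set_option maxRecDepth 1000000 in
theorem rows_4 : rowsRange E RS 3000 12000 = true := by decide +kernel

set_option maxRecDepth 1000000 in
theorem rows_8 : rowsRange E RS 3000 24000 = true := by decide +kernel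

set_option maxRecDepth 1000000 in
theorem rows_12 : rowsRange E RS 3000 36000 = true := by decide +kernel

set_option maxRecDepth 1000000 in
theorem edges_2_15 : edgesRange E 2 700 46741 = true := by decide +kernel

set_option maxRecDepth 1000000 in
theorem edges_6_16 : edgesRange E 6 350 47091 = true := by decide +kernel

end Cfsg.Agent.Helper5.Fi23TC
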