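import Mathlib
import Cfsg.Prelude.Def_Sporadic
import Cfsg.Prelude.Def_SporadicB
import Cfsg.Agent.Helper5.LPO
import Cfsg.Agent.Helper5.Fi23TTA
import Cfsg.Agent.Helper5.Fi23DCB

/-!
# The class of 31671 3-transpositions of the presented group `Fi23`
-/

set_option autoImplicit false

namespace Cfsg.Agent.Helper5.Fi23DC

open Cfsg.Agent.Helper5.LP Cfsg.Agent.Helper5.TC Cfsg.Agent.Helper5.TCI Cfsg.Spor
open Cfsg.Agent.Helper5.Fi23LP (R9 R10)

/-- the list-presented `Fi23`. -/
abbrev G10 : Type := LPG 10 R10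

instance : IsSimpleGroup G10 := Fi23LP.simple_card.1

instance : Finite G10 := Fi23LP.ubA.1

/-- the transposition. -/
noncomputable def d0 : G10 := ev 10 R10 zw

theorem d0_eq : d0 = sigma z := sigma_z.symm

theorem d0_order : orderOf d0 = 2 := by
  rw [d0_eq, orderOf_injective sigma sigma_inj, z_order]

theorem g10_noncomm : ∃ a b : G10, a * b ≠ b * a := by
  by_contra h
  push Not at h
  have hc := Fi23LP.simple_card.2
  letI : CommGroup G10 := { (inferInstance : Group G10) with mul_comm := h }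
  have hp := IsSimpleGroup.prime_card (α := G10)
  rw [hc] at hp
  norm_num at hp

theorem h0 : 0 < 31671 := by norm_num

theorem para_fix : ∀ g ∈ para 10 R10 9, rho g ⟨0, h0⟩ = ⟨0, h0⟩ := by
  intro g hg
  unfold para at hg
  induction hg using Subgroup.closure_induction with
  | mem x hx =>
    obtain ⟨s, hs, rfl⟩ := hx
    obtain ⟨c, hc, rfl⟩ := mem_letterWords.mp hs
    apply Fin.ext
    rw [rho_acts.act [c] (by intro c' hc'; rw [List.mem_singleton.mp hc']; omega)]
    exact fix_letters c hc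
  | one => rw [map_one]; rfl
  | mul x y _ _ hx hy => rw [map_mul, Equiv.Perm.mul_apply, hy, hx]
  | inv x _ hx =>
    rw [map_inv, Equiv.Perm.inv_eq_iff_eq]
    exact hx.symm

theorem stab_mem : ∀ g : G10, rho g ⟨0, h0⟩ = ⟨0, h0⟩ → g ∈ para 10 R10 9 :=
  mem_of_fix_zero rho_acts Fi23LP.prim_ok h0 (para 10 R10 9) para_fix Fi23LP.idxA

theorem para_comm : ∀ g ∈ para 10 R10 9, g * d0 = d0 * g := by
  intro g hg
  rw [← range_subHom lt9 sub9] at hg
  obtain ⟨y, rfl⟩ := hg
  rw [d0_eq]
  show sigma y * sigma z = sigma z * sigma y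
  rw [← map_mul, ← map_mul, (Subgroup.mem_center_iff.mp z_center) y]

theorem d0_ne : d0 ≠ 1 := by
  intro h
  have := d0_order
  rw [h, orderOf_one] at this
  omega

theorem d0_cent (g : G10) : g * d0 = d0 * g ↔ rho g ⟨0, h0⟩ = ⟨0, h0⟩ :=
  comm_iff_fix rho_acts Fi23LP.prim_ok h0 g10_noncomm d0 d0_ne
    (fun g hg => para_comm g (stab_mem g hg)) g

theorem t1lt : ∀ c ∈ t1, c < 10 := by decide
theorem t2lt : ∀ c ∈ t2, c < 10 := by decide

theorem invA : Invol 10 R10 := by decide +kernel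

theorem conj_word (t : List ℕ) :
    d0 * (ev 10 R10 t * d0 * (ev 10 R10 t)⁻¹) = ev 10 R10 (zw ++ (t ++ zw ++ t.reverse)) := by
  rw [ev_append, ev_append, ev_append, ev_reverse invA]
  rfl

theorem prod_pow (t : List ℕ) (ht : ∀ c ∈ t, c < 10) (pd : ℕ → ℕ)
    (hag : agreeRangeF FiYATC.ctF (t ++ zw ++ t.reverse) pd 31671 0 = true) (n : ℕ)
    (hpow : iterFixRangeF (fun v => pz (pd v)) n 31671 0 = true) :
    (d0 * (ev 10 R10 t * d0 * (ev 10 R10 t)⁻¹)) ^ n = 1 := by
  have hlt2 : ∀ c ∈ t ++ zw ++ t.reverse, c < 10 := by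
    intro c hc
    rcases List.mem_append.mp hc with hc | hc
    · rcases List.mem_append.mp hc with hc | hc
      · exact ht c hc
      · exact zlt10 c hc
    · exact ht c (List.mem_reverse.mp hc)
  have hlt : ∀ c ∈ zw ++ (t ++ zw ++ t.reverse), c < 10 := by
    intro c hc
    rcases List.mem_append.mp hc with hc | hc
    · exact zlt10 c hc
    · exact hlt2 c hc
  rw [conj_word, ev_pow]
  apply eq_one_of_fix rho_acts rho_inj
  · intro c hc
    obtain ⟨l, hl, hcl⟩ := List.mem_flatten.mp hc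
    rw [List.eq_of_mem_replicate hl] at hcl
    exact hlt c hcl
  · apply fixRange_pow_of_agree tabOK _ hlt (fun v => pz (pd v)) n _ hpow
    apply agree_append tabOK zw _ hlt2 pz pd
    · intro v hv
      exact agreeRangeF_spec _ _ _ 31671 0 pz_agree v (Nat.zero_le _) (by omega)
    · intro v hv
      exact agreeRangeF_spec _ _ _ 31671 0 hag v (Nat.zero_le _) (by omega)

theorem tt_prim : ∀ p ∈ Fi23LP.prim, (d0 * (ev 10 R10 p.2.1 * d0 * (ev 10 R10 p.2.1)⁻¹)) ^ 2 = 1 ∨
    (d0 * (ev 10 R10 p.2.1 * d0 * (ev 10 R10 p.2.1)⁻¹)) ^ 3 = 1 := by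
  intro p hp
  simp only [Fi23LP.prim, List.mem_cons, List.not_mem_nil, or_false] at hp
  rcases hp with rfl | rfl
  · right
    exact prod_pow t1 t1lt pd1 pd1_agree 3 pc1_pow
  · left
    exact prod_pow t2 t2lt pd2 pd2_agree 2 pc2_pow

/-- **The class of 3-transpositions.** -/
theorem tt_class : Cfsg.IsThreeTranspositionClass (conjugatesOf d0) ∧
    Nat.card (conjugatesOf d0) = 31671 :=
  three_transposition_class rho_acts Fi23LP.prim_ok h0 d0 d0_order d0_cent tt_prim

theorem cent_d0 : Subgroup.centralizer ({d0} : Set G10) = sigma.range := by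
  ext g
  rw [Subgroup.mem_centralizer_iff]
  constructor
  · intro hg
    have h1 : g * d0 = d0 * g := (hg d0 (Set.mem_singleton d0)).symm
    have h2 := stab_mem g ((d0_cent g).mp h1)
    rw [← range_subHom lt9 sub9] at h2
    exact h2
  · intro hg y hy
    rw [Set.mem_singleton_iff.mp hy]
    have : g ∈ para 10 R10 9 := by
      rw [← range_subHom lt9 sub9]; exact hg
    exact (para_comm g this).symm

/-- **The centraliser of every transposition is a non-split double cover of `Fi22`.** -/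
theorem tt_cent (d : G10) (hd : d ∈ conjugatesOf d0) :
    Cfsg.IsNonsplitDoubleCover (Subgroup.centralizer ({d} : Set G10)) Fi22 := by
  obtain ⟨c, rfl⟩ := isConj_iff.mp hd
  obtain ⟨e3⟩ := centralizer_conj_equiv d0 c
  have e1 : LPG 9 R9 ≃* sigma.range := MonoidHom.ofInjective sigma_inj
  have e2 : sigma.range ≃* Subgroup.centralizer ({d0} : Set G10) :=
    MulEquiv.subgroupCongr cent_d0.symm
  exact isNonsplitDoubleCover_congr ((e1.trans e2).trans e3) dc_lp

/-- the statement on the existence of `Fi23` as a 3-transposition group. -/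
theorem fi23_three_transposition : ∃ (G : Type) (_ : Group G) (_ : Finite G), Cfsg.IsFi23 G ∧
    ∃ D : Set G, Cfsg.IsThreeTranspositionClass D ∧ Nat.card D = 31671 ∧
      ∀ d ∈ D, ∃ (K : Type) (_ : Group K), Cfsg.IsFi22 K ∧
        Cfsg.IsNonsplitDoubleCover (Subgroup.centralizer ({d} : Set G)) K :=
  ⟨G10, inferInstance, inferInstance, Fi23LP.simple_card, conjugatesOf d0, tt_class.1, tt_class.2,
    fun d hd => ⟨Fi22, inferInstance, Fi22vLP.spor_is, tt_cent d hd⟩⟩

end Cfsg.Agent.Helper5.Fi23DC
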