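import Mathlib
import Cfsg.Agent.Helper5.Fi24LPD

/-!
# Words of the list-presented group `Fi₂₄` which fix the base are trivial

The stabiliser chain of `Fi24LPB` has twelve levels whose orbit lengths multiply to the order of the
group, so the pointwise stabiliser of the twelve base points in the (faithful) permutation
representation on `306936` points is trivial: a word in the twelve letters which fixes the base
points spells the identity.
-/

set_option autoImplicit false

namespace Cfsg.Agent.Helper5.LP

section
variable {G : Type*} [Group G] {k N : ℕ} {T : ℕ → ℕ → ℕ}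

/-- the points fixed after all levels of a chain. -/
def allFixed : List Level → List ℕ → List ℕ
  | [], fixed => fixed
  | lv :: rest, fixed => allFixed rest (lv.1 :: fixed)

/-- the lower bound of a chain, keeping the stabiliser of all base points. -/
theorem chain_lower_mul {ρ : G →* Equiv.Perm (Fin N)} {e : List ℕ → G} (hA : ActsOn ρ e k T) :
    ∀ (levels : List Level) (fixed : List ℕ), chainOK T k N fixed levels = true →
      chainProd levels *
          Nat.card (ρ.range ⊓ fixSub N (allFixed levels fixed) : Subgroup (Equiv.Perm (Fin N))) ≤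
        Nat.card (ρ.range ⊓ fixSub N fixed : Subgroup (Equiv.Perm (Fin N))) := by
  intro levels
  induction levels with
  | nil =>
    intro fixed _
    simp [chainProd, allFixed]
  | cons lv rest ih =>
    intro fixed h
    obtain ⟨b, gens, tree⟩ := lv
    simp only [chainOK, Bool.and_eq_true, Nat.blt_eq] at h
    obtain ⟨⟨⟨⟨hb, hlt⟩, hfix⟩, htree⟩, hrest⟩ := h
    have hlt' := lettersLtB_spec hlt
    have hfix' := fixOK_spec hfix
    set Q : Subgroup (Equiv.Perm (Fin N)) := ρ.range ⊓ fixSub N fixed with hQdef
    have hQ : ∀ w ∈ gens, ρ (e w) ∈ Q := by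
      intro w hw
      refine ⟨⟨e w, rfl⟩, ?_⟩
      intro c hc hcN
      apply Fin.ext
      rw [hA.act w (hlt' w hw)]
      exact hfix' w hw c hc
    have hinv := treeRun_inv (P := ReachN Q b) (T := T) (gens := gens)
      (reach_step hA Q hlt' hQ b) (maskInv_zero _) (reachN_self Q hb) tree
    obtain ⟨S, hS, -, hP⟩ := hinv htree
    have horb := card_le_orbit Q hb S hP
    have h1 := ih (b :: fixed) hrest
    rw [← fixSub_cons ρ.range hb fixed] at h1
    rw [card_eq_orbit_mul' Q (⟨b, hb⟩ : Fin N)]
    rw [hS, zero_add] at horb
    show (tree.length + 1) * chainProd rest * _ ≤ _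
    calc (tree.length + 1) * chainProd rest *
          Nat.card (ρ.range ⊓ fixSub N (allFixed rest (b :: fixed)) : Subgroup (Equiv.Perm (Fin N)))
        = (tree.length + 1) * (chainProd rest *
          Nat.card (ρ.range ⊓ fixSub N (allFixed rest (b :: fixed)) :
            Subgroup (Equiv.Perm (Fin N)))) := by ring
      _ ≤ _ := Nat.mul_le_mul horb h1

/-- if the orbit lengths of a chain multiply to the order of the group, an element fixing all
base points acts trivially. -/
theorem eq_one_of_fix_base [Finite G] {ρ : G →* Equiv.Perm (Fin N)} {e : List ℕ → G}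
    (hA : ActsOn ρ e k T) (levels : List Level) (h : chainOK T k N [] levels = true)
    (hcard : Nat.card G ≤ chainProd levels) (g : G)
    (hg : ∀ b ∈ allFixed levels [], ∀ hb : b < N, ρ g ⟨b, hb⟩ = ⟨b, hb⟩) : ρ g = 1 := by
  have h1 := chain_lower_mul hA levels [] h
  have h2 : Nat.card (ρ.range ⊓ fixSub N [] : Subgroup (Equiv.Perm (Fin N))) ≤ Nat.card ρ.range :=
    Subgroup.card_le_of_le inf_le_left
  have h3 : Nat.card ρ.range ≤ Nat.card G :=
    Nat.card_le_card_of_surjective _ ρ.rangeRestrict_surjective
  set F : Subgroup (Equiv.Perm (Fin N)) := ρ.range ⊓ fixSub N (allFixed levels []) with hF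
  have hpos : 0 < chainProd levels := by
    rcases Nat.eq_zero_or_pos (chainProd levels) with h0 | h0
    · rw [h0] at hcard
      have := Nat.card_pos (α := G)
      omega
    · exact h0
  have hF1 : Nat.card F ≤ 1 := by
    by_contra hlt
    push Not at hlt
    have : chainProd levels * 2 ≤ chainProd levels * Nat.card F := Nat.mul_le_mul_left _ hlt
    omega
  have hmem : ρ g ∈ F := ⟨⟨g, rfl⟩, hg⟩
  have hsub : Subsingleton F := Finite.card_le_one_iff_subsingleton.mp hF1
  have := Subsingleton.elim (⟨ρ g, hmem⟩ : F) ⟨1, one_mem F⟩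
  exact congrArg Subtype.val this

end

end Cfsg.Agent.Helper5.LP

namespace Cfsg.Agent.Helper5.Fi24LP

open Cfsg.Agent.Helper5.TC Cfsg.Agent.Helper5.TCI Cfsg.Agent.Helper5.LP

/-- the base of the stabiliser chain. -/
def base12 : List ℕ := [1, 8, 15, 32, 16, 75, 516, 359, 706, 1307, 88677, 0]

theorem allFixed_levels : allFixed levels [] = base12 := by decide +kernel

/-- the strict evaluation of a word read from the left: `traceF T w v = actL T w.reverse v`. -/
def traceF (T : ℕ → ℕ → ℕ) : List ℕ → ℕ → ℕ
  | [], v => v
  | c :: l, v => force (T c v) (fun u => traceF T l u)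

theorem traceF_eq (T : ℕ → ℕ → ℕ) : ∀ (l : List ℕ) (v : ℕ), traceF T l v = actL T l.reverse v
  | [], _ => rfl
  | c :: l, v => by
    rw [traceF, force_eq, traceF_eq T l, List.reverse_cons, actL_append]
    rfl

/-- the check that a word fixes the twelve base points. -/
def baseFixB (w : List ℕ) : Bool :=
  base12.all (fun b => Nat.beq (traceF FiZATC.ctF w b) b) && w.all (fun c => Nat.blt c 12)

/-- **A word fixing the twelve base points is trivial.** -/
theorem word_eq_one (w : List ℕ) (h : baseFixB w = true) : ev 12 R12 w = 1 := by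
  unfold baseFixB at h
  rw [Bool.and_eq_true] at h
  obtain ⟨h1, h2⟩ := h
  have hlt : ∀ c ∈ w, c < 12 := by
    intro c hc
    have := List.all_eq_true.mp h2 c hc
    rwa [Nat.blt_eq] at this
  have hltr : ∀ c ∈ w.reverse, c < 12 := fun c hc => hlt c (List.mem_reverse.mp hc)
  have hrev : ev 12 R12 w.reverse = 1 := by
    apply injA
    rw [map_one]
    apply eq_one_of_fix_base actsA levels chain_ok (by rw [chain_prod, cardG])
    intro b hb hbN
    rw [allFixed_levels] at hb
    apply Fin.ext
    rw [actsA.act w.reverse hltr]
    have := List.all_eq_true.mp h1 b hb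
    rw [traceF_eq] at this
    exact Nat.eq_of_beq_eq_true this
  have := ev_reverse invol12 w
  rw [hrev] at this
  exact inv_eq_one.mp this.symm

end Cfsg.Agent.Helper5.Fi24LP
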