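import Mathlib
import Cfsg.Prelude.Def_Spor_He
import Cfsg.Prelude.Def_Sporadic
import Cfsg.Agent.Helper5.Fi24Base
import Cfsg.Agent.Helper5.HeLPD

/-!
# A copy of the Held group in the list-presented group `Fi₂₄`

Seven words in the twelve letters of `Fi24LP.R12` (three products of two commuting transpositions,
four products of four commuting transpositions) satisfy the relators of the list presentation
`HeLP.R7` of the Held group: every relator, rewritten in the twelve letters, fixes the twelve base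
points of the stabiliser chain (`Fi24LP.word_eq_one`).  The presented group being simple, the
resulting homomorphism is injective and its range is a simple subgroup of order `4030387200`.
-/

set_option autoImplicit false
set_option Elab.async false

namespace Cfsg.Agent.Helper5.Fi24He

open Cfsg.Agent.Helper5.TC Cfsg.Agent.Helper5.TCI Cfsg.Agent.Helper5.LP Cfsg.Agent.Helper5.Fi24LP
open Cfsg.Agent.Helper5.HeLP (R7)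

/-- the word of the generator `a`. -/
def wa : List ℕ := [11, 10, 3, 6, 7, 9, 4, 5, 3, 2, 4, 1, 2, 3, 6, 7, 0, 1, 2, 3, 6, 1, 2, 4, 5, 0, 1, 2, 4, 3, 2, 1, 0, 8, 11, 10, 11, 8, 0, 1, 2, 3, 4, 2, 1, 0, 5, 4, 2, 1, 6, 3, 2, 1, 0, 7, 6, 3, 2, 1, 4, 2, 3, 5, 4, 9, 7, 6, 3, 10, 11, 10, 8, 11, 5, 2, 4, 0, 1, 2, 3, 6, 7, 9, 0, 8, 5, 4, 1, 2, 3, 6, 7, 2, 4, 0, 1, 2, 3, 6, 1, 2, 4, 5, 0, 1, 2, 4, 3, 2, 1, 0, 8, 11, 10, 11, 8, 0, 1, 2, 3, 4, 2, 1, 0, 5, 4, 2, 1, 6, 3, 2, 1, 0, 4, 2, 7, 6, 3, 2, 1, 4, 5, 8, 0, 9, 7, 6, 3, 2, 1, 0, 4, 2, 5, 11, 8, 10]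

/-- the word of the generator `b`. -/
def wb : List ℕ := [4, 2, 3, 6, 7, 9, 1, 0, 8, 6, 5, 3, 2, 4, 1, 2, 3, 6, 7, 3, 2, 4, 0, 1, 2, 3, 6, 4, 5, 0, 1, 2, 4, 3, 2, 1, 0, 8, 11, 10, 11, 8, 0, 1, 2, 3, 4, 2, 1, 0, 5, 4, 6, 3, 2, 1, 0, 4, 2, 3, 7, 6, 3, 2, 1, 4, 2, 3, 5, 6, 8, 0, 1, 9, 7, 6, 3, 2, 4, 8, 4, 0, 1, 2, 3, 6, 7, 9, 0, 8, 5, 2, 4, 0, 1, 2, 3, 6, 7, 1, 2, 4, 0, 1, 2, 3, 6, 1, 2, 4, 5, 0, 1, 2, 4, 3, 2, 1, 0, 8, 11, 10, 11, 8, 0, 1, 2, 3, 4, 2, 1, 0, 5, 4, 2, 1, 6, 3, 2, 1, 0, 4, 2, 1, 7, 6, 3, 2, 1, 0, 4, 2, 5, 8, 0, 9, 7, 6, 3, 2, 1, 0, 4, 8]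

/-- the word of the generator `c`. -/
def wc : List ℕ := [6, 3, 2, 4, 1, 2, 3, 6, 7, 9, 0, 8, 4, 0, 1, 2, 3, 6, 7, 1, 2, 4, 0, 1, 2, 3, 6, 1, 2, 4, 5, 0, 1, 2, 4, 3, 2, 1, 0, 8, 11, 10, 11, 8, 0, 1, 2, 3, 4, 2, 1, 0, 5, 4, 2, 1, 6, 3, 2, 1, 0, 4, 2, 1, 7, 6, 3, 2, 1, 0, 4, 8, 0, 9, 7, 6, 3, 2, 1, 4, 2, 3, 6, 11, 5, 3, 2, 4, 1, 2, 3, 6, 7, 9, 5, 4, 2, 1, 0, 8, 5, 4, 2, 3, 6, 7, 2, 4, 1, 2, 3, 6, 2, 4, 5, 0, 1, 2, 4, 3, 2, 1, 0, 8, 11, 10, 11, 8, 0, 1, 2, 3, 4, 2, 1, 0, 5, 4, 2, 6, 3, 2, 1, 4, 2, 7, 6, 3, 2, 4, 5, 8, 0, 1, 2, 4, 5, 9, 7, 6, 3, 2, 1, 4, 2, 3, 5, 11]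

/-- the word of the generator `d`. -/
def wd : List ℕ := [11, 8, 7, 3, 6, 4, 5, 0, 1, 2, 4, 3, 2, 1, 0, 8, 11, 10, 11, 8, 0, 1, 2, 3, 4, 2, 1, 0, 5, 4, 6, 3, 7, 8, 11, 7, 9, 0, 8, 1, 2, 3, 6, 7, 0, 1, 2, 3, 6, 2, 4, 5, 1, 2, 4, 3, 2, 1, 0, 8, 11, 10, 11, 8, 0, 1, 2, 3, 4, 2, 1, 5, 4, 2, 6, 3, 2, 1, 0, 7, 6, 3, 2, 1, 8, 0, 9, 7, 0, 8, 4, 1, 2, 3, 6, 7, 5, 4, 0, 1, 2, 3, 6, 2, 4, 5, 1, 2, 4, 3, 2, 1, 0, 8, 11, 10, 11, 8, 0, 1, 2, 3, 4, 2, 1, 5, 4, 2, 6, 3, 2, 1, 0, 4, 5, 7, 6, 3, 2, 1, 4, 8, 0, 11, 4, 2, 3, 6, 7, 9, 8, 0, 1, 2, 3, 6, 7, 4, 1, 2, 3, 6, 3, 1, 2, 4, 5, 0, 1, 2, 4, 3, 2, 1, 0, 8, 11, 10, 11, 8, 0, 1, 2, 3, 4, 2, 1, 0, 5, 4, 2, 1, 3, 6, 3, 2, 1, 4, 7, 6, 3, 2, 1, 0, 8, 9, 7, 6, 3, 2, 4, 11]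

/-- the word of the generator `e`. -/
def we : List ℕ := [11, 9, 0, 8, 4, 1, 2, 3, 6, 7, 0, 1, 2, 3, 6, 3, 2, 4, 5, 0, 1, 2, 4, 3, 2, 1, 0, 8, 11, 10, 11, 8, 0, 1, 2, 3, 4, 2, 1, 0, 5, 4, 2, 3, 6, 3, 2, 1, 0, 7, 6, 3, 2, 1, 4, 8, 0, 9, 11, 10, 9, 7, 6, 2, 4, 3, 2, 1, 0, 8, 5, 4, 2, 3, 6, 7, 0, 1, 2, 3, 6, 4, 5, 0, 1, 2, 4, 3, 2, 1, 0, 8, 11, 10, 11, 8, 0, 1, 2, 3, 4, 2, 1, 0, 5, 4, 6, 3, 2, 1, 0, 7, 6, 3, 2, 4, 5, 8, 0, 1, 2, 3, 4, 2, 6, 7, 9, 10, 11, 9, 8, 4, 0, 1, 2, 3, 6, 7, 5, 4, 0, 1, 2, 3, 6, 3, 2, 4, 5, 0, 1, 2, 4, 3, 2, 1, 0, 8, 11, 10, 11, 8, 0, 1, 2, 3, 4, 2, 1, 0, 5, 4, 2, 3, 6, 3, 2, 1, 0, 4, 5, 7, 6, 3, 2, 1, 0, 4, 8, 9, 11, 3, 6, 7, 9, 5, 3, 2, 4, 1, 2, 3, 6, 7, 5, 4, 0, 1, 2, 3, 6, 2, 4, 5, 0, 1, 2, 4, 3, 2, 1, 0, 8, 11, 10, 11, 8, 0, 1, 2, 3, 4, 2, 1, 0, 5, 4, 2, 6, 3, 2, 1, 0, 4, 5, 7, 6,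 3, 2, 1, 4, 2, 3, 5, 9, 7, 6, 3]

/-- the word of the generator `f`. -/
def wf : List ℕ := [11, 9, 0, 8, 4, 1, 2, 3, 6, 7, 0, 1, 2, 3, 6, 3, 2, 4, 5, 0, 1, 2, 4, 3, 2, 1, 0, 8, 11, 10, 11, 8, 0, 1, 2, 3, 4, 2, 1, 0, 5, 4, 2, 3, 6, 3, 2, 1, 0, 7, 6, 3, 2, 1, 4, 8, 0, 9, 11, 6, 5, 3, 2, 4, 1, 2, 3, 6, 7, 1, 2, 4, 0, 1, 2, 3, 6, 3, 1, 2, 4, 5, 0, 1, 2, 4, 3, 2, 1, 0, 8, 11, 10, 11, 8, 0, 1, 2, 3, 4, 2, 1, 0, 5, 4, 2, 1, 3, 6, 3, 2, 1, 0, 4, 2, 1, 7, 6, 3, 2, 1, 4, 2, 3, 5, 6, 11, 9, 8, 4, 0, 1, 2, 3, 6, 7, 5, 4, 0, 1, 2, 3, 6, 1, 2, 4, 5, 0, 1, 2, 4, 3, 2, 1, 0, 8, 11, 10, 11, 8, 0, 1, 2, 3, 4, 2, 1, 0, 5, 4, 2, 1, 6, 3, 2, 1, 0, 4, 5, 7, 6, 3, 2, 1, 0, 4, 8, 9, 11, 11, 9, 8, 4, 0, 1, 2, 3, 6, 7, 5, 4, 0, 1, 2, 3, 6, 3, 2, 4, 5, 0, 1, 2, 4, 3, 2, 1, 0, 8, 11, 10, 11, 8, 0, 1, 2, 3, 4, 2, 1, 0, 5, 4, 2, 3, 6,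 3, 2, 1, 0, 4, 5, 7, 6, 3, 2, 1, 0, 4, 8, 9, 11]

/-- the word of the generator `g`. -/
def wg : List ℕ := [7, 3, 6, 4, 5, 2, 4, 3, 2, 1, 0, 8, 11, 10, 11, 8, 0, 1, 2, 3, 4, 2, 5, 4, 6, 3, 7, 7, 9, 0, 8, 1, 2, 3, 6, 7, 5, 2, 4, 0, 1, 2, 3, 6, 2, 4, 5, 1, 2, 4, 3, 2, 1, 0, 8, 11, 10, 11, 8, 0, 1, 2, 3, 4, 2, 1, 5, 4, 2, 6, 3, 2, 1, 0, 4, 2, 5, 7, 6, 3, 2, 1, 8, 0, 9, 7, 10, 7, 9, 3, 6, 7, 0, 1, 2, 3, 6, 1, 2, 4, 5, 0, 1, 2, 4, 3, 2, 1, 0, 8, 11, 10, 11, 8, 0, 1, 2, 3, 4, 2, 1, 0, 5, 4, 2, 1, 6, 3, 2, 1, 0, 7, 6, 3, 9, 7, 10, 11, 0, 1, 2, 3, 6, 7, 9, 8, 5, 4, 1, 2, 3, 6, 7, 0, 1, 2, 3, 6, 3, 1, 2, 4, 5, 0, 1, 2, 4, 3, 2, 1, 0, 8, 11, 10, 11, 8, 0, 1, 2, 3, 4, 2, 1, 0, 5, 4, 2, 1, 3, 6, 3, 2, 1, 0, 7, 6, 3, 2, 1, 4, 5, 8, 9, 7, 6, 3, 2, 1, 0, 11]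

/-- the words of the seven generators. -/
def wHe : ℕ → List ℕ
  | 0 => wa
  | 1 => wb
  | 2 => wc
  | 3 => wd
  | 4 => we
  | 5 => wf
  | _ => wg

/-- a word in the seven letters rewritten in the twelve letters. -/
def sub : List ℕ → List ℕ
  | [] => []
  | c :: l => wHe c ++ sub l

/-- the check of a block of relators. -/
def relsB (R : List (List ℕ)) : Bool := R.all (fun l => baseFixB (sub l))

set_option maxRecDepth 1000000 in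
theorem rels_ok_0 : relsB ((R7.drop 0).take 6) = true := by decide +kernel

set_option maxRecDepth 1000000 in
theorem rels_ok_1 : relsB ((R7.drop 6).take 6) = true := by decide +kernel

set_option maxRecDepth 1000000 in
theorem rels_ok_2 : relsB ((R7.drop 12).take 3) = true := by decide +kernel

set_option maxRecDepth 1000000 in
theorem rels_ok_3 : relsB ((R7.drop 15).take 5) = true := by decide +kernel

set_option maxRecDepth 1000000 in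
theorem rels_ok_4 : relsB ((R7.drop 20).take 4) = true := by decide +kernel

set_option maxRecDepth 1000000 in
theorem rels_ok_5 : relsB ((R7.drop 24).take 5) = true := by decide +kernel

set_option maxRecDepth 1000000 in
theorem rels_ok_6 : relsB ((R7.drop 29).take 2) = true := by decide +kernel

set_option maxRecDepth 1000000 in
theorem rels_ok_7 : relsB ((R7.drop 31).take 1) = true := by decide +kernel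

theorem relsB_append (A B : List (List ℕ)) : relsB (A ++ B) = (relsB A && relsB B) := by
  unfold relsB
  rw [List.all_append]

theorem R7_split : R7 = ((R7.drop 0).take 6) ++ (((R7.drop 6).take 6) ++ (((R7.drop 12).take 3) ++ (((R7.drop 15).take 5) ++ (((R7.drop 20).take 4) ++ (((R7.drop 24).take 5) ++ (((R7.drop 29).take 2) ++ (((R7.drop 31).take 1)))))))) := by decide +kernel

theorem rels_ok : relsB R7 = true := by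
  rw [R7_split]
  simp only [relsB_append, Bool.and_eq_true]
  exact ⟨rels_ok_0, rels_ok_1, rels_ok_2, rels_ok_3, rels_ok_4, rels_ok_5, rels_ok_6, rels_ok_7⟩

/-- the images of the seven generators. -/
noncomputable def fHe (c : ℕ) : LPG 12 R12 := ev 12 R12 (wHe c)

theorem prod_map_fHe : ∀ l : List ℕ, (l.map fHe).prod = ev 12 R12 (sub l)
  | [] => by
    rw [List.map_nil, List.prod_nil, sub, ev_nil]
  | c :: l => by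
    rw [List.map_cons, List.prod_cons, prod_map_fHe l, sub, ev_append]
    rfl

/-- the homomorphism from the list-presented Held group. -/
noncomputable def heHom : LPG 7 R7 →* LPG 12 R12 :=
  LP.lift fHe HeLP.lettersA (fun l hl => by
    rw [prod_map_fHe]
    have h := rels_ok
    unfold relsB at h
    exact word_eq_one _ (List.all_eq_true.mp h l hl))

theorem heHom_letter (c : ℕ) (hc : c < 7) : heHom (ev 7 R7 [c]) = ev 12 R12 (wHe c) := by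
  unfold heHom
  rw [lift_ev fHe HeLP.lettersA _ [c] (by intro c' hc'; rw [List.mem_singleton.mp hc']; exact hc)]
  rw [List.map_cons, List.map_nil, List.prod_cons, List.prod_nil, mul_one]
  rfl

set_option maxRecDepth 1000000 in
theorem wa_move : Nat.beq (traceF FiZATC.ctF wa 0) 0 = false := by decide +kernel

theorem wa_lt : wa.all (fun c => Nat.blt c 12) = true := by decide +kernel

theorem ev_wa_ne : ev 12 R12 wa ≠ 1 := by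
  intro h
  have hlt : ∀ c ∈ wa.reverse, c < 12 := by
    intro c hc
    have := List.all_eq_true.mp wa_lt c (List.mem_reverse.mp hc)
    rwa [Nat.blt_eq] at this
  have h1 : ev 12 R12 wa.reverse = 1 := by
    rw [ev_reverse invol12, h, inv_one]
  have h2 := actsA.act wa.reverse hlt ⟨0, by norm_num⟩
  rw [h1, map_one, Equiv.Perm.one_apply, ← traceF_eq] at h2
  have h3 := wa_move
  rw [← h2] at h3
  simp at h3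

instance simple7 : IsSimpleGroup (LPG 7 R7) := HeLP.simple_card.1

theorem heHom_inj : Function.Injective heHom := by
  rw [← MonoidHom.ker_eq_bot_iff]
  rcases Subgroup.Normal.eq_bot_or_eq_top (inferInstance : heHom.ker.Normal) with h | h
  · exact h
  · exfalso
    have : ev 7 R7 [0] ∈ heHom.ker := by rw [h]; exact Subgroup.mem_top _
    rw [MonoidHom.mem_ker, heHom_letter 0 (by norm_num)] at this
    exact ev_wa_ne this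

/-- **A Held subgroup of `Fi₂₄`.** -/
theorem exists_he : ∃ K : Subgroup (LPG 12 R12), Cfsg.IsHe K := by
  refine ⟨heHom.range, ?_, ?_⟩
  · exact (MonoidHom.ofInjective heHom_inj).symm.isSimpleGroup
  · rw [← Nat.card_congr (MonoidHom.ofInjective heHom_inj).toEquiv]
    exact HeLP.simple_card.2

end Cfsg.Agent.Helper5.Fi24He
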