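import Cfsg.Agent.Helper5.PThATCDatD
import Cfsg.Agent.Helper5.TCIB

/-! kernel checks of edges, aliases, rows: PThATC -/

set_option autoImplicit false
set_option Elab.async false

namespace Cfsg.Agent.Helper5.PThATC
open Cfsg.Agent.Helper5.TC Cfsg.Agent.Helper5.TCI

set_option maxRecDepth 1000000 in
theorem cnt_1 : cntFrom RS 16686 20000 0 = 16432 := by decide +kernel

set_option maxRecDepth 1000000 in
theorem edges_2_9 : edgesRangeI iota E 2 1763 22186 = true := by decide +kernel

set_option maxRecDepth 1000000 in
theorem edges_4_11 : edgesRangeI iota E 4 1710 25867 = true := by decide +kernel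

set_option maxRecDepth 1000000 in
theorem edges_0_5 : edgesRangeI iota E 0 2450 11459 = true := by decide +kernel

set_option maxRecDepth 1000000 in
theorem edges_3_9 : edgesRangeI iota E 3 2007 23525 = true := by decide +kernel

set_option maxRecDepth 1000000 in
theorem edges_7_9 : edgesRangeI iota E 7 1891 20511 = true := by decide +kernel

set_option maxRecDepth 1000000 in
theorem edges_0_12 : edgesRangeI iota E 0 1710 25808 = true := by decide +kernel

set_option maxRecDepth 1000000 in
theorem edges_2_4 : edgesRangeI iota E 2 2649 9934 = true := by decide +kernel

set_option maxRecDepth 1000000 in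
theorem edges_6_3 : edgesRangeI iota E 6 2705 6485 = true := by decide +kernel

set_option maxRecDepth 1000000 in
theorem edges_9_10 : edgesRangeI iota E 9 2386 25075 = true := by decide +kernel

set_option maxRecDepth 1000000 in
theorem edges_1_8 : edgesRangeI iota E 1 2190 18996 = true := by decide +kernel

set_option maxRecDepth 1000000 in
theorem edges_2_14 : edgesRangeI iota E 2 1766 31442 = true := by decide +kernel

set_option maxRecDepth 1000000 in
theorem edges_4_5 : edgesRangeI iota E 4 2665 12689 = true := by decide +kernel

set_option maxRecDepth 1000000 in
theorem edges_6_13 : edgesRangeI iota E 6 2061 31996 = true := by decide +kernel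

set_option maxRecDepth 1000000 in
theorem edges_7_16 : edgesRangeI iota E 7 1725 33713 = true := by decide +kernel

set_option maxRecDepth 1000000 in
theorem edges_0_4 : edgesRangeI iota E 0 2603 8856 = true := by decide +kernel

set_option maxRecDepth 1000000 in
theorem edges_3_12 : edgesRangeI iota E 3 1772 29456 = true := by decide +kernel

set_option maxRecDepth 1000000 in
theorem edges_6_4 : edgesRangeI iota E 6 2840 9190 = true := by decide +kernel

set_option maxRecDepth 1000000 in
theorem edges_8_8 : edgesRangeI iota E 8 2373 18867 = true := by decide +kernel

set_option maxRecDepth 1000000 in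
theorem edges_0_2 : edgesRangeI iota E 0 2268 4063 = true := by decide +kernel

set_option maxRecDepth 1000000 in
theorem edges_2_5 : edgesRangeI iota E 2 2752 12583 = true := by decide +kernel

set_option maxRecDepth 1000000 in
theorem edges_4_1 : edgesRangeI iota E 4 2591 2552 = true := by decide +kernel

set_option maxRecDepth 1000000 in
theorem edges_5_4 : edgesRangeI iota E 5 3829 10756 = true := by decide +kernel

set_option maxRecDepth 1000000 in
theorem edges_6_1 : edgesRangeI iota E 6 2220 1979 = true := by decide +kernel

set_option maxRecDepth 1000000 in
theorem edges_7_7 : edgesRangeI iota E 7 2488 15736 = true := by decide +kernel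

set_option maxRecDepth 1000000 in
theorem edges_8_3 : edgesRangeI iota E 8 2267 6426 = true := by decide +kernel

set_option maxRecDepth 1000000 in
theorem edges_9_11 : edgesRangeI iota E 9 2554 27461 = true := by decide +kernel

set_option maxRecDepth 1000000 in
theorem aliases_3 : aliasRange E 3304 12022 = true := by decide +kernel

set_option maxRecDepth 1000000 in
theorem aliases_7 : aliasRange E 6056 30630 = true := by decide +kernel

set_option maxRecDepth 1000000 in
theorem rows_1 : rowsRange E RS 1500 1500 = true := by decide +kernel

set_option maxRecDepth 1000000 in
theorem rows_7 : rowsRange E RS 1500 10500 = true := by decide +kernel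

set_option maxRecDepth 1000000 in
theorem rows_13 : rowsRange E RS 1500 19500 = true := by decide +kernel

set_option maxRecDepth 1000000 in
theorem rows_19 : rowsRange E RS 1500 28500 = true := by decide +kernel

set_option maxRecDepth 1000000 in
theorem edges_4_16 : edgesRangeI iota E 4 927 35759 = true := by decide +kernel

end Cfsg.Agent.Helper5.PThATC
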