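import Cfsg.Agent.Helper5.PThATCDatD
import Cfsg.Agent.Helper5.TCIB

/-! kernel checks of edges, aliases, rows: PThATC -/

set_option autoImplicit false
set_option Elab.async false

namespace Cfsg.Agent.Helper5.PThATC
open Cfsg.Agent.Helper5.TC Cfsg.Agent.Helper5.TCI

set_option maxRecDepth 1000000 in
theorem edges_2_0 : edgesRangeI iota E 2 2264 0 = true := by decide +kernel

set_option maxRecDepth 1000000 in
theorem edges_2_3 : edgesRangeI iota E 2 2561 7373 = true := by decide +kernel

set_option maxRecDepth 1000000 in
theorem edges_4_3 : edgesRangeI iota E 4 2446 7658 = true := by decide +kernel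

set_option maxRecDepth 1000000 in
theorem edges_0_0 : edgesRangeI iota E 0 1834 0 = true := by decide +kernel

set_option maxRecDepth 1000000 in
theorem edges_1_11 : edgesRangeI iota E 1 1772 24737 = true := by decide +kernel

set_option maxRecDepth 1000000 in
theorem edges_4_4 : edgesRangeI iota E 4 2585 10104 = true := by decide +kernel

set_option maxRecDepth 1000000 in
theorem edges_8_4 : edgesRangeI iota E 8 2415 8693 = true := by decide +kernel

set_option maxRecDepth 1000000 in
theorem edges_1_4 : edgesRangeI iota E 1 2464 9377 = true := by decide +kernel

set_option maxRecDepth 1000000 in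
theorem edges_5_8 : edgesRangeI iota E 5 2010 23065 = true := by decide +kernel

set_option maxRecDepth 1000000 in
theorem edges_8_9 : edgesRangeI iota E 8 1950 21240 = true := by decide +kernel

set_option maxRecDepth 1000000 in
theorem edges_0_16 : edgesRangeI iota E 0 1851 32946 = true := by decide +kernel

set_option maxRecDepth 1000000 in
theorem edges_2_7 : edgesRangeI iota E 2 2387 17945 = true := by decide +kernel

set_option maxRecDepth 1000000 in
theorem edges_3_8 : edgesRangeI iota E 3 1943 21582 = true := by decide +kernel

set_option maxRecDepth 1000000 in
theorem edges_6_9 : edgesRangeI iota E 6 2217 23162 = true := by decide +kernel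

set_option maxRecDepth 1000000 in
theorem edges_7_10 : edgesRangeI iota E 7 1922 22402 = true := by decide +kernel

set_option maxRecDepth 1000000 in
theorem edges_9_3 : edgesRangeI iota E 9 2291 7649 = true := by decide +kernel

set_option maxRecDepth 1000000 in
theorem edges_2_8 : edgesRangeI iota E 2 1854 20332 = true := by decide +kernel

set_option maxRecDepth 1000000 in
theorem edges_4_15 : edgesRangeI iota E 4 2121 33638 = true := by decide +kernel

set_option maxRecDepth 1000000 in
theorem edges_6_12 : edgesRangeI iota E 6 2174 29822 = true := by decide +kernel

set_option maxRecDepth 1000000 in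
theorem edges_9_9 : edgesRangeI iota E 9 2336 22739 = true := by decide +kernel

set_option maxRecDepth 1000000 in
theorem edges_1_9 : edgesRangeI iota E 1 1796 21186 = true := by decide +kernel

set_option maxRecDepth 1000000 in
theorem edges_3_7 : edgesRangeI iota E 3 2308 19274 = true := by decide +kernel

set_option maxRecDepth 1000000 in
theorem edges_5_3 : edgesRangeI iota E 5 3418 7338 = true := by decide +kernel

set_option maxRecDepth 1000000 in
theorem edges_6_0 : edgesRangeI iota E 6 1979 0 = true := by decide +kernel

set_option maxRecDepth 1000000 in
theorem edges_7_5 : edgesRangeI iota E 7 2342 10966 = true := by decide +kernel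

set_option maxRecDepth 1000000 in
theorem edges_8_2 : edgesRangeI iota E 8 2095 4331 = true := by decide +kernel

set_option maxRecDepth 1000000 in
theorem edges_9_8 : edgesRangeI iota E 9 2160 20579 = true := by decide +kernel

set_option maxRecDepth 1000000 in
theorem aliases_2 : aliasRange E 3596 8426 = true := by decide +kernel

set_option maxRecDepth 1000000 in
theorem edges_1_17 : edgesRangeI iota E 1 1284 35402 = true := by decide +kernel

set_option maxRecDepth 1000000 in
theorem rows_0 : rowsRange E RS 1500 0 = true := by decide +kernel

set_option maxRecDepth 1000000 in
theorem rows_6 : rowsRange E RS 1500 9000 = true := by decide +kernel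

set_option maxRecDepth 1000000 in
theorem rows_12 : rowsRange E RS 1500 18000 = true := by decide +kernel

set_option maxRecDepth 1000000 in
theorem rows_18 : rowsRange E RS 1500 27000 = true := by decide +kernel

set_option maxRecDepth 1000000 in
theorem edges_6_15 : edgesRangeI iota E 6 752 35934 = true := by decide +kernel

end Cfsg.Agent.Helper5.PThATC
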