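import Cfsg.Agent.Helper5.PThATCDatD
import Cfsg.Agent.Helper5.TCIB

/-! kernel checks of edges, aliases, rows: PThATC -/

set_option autoImplicit false
set_option Elab.async false

namespace Cfsg.Agent.Helper5.PThATC
open Cfsg.Agent.Helper5.TC Cfsg.Agent.Helper5.TCI

set_option maxRecDepth 1000000 in
theorem edges_4_8 : edgesRangeI iota E 4 1877 20474 = true := by decide +kernel

set_option maxRecDepth 1000000 in
theorem edges_0_17 : edgesRangeI iota E 0 1738 34797 = true := by decide +kernel

set_option maxRecDepth 1000000 in
theorem edges_3_11 : edgesRangeI iota E 3 1892 27564 = true := by decide +kernel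

set_option maxRecDepth 1000000 in
theorem edges_8_14 : edgesRangeI iota E 8 1954 31044 = true := by decide +kernel

set_option maxRecDepth 1000000 in
theorem edges_1_15 : edgesRangeI iota E 1 1800 31873 = true := by decide +kernel

set_option maxRecDepth 1000000 in
theorem edges_4_7 : edgesRangeI iota E 4 2448 18026 = true := by decide +kernel

set_option maxRecDepth 1000000 in
theorem edges_8_13 : edgesRangeI iota E 8 1998 29046 = true := by decide +kernel

set_option maxRecDepth 1000000 in
theorem edges_1_16 : edgesRangeI iota E 1 1729 33673 = true := by decide +kernel

set_option maxRecDepth 1000000 in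
theorem edges_5_13 : edgesRangeI iota E 5 1929 32730 = true := by decide +kernel

set_option maxRecDepth 1000000 in
theorem edges_8_16 : edgesRangeI iota E 8 1785 34896 = true := by decide +kernel

set_option maxRecDepth 1000000 in
theorem edges_1_5 : edgesRangeI iota E 1 2475 11841 = true := by decide +kernel

set_option maxRecDepth 1000000 in
theorem edges_2_12 : edgesRangeI iota E 2 1894 27676 = true := by decide +kernel

set_option maxRecDepth 1000000 in
theorem edges_3_14 : edgesRangeI iota E 3 1821 33034 = true := by decide +kernel

set_option maxRecDepth 1000000 in
theorem edges_6_11 : edgesRangeI iota E 6 2189 27633 = true := by decide +kernel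

set_option maxRecDepth 1000000 in
theorem edges_7_13 : edgesRangeI iota E 7 1940 28182 = true := by decide +kernel

set_option maxRecDepth 1000000 in
theorem edges_9_6 : edgesRangeI iota E 9 2692 15160 = true := by decide +kernel

set_option maxRecDepth 1000000 in
theorem edges_3_10 : edgesRangeI iota E 3 2032 25532 = true := by decide +kernel

set_option maxRecDepth 1000000 in
theorem edges_5_6 : edgesRangeI iota E 5 2907 17949 = true := by decide +kernel

set_option maxRecDepth 1000000 in
theorem edges_8_5 : edgesRangeI iota E 8 2478 11108 = true := by decide +kernel

set_option maxRecDepth 1000000 in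
theorem edges_0_1 : edgesRangeI iota E 0 2229 1834 = true := by decide +kernel

set_option maxRecDepth 1000000 in
theorem edges_0_11 : edgesRangeI iota E 0 1656 24152 = true := by decide +kernel

set_option maxRecDepth 1000000 in
theorem edges_2_11 : edgesRangeI iota E 2 1894 25782 = true := by decide +kernel

set_option maxRecDepth 1000000 in
theorem edges_4_14 : edgesRangeI iota E 4 2308 31330 = true := by decide +kernel

set_option maxRecDepth 1000000 in
theorem edges_5_7 : edgesRangeI iota E 5 2209 20856 = true := by decide +kernel

set_option maxRecDepth 1000000 in
theorem edges_6_6 : edgesRangeI iota E 6 3075 15040 = true := by decide +kernel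

set_option maxRecDepth 1000000 in
theorem edges_7_12 : edgesRangeI iota E 7 1955 26227 = true := by decide +kernel

set_option maxRecDepth 1000000 in
theorem edges_9_1 : edgesRangeI iota E 9 2396 3032 = true := by decide +kernel

set_option maxRecDepth 1000000 in
theorem edges_9_13 : edgesRangeI iota E 9 3293 32810 = true := by decide +kernel

set_option maxRecDepth 1000000 in
theorem aliases_5 : aliasRange E 4320 18310 = true := by decide +kernel

set_option maxRecDepth 1000000 in
theorem rows_4 : rowsRange E RS 1500 6000 = true := by decide +kernel

set_option maxRecDepth 1000000 in
theorem rows_10 : rowsRange E RS 1500 15000 = true := by decide +kernel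

set_option maxRecDepth 1000000 in
theorem rows_16 : rowsRange E RS 1500 24000 = true := by decide +kernel

set_option maxRecDepth 1000000 in
theorem rows_22 : rowsRange E RS 1500 33000 = true := by decide +kernel

set_option maxRecDepth 1000000 in
theorem edges_5_15 : edgesRangeI iota E 5 290 36396 = true := by decide +kernel

end Cfsg.Agent.Helper5.PThATC
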