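import Cfsg.Agent.Helper5.PThATCDatD
import Cfsg.Agent.Helper5.PThATCDatT
import Cfsg.Agent.Helper5.TCIB

/-! kernel checks of the coset table: PThATC -/

set_option autoImplicit false
set_option Elab.async false

namespace Cfsg.Agent.Helper5.PThATC
open Cfsg.Agent.Helper5.TC Cfsg.Agent.Helper5.TCI

set_option maxRecDepth 1000000 in
theorem relc_20_0 : fixPtsF W_20 28431 0 = true := by decide +kernel

set_option maxRecDepth 1000000 in
theorem relc_39_0 : fixPtsF W_39 28431 0 = true := by decide +kernel

set_option maxRecDepth 1000000 in
theorem relc_50_0 : fixPtsF W_50 28431 0 = true := by decide +kernel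

set_option maxRecDepth 1000000 in
theorem relc_55_2 : fixPtsF W_55 3125 6250 = true := by decide +kernel

set_option maxRecDepth 1000000 in
theorem relc_55_5 : fixPtsF W_55 3125 15625 = true := by decide +kernel

set_option maxRecDepth 1000000 in
theorem relc_55_8 : fixPtsF W_55 3125 25000 = true := by decide +kernel

set_option maxRecDepth 1000000 in
theorem relc_4_0 : fixPtsF W_4 28431 0 = true := by decide +kernel

set_option maxRecDepth 1000000 in
theorem relc_7_0 : fixPtsF W_7 28431 0 = true := by decide +kernel

set_option maxRecDepth 1000000 in
theorem relc_12_0 : fixPtsF W_12 28431 0 = true := by decide +kernel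

set_option maxRecDepth 1000000 in
theorem relc_15_0 : fixPtsF W_15 28431 0 = true := by decide +kernel

set_option maxRecDepth 1000000 in
theorem relc_18_0 : fixPtsF W_18 28431 0 = true := by decide +kernel

set_option maxRecDepth 1000000 in
theorem relc_24_0 : fixPtsF W_24 28431 0 = true := by decide +kernel

set_option maxRecDepth 1000000 in
theorem relc_28_0 : fixPtsF W_28 28431 0 = true := by decide +kernel

set_option maxRecDepth 1000000 in
theorem relc_32_0 : fixPtsF W_32 28431 0 = true := by decide +kernel

set_option maxRecDepth 1000000 in
theorem relc_36_0 : fixPtsF W_36 28431 0 = true := by decide +kernel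

set_option maxRecDepth 1000000 in
theorem relc_42_0 : fixPtsF W_42 28431 0 = true := by decide +kernel

set_option maxRecDepth 1000000 in
theorem relc_46_0 : fixPtsF W_46 28431 0 = true := by decide +kernel

set_option maxRecDepth 1000000 in
theorem relc_53_0 : fixPtsF W_53 28431 0 = true := by decide +kernel

set_option maxRecDepth 1000000 in
theorem relc_19_0 : fixPtsF W_19 28431 0 = true := by decide +kernel

set_option maxRecDepth 1000000 in
theorem relc_40_0 : fixPtsF W_40 28431 0 = true := by decide +kernel

set_option maxRecDepth 1000000 in
theorem relc_52_0 : fixPtsF W_52 28431 0 = true := by decide +kernel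

set_option maxRecDepth 1000000 in
theorem inv_1_0 : invRowFI ctF 28431 1 1 28431 0 = true := by decide +kernel

set_option maxRecDepth 1000000 in
theorem inv_3_0 : invRowFI ctF 28431 3 3 28431 0 = true := by decide +kernel

set_option maxRecDepth 1000000 in
theorem inv_6_0 : invRowFI ctF 28431 6 6 28431 0 = true := by decide +kernel

set_option maxRecDepth 1000000 in
theorem inv_9_0 : invRowFI ctF 28431 9 9 28431 0 = true := by decide +kernel

end Cfsg.Agent.Helper5.PThATC
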