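import Cfsg.Agent.Helper5.PThATCChkE0
import Cfsg.Agent.Helper5.PThATCChkE1
import Cfsg.Agent.Helper5.PThATCChkE2
import Cfsg.Agent.Helper5.PThATCChkE3
import Cfsg.Agent.Helper5.PThATCChkE4
import Cfsg.Agent.Helper5.PThATCChkE5
import Cfsg.Agent.Helper5.PThATCChkR0
import Cfsg.Agent.Helper5.PThATCChkR1
import Cfsg.Agent.Helper5.PThATCChkR2
import Cfsg.Agent.Helper5.PThATCChkA
import Cfsg.Agent.Helper5.TCIB

/-! summary of the kernel checks: PThATC -/

set_option autoImplicit false
set_option Elab.async false

namespace Cfsg.Agent.Helper5.PThATC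
open Cfsg.Agent.Helper5.TC Cfsg.Agent.Helper5.TCI

theorem edgesx_0 : ∀ v, v < 36686 → edgeOKI iota E 0 v = true := by
  intro v hv
  rcases Nat.lt_or_ge v 20813 with h | h
  · rcases Nat.lt_or_ge v 8856 with h | h
    · rcases Nat.lt_or_ge v 4063 with h | h
      · rcases Nat.lt_or_ge v 1834 with h | h
        · exact edgesRangeI_spec iota E 0 1834 0 edges_0_0 v (by omega) (by omega)
        · exact edgesRangeI_spec iota E 0 2229 1834 edges_0_1 v (by omega) (by omega)
      · rcases Nat.lt_or_ge v 6331 with h | h
        · exact edgesRangeI_spec iota E 0 2268 4063 edges_0_2 v (by omega) (by omega)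
        · exact edgesRangeI_spec iota E 0 2525 6331 edges_0_3 v (by omega) (by omega)
    · rcases Nat.lt_or_ge v 13909 with h | h
      · rcases Nat.lt_or_ge v 11459 with h | h
        · exact edgesRangeI_spec iota E 0 2603 8856 edges_0_4 v (by omega) (by omega)
        · exact edgesRangeI_spec iota E 0 2450 11459 edges_0_5 v (by omega) (by omega)
      · rcases Nat.lt_or_ge v 16201 with h | h
        · exact edgesRangeI_spec iota E 0 2292 13909 edges_0_6 v (by omega) (by omega)
        · rcases Nat.lt_or_ge v 18572 with h | h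
          · exact edgesRangeI_spec iota E 0 2371 16201 edges_0_7 v (by omega) (by omega)
          · exact edgesRangeI_spec iota E 0 2241 18572 edges_0_8 v (by omega) (by omega)
  · rcases Nat.lt_or_ge v 29283 with h | h
    · rcases Nat.lt_or_ge v 24152 with h | h
      · rcases Nat.lt_or_ge v 22468 with h | h
        · exact edgesRangeI_spec iota E 0 1655 20813 edges_0_9 v (by omega) (by omega)
        · exact edgesRangeI_spec iota E 0 1684 22468 edges_0_10 v (by omega) (by omega)
      · rcases Nat.lt_or_ge v 25808 with h | h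
        · exact edgesRangeI_spec iota E 0 1656 24152 edges_0_11 v (by omega) (by omega)
        · rcases Nat.lt_or_ge v 27518 with h | h
          · exact edgesRangeI_spec iota E 0 1710 25808 edges_0_12 v (by omega) (by omega)
          · exact edgesRangeI_spec iota E 0 1765 27518 edges_0_13 v (by omega) (by omega)
    · rcases Nat.lt_or_ge v 32946 with h | h
      · rcases Nat.lt_or_ge v 31063 with h | h
        · exact edgesRangeI_spec iota E 0 1780 29283 edges_0_14 v (by omega) (by omega)
        · exact edgesRangeI_spec iota E 0 1883 31063 edges_0_15 v (by omega) (by omega)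
      · rcases Nat.lt_or_ge v 34797 with h | h
        · exact edgesRangeI_spec iota E 0 1851 32946 edges_0_16 v (by omega) (by omega)
        · rcases Nat.lt_or_ge v 36535 with h | h
          · exact edgesRangeI_spec iota E 0 1738 34797 edges_0_17 v (by omega) (by omega)
          · exact edgesRangeI_spec iota E 0 151 36535 edges_0_18 v (by omega) (by omega)

theorem edgesx_1 : ∀ v, v < 36686 → edgeOKI iota E 1 v = true := by
  intro v hv
  rcases Nat.lt_or_ge v 21186 with h | h
  · rcases Nat.lt_or_ge v 9377 with h | h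
    · rcases Nat.lt_or_ge v 4380 with h | h
      · rcases Nat.lt_or_ge v 1968 with h | h
        · exact edgesRangeI_spec iota E 1 1968 0 edges_1_0 v (by omega) (by omega)
        · exact edgesRangeI_spec iota E 1 2412 1968 edges_1_1 v (by omega) (by omega)
      · rcases Nat.lt_or_ge v 6828 with h | h
        · exact edgesRangeI_spec iota E 1 2448 4380 edges_1_2 v (by omega) (by omega)
        · exact edgesRangeI_spec iota E 1 2549 6828 edges_1_3 v (by omega) (by omega)
    · rcases Nat.lt_or_ge v 14316 with h | h
      · rcases Nat.lt_or_ge v 11841 with h | h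
        · exact edgesRangeI_spec iota E 1 2464 9377 edges_1_4 v (by omega) (by omega)
        · exact edgesRangeI_spec iota E 1 2475 11841 edges_1_5 v (by omega) (by omega)
      · rcases Nat.lt_or_ge v 16588 with h | h
        · exact edgesRangeI_spec iota E 1 2272 14316 edges_1_6 v (by omega) (by omega)
        · rcases Nat.lt_or_ge v 18996 with h | h
          · exact edgesRangeI_spec iota E 1 2408 16588 edges_1_7 v (by omega) (by omega)
          · exact edgesRangeI_spec iota E 1 2190 18996 edges_1_8 v (by omega) (by omega)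
  · rcases Nat.lt_or_ge v 28297 with h | h
    · rcases Nat.lt_or_ge v 24737 with h | h
      · rcases Nat.lt_or_ge v 22982 with h | h
        · exact edgesRangeI_spec iota E 1 1796 21186 edges_1_9 v (by omega) (by omega)
        · exact edgesRangeI_spec iota E 1 1755 22982 edges_1_10 v (by omega) (by omega)
      · rcases Nat.lt_or_ge v 26509 with h | h
        · exact edgesRangeI_spec iota E 1 1772 24737 edges_1_11 v (by omega) (by omega)
        · exact edgesRangeI_spec iota E 1 1788 26509 edges_1_12 v (by omega) (by omega)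
    · rcases Nat.lt_or_ge v 31873 with h | h
      · rcases Nat.lt_or_ge v 30100 with h | h
        · exact edgesRangeI_spec iota E 1 1803 28297 edges_1_13 v (by omega) (by omega)
        · exact edgesRangeI_spec iota E 1 1773 30100 edges_1_14 v (by omega) (by omega)
      · rcases Nat.lt_or_ge v 33673 with h | h
        · exact edgesRangeI_spec iota E 1 1800 31873 edges_1_15 v (by omega) (by omega)
        · rcases Nat.lt_or_ge v 35402 with h | h
          · exact edgesRangeI_spec iota E 1 1729 33673 edges_1_16 v (by omega) (by omega)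
          · exact edgesRangeI_spec iota E 1 1284 35402 edges_1_17 v (by omega) (by omega)

theorem edgesx_2 : ∀ v, v < 36686 → edgeOKI iota E 2 v = true := by
  intro v hv
  rcases Nat.lt_or_ge v 20332 with h | h
  · rcases Nat.lt_or_ge v 9934 with h | h
    · rcases Nat.lt_or_ge v 4788 with h | h
      · rcases Nat.lt_or_ge v 2264 with h | h
        · exact edgesRangeI_spec iota E 2 2264 0 edges_2_0 v (by omega) (by omega)
        · exact edgesRangeI_spec iota E 2 2524 2264 edges_2_1 v (by omega) (by omega)
      · rcases Nat.lt_or_ge v 7373 with h | h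
        · exact edgesRangeI_spec iota E 2 2585 4788 edges_2_2 v (by omega) (by omega)
        · exact edgesRangeI_spec iota E 2 2561 7373 edges_2_3 v (by omega) (by omega)
    · rcases Nat.lt_or_ge v 15335 with h | h
      · rcases Nat.lt_or_ge v 12583 with h | h
        · exact edgesRangeI_spec iota E 2 2649 9934 edges_2_4 v (by omega) (by omega)
        · exact edgesRangeI_spec iota E 2 2752 12583 edges_2_5 v (by omega) (by omega)
      · rcases Nat.lt_or_ge v 17945 with h | h
        · exact edgesRangeI_spec iota E 2 2610 15335 edges_2_6 v (by omega) (by omega)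
        · exact edgesRangeI_spec iota E 2 2387 17945 edges_2_7 v (by omega) (by omega)
  · rcases Nat.lt_or_ge v 27676 with h | h
    · rcases Nat.lt_or_ge v 23949 with h | h
      · rcases Nat.lt_or_ge v 22186 with h | h
        · exact edgesRangeI_spec iota E 2 1854 20332 edges_2_8 v (by omega) (by omega)
        · exact edgesRangeI_spec iota E 2 1763 22186 edges_2_9 v (by omega) (by omega)
      · rcases Nat.lt_or_ge v 25782 with h | h
        · exact edgesRangeI_spec iota E 2 1833 23949 edges_2_10 v (by omega) (by omega)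
        · exact edgesRangeI_spec iota E 2 1894 25782 edges_2_11 v (by omega) (by omega)
    · rcases Nat.lt_or_ge v 31442 with h | h
      · rcases Nat.lt_or_ge v 29570 with h | h
        · exact edgesRangeI_spec iota E 2 1894 27676 edges_2_12 v (by omega) (by omega)
        · exact edgesRangeI_spec iota E 2 1872 29570 edges_2_13 v (by omega) (by omega)
      · rcases Nat.lt_or_ge v 33208 with h | h
        · exact edgesRangeI_spec iota E 2 1766 31442 edges_2_14 v (by omega) (by omega)
        · rcases Nat.lt_or_ge v 34951 with h | h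
          · exact edgesRangeI_spec iota E 2 1743 33208 edges_2_15 v (by omega) (by omega)
          · exact edgesRangeI_spec iota E 2 1735 34951 edges_2_16 v (by omega) (by omega)

theorem edgesx_3 : ∀ v, v < 36686 → edgeOKI iota E 3 v = true := by
  intro v hv
  rcases Nat.lt_or_ge v 21582 with h | h
  · rcases Nat.lt_or_ge v 11034 with h | h
    · rcases Nat.lt_or_ge v 4892 with h | h
      · rcases Nat.lt_or_ge v 2200 with h | h
        · exact edgesRangeI_spec iota E 3 2200 0 edges_3_0 v (by omega) (by omega)
        · exact edgesRangeI_spec iota E 3 2692 2200 edges_3_1 v (by omega) (by omega)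
      · rcases Nat.lt_or_ge v 7933 with h | h
        · exact edgesRangeI_spec iota E 3 3041 4892 edges_3_2 v (by omega) (by omega)
        · exact edgesRangeI_spec iota E 3 3101 7933 edges_3_3 v (by omega) (by omega)
    · rcases Nat.lt_or_ge v 16677 with h | h
      · rcases Nat.lt_or_ge v 14009 with h | h
        · exact edgesRangeI_spec iota E 3 2975 11034 edges_3_4 v (by omega) (by omega)
        · exact edgesRangeI_spec iota E 3 2668 14009 edges_3_5 v (by omega) (by omega)
      · rcases Nat.lt_or_ge v 19274 with h | h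
        · exact edgesRangeI_spec iota E 3 2597 16677 edges_3_6 v (by omega) (by omega)
        · exact edgesRangeI_spec iota E 3 2308 19274 edges_3_7 v (by omega) (by omega)
  · rcases Nat.lt_or_ge v 29456 with h | h
    · rcases Nat.lt_or_ge v 25532 with h | h
      · rcases Nat.lt_or_ge v 23525 with h | h
        · exact edgesRangeI_spec iota E 3 1943 21582 edges_3_8 v (by omega) (by omega)
        · exact edgesRangeI_spec iota E 3 2007 23525 edges_3_9 v (by omega) (by omega)
      · rcases Nat.lt_or_ge v 27564 with h | h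
        · exact edgesRangeI_spec iota E 3 2032 25532 edges_3_10 v (by omega) (by omega)
        · exact edgesRangeI_spec iota E 3 1892 27564 edges_3_11 v (by omega) (by omega)
    · rcases Nat.lt_or_ge v 33034 with h | h
      · rcases Nat.lt_or_ge v 31228 with h | h
        · exact edgesRangeI_spec iota E 3 1772 29456 edges_3_12 v (by omega) (by omega)
        · exact edgesRangeI_spec iota E 3 1806 31228 edges_3_13 v (by omega) (by omega)
      · rcases Nat.lt_or_ge v 34855 with h | h
        · exact edgesRangeI_spec iota E 3 1821 33034 edges_3_14 v (by omega) (by omega)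
        · rcases Nat.lt_or_ge v 36599 with h | h
          · exact edgesRangeI_spec iota E 3 1744 34855 edges_3_15 v (by omega) (by omega)
          · exact edgesRangeI_spec iota E 3 87 36599 edges_3_16 v (by omega) (by omega)

theorem edgesx_4 : ∀ v, v < 36686 → edgeOKI iota E 4 v = true := by
  intro v hv
  rcases Nat.lt_or_ge v 20474 with h | h
  · rcases Nat.lt_or_ge v 10104 with h | h
    · rcases Nat.lt_or_ge v 5143 with h | h
      · rcases Nat.lt_or_ge v 2552 with h | h
        · exact edgesRangeI_spec iota E 4 2552 0 edges_4_0 v (by omega) (by omega)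
        · exact edgesRangeI_spec iota E 4 2591 2552 edges_4_1 v (by omega) (by omega)
      · rcases Nat.lt_or_ge v 7658 with h | h
        · exact edgesRangeI_spec iota E 4 2515 5143 edges_4_2 v (by omega) (by omega)
        · exact edgesRangeI_spec iota E 4 2446 7658 edges_4_3 v (by omega) (by omega)
    · rcases Nat.lt_or_ge v 15354 with h | h
      · rcases Nat.lt_or_ge v 12689 with h | h
        · exact edgesRangeI_spec iota E 4 2585 10104 edges_4_4 v (by omega) (by omega)
        · exact edgesRangeI_spec iota E 4 2665 12689 edges_4_5 v (by omega) (by omega)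
      · rcases Nat.lt_or_ge v 18026 with h | h
        · exact edgesRangeI_spec iota E 4 2672 15354 edges_4_6 v (by omega) (by omega)
        · exact edgesRangeI_spec iota E 4 2448 18026 edges_4_7 v (by omega) (by omega)
  · rcases Nat.lt_or_ge v 27577 with h | h
    · rcases Nat.lt_or_ge v 24141 with h | h
      · rcases Nat.lt_or_ge v 22351 with h | h
        · exact edgesRangeI_spec iota E 4 1877 20474 edges_4_8 v (by omega) (by omega)
        · exact edgesRangeI_spec iota E 4 1790 22351 edges_4_9 v (by omega) (by omega)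
      · rcases Nat.lt_or_ge v 25867 with h | h
        · exact edgesRangeI_spec iota E 4 1726 24141 edges_4_10 v (by omega) (by omega)
        · exact edgesRangeI_spec iota E 4 1710 25867 edges_4_11 v (by omega) (by omega)
    · rcases Nat.lt_or_ge v 31330 with h | h
      · rcases Nat.lt_or_ge v 29329 with h | h
        · exact edgesRangeI_spec iota E 4 1752 27577 edges_4_12 v (by omega) (by omega)
        · exact edgesRangeI_spec iota E 4 2001 29329 edges_4_13 v (by omega) (by omega)
      · rcases Nat.lt_or_ge v 33638 with h | h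
        · exact edgesRangeI_spec iota E 4 2308 31330 edges_4_14 v (by omega) (by omega)
        · rcases Nat.lt_or_ge v 35759 with h | h
          · exact edgesRangeI_spec iota E 4 2121 33638 edges_4_15 v (by omega) (by omega)
          · exact edgesRangeI_spec iota E 4 927 35759 edges_4_16 v (by omega) (by omega)

theorem edgesx_5 : ∀ v, v < 36686 → edgeOKI iota E 5 v = true := by
  intro v hv
  rcases Nat.lt_or_ge v 23065 with h | h
  · rcases Nat.lt_or_ge v 10756 with h | h
    · rcases Nat.lt_or_ge v 4453 with h | h
      · rcases Nat.lt_or_ge v 2049 with h | h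
        · exact edgesRangeI_spec iota E 5 2049 0 edges_5_0 v (by omega) (by omega)
        · exact edgesRangeI_spec iota E 5 2404 2049 edges_5_1 v (by omega) (by omega)
      · rcases Nat.lt_or_ge v 7338 with h | h
        · exact edgesRangeI_spec iota E 5 2885 4453 edges_5_2 v (by omega) (by omega)
        · exact edgesRangeI_spec iota E 5 3418 7338 edges_5_3 v (by omega) (by omega)
    · rcases Nat.lt_or_ge v 17949 with h | h
      · rcases Nat.lt_or_ge v 14585 with h | h
        · exact edgesRangeI_spec iota E 5 3829 10756 edges_5_4 v (by omega) (by omega)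
        · exact edgesRangeI_spec iota E 5 3364 14585 edges_5_5 v (by omega) (by omega)
      · rcases Nat.lt_or_ge v 20856 with h | h
        · exact edgesRangeI_spec iota E 5 2907 17949 edges_5_6 v (by omega) (by omega)
        · exact edgesRangeI_spec iota E 5 2209 20856 edges_5_7 v (by omega) (by omega)
  · rcases Nat.lt_or_ge v 30816 with h | h
    · rcases Nat.lt_or_ge v 27014 with h | h
      · rcases Nat.lt_or_ge v 25075 with h | h
        · exact edgesRangeI_spec iota E 5 2010 23065 edges_5_8 v (by omega) (by omega)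
        · exact edgesRangeI_spec iota E 5 1939 25075 edges_5_9 v (by omega) (by omega)
      · rcases Nat.lt_or_ge v 28959 with h | h
        · exact edgesRangeI_spec iota E 5 1945 27014 edges_5_10 v (by omega) (by omega)
        · exact edgesRangeI_spec iota E 5 1857 28959 edges_5_11 v (by omega) (by omega)
    · rcases Nat.lt_or_ge v 34659 with h | h
      · rcases Nat.lt_or_ge v 32730 with h | h
        · exact edgesRangeI_spec iota E 5 1914 30816 edges_5_12 v (by omega) (by omega)
        · exact edgesRangeI_spec iota E 5 1929 32730 edges_5_13 v (by omega) (by omega)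
      · rcases Nat.lt_or_ge v 36396 with h | h
        · exact edgesRangeI_spec iota E 5 1737 34659 edges_5_14 v (by omega) (by omega)
        · exact edgesRangeI_spec iota E 5 290 36396 edges_5_15 v (by omega) (by omega)

theorem edgesx_6 : ∀ v, v < 36686 → edgeOKI iota E 6 v = true := by
  intro v hv
  rcases Nat.lt_or_ge v 20874 with h | h
  · rcases Nat.lt_or_ge v 9190 with h | h
    · rcases Nat.lt_or_ge v 4199 with h | h
      · rcases Nat.lt_or_ge v 1979 with h | h
        · exact edgesRangeI_spec iota E 6 1979 0 edges_6_0 v (by omega) (by omega)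
        · exact edgesRangeI_spec iota E 6 2220 1979 edges_6_1 v (by omega) (by omega)
      · rcases Nat.lt_or_ge v 6485 with h | h
        · exact edgesRangeI_spec iota E 6 2286 4199 edges_6_2 v (by omega) (by omega)
        · exact edgesRangeI_spec iota E 6 2705 6485 edges_6_3 v (by omega) (by omega)
    · rcases Nat.lt_or_ge v 15040 with h | h
      · rcases Nat.lt_or_ge v 12030 with h | h
        · exact edgesRangeI_spec iota E 6 2840 9190 edges_6_4 v (by omega) (by omega)
        · exact edgesRangeI_spec iota E 6 3010 12030 edges_6_5 v (by omega) (by omega)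
      · rcases Nat.lt_or_ge v 18115 with h | h
        · exact edgesRangeI_spec iota E 6 3075 15040 edges_6_6 v (by omega) (by omega)
        · exact edgesRangeI_spec iota E 6 2759 18115 edges_6_7 v (by omega) (by omega)
  · rcases Nat.lt_or_ge v 29822 with h | h
    · rcases Nat.lt_or_ge v 25379 with h | h
      · rcases Nat.lt_or_ge v 23162 with h | h
        · exact edgesRangeI_spec iota E 6 2288 20874 edges_6_8 v (by omega) (by omega)
        · exact edgesRangeI_spec iota E 6 2217 23162 edges_6_9 v (by omega) (by omega)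
      · rcases Nat.lt_or_ge v 27633 with h | h
        · exact edgesRangeI_spec iota E 6 2254 25379 edges_6_10 v (by omega) (by omega)
        · exact edgesRangeI_spec iota E 6 2189 27633 edges_6_11 v (by omega) (by omega)
    · rcases Nat.lt_or_ge v 34057 with h | h
      · rcases Nat.lt_or_ge v 31996 with h | h
        · exact edgesRangeI_spec iota E 6 2174 29822 edges_6_12 v (by omega) (by omega)
        · exact edgesRangeI_spec iota E 6 2061 31996 edges_6_13 v (by omega) (by omega)
      · rcases Nat.lt_or_ge v 35934 with h | h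
        · exact edgesRangeI_spec iota E 6 1877 34057 edges_6_14 v (by omega) (by omega)
        · exact edgesRangeI_spec iota E 6 752 35934 edges_6_15 v (by omega) (by omega)

theorem edgesx_7 : ∀ v, v < 36686 → edgeOKI iota E 7 v = true := by
  intro v hv
  rcases Nat.lt_or_ge v 20511 with h | h
  · rcases Nat.lt_or_ge v 8667 with h | h
    · rcases Nat.lt_or_ge v 4354 with h | h
      · rcases Nat.lt_or_ge v 2076 with h | h
        · exact edgesRangeI_spec iota E 7 2076 0 edges_7_0 v (by omega) (by omega)
        · exact edgesRangeI_spec iota E 7 2278 2076 edges_7_1 v (by omega) (by omega)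
      · rcases Nat.lt_or_ge v 6465 with h | h
        · exact edgesRangeI_spec iota E 7 2111 4354 edges_7_2 v (by omega) (by omega)
        · exact edgesRangeI_spec iota E 7 2202 6465 edges_7_3 v (by omega) (by omega)
    · rcases Nat.lt_or_ge v 13308 with h | h
      · rcases Nat.lt_or_ge v 10966 with h | h
        · exact edgesRangeI_spec iota E 7 2299 8667 edges_7_4 v (by omega) (by omega)
        · exact edgesRangeI_spec iota E 7 2342 10966 edges_7_5 v (by omega) (by omega)
      · rcases Nat.lt_or_ge v 15736 with h | h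
        · exact edgesRangeI_spec iota E 7 2428 13308 edges_7_6 v (by omega) (by omega)
        · rcases Nat.lt_or_ge v 18224 with h | h
          · exact edgesRangeI_spec iota E 7 2488 15736 edges_7_7 v (by omega) (by omega)
          · exact edgesRangeI_spec iota E 7 2287 18224 edges_7_8 v (by omega) (by omega)
  · rcases Nat.lt_or_ge v 28182 with h | h
    · rcases Nat.lt_or_ge v 24324 with h | h
      · rcases Nat.lt_or_ge v 22402 with h | h
        · exact edgesRangeI_spec iota E 7 1891 20511 edges_7_9 v (by omega) (by omega)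
        · exact edgesRangeI_spec iota E 7 1922 22402 edges_7_10 v (by omega) (by omega)
      · rcases Nat.lt_or_ge v 26227 with h | h
        · exact edgesRangeI_spec iota E 7 1903 24324 edges_7_11 v (by omega) (by omega)
        · exact edgesRangeI_spec iota E 7 1955 26227 edges_7_12 v (by omega) (by omega)
    · rcases Nat.lt_or_ge v 31871 with h | h
      · rcases Nat.lt_or_ge v 30122 with h | h
        · exact edgesRangeI_spec iota E 7 1940 28182 edges_7_13 v (by omega) (by omega)
        · exact edgesRangeI_spec iota E 7 1749 30122 edges_7_14 v (by omega) (by omega)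
      · rcases Nat.lt_or_ge v 33713 with h | h
        · exact edgesRangeI_spec iota E 7 1842 31871 edges_7_15 v (by omega) (by omega)
        · rcases Nat.lt_or_ge v 35438 with h | h
          · exact edgesRangeI_spec iota E 7 1725 33713 edges_7_16 v (by omega) (by omega)
          · exact edgesRangeI_spec iota E 7 1248 35438 edges_7_17 v (by omega) (by omega)

theorem edgesx_8 : ∀ v, v < 36686 → edgeOKI iota E 8 v = true := by
  intro v hv
  rcases Nat.lt_or_ge v 21240 with h | h
  · rcases Nat.lt_or_ge v 8693 with h | h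
    · rcases Nat.lt_or_ge v 4331 with h | h
      · rcases Nat.lt_or_ge v 2138 with h | h
        · exact edgesRangeI_spec iota E 8 2138 0 edges_8_0 v (by omega) (by omega)
        · exact edgesRangeI_spec iota E 8 2193 2138 edges_8_1 v (by omega) (by omega)
      · rcases Nat.lt_or_ge v 6426 with h | h
        · exact edgesRangeI_spec iota E 8 2095 4331 edges_8_2 v (by omega) (by omega)
        · exact edgesRangeI_spec iota E 8 2267 6426 edges_8_3 v (by omega) (by omega)
    · rcases Nat.lt_or_ge v 13586 with h | h
      · rcases Nat.lt_or_ge v 11108 with h | h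
        · exact edgesRangeI_spec iota E 8 2415 8693 edges_8_4 v (by omega) (by omega)
        · exact edgesRangeI_spec iota E 8 2478 11108 edges_8_5 v (by omega) (by omega)
      · rcases Nat.lt_or_ge v 16195 with h | h
        · exact edgesRangeI_spec iota E 8 2609 13586 edges_8_6 v (by omega) (by omega)
        · rcases Nat.lt_or_ge v 18867 with h | h
          · exact edgesRangeI_spec iota E 8 2672 16195 edges_8_7 v (by omega) (by omega)
          · exact edgesRangeI_spec iota E 8 2373 18867 edges_8_8 v (by omega) (by omega)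
  · rcases Nat.lt_or_ge v 29046 with h | h
    · rcases Nat.lt_or_ge v 25149 with h | h
      · rcases Nat.lt_or_ge v 23190 with h | h
        · exact edgesRangeI_spec iota E 8 1950 21240 edges_8_9 v (by omega) (by omega)
        · exact edgesRangeI_spec iota E 8 1959 23190 edges_8_10 v (by omega) (by omega)
      · rcases Nat.lt_or_ge v 27125 with h | h
        · exact edgesRangeI_spec iota E 8 1976 25149 edges_8_11 v (by omega) (by omega)
        · exact edgesRangeI_spec iota E 8 1921 27125 edges_8_12 v (by omega) (by omega)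
    · rcases Nat.lt_or_ge v 32998 with h | h
      · rcases Nat.lt_or_ge v 31044 with h | h
        · exact edgesRangeI_spec iota E 8 1998 29046 edges_8_13 v (by omega) (by omega)
        · exact edgesRangeI_spec iota E 8 1954 31044 edges_8_14 v (by omega) (by omega)
      · rcases Nat.lt_or_ge v 34896 with h | h
        · exact edgesRangeI_spec iota E 8 1898 32998 edges_8_15 v (by omega) (by omega)
        · rcases Nat.lt_or_ge v 36681 with h | h
          · exact edgesRangeI_spec iota E 8 1785 34896 edges_8_16 v (by omega) (by omega)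
          · exact edgesRangeI_spec iota E 8 5 36681 edges_8_17 v (by omega) (by omega)

theorem edgesx_9 : ∀ v, v < 36686 → edgeOKI iota E 9 v = true := by
  intro v hv
  rcases Nat.lt_or_ge v 17852 with h | h
  · rcases Nat.lt_or_ge v 7649 with h | h
    · rcases Nat.lt_or_ge v 3032 with h | h
      · exact edgesRangeI_spec iota E 9 3032 0 edges_9_0 v (by omega) (by omega)
      · rcases Nat.lt_or_ge v 5428 with h | h
        · exact edgesRangeI_spec iota E 9 2396 3032 edges_9_1 v (by omega) (by omega)
        · exact edgesRangeI_spec iota E 9 2221 5428 edges_9_2 v (by omega) (by omega)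
    · rcases Nat.lt_or_ge v 12432 with h | h
      · rcases Nat.lt_or_ge v 9940 with h | h
        · exact edgesRangeI_spec iota E 9 2291 7649 edges_9_3 v (by omega) (by omega)
        · exact edgesRangeI_spec iota E 9 2492 9940 edges_9_4 v (by omega) (by omega)
      · rcases Nat.lt_or_ge v 15160 with h | h
        · exact edgesRangeI_spec iota E 9 2728 12432 edges_9_5 v (by omega) (by omega)
        · exact edgesRangeI_spec iota E 9 2692 15160 edges_9_6 v (by omega) (by omega)
  · rcases Nat.lt_or_ge v 27461 with h | h
    · rcases Nat.lt_or_ge v 22739 with h | h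
      · rcases Nat.lt_or_ge v 20579 with h | h
        · exact edgesRangeI_spec iota E 9 2727 17852 edges_9_7 v (by omega) (by omega)
        · exact edgesRangeI_spec iota E 9 2160 20579 edges_9_8 v (by omega) (by omega)
      · rcases Nat.lt_or_ge v 25075 with h | h
        · exact edgesRangeI_spec iota E 9 2336 22739 edges_9_9 v (by omega) (by omega)
        · exact edgesRangeI_spec iota E 9 2386 25075 edges_9_10 v (by omega) (by omega)
    · rcases Nat.lt_or_ge v 32810 with h | h
      · rcases Nat.lt_or_ge v 30015 with h | h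
        · exact edgesRangeI_spec iota E 9 2554 27461 edges_9_11 v (by omega) (by omega)
        · exact edgesRangeI_spec iota E 9 2795 30015 edges_9_12 v (by omega) (by omega)
      · rcases Nat.lt_or_ge v 36103 with h | h
        · exact edgesRangeI_spec iota E 9 3293 32810 edges_9_13 v (by omega) (by omega)
        · exact edgesRangeI_spec iota E 9 583 36103 edges_9_14 v (by omega) (by omega)

theorem hA0 : ∀ v, v < 36686 → aliasOK E v = true := by
  intro v hv
  rcases Nat.lt_or_ge v 15326 with h | h
  · rcases Nat.lt_or_ge v 8426 with h | h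
    · rcases Nat.lt_or_ge v 4306 with h | h
      · exact aliasRange_spec E 4306 0 aliases_0 v (by omega) (by omega)
      · exact aliasRange_spec E 4120 4306 aliases_1 v (by omega) (by omega)
    · rcases Nat.lt_or_ge v 12022 with h | h
      · exact aliasRange_spec E 3596 8426 aliases_2 v (by omega) (by omega)
      · exact aliasRange_spec E 3304 12022 aliases_3 v (by omega) (by omega)
  · rcases Nat.lt_or_ge v 22630 with h | h
    · rcases Nat.lt_or_ge v 18310 with h | h
      · exact aliasRange_spec E 2984 15326 aliases_4 v (by omega) (by omega)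
      · exact aliasRange_spec E 4320 18310 aliases_5 v (by omega) (by omega)
    · rcases Nat.lt_or_ge v 30630 with h | h
      · exact aliasRange_spec E 8000 22630 aliases_6 v (by omega) (by omega)
      · exact aliasRange_spec E 6056 30630 aliases_7 v (by omega) (by omega)

theorem hrows0 : ∀ v, v < 36686 → tb RS v = true → rowOK2 E RS v E.D.k = true := by
  intro v hv
  rcases Nat.lt_or_ge v 18000 with h | h
  · rcases Nat.lt_or_ge v 9000 with h | h
    · rcases Nat.lt_or_ge v 4500 with h | h
      · rcases Nat.lt_or_ge v 1500 with h | h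
        · exact rowsRange_spec E RS 1500 0 rows_0 v (by omega) (by omega)
        · rcases Nat.lt_or_ge v 3000 with h | h
          · exact rowsRange_spec E RS 1500 1500 rows_1 v (by omega) (by omega)
          · exact rowsRange_spec E RS 1500 3000 rows_2 v (by omega) (by omega)
      · rcases Nat.lt_or_ge v 6000 with h | h
        · exact rowsRange_spec E RS 1500 4500 rows_3 v (by omega) (by omega)
        · rcases Nat.lt_or_ge v 7500 with h | h
          · exact rowsRange_spec E RS 1500 6000 rows_4 v (by omega) (by omega)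
          · exact rowsRange_spec E RS 1500 7500 rows_5 v (by omega) (by omega)
    · rcases Nat.lt_or_ge v 13500 with h | h
      · rcases Nat.lt_or_ge v 10500 with h | h
        · exact rowsRange_spec E RS 1500 9000 rows_6 v (by omega) (by omega)
        · rcases Nat.lt_or_ge v 12000 with h | h
          · exact rowsRange_spec E RS 1500 10500 rows_7 v (by omega) (by omega)
          · exact rowsRange_spec E RS 1500 12000 rows_8 v (by omega) (by omega)
      · rcases Nat.lt_or_ge v 15000 with h | h
        · exact rowsRange_spec E RS 1500 13500 rows_9 v (by omega) (by omega)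
        · rcases Nat.lt_or_ge v 16500 with h | h
          · exact rowsRange_spec E RS 1500 15000 rows_10 v (by omega) (by omega)
          · exact rowsRange_spec E RS 1500 16500 rows_11 v (by omega) (by omega)
  · rcases Nat.lt_or_ge v 27000 with h | h
    · rcases Nat.lt_or_ge v 22500 with h | h
      · rcases Nat.lt_or_ge v 19500 with h | h
        · exact rowsRange_spec E RS 1500 18000 rows_12 v (by omega) (by omega)
        · rcases Nat.lt_or_ge v 21000 with h | h
          · exact rowsRange_spec E RS 1500 19500 rows_13 v (by omega) (by omega)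
          · exact rowsRange_spec E RS 1500 21000 rows_14 v (by omega) (by omega)
      · rcases Nat.lt_or_ge v 24000 with h | h
        · exact rowsRange_spec E RS 1500 22500 rows_15 v (by omega) (by omega)
        · rcases Nat.lt_or_ge v 25500 with h | h
          · exact rowsRange_spec E RS 1500 24000 rows_16 v (by omega) (by omega)
          · exact rowsRange_spec E RS 1500 25500 rows_17 v (by omega) (by omega)
    · rcases Nat.lt_or_ge v 31500 with h | h
      · rcases Nat.lt_or_ge v 28500 with h | h
        · exact rowsRange_spec E RS 1500 27000 rows_18 v (by omega) (by omega)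
        · rcases Nat.lt_or_ge v 30000 with h | h
          · exact rowsRange_spec E RS 1500 28500 rows_19 v (by omega) (by omega)
          · exact rowsRange_spec E RS 1500 30000 rows_20 v (by omega) (by omega)
      · rcases Nat.lt_or_ge v 34500 with h | h
        · rcases Nat.lt_or_ge v 33000 with h | h
          · exact rowsRange_spec E RS 1500 31500 rows_21 v (by omega) (by omega)
          · exact rowsRange_spec E RS 1500 33000 rows_22 v (by omega) (by omega)
        · rcases Nat.lt_or_ge v 36000 with h | h
          · exact rowsRange_spec E RS 1500 34500 rows_23 v (by omega) (by omega)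
          · exact rowsRange_spec E RS 686 36000 rows_24 v (by omega) (by omega)

theorem cb_0 : cntBits RS 0 = 0 := rfl

theorem cb_1 : cntBits RS 20000 = 11999 := by
  have h := cntBits_step RS 0 20000
  rw [cb_0, cnt_0] at h
  exact h

theorem cb_2 : cntBits RS 36686 = 28431 := by
  have h := cntBits_step RS 20000 16686
  rw [cb_1, cnt_1] at h
  exact h

theorem set_ok : setOK 36686 28431 RS = true :=
  setOK_of_parts cb_2 set_zero set_lt

theorem relf_0 : ∀ v, v < 28431 → W_0 v = v := by
  intro v hv
  exact fixPtsF_spec W_0 28431 0 relc_0_0 v (by omega) (by omega)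

set_option maxRecDepth 1000000 in
theorem walk_0 : ∀ v, walkT ctF (D.wlen 0) (D.wordP 0) v = W_0 v := by
  intro v
  simp only [W_0, forceL_eq]
  rfl

theorem relw_0 : ∀ v, v < 28431 → walkT ctF (D.wlen 0) (D.wordP 0) v = v := by
  intro v hv
  rw [walk_0]
  exact relf_0 v hv

theorem relf_1 : ∀ v, v < 28431 → W_1 v = v := by
  intro v hv
  exact fixPtsF_spec W_1 28431 0 relc_1_0 v (by omega) (by omega)

set_option maxRecDepth 1000000 in
theorem walk_1 : ∀ v, walkT ctF (D.wlen 1) (D.wordP 1) v = W_1 v := by
  intro v
  simp only [W_1, forceL_eq]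
  rfl

theorem relw_1 : ∀ v, v < 28431 → walkT ctF (D.wlen 1) (D.wordP 1) v = v := by
  intro v hv
  rw [walk_1]
  exact relf_1 v hv

theorem relf_2 : ∀ v, v < 28431 → W_2 v = v := by
  intro v hv
  exact fixPtsF_spec W_2 28431 0 relc_2_0 v (by omega) (by omega)

set_option maxRecDepth 1000000 in
theorem walk_2 : ∀ v, walkT ctF (D.wlen 2) (D.wordP 2) v = W_2 v := by
  intro v
  simp only [W_2, forceL_eq]
  rfl

theorem relw_2 : ∀ v, v < 28431 → walkT ctF (D.wlen 2) (D.wordP 2) v = v := by
  intro v hv
  rw [walk_2]
  exact relf_2 v hv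

theorem relf_3 : ∀ v, v < 28431 → W_3 v = v := by
  intro v hv
  exact fixPtsF_spec W_3 28431 0 relc_3_0 v (by omega) (by omega)

set_option maxRecDepth 1000000 in
theorem walk_3 : ∀ v, walkT ctF (D.wlen 3) (D.wordP 3) v = W_3 v := by
  intro v
  simp only [W_3, forceL_eq]
  rfl

theorem relw_3 : ∀ v, v < 28431 → walkT ctF (D.wlen 3) (D.wordP 3) v = v := by
  intro v hv
  rw [walk_3]
  exact relf_3 v hv

theorem relf_4 : ∀ v, v < 28431 → W_4 v = v := by
  intro v hv
  exact fixPtsF_spec W_4 28431 0 relc_4_0 v (by omega) (by omega)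

set_option maxRecDepth 1000000 in
theorem walk_4 : ∀ v, walkT ctF (D.wlen 4) (D.wordP 4) v = W_4 v := by
  intro v
  simp only [W_4, forceL_eq]
  rfl

theorem relw_4 : ∀ v, v < 28431 → walkT ctF (D.wlen 4) (D.wordP 4) v = v := by
  intro v hv
  rw [walk_4]
  exact relf_4 v hv

theorem relf_5 : ∀ v, v < 28431 → W_5 v = v := by
  intro v hv
  exact fixPtsF_spec W_5 28431 0 relc_5_0 v (by omega) (by omega)

set_option maxRecDepth 1000000 in
theorem walk_5 : ∀ v, walkT ctF (D.wlen 5) (D.wordP 5) v = W_5 v := by
  intro v
  simp only [W_5, forceL_eq]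
  rfl

theorem relw_5 : ∀ v, v < 28431 → walkT ctF (D.wlen 5) (D.wordP 5) v = v := by
  intro v hv
  rw [walk_5]
  exact relf_5 v hv

theorem relf_6 : ∀ v, v < 28431 → W_6 v = v := by
  intro v hv
  exact fixPtsF_spec W_6 28431 0 relc_6_0 v (by omega) (by omega)

set_option maxRecDepth 1000000 in
theorem walk_6 : ∀ v, walkT ctF (D.wlen 6) (D.wordP 6) v = W_6 v := by
  intro v
  simp only [W_6, forceL_eq]
  rfl

theorem relw_6 : ∀ v, v < 28431 → walkT ctF (D.wlen 6) (D.wordP 6) v = v := by
  intro v hv
  rw [walk_6]
  exact relf_6 v hv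

theorem relf_7 : ∀ v, v < 28431 → W_7 v = v := by
  intro v hv
  exact fixPtsF_spec W_7 28431 0 relc_7_0 v (by omega) (by omega)

set_option maxRecDepth 1000000 in
theorem walk_7 : ∀ v, walkT ctF (D.wlen 7) (D.wordP 7) v = W_7 v := by
  intro v
  simp only [W_7, forceL_eq]
  rfl

theorem relw_7 : ∀ v, v < 28431 → walkT ctF (D.wlen 7) (D.wordP 7) v = v := by
  intro v hv
  rw [walk_7]
  exact relf_7 v hv

theorem relf_8 : ∀ v, v < 28431 → W_8 v = v := by
  intro v hv
  exact fixPtsF_spec W_8 28431 0 relc_8_0 v (by omega) (by omega)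

set_option maxRecDepth 1000000 in
theorem walk_8 : ∀ v, walkT ctF (D.wlen 8) (D.wordP 8) v = W_8 v := by
  intro v
  simp only [W_8, forceL_eq]
  rfl

theorem relw_8 : ∀ v, v < 28431 → walkT ctF (D.wlen 8) (D.wordP 8) v = v := by
  intro v hv
  rw [walk_8]
  exact relf_8 v hv

theorem relf_9 : ∀ v, v < 28431 → W_9 v = v := by
  intro v hv
  exact fixPtsF_spec W_9 28431 0 relc_9_0 v (by omega) (by omega)

set_option maxRecDepth 1000000 in
theorem walk_9 : ∀ v, walkT ctF (D.wlen 9) (D.wordP 9) v = W_9 v := by
  intro v
  simp only [W_9, forceL_eq]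
  rfl

theorem relw_9 : ∀ v, v < 28431 → walkT ctF (D.wlen 9) (D.wordP 9) v = v := by
  intro v hv
  rw [walk_9]
  exact relf_9 v hv

theorem relf_10 : ∀ v, v < 28431 → W_10 v = v := by
  intro v hv
  exact fixPtsF_spec W_10 28431 0 relc_10_0 v (by omega) (by omega)

set_option maxRecDepth 1000000 in
theorem walk_10 : ∀ v, walkT ctF (D.wlen 10) (D.wordP 10) v = W_10 v := by
  intro v
  simp only [W_10, forceL_eq]
  rfl

theorem relw_10 : ∀ v, v < 28431 → walkT ctF (D.wlen 10) (D.wordP 10) v = v := by
  intro v hv
  rw [walk_10]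
  exact relf_10 v hv

theorem relf_11 : ∀ v, v < 28431 → W_11 v = v := by
  intro v hv
  exact fixPtsF_spec W_11 28431 0 relc_11_0 v (by omega) (by omega)

set_option maxRecDepth 1000000 in
theorem walk_11 : ∀ v, walkT ctF (D.wlen 11) (D.wordP 11) v = W_11 v := by
  intro v
  simp only [W_11, forceL_eq]
  rfl

theorem relw_11 : ∀ v, v < 28431 → walkT ctF (D.wlen 11) (D.wordP 11) v = v := by
  intro v hv
  rw [walk_11]
  exact relf_11 v hv

theorem relf_12 : ∀ v, v < 28431 → W_12 v = v := by
  intro v hv
  exact fixPtsF_spec W_12 28431 0 relc_12_0 v (by omega) (by omega)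

set_option maxRecDepth 1000000 in
theorem walk_12 : ∀ v, walkT ctF (D.wlen 12) (D.wordP 12) v = W_12 v := by
  intro v
  simp only [W_12, forceL_eq]
  rfl

theorem relw_12 : ∀ v, v < 28431 → walkT ctF (D.wlen 12) (D.wordP 12) v = v := by
  intro v hv
  rw [walk_12]
  exact relf_12 v hv

theorem relf_13 : ∀ v, v < 28431 → W_13 v = v := by
  intro v hv
  exact fixPtsF_spec W_13 28431 0 relc_13_0 v (by omega) (by omega)

set_option maxRecDepth 1000000 in
theorem walk_13 : ∀ v, walkT ctF (D.wlen 13) (D.wordP 13) v = W_13 v := by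
  intro v
  simp only [W_13, forceL_eq]
  rfl

theorem relw_13 : ∀ v, v < 28431 → walkT ctF (D.wlen 13) (D.wordP 13) v = v := by
  intro v hv
  rw [walk_13]
  exact relf_13 v hv

theorem relf_14 : ∀ v, v < 28431 → W_14 v = v := by
  intro v hv
  exact fixPtsF_spec W_14 28431 0 relc_14_0 v (by omega) (by omega)

set_option maxRecDepth 1000000 in
theorem walk_14 : ∀ v, walkT ctF (D.wlen 14) (D.wordP 14) v = W_14 v := by
  intro v
  simp only [W_14, forceL_eq]
  rfl

theorem relw_14 : ∀ v, v < 28431 → walkT ctF (D.wlen 14) (D.wordP 14) v = v := by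
  intro v hv
  rw [walk_14]
  exact relf_14 v hv

theorem relf_15 : ∀ v, v < 28431 → W_15 v = v := by
  intro v hv
  exact fixPtsF_spec W_15 28431 0 relc_15_0 v (by omega) (by omega)

set_option maxRecDepth 1000000 in
theorem walk_15 : ∀ v, walkT ctF (D.wlen 15) (D.wordP 15) v = W_15 v := by
  intro v
  simp only [W_15, forceL_eq]
  rfl

theorem relw_15 : ∀ v, v < 28431 → walkT ctF (D.wlen 15) (D.wordP 15) v = v := by
  intro v hv
  rw [walk_15]
  exact relf_15 v hv

theorem relf_16 : ∀ v, v < 28431 → W_16 v = v := by
  intro v hv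
  exact fixPtsF_spec W_16 28431 0 relc_16_0 v (by omega) (by omega)

set_option maxRecDepth 1000000 in
theorem walk_16 : ∀ v, walkT ctF (D.wlen 16) (D.wordP 16) v = W_16 v := by
  intro v
  simp only [W_16, forceL_eq]
  rfl

theorem relw_16 : ∀ v, v < 28431 → walkT ctF (D.wlen 16) (D.wordP 16) v = v := by
  intro v hv
  rw [walk_16]
  exact relf_16 v hv

theorem relf_17 : ∀ v, v < 28431 → W_17 v = v := by
  intro v hv
  exact fixPtsF_spec W_17 28431 0 relc_17_0 v (by omega) (by omega)

set_option maxRecDepth 1000000 in
theorem walk_17 : ∀ v, walkT ctF (D.wlen 17) (D.wordP 17) v = W_17 v := by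
  intro v
  simp only [W_17, forceL_eq]
  rfl

theorem relw_17 : ∀ v, v < 28431 → walkT ctF (D.wlen 17) (D.wordP 17) v = v := by
  intro v hv
  rw [walk_17]
  exact relf_17 v hv

theorem relf_18 : ∀ v, v < 28431 → W_18 v = v := by
  intro v hv
  exact fixPtsF_spec W_18 28431 0 relc_18_0 v (by omega) (by omega)

set_option maxRecDepth 1000000 in
theorem walk_18 : ∀ v, walkT ctF (D.wlen 18) (D.wordP 18) v = W_18 v := by
  intro v
  simp only [W_18, forceL_eq]
  rfl

theorem relw_18 : ∀ v, v < 28431 → walkT ctF (D.wlen 18) (D.wordP 18) v = v := by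
  intro v hv
  rw [walk_18]
  exact relf_18 v hv

theorem relf_19 : ∀ v, v < 28431 → W_19 v = v := by
  intro v hv
  exact fixPtsF_spec W_19 28431 0 relc_19_0 v (by omega) (by omega)

set_option maxRecDepth 1000000 in
theorem walk_19 : ∀ v, walkT ctF (D.wlen 19) (D.wordP 19) v = W_19 v := by
  intro v
  simp only [W_19, forceL_eq]
  rfl

theorem relw_19 : ∀ v, v < 28431 → walkT ctF (D.wlen 19) (D.wordP 19) v = v := by
  intro v hv
  rw [walk_19]
  exact relf_19 v hv

theorem relf_20 : ∀ v, v < 28431 → W_20 v = v := by
  intro v hv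
  exact fixPtsF_spec W_20 28431 0 relc_20_0 v (by omega) (by omega)

set_option maxRecDepth 1000000 in
theorem walk_20 : ∀ v, walkT ctF (D.wlen 20) (D.wordP 20) v = W_20 v := by
  intro v
  simp only [W_20, forceL_eq]
  rfl

theorem relw_20 : ∀ v, v < 28431 → walkT ctF (D.wlen 20) (D.wordP 20) v = v := by
  intro v hv
  rw [walk_20]
  exact relf_20 v hv

theorem relf_21 : ∀ v, v < 28431 → W_21 v = v := by
  intro v hv
  exact fixPtsF_spec W_21 28431 0 relc_21_0 v (by omega) (by omega)

set_option maxRecDepth 1000000 in
theorem walk_21 : ∀ v, walkT ctF (D.wlen 21) (D.wordP 21) v = W_21 v := by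
  intro v
  simp only [W_21, forceL_eq]
  rfl

theorem relw_21 : ∀ v, v < 28431 → walkT ctF (D.wlen 21) (D.wordP 21) v = v := by
  intro v hv
  rw [walk_21]
  exact relf_21 v hv

theorem relf_22 : ∀ v, v < 28431 → W_22 v = v := by
  intro v hv
  exact fixPtsF_spec W_22 28431 0 relc_22_0 v (by omega) (by omega)

set_option maxRecDepth 1000000 in
theorem walk_22 : ∀ v, walkT ctF (D.wlen 22) (D.wordP 22) v = W_22 v := by
  intro v
  simp only [W_22, forceL_eq]
  rfl

theorem relw_22 : ∀ v, v < 28431 → walkT ctF (D.wlen 22) (D.wordP 22) v = v := by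
  intro v hv
  rw [walk_22]
  exact relf_22 v hv

theorem relf_23 : ∀ v, v < 28431 → W_23 v = v := by
  intro v hv
  exact fixPtsF_spec W_23 28431 0 relc_23_0 v (by omega) (by omega)

set_option maxRecDepth 1000000 in
theorem walk_23 : ∀ v, walkT ctF (D.wlen 23) (D.wordP 23) v = W_23 v := by
  intro v
  simp only [W_23, forceL_eq]
  rfl

theorem relw_23 : ∀ v, v < 28431 → walkT ctF (D.wlen 23) (D.wordP 23) v = v := by
  intro v hv
  rw [walk_23]
  exact relf_23 v hv

theorem relf_24 : ∀ v, v < 28431 → W_24 v = v := by
  intro v hv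
  exact fixPtsF_spec W_24 28431 0 relc_24_0 v (by omega) (by omega)

set_option maxRecDepth 1000000 in
theorem walk_24 : ∀ v, walkT ctF (D.wlen 24) (D.wordP 24) v = W_24 v := by
  intro v
  simp only [W_24, forceL_eq]
  rfl

theorem relw_24 : ∀ v, v < 28431 → walkT ctF (D.wlen 24) (D.wordP 24) v = v := by
  intro v hv
  rw [walk_24]
  exact relf_24 v hv

theorem relf_25 : ∀ v, v < 28431 → W_25 v = v := by
  intro v hv
  exact fixPtsF_spec W_25 28431 0 relc_25_0 v (by omega) (by omega)

set_option maxRecDepth 1000000 in
theorem walk_25 : ∀ v, walkT ctF (D.wlen 25) (D.wordP 25) v = W_25 v := by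
  intro v
  simp only [W_25, forceL_eq]
  rfl

theorem relw_25 : ∀ v, v < 28431 → walkT ctF (D.wlen 25) (D.wordP 25) v = v := by
  intro v hv
  rw [walk_25]
  exact relf_25 v hv

theorem relf_26 : ∀ v, v < 28431 → W_26 v = v := by
  intro v hv
  exact fixPtsF_spec W_26 28431 0 relc_26_0 v (by omega) (by omega)

set_option maxRecDepth 1000000 in
theorem walk_26 : ∀ v, walkT ctF (D.wlen 26) (D.wordP 26) v = W_26 v := by
  intro v
  simp only [W_26, forceL_eq]
  rfl

theorem relw_26 : ∀ v, v < 28431 → walkT ctF (D.wlen 26) (D.wordP 26) v = v := by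
  intro v hv
  rw [walk_26]
  exact relf_26 v hv

theorem relf_27 : ∀ v, v < 28431 → W_27 v = v := by
  intro v hv
  exact fixPtsF_spec W_27 28431 0 relc_27_0 v (by omega) (by omega)

set_option maxRecDepth 1000000 in
theorem walk_27 : ∀ v, walkT ctF (D.wlen 27) (D.wordP 27) v = W_27 v := by
  intro v
  simp only [W_27, forceL_eq]
  rfl

theorem relw_27 : ∀ v, v < 28431 → walkT ctF (D.wlen 27) (D.wordP 27) v = v := by
  intro v hv
  rw [walk_27]
  exact relf_27 v hv

theorem relf_28 : ∀ v, v < 28431 → W_28 v = v := by
  intro v hv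
  exact fixPtsF_spec W_28 28431 0 relc_28_0 v (by omega) (by omega)

set_option maxRecDepth 1000000 in
theorem walk_28 : ∀ v, walkT ctF (D.wlen 28) (D.wordP 28) v = W_28 v := by
  intro v
  simp only [W_28, forceL_eq]
  rfl

theorem relw_28 : ∀ v, v < 28431 → walkT ctF (D.wlen 28) (D.wordP 28) v = v := by
  intro v hv
  rw [walk_28]
  exact relf_28 v hv

theorem relf_29 : ∀ v, v < 28431 → W_29 v = v := by
  intro v hv
  exact fixPtsF_spec W_29 28431 0 relc_29_0 v (by omega) (by omega)

set_option maxRecDepth 1000000 in
theorem walk_29 : ∀ v, walkT ctF (D.wlen 29) (D.wordP 29) v = W_29 v := by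
  intro v
  simp only [W_29, forceL_eq]
  rfl

theorem relw_29 : ∀ v, v < 28431 → walkT ctF (D.wlen 29) (D.wordP 29) v = v := by
  intro v hv
  rw [walk_29]
  exact relf_29 v hv

theorem relf_30 : ∀ v, v < 28431 → W_30 v = v := by
  intro v hv
  exact fixPtsF_spec W_30 28431 0 relc_30_0 v (by omega) (by omega)

set_option maxRecDepth 1000000 in
theorem walk_30 : ∀ v, walkT ctF (D.wlen 30) (D.wordP 30) v = W_30 v := by
  intro v
  simp only [W_30, forceL_eq]
  rfl

theorem relw_30 : ∀ v, v < 28431 → walkT ctF (D.wlen 30) (D.wordP 30) v = v := by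
  intro v hv
  rw [walk_30]
  exact relf_30 v hv

theorem relf_31 : ∀ v, v < 28431 → W_31 v = v := by
  intro v hv
  exact fixPtsF_spec W_31 28431 0 relc_31_0 v (by omega) (by omega)

set_option maxRecDepth 1000000 in
theorem walk_31 : ∀ v, walkT ctF (D.wlen 31) (D.wordP 31) v = W_31 v := by
  intro v
  simp only [W_31, forceL_eq]
  rfl

theorem relw_31 : ∀ v, v < 28431 → walkT ctF (D.wlen 31) (D.wordP 31) v = v := by
  intro v hv
  rw [walk_31]
  exact relf_31 v hv

theorem relf_32 : ∀ v, v < 28431 → W_32 v = v := by
  intro v hv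
  exact fixPtsF_spec W_32 28431 0 relc_32_0 v (by omega) (by omega)

set_option maxRecDepth 1000000 in
theorem walk_32 : ∀ v, walkT ctF (D.wlen 32) (D.wordP 32) v = W_32 v := by
  intro v
  simp only [W_32, forceL_eq]
  rfl

theorem relw_32 : ∀ v, v < 28431 → walkT ctF (D.wlen 32) (D.wordP 32) v = v := by
  intro v hv
  rw [walk_32]
  exact relf_32 v hv

theorem relf_33 : ∀ v, v < 28431 → W_33 v = v := by
  intro v hv
  exact fixPtsF_spec W_33 28431 0 relc_33_0 v (by omega) (by omega)

set_option maxRecDepth 1000000 in
theorem walk_33 : ∀ v, walkT ctF (D.wlen 33) (D.wordP 33) v = W_33 v := by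
  intro v
  simp only [W_33, forceL_eq]
  rfl

theorem relw_33 : ∀ v, v < 28431 → walkT ctF (D.wlen 33) (D.wordP 33) v = v := by
  intro v hv
  rw [walk_33]
  exact relf_33 v hv

theorem relf_34 : ∀ v, v < 28431 → W_34 v = v := by
  intro v hv
  exact fixPtsF_spec W_34 28431 0 relc_34_0 v (by omega) (by omega)

set_option maxRecDepth 1000000 in
theorem walk_34 : ∀ v, walkT ctF (D.wlen 34) (D.wordP 34) v = W_34 v := by
  intro v
  simp only [W_34, forceL_eq]
  rfl

theorem relw_34 : ∀ v, v < 28431 → walkT ctF (D.wlen 34) (D.wordP 34) v = v := by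
  intro v hv
  rw [walk_34]
  exact relf_34 v hv

theorem relf_35 : ∀ v, v < 28431 → W_35 v = v := by
  intro v hv
  exact fixPtsF_spec W_35 28431 0 relc_35_0 v (by omega) (by omega)

set_option maxRecDepth 1000000 in
theorem walk_35 : ∀ v, walkT ctF (D.wlen 35) (D.wordP 35) v = W_35 v := by
  intro v
  simp only [W_35, forceL_eq]
  rfl

theorem relw_35 : ∀ v, v < 28431 → walkT ctF (D.wlen 35) (D.wordP 35) v = v := by
  intro v hv
  rw [walk_35]
  exact relf_35 v hv

theorem relf_36 : ∀ v, v < 28431 → W_36 v = v := by
  intro v hv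
  exact fixPtsF_spec W_36 28431 0 relc_36_0 v (by omega) (by omega)

set_option maxRecDepth 1000000 in
theorem walk_36 : ∀ v, walkT ctF (D.wlen 36) (D.wordP 36) v = W_36 v := by
  intro v
  simp only [W_36, forceL_eq]
  rfl

theorem relw_36 : ∀ v, v < 28431 → walkT ctF (D.wlen 36) (D.wordP 36) v = v := by
  intro v hv
  rw [walk_36]
  exact relf_36 v hv

theorem relf_37 : ∀ v, v < 28431 → W_37 v = v := by
  intro v hv
  exact fixPtsF_spec W_37 28431 0 relc_37_0 v (by omega) (by omega)

set_option maxRecDepth 1000000 in
theorem walk_37 : ∀ v, walkT ctF (D.wlen 37) (D.wordP 37) v = W_37 v := by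
  intro v
  simp only [W_37, forceL_eq]
  rfl

theorem relw_37 : ∀ v, v < 28431 → walkT ctF (D.wlen 37) (D.wordP 37) v = v := by
  intro v hv
  rw [walk_37]
  exact relf_37 v hv

theorem relf_38 : ∀ v, v < 28431 → W_38 v = v := by
  intro v hv
  exact fixPtsF_spec W_38 28431 0 relc_38_0 v (by omega) (by omega)

set_option maxRecDepth 1000000 in
theorem walk_38 : ∀ v, walkT ctF (D.wlen 38) (D.wordP 38) v = W_38 v := by
  intro v
  simp only [W_38, forceL_eq]
  rfl

theorem relw_38 : ∀ v, v < 28431 → walkT ctF (D.wlen 38) (D.wordP 38) v = v := by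
  intro v hv
  rw [walk_38]
  exact relf_38 v hv

theorem relf_39 : ∀ v, v < 28431 → W_39 v = v := by
  intro v hv
  exact fixPtsF_spec W_39 28431 0 relc_39_0 v (by omega) (by omega)

set_option maxRecDepth 1000000 in
theorem walk_39 : ∀ v, walkT ctF (D.wlen 39) (D.wordP 39) v = W_39 v := by
  intro v
  simp only [W_39, forceL_eq]
  rfl

theorem relw_39 : ∀ v, v < 28431 → walkT ctF (D.wlen 39) (D.wordP 39) v = v := by
  intro v hv
  rw [walk_39]
  exact relf_39 v hv

theorem relf_40 : ∀ v, v < 28431 → W_40 v = v := by
  intro v hv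
  exact fixPtsF_spec W_40 28431 0 relc_40_0 v (by omega) (by omega)

set_option maxRecDepth 1000000 in
theorem walk_40 : ∀ v, walkT ctF (D.wlen 40) (D.wordP 40) v = W_40 v := by
  intro v
  simp only [W_40, forceL_eq]
  rfl

theorem relw_40 : ∀ v, v < 28431 → walkT ctF (D.wlen 40) (D.wordP 40) v = v := by
  intro v hv
  rw [walk_40]
  exact relf_40 v hv

theorem relf_41 : ∀ v, v < 28431 → W_41 v = v := by
  intro v hv
  exact fixPtsF_spec W_41 28431 0 relc_41_0 v (by omega) (by omega)

set_option maxRecDepth 1000000 in
theorem walk_41 : ∀ v, walkT ctF (D.wlen 41) (D.wordP 41) v = W_41 v := by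
  intro v
  simp only [W_41, forceL_eq]
  rfl

theorem relw_41 : ∀ v, v < 28431 → walkT ctF (D.wlen 41) (D.wordP 41) v = v := by
  intro v hv
  rw [walk_41]
  exact relf_41 v hv

theorem relf_42 : ∀ v, v < 28431 → W_42 v = v := by
  intro v hv
  exact fixPtsF_spec W_42 28431 0 relc_42_0 v (by omega) (by omega)

set_option maxRecDepth 1000000 in
theorem walk_42 : ∀ v, walkT ctF (D.wlen 42) (D.wordP 42) v = W_42 v := by
  intro v
  simp only [W_42, forceL_eq]
  rfl

theorem relw_42 : ∀ v, v < 28431 → walkT ctF (D.wlen 42) (D.wordP 42) v = v := by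
  intro v hv
  rw [walk_42]
  exact relf_42 v hv

theorem relf_43 : ∀ v, v < 28431 → W_43 v = v := by
  intro v hv
  exact fixPtsF_spec W_43 28431 0 relc_43_0 v (by omega) (by omega)

set_option maxRecDepth 1000000 in
theorem walk_43 : ∀ v, walkT ctF (D.wlen 43) (D.wordP 43) v = W_43 v := by
  intro v
  simp only [W_43, forceL_eq]
  rfl

theorem relw_43 : ∀ v, v < 28431 → walkT ctF (D.wlen 43) (D.wordP 43) v = v := by
  intro v hv
  rw [walk_43]
  exact relf_43 v hv

theorem relf_44 : ∀ v, v < 28431 → W_44 v = v := by
  intro v hv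
  exact fixPtsF_spec W_44 28431 0 relc_44_0 v (by omega) (by omega)

set_option maxRecDepth 1000000 in
theorem walk_44 : ∀ v, walkT ctF (D.wlen 44) (D.wordP 44) v = W_44 v := by
  intro v
  simp only [W_44, forceL_eq]
  rfl

theorem relw_44 : ∀ v, v < 28431 → walkT ctF (D.wlen 44) (D.wordP 44) v = v := by
  intro v hv
  rw [walk_44]
  exact relf_44 v hv

theorem relf_45 : ∀ v, v < 28431 → W_45 v = v := by
  intro v hv
  exact fixPtsF_spec W_45 28431 0 relc_45_0 v (by omega) (by omega)

set_option maxRecDepth 1000000 in
theorem walk_45 : ∀ v, walkT ctF (D.wlen 45) (D.wordP 45) v = W_45 v := by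
  intro v
  simp only [W_45, forceL_eq]
  rfl

theorem relw_45 : ∀ v, v < 28431 → walkT ctF (D.wlen 45) (D.wordP 45) v = v := by
  intro v hv
  rw [walk_45]
  exact relf_45 v hv

theorem relf_46 : ∀ v, v < 28431 → W_46 v = v := by
  intro v hv
  exact fixPtsF_spec W_46 28431 0 relc_46_0 v (by omega) (by omega)

set_option maxRecDepth 1000000 in
theorem walk_46 : ∀ v, walkT ctF (D.wlen 46) (D.wordP 46) v = W_46 v := by
  intro v
  simp only [W_46, forceL_eq]
  rfl

theorem relw_46 : ∀ v, v < 28431 → walkT ctF (D.wlen 46) (D.wordP 46) v = v := by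
  intro v hv
  rw [walk_46]
  exact relf_46 v hv

theorem relf_47 : ∀ v, v < 28431 → W_47 v = v := by
  intro v hv
  exact fixPtsF_spec W_47 28431 0 relc_47_0 v (by omega) (by omega)

set_option maxRecDepth 1000000 in
theorem walk_47 : ∀ v, walkT ctF (D.wlen 47) (D.wordP 47) v = W_47 v := by
  intro v
  simp only [W_47, forceL_eq]
  rfl

theorem relw_47 : ∀ v, v < 28431 → walkT ctF (D.wlen 47) (D.wordP 47) v = v := by
  intro v hv
  rw [walk_47]
  exact relf_47 v hv

theorem relf_48 : ∀ v, v < 28431 → W_48 v = v := by
  intro v hv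
  exact fixPtsF_spec W_48 28431 0 relc_48_0 v (by omega) (by omega)

set_option maxRecDepth 1000000 in
theorem walk_48 : ∀ v, walkT ctF (D.wlen 48) (D.wordP 48) v = W_48 v := by
  intro v
  simp only [W_48, forceL_eq]
  rfl

theorem relw_48 : ∀ v, v < 28431 → walkT ctF (D.wlen 48) (D.wordP 48) v = v := by
  intro v hv
  rw [walk_48]
  exact relf_48 v hv

theorem relf_49 : ∀ v, v < 28431 → W_49 v = v := by
  intro v hv
  exact fixPtsF_spec W_49 28431 0 relc_49_0 v (by omega) (by omega)

set_option maxRecDepth 1000000 in
theorem walk_49 : ∀ v, walkT ctF (D.wlen 49) (D.wordP 49) v = W_49 v := by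
  intro v
  simp only [W_49, forceL_eq]
  rfl

theorem relw_49 : ∀ v, v < 28431 → walkT ctF (D.wlen 49) (D.wordP 49) v = v := by
  intro v hv
  rw [walk_49]
  exact relf_49 v hv

theorem relf_50 : ∀ v, v < 28431 → W_50 v = v := by
  intro v hv
  exact fixPtsF_spec W_50 28431 0 relc_50_0 v (by omega) (by omega)

set_option maxRecDepth 1000000 in
theorem walk_50 : ∀ v, walkT ctF (D.wlen 50) (D.wordP 50) v = W_50 v := by
  intro v
  simp only [W_50, forceL_eq]
  rfl

theorem relw_50 : ∀ v, v < 28431 → walkT ctF (D.wlen 50) (D.wordP 50) v = v := by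
  intro v hv
  rw [walk_50]
  exact relf_50 v hv

theorem relf_51 : ∀ v, v < 28431 → W_51 v = v := by
  intro v hv
  exact fixPtsF_spec W_51 28431 0 relc_51_0 v (by omega) (by omega)

set_option maxRecDepth 1000000 in
theorem walk_51 : ∀ v, walkT ctF (D.wlen 51) (D.wordP 51) v = W_51 v := by
  intro v
  simp only [W_51, forceL_eq]
  rfl

theorem relw_51 : ∀ v, v < 28431 → walkT ctF (D.wlen 51) (D.wordP 51) v = v := by
  intro v hv
  rw [walk_51]
  exact relf_51 v hv

theorem relf_52 : ∀ v, v < 28431 → W_52 v = v := by
  intro v hv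
  exact fixPtsF_spec W_52 28431 0 relc_52_0 v (by omega) (by omega)

set_option maxRecDepth 1000000 in
theorem walk_52 : ∀ v, walkT ctF (D.wlen 52) (D.wordP 52) v = W_52 v := by
  intro v
  simp only [W_52, forceL_eq]
  rfl

theorem relw_52 : ∀ v, v < 28431 → walkT ctF (D.wlen 52) (D.wordP 52) v = v := by
  intro v hv
  rw [walk_52]
  exact relf_52 v hv

theorem relf_53 : ∀ v, v < 28431 → W_53 v = v := by
  intro v hv
  exact fixPtsF_spec W_53 28431 0 relc_53_0 v (by omega) (by omega)

set_option maxRecDepth 1000000 in
theorem walk_53 : ∀ v, walkT ctF (D.wlen 53) (D.wordP 53) v = W_53 v := by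
  intro v
  simp only [W_53, forceL_eq]
  rfl

theorem relw_53 : ∀ v, v < 28431 → walkT ctF (D.wlen 53) (D.wordP 53) v = v := by
  intro v hv
  rw [walk_53]
  exact relf_53 v hv

theorem relf_54 : ∀ v, v < 28431 → W_54 v = v := by
  intro v hv
  exact fixPtsF_spec W_54 28431 0 relc_54_0 v (by omega) (by omega)

set_option maxRecDepth 1000000 in
theorem walk_54 : ∀ v, walkT ctF (D.wlen 54) (D.wordP 54) v = W_54 v := by
  intro v
  simp only [W_54, forceL_eq]
  rfl

theorem relw_54 : ∀ v, v < 28431 → walkT ctF (D.wlen 54) (D.wordP 54) v = v := by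
  intro v hv
  rw [walk_54]
  exact relf_54 v hv

theorem relf_55 : ∀ v, v < 28431 → W_55 v = v := by
  intro v hv
  rcases Nat.lt_or_ge v 15625 with h | h
  · rcases Nat.lt_or_ge v 6250 with h | h
    · rcases Nat.lt_or_ge v 3125 with h | h
      · exact fixPtsF_spec W_55 3125 0 relc_55_0 v (by omega) (by omega)
      · exact fixPtsF_spec W_55 3125 3125 relc_55_1 v (by omega) (by omega)
    · rcases Nat.lt_or_ge v 9375 with h | h
      · exact fixPtsF_spec W_55 3125 6250 relc_55_2 v (by omega) (by omega)
      · rcases Nat.lt_or_ge v 12500 with h | h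
        · exact fixPtsF_spec W_55 3125 9375 relc_55_3 v (by omega) (by omega)
        · exact fixPtsF_spec W_55 3125 12500 relc_55_4 v (by omega) (by omega)
  · rcases Nat.lt_or_ge v 21875 with h | h
    · rcases Nat.lt_or_ge v 18750 with h | h
      · exact fixPtsF_spec W_55 3125 15625 relc_55_5 v (by omega) (by omega)
      · exact fixPtsF_spec W_55 3125 18750 relc_55_6 v (by omega) (by omega)
    · rcases Nat.lt_or_ge v 25000 with h | h
      · exact fixPtsF_spec W_55 3125 21875 relc_55_7 v (by omega) (by omega)
      · rcases Nat.lt_or_ge v 28125 with h | h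
        · exact fixPtsF_spec W_55 3125 25000 relc_55_8 v (by omega) (by omega)
        · exact fixPtsF_spec W_55 306 28125 relc_55_9 v (by omega) (by omega)

set_option maxRecDepth 1000000 in
theorem walk_55 : ∀ v, walkT ctF (D.wlen 55) (D.wordP 55) v = W_55 v := by
  intro v
  simp only [W_55, forceL_eq]
  rfl

theorem relw_55 : ∀ v, v < 28431 → walkT ctF (D.wlen 55) (D.wordP 55) v = v := by
  intro v hv
  rw [walk_55]
  exact relf_55 v hv

theorem invx_0 : ∀ v, v < 28431 → ctF 0 v < 28431 ∧ ctF 0 (ctF 0 v) = v := by
  intro v hv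
  exact invRowFI_spec ctF 28431 0 0 28431 0 inv_0_0 v (by omega) (by omega)

theorem invx_1 : ∀ v, v < 28431 → ctF 1 v < 28431 ∧ ctF 1 (ctF 1 v) = v := by
  intro v hv
  exact invRowFI_spec ctF 28431 1 1 28431 0 inv_1_0 v (by omega) (by omega)

theorem invx_2 : ∀ v, v < 28431 → ctF 2 v < 28431 ∧ ctF 2 (ctF 2 v) = v := by
  intro v hv
  exact invRowFI_spec ctF 28431 2 2 28431 0 inv_2_0 v (by omega) (by omega)

theorem invx_3 : ∀ v, v < 28431 → ctF 3 v < 28431 ∧ ctF 3 (ctF 3 v) = v := by
  intro v hv
  exact invRowFI_spec ctF 28431 3 3 28431 0 inv_3_0 v (by omega) (by omega)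

theorem invx_4 : ∀ v, v < 28431 → ctF 4 v < 28431 ∧ ctF 4 (ctF 4 v) = v := by
  intro v hv
  exact invRowFI_spec ctF 28431 4 4 28431 0 inv_4_0 v (by omega) (by omega)

theorem invx_5 : ∀ v, v < 28431 → ctF 5 v < 28431 ∧ ctF 5 (ctF 5 v) = v := by
  intro v hv
  exact invRowFI_spec ctF 28431 5 5 28431 0 inv_5_0 v (by omega) (by omega)

theorem invx_6 : ∀ v, v < 28431 → ctF 6 v < 28431 ∧ ctF 6 (ctF 6 v) = v := by
  intro v hv
  exact invRowFI_spec ctF 28431 6 6 28431 0 inv_6_0 v (by omega) (by omega)

theorem invx_7 : ∀ v, v < 28431 → ctF 7 v < 28431 ∧ ctF 7 (ctF 7 v) = v := by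
  intro v hv
  exact invRowFI_spec ctF 28431 7 7 28431 0 inv_7_0 v (by omega) (by omega)

theorem invx_8 : ∀ v, v < 28431 → ctF 8 v < 28431 ∧ ctF 8 (ctF 8 v) = v := by
  intro v hv
  exact invRowFI_spec ctF 28431 8 8 28431 0 inv_8_0 v (by omega) (by omega)

theorem invx_9 : ∀ v, v < 28431 → ctF 9 v < 28431 ∧ ctF 9 (ctF 9 v) = v := by
  intro v hv
  exact invRowFI_spec ctF 28431 9 9 28431 0 inv_9_0 v (by omega) (by omega)

theorem hconn : ∀ v, v < 28431 → v ≠ 0 → ∃ x, x < E.D.k ∧ ctF x v < v := by
  intro v hv
  exact connF_spec ctF 10 28431 0 conn_0 v (by omega) (by omega)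

theorem hE : ∀ v, v < E.M → ∀ x, x < E.D.k → edgeOKI iota E x v = true := by
  intro v hv x hx
  have hv' : v < 36686 := hv
  have hx' : x < 10 := hx
  interval_cases x
  · exact edgesx_0 v hv'
  · exact edgesx_1 v hv'
  · exact edgesx_2 v hv'
  · exact edgesx_3 v hv'
  · exact edgesx_4 v hv'
  · exact edgesx_5 v hv'
  · exact edgesx_6 v hv'
  · exact edgesx_7 v hv'
  · exact edgesx_8 v hv'
  · exact edgesx_9 v hv'

theorem hA : ∀ v, v < E.M → aliasOK E v = true := fun v hv => hA0 v hv

theorem hrows : ∀ v, v < E.M → tb RS v = true → rowOK2 E RS v E.D.k = true := fun v hv => hrows0 v hv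

theorem hT : ∀ x, x < E.D.k → ∀ v, v < 28431 → ctF x v < 28431 ∧ ctF (iota x) (ctF x v) = v := by
  intro x hx
  have hx' : x < 10 := hx
  interval_cases x
  · exact invx_0
  · exact invx_1
  · exact invx_2
  · exact invx_3
  · exact invx_4
  · exact invx_5
  · exact invx_6
  · exact invx_7
  · exact invx_8
  · exact invx_9

theorem hltr : ∀ j, j < E.D.nw → lettersOK E.D.k (E.D.wlen j) (E.D.wordP j) = true :=
  wordsOK_spec D D.nw words_ok

theorem hrelT : ∀ wi, wi < E.D.nrel → ∀ v, v < 28431 →
    walkT ctF (E.D.wlen wi) (E.D.wordP wi) v = v := by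
  intro wi hwi
  have hwi' : wi < 56 := hwi
  interval_cases wi
  · exact relw_0
  · exact relw_1
  · exact relw_2
  · exact relw_3
  · exact relw_4
  · exact relw_5
  · exact relw_6
  · exact relw_7
  · exact relw_8
  · exact relw_9
  · exact relw_10
  · exact relw_11
  · exact relw_12
  · exact relw_13
  · exact relw_14
  · exact relw_15
  · exact relw_16
  · exact relw_17
  · exact relw_18
  · exact relw_19
  · exact relw_20
  · exact relw_21
  · exact relw_22
  · exact relw_23
  · exact relw_24
  · exact relw_25
  · exact relw_26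
  · exact relw_27
  · exact relw_28
  · exact relw_29
  · exact relw_30
  · exact relw_31
  · exact relw_32
  · exact relw_33
  · exact relw_34
  · exact relw_35
  · exact relw_36
  · exact relw_37
  · exact relw_38
  · exact relw_39
  · exact relw_40
  · exact relw_41
  · exact relw_42
  · exact relw_43
  · exact relw_44
  · exact relw_45
  · exact relw_46
  · exact relw_47
  · exact relw_48
  · exact relw_49
  · exact relw_50
  · exact relw_51
  · exact relw_52
  · exact relw_53
  · exact relw_54
  · exact relw_55

theorem hsubT : ∀ wi, wi < E.D.nw → E.D.nrel ≤ wi →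
    walkT ctF (E.D.wlen wi) (E.D.wordP wi) 0 = 0 :=
  subAll_spec ctF D D.nw sub_ok

end Cfsg.Agent.Helper5.PThATC
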