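import Cfsg.Agent.Helper5.TC2A

/-! generated coset table (generator 2): PThBTC -/

set_option autoImplicit false
set_option Elab.async false

namespace Cfsg.Agent.Helper5.PThBTC
open Cfsg.Agent.Helper5.TC

def ct2_0 : ℕ := 0x7700007600007500006b00006a00006900007100007000006f00006800006d00006c00007400007300007200006e00005900005800005700006400006300006200004b00006000004a00005e00005d00005c00005b00005a00006700006600006500004400004300005400004100004000005100003f00004f00004e00004d00004c00006100005f00003900004800004700004600004500005600005500003400005300005200005000003000003d00003c00003b00003a00004900002b00003700003600003500004200003300003200003100003e00002400002e00002d00002c00003800002000002900002800001e00002600002500002f00001a00002200002100002a00001700002700001600001c00001b00002300001200001800001f00001d00000f00001400001300001900001100001000001500000a00000d00000c00000b00000e000006000008000007000009000005000004000003000002000001000000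
def ctSel2 (c : ℕ) : ℕ := ct2_0
def ct2F (v : ℕ) : ℕ := Nat.rec (motive := fun _ => ℕ) 0 (fun c _ => Nat.mod (Nat.shiftRight (ctSel2 c) (Nat.mul 24 (Nat.mod v 682))) 16777216) (Nat.add (Nat.div v 682) 1)

end Cfsg.Agent.Helper5.PThBTC
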