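import Cfsg.Agent.Helper5.TC2A

/-! generated coset table (generator 4): PThBTC -/

set_option autoImplicit false
set_option Elab.async false

namespace Cfsg.Agent.Helper5.PThBTC
open Cfsg.Agent.Helper5.TC

def ct4_0 : ℕ := 0x7400007300007200007700007600007500006700006600006500006400006d00006c00006b00006a00006900006800007100007000006f00006e00005600005500006100004b00005f00005e00005d00005c00005b00005a00005900005800005700006300006200004200005300005200004000005000004f00004e00004d00004c00006000003a00004900004800004700004600004500004400004300005400003300005100003100003e00003d00003c00003b00004a00002c00003800003700003600003500003400004100002700003f00002500002f00002e00002d00003900002100002a00002900002800003200001d00003000001b00002300002200002b00001800001f00001e00002600001500002400001300001900002000001100001600001c00000e00001a00000c00001700001000000f00001400000900001200000b00000a00000d000008000007000006000005000004000003000002000001000000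
def ctSel4 (c : ℕ) : ℕ := ct4_0
def ct4F (v : ℕ) : ℕ := Nat.rec (motive := fun _ => ℕ) 0 (fun c _ => Nat.mod (Nat.shiftRight (ctSel4 c) (Nat.mul 24 (Nat.mod v 682))) 16777216) (Nat.add (Nat.div v 682) 1)

end Cfsg.Agent.Helper5.PThBTC
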