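import Cfsg.Agent.Helper5.TC2A

/-! generated coset table (generator 5): PThBTC -/

set_option autoImplicit false
set_option Elab.async false

namespace Cfsg.Agent.Helper5.PThBTC
open Cfsg.Agent.Helper5.TC

def ct5_0 : ℕ := 0x7700007100007500007400006700007200007600006300006f00006e00006d00005a00006b00005900006900006800007300005600006500006400007000005400006100006000004900005e00004800005c00005b00006c00006a00004400005700006600004200006200005300005200005100003e00004f00003d00004d00004c00004b00003900005f00005d00003700004600004500005800003400005500004100004000003000005000004e00002e00003b00002c00004a00003800004700002900003500004300003300002600002500003f00002f00003c00002200003a00002b00002a00003600002800001d00003200003100002400002300002d00002100002000001f00001600002700001c00001b00001a00001900001800001700001e00001500001400001300001200001100001000000f00000e00000d00000c00000800000a00000900000b000005000006000007000002000003000004000001000000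
def ctSel5 (c : ℕ) : ℕ := ct5_0
def ct5F (v : ℕ) : ℕ := Nat.rec (motive := fun _ => ℕ) 0 (fun c _ => Nat.mod (Nat.shiftRight (ctSel5 c) (Nat.mul 24 (Nat.mod v 682))) 16777216) (Nat.add (Nat.div v 682) 1)

end Cfsg.Agent.Helper5.PThBTC
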