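import Cfsg.Agent.Helper5.TC2A

/-! generated coset table (generator 7): PThBTC -/

set_option autoImplicit false
set_option Elab.async false

namespace Cfsg.Agent.Helper5.PThBTC
open Cfsg.Agent.Helper5.TC

def ct7_0 : ℕ := 0x7700007600007500007400007300007200007100006200006400006500006d00006c00006b00006a00006900005700006700005500006e00006f00005400007000006100006000005f00005e00005d00005c00004600005a00005900004300006800004200006600006300005300005200005100005000004f00004e00004d00003b00004b00004a00004900004800003600005b00004500003400005800005600004100004000003f00003e00003d00002d00004c00003a00003900003800002900004700002800004400003300003200003100003000002f00002200003c00002c00002b00001f00003700003500002700002600002500002400001900002e00002100001700002a00001e00001d00001c00001b00001200002300001100002000001600001500000d00000c00001a00001800001000000f00000900001400001300000b00000600000e00000800000400000a000002000007000001000005000003000000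
def ctSel7 (c : ℕ) : ℕ := ct7_0
def ct7F (v : ℕ) : ℕ := Nat.rec (motive := fun _ => ℕ) 0 (fun c _ => Nat.mod (Nat.shiftRight (ctSel7 c) (Nat.mul 24 (Nat.mod v 682))) 16777216) (Nat.add (Nat.div v 682) 1)

end Cfsg.Agent.Helper5.PThBTC
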