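import Cfsg.Agent.Helper5.TC2A

/-! generated coset table (generator 1): PThDTC -/

set_option autoImplicit false
set_option Elab.async false

namespace Cfsg.Agent.Helper5.PThDTC
open Cfsg.Agent.Helper5.TC

def ct1_0 : ℕ := 0x3700003600003500003400003200003300002f00003000003100002e00002d00002a00002b00002c00002700002800002900002300002500002400002600001f00002100002000002200001e00001d00001c00001b00001a00001900001500001700001600001800001100001300001200001400000e00000f00001000000b00000c00000d00000a000009000006000007000008000004000005000003000002000001000000
def ctSel1 (c : ℕ) : ℕ := ct1_0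
def ct1F (v : ℕ) : ℕ := Nat.rec (motive := fun _ => ℕ) 0 (fun c _ => Nat.mod (Nat.shiftRight (ctSel1 c) (Nat.mul 24 (Nat.mod v 682))) 16777216) (Nat.add (Nat.div v 682) 1)

end Cfsg.Agent.Helper5.PThDTC
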