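import Cfsg.Agent.Helper5.TC2A

/-! generated coset table (generator 6): PThDTC -/

set_option autoImplicit false
set_option Elab.async false

namespace Cfsg.Agent.Helper5.PThDTC
open Cfsg.Agent.Helper5.TC

def ct6_0 : ℕ := 0x3600003700003500003400003300003200003100003000002f00002e00002d00002c00002b00002a00002900002500002700002200002800002400001f00002600002100001c00002300001a00001900002000001700001e00001d00001400001b00001600001100001800001300000f00001500001000001200000e00000d00000c00000b00000a000009000008000007000006000005000004000003000002000000000001
def ctSel6 (c : ℕ) : ℕ := ct6_0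
def ct6F (v : ℕ) : ℕ := Nat.rec (motive := fun _ => ℕ) 0 (fun c _ => Nat.mod (Nat.shiftRight (ctSel6 c) (Nat.mul 24 (Nat.mod v 682))) 16777216) (Nat.add (Nat.div v 682) 1)

end Cfsg.Agent.Helper5.PThDTC
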