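import Cfsg.Agent.Helper5.TC2A

/-! generated coset table (generator 4): PThETC -/

set_option autoImplicit false
set_option Elab.async false

namespace Cfsg.Agent.Helper5.PThETC
open Cfsg.Agent.Helper5.TC

def ct4_0 : ℕ := 0x1a00001900001800001600001700001400001500001100001200001300001000000f00000e00000d00000c00000b00000a000009000006000004000008000003000007000005000002000001000000
def ctSel4 (c : ℕ) : ℕ := ct4_0
def ct4F (v : ℕ) : ℕ := Nat.rec (motive := fun _ => ℕ) 0 (fun c _ => Nat.mod (Nat.shiftRight (ctSel4 c) (Nat.mul 24 (Nat.mod v 682))) 16777216) (Nat.add (Nat.div v 682) 1)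

end Cfsg.Agent.Helper5.PThETC
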