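import Mathlib
import Cfsg.Agent.Helper5.LPW
import Cfsg.Agent.Helper5.PThATCSum
import Cfsg.Agent.Helper5.PThBTCSum
import Cfsg.Agent.Helper5.PThCTCSum
import Cfsg.Agent.Helper5.PThDTCSum
import Cfsg.Agent.Helper5.PThETCSum
import Cfsg.Agent.Helper5.PThFTCSum
import Cfsg.Agent.Helper5.PThGTCSum
import Cfsg.Agent.Helper5.PThHTCSum
import Cfsg.Agent.Helper5.PThITCSum

/-! generated: the relators of the P3 presentation, the certified indices of the parabolic subgroups and the upper bound for the order -/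

set_option autoImplicit false

namespace Cfsg.Agent.Helper5.P3LP

open Cfsg.Agent.Helper5.TC Cfsg.Agent.Helper5.TCI Cfsg.Agent.Helper5.LP

/-- relator words on the first 10 letters. -/
def R10 : List (List ℕ) := [[0, 0], [0, 1, 0, 1, 0, 1], [0, 2, 0, 2], [0, 3, 0, 3], [0, 4, 0, 4], [0, 5, 0, 5], [0, 6, 0, 6], [0, 7, 0, 7], [0, 8, 0, 8], [0, 9, 0, 9], [1, 1], [1, 2, 1, 2, 1, 2], [1, 3, 1, 3], [1, 4, 1, 4], [1, 5, 1, 5], [1, 6, 1, 6], [1, 7, 1, 7], [1, 8, 1, 8], [1, 9, 1, 9], [2, 2], [2, 3, 2, 3, 2, 3], [2, 4, 2, 4, 2, 4], [2, 5, 2, 5], [2, 6, 2, 6], [2, 7, 2, 7], [2, 8, 2, 8], [2, 9, 2, 9], [3, 3], [3, 4, 3, 4], [3, 5, 3, 5, 3, 5], [3, 6, 3, 6], [3, 7, 3, 7], [3, 8, 3, 8], [3, 9, 3, 9], [4, 4], [4, 5, 4, 5], [4, 6, 4, 6], [4, 7, 4, 7], [4, 8, 4, 8], [4, 9, 4, 9, 4, 9], [5, 5], [5, 6, 5, 6, 5, 6], [5, 7, 5, 7], [5, 8, 5, 8], [5, 9, 5, 9], [6, 6], [6,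 7, 6, 7], [6, 8, 6, 8, 6, 8], [6, 9, 6, 9], [7, 7], [7, 8, 7, 8, 7, 8], [7, 9, 7, 9], [8, 8], [8, 9, 8, 9], [9, 9], [7, 4, 0, 1, 2, 3, 5, 6, 4, 0, 1, 2, 3, 5, 6, 4, 0, 1, 2, 3, 5, 6, 4, 0, 1, 2, 3, 5, 6, 4, 0, 1, 2, 3, 5, 6, 4, 0, 1, 2, 3, 5, 6, 4, 0, 1, 2, 3, 5, 6, 4, 0, 1, 2, 3, 5, 6, 4, 0, 1, 2, 3, 5, 6]]

/-- relator words on the first 9 letters. -/
def R9 : List (List ℕ) := [[0, 0], [0, 1, 0, 1, 0, 1], [0, 2, 0, 2], [0, 3, 0, 3], [0, 4, 0, 4], [0, 5, 0, 5], [0, 6, 0, 6], [0, 7, 0, 7], [0, 8, 0, 8], [1, 1], [1, 2, 1, 2, 1, 2], [1, 3, 1, 3], [1, 4, 1, 4], [1, 5, 1, 5], [1, 6, 1, 6], [1, 7, 1, 7], [1, 8, 1, 8], [2, 2], [2, 3, 2, 3, 2, 3], [2, 4, 2, 4, 2, 4], [2, 5, 2, 5], [2, 6, 2, 6], [2, 7, 2, 7], [2, 8, 2, 8], [3, 3], [3, 4, 3, 4], [3, 5, 3, 5, 3, 5], [3, 6, 3, 6], [3, 7, 3, 7], [3, 8, 3, 8], [4, 4], [4, 5, 4, 5], [4, 6, 4, 6], [4, 7, 4, 7], [4,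 8, 4, 8], [5, 5], [5, 6, 5, 6, 5, 6], [5, 7, 5, 7], [5, 8, 5, 8], [6, 6], [6, 7, 6, 7], [6, 8, 6, 8, 6, 8], [7, 7], [7, 8, 7, 8, 7, 8], [8, 8], [7, 4, 0, 1, 2, 3, 5, 6, 4, 0, 1, 2, 3, 5, 6, 4, 0, 1, 2, 3, 5, 6, 4, 0, 1, 2, 3, 5, 6, 4, 0, 1, 2, 3, 5, 6, 4, 0, 1, 2, 3, 5, 6, 4, 0, 1, 2, 3, 5, 6, 4, 0, 1, 2, 3, 5, 6, 4, 0, 1, 2, 3, 5, 6]]

/-- relator words on the first 8 letters. -/
def R8 : List (List ℕ) := [[0, 0], [0, 1, 0, 1, 0, 1], [0, 2, 0, 2], [0, 3, 0, 3], [0, 4, 0, 4], [0, 5, 0, 5], [0, 6, 0, 6], [0, 7, 0, 7], [1, 1], [1, 2, 1, 2, 1, 2], [1, 3, 1, 3], [1, 4, 1, 4], [1, 5, 1, 5], [1, 6, 1, 6], [1, 7, 1, 7], [2, 2], [2, 3, 2, 3, 2, 3], [2, 4, 2, 4, 2, 4], [2, 5, 2, 5], [2, 6, 2, 6], [2, 7, 2, 7], [3, 3], [3, 4, 3, 4], [3, 5, 3, 5, 3, 5], [3, 6, 3, 6], [3, 7, 3, 7], [4, 4], [4, 5, 4, 5], [4, 6, 4, 6], [4, 7, 4, 7], [5, 5], [5, 6, 5, 6, 5, 6], [5,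 7, 5, 7], [6, 6], [6, 7, 6, 7], [7, 7], [7, 4, 0, 1, 2, 3, 5, 6, 4, 0, 1, 2, 3, 5, 6, 4, 0, 1, 2, 3, 5, 6, 4, 0, 1, 2, 3, 5, 6, 4, 0, 1, 2, 3, 5, 6, 4, 0, 1, 2, 3, 5, 6, 4, 0, 1, 2, 3, 5, 6, 4, 0, 1, 2, 3, 5, 6, 4, 0, 1, 2, 3, 5, 6]]

/-- relator words on the first 7 letters. -/
def R7 : List (List ℕ) := [[0, 0], [0, 1, 0, 1, 0, 1], [0, 2, 0, 2], [0, 3, 0, 3], [0, 4, 0, 4], [0, 5, 0, 5], [0, 6, 0, 6], [1, 1], [1, 2, 1, 2, 1, 2], [1, 3, 1, 3], [1, 4, 1, 4], [1, 5, 1, 5], [1, 6, 1, 6], [2, 2], [2, 3, 2, 3, 2, 3], [2, 4, 2, 4, 2, 4], [2, 5, 2, 5], [2, 6, 2, 6], [3, 3], [3, 4, 3, 4], [3, 5, 3, 5, 3, 5], [3, 6, 3, 6], [4, 4], [4, 5, 4, 5], [4, 6, 4, 6], [5, 5], [5, 6, 5, 6, 5, 6], [6, 6]]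

/-- relator words on the first 6 letters. -/
def R6 : List (List ℕ) := [[0, 0], [0, 1, 0, 1, 0, 1], [0, 2, 0, 2], [0, 3, 0, 3], [0, 4, 0, 4], [0, 5, 0, 5], [1, 1], [1, 2, 1, 2, 1, 2], [1, 3, 1, 3], [1, 4, 1, 4], [1, 5, 1, 5], [2, 2], [2, 3, 2, 3, 2, 3], [2, 4, 2, 4, 2, 4], [2, 5, 2, 5], [3, 3], [3, 4, 3, 4], [3, 5, 3, 5, 3, 5], [4, 4], [4, 5, 4, 5], [5, 5]]

/-- relator words on the first 5 letters. -/
def R5 : List (List ℕ) := [[0, 0], [0, 1, 0, 1, 0, 1], [0, 2, 0, 2], [0, 3, 0, 3], [0, 4, 0, 4], [1, 1], [1, 2, 1, 2, 1, 2], [1, 3, 1, 3], [1, 4, 1, 4], [2, 2], [2, 3, 2, 3, 2, 3], [2, 4, 2, 4, 2, 4], [3, 3], [3, 4, 3, 4], [4, 4]]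

/-- relator words on the first 4 letters. -/
def R4 : List (List ℕ) := [[0, 0], [0, 1, 0, 1, 0, 1], [0, 2, 0, 2], [0, 3, 0, 3], [1, 1], [1, 2, 1, 2, 1, 2], [1, 3, 1, 3], [2, 2], [2, 3, 2, 3, 2, 3], [3, 3]]

/-- relator words on the first 3 letters. -/
def R3 : List (List ℕ) := [[0, 0], [0, 1, 0, 1, 0, 1], [0, 2, 0, 2], [1, 1], [1, 2, 1, 2, 1, 2], [2, 2]]

/-- relator words on the first 2 letters. -/
def R2 : List (List ℕ) := [[0, 0], [0, 1, 0, 1, 0, 1], [1, 1]]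

theorem wordsA : ∀ i (hi : i < (R10 ++ letterWords 9).length),
    unpack (PThATC.E.D.wlen i) (PThATC.E.D.wordP i) = ((R10 ++ letterWords 9)[i]).reverse :=
  wordsMatchB_spec0 _ _ _ (by decide +kernel)

theorem idxA : (para 10 (R10) 9).index = 28431 :=
  lp_index (by decide +kernel) (letterWords 9) PThATC.E PThATC.iota (fun _ => rfl) rfl rfl rfl
    (by decide +kernel) wordsA PThATC.rev_ok PThATC.hE PThATC.hA PThATC.set_ok PThATC.hrows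
    (by norm_num) PThATC.hT PThATC.hltr PThATC.hrelT PThATC.hsubT PThATC.hconn

theorem wordsB : ∀ i (hi : i < (R9 ++ letterWords 8).length),
    unpack (PThBTC.E.D.wlen i) (PThBTC.E.D.wordP i) = ((R9 ++ letterWords 8)[i]).reverse :=
  wordsMatchB_spec0 _ _ _ (by decide +kernel)

theorem idxB : (para 9 (R9) 8).index = 120 :=
  lp_index (by decide +kernel) (letterWords 8) PThBTC.E PThBTC.iota (fun _ => rfl) rfl rfl rfl
    (by decide +kernel) wordsB PThBTC.rev_ok PThBTC.hE PThBTC.hA PThBTC.set_ok PThBTC.hrows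
    (by norm_num) PThBTC.hT PThBTC.hltr PThBTC.hrelT PThBTC.hsubT PThBTC.hconn

theorem wordsC : ∀ i (hi : i < (R8 ++ letterWords 7).length),
    unpack (PThCTC.E.D.wlen i) (PThCTC.E.D.wordP i) = ((R8 ++ letterWords 7)[i]).reverse :=
  wordsMatchB_spec0 _ _ _ (by decide +kernel)

theorem idxC : (para 8 (R8) 7).index = 1 :=
  lp_index (by decide +kernel) (letterWords 7) PThCTC.E PThCTC.iota (fun _ => rfl) rfl rfl rfl
    (by decide +kernel) wordsC PThCTC.rev_ok PThCTC.hE PThCTC.hA PThCTC.set_ok PThCTC.hrows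
    (by norm_num) PThCTC.hT PThCTC.hltr PThCTC.hrelT PThCTC.hsubT PThCTC.hconn

theorem wordsD : ∀ i (hi : i < (R7 ++ letterWords 6).length),
    unpack (PThDTC.E.D.wlen i) (PThDTC.E.D.wordP i) = ((R7 ++ letterWords 6)[i]).reverse :=
  wordsMatchB_spec0 _ _ _ (by decide +kernel)

theorem idxD : (para 7 (R7) 6).index = 56 :=
  lp_index (by decide +kernel) (letterWords 6) PThDTC.E PThDTC.iota (fun _ => rfl) rfl rfl rfl
    (by decide +kernel) wordsD PThDTC.rev_ok PThDTC.hE PThDTC.hA PThDTC.set_ok PThDTC.hrows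
    (by norm_num) PThDTC.hT PThDTC.hltr PThDTC.hrelT PThDTC.hsubT PThDTC.hconn

theorem wordsE : ∀ i (hi : i < (R6 ++ letterWords 5).length),
    unpack (PThETC.E.D.wlen i) (PThETC.E.D.wordP i) = ((R6 ++ letterWords 5)[i]).reverse :=
  wordsMatchB_spec0 _ _ _ (by decide +kernel)

theorem idxE : (para 6 (R6) 5).index = 27 :=
  lp_index (by decide +kernel) (letterWords 5) PThETC.E PThETC.iota (fun _ => rfl) rfl rfl rfl
    (by decide +kernel) wordsE PThETC.rev_ok PThETC.hE PThETC.hA PThETC.set_ok PThETC.hrows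
    (by norm_num) PThETC.hT PThETC.hltr PThETC.hrelT PThETC.hsubT PThETC.hconn

theorem wordsF : ∀ i (hi : i < (R5 ++ letterWords 4).length),
    unpack (PThFTC.E.D.wlen i) (PThFTC.E.D.wordP i) = ((R5 ++ letterWords 4)[i]).reverse :=
  wordsMatchB_spec0 _ _ _ (by decide +kernel)

theorem idxF : (para 5 (R5) 4).index = 16 :=
  lp_index (by decide +kernel) (letterWords 4) PThFTC.E PThFTC.iota (fun _ => rfl) rfl rfl rfl
    (by decide +kernel) wordsF PThFTC.rev_ok PThFTC.hE PThFTC.hA PThFTC.set_ok PThFTC.hrows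
    (by norm_num) PThFTC.hT PThFTC.hltr PThFTC.hrelT PThFTC.hsubT PThFTC.hconn

theorem wordsG : ∀ i (hi : i < (R4 ++ letterWords 3).length),
    unpack (PThGTC.E.D.wlen i) (PThGTC.E.D.wordP i) = ((R4 ++ letterWords 3)[i]).reverse :=
  wordsMatchB_spec0 _ _ _ (by decide +kernel)

theorem idxG : (para 4 (R4) 3).index = 5 :=
  lp_index (by decide +kernel) (letterWords 3) PThGTC.E PThGTC.iota (fun _ => rfl) rfl rfl rfl
    (by decide +kernel) wordsG PThGTC.rev_ok PThGTC.hE PThGTC.hA PThGTC.set_ok PThGTC.hrows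
    (by norm_num) PThGTC.hT PThGTC.hltr PThGTC.hrelT PThGTC.hsubT PThGTC.hconn

theorem wordsH : ∀ i (hi : i < (R3 ++ letterWords 2).length),
    unpack (PThHTC.E.D.wlen i) (PThHTC.E.D.wordP i) = ((R3 ++ letterWords 2)[i]).reverse :=
  wordsMatchB_spec0 _ _ _ (by decide +kernel)

theorem idxH : (para 3 (R3) 2).index = 4 :=
  lp_index (by decide +kernel) (letterWords 2) PThHTC.E PThHTC.iota (fun _ => rfl) rfl rfl rfl
    (by decide +kernel) wordsH PThHTC.rev_ok PThHTC.hE PThHTC.hA PThHTC.set_ok PThHTC.hrows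
    (by norm_num) PThHTC.hT PThHTC.hltr PThHTC.hrelT PThHTC.hsubT PThHTC.hconn

theorem wordsI : ∀ i (hi : i < (R2 ++ letterWords 1).length),
    unpack (PThITC.E.D.wlen i) (PThITC.E.D.wordP i) = ((R2 ++ letterWords 1)[i]).reverse :=
  wordsMatchB_spec0 _ _ _ (by decide +kernel)

theorem idxI : (para 2 (R2) 1).index = 3 :=
  lp_index (by decide +kernel) (letterWords 1) PThITC.E PThITC.iota (fun _ => rfl) rfl rfl rfl
    (by decide +kernel) wordsI PThITC.rev_ok PThITC.hE PThITC.hA PThITC.set_ok PThITC.hrows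
    (by norm_num) PThITC.hT PThITC.hltr PThITC.hrelT PThITC.hsubT PThITC.hconn

theorem ubI : Finite (LPG 2 R2) ∧ Nat.card (LPG 2 R2) ≤ 3 * 2 :=
  card_le_base (by decide +kernel) (by norm_num) idxI

theorem ubH : Finite (LPG 3 R3) ∧ Nat.card (LPG 3 R3) ≤ 4 * (3 * 2) :=
  card_le_step (k' := 2) (R' := R2) (by decide +kernel) (subListB_spec (by decide +kernel))
    (by norm_num) idxH ubI.1 ubI.2

theorem ubG : Finite (LPG 4 R4) ∧ Nat.card (LPG 4 R4) ≤ 5 * (4 * (3 * 2)) :=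
  card_le_step (k' := 3) (R' := R3) (by decide +kernel) (subListB_spec (by decide +kernel))
    (by norm_num) idxG ubH.1 ubH.2

theorem ubF : Finite (LPG 5 R5) ∧ Nat.card (LPG 5 R5) ≤ 16 * (5 * (4 * (3 * 2))) :=
  card_le_step (k' := 4) (R' := R4) (by decide +kernel) (subListB_spec (by decide +kernel))
    (by norm_num) idxF ubG.1 ubG.2

theorem ubE : Finite (LPG 6 R6) ∧ Nat.card (LPG 6 R6) ≤ 27 * (16 * (5 * (4 * (3 * 2)))) :=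
  card_le_step (k' := 5) (R' := R5) (by decide +kernel) (subListB_spec (by decide +kernel))
    (by norm_num) idxE ubF.1 ubF.2

theorem ubD : Finite (LPG 7 R7) ∧ Nat.card (LPG 7 R7) ≤ 56 * (27 * (16 * (5 * (4 * (3 * 2))))) :=
  card_le_step (k' := 6) (R' := R6) (by decide +kernel) (subListB_spec (by decide +kernel))
    (by norm_num) idxD ubE.1 ubE.2

theorem ubC : Finite (LPG 8 R8) ∧ Nat.card (LPG 8 R8) ≤ 1 * (56 * (27 * (16 * (5 * (4 * (3 * 2)))))) :=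
  card_le_step (k' := 7) (R' := R7) (by decide +kernel) (subListB_spec (by decide +kernel))
    (by norm_num) idxC ubD.1 ubD.2

theorem ubB : Finite (LPG 9 R9) ∧ Nat.card (LPG 9 R9) ≤ 120 * (1 * (56 * (27 * (16 * (5 * (4 * (3 * 2))))))) :=
  card_le_step (k' := 8) (R' := R8) (by decide +kernel) (subListB_spec (by decide +kernel))
    (by norm_num) idxB ubC.1 ubC.2

theorem ubA : Finite (LPG 10 R10) ∧ Nat.card (LPG 10 R10) ≤ 28431 * (120 * (1 * (56 * (27 * (16 * (5 * (4 * (3 * 2)))))))) :=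
  card_le_step (k' := 9) (R' := R9) (by decide +kernel) (subListB_spec (by decide +kernel))
    (by norm_num) idxA ubB.1 ubB.2

end Cfsg.Agent.Helper5.P3LP
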