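import Mathlib
import Cfsg.Agent.Helper5.P3LPA
import Cfsg.Agent.Helper5.P3LPB
import Cfsg.Agent.Helper5.LPV
import Cfsg.Agent.Helper5.LPX2

/-!
# The spider relation in the group `Y₅₂₂` with `l = (abcdefh)⁹`

The list-presented group on the ten involutions `f, e, d, c, h, b, a, l, k, i` (in this order) with the
Coxeter relations of the graph `Y₅₂₂` and the relation `l = (abcdefh)⁹` has order `9904359628800`
and acts faithfully on the `28431` cosets of the subgroup generated by the first nine letters; the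
spider word `(dcbdefdhi)¹⁰` acts trivially, so it is trivial.
-/

set_option autoImplicit false
set_option Elab.async false

namespace Cfsg.Agent.Helper5.P3LP

open Cfsg.Agent.Helper5.TC Cfsg.Agent.Helper5.TCI Cfsg.Agent.Helper5.LP

theorem lettersA : LettersLt 10 R10 := by decide +kernel

/-- the spider word `(dcbdefdhi)¹⁰`. -/
def spw : List ℕ := [2, 3, 5, 2, 1, 0, 2, 4, 9, 2, 3, 5, 2, 1, 0, 2, 4, 9, 2, 3, 5, 2, 1, 0, 2, 4, 9, 2, 3, 5, 2, 1, 0, 2, 4, 9, 2, 3, 5, 2, 1, 0, 2, 4, 9, 2, 3, 5, 2, 1, 0, 2, 4, 9, 2, 3, 5, 2, 1, 0, 2, 4, 9, 2, 3, 5, 2, 1, 0, 2, 4, 9, 2, 3, 5, 2, 1, 0, 2, 4, 9, 2, 3, 5, 2, 1, 0, 2, 4, 9]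

set_option maxRecDepth 1000000 in
theorem sp_fix_c0 : fixRangeF PThATC.ctF spw 2187 (2187 * 0) = true := by decide +kernel

set_option maxRecDepth 1000000 in
theorem sp_fix_c1 : fixRangeF PThATC.ctF spw 2187 (2187 * 1) = true := by decide +kernel

set_option maxRecDepth 1000000 in
theorem sp_fix_c2 : fixRangeF PThATC.ctF spw 2187 (2187 * 2) = true := by decide +kernel

set_option maxRecDepth 1000000 in
theorem sp_fix_c3 : fixRangeF PThATC.ctF spw 2187 (2187 * 3) = true := by decide +kernel

set_option maxRecDepth 1000000 in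
theorem sp_fix_c4 : fixRangeF PThATC.ctF spw 2187 (2187 * 4) = true := by decide +kernel

set_option maxRecDepth 1000000 in
theorem sp_fix_c5 : fixRangeF PThATC.ctF spw 2187 (2187 * 5) = true := by decide +kernel

set_option maxRecDepth 1000000 in
theorem sp_fix_c6 : fixRangeF PThATC.ctF spw 2187 (2187 * 6) = true := by decide +kernel

set_option maxRecDepth 1000000 in
theorem sp_fix_c7 : fixRangeF PThATC.ctF spw 2187 (2187 * 7) = true := by decide +kernel

set_option maxRecDepth 1000000 in
theorem sp_fix_c8 : fixRangeF PThATC.ctF spw 2187 (2187 * 8) = true := by decide +kernel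

set_option maxRecDepth 1000000 in
theorem sp_fix_c9 : fixRangeF PThATC.ctF spw 2187 (2187 * 9) = true := by decide +kernel

set_option maxRecDepth 1000000 in
theorem sp_fix_c10 : fixRangeF PThATC.ctF spw 2187 (2187 * 10) = true := by decide +kernel

set_option maxRecDepth 1000000 in
theorem sp_fix_c11 : fixRangeF PThATC.ctF spw 2187 (2187 * 11) = true := by decide +kernel

set_option maxRecDepth 1000000 in
theorem sp_fix_c12 : fixRangeF PThATC.ctF spw 2187 (2187 * 12) = true := by decide +kernel

theorem sp_fix : fixRange PThATC.ctF spw 28431 0 = true :=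
  fixRange_of_chunks PThATC.ctF spw 2187 13 (by
    intro i hi
    interval_cases i
    exacts [sp_fix_c0, sp_fix_c1, sp_fix_c2, sp_fix_c3, sp_fix_c4, sp_fix_c5, sp_fix_c6, sp_fix_c7, sp_fix_c8, sp_fix_c9, sp_fix_c10, sp_fix_c11, sp_fix_c12])

/-- the order of the group. -/
theorem card_eq : Nat.card (LPG 10 R10) = 9904359628800 := by
  have hT := tableOK_of_cert PThATC.iota (fun _ => rfl) rfl PThATC.hT
  have hR := relsFix_of_cert (letterWords 9) rfl wordsA PThATC.hrelT
  have hA : ActsOn (tableHom lettersA hT hR) (ev 10 R10) 10 PThATC.ctF :=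
    ⟨fun l hl v => tableHom_ev lettersA hT hR l hl v⟩
  have := ubA.1
  have hlow := card_ge_of_chain hA levels chain_ok
  rw [chain_prod] at hlow
  exact le_antisymm (le_trans ubA.2 (by norm_num)) hlow

/-- **The spider relation.** -/
theorem spider_one : ev 10 R10 spw = 1 := by
  have hT := tableOK_of_cert PThATC.iota (fun _ => rfl) rfl PThATC.hT
  have hR := relsFix_of_cert (letterWords 9) rfl wordsA PThATC.hrelT
  have hA : ActsOn (tableHom lettersA hT hR) (ev 10 R10) 10 PThATC.ctF :=
    ⟨fun l hl v => tableHom_ev lettersA hT hR l hl v⟩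
  have := ubA.1
  have hinj := injective_of_chain hA levels chain_ok
    (by rw [chain_prod]; exact le_trans ubA.2 (by norm_num))
  exact eq_one_of_fix hA hinj spw (by decide) sp_fix

end Cfsg.Agent.Helper5.P3LP
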