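import Mathlib
import Cfsg.Prelude.Def_Spor_Fi24
import Cfsg.Prelude.Def_Sporadic
import Cfsg.Agent.Helper5.LPCox
import Cfsg.Agent.Helper5.LPY
import Cfsg.Agent.Helper5.P3LPD
import Cfsg.Agent.Helper5.Fi24LPD

/-!
# The commutator subgroup of the presented group `Fi₂₄` is simple of order 1255205709190661721292800

The Coxeter-style presentation of the Prelude is the list-presented group `LPG 12 R12o`; the spider
relation holds in it (it holds in the sub-presentation on the letters `f, e, d, c, h, b, a, l, k, i`,
see `P3LPD`), so it is the group `LPG 12 R12` of `Fi24LPD`.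
-/

set_option autoImplicit false

namespace Cfsg.Agent.Helper5.Fi24LP

open Cfsg.Agent.Helper5.LP Cfsg.Spor

/-- numbering of the generators. -/
def idx : Fi24.Gen → ℕ
  | .b => 0
  | .c => 1
  | .d => 2
  | .e => 3
  | .h => 4
  | .i => 5
  | .f => 6
  | .g => 7
  | .a => 8
  | .j => 9
  | .l => 10
  | .k => 11

/-- the generator with a given number. -/
def gen : ℕ → Fi24.Gen
  | 0 => .b
  | 1 => .c
  | 2 => .d
  | 3 => .e
  | 4 => .h
  | 5 => .i
  | 6 => .f
  | 7 => .g
  | 8 => .a
  | 9 => .j
  | 10 => .l
  | _ => .k

theorem lettersO : LettersLt 12 R12o := by decide +kernel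

theorem involO : Invol 12 R12o := by decide +kernel

theorem spor_equiv : Nonempty (Fi24 ≃* LPG 12 R12o) :=
  cox_equiv Fi24.edges Fi24.extra 12 R12o idx gen (by intro x; cases x <;> rfl)
    (by intro x; cases x <;> decide) (by intro c hc; interval_cases c <;> rfl)
    (by intro x; cases x <;> decide) lettersO involO (by decide +kernel)
    (by decide +kernel) (by decide +kernel)

/-- the letters `f, e, d, c, h, b, a, l, k, i` of the sub-presentation, as letters of `Fi₂₄`. -/
def phiL (c : ℕ) : ℕ := [6, 3, 2, 1, 4, 0, 8, 10, 11, 5].getD c 0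

theorem rel_map : ∀ l ∈ P3LP.R10, l.map phiL ∈ R12o ∨ (l.map phiL).reverse ∈ R12o := by
  decide +kernel

theorem spw_map : P3LP.spw.map phiL = spw := by decide +kernel

/-- **The spider relation holds in the presented group.** -/
theorem spider : ev 12 R12o spw = 1 := by
  have h := ev_map_eq_one involO phiL P3LP.lettersA rel_map P3LP.spw (by decide) P3LP.spider_one
  rwa [spw_map] at h

theorem lpg_equiv : Nonempty (LPG 12 R12o ≃* LPG 12 R12) :=
  lpg_equiv_append lettersO spw (by decide) spider

/-- **The commutator subgroup of the presented group is simple of order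
`1255205709190661721292800`.** -/
theorem spor_is : Cfsg.IsFi24' Fi24' := by
  obtain ⟨e1⟩ := spor_equiv
  obtain ⟨e2⟩ := lpg_equiv
  let e : Fi24 ≃* LPG 12 R12 := e1.trans e2
  have hmap : (commutator Fi24).map e.toMonoidHom = commutator (LPG 12 R12) := by
    rw [commutator_def, commutator_def, Subgroup.map_commutator,
      Subgroup.map_top_of_surjective e.toMonoidHom e.surjective]
  let e' : ↥(commutator Fi24) ≃* ↥(commutator (LPG 12 R12)) :=
    (e.subgroupMap (commutator Fi24)).trans (MulEquiv.subgroupCongr hmap)
  have h := simple_card_commutator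
  have := h.1
  exact ⟨e'.isSimpleGroup, by rw [Nat.card_congr e'.toEquiv]; exact h.2⟩

end Cfsg.Agent.Helper5.Fi24LP
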