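import Cfsg.Agent.Helper5.Fi24TCCt0
import Cfsg.Agent.Helper5.Fi24TCCt1
import Cfsg.Agent.Helper5.Fi24TCCt2
import Cfsg.Agent.Helper5.Fi24TCCt3
import Cfsg.Agent.Helper5.Fi24TCCt4
import Cfsg.Agent.Helper5.Fi24TCCt5
import Cfsg.Agent.Helper5.Fi24TCCt6
import Cfsg.Agent.Helper5.Fi24TCCt7
import Cfsg.Agent.Helper5.Fi24TCCt8
import Cfsg.Agent.Helper5.Fi24TCCt9
import Cfsg.Agent.Helper5.Fi24TCCt10
import Cfsg.Agent.Helper5.Fi24TCCt11
import Cfsg.Agent.Helper5.TC3A

/-! generated coset table: Fi24TC -/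

set_option autoImplicit false
set_option Elab.async false

namespace Cfsg.Agent.Helper5.Fi24TC
open Cfsg.Agent.Helper5.TC

def ctF (x v : ℕ) : ℕ := (Bool.rec (motive := fun _ => ℕ) (Bool.rec (motive := fun _ => ℕ) (Bool.rec (motive := fun _ => ℕ) (ct0F v) (Bool.rec (motive := fun _ => ℕ) (ct1F v) (ct2F v) (Nat.ble 2 x)) (Nat.ble 1 x)) (Bool.rec (motive := fun _ => ℕ) (ct3F v) (Bool.rec (motive := fun _ => ℕ) (ct4F v) (ct5F v) (Nat.ble 5 x)) (Nat.ble 4 x)) (Nat.ble 3 x)) (Bool.rec (motive := fun _ => ℕ) (Bool.rec (motive := fun _ => ℕ) (ct6F v) (Bool.rec (motive := fun _ => ℕ) (ct7F v) (ct8F v) (Nat.ble 8 x)) (Nat.ble 7 x)) (Bool.rec (motive := fun _ => ℕ) (ct9F v) (Bool.rec (motive := fun _ => ℕ) (ct10F v) (ct11F v) (Nat.ble 11 x)) (Nat.ble 10 x)) (Nat.ble 9 x)) (Nat.ble 6 x))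
set_option maxRecDepth 1000000 in
def W_1 (v : ℕ) : ℕ := forceL (ct0F v) (fun a1 => forceL (ct1F a1) (fun a2 => forceL (ct0F a2) (fun a3 => forceL (ct1F a3) (fun a4 => forceL (ct0F a4) (fun a5 => forceL (ct1F a5) (fun a6 => a6))))))
set_option maxRecDepth 1000000 in
def W_2 (v : ℕ) : ℕ := forceL (ct0F v) (fun a1 => forceL (ct2F a1) (fun a2 => forceL (ct0F a2) (fun a3 => forceL (ct2F a3) (fun a4 => a4))))
set_option maxRecDepth 1000000 in
def W_3 (v : ℕ) : ℕ := forceL (ct0F v) (fun a1 => forceL (ct3F a1) (fun a2 => forceL (ct0F a2) (fun a3 => forceL (ct3F a3) (fun a4 => a4))))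
set_option maxRecDepth 1000000 in
def W_4 (v : ℕ) : ℕ := forceL (ct0F v) (fun a1 => forceL (ct4F a1) (fun a2 => forceL (ct0F a2) (fun a3 => forceL (ct4F a3) (fun a4 => a4))))
set_option maxRecDepth 1000000 in
def W_5 (v : ℕ) : ℕ := forceL (ct0F v) (fun a1 => forceL (ct5F a1) (fun a2 => forceL (ct0F a2) (fun a3 => forceL (ct5F a3) (fun a4 => a4))))
set_option maxRecDepth 1000000 in
def W_6 (v : ℕ) : ℕ := forceL (ct0F v) (fun a1 => forceL (ct6F a1) (fun a2 => forceL (ct0F a2) (fun a3 => forceL (ct6F a3) (fun a4 => a4))))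
set_option maxRecDepth 1000000 in
def W_7 (v : ℕ) : ℕ := forceL (ct0F v) (fun a1 => forceL (ct7F a1) (fun a2 => forceL (ct0F a2) (fun a3 => forceL (ct7F a3) (fun a4 => a4))))
set_option maxRecDepth 1000000 in
def W_8 (v : ℕ) : ℕ := forceL (ct0F v) (fun a1 => forceL (ct8F a1) (fun a2 => forceL (ct0F a2) (fun a3 => forceL (ct8F a3) (fun a4 => a4))))
set_option maxRecDepth 1000000 in
def W_9 (v : ℕ) : ℕ := forceL (ct0F v) (fun a1 => forceL (ct9F a1) (fun a2 => forceL (ct0F a2) (fun a3 => forceL (ct9F a3) (fun a4 => a4))))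
set_option maxRecDepth 1000000 in
def W_10 (v : ℕ) : ℕ := forceL (ct0F v) (fun a1 => forceL (ct10F a1) (fun a2 => forceL (ct0F a2) (fun a3 => forceL (ct10F a3) (fun a4 => a4))))
set_option maxRecDepth 1000000 in
def W_11 (v : ℕ) : ℕ := forceL (ct0F v) (fun a1 => forceL (ct11F a1) (fun a2 => forceL (ct0F a2) (fun a3 => forceL (ct11F a3) (fun a4 => a4))))
set_option maxRecDepth 1000000 in
def W_14 (v : ℕ) : ℕ := forceL (ct1F v) (fun a1 => forceL (ct2F a1) (fun a2 => forceL (ct1F a2) (fun a3 => forceL (ct2F a3) (fun a4 => forceL (ct1F a4) (fun a5 => forceL (ct2F a5) (fun a6 => a6))))))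
set_option maxRecDepth 1000000 in
def W_15 (v : ℕ) : ℕ := forceL (ct1F v) (fun a1 => forceL (ct3F a1) (fun a2 => forceL (ct1F a2) (fun a3 => forceL (ct3F a3) (fun a4 => a4))))
set_option maxRecDepth 1000000 in
def W_16 (v : ℕ) : ℕ := forceL (ct1F v) (fun a1 => forceL (ct4F a1) (fun a2 => forceL (ct1F a2) (fun a3 => forceL (ct4F a3) (fun a4 => a4))))
set_option maxRecDepth 1000000 in
def W_17 (v : ℕ) : ℕ := forceL (ct1F v) (fun a1 => forceL (ct5F a1) (fun a2 => forceL (ct1F a2) (fun a3 => forceL (ct5F a3) (fun a4 => a4))))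
set_option maxRecDepth 1000000 in
def W_18 (v : ℕ) : ℕ := forceL (ct1F v) (fun a1 => forceL (ct6F a1) (fun a2 => forceL (ct1F a2) (fun a3 => forceL (ct6F a3) (fun a4 => a4))))
set_option maxRecDepth 1000000 in
def W_19 (v : ℕ) : ℕ := forceL (ct1F v) (fun a1 => forceL (ct7F a1) (fun a2 => forceL (ct1F a2) (fun a3 => forceL (ct7F a3) (fun a4 => a4))))
set_option maxRecDepth 1000000 in
def W_20 (v : ℕ) : ℕ := forceL (ct1F v) (fun a1 => forceL (ct8F a1) (fun a2 => forceL (ct1F a2) (fun a3 => forceL (ct8F a3) (fun a4 => a4))))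
set_option maxRecDepth 1000000 in
def W_21 (v : ℕ) : ℕ := forceL (ct1F v) (fun a1 => forceL (ct9F a1) (fun a2 => forceL (ct1F a2) (fun a3 => forceL (ct9F a3) (fun a4 => a4))))
set_option maxRecDepth 1000000 in
def W_22 (v : ℕ) : ℕ := forceL (ct1F v) (fun a1 => forceL (ct10F a1) (fun a2 => forceL (ct1F a2) (fun a3 => forceL (ct10F a3) (fun a4 => a4))))
set_option maxRecDepth 1000000 in
def W_23 (v : ℕ) : ℕ := forceL (ct1F v) (fun a1 => forceL (ct11F a1) (fun a2 => forceL (ct1F a2) (fun a3 => forceL (ct11F a3) (fun a4 => a4))))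
set_option maxRecDepth 1000000 in
def W_27 (v : ℕ) : ℕ := forceL (ct2F v) (fun a1 => forceL (ct3F a1) (fun a2 => forceL (ct2F a2) (fun a3 => forceL (ct3F a3) (fun a4 => forceL (ct2F a4) (fun a5 => forceL (ct3F a5) (fun a6 => a6))))))
set_option maxRecDepth 1000000 in
def W_28 (v : ℕ) : ℕ := forceL (ct2F v) (fun a1 => forceL (ct4F a1) (fun a2 => forceL (ct2F a2) (fun a3 => forceL (ct4F a3) (fun a4 => a4))))
set_option maxRecDepth 1000000 in
def W_29 (v : ℕ) : ℕ := forceL (ct2F v) (fun a1 => forceL (ct5F a1) (fun a2 => forceL (ct2F a2) (fun a3 => forceL (ct5F a3) (fun a4 => a4))))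
set_option maxRecDepth 1000000 in
def W_30 (v : ℕ) : ℕ := forceL (ct2F v) (fun a1 => forceL (ct6F a1) (fun a2 => forceL (ct2F a2) (fun a3 => forceL (ct6F a3) (fun a4 => a4))))
set_option maxRecDepth 1000000 in
def W_31 (v : ℕ) : ℕ := forceL (ct2F v) (fun a1 => forceL (ct7F a1) (fun a2 => forceL (ct2F a2) (fun a3 => forceL (ct7F a3) (fun a4 => a4))))
set_option maxRecDepth 1000000 in
def W_32 (v : ℕ) : ℕ := forceL (ct2F v) (fun a1 => forceL (ct8F a1) (fun a2 => forceL (ct2F a2) (fun a3 => forceL (ct8F a3) (fun a4 => a4))))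
set_option maxRecDepth 1000000 in
def W_33 (v : ℕ) : ℕ := forceL (ct2F v) (fun a1 => forceL (ct9F a1) (fun a2 => forceL (ct2F a2) (fun a3 => forceL (ct9F a3) (fun a4 => a4))))
set_option maxRecDepth 1000000 in
def W_34 (v : ℕ) : ℕ := forceL (ct2F v) (fun a1 => forceL (ct10F a1) (fun a2 => forceL (ct2F a2) (fun a3 => forceL (ct10F a3) (fun a4 => a4))))
set_option maxRecDepth 1000000 in
def W_35 (v : ℕ) : ℕ := forceL (ct2F v) (fun a1 => forceL (ct11F a1) (fun a2 => forceL (ct2F a2) (fun a3 => forceL (ct11F a3) (fun a4 => a4))))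
set_option maxRecDepth 1000000 in
def W_40 (v : ℕ) : ℕ := forceL (ct3F v) (fun a1 => forceL (ct4F a1) (fun a2 => forceL (ct3F a2) (fun a3 => forceL (ct4F a3) (fun a4 => forceL (ct3F a4) (fun a5 => forceL (ct4F a5) (fun a6 => a6))))))
set_option maxRecDepth 1000000 in
def W_41 (v : ℕ) : ℕ := forceL (ct3F v) (fun a1 => forceL (ct5F a1) (fun a2 => forceL (ct3F a2) (fun a3 => forceL (ct5F a3) (fun a4 => a4))))
set_option maxRecDepth 1000000 in
def W_42 (v : ℕ) : ℕ := forceL (ct3F v) (fun a1 => forceL (ct6F a1) (fun a2 => forceL (ct3F a2) (fun a3 => forceL (ct6F a3) (fun a4 => a4))))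
set_option maxRecDepth 1000000 in
def W_43 (v : ℕ) : ℕ := forceL (ct3F v) (fun a1 => forceL (ct7F a1) (fun a2 => forceL (ct3F a2) (fun a3 => forceL (ct7F a3) (fun a4 => a4))))
set_option maxRecDepth 1000000 in
def W_44 (v : ℕ) : ℕ := forceL (ct3F v) (fun a1 => forceL (ct8F a1) (fun a2 => forceL (ct3F a2) (fun a3 => forceL (ct8F a3) (fun a4 => a4))))
set_option maxRecDepth 1000000 in
def W_45 (v : ℕ) : ℕ := forceL (ct3F v) (fun a1 => forceL (ct9F a1) (fun a2 => forceL (ct3F a2) (fun a3 => forceL (ct9F a3) (fun a4 => a4))))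
set_option maxRecDepth 1000000 in
def W_46 (v : ℕ) : ℕ := forceL (ct3F v) (fun a1 => forceL (ct10F a1) (fun a2 => forceL (ct3F a2) (fun a3 => forceL (ct10F a3) (fun a4 => a4))))
set_option maxRecDepth 1000000 in
def W_47 (v : ℕ) : ℕ := forceL (ct3F v) (fun a1 => forceL (ct11F a1) (fun a2 => forceL (ct3F a2) (fun a3 => forceL (ct11F a3) (fun a4 => a4))))
set_option maxRecDepth 1000000 in
def W_53 (v : ℕ) : ℕ := forceL (ct4F v) (fun a1 => forceL (ct5F a1) (fun a2 => forceL (ct4F a2) (fun a3 => forceL (ct5F a3) (fun a4 => forceL (ct4F a4) (fun a5 => forceL (ct5F a5) (fun a6 => a6))))))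
set_option maxRecDepth 1000000 in
def W_54 (v : ℕ) : ℕ := forceL (ct4F v) (fun a1 => forceL (ct6F a1) (fun a2 => forceL (ct4F a2) (fun a3 => forceL (ct6F a3) (fun a4 => a4))))
set_option maxRecDepth 1000000 in
def W_55 (v : ℕ) : ℕ := forceL (ct4F v) (fun a1 => forceL (ct7F a1) (fun a2 => forceL (ct4F a2) (fun a3 => forceL (ct7F a3) (fun a4 => a4))))
set_option maxRecDepth 1000000 in
def W_56 (v : ℕ) : ℕ := forceL (ct4F v) (fun a1 => forceL (ct8F a1) (fun a2 => forceL (ct4F a2) (fun a3 => forceL (ct8F a3) (fun a4 => a4))))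
set_option maxRecDepth 1000000 in
def W_57 (v : ℕ) : ℕ := forceL (ct4F v) (fun a1 => forceL (ct9F a1) (fun a2 => forceL (ct4F a2) (fun a3 => forceL (ct9F a3) (fun a4 => a4))))
set_option maxRecDepth 1000000 in
def W_58 (v : ℕ) : ℕ := forceL (ct4F v) (fun a1 => forceL (ct10F a1) (fun a2 => forceL (ct4F a2) (fun a3 => forceL (ct10F a3) (fun a4 => a4))))
set_option maxRecDepth 1000000 in
def W_59 (v : ℕ) : ℕ := forceL (ct4F v) (fun a1 => forceL (ct11F a1) (fun a2 => forceL (ct4F a2) (fun a3 => forceL (ct11F a3) (fun a4 => a4))))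
set_option maxRecDepth 1000000 in
def W_66 (v : ℕ) : ℕ := forceL (ct5F v) (fun a1 => forceL (ct6F a1) (fun a2 => forceL (ct5F a2) (fun a3 => forceL (ct6F a3) (fun a4 => forceL (ct5F a4) (fun a5 => forceL (ct6F a5) (fun a6 => a6))))))
set_option maxRecDepth 1000000 in
def W_67 (v : ℕ) : ℕ := forceL (ct5F v) (fun a1 => forceL (ct7F a1) (fun a2 => forceL (ct5F a2) (fun a3 => forceL (ct7F a3) (fun a4 => a4))))
set_option maxRecDepth 1000000 in
def W_68 (v : ℕ) : ℕ := forceL (ct5F v) (fun a1 => forceL (ct8F a1) (fun a2 => forceL (ct5F a2) (fun a3 => forceL (ct8F a3) (fun a4 => a4))))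
set_option maxRecDepth 1000000 in
def W_69 (v : ℕ) : ℕ := forceL (ct5F v) (fun a1 => forceL (ct9F a1) (fun a2 => forceL (ct5F a2) (fun a3 => forceL (ct9F a3) (fun a4 => a4))))
set_option maxRecDepth 1000000 in
def W_70 (v : ℕ) : ℕ := forceL (ct5F v) (fun a1 => forceL (ct10F a1) (fun a2 => forceL (ct5F a2) (fun a3 => forceL (ct10F a3) (fun a4 => forceL (ct5F a4) (fun a5 => forceL (ct10F a5) (fun a6 => a6))))))
set_option maxRecDepth 1000000 in
def W_71 (v : ℕ) : ℕ := forceL (ct5F v) (fun a1 => forceL (ct11F a1) (fun a2 => forceL (ct5F a2) (fun a3 => forceL (ct11F a3) (fun a4 => a4))))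
set_option maxRecDepth 1000000 in
def W_79 (v : ℕ) : ℕ := forceL (ct6F v) (fun a1 => forceL (ct7F a1) (fun a2 => forceL (ct6F a2) (fun a3 => forceL (ct7F a3) (fun a4 => forceL (ct6F a4) (fun a5 => forceL (ct7F a5) (fun a6 => a6))))))
set_option maxRecDepth 1000000 in
def W_80 (v : ℕ) : ℕ := forceL (ct6F v) (fun a1 => forceL (ct8F a1) (fun a2 => forceL (ct6F a2) (fun a3 => forceL (ct8F a3) (fun a4 => a4))))
set_option maxRecDepth 1000000 in
def W_81 (v : ℕ) : ℕ := forceL (ct6F v) (fun a1 => forceL (ct9F a1) (fun a2 => forceL (ct6F a2) (fun a3 => forceL (ct9F a3) (fun a4 => a4))))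
set_option maxRecDepth 1000000 in
def W_82 (v : ℕ) : ℕ := forceL (ct6F v) (fun a1 => forceL (ct10F a1) (fun a2 => forceL (ct6F a2) (fun a3 => forceL (ct10F a3) (fun a4 => a4))))
set_option maxRecDepth 1000000 in
def W_83 (v : ℕ) : ℕ := forceL (ct6F v) (fun a1 => forceL (ct11F a1) (fun a2 => forceL (ct6F a2) (fun a3 => forceL (ct11F a3) (fun a4 => a4))))
set_option maxRecDepth 1000000 in
def W_92 (v : ℕ) : ℕ := forceL (ct7F v) (fun a1 => forceL (ct8F a1) (fun a2 => forceL (ct7F a2) (fun a3 => forceL (ct8F a3) (fun a4 => forceL (ct7F a4) (fun a5 => forceL (ct8F a5) (fun a6 => a6))))))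
set_option maxRecDepth 1000000 in
def W_93 (v : ℕ) : ℕ := forceL (ct7F v) (fun a1 => forceL (ct9F a1) (fun a2 => forceL (ct7F a2) (fun a3 => forceL (ct9F a3) (fun a4 => a4))))
set_option maxRecDepth 1000000 in
def W_94 (v : ℕ) : ℕ := forceL (ct7F v) (fun a1 => forceL (ct10F a1) (fun a2 => forceL (ct7F a2) (fun a3 => forceL (ct10F a3) (fun a4 => a4))))
set_option maxRecDepth 1000000 in
def W_95 (v : ℕ) : ℕ := forceL (ct7F v) (fun a1 => forceL (ct11F a1) (fun a2 => forceL (ct7F a2) (fun a3 => forceL (ct11F a3) (fun a4 => a4))))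
set_option maxRecDepth 1000000 in
def W_105 (v : ℕ) : ℕ := forceL (ct8F v) (fun a1 => forceL (ct9F a1) (fun a2 => forceL (ct8F a2) (fun a3 => forceL (ct9F a3) (fun a4 => forceL (ct8F a4) (fun a5 => forceL (ct9F a5) (fun a6 => a6))))))
set_option maxRecDepth 1000000 in
def W_106 (v : ℕ) : ℕ := forceL (ct8F v) (fun a1 => forceL (ct10F a1) (fun a2 => forceL (ct8F a2) (fun a3 => forceL (ct10F a3) (fun a4 => a4))))
set_option maxRecDepth 1000000 in
def W_107 (v : ℕ) : ℕ := forceL (ct8F v) (fun a1 => forceL (ct11F a1) (fun a2 => forceL (ct8F a2) (fun a3 => forceL (ct11F a3) (fun a4 => a4))))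
set_option maxRecDepth 1000000 in
def W_118 (v : ℕ) : ℕ := forceL (ct9F v) (fun a1 => forceL (ct10F a1) (fun a2 => forceL (ct9F a2) (fun a3 => forceL (ct10F a3) (fun a4 => a4))))
set_option maxRecDepth 1000000 in
def W_119 (v : ℕ) : ℕ := forceL (ct9F v) (fun a1 => forceL (ct11F a1) (fun a2 => forceL (ct9F a2) (fun a3 => forceL (ct11F a3) (fun a4 => a4))))
set_option maxRecDepth 1000000 in
def W_131 (v : ℕ) : ℕ := forceL (ct10F v) (fun a1 => forceL (ct11F a1) (fun a2 => forceL (ct10F a2) (fun a3 => forceL (ct11F a3) (fun a4 => forceL (ct10F a4) (fun a5 => forceL (ct11F a5) (fun a6 => a6))))))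
set_option maxRecDepth 1000000 in
def W_144 (v : ℕ) : ℕ := forceL (ct2F v) (fun a1 => forceL (ct3F a1) (fun a2 => forceL (ct4F a2) (fun a3 => forceL (ct5F a3) (fun a4 => forceL (ct6F a4) (fun a5 => forceL (ct7F a5) (fun a6 => forceL (ct10F a6) (fun a7 => forceL (ct2F a7) (fun a8 => forceL (ct3F a8) (fun a9 => forceL (ct4F a9) (fun a10 => forceL (ct5F a10) (fun a11 => forceL (ct6F a11) (fun a12 => forceL (ct7F a12) (fun a13 => forceL (ct10F a13) (fun a14 => forceL (ct2F a14) (fun a15 => forceL (ct3F a15) (fun a16 => forceL (ct4F a16) (fun a17 => forceL (ct5F a17) (fun a18 => forceL (ct6F a18) (fun a19 => forceL (ct7F a19) (fun a20 => forceL (ct10F a20) (fun a21 => forceL (ct2F a21) (fun a22 => forceL (ct3F a22) (fun a23 => forceL (ct4F a23) (fun a24 => forceL (ct5F a24) (fun a25 => forceL (ct6F a25) (fun a26 => forceL (ct7F a26) (fun a27 => forceL (ct10F a27) (fun a28 => forceL (ct2F a28) (fun a29 => forceL (ct3F a29) (fun a30 => forceL (ct4F a30) (fun a31 => forceL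 (ct5F a31) (fun a32 => forceL (ct6F a32) (fun a33 => forceL (ct7F a33) (fun a34 => forceL (ct10F a34) (fun a35 => forceL (ct2F a35) (fun a36 => forceL (ct3F a36) (fun a37 => forceL (ct4F a37) (fun a38 => forceL (ct5F a38) (fun a39 => forceL (ct6F a39) (fun a40 => forceL (ct7F a40) (fun a41 => forceL (ct10F a41) (fun a42 => forceL (ct2F a42) (fun a43 => forceL (ct3F a43) (fun a44 => forceL (ct4F a44) (fun a45 => forceL (ct5F a45) (fun a46 => forceL (ct6F a46) (fun a47 => forceL (ct7F a47) (fun a48 => forceL (ct10F a48) (fun a49 => forceL (ct2F a49) (fun a50 => forceL (ct3F a50) (fun a51 => forceL (ct4F a51) (fun a52 => forceL (ct5F a52) (fun a53 => forceL (ct6F a53) (fun a54 => forceL (ct7F a54) (fun a55 => forceL (ct10F a55) (fun a56 => forceL (ct2F a56) (fun a57 => forceL (ct3F a57) (fun a58 => forceL (ct4F a58) (fun a59 => forceL (ct5F a59) (fun a60 => forceL (ct6F a60) (fun a61 => forceL (ct7F a61) (fun a62 => forceL (ct10F a62) (fun a63 => forceL (ct0F a63) (fun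 a64 => a64))))))))))))))))))))))))))))))))))))))))))))))))))))))))))))))))
set_option maxRecDepth 1000000 in
def W_145 (v : ℕ) : ℕ := forceL (ct11F v) (fun a1 => forceL (ct10F a1) (fun a2 => forceL (ct5F a2) (fun a3 => forceL (ct9F a3) (fun a4 => forceL (ct8F a4) (fun a5 => forceL (ct7F a5) (fun a6 => forceL (ct6F a6) (fun a7 => forceL (ct5F a7) (fun a8 => forceL (ct0F a8) (fun a9 => forceL (ct1F a9) (fun a10 => forceL (ct2F a10) (fun a11 => forceL (ct3F a11) (fun a12 => forceL (ct4F a12) (fun a13 => forceL (ct5F a13) (fun a14 => forceL (ct11F a14) (fun a15 => forceL (ct10F a15) (fun a16 => forceL (ct5F a16) (fun a17 => forceL (ct9F a17) (fun a18 => forceL (ct8F a18) (fun a19 => forceL (ct7F a19) (fun a20 => forceL (ct6F a20) (fun a21 => forceL (ct5F a21) (fun a22 => forceL (ct0F a22) (fun a23 => forceL (ct1F a23) (fun a24 => forceL (ct2F a24) (fun a25 => forceL (ct3F a25) (fun a26 => forceL (ct4F a26) (fun a27 => forceL (ct5F a27) (fun a28 => forceL (ct11F a28)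 (fun a29 => forceL (ct10F a29) (fun a30 => forceL (ct5F a30) (fun a31 => forceL (ct9F a31) (fun a32 => forceL (ct8F a32) (fun a33 => forceL (ct7F a33) (fun a34 => forceL (ct6F a34) (fun a35 => forceL (ct5F a35) (fun a36 => forceL (ct0F a36) (fun a37 => forceL (ct1F a37) (fun a38 => forceL (ct2F a38) (fun a39 => forceL (ct3F a39) (fun a40 => forceL (ct4F a40) (fun a41 => forceL (ct5F a41) (fun a42 => forceL (ct11F a42) (fun a43 => forceL (ct10F a43) (fun a44 => forceL (ct5F a44) (fun a45 => forceL (ct9F a45) (fun a46 => forceL (ct8F a46) (fun a47 => forceL (ct7F a47) (fun a48 => forceL (ct6F a48) (fun a49 => forceL (ct5F a49) (fun a50 => forceL (ct0F a50) (fun a51 => forceL (ct1F a51) (fun a52 => forceL (ct2F a52) (fun a53 => forceL (ct3F a53) (fun a54 => forceL (ct4F a54) (fun a55 => forceL (ct5F a55) (fun a56 => forceL (ct11F a56) (fun a57 => forceL (ct10F a57) (fun a58 => forceL (ct5F a58) (fun a59 => forceL (ct9F a59) (fun a60 => forceL (ct8F a60) (fun a61 =>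 forceL (ct7F a61) (fun a62 => forceL (ct6F a62) (fun a63 => forceL (ct5F a63) (fun a64 => forceL (ct0F a64) (fun a65 => forceL (ct1F a65) (fun a66 => forceL (ct2F a66) (fun a67 => forceL (ct3F a67) (fun a68 => forceL (ct4F a68) (fun a69 => forceL (ct5F a69) (fun a70 => forceL (ct11F a70) (fun a71 => forceL (ct10F a71) (fun a72 => forceL (ct5F a72) (fun a73 => forceL (ct9F a73) (fun a74 => forceL (ct8F a74) (fun a75 => forceL (ct7F a75) (fun a76 => forceL (ct6F a76) (fun a77 => forceL (ct5F a77) (fun a78 => forceL (ct0F a78) (fun a79 => forceL (ct1F a79) (fun a80 => forceL (ct2F a80) (fun a81 => forceL (ct3F a81) (fun a82 => forceL (ct4F a82) (fun a83 => forceL (ct5F a83) (fun a84 => forceL (ct11F a84) (fun a85 => forceL (ct10F a85) (fun a86 => forceL (ct5F a86) (fun a87 => forceL (ct9F a87) (fun a88 => forceL (ct8F a88) (fun a89 => forceL (ct7F a89) (fun a90 => forceL (ct6F a90) (fun a91 => forceL (ct5F a91) (fun a92 => forceL (ct0F a92) (fun a93 => forceL (ct1F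 a93) (fun a94 => forceL (ct2F a94) (fun a95 => forceL (ct3F a95) (fun a96 => forceL (ct4F a96) (fun a97 => forceL (ct5F a97) (fun a98 => forceL (ct11F a98) (fun a99 => forceL (ct10F a99) (fun a100 => forceL (ct5F a100) (fun a101 => forceL (ct9F a101) (fun a102 => forceL (ct8F a102) (fun a103 => forceL (ct7F a103) (fun a104 => forceL (ct6F a104) (fun a105 => forceL (ct5F a105) (fun a106 => forceL (ct0F a106) (fun a107 => forceL (ct1F a107) (fun a108 => forceL (ct2F a108) (fun a109 => forceL (ct3F a109) (fun a110 => forceL (ct4F a110) (fun a111 => forceL (ct5F a111) (fun a112 => forceL (ct11F a112) (fun a113 => forceL (ct10F a113) (fun a114 => forceL (ct5F a114) (fun a115 => forceL (ct9F a115) (fun a116 => forceL (ct8F a116) (fun a117 => forceL (ct7F a117) (fun a118 => forceL (ct6F a118) (fun a119 => forceL (ct5F a119) (fun a120 => forceL (ct0F a120) (fun a121 => forceL (ct1F a121) (fun a122 => forceL (ct2F a122) (fun a123 => forceL (ct3F a123) (fun a124 => forceL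 (ct4F a124) (fun a125 => forceL (ct5F a125) (fun a126 => forceL (ct11F a126) (fun a127 => forceL (ct10F a127) (fun a128 => forceL (ct5F a128) (fun a129 => forceL (ct9F a129) (fun a130 => forceL (ct8F a130) (fun a131 => forceL (ct7F a131) (fun a132 => forceL (ct6F a132) (fun a133 => forceL (ct5F a133) (fun a134 => forceL (ct0F a134) (fun a135 => forceL (ct1F a135) (fun a136 => forceL (ct2F a136) (fun a137 => forceL (ct3F a137) (fun a138 => forceL (ct4F a138) (fun a139 => forceL (ct5F a139) (fun a140 => forceL (ct11F a140) (fun a141 => forceL (ct10F a141) (fun a142 => forceL (ct5F a142) (fun a143 => forceL (ct9F a143) (fun a144 => forceL (ct8F a144) (fun a145 => forceL (ct7F a145) (fun a146 => forceL (ct6F a146) (fun a147 => forceL (ct5F a147) (fun a148 => forceL (ct0F a148) (fun a149 => forceL (ct1F a149) (fun a150 => forceL (ct2F a150) (fun a151 => forceL (ct3F a151) (fun a152 => forceL (ct4F a152) (fun a153 => forceL (ct5F a153) (fun a154 => forceL (ct11F a154)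 (fun a155 => forceL (ct10F a155) (fun a156 => forceL (ct5F a156) (fun a157 => forceL (ct9F a157) (fun a158 => forceL (ct8F a158) (fun a159 => forceL (ct7F a159) (fun a160 => forceL (ct6F a160) (fun a161 => forceL (ct5F a161) (fun a162 => forceL (ct0F a162) (fun a163 => forceL (ct1F a163) (fun a164 => forceL (ct2F a164) (fun a165 => forceL (ct3F a165) (fun a166 => forceL (ct4F a166) (fun a167 => forceL (ct5F a167) (fun a168 => forceL (ct11F a168) (fun a169 => forceL (ct10F a169) (fun a170 => forceL (ct5F a170) (fun a171 => forceL (ct9F a171) (fun a172 => forceL (ct8F a172) (fun a173 => forceL (ct7F a173) (fun a174 => forceL (ct6F a174) (fun a175 => forceL (ct5F a175) (fun a176 => forceL (ct0F a176) (fun a177 => forceL (ct1F a177) (fun a178 => forceL (ct2F a178) (fun a179 => forceL (ct3F a179) (fun a180 => forceL (ct4F a180) (fun a181 => forceL (ct5F a181) (fun a182 => forceL (ct11F a182) (fun a183 => forceL (ct10F a183) (fun a184 => forceL (ct5F a184) (fun a185 =>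 forceL (ct9F a185) (fun a186 => forceL (ct8F a186) (fun a187 => forceL (ct7F a187) (fun a188 => forceL (ct6F a188) (fun a189 => forceL (ct5F a189) (fun a190 => forceL (ct0F a190) (fun a191 => forceL (ct1F a191) (fun a192 => forceL (ct2F a192) (fun a193 => forceL (ct3F a193) (fun a194 => forceL (ct4F a194) (fun a195 => forceL (ct5F a195) (fun a196 => forceL (ct11F a196) (fun a197 => forceL (ct10F a197) (fun a198 => forceL (ct5F a198) (fun a199 => forceL (ct9F a199) (fun a200 => forceL (ct8F a200) (fun a201 => forceL (ct7F a201) (fun a202 => forceL (ct6F a202) (fun a203 => forceL (ct5F a203) (fun a204 => forceL (ct0F a204) (fun a205 => forceL (ct1F a205) (fun a206 => forceL (ct2F a206) (fun a207 => forceL (ct3F a207) (fun a208 => forceL (ct4F a208) (fun a209 => forceL (ct5F a209) (fun a210 => forceL (ct11F a210) (fun a211 => forceL (ct10F a211) (fun a212 => forceL (ct5F a212) (fun a213 => forceL (ct9F a213) (fun a214 => forceL (ct8F a214) (fun a215 => forceL (ct7F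 a215) (fun a216 => forceL (ct6F a216) (fun a217 => forceL (ct5F a217) (fun a218 => forceL (ct0F a218) (fun a219 => forceL (ct1F a219) (fun a220 => forceL (ct2F a220) (fun a221 => forceL (ct3F a221) (fun a222 => forceL (ct4F a222) (fun a223 => forceL (ct5F a223) (fun a224 => forceL (ct11F a224) (fun a225 => forceL (ct10F a225) (fun a226 => forceL (ct5F a226) (fun a227 => forceL (ct9F a227) (fun a228 => forceL (ct8F a228) (fun a229 => forceL (ct7F a229) (fun a230 => forceL (ct6F a230) (fun a231 => forceL (ct5F a231) (fun a232 => forceL (ct0F a232) (fun a233 => forceL (ct1F a233) (fun a234 => forceL (ct2F a234) (fun a235 => forceL (ct3F a235) (fun a236 => forceL (ct4F a236) (fun a237 => forceL (ct5F a237) (fun a238 => a238))))))))))))))))))))))))))))))))))))))))))))))))))))))))))))))))))))))))))))))))))))))))))))))))))))))))))))))))))))))))))))))))))))))))))))))))))))))))))))))))))))))))))))))))))))))))))))))))))))))))))))))))))))))))))))))))))))))))))))))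

end Cfsg.Agent.Helper5.Fi24TC
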