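import Cfsg.Agent.Helper5.Fi24TCDatD
import Cfsg.Agent.Helper5.Fi24TCDatT
import Cfsg.Agent.Helper5.TCCertC
import Cfsg.Agent.Helper5.TC2C

/-! kernel checks of words: Fi24TC -/

set_option autoImplicit false
set_option Elab.async false

namespace Cfsg.Agent.Helper5.Fi24TC
open Cfsg.Agent.Helper5.TC

set_option maxRecDepth 1000000 in
theorem set_zero : tb RS 0 = true := by decide +kernel

set_option maxRecDepth 1000000 in
theorem set_lt : Nat.blt RS (Nat.pow 2 357049) = true := by decide +kernel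

set_option maxRecDepth 1000000 in
theorem rev_ok : revOK D D.nw = true := by decide +kernel

set_option maxRecDepth 1000000 in
theorem words_ok : wordsOK D D.nw = true := by decide +kernel

set_option maxRecDepth 1000000 in
theorem sub_ok : subAll ctF D D.nw = true := by decide +kernel

theorem word_144 : unpack (D.wlen 144) (D.wordP 144) = [2, 3, 4, 5, 6, 7, 10, 2, 3, 4, 5, 6, 7, 10, 2, 3, 4, 5, 6, 7, 10, 2, 3, 4, 5, 6, 7, 10, 2, 3, 4, 5, 6, 7, 10, 2, 3, 4, 5, 6, 7, 10, 2, 3, 4, 5, 6, 7, 10, 2, 3, 4, 5, 6, 7, 10, 2, 3, 4, 5, 6, 7, 10, 0] := by decide +kernel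

theorem word_145 : unpack (D.wlen 145) (D.wordP 145) = [11, 10, 5, 9, 8, 7, 6, 5, 0, 1, 2, 3, 4, 5, 11, 10, 5, 9, 8, 7, 6, 5, 0, 1, 2, 3, 4, 5, 11, 10, 5, 9, 8, 7, 6, 5, 0, 1, 2, 3, 4, 5, 11, 10, 5, 9, 8, 7, 6, 5, 0, 1, 2, 3, 4, 5, 11, 10, 5, 9, 8, 7, 6, 5, 0, 1, 2, 3, 4, 5, 11, 10, 5, 9, 8, 7, 6, 5, 0, 1, 2, 3, 4, 5, 11, 10, 5, 9, 8, 7, 6, 5, 0, 1, 2, 3, 4, 5, 11, 10, 5, 9, 8, 7, 6, 5, 0, 1, 2, 3, 4, 5, 11, 10, 5, 9, 8, 7, 6, 5, 0, 1, 2, 3, 4, 5, 11, 10, 5, 9, 8, 7, 6, 5, 0, 1, 2, 3, 4, 5, 11, 10, 5, 9, 8, 7, 6, 5, 0, 1, 2, 3, 4, 5, 11, 10, 5, 9, 8, 7, 6, 5, 0, 1, 2, 3, 4, 5, 11, 10, 5, 9, 8, 7, 6, 5, 0, 1, 2, 3, 4, 5, 11, 10, 5, 9, 8, 7, 6, 5, 0, 1, 2, 3, 4, 5, 11, 10, 5, 9, 8, 7, 6, 5, 0, 1, 2, 3, 4, 5, 11, 10, 5, 9, 8, 7, 6, 5, 0, 1, 2, 3, 4, 5, 11, 10, 5, 9, 8, 7, 6, 5, 0, 1, 2, 3, 4, 5] := by decide +kernel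

theorem word_146 : unpack (D.wlen 146) (D.wordP 146) = [2] := by decide +kernel

theorem word_147 : unpack (D.wlen 147) (D.wordP 147) = [3] := by decide +kernel

theorem word_148 : unpack (D.wlen 148) (D.wordP 148) = [4] := by decide +kernel

theorem word_149 : unpack (D.wlen 149) (D.wordP 149) = [5] := by decide +kernel

theorem word_150 : unpack (D.wlen 150) (D.wordP 150) = [6] := by decide +kernel

theorem word_151 : unpack (D.wlen 151) (D.wordP 151) = [7] := by decide +kernel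

theorem word_152 : unpack (D.wlen 152) (D.wordP 152) = [8] := by decide +kernel

theorem word_153 : unpack (D.wlen 153) (D.wordP 153) = [10] := by decide +kernel

theorem word_154 : unpack (D.wlen 154) (D.wordP 154) = [11] := by decide +kernel

theorem word_155 : unpack (D.wlen 155) (D.wordP 155) = [9] := by decide +kernel

theorem word_156 : unpack (D.wlen 156) (D.wordP 156) = [0] := by decide +kernel

end Cfsg.Agent.Helper5.Fi24TC
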