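import Cfsg.Agent.Helper5.Fi24TCDatD
import Cfsg.Agent.Helper5.TC3A

/-! kernel checks of edges, aliases, rows: Fi24TC -/

set_option autoImplicit false
set_option Elab.async false

namespace Cfsg.Agent.Helper5.Fi24TC
open Cfsg.Agent.Helper5.TC

set_option maxRecDepth 1000000 in
theorem cnt_0 : cntFrom RS 20000 0 0 = 16314 := by decide +kernel

set_option maxRecDepth 1000000 in
theorem cnt_16 : cntFrom RS 20000 320000 0 = 20000 := by decide +kernel

set_option maxRecDepth 1000000 in
theorem edges_11_66 : edgesRange E 11 2718 216020 = true := by decide +kernel

set_option maxRecDepth 1000000 in
theorem edges_6_76 : edgesRange E 6 2084 181943 = true := by decide +kernel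

set_option maxRecDepth 1000000 in
theorem edges_11_25 : edgesRange E 11 4743 87036 = true := by decide +kernel

set_option maxRecDepth 1000000 in
theorem edges_0_52 : edgesRange E 0 3313 114992 = true := by decide +kernel

set_option maxRecDepth 1000000 in
theorem edges_1_17 : edgesRange E 1 1964 33124 = true := by decide +kernel

set_option maxRecDepth 1000000 in
theorem edges_1_172 : edgesRange E 1 1815 327650 = true := by decide +kernel

set_option maxRecDepth 1000000 in
theorem edges_2_128 : edgesRange E 2 1692 254954 = true := by decide +kernel

set_option maxRecDepth 1000000 in
theorem edges_3_78 : edgesRange E 3 1787 170109 = true := by decide +kernel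

set_option maxRecDepth 1000000 in
theorem edges_4_24 : edgesRange E 4 2793 53384 = true := by decide +kernel

set_option maxRecDepth 1000000 in
theorem edges_4_130 : edgesRange E 4 1968 277808 = true := by decide +kernel

set_option maxRecDepth 1000000 in
theorem edges_5_75 : edgesRange E 5 2068 181398 = true := by decide +kernel

set_option maxRecDepth 1000000 in
theorem edges_6_116 : edgesRange E 6 2465 268602 = true := by decide +kernel

set_option maxRecDepth 1000000 in
theorem edges_7_132 : edgesRange E 7 2105 282161 = true := by decide +kernel

set_option maxRecDepth 1000000 in
theorem edges_8_67 : edgesRange E 8 1825 155746 = true := by decide +kernel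

set_option maxRecDepth 1000000 in
theorem edges_9_93 : edgesRange E 9 1598 198332 = true := by decide +kernel

set_option maxRecDepth 1000000 in
theorem edges_10_50 : edgesRange E 10 2761 151415 = true := by decide +kernel

set_option maxRecDepth 1000000 in
theorem edges_11_64 : edgesRange E 11 2608 210600 = true := by decide +kernel

set_option maxRecDepth 1000000 in
theorem edges_0_44 : edgesRange E 0 2070 97502 = true := by decide +kernel

set_option maxRecDepth 1000000 in
theorem edges_0_152 : edgesRange E 0 1644 295002 = true := by decide +kernel

set_option maxRecDepth 1000000 in
theorem edges_1_68 : edgesRange E 1 1746 145693 = true := by decide +kernel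

set_option maxRecDepth 1000000 in
theorem edges_2_102 : edgesRange E 2 1827 208924 = true := by decide +kernel

set_option maxRecDepth 1000000 in
theorem edges_3_54 : edgesRange E 3 1909 126419 = true := by decide +kernel

set_option maxRecDepth 1000000 in
theorem edges_3_182 : edgesRange E 3 1549 355097 = true := by decide +kernel

set_option maxRecDepth 1000000 in
theorem edges_5_5 : edgesRange E 5 2053 11218 = true := by decide +kernel

set_option maxRecDepth 1000000 in
theorem edges_6_80 : edgesRange E 6 2100 190177 = true := by decide +kernel

set_option maxRecDepth 1000000 in
theorem edges_7_117 : edgesRange E 7 2030 253034 = true := by decide +kernel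

set_option maxRecDepth 1000000 in
theorem edges_8_77 : edgesRange E 8 1913 173923 = true := by decide +kernel

set_option maxRecDepth 1000000 in
theorem edges_9_108 : edgesRange E 9 1639 224592 = true := by decide +kernel

set_option maxRecDepth 1000000 in
theorem edges_10_48 : edgesRange E 10 2641 146199 = true := by decide +kernel

set_option maxRecDepth 1000000 in
theorem edges_11_97 : edgesRange E 11 1938 283731 = true := by decide +kernel

set_option maxRecDepth 1000000 in
theorem edges_0_85 : edgesRange E 0 1366 177164 = true := by decide +kernel

set_option maxRecDepth 1000000 in
theorem edges_1_25 : edgesRange E 1 2673 50471 = true := by decide +kernel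

set_option maxRecDepth 1000000 in
theorem edges_1_147 : edgesRange E 1 1917 285381 = true := by decide +kernel

set_option maxRecDepth 1000000 in
theorem edges_2_22 : edgesRange E 2 2133 45106 = true := by decide +kernel

set_option maxRecDepth 1000000 in
theorem edges_2_134 : edgesRange E 2 1887 265658 = true := by decide +kernel

set_option maxRecDepth 1000000 in
theorem edges_3_57 : edgesRange E 3 1876 131920 = true := by decide +kernel

set_option maxRecDepth 1000000 in
theorem edges_4_57 : edgesRange E 4 1939 136212 = true := by decide +kernel

set_option maxRecDepth 1000000 in
theorem edges_4_170 : edgesRange E 4 1653 348767 = true := by decide +kernel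

set_option maxRecDepth 1000000 in
theorem edges_5_141 : edgesRange E 5 1729 322823 = true := by decide +kernel

set_option maxRecDepth 1000000 in
theorem edges_6_99 : edgesRange E 6 2319 230372 = true := by decide +kernel

set_option maxRecDepth 1000000 in
theorem edges_7_106 : edgesRange E 7 1975 232114 = true := by decide +kernel

set_option maxRecDepth 1000000 in
theorem edges_8_91 : edgesRange E 8 1686 199462 = true := by decide +kernel

set_option maxRecDepth 1000000 in
theorem edges_9_0 : edgesRange E 9 1771 0 = true := by decide +kernel

set_option maxRecDepth 1000000 in
theorem edges_9_129 : edgesRange E 9 1763 261749 = true := by decide +kernel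

set_option maxRecDepth 1000000 in
theorem edges_10_77 : edgesRange E 10 2442 223749 = true := by decide +kernel

set_option maxRecDepth 1000000 in
theorem edges_11_94 : edgesRange E 11 2033 277801 = true := by decide +kernel

set_option maxRecDepth 1000000 in
theorem edges_0_16 : edgesRange E 0 1614 31495 = true := by decide +kernel

set_option maxRecDepth 1000000 in
theorem edges_0_92 : edgesRange E 0 2334 186888 = true := by decide +kernel

set_option maxRecDepth 1000000 in
theorem edges_1_9 : edgesRange E 1 1951 16983 = true := by decide +kernel

set_option maxRecDepth 1000000 in
theorem edges_1_85 : edgesRange E 1 1544 176191 = true := by decide +kernel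

set_option maxRecDepth 1000000 in
theorem edges_1_142 : edgesRange E 1 1661 276603 = true := by decide +kernel

set_option maxRecDepth 1000000 in
theorem edges_2_76 : edgesRange E 2 1915 162640 = true := by decide +kernel

set_option maxRecDepth 1000000 in
theorem edges_2_140 : edgesRange E 2 1655 276160 = true := by decide +kernel

set_option maxRecDepth 1000000 in
theorem edges_3_13 : edgesRange E 3 2165 25891 = true := by decide +kernel

set_option maxRecDepth 1000000 in
theorem edges_3_109 : edgesRange E 3 1773 226371 = true := by decide +kernel

set_option maxRecDepth 1000000 in
theorem edges_4_1 : edgesRange E 4 2003 1982 = true := by decide +kernel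

set_option maxRecDepth 1000000 in
theorem edges_4_81 : edgesRange E 4 1881 181347 = true := by decide +kernel

set_option maxRecDepth 1000000 in
theorem edges_4_160 : edgesRange E 4 1748 332563 = true := by decide +kernel

set_option maxRecDepth 1000000 in
theorem edges_5_76 : edgesRange E 5 2168 183466 = true := by decide +kernel

set_option maxRecDepth 1000000 in
theorem edges_5_146 : edgesRange E 5 1783 331562 = true := by decide +kernel

set_option maxRecDepth 1000000 in
theorem edges_6_58 : edgesRange E 6 1890 145531 = true := by decide +kernel

set_option maxRecDepth 1000000 in
theorem edges_6_137 : edgesRange E 6 2156 314657 = true := by decide +kernel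

set_option maxRecDepth 1000000 in
theorem edges_7_85 : edgesRange E 7 2058 192387 = true := by decide +kernel

set_option maxRecDepth 1000000 in
theorem edges_8_18 : edgesRange E 8 2521 42760 = true := by decide +kernel

set_option maxRecDepth 1000000 in
theorem edges_8_116 : edgesRange E 8 1861 244894 = true := by decide +kernel

set_option maxRecDepth 1000000 in
theorem edges_9_40 : edgesRange E 9 2340 93918 = true := by decide +kernel

set_option maxRecDepth 1000000 in
theorem edges_9_115 : edgesRange E 9 1748 236945 = true := by decide +kernel

set_option maxRecDepth 1000000 in
theorem edges_10_32 : edgesRange E 10 2798 99922 = true := by decide +kernel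

set_option maxRecDepth 1000000 in
theorem edges_11_51 : edgesRange E 11 2565 176424 = true := by decide +kernel

set_option maxRecDepth 1000000 in
theorem edges_0_24 : edgesRange E 0 2730 48453 = true := by decide +kernel

set_option maxRecDepth 1000000 in
theorem edges_0_83 : edgesRange E 0 2417 172671 = true := by decide +kernel

set_option maxRecDepth 1000000 in
theorem edges_0_133 : edgesRange E 0 2295 259449 = true := by decide +kernel

set_option maxRecDepth 1000000 in
theorem edges_1_19 : edgesRange E 1 2372 37224 = true := by decide +kernel

set_option maxRecDepth 1000000 in
theorem edges_1_92 : edgesRange E 1 1876 188317 = true := by decide +kernel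

set_option maxRecDepth 1000000 in
theorem edges_1_168 : edgesRange E 1 1490 321323 = true := by decide +kernel

set_option maxRecDepth 1000000 in
theorem edges_2_47 : edgesRange E 2 2222 106039 = true := by decide +kernel

set_option maxRecDepth 1000000 in
theorem edges_2_129 : edgesRange E 2 1953 256646 = true := by decide +kernel

set_option maxRecDepth 1000000 in
theorem edges_3_26 : edgesRange E 3 2100 56282 = true := by decide +kernel

set_option maxRecDepth 1000000 in
theorem edges_3_111 : edgesRange E 3 1800 229944 = true := by decide +kernel

set_option maxRecDepth 1000000 in
theorem edges_3_175 : edgesRange E 3 1660 344043 = true := by decide +kernel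

set_option maxRecDepth 1000000 in
theorem edges_4_105 : edgesRange E 4 1998 227844 = true := by decide +kernel

set_option maxRecDepth 1000000 in
theorem edges_5_54 : edgesRange E 5 1956 138214 = true := by decide +kernel

set_option maxRecDepth 1000000 in
theorem edges_5_101 : edgesRange E 5 2500 239968 = true := by decide +kernel

set_option maxRecDepth 1000000 in
theorem edges_6_18 : edgesRange E 6 2734 43101 = true := by decide +kernel

set_option maxRecDepth 1000000 in
theorem edges_6_118 : edgesRange E 6 2165 273260 = true := by decide +kernel

set_option maxRecDepth 1000000 in
theorem edges_7_52 : edgesRange E 7 1932 130756 = true := by decide +kernel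

set_option maxRecDepth 1000000 in
theorem edges_7_109 : edgesRange E 7 1920 237733 = true := by decide +kernel

set_option maxRecDepth 1000000 in
theorem edges_8_15 : edgesRange E 8 2324 35248 = true := by decide +kernel

set_option maxRecDepth 1000000 in
theorem edges_8_100 : edgesRange E 8 2058 215326 = true := by decide +kernel

set_option maxRecDepth 1000000 in
theorem edges_9_1 : edgesRange E 9 2007 1771 = true := by decide +kernel

set_option maxRecDepth 1000000 in
theorem edges_9_68 : edgesRange E 9 1921 152848 = true := by decide +kernel

set_option maxRecDepth 1000000 in
theorem edges_9_158 : edgesRange E 9 1775 312074 = true := by decide +kernel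

set_option maxRecDepth 1000000 in
theorem edges_10_58 : edgesRange E 10 2957 172797 = true := by decide +kernel

set_option maxRecDepth 1000000 in
theorem edges_11_17 : edgesRange E 11 4260 52078 = true := by decide +kernel

set_option maxRecDepth 1000000 in
theorem edges_11_130 : edgesRange E 11 1710 345907 = true := by decide +kernel

set_option maxRecDepth 1000000 in
theorem edges_0_33 : edgesRange E 0 2199 70480 = true := by decide +kernel

set_option maxRecDepth 1000000 in
theorem edges_0_146 : edgesRange E 0 1776 281800 = true := by decide +kernel

set_option maxRecDepth 1000000 in
theorem edges_1_32 : edgesRange E 1 2433 66652 = true := by decide +kernel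

set_option maxRecDepth 1000000 in
theorem edges_1_87 : edgesRange E 1 1672 179240 = true := by decide +kernel

set_option maxRecDepth 1000000 in
theorem edges_1_160 : edgesRange E 1 1841 307525 = true := by decide +kernel

set_option maxRecDepth 1000000 in
theorem edges_2_43 : edgesRange E 2 2798 96075 = true := by decide +kernel

set_option maxRecDepth 1000000 in
theorem edges_2_96 : edgesRange E 2 1647 198537 = true := by decide +kernel

set_option maxRecDepth 1000000 in
theorem edges_3_5 : edgesRange E 3 1877 9964 = true := by decide +kernel

set_option maxRecDepth 1000000 in
theorem edges_3_75 : edgesRange E 3 1688 164661 = true := by decide +kernel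

set_option maxRecDepth 1000000 in
theorem edges_3_152 : edgesRange E 3 1786 304391 = true := by decide +kernel

set_option maxRecDepth 1000000 in
theorem edges_4_22 : edgesRange E 4 2540 47985 = true := by decide +kernel

set_option maxRecDepth 1000000 in
theorem edges_4_71 : edgesRange E 4 1890 162416 = true := by decide +kernel

set_option maxRecDepth 1000000 in
theorem edges_4_153 : edgesRange E 4 1651 320806 = true := by decide +kernel

set_option maxRecDepth 1000000 in
theorem edges_5_31 : edgesRange E 5 2912 78332 = true := by decide +kernel

set_option maxRecDepth 1000000 in
theorem edges_5_91 : edgesRange E 5 2544 217159 = true := by decide +kernel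

set_option maxRecDepth 1000000 in
theorem edges_6_26 : edgesRange E 6 2806 64003 = true := by decide +kernel

set_option maxRecDepth 1000000 in
theorem edges_6_68 : edgesRange E 6 2033 165686 = true := by decide +kernel

set_option maxRecDepth 1000000 in
theorem edges_6_129 : edgesRange E 6 2069 297817 = true := by decide +kernel

set_option maxRecDepth 1000000 in
theorem edges_7_11 : edgesRange E 7 2369 26447 = true := by decide +kernel

set_option maxRecDepth 1000000 in
theorem edges_7_46 : edgesRange E 7 2973 117033 = true := by decide +kernel

set_option maxRecDepth 1000000 in
theorem edges_7_113 : edgesRange E 7 1836 245993 = true := by decide +kernel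

set_option maxRecDepth 1000000 in
theorem edges_8_14 : edgesRange E 8 2381 32867 = true := by decide +kernel

set_option maxRecDepth 1000000 in
theorem edges_8_75 : edgesRange E 8 1877 170000 = true := by decide +kernel

set_option maxRecDepth 1000000 in
theorem edges_8_111 : edgesRange E 8 1724 235240 = true := by decide +kernel

set_option maxRecDepth 1000000 in
theorem edges_9_6 : edgesRange E 9 2056 12783 = true := by decide +kernel

set_option maxRecDepth 1000000 in
theorem edges_9_45 : edgesRange E 9 2217 106540 = true := by decide +kernel

set_option maxRecDepth 1000000 in
theorem edges_9_103 : edgesRange E 9 1888 215559 = true := by decide +kernel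

set_option maxRecDepth 1000000 in
theorem edges_10_5 : edgesRange E 10 2879 12110 = true := by decide +kernel

set_option maxRecDepth 1000000 in
theorem edges_10_56 : edgesRange E 10 2680 167409 = true := by decide +kernel

set_option maxRecDepth 1000000 in
theorem edges_10_97 : edgesRange E 10 2073 272241 = true := by decide +kernel

set_option maxRecDepth 1000000 in
theorem edges_11_11 : edgesRange E 11 3575 27660 = true := by decide +kernel

set_option maxRecDepth 1000000 in
theorem edges_11_42 : edgesRange E 11 3516 149684 = true := by decide +kernel

set_option maxRecDepth 1000000 in
theorem edges_11_75 : edgesRange E 11 2492 237002 = true := by decide +kernel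

set_option maxRecDepth 1000000 in
theorem edges_11_131 : edgesRange E 11 1737 347617 = true := by decide +kernel

set_option maxRecDepth 1000000 in
theorem aliases_35 : aliasRange E 4400 123185 = true := by decide +kernel

set_option maxRecDepth 1000000 in
theorem aliases_51 : aliasRange E 8000 247363 = true := by decide +kernel

set_option maxRecDepth 1000000 in
theorem rows_2 : rowsRange E RS 1500 3000 = true := by decide +kernel

set_option maxRecDepth 1000000 in
theorem rows_6 : rowsRange E RS 1500 9000 = true := by decide +kernel

set_option maxRecDepth 1000000 in
theorem rows_22 : rowsRange E RS 1500 33000 = true := by decide +kernel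

set_option maxRecDepth 1000000 in
theorem rows_38 : rowsRange E RS 1500 57000 = true := by decide +kernel

set_option maxRecDepth 1000000 in
theorem rows_54 : rowsRange E RS 1500 81000 = true := by decide +kernel

set_option maxRecDepth 1000000 in
theorem rows_70 : rowsRange E RS 1500 105000 = true := by decide +kernel

set_option maxRecDepth 1000000 in
theorem rows_86 : rowsRange E RS 1500 129000 = true := by decide +kernel

set_option maxRecDepth 1000000 in
theorem rows_102 : rowsRange E RS 1500 153000 = true := by decide +kernel

set_option maxRecDepth 1000000 in
theorem rows_118 : rowsRange E RS 1500 177000 = true := by decide +kernel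

set_option maxRecDepth 1000000 in
theorem rows_134 : rowsRange E RS 1500 201000 = true := by decide +kernel

set_option maxRecDepth 1000000 in
theorem rows_150 : rowsRange E RS 1500 225000 = true := by decide +kernel

set_option maxRecDepth 1000000 in
theorem rows_166 : rowsRange E RS 1500 249000 = true := by decide +kernel

set_option maxRecDepth 1000000 in
theorem rows_182 : rowsRange E RS 1500 273000 = true := by decide +kernel

set_option maxRecDepth 1000000 in
theorem rows_198 : rowsRange E RS 1500 297000 = true := by decide +kernel

set_option maxRecDepth 1000000 in
theorem rows_214 : rowsRange E RS 1500 321000 = true := by decide +kernel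

set_option maxRecDepth 1000000 in
theorem rows_230 : rowsRange E RS 1500 345000 = true := by decide +kernel

end Cfsg.Agent.Helper5.Fi24TC
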