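import Cfsg.Agent.Helper5.Fi24TCDatD
import Cfsg.Agent.Helper5.TC3A

/-! kernel checks of edges, aliases, rows: Fi24TC -/

set_option autoImplicit false
set_option Elab.async false

namespace Cfsg.Agent.Helper5.Fi24TC
open Cfsg.Agent.Helper5.TC

set_option maxRecDepth 1000000 in
theorem cnt_1 : cntFrom RS 20000 20000 0 = 13258 := by decide +kernel

set_option maxRecDepth 1000000 in
theorem cnt_17 : cntFrom RS 17049 340000 0 = 17049 := by decide +kernel

set_option maxRecDepth 1000000 in
theorem edges_11_52 : edgesRange E 11 2727 178989 = true := by decide +kernel

set_option maxRecDepth 1000000 in
theorem edges_5_139 : edgesRange E 5 1712 319387 = true := by decide +kernel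

set_option maxRecDepth 1000000 in
theorem edges_11_23 : edgesRange E 11 4649 78371 = true := by decide +kernel

set_option maxRecDepth 1000000 in
theorem edges_0_45 : edgesRange E 0 1578 99572 = true := by decide +kernel

set_option maxRecDepth 1000000 in
theorem edges_1_7 : edgesRange E 1 1925 13206 = true := by decide +kernel

set_option maxRecDepth 1000000 in
theorem edges_1_159 : edgesRange E 1 1611 305914 = true := by decide +kernel

set_option maxRecDepth 1000000 in
theorem edges_2_113 : edgesRange E 2 1858 228372 = true := by decide +kernel

set_option maxRecDepth 1000000 in
theorem edges_3_69 : edgesRange E 3 1843 153891 = true := by decide +kernel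

set_option maxRecDepth 1000000 in
theorem edges_4_6 : edgesRange E 4 2018 12397 = true := by decide +kernel

set_option maxRecDepth 1000000 in
theorem edges_4_129 : edgesRange E 4 1964 275844 = true := by decide +kernel

set_option maxRecDepth 1000000 in
theorem edges_5_73 : edgesRange E 5 1968 177454 = true := by decide +kernel

set_option maxRecDepth 1000000 in
theorem edges_6_79 : edgesRange E 6 2066 188111 = true := by decide +kernel

set_option maxRecDepth 1000000 in
theorem edges_7_131 : edgesRange E 7 1973 280188 = true := by decide +kernel

set_option maxRecDepth 1000000 in
theorem edges_8_63 : edgesRange E 8 1818 148230 = true := by decide +kernel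

set_option maxRecDepth 1000000 in
theorem edges_9_82 : edgesRange E 9 1437 178419 = true := by decide +kernel

set_option maxRecDepth 1000000 in
theorem edges_10_8 : edgesRange E 10 3395 21315 = true := by decide +kernel

set_option maxRecDepth 1000000 in
theorem edges_11_31 : edgesRange E 11 4267 112688 = true := by decide +kernel

set_option maxRecDepth 1000000 in
theorem edges_0_38 : edgesRange E 0 2237 80721 = true := by decide +kernel

set_option maxRecDepth 1000000 in
theorem edges_0_137 : edgesRange E 0 2374 268457 = true := by decide +kernel

set_option maxRecDepth 1000000 in
theorem edges_1_65 : edgesRange E 1 1556 140265 = true := by decide +kernel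

set_option maxRecDepth 1000000 in
theorem edges_2_100 : edgesRange E 2 1886 205309 = true := by decide +kernel

set_option maxRecDepth 1000000 in
theorem edges_3_33 : edgesRange E 3 2361 73846 = true := by decide +kernel

set_option maxRecDepth 1000000 in
theorem edges_3_174 : edgesRange E 3 1651 342392 = true := by decide +kernel

set_option maxRecDepth 1000000 in
theorem edges_4_166 : edgesRange E 4 1614 342413 = true := by decide +kernel

set_option maxRecDepth 1000000 in
theorem edges_6_61 : edgesRange E 6 2217 151553 = true := by decide +kernel

set_option maxRecDepth 1000000 in
theorem edges_7_108 : edgesRange E 7 1783 235950 = true := by decide +kernel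

set_option maxRecDepth 1000000 in
theorem edges_8_61 : edgesRange E 8 1833 144584 = true := by decide +kernel

set_option maxRecDepth 1000000 in
theorem edges_9_106 : edgesRange E 9 1486 221639 = true := by decide +kernel

set_option maxRecDepth 1000000 in
theorem edges_10_46 : edgesRange E 10 2341 141203 = true := by decide +kernel

set_option maxRecDepth 1000000 in
theorem edges_11_87 : edgesRange E 11 2307 263374 = true := by decide +kernel

set_option maxRecDepth 1000000 in
theorem edges_0_78 : edgesRange E 0 1428 163250 = true := by decide +kernel

set_option maxRecDepth 1000000 in
theorem edges_1_15 : edgesRange E 1 1966 28924 = true := by decide +kernel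

set_option maxRecDepth 1000000 in
theorem edges_1_138 : edgesRange E 1 1491 270267 = true := by decide +kernel

set_option maxRecDepth 1000000 in
theorem edges_2_21 : edgesRange E 2 2431 42675 = true := by decide +kernel

set_option maxRecDepth 1000000 in
theorem edges_2_119 : edgesRange E 2 1812 239176 = true := by decide +kernel

set_option maxRecDepth 1000000 in
theorem edges_3_51 : edgesRange E 3 2654 119058 = true := by decide +kernel

set_option maxRecDepth 1000000 in
theorem edges_4_53 : edgesRange E 4 1825 128450 = true := by decide +kernel

set_option maxRecDepth 1000000 in
theorem edges_4_169 : edgesRange E 4 1471 347296 = true := by decide +kernel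

set_option maxRecDepth 1000000 in
theorem edges_5_127 : edgesRange E 5 2000 296550 = true := by decide +kernel

set_option maxRecDepth 1000000 in
theorem edges_6_96 : edgesRange E 6 1974 224243 = true := by decide +kernel

set_option maxRecDepth 1000000 in
theorem edges_7_104 : edgesRange E 7 1966 228188 = true := by decide +kernel

set_option maxRecDepth 1000000 in
theorem edges_8_85 : edgesRange E 8 1719 188270 = true := by decide +kernel

set_option maxRecDepth 1000000 in
theorem edges_8_178 : edgesRange E 8 1721 353997 = true := by decide +kernel

set_option maxRecDepth 1000000 in
theorem edges_9_114 : edgesRange E 9 1802 235143 = true := by decide +kernel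

set_option maxRecDepth 1000000 in
theorem edges_10_41 : edgesRange E 10 2627 128258 = true := by decide +kernel

set_option maxRecDepth 1000000 in
theorem edges_11_92 : edgesRange E 11 1947 273859 = true := by decide +kernel

set_option maxRecDepth 1000000 in
theorem edges_0_13 : edgesRange E 0 2317 24864 = true := by decide +kernel

set_option maxRecDepth 1000000 in
theorem edges_0_91 : edgesRange E 0 1360 185528 = true := by decide +kernel

set_option maxRecDepth 1000000 in
theorem edges_1_0 : edgesRange E 1 1686 0 = true := by decide +kernel

set_option maxRecDepth 1000000 in
theorem edges_1_84 : edgesRange E 1 1858 174333 = true := by decide +kernel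

set_option maxRecDepth 1000000 in
theorem edges_1_134 : edgesRange E 1 1636 262837 = true := by decide +kernel

set_option maxRecDepth 1000000 in
theorem edges_2_74 : edgesRange E 2 1625 159167 = true := by decide +kernel

set_option maxRecDepth 1000000 in
theorem edges_2_139 : edgesRange E 2 1594 274566 = true := by decide +kernel

set_option maxRecDepth 1000000 in
theorem edges_3_9 : edgesRange E 3 1914 17704 = true := by decide +kernel

set_option maxRecDepth 1000000 in
theorem edges_3_97 : edgesRange E 3 1801 204514 = true := by decide +kernel

set_option maxRecDepth 1000000 in
theorem edges_3_178 : edgesRange E 3 1598 348887 = true := by decide +kernel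

set_option maxRecDepth 1000000 in
theorem edges_4_80 : edgesRange E 4 1767 179580 = true := by decide +kernel

set_option maxRecDepth 1000000 in
theorem edges_4_159 : edgesRange E 4 1670 330893 = true := by decide +kernel

set_option maxRecDepth 1000000 in
theorem edges_5_70 : edgesRange E 5 2153 170769 = true := by decide +kernel

set_option maxRecDepth 1000000 in
theorem edges_5_133 : edgesRange E 5 1820 308031 = true := by decide +kernel

set_option maxRecDepth 1000000 in
theorem edges_6_52 : edgesRange E 6 2168 133314 = true := by decide +kernel

set_option maxRecDepth 1000000 in
theorem edges_6_131 : edgesRange E 6 2129 302074 = true := by decide +kernel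

set_option maxRecDepth 1000000 in
theorem edges_7_80 : edgesRange E 7 1946 183080 = true := by decide +kernel

set_option maxRecDepth 1000000 in
theorem edges_8_16 : edgesRange E 8 2730 37572 = true := by decide +kernel

set_option maxRecDepth 1000000 in
theorem edges_8_115 : edgesRange E 8 1983 242911 = true := by decide +kernel

set_option maxRecDepth 1000000 in
theorem edges_9_29 : edgesRange E 9 2713 65271 = true := by decide +kernel

set_option maxRecDepth 1000000 in
theorem edges_9_111 : edgesRange E 9 1531 229636 = true := by decide +kernel

set_option maxRecDepth 1000000 in
theorem edges_10_22 : edgesRange E 10 3442 66361 = true := by decide +kernel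

set_option maxRecDepth 1000000 in
theorem edges_11_12 : edgesRange E 11 3794 31235 = true := by decide +kernel

set_option maxRecDepth 1000000 in
theorem edges_0_15 : edgesRange E 0 1869 29626 = true := by decide +kernel

set_option maxRecDepth 1000000 in
theorem edges_0_75 : edgesRange E 0 1422 159075 = true := by decide +kernel

set_option maxRecDepth 1000000 in
theorem edges_0_132 : edgesRange E 0 2361 257088 = true := by decide +kernel

set_option maxRecDepth 1000000 in
theorem edges_1_11 : edgesRange E 1 1967 20784 = true := by decide +kernel

set_option maxRecDepth 1000000 in
theorem edges_1_79 : edgesRange E 1 1773 165203 = true := by decide +kernel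

set_option maxRecDepth 1000000 in
theorem edges_1_165 : edgesRange E 1 1786 316637 = true := by decide +kernel

set_option maxRecDepth 1000000 in
theorem edges_2_42 : edgesRange E 2 2133 93942 = true := by decide +kernel

set_option maxRecDepth 1000000 in
theorem edges_2_126 : edgesRange E 2 1665 251485 = true := by decide +kernel

set_option maxRecDepth 1000000 in
theorem edges_3_21 : edgesRange E 3 2208 44069 = true := by decide +kernel

set_option maxRecDepth 1000000 in
theorem edges_3_106 : edgesRange E 3 1728 221165 = true := by decide +kernel

set_option maxRecDepth 1000000 in
theorem edges_3_173 : edgesRange E 3 1686 340706 = true := by decide +kernel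

set_option maxRecDepth 1000000 in
theorem edges_4_103 : edgesRange E 4 1827 224089 = true := by decide +kernel

set_option maxRecDepth 1000000 in
theorem edges_5_49 : edgesRange E 5 1943 128001 = true := by decide +kernel

set_option maxRecDepth 1000000 in
theorem edges_5_100 : edgesRange E 5 2417 237551 = true := by decide +kernel

set_option maxRecDepth 1000000 in
theorem edges_6_15 : edgesRange E 6 2579 35287 = true := by decide +kernel

set_option maxRecDepth 1000000 in
theorem edges_6_115 : edgesRange E 6 2211 266391 = true := by decide +kernel

set_option maxRecDepth 1000000 in
theorem edges_7_43 : edgesRange E 7 2262 109191 = true := by decide +kernel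

set_option maxRecDepth 1000000 in
theorem edges_7_105 : edgesRange E 7 1960 230154 = true := by decide +kernel

set_option maxRecDepth 1000000 in
theorem edges_7_169 : edgesRange E 7 1786 352458 = true := by decide +kernel

set_option maxRecDepth 1000000 in
theorem edges_8_95 : edgesRange E 8 1787 206298 = true := by decide +kernel

set_option maxRecDepth 1000000 in
theorem edges_8_177 : edgesRange E 8 1535 352462 = true := by decide +kernel

set_option maxRecDepth 1000000 in
theorem edges_9_67 : edgesRange E 9 1777 151071 = true := by decide +kernel

set_option maxRecDepth 1000000 in
theorem edges_9_146 : edgesRange E 9 2092 291635 = true := by decide +kernel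

set_option maxRecDepth 1000000 in
theorem edges_10_54 : edgesRange E 10 2750 162023 = true := by decide +kernel

set_option maxRecDepth 1000000 in
theorem edges_11_7 : edgesRange E 11 2665 15388 = true := by decide +kernel

set_option maxRecDepth 1000000 in
theorem edges_11_129 : edgesRange E 11 1821 344086 = true := by decide +kernel

set_option maxRecDepth 1000000 in
theorem edges_0_32 : edgesRange E 0 3210 67270 = true := by decide +kernel

set_option maxRecDepth 1000000 in
theorem edges_0_144 : edgesRange E 0 1427 279018 = true := by decide +kernel

set_option maxRecDepth 1000000 in
theorem edges_1_31 : edgesRange E 1 2440 64212 = true := by decide +kernel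

set_option maxRecDepth 1000000 in
theorem edges_1_82 : edgesRange E 1 1790 170639 = true := by decide +kernel

set_option maxRecDepth 1000000 in
theorem edges_1_158 : edgesRange E 1 1701 304213 = true := by decide +kernel

set_option maxRecDepth 1000000 in
theorem edges_2_39 : edgesRange E 2 2432 85687 = true := by decide +kernel

set_option maxRecDepth 1000000 in
theorem edges_2_90 : edgesRange E 2 1770 187625 = true := by decide +kernel

set_option maxRecDepth 1000000 in
theorem edges_3_3 : edgesRange E 3 2074 5822 = true := by decide +kernel

set_option maxRecDepth 1000000 in
theorem edges_3_74 : edgesRange E 3 1878 162783 = true := by decide +kernel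

set_option maxRecDepth 1000000 in
theorem edges_3_146 : edgesRange E 3 1946 293837 = true := by decide +kernel

set_option maxRecDepth 1000000 in
theorem edges_4_21 : edgesRange E 4 2101 45884 = true := by decide +kernel

set_option maxRecDepth 1000000 in
theorem edges_4_68 : edgesRange E 4 1750 157017 = true := by decide +kernel

set_option maxRecDepth 1000000 in
theorem edges_4_150 : edgesRange E 4 1829 315407 = true := by decide +kernel

set_option maxRecDepth 1000000 in
theorem edges_5_29 : edgesRange E 5 3128 72597 = true := by decide +kernel

set_option maxRecDepth 1000000 in
theorem edges_5_84 : edgesRange E 5 2033 201325 = true := by decide +kernel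

set_option maxRecDepth 1000000 in
theorem edges_6_25 : edgesRange E 6 2193 61810 = true := by decide +kernel

set_option maxRecDepth 1000000 in
theorem edges_6_66 : edgesRange E 6 2059 161644 = true := by decide +kernel

set_option maxRecDepth 1000000 in
theorem edges_6_125 : edgesRange E 6 2183 288809 = true := by decide +kernel

set_option maxRecDepth 1000000 in
theorem edges_7_10 : edgesRange E 7 2261 24186 = true := by decide +kernel

set_option maxRecDepth 1000000 in
theorem edges_7_44 : edgesRange E 7 2396 111453 = true := by decide +kernel

set_option maxRecDepth 1000000 in
theorem edges_7_110 : edgesRange E 7 2144 239653 = true := by decide +kernel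

set_option maxRecDepth 1000000 in
theorem edges_8_13 : edgesRange E 8 2374 30493 = true := by decide +kernel

set_option maxRecDepth 1000000 in
theorem edges_8_72 : edgesRange E 8 1647 164685 = true := by decide +kernel

set_option maxRecDepth 1000000 in
theorem edges_8_110 : edgesRange E 8 1668 233572 = true := by decide +kernel

set_option maxRecDepth 1000000 in
theorem edges_9_5 : edgesRange E 9 2079 10704 = true := by decide +kernel

set_option maxRecDepth 1000000 in
theorem edges_9_43 : edgesRange E 9 2054 101094 = true := by decide +kernel

set_option maxRecDepth 1000000 in
theorem edges_9_102 : edgesRange E 9 1806 213753 = true := by decide +kernel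

set_option maxRecDepth 1000000 in
theorem edges_10_4 : edgesRange E 10 2664 9446 = true := by decide +kernel

set_option maxRecDepth 1000000 in
theorem edges_10_55 : edgesRange E 10 2636 164773 = true := by decide +kernel

set_option maxRecDepth 1000000 in
theorem edges_10_96 : edgesRange E 10 2069 270172 = true := by decide +kernel

set_option maxRecDepth 1000000 in
theorem edges_11_10 : edgesRange E 11 3583 24077 = true := by decide +kernel

set_option maxRecDepth 1000000 in
theorem edges_11_39 : edgesRange E 11 3032 140821 = true := by decide +kernel

set_option maxRecDepth 1000000 in
theorem edges_11_71 : edgesRange E 11 2436 227876 = true := by decide +kernel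

set_option maxRecDepth 1000000 in
theorem edges_11_128 : edgesRange E 11 1877 342209 = true := by decide +kernel

set_option maxRecDepth 1000000 in
theorem aliases_32 : aliasRange E 2492 115886 = true := by decide +kernel

set_option maxRecDepth 1000000 in
theorem aliases_50 : aliasRange E 8000 239363 = true := by decide +kernel

set_option maxRecDepth 1000000 in
theorem rows_1 : rowsRange E RS 1500 1500 = true := by decide +kernel

set_option maxRecDepth 1000000 in
theorem rows_4 : rowsRange E RS 1500 6000 = true := by decide +kernel

set_option maxRecDepth 1000000 in
theorem rows_20 : rowsRange E RS 1500 30000 = true := by decide +kernel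

set_option maxRecDepth 1000000 in
theorem rows_36 : rowsRange E RS 1500 54000 = true := by decide +kernel

set_option maxRecDepth 1000000 in
theorem rows_52 : rowsRange E RS 1500 78000 = true := by decide +kernel

set_option maxRecDepth 1000000 in
theorem rows_68 : rowsRange E RS 1500 102000 = true := by decide +kernel

set_option maxRecDepth 1000000 in
theorem rows_84 : rowsRange E RS 1500 126000 = true := by decide +kernel

set_option maxRecDepth 1000000 in
theorem rows_100 : rowsRange E RS 1500 150000 = true := by decide +kernel

set_option maxRecDepth 1000000 in
theorem rows_116 : rowsRange E RS 1500 174000 = true := by decide +kernel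

set_option maxRecDepth 1000000 in
theorem rows_132 : rowsRange E RS 1500 198000 = true := by decide +kernel

set_option maxRecDepth 1000000 in
theorem rows_148 : rowsRange E RS 1500 222000 = true := by decide +kernel

set_option maxRecDepth 1000000 in
theorem rows_164 : rowsRange E RS 1500 246000 = true := by decide +kernel

set_option maxRecDepth 1000000 in
theorem rows_180 : rowsRange E RS 1500 270000 = true := by decide +kernel

set_option maxRecDepth 1000000 in
theorem rows_196 : rowsRange E RS 1500 294000 = true := by decide +kernel

set_option maxRecDepth 1000000 in
theorem rows_212 : rowsRange E RS 1500 318000 = true := by decide +kernel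

set_option maxRecDepth 1000000 in
theorem rows_228 : rowsRange E RS 1500 342000 = true := by decide +kernel

set_option maxRecDepth 1000000 in
theorem edges_1_190 : edgesRange E 1 288 356761 = true := by decide +kernel

end Cfsg.Agent.Helper5.Fi24TC
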