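import Cfsg.Agent.Helper5.Fi24TCDatD
import Cfsg.Agent.Helper5.TC3A

/-! kernel checks of edges, aliases, rows: Fi24TC -/

set_option autoImplicit false
set_option Elab.async false

namespace Cfsg.Agent.Helper5.Fi24TC
open Cfsg.Agent.Helper5.TC

set_option maxRecDepth 1000000 in
theorem cnt_10 : cntFrom RS 20000 200000 0 = 19981 := by decide +kernel

set_option maxRecDepth 1000000 in
theorem edges_4_110 : edgesRange E 4 2039 237931 = true := by decide +kernel

set_option maxRecDepth 1000000 in
theorem edges_7_9 : edgesRange E 7 2412 21774 = true := by decide +kernel

set_option maxRecDepth 1000000 in
theorem edges_4_108 : edgesRange E 4 1991 234024 = true := by decide +kernel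

set_option maxRecDepth 1000000 in
theorem edges_7_134 : edgesRange E 7 1872 286125 = true := by decide +kernel

set_option maxRecDepth 1000000 in
theorem edges_11_118 : edgesRange E 11 1789 324037 = true := by decide +kernel

set_option maxRecDepth 1000000 in
theorem edges_0_179 : edgesRange E 0 1345 339266 = true := by decide +kernel

set_option maxRecDepth 1000000 in
theorem edges_1_112 : edgesRange E 1 1611 223773 = true := by decide +kernel

set_option maxRecDepth 1000000 in
theorem edges_2_62 : edgesRange E 2 1712 137804 = true := by decide +kernel

set_option maxRecDepth 1000000 in
theorem edges_3_45 : edgesRange E 3 2643 104347 = true := by decide +kernel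

set_option maxRecDepth 1000000 in
theorem edges_3_155 : edgesRange E 3 1798 309745 = true := by decide +kernel

set_option maxRecDepth 1000000 in
theorem edges_4_107 : edgesRange E 4 2113 231911 = true := by decide +kernel

set_option maxRecDepth 1000000 in
theorem edges_5_25 : edgesRange E 5 2549 61143 = true := by decide +kernel

set_option maxRecDepth 1000000 in
theorem edges_6_28 : edgesRange E 6 2998 69592 = true := by decide +kernel

set_option maxRecDepth 1000000 in
theorem edges_7_89 : edgesRange E 7 1746 200196 = true := by decide +kernel

set_option maxRecDepth 1000000 in
theorem edges_8_34 : edgesRange E 8 2077 83322 = true := by decide +kernel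

set_option maxRecDepth 1000000 in
theorem edges_9_16 : edgesRange E 9 2037 34584 = true := by decide +kernel

set_option maxRecDepth 1000000 in
theorem edges_9_148 : edgesRange E 9 1533 295822 = true := by decide +kernel

set_option maxRecDepth 1000000 in
theorem edges_10_134 : edgesRange E 10 1815 344453 = true := by decide +kernel

set_option maxRecDepth 1000000 in
theorem edges_11_135 : edgesRange E 11 1629 354511 = true := by decide +kernel

set_option maxRecDepth 1000000 in
theorem edges_0_105 : edgesRange E 0 2385 209951 = true := by decide +kernel

set_option maxRecDepth 1000000 in
theorem edges_0_183 : edgesRange E 0 1337 346352 = true := by decide +kernel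

set_option maxRecDepth 1000000 in
theorem edges_2_46 : edgesRange E 2 2603 103436 = true := by decide +kernel

set_option maxRecDepth 1000000 in
theorem edges_2_177 : edgesRange E 2 1612 339606 = true := by decide +kernel

set_option maxRecDepth 1000000 in
theorem edges_3_150 : edgesRange E 3 1772 300931 = true := by decide +kernel

set_option maxRecDepth 1000000 in
theorem edges_4_114 : edgesRange E 4 1917 246057 = true := by decide +kernel

set_option maxRecDepth 1000000 in
theorem edges_5_155 : edgesRange E 5 1643 347090 = true := by decide +kernel

set_option maxRecDepth 1000000 in
theorem edges_7_69 : edgesRange E 7 1917 162597 = true := by decide +kernel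

set_option maxRecDepth 1000000 in
theorem edges_8_42 : edgesRange E 8 2768 103732 = true := by decide +kernel

set_option maxRecDepth 1000000 in
theorem edges_8_175 : edgesRange E 8 1792 348877 = true := by decide +kernel

set_option maxRecDepth 1000000 in
theorem edges_10_13 : edgesRange E 10 3394 37646 = true := by decide +kernel

set_option maxRecDepth 1000000 in
theorem edges_10_137 : edgesRange E 10 1765 349481 = true := by decide +kernel

set_option maxRecDepth 1000000 in
theorem edges_0_26 : edgesRange E 0 2504 53790 = true := by decide +kernel

set_option maxRecDepth 1000000 in
theorem edges_0_111 : edgesRange E 0 1418 222710 = true := by decide +kernel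

set_option maxRecDepth 1000000 in
theorem edges_1_34 : edgesRange E 1 2366 71887 = true := by decide +kernel

set_option maxRecDepth 1000000 in
theorem edges_1_152 : edgesRange E 1 1739 294533 = true := by decide +kernel

set_option maxRecDepth 1000000 in
theorem edges_2_38 : edgesRange E 2 2041 83646 = true := by decide +kernel

set_option maxRecDepth 1000000 in
theorem edges_2_136 : edgesRange E 2 1881 269419 = true := by decide +kernel

set_option maxRecDepth 1000000 in
theorem edges_3_71 : edgesRange E 3 1730 157507 = true := by decide +kernel

set_option maxRecDepth 1000000 in
theorem edges_4_66 : edgesRange E 4 1990 153120 = true := by decide +kernel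

set_option maxRecDepth 1000000 in
theorem edges_5_9 : edgesRange E 5 2297 19566 = true := by decide +kernel

set_option maxRecDepth 1000000 in
theorem edges_5_144 : edgesRange E 5 1750 328101 = true := by decide +kernel

set_option maxRecDepth 1000000 in
theorem edges_6_119 : edgesRange E 6 2203 275425 = true := by decide +kernel

set_option maxRecDepth 1000000 in
theorem edges_7_115 : edgesRange E 7 1740 249513 = true := by decide +kernel

set_option maxRecDepth 1000000 in
theorem edges_8_109 : edgesRange E 8 2012 231560 = true := by decide +kernel

set_option maxRecDepth 1000000 in
theorem edges_9_19 : edgesRange E 9 2060 41772 = true := by decide +kernel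

set_option maxRecDepth 1000000 in
theorem edges_9_137 : edgesRange E 9 1660 275805 = true := by decide +kernel

set_option maxRecDepth 1000000 in
theorem edges_10_114 : edgesRange E 10 1953 307497 = true := by decide +kernel

set_option maxRecDepth 1000000 in
theorem edges_11_112 : edgesRange E 11 2038 312872 = true := by decide +kernel

set_option maxRecDepth 1000000 in
theorem edges_0_21 : edgesRange E 0 1707 42312 = true := by decide +kernel

set_option maxRecDepth 1000000 in
theorem edges_0_101 : edgesRange E 0 1348 203931 = true := by decide +kernel

set_option maxRecDepth 1000000 in
theorem edges_1_13 : edgesRange E 1 1882 24855 = true := by decide +kernel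

set_option maxRecDepth 1000000 in
theorem edges_1_88 : edgesRange E 1 1853 180912 = true := by decide +kernel

set_option maxRecDepth 1000000 in
theorem edges_1_155 : edgesRange E 1 1490 299285 = true := by decide +kernel

set_option maxRecDepth 1000000 in
theorem edges_2_82 : edgesRange E 2 1810 173512 = true := by decide +kernel

set_option maxRecDepth 1000000 in
theorem edges_2_154 : edgesRange E 2 1632 300588 = true := by decide +kernel

set_option maxRecDepth 1000000 in
theorem edges_3_22 : edgesRange E 3 2235 46277 = true := by decide +kernel

set_option maxRecDepth 1000000 in
theorem edges_3_114 : edgesRange E 3 1910 235478 = true := by decide +kernel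

set_option maxRecDepth 1000000 in
theorem edges_4_15 : edgesRange E 4 2329 31689 = true := by decide +kernel

set_option maxRecDepth 1000000 in
theorem edges_4_88 : edgesRange E 4 2000 194946 = true := by decide +kernel

set_option maxRecDepth 1000000 in
theorem edges_4_168 : edgesRange E 4 1578 345718 = true := by decide +kernel

set_option maxRecDepth 1000000 in
theorem edges_5_83 : edgesRange E 5 2038 199287 = true := by decide +kernel

set_option maxRecDepth 1000000 in
theorem edges_5_148 : edgesRange E 5 1769 335155 = true := by decide +kernel

set_option maxRecDepth 1000000 in
theorem edges_6_72 : edgesRange E 6 2098 174143 = true := by decide +kernel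

set_option maxRecDepth 1000000 in
theorem edges_6_154 : edgesRange E 6 1565 347904 = true := by decide +kernel

set_option maxRecDepth 1000000 in
theorem edges_7_88 : edgesRange E 7 1730 198466 = true := by decide +kernel

set_option maxRecDepth 1000000 in
theorem edges_8_31 : edgesRange E 8 2129 75825 = true := by decide +kernel

set_option maxRecDepth 1000000 in
theorem edges_8_126 : edgesRange E 8 1754 262246 = true := by decide +kernel

set_option maxRecDepth 1000000 in
theorem edges_9_63 : edgesRange E 9 1660 143808 = true := by decide +kernel

set_option maxRecDepth 1000000 in
theorem edges_9_121 : edgesRange E 9 1493 247972 = true := by decide +kernel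

set_option maxRecDepth 1000000 in
theorem edges_10_47 : edgesRange E 10 2655 143544 = true := by decide +kernel

set_option maxRecDepth 1000000 in
theorem edges_11_65 : edgesRange E 11 2812 213208 = true := by decide +kernel

set_option maxRecDepth 1000000 in
theorem edges_0_31 : edgesRange E 0 3023 64247 = true := by decide +kernel

set_option maxRecDepth 1000000 in
theorem edges_0_94 : edgesRange E 0 2231 191574 = true := by decide +kernel

set_option maxRecDepth 1000000 in
theorem edges_0_145 : edgesRange E 0 1355 280445 = true := by decide +kernel

set_option maxRecDepth 1000000 in
theorem edges_1_24 : edgesRange E 1 2436 48035 = true := by decide +kernel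

set_option maxRecDepth 1000000 in
theorem edges_1_98 : edgesRange E 1 1502 199094 = true := by decide +kernel

set_option maxRecDepth 1000000 in
theorem edges_1_175 : edgesRange E 1 1917 333028 = true := by decide +kernel

set_option maxRecDepth 1000000 in
theorem edges_2_56 : edgesRange E 2 1902 126819 = true := by decide +kernel

set_option maxRecDepth 1000000 in
theorem edges_2_131 : edgesRange E 2 1931 260288 = true := by decide +kernel

set_option maxRecDepth 1000000 in
theorem edges_3_42 : edgesRange E 3 2672 96825 = true := by decide +kernel

set_option maxRecDepth 1000000 in
theorem edges_3_116 : edgesRange E 3 1829 239189 = true := by decide +kernel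

set_option maxRecDepth 1000000 in
theorem edges_4_13 : edgesRange E 4 2370 27106 = true := by decide +kernel

set_option maxRecDepth 1000000 in
theorem edges_4_115 : edgesRange E 4 1911 247974 = true := by decide +kernel

set_option maxRecDepth 1000000 in
theorem edges_5_63 : edgesRange E 5 1986 156505 = true := by decide +kernel

set_option maxRecDepth 1000000 in
theorem edges_5_108 : edgesRange E 5 2085 255811 = true := by decide +kernel

set_option maxRecDepth 1000000 in
theorem edges_6_21 : edgesRange E 6 2864 50779 = true := by decide +kernel

set_option maxRecDepth 1000000 in
theorem edges_6_127 : edgesRange E 6 2311 293228 = true := by decide +kernel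

set_option maxRecDepth 1000000 in
theorem edges_7_58 : edgesRange E 7 1764 142214 = true := by decide +kernel

set_option maxRecDepth 1000000 in
theorem edges_7_112 : edgesRange E 7 2099 243894 = true := by decide +kernel

set_option maxRecDepth 1000000 in
theorem edges_8_28 : edgesRange E 8 2912 67610 = true := by decide +kernel

set_option maxRecDepth 1000000 in
theorem edges_8_114 : edgesRange E 8 2142 240769 = true := by decide +kernel

set_option maxRecDepth 1000000 in
theorem edges_9_9 : edgesRange E 9 2039 19117 = true := by decide +kernel

set_option maxRecDepth 1000000 in
theorem edges_9_76 : edgesRange E 9 1832 167201 = true := by decide +kernel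

set_option maxRecDepth 1000000 in
theorem edges_9_163 : edgesRange E 9 1407 320911 = true := by decide +kernel

set_option maxRecDepth 1000000 in
theorem edges_10_61 : edgesRange E 10 2782 180745 = true := by decide +kernel

set_option maxRecDepth 1000000 in
theorem edges_11_38 : edgesRange E 11 2974 137847 = true := by decide +kernel

set_option maxRecDepth 1000000 in
theorem aliases_0 : aliasRange E 5599 0 = true := by decide +kernel

set_option maxRecDepth 1000000 in
theorem edges_0_55 : edgesRange E 0 1741 123806 = true := by decide +kernel

set_option maxRecDepth 1000000 in
theorem edges_0_168 : edgesRange E 0 1381 321444 = true := by decide +kernel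

set_option maxRecDepth 1000000 in
theorem edges_1_46 : edgesRange E 1 2276 100718 = true := by decide +kernel

set_option maxRecDepth 1000000 in
theorem edges_1_113 : edgesRange E 1 1790 225384 = true := by decide +kernel

set_option maxRecDepth 1000000 in
theorem edges_1_180 : edgesRange E 1 1599 340936 = true := by decide +kernel

set_option maxRecDepth 1000000 in
theorem edges_2_58 : edgesRange E 2 1874 130481 = true := by decide +kernel

set_option maxRecDepth 1000000 in
theorem edges_2_123 : edgesRange E 2 1585 246562 = true := by decide +kernel

set_option maxRecDepth 1000000 in
theorem edges_3_38 : edgesRange E 3 2544 85747 = true := by decide +kernel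

set_option maxRecDepth 1000000 in
theorem edges_3_90 : edgesRange E 3 1789 191852 = true := by decide +kernel

set_option maxRecDepth 1000000 in
theorem edges_3_179 : edgesRange E 3 1593 350485 = true := by decide +kernel

set_option maxRecDepth 1000000 in
theorem edges_4_29 : edgesRange E 4 2689 65814 = true := by decide +kernel

set_option maxRecDepth 1000000 in
theorem edges_4_92 : edgesRange E 4 1889 202490 = true := by decide +kernel

set_option maxRecDepth 1000000 in
theorem edges_5_11 : edgesRange E 5 2231 24056 = true := by decide +kernel

set_option maxRecDepth 1000000 in
theorem edges_5_44 : edgesRange E 5 3076 114663 = true := by decide +kernel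

set_option maxRecDepth 1000000 in
theorem edges_5_128 : edgesRange E 5 1850 298550 = true := by decide +kernel

set_option maxRecDepth 1000000 in
theorem edges_6_36 : edgesRange E 6 3228 91742 = true := by decide +kernel

set_option maxRecDepth 1000000 in
theorem edges_6_89 : edgesRange E 6 2188 208895 = true := by decide +kernel

set_option maxRecDepth 1000000 in
theorem edges_6_151 : edgesRange E 6 1792 342449 = true := by decide +kernel

set_option maxRecDepth 1000000 in
theorem edges_7_23 : edgesRange E 7 2335 56364 = true := by decide +kernel

set_option maxRecDepth 1000000 in
theorem edges_7_60 : edgesRange E 7 1786 145889 = true := by decide +kernel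

set_option maxRecDepth 1000000 in
theorem edges_7_141 : edgesRange E 7 1711 299689 = true := by decide +kernel

set_option maxRecDepth 1000000 in
theorem edges_8_29 : edgesRange E 8 2622 70522 = true := by decide +kernel

set_option maxRecDepth 1000000 in
theorem edges_8_86 : edgesRange E 8 1749 189989 = true := by decide +kernel

set_option maxRecDepth 1000000 in
theorem edges_8_140 : edgesRange E 8 1663 287477 = true := by decide +kernel

set_option maxRecDepth 1000000 in
theorem edges_9_14 : edgesRange E 9 2069 30238 = true := by decide +kernel

set_option maxRecDepth 1000000 in
theorem edges_9_57 : edgesRange E 9 1775 133094 = true := by decide +kernel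

set_option maxRecDepth 1000000 in
theorem edges_9_138 : edgesRange E 9 1678 277465 = true := by decide +kernel

set_option maxRecDepth 1000000 in
theorem edges_10_23 : edgesRange E 10 3533 69803 = true := by decide +kernel

set_option maxRecDepth 1000000 in
theorem edges_10_67 : edgesRange E 10 2506 197430 = true := by decide +kernel

set_option maxRecDepth 1000000 in
theorem edges_10_118 : edgesRange E 10 1965 315567 = true := by decide +kernel

set_option maxRecDepth 1000000 in
theorem edges_11_21 : edgesRange E 11 4765 69575 = true := by decide +kernel

set_option maxRecDepth 1000000 in
theorem edges_11_47 : edgesRange E 11 2537 164901 = true := by decide +kernel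

set_option maxRecDepth 1000000 in
theorem edges_11_89 : edgesRange E 11 2186 267897 = true := by decide +kernel

set_option maxRecDepth 1000000 in
theorem aliases_9 : aliasRange E 3916 40533 = true := by decide +kernel

set_option maxRecDepth 1000000 in
theorem aliases_40 : aliasRange E 8000 159507 = true := by decide +kernel

set_option maxRecDepth 1000000 in
theorem aliases_56 : aliasRange E 8000 287363 = true := by decide +kernel

set_option maxRecDepth 1000000 in
theorem rows_11 : rowsRange E RS 1500 16500 = true := by decide +kernel

set_option maxRecDepth 1000000 in
theorem rows_27 : rowsRange E RS 1500 40500 = true := by decide +kernel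

set_option maxRecDepth 1000000 in
theorem rows_43 : rowsRange E RS 1500 64500 = true := by decide +kernel

set_option maxRecDepth 1000000 in
theorem rows_59 : rowsRange E RS 1500 88500 = true := by decide +kernel

set_option maxRecDepth 1000000 in
theorem rows_75 : rowsRange E RS 1500 112500 = true := by decide +kernel

set_option maxRecDepth 1000000 in
theorem rows_91 : rowsRange E RS 1500 136500 = true := by decide +kernel

set_option maxRecDepth 1000000 in
theorem rows_107 : rowsRange E RS 1500 160500 = true := by decide +kernel

set_option maxRecDepth 1000000 in
theorem rows_123 : rowsRange E RS 1500 184500 = true := by decide +kernel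

set_option maxRecDepth 1000000 in
theorem rows_139 : rowsRange E RS 1500 208500 = true := by decide +kernel

set_option maxRecDepth 1000000 in
theorem rows_155 : rowsRange E RS 1500 232500 = true := by decide +kernel

set_option maxRecDepth 1000000 in
theorem rows_171 : rowsRange E RS 1500 256500 = true := by decide +kernel

set_option maxRecDepth 1000000 in
theorem rows_187 : rowsRange E RS 1500 280500 = true := by decide +kernel

set_option maxRecDepth 1000000 in
theorem rows_203 : rowsRange E RS 1500 304500 = true := by decide +kernel

set_option maxRecDepth 1000000 in
theorem rows_219 : rowsRange E RS 1500 328500 = true := by decide +kernel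

set_option maxRecDepth 1000000 in
theorem rows_235 : rowsRange E RS 1500 352500 = true := by decide +kernel

end Cfsg.Agent.Helper5.Fi24TC
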