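import Cfsg.Agent.Helper5.Fi24TCDatD
import Cfsg.Agent.Helper5.TC3A

/-! kernel checks of edges, aliases, rows: Fi24TC -/

set_option autoImplicit false
set_option Elab.async false

namespace Cfsg.Agent.Helper5.Fi24TC
open Cfsg.Agent.Helper5.TC

set_option maxRecDepth 1000000 in
theorem cnt_11 : cntFrom RS 20000 220000 0 = 20000 := by decide +kernel

set_option maxRecDepth 1000000 in
theorem edges_4_137 : edgesRange E 4 1973 291299 = true := by decide +kernel

set_option maxRecDepth 1000000 in
theorem edges_7_19 : edgesRange E 7 2209 46045 = true := by decide +kernel

set_option maxRecDepth 1000000 in
theorem edges_4_126 : edgesRange E 4 2014 269970 = true := by decide +kernel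

set_option maxRecDepth 1000000 in
theorem edges_8_19 : edgesRange E 8 2277 45281 = true := by decide +kernel

set_option maxRecDepth 1000000 in
theorem edges_0_0 : edgesRange E 0 1688 0 = true := by decide +kernel

set_option maxRecDepth 1000000 in
theorem edges_0_63 : edgesRange E 0 1422 138596 = true := by decide +kernel

set_option maxRecDepth 1000000 in
theorem edges_1_22 : edgesRange E 1 2267 44001 = true := by decide +kernel

set_option maxRecDepth 1000000 in
theorem edges_1_174 : edgesRange E 1 1658 331370 = true := by decide +kernel

set_option maxRecDepth 1000000 in
theorem edges_2_133 : edgesRange E 2 1761 263897 = true := by decide +kernel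

set_option maxRecDepth 1000000 in
theorem edges_3_81 : edgesRange E 3 1768 175677 = true := by decide +kernel

set_option maxRecDepth 1000000 in
theorem edges_4_41 : edgesRange E 4 2217 98821 = true := by decide +kernel

set_option maxRecDepth 1000000 in
theorem edges_4_131 : edgesRange E 4 1996 279776 = true := by decide +kernel

set_option maxRecDepth 1000000 in
theorem edges_5_94 : edgesRange E 5 2119 223987 = true := by decide +kernel

set_option maxRecDepth 1000000 in
theorem edges_6_132 : edgesRange E 6 2120 304203 = true := by decide +kernel

set_option maxRecDepth 1000000 in
theorem edges_7_137 : edgesRange E 7 2223 292009 = true := by decide +kernel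

set_option maxRecDepth 1000000 in
theorem edges_8_81 : edgesRange E 8 1684 181014 = true := by decide +kernel

set_option maxRecDepth 1000000 in
theorem edges_9_113 : edgesRange E 9 1797 233346 = true := by decide +kernel

set_option maxRecDepth 1000000 in
theorem edges_10_52 : edgesRange E 10 2605 156952 = true := by decide +kernel

set_option maxRecDepth 1000000 in
theorem edges_11_84 : edgesRange E 11 2102 256915 = true := by decide +kernel

set_option maxRecDepth 1000000 in
theorem edges_0_58 : edgesRange E 0 1378 128325 = true := by decide +kernel

set_option maxRecDepth 1000000 in
theorem edges_0_157 : edgesRange E 0 1336 302134 = true := by decide +kernel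

set_option maxRecDepth 1000000 in
theorem edges_1_127 : edgesRange E 1 1795 250147 = true := by decide +kernel

set_option maxRecDepth 1000000 in
theorem edges_2_127 : edgesRange E 2 1804 253150 = true := by decide +kernel

set_option maxRecDepth 1000000 in
theorem edges_3_68 : edgesRange E 3 1890 152001 = true := by decide +kernel

set_option maxRecDepth 1000000 in
theorem edges_4_3 : edgesRange E 4 2178 6053 = true := by decide +kernel

set_option maxRecDepth 1000000 in
theorem edges_5_8 : edgesRange E 5 2103 17463 = true := by decide +kernel

set_option maxRecDepth 1000000 in
theorem edges_6_95 : edgesRange E 6 1916 222327 = true := by decide +kernel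

set_option maxRecDepth 1000000 in
theorem edges_7_123 : edgesRange E 7 2164 264705 = true := by decide +kernel

set_option maxRecDepth 1000000 in
theorem edges_8_83 : edgesRange E 8 1744 184570 = true := by decide +kernel

set_option maxRecDepth 1000000 in
theorem edges_9_110 : edgesRange E 9 1729 227907 = true := by decide +kernel

set_option maxRecDepth 1000000 in
theorem edges_10_51 : edgesRange E 10 2776 154176 = true := by decide +kernel

set_option maxRecDepth 1000000 in
theorem edges_11_98 : edgesRange E 11 2064 285669 = true := by decide +kernel

set_option maxRecDepth 1000000 in
theorem edges_0_113 : edgesRange E 0 1392 225507 = true := by decide +kernel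

set_option maxRecDepth 1000000 in
theorem edges_1_39 : edgesRange E 1 1899 83814 = true := by decide +kernel

set_option maxRecDepth 1000000 in
theorem edges_1_157 : edgesRange E 1 1667 302546 = true := by decide +kernel

set_option maxRecDepth 1000000 in
theorem edges_2_50 : edgesRange E 2 2449 112530 = true := by decide +kernel

set_option maxRecDepth 1000000 in
theorem edges_2_145 : edgesRange E 2 1817 284801 = true := by decide +kernel

set_option maxRecDepth 1000000 in
theorem edges_3_76 : edgesRange E 3 1900 166349 = true := by decide +kernel

set_option maxRecDepth 1000000 in
theorem edges_4_75 : edgesRange E 4 1935 170004 = true := by decide +kernel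

set_option maxRecDepth 1000000 in
theorem edges_5_21 : edgesRange E 5 3135 49582 = true := by decide +kernel

set_option maxRecDepth 1000000 in
theorem edges_5_152 : edgesRange E 5 1685 341932 = true := by decide +kernel

set_option maxRecDepth 1000000 in
theorem edges_6_120 : edgesRange E 6 2166 277628 = true := by decide +kernel

set_option maxRecDepth 1000000 in
theorem edges_7_120 : edgesRange E 7 1900 259087 = true := by decide +kernel

set_option maxRecDepth 1000000 in
theorem edges_8_120 : edgesRange E 8 1712 251461 = true := by decide +kernel

set_option maxRecDepth 1000000 in
theorem edges_9_28 : edgesRange E 9 2042 63229 = true := by decide +kernel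

set_option maxRecDepth 1000000 in
theorem edges_9_153 : edgesRange E 9 1671 303378 = true := by decide +kernel

set_option maxRecDepth 1000000 in
theorem edges_10_129 : edgesRange E 10 1706 335826 = true := by decide +kernel

set_option maxRecDepth 1000000 in
theorem edges_11_117 : edgesRange E 11 1806 322231 = true := by decide +kernel

set_option maxRecDepth 1000000 in
theorem edges_0_22 : edgesRange E 0 1839 44019 = true := by decide +kernel

set_option maxRecDepth 1000000 in
theorem edges_0_102 : edgesRange E 0 1443 205279 = true := by decide +kernel

set_option maxRecDepth 1000000 in
theorem edges_1_18 : edgesRange E 1 2136 35088 = true := by decide +kernel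

set_option maxRecDepth 1000000 in
theorem edges_1_94 : edgesRange E 1 1782 191952 = true := by decide +kernel

set_option maxRecDepth 1000000 in
theorem edges_1_177 : edgesRange E 1 1464 336286 = true := by decide +kernel

set_option maxRecDepth 1000000 in
theorem edges_2_86 : edgesRange E 2 1807 180448 = true := by decide +kernel

set_option maxRecDepth 1000000 in
theorem edges_2_162 : edgesRange E 2 1791 314237 = true := by decide +kernel

set_option maxRecDepth 1000000 in
theorem edges_3_23 : edgesRange E 3 2362 48512 = true := by decide +kernel

set_option maxRecDepth 1000000 in
theorem edges_3_120 : edgesRange E 3 1707 246717 = true := by decide +kernel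

set_option maxRecDepth 1000000 in
theorem edges_4_23 : edgesRange E 4 2859 50525 = true := by decide +kernel

set_option maxRecDepth 1000000 in
theorem edges_4_91 : edgesRange E 4 1802 200688 = true := by decide +kernel

set_option maxRecDepth 1000000 in
theorem edges_4_172 : edgesRange E 4 1630 352051 = true := by decide +kernel

set_option maxRecDepth 1000000 in
theorem edges_5_87 : edgesRange E 5 2394 207805 = true := by decide +kernel

set_option maxRecDepth 1000000 in
theorem edges_5_150 : edgesRange E 5 1665 338494 = true := by decide +kernel

set_option maxRecDepth 1000000 in
theorem edges_6_74 : edgesRange E 6 1843 178203 = true := by decide +kernel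

set_option maxRecDepth 1000000 in
theorem edges_7_4 : edgesRange E 7 2467 9944 = true := by decide +kernel

set_option maxRecDepth 1000000 in
theorem edges_7_90 : edgesRange E 7 1768 201942 = true := by decide +kernel

set_option maxRecDepth 1000000 in
theorem edges_8_32 : edgesRange E 8 2749 77954 = true := by decide +kernel

set_option maxRecDepth 1000000 in
theorem edges_8_128 : edgesRange E 8 2136 266017 = true := by decide +kernel

set_option maxRecDepth 1000000 in
theorem edges_9_64 : edgesRange E 9 1921 145468 = true := by decide +kernel

set_option maxRecDepth 1000000 in
theorem edges_9_124 : edgesRange E 9 1730 252758 = true := by decide +kernel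

set_option maxRecDepth 1000000 in
theorem edges_10_49 : edgesRange E 10 2575 148840 = true := by decide +kernel

set_option maxRecDepth 1000000 in
theorem edges_11_72 : edgesRange E 11 2119 230312 = true := by decide +kernel

set_option maxRecDepth 1000000 in
theorem edges_0_37 : edgesRange E 0 1916 78805 = true := by decide +kernel

set_option maxRecDepth 1000000 in
theorem edges_0_96 : edgesRange E 0 2181 196209 = true := by decide +kernel

set_option maxRecDepth 1000000 in
theorem edges_0_148 : edgesRange E 0 2402 285825 = true := by decide +kernel

set_option maxRecDepth 1000000 in
theorem edges_1_27 : edgesRange E 1 2238 55238 = true := by decide +kernel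

set_option maxRecDepth 1000000 in
theorem edges_1_101 : edgesRange E 1 1824 204051 = true := by decide +kernel

set_option maxRecDepth 1000000 in
theorem edges_1_181 : edgesRange E 1 1789 342535 = true := by decide +kernel

set_option maxRecDepth 1000000 in
theorem edges_2_63 : edgesRange E 2 1734 139516 = true := by decide +kernel

set_option maxRecDepth 1000000 in
theorem edges_2_138 : edgesRange E 2 1630 272936 = true := by decide +kernel

set_option maxRecDepth 1000000 in
theorem edges_3_43 : edgesRange E 3 2135 99497 = true := by decide +kernel

set_option maxRecDepth 1000000 in
theorem edges_3_121 : edgesRange E 3 1700 248424 = true := by decide +kernel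

set_option maxRecDepth 1000000 in
theorem edges_4_16 : edgesRange E 4 2114 34018 = true := by decide +kernel

set_option maxRecDepth 1000000 in
theorem edges_4_118 : edgesRange E 4 2048 253868 = true := by decide +kernel

set_option maxRecDepth 1000000 in
theorem edges_5_66 : edgesRange E 5 2044 162336 = true := by decide +kernel

set_option maxRecDepth 1000000 in
theorem edges_5_116 : edgesRange E 5 2088 273655 = true := by decide +kernel

set_option maxRecDepth 1000000 in
theorem edges_6_22 : edgesRange E 6 2865 53643 = true := by decide +kernel

set_option maxRecDepth 1000000 in
theorem edges_6_135 : edgesRange E 6 2136 310480 = true := by decide +kernel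

set_option maxRecDepth 1000000 in
theorem edges_7_59 : edgesRange E 7 1911 143978 = true := by decide +kernel

set_option maxRecDepth 1000000 in
theorem edges_7_116 : edgesRange E 7 1781 251253 = true := by decide +kernel

set_option maxRecDepth 1000000 in
theorem edges_8_35 : edgesRange E 8 2318 85399 = true := by decide +kernel

set_option maxRecDepth 1000000 in
theorem edges_8_119 : edgesRange E 8 1611 249850 = true := by decide +kernel

set_option maxRecDepth 1000000 in
theorem edges_9_24 : edgesRange E 9 2554 53690 = true := by decide +kernel

set_option maxRecDepth 1000000 in
theorem edges_9_84 : edgesRange E 9 1694 181487 = true := by decide +kernel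

set_option maxRecDepth 1000000 in
theorem edges_9_175 : edgesRange E 9 1663 340530 = true := by decide +kernel

set_option maxRecDepth 1000000 in
theorem edges_10_72 : edgesRange E 10 2718 210278 = true := by decide +kernel

set_option maxRecDepth 1000000 in
theorem edges_11_56 : edgesRange E 11 3021 189791 = true := by decide +kernel

set_option maxRecDepth 1000000 in
theorem aliases_11 : aliasRange E 3369 48740 = true := by decide +kernel

set_option maxRecDepth 1000000 in
theorem edges_0_59 : edgesRange E 0 1766 129703 = true := by decide +kernel

set_option maxRecDepth 1000000 in
theorem edges_0_169 : edgesRange E 0 1343 322825 = true := by decide +kernel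

set_option maxRecDepth 1000000 in
theorem edges_1_47 : edgesRange E 1 2584 102994 = true := by decide +kernel

set_option maxRecDepth 1000000 in
theorem edges_1_116 : edgesRange E 1 1691 230732 = true := by decide +kernel

set_option maxRecDepth 1000000 in
theorem edges_1_184 : edgesRange E 1 1575 347451 = true := by decide +kernel

set_option maxRecDepth 1000000 in
theorem edges_2_61 : edgesRange E 2 1754 136050 = true := by decide +kernel

set_option maxRecDepth 1000000 in
theorem edges_2_137 : edgesRange E 2 1636 271300 = true := by decide +kernel

set_option maxRecDepth 1000000 in
theorem edges_3_39 : edgesRange E 3 2709 88291 = true := by decide +kernel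

set_option maxRecDepth 1000000 in
theorem edges_3_96 : edgesRange E 3 1801 202713 = true := by decide +kernel

set_option maxRecDepth 1000000 in
theorem edges_3_181 : edgesRange E 3 1514 353583 = true := by decide +kernel

set_option maxRecDepth 1000000 in
theorem edges_4_30 : edgesRange E 4 3060 68503 = true := by decide +kernel

set_option maxRecDepth 1000000 in
theorem edges_4_94 : edgesRange E 4 1997 206290 = true := by decide +kernel

set_option maxRecDepth 1000000 in
theorem edges_5_14 : edgesRange E 5 2530 31300 = true := by decide +kernel

set_option maxRecDepth 1000000 in
theorem edges_5_45 : edgesRange E 5 3047 117739 = true := by decide +kernel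

set_option maxRecDepth 1000000 in
theorem edges_5_134 : edgesRange E 5 1850 309851 = true := by decide +kernel

set_option maxRecDepth 1000000 in
theorem edges_6_37 : edgesRange E 6 3372 94970 = true := by decide +kernel

set_option maxRecDepth 1000000 in
theorem edges_6_91 : edgesRange E 6 2242 213171 = true := by decide +kernel

set_option maxRecDepth 1000000 in
theorem edges_6_152 : edgesRange E 6 1905 344241 = true := by decide +kernel

set_option maxRecDepth 1000000 in
theorem edges_7_28 : edgesRange E 7 3033 68883 = true := by decide +kernel

set_option maxRecDepth 1000000 in
theorem edges_7_63 : edgesRange E 7 2021 151481 = true := by decide +kernel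

set_option maxRecDepth 1000000 in
theorem edges_7_144 : edgesRange E 7 1969 305150 = true := by decide +kernel

set_option maxRecDepth 1000000 in
theorem edges_8_33 : edgesRange E 8 2619 80703 = true := by decide +kernel

set_option maxRecDepth 1000000 in
theorem edges_8_87 : edgesRange E 8 1962 191738 = true := by decide +kernel

set_option maxRecDepth 1000000 in
theorem edges_8_141 : edgesRange E 8 1925 289140 = true := by decide +kernel

set_option maxRecDepth 1000000 in
theorem edges_9_15 : edgesRange E 9 2277 32307 = true := by decide +kernel

set_option maxRecDepth 1000000 in
theorem edges_9_66 : edgesRange E 9 1739 149332 = true := by decide +kernel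

set_option maxRecDepth 1000000 in
theorem edges_9_140 : edgesRange E 9 1623 280772 = true := by decide +kernel

set_option maxRecDepth 1000000 in
theorem edges_10_24 : edgesRange E 10 3083 73336 = true := by decide +kernel

set_option maxRecDepth 1000000 in
theorem edges_10_70 : edgesRange E 10 2779 205192 = true := by decide +kernel

set_option maxRecDepth 1000000 in
theorem edges_10_122 : edgesRange E 10 1747 322971 = true := by decide +kernel

set_option maxRecDepth 1000000 in
theorem edges_11_22 : edgesRange E 11 4031 74340 = true := by decide +kernel

set_option maxRecDepth 1000000 in
theorem edges_11_48 : edgesRange E 11 2908 167438 = true := by decide +kernel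

set_option maxRecDepth 1000000 in
theorem edges_11_91 : edgesRange E 11 1962 271897 = true := by decide +kernel

set_option maxRecDepth 1000000 in
theorem aliases_13 : aliasRange E 3864 55362 = true := by decide +kernel

set_option maxRecDepth 1000000 in
theorem aliases_41 : aliasRange E 8000 167507 = true := by decide +kernel

set_option maxRecDepth 1000000 in
theorem aliases_57 : aliasRange E 8000 295363 = true := by decide +kernel

set_option maxRecDepth 1000000 in
theorem rows_12 : rowsRange E RS 1500 18000 = true := by decide +kernel

set_option maxRecDepth 1000000 in
theorem rows_28 : rowsRange E RS 1500 42000 = true := by decide +kernel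

set_option maxRecDepth 1000000 in
theorem rows_44 : rowsRange E RS 1500 66000 = true := by decide +kernel

set_option maxRecDepth 1000000 in
theorem rows_60 : rowsRange E RS 1500 90000 = true := by decide +kernel

set_option maxRecDepth 1000000 in
theorem rows_76 : rowsRange E RS 1500 114000 = true := by decide +kernel

set_option maxRecDepth 1000000 in
theorem rows_92 : rowsRange E RS 1500 138000 = true := by decide +kernel

set_option maxRecDepth 1000000 in
theorem rows_108 : rowsRange E RS 1500 162000 = true := by decide +kernel

set_option maxRecDepth 1000000 in
theorem rows_124 : rowsRange E RS 1500 186000 = true := by decide +kernel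

set_option maxRecDepth 1000000 in
theorem rows_140 : rowsRange E RS 1500 210000 = true := by decide +kernel

set_option maxRecDepth 1000000 in
theorem rows_156 : rowsRange E RS 1500 234000 = true := by decide +kernel

set_option maxRecDepth 1000000 in
theorem rows_172 : rowsRange E RS 1500 258000 = true := by decide +kernel

set_option maxRecDepth 1000000 in
theorem rows_188 : rowsRange E RS 1500 282000 = true := by decide +kernel

set_option maxRecDepth 1000000 in
theorem rows_204 : rowsRange E RS 1500 306000 = true := by decide +kernel

set_option maxRecDepth 1000000 in
theorem rows_220 : rowsRange E RS 1500 330000 = true := by decide +kernel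

set_option maxRecDepth 1000000 in
theorem rows_236 : rowsRange E RS 1500 354000 = true := by decide +kernel

end Cfsg.Agent.Helper5.Fi24TC
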