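import Cfsg.Agent.Helper5.Fi24TCDatD
import Cfsg.Agent.Helper5.TC3A

/-! kernel checks of edges, aliases, rows: Fi24TC -/

set_option autoImplicit false
set_option Elab.async false

namespace Cfsg.Agent.Helper5.Fi24TC
open Cfsg.Agent.Helper5.TC

set_option maxRecDepth 1000000 in
theorem cnt_12 : cntFrom RS 20000 240000 0 = 20000 := by decide +kernel

set_option maxRecDepth 1000000 in
theorem edges_5_10 : edgesRange E 5 2193 21863 = true := by decide +kernel

set_option maxRecDepth 1000000 in
theorem edges_8_132 : edgesRange E 8 1510 273648 = true := by decide +kernel

set_option maxRecDepth 1000000 in
theorem edges_4_135 : edgesRange E 4 1870 287556 = true := by decide +kernel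

set_option maxRecDepth 1000000 in
theorem edges_8_30 : edgesRange E 8 2681 73144 = true := by decide +kernel

set_option maxRecDepth 1000000 in
theorem edges_0_4 : edgesRange E 0 2160 7609 = true := by decide +kernel

set_option maxRecDepth 1000000 in
theorem edges_0_97 : edgesRange E 0 1351 198390 = true := by decide +kernel

set_option maxRecDepth 1000000 in
theorem edges_1_23 : edgesRange E 1 1767 46268 = true := by decide +kernel

set_option maxRecDepth 1000000 in
theorem edges_1_182 : edgesRange E 1 1794 344324 = true := by decide +kernel

set_option maxRecDepth 1000000 in
theorem edges_2_146 : edgesRange E 2 1824 286618 = true := by decide +kernel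

set_option maxRecDepth 1000000 in
theorem edges_3_83 : edgesRange E 3 1746 179148 = true := by decide +kernel

set_option maxRecDepth 1000000 in
theorem edges_4_43 : edgesRange E 4 2775 103508 = true := by decide +kernel

set_option maxRecDepth 1000000 in
theorem edges_4_143 : edgesRange E 4 1830 302784 = true := by decide +kernel

set_option maxRecDepth 1000000 in
theorem edges_5_113 : edgesRange E 5 2185 267043 = true := by decide +kernel

set_option maxRecDepth 1000000 in
theorem edges_6_136 : edgesRange E 6 2041 312616 = true := by decide +kernel

set_option maxRecDepth 1000000 in
theorem edges_7_140 : edgesRange E 7 1634 298055 = true := by decide +kernel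

set_option maxRecDepth 1000000 in
theorem edges_8_103 : edgesRange E 8 1676 221357 = true := by decide +kernel

set_option maxRecDepth 1000000 in
theorem edges_9_116 : edgesRange E 9 1873 238693 = true := by decide +kernel

set_option maxRecDepth 1000000 in
theorem edges_10_66 : edgesRange E 10 2966 194464 = true := by decide +kernel

set_option maxRecDepth 1000000 in
theorem edges_11_90 : edgesRange E 11 1814 270083 = true := by decide +kernel

set_option maxRecDepth 1000000 in
theorem edges_0_62 : edgesRange E 0 2349 136247 = true := by decide +kernel

set_option maxRecDepth 1000000 in
theorem edges_0_158 : edgesRange E 0 1409 303470 = true := by decide +kernel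

set_option maxRecDepth 1000000 in
theorem edges_1_132 : edgesRange E 1 1980 259095 = true := by decide +kernel

set_option maxRecDepth 1000000 in
theorem edges_2_132 : edgesRange E 2 1678 262219 = true := by decide +kernel

set_option maxRecDepth 1000000 in
theorem edges_3_80 : edgesRange E 3 1875 173802 = true := by decide +kernel

set_option maxRecDepth 1000000 in
theorem edges_4_20 : edgesRange E 4 2417 43467 = true := by decide +kernel

set_option maxRecDepth 1000000 in
theorem edges_5_51 : edgesRange E 5 2037 131910 = true := by decide +kernel

set_option maxRecDepth 1000000 in
theorem edges_6_97 : edgesRange E 6 2054 226217 = true := by decide +kernel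

set_option maxRecDepth 1000000 in
theorem edges_7_124 : edgesRange E 7 2183 266869 = true := by decide +kernel

set_option maxRecDepth 1000000 in
theorem edges_8_97 : edgesRange E 8 1716 210037 = true := by decide +kernel

set_option maxRecDepth 1000000 in
theorem edges_9_119 : edgesRange E 9 1728 244855 = true := by decide +kernel

set_option maxRecDepth 1000000 in
theorem edges_10_60 : edgesRange E 10 2400 178345 = true := by decide +kernel

set_option maxRecDepth 1000000 in
theorem edges_11_106 : edgesRange E 11 1878 301477 = true := by decide +kernel

set_option maxRecDepth 1000000 in
theorem edges_0_117 : edgesRange E 0 1585 231055 = true := by decide +kernel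

set_option maxRecDepth 1000000 in
theorem edges_1_48 : edgesRange E 1 2383 105578 = true := by decide +kernel

set_option maxRecDepth 1000000 in
theorem edges_1_169 : edgesRange E 1 1697 322813 = true := by decide +kernel

set_option maxRecDepth 1000000 in
theorem edges_2_52 : edgesRange E 2 2690 117801 = true := by decide +kernel

set_option maxRecDepth 1000000 in
theorem edges_2_147 : edgesRange E 2 1680 288442 = true := by decide +kernel

set_option maxRecDepth 1000000 in
theorem edges_3_88 : edgesRange E 3 1877 188135 = true := by decide +kernel

set_option maxRecDepth 1000000 in
theorem edges_4_82 : edgesRange E 4 1915 183228 = true := by decide +kernel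

set_option maxRecDepth 1000000 in
theorem edges_5_30 : edgesRange E 5 2607 75725 = true := by decide +kernel

set_option maxRecDepth 1000000 in
theorem edges_5_159 : edgesRange E 5 1550 353648 = true := by decide +kernel

set_option maxRecDepth 1000000 in
theorem edges_6_130 : edgesRange E 6 2188 299886 = true := by decide +kernel

set_option maxRecDepth 1000000 in
theorem edges_7_121 : edgesRange E 7 1801 260987 = true := by decide +kernel

set_option maxRecDepth 1000000 in
theorem edges_8_121 : edgesRange E 8 1916 253173 = true := by decide +kernel

set_option maxRecDepth 1000000 in
theorem edges_9_33 : edgesRange E 9 1962 75955 = true := by decide +kernel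

set_option maxRecDepth 1000000 in
theorem edges_9_157 : edgesRange E 9 1776 310298 = true := by decide +kernel

set_option maxRecDepth 1000000 in
theorem edges_11_2 : edgesRange E 11 2046 4112 = true := by decide +kernel

set_option maxRecDepth 1000000 in
theorem edges_11_121 : edgesRange E 11 1953 329493 = true := by decide +kernel

set_option maxRecDepth 1000000 in
theorem edges_0_34 : edgesRange E 0 2722 72679 = true := by decide +kernel

set_option maxRecDepth 1000000 in
theorem edges_0_106 : edgesRange E 0 2268 212336 = true := by decide +kernel

set_option maxRecDepth 1000000 in
theorem edges_1_35 : edgesRange E 1 2309 74253 = true := by decide +kernel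

set_option maxRecDepth 1000000 in
theorem edges_1_95 : edgesRange E 1 1864 193734 = true := by decide +kernel

set_option maxRecDepth 1000000 in
theorem edges_1_179 : edgesRange E 1 1622 339314 = true := by decide +kernel

set_option maxRecDepth 1000000 in
theorem edges_2_91 : edgesRange E 2 1868 189395 = true := by decide +kernel

set_option maxRecDepth 1000000 in
theorem edges_2_163 : edgesRange E 2 1953 316028 = true := by decide +kernel

set_option maxRecDepth 1000000 in
theorem edges_3_28 : edgesRange E 3 2158 61070 = true := by decide +kernel

set_option maxRecDepth 1000000 in
theorem edges_3_123 : edgesRange E 3 1729 251941 = true := by decide +kernel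

set_option maxRecDepth 1000000 in
theorem edges_4_32 : edgesRange E 4 2086 74779 = true := by decide +kernel

set_option maxRecDepth 1000000 in
theorem edges_4_93 : edgesRange E 4 1911 204379 = true := by decide +kernel

set_option maxRecDepth 1000000 in
theorem edges_5_6 : edgesRange E 5 1993 13271 = true := by decide +kernel

set_option maxRecDepth 1000000 in
theorem edges_5_89 : edgesRange E 5 2259 212462 = true := by decide +kernel

set_option maxRecDepth 1000000 in
theorem edges_5_154 : edgesRange E 5 1834 345256 = true := by decide +kernel

set_option maxRecDepth 1000000 in
theorem edges_6_78 : edgesRange E 6 2077 186034 = true := by decide +kernel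

set_option maxRecDepth 1000000 in
theorem edges_7_5 : edgesRange E 7 2333 12411 = true := by decide +kernel

set_option maxRecDepth 1000000 in
theorem edges_7_101 : edgesRange E 7 1740 222938 = true := by decide +kernel

set_option maxRecDepth 1000000 in
theorem edges_8_43 : edgesRange E 8 2436 106500 = true := by decide +kernel

set_option maxRecDepth 1000000 in
theorem edges_8_147 : edgesRange E 8 1584 300154 = true := by decide +kernel

set_option maxRecDepth 1000000 in
theorem edges_9_72 : edgesRange E 9 1657 160107 = true := by decide +kernel

set_option maxRecDepth 1000000 in
theorem edges_9_132 : edgesRange E 9 2218 267305 = true := by decide +kernel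

set_option maxRecDepth 1000000 in
theorem edges_10_71 : edgesRange E 10 2307 207971 = true := by decide +kernel

set_option maxRecDepth 1000000 in
theorem edges_11_74 : edgesRange E 11 2396 234606 = true := by decide +kernel

set_option maxRecDepth 1000000 in
theorem edges_0_39 : edgesRange E 0 2676 82958 = true := by decide +kernel

set_option maxRecDepth 1000000 in
theorem edges_0_99 : edgesRange E 0 1389 201163 = true := by decide +kernel

set_option maxRecDepth 1000000 in
theorem edges_0_151 : edgesRange E 0 2526 292476 = true := by decide +kernel

set_option maxRecDepth 1000000 in
theorem edges_1_28 : edgesRange E 1 2550 57476 = true := by decide +kernel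

set_option maxRecDepth 1000000 in
theorem edges_1_103 : edgesRange E 1 1758 207715 = true := by decide +kernel

set_option maxRecDepth 1000000 in
theorem edges_1_183 : edgesRange E 1 1333 346118 = true := by decide +kernel

set_option maxRecDepth 1000000 in
theorem edges_2_88 : edgesRange E 2 1799 184041 = true := by decide +kernel

set_option maxRecDepth 1000000 in
theorem edges_2_150 : edgesRange E 2 1944 293794 = true := by decide +kernel

set_option maxRecDepth 1000000 in
theorem edges_3_46 : edgesRange E 3 2173 106990 = true := by decide +kernel

set_option maxRecDepth 1000000 in
theorem edges_3_126 : edgesRange E 3 1854 257364 = true := by decide +kernel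

set_option maxRecDepth 1000000 in
theorem edges_4_17 : edgesRange E 4 2485 36132 = true := by decide +kernel

set_option maxRecDepth 1000000 in
theorem edges_4_123 : edgesRange E 4 1926 263928 = true := by decide +kernel

set_option maxRecDepth 1000000 in
theorem edges_5_68 : edgesRange E 5 2115 166532 = true := by decide +kernel

set_option maxRecDepth 1000000 in
theorem edges_5_122 : edgesRange E 5 1987 286075 = true := by decide +kernel

set_option maxRecDepth 1000000 in
theorem edges_6_24 : edgesRange E 6 2806 59004 = true := by decide +kernel

set_option maxRecDepth 1000000 in
theorem edges_6_138 : edgesRange E 6 2387 316813 = true := by decide +kernel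

set_option maxRecDepth 1000000 in
theorem edges_7_64 : edgesRange E 7 1993 153502 = true := by decide +kernel

set_option maxRecDepth 1000000 in
theorem edges_7_119 : edgesRange E 7 1992 257095 = true := by decide +kernel

set_option maxRecDepth 1000000 in
theorem edges_8_37 : edgesRange E 8 3064 90568 = true := by decide +kernel

set_option maxRecDepth 1000000 in
theorem edges_8_127 : edgesRange E 8 2017 264000 = true := by decide +kernel

set_option maxRecDepth 1000000 in
theorem edges_9_31 : edgesRange E 9 2535 71163 = true := by decide +kernel

set_option maxRecDepth 1000000 in
theorem edges_9_92 : edgesRange E 9 2208 196124 = true := by decide +kernel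

set_option maxRecDepth 1000000 in
theorem edges_9_176 : edgesRange E 9 1778 342193 = true := by decide +kernel

set_option maxRecDepth 1000000 in
theorem edges_10_74 : edgesRange E 10 2919 215896 = true := by decide +kernel

set_option maxRecDepth 1000000 in
theorem edges_11_63 : edgesRange E 11 2335 208265 = true := by decide +kernel

set_option maxRecDepth 1000000 in
theorem aliases_16 : aliasRange E 3121 66813 = true := by decide +kernel

set_option maxRecDepth 1000000 in
theorem edges_0_73 : edgesRange E 0 1739 155960 = true := by decide +kernel

set_option maxRecDepth 1000000 in
theorem edges_0_185 : edgesRange E 0 1460 349026 = true := by decide +kernel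

set_option maxRecDepth 1000000 in
theorem edges_1_49 : edgesRange E 1 2011 107961 = true := by decide +kernel

set_option maxRecDepth 1000000 in
theorem edges_1_120 : edgesRange E 1 1794 238042 = true := by decide +kernel

set_option maxRecDepth 1000000 in
theorem edges_2_1 : edgesRange E 2 1919 1714 = true := by decide +kernel

set_option maxRecDepth 1000000 in
theorem edges_2_64 : edgesRange E 2 1722 141250 = true := by decide +kernel

set_option maxRecDepth 1000000 in
theorem edges_2_143 : edgesRange E 2 1757 281260 = true := by decide +kernel

set_option maxRecDepth 1000000 in
theorem edges_3_41 : edgesRange E 3 2739 94086 = true := by decide +kernel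

set_option maxRecDepth 1000000 in
theorem edges_3_98 : edgesRange E 3 1788 206315 = true := by decide +kernel

set_option maxRecDepth 1000000 in
theorem edges_4_0 : edgesRange E 4 1982 0 = true := by decide +kernel

set_option maxRecDepth 1000000 in
theorem edges_4_33 : edgesRange E 4 2749 76865 = true := by decide +kernel

set_option maxRecDepth 1000000 in
theorem edges_4_101 : edgesRange E 4 1935 220275 = true := by decide +kernel

set_option maxRecDepth 1000000 in
theorem edges_5_18 : edgesRange E 5 2591 41723 = true := by decide +kernel

set_option maxRecDepth 1000000 in
theorem edges_5_50 : edgesRange E 5 1966 129944 = true := by decide +kernel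

set_option maxRecDepth 1000000 in
theorem edges_5_143 : edgesRange E 5 1952 326149 = true := by decide +kernel

set_option maxRecDepth 1000000 in
theorem edges_6_38 : edgesRange E 6 2251 98342 = true := by decide +kernel

set_option maxRecDepth 1000000 in
theorem edges_6_98 : edgesRange E 6 2101 228271 = true := by decide +kernel

set_option maxRecDepth 1000000 in
theorem edges_6_153 : edgesRange E 6 1758 346146 = true := by decide +kernel

set_option maxRecDepth 1000000 in
theorem edges_7_29 : edgesRange E 7 3040 71916 = true := by decide +kernel

set_option maxRecDepth 1000000 in
theorem edges_7_75 : edgesRange E 7 2022 174025 = true := by decide +kernel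

set_option maxRecDepth 1000000 in
theorem edges_7_158 : edgesRange E 7 2069 331877 = true := by decide +kernel

set_option maxRecDepth 1000000 in
theorem edges_8_36 : edgesRange E 8 2851 87717 = true := by decide +kernel

set_option maxRecDepth 1000000 in
theorem edges_8_89 : edgesRange E 8 1899 195813 = true := by decide +kernel

set_option maxRecDepth 1000000 in
theorem edges_8_143 : edgesRange E 8 1982 293213 = true := by decide +kernel

set_option maxRecDepth 1000000 in
theorem edges_9_23 : edgesRange E 9 2758 50932 = true := by decide +kernel

set_option maxRecDepth 1000000 in
theorem edges_9_69 : edgesRange E 9 2221 154769 = true := by decide +kernel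

set_option maxRecDepth 1000000 in
theorem edges_9_142 : edgesRange E 9 1662 284550 = true := by decide +kernel

set_option maxRecDepth 1000000 in
theorem edges_10_25 : edgesRange E 10 3298 76419 = true := by decide +kernel

set_option maxRecDepth 1000000 in
theorem edges_10_73 : edgesRange E 10 2900 212996 = true := by decide +kernel

set_option maxRecDepth 1000000 in
theorem edges_10_131 : edgesRange E 10 1681 339184 = true := by decide +kernel

set_option maxRecDepth 1000000 in
theorem edges_11_24 : edgesRange E 11 4016 83020 = true := by decide +kernel

set_option maxRecDepth 1000000 in
theorem edges_11_49 : edgesRange E 11 3394 170346 = true := by decide +kernel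

set_option maxRecDepth 1000000 in
theorem edges_11_93 : edgesRange E 11 1995 275806 = true := by decide +kernel

set_option maxRecDepth 1000000 in
theorem aliases_15 : aliasRange E 3828 62985 = true := by decide +kernel

set_option maxRecDepth 1000000 in
theorem aliases_42 : aliasRange E 8000 175507 = true := by decide +kernel

set_option maxRecDepth 1000000 in
theorem aliases_58 : aliasRange E 8000 303363 = true := by decide +kernel

set_option maxRecDepth 1000000 in
theorem rows_13 : rowsRange E RS 1500 19500 = true := by decide +kernel

set_option maxRecDepth 1000000 in
theorem rows_29 : rowsRange E RS 1500 43500 = true := by decide +kernel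

set_option maxRecDepth 1000000 in
theorem rows_45 : rowsRange E RS 1500 67500 = true := by decide +kernel

set_option maxRecDepth 1000000 in
theorem rows_61 : rowsRange E RS 1500 91500 = true := by decide +kernel

set_option maxRecDepth 1000000 in
theorem rows_77 : rowsRange E RS 1500 115500 = true := by decide +kernel

set_option maxRecDepth 1000000 in
theorem rows_93 : rowsRange E RS 1500 139500 = true := by decide +kernel

set_option maxRecDepth 1000000 in
theorem rows_109 : rowsRange E RS 1500 163500 = true := by decide +kernel

set_option maxRecDepth 1000000 in
theorem rows_125 : rowsRange E RS 1500 187500 = true := by decide +kernel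

set_option maxRecDepth 1000000 in
theorem rows_141 : rowsRange E RS 1500 211500 = true := by decide +kernel

set_option maxRecDepth 1000000 in
theorem rows_157 : rowsRange E RS 1500 235500 = true := by decide +kernel

set_option maxRecDepth 1000000 in
theorem rows_173 : rowsRange E RS 1500 259500 = true := by decide +kernel

set_option maxRecDepth 1000000 in
theorem rows_189 : rowsRange E RS 1500 283500 = true := by decide +kernel

set_option maxRecDepth 1000000 in
theorem rows_205 : rowsRange E RS 1500 307500 = true := by decide +kernel

set_option maxRecDepth 1000000 in
theorem rows_221 : rowsRange E RS 1500 331500 = true := by decide +kernel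

set_option maxRecDepth 1000000 in
theorem rows_237 : rowsRange E RS 1500 355500 = true := by decide +kernel

end Cfsg.Agent.Helper5.Fi24TC
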