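import Cfsg.Agent.Helper5.Fi24TCDatD
import Cfsg.Agent.Helper5.TC3A

/-! kernel checks of edges, aliases, rows: Fi24TC -/

set_option autoImplicit false
set_option Elab.async false

namespace Cfsg.Agent.Helper5.Fi24TC
open Cfsg.Agent.Helper5.TC

set_option maxRecDepth 1000000 in
theorem cnt_13 : cntFrom RS 20000 260000 0 = 20000 := by decide +kernel

set_option maxRecDepth 1000000 in
theorem edges_5_151 : edgesRange E 5 1773 340159 = true := by decide +kernel

set_option maxRecDepth 1000000 in
theorem edges_8_154 : edgesRange E 8 1802 312254 = true := by decide +kernel

set_option maxRecDepth 1000000 in
theorem edges_5_7 : edgesRange E 5 2199 15264 = true := by decide +kernel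

set_option maxRecDepth 1000000 in
theorem edges_8_107 : edgesRange E 8 1929 227856 = true := by decide +kernel

set_option maxRecDepth 1000000 in
theorem edges_0_20 : edgesRange E 0 1900 40412 = true := by decide +kernel

set_option maxRecDepth 1000000 in
theorem edges_0_98 : edgesRange E 0 1422 199741 = true := by decide +kernel

set_option maxRecDepth 1000000 in
theorem edges_1_38 : edgesRange E 1 2038 81776 = true := by decide +kernel

set_option maxRecDepth 1000000 in
theorem edges_2_12 : edgesRange E 2 2073 23243 = true := by decide +kernel

set_option maxRecDepth 1000000 in
theorem edges_2_148 : edgesRange E 2 1811 290122 = true := by decide +kernel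

set_option maxRecDepth 1000000 in
theorem edges_3_112 : edgesRange E 3 1881 231744 = true := by decide +kernel

set_option maxRecDepth 1000000 in
theorem edges_4_46 : edgesRange E 4 2274 110960 = true := by decide +kernel

set_option maxRecDepth 1000000 in
theorem edges_4_144 : edgesRange E 4 1830 304614 = true := by decide +kernel

set_option maxRecDepth 1000000 in
theorem edges_5_120 : edgesRange E 5 1964 282061 = true := by decide +kernel

set_option maxRecDepth 1000000 in
theorem edges_6_149 : edgesRange E 6 1785 338786 = true := by decide +kernel

set_option maxRecDepth 1000000 in
theorem edges_7_145 : edgesRange E 7 1983 307119 = true := by decide +kernel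

set_option maxRecDepth 1000000 in
theorem edges_8_117 : edgesRange E 8 1556 246755 = true := by decide +kernel

set_option maxRecDepth 1000000 in
theorem edges_9_122 : edgesRange E 9 1636 249465 = true := by decide +kernel

set_option maxRecDepth 1000000 in
theorem edges_10_68 : edgesRange E 10 2461 199936 = true := by decide +kernel

set_option maxRecDepth 1000000 in
theorem edges_11_101 : edgesRange E 11 2133 291972 = true := by decide +kernel

set_option maxRecDepth 1000000 in
theorem edges_0_65 : edgesRange E 0 1396 141430 = true := by decide +kernel

set_option maxRecDepth 1000000 in
theorem edges_0_163 : edgesRange E 0 2036 312466 = true := by decide +kernel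

set_option maxRecDepth 1000000 in
theorem edges_1_151 : edgesRange E 1 1976 292557 = true := by decide +kernel

set_option maxRecDepth 1000000 in
theorem edges_2_142 : edgesRange E 2 1735 279525 = true := by decide +kernel

set_option maxRecDepth 1000000 in
theorem edges_3_87 : edgesRange E 3 1859 186276 = true := by decide +kernel

set_option maxRecDepth 1000000 in
theorem edges_4_39 : edgesRange E 4 3012 92607 = true := by decide +kernel

set_option maxRecDepth 1000000 in
theorem edges_5_57 : edgesRange E 5 2005 143969 = true := by decide +kernel

set_option maxRecDepth 1000000 in
theorem edges_6_100 : edgesRange E 6 2259 232691 = true := by decide +kernel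

set_option maxRecDepth 1000000 in
theorem edges_7_126 : edgesRange E 7 1818 271177 = true := by decide +kernel

set_option maxRecDepth 1000000 in
theorem edges_8_99 : edgesRange E 8 1893 213433 = true := by decide +kernel

set_option maxRecDepth 1000000 in
theorem edges_9_134 : edgesRange E 9 1418 271404 = true := by decide +kernel

set_option maxRecDepth 1000000 in
theorem edges_10_63 : edgesRange E 10 2479 186276 = true := by decide +kernel

set_option maxRecDepth 1000000 in
theorem edges_11_114 : edgesRange E 11 1849 316893 = true := by decide +kernel

set_option maxRecDepth 1000000 in
theorem edges_0_124 : edgesRange E 0 1335 246022 = true := by decide +kernel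

set_option maxRecDepth 1000000 in
theorem edges_1_54 : edgesRange E 1 1781 119968 = true := by decide +kernel

set_option maxRecDepth 1000000 in
theorem edges_1_173 : edgesRange E 1 1905 329465 = true := by decide +kernel

set_option maxRecDepth 1000000 in
theorem edges_2_59 : edgesRange E 2 1830 132355 = true := by decide +kernel

set_option maxRecDepth 1000000 in
theorem edges_2_151 : edgesRange E 2 1770 295738 = true := by decide +kernel

set_option maxRecDepth 1000000 in
theorem edges_3_100 : edgesRange E 3 1841 209960 = true := by decide +kernel

set_option maxRecDepth 1000000 in
theorem edges_4_84 : edgesRange E 4 1967 187027 = true := by decide +kernel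

set_option maxRecDepth 1000000 in
theorem edges_5_36 : edgesRange E 5 3231 92531 = true := by decide +kernel

set_option maxRecDepth 1000000 in
theorem edges_6_4 : edgesRange E 6 2177 9843 = true := by decide +kernel

set_option maxRecDepth 1000000 in
theorem edges_6_144 : edgesRange E 6 1991 328934 = true := by decide +kernel

set_option maxRecDepth 1000000 in
theorem edges_7_127 : edgesRange E 7 1663 272995 = true := by decide +kernel

set_option maxRecDepth 1000000 in
theorem edges_8_131 : edgesRange E 8 1527 272121 = true := by decide +kernel

set_option maxRecDepth 1000000 in
theorem edges_9_37 : edgesRange E 9 2310 85412 = true := by decide +kernel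

set_option maxRecDepth 1000000 in
theorem edges_9_162 : edgesRange E 9 1376 319535 = true := by decide +kernel

set_option maxRecDepth 1000000 in
theorem edges_11_4 : edgesRange E 11 2369 8365 = true := by decide +kernel

set_option maxRecDepth 1000000 in
theorem edges_11_132 : edgesRange E 11 1760 349354 = true := by decide +kernel

set_option maxRecDepth 1000000 in
theorem edges_0_36 : edgesRange E 0 1841 76964 = true := by decide +kernel

set_option maxRecDepth 1000000 in
theorem edges_0_110 : edgesRange E 0 1342 221368 = true := by decide +kernel

set_option maxRecDepth 1000000 in
theorem edges_1_36 : edgesRange E 1 2450 76562 = true := by decide +kernel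

set_option maxRecDepth 1000000 in
theorem edges_1_96 : edgesRange E 1 1945 195598 = true := by decide +kernel

set_option maxRecDepth 1000000 in
theorem edges_1_187 : edgesRange E 1 1445 352330 = true := by decide +kernel

set_option maxRecDepth 1000000 in
theorem edges_2_93 : edgesRange E 2 1876 192967 = true := by decide +kernel

set_option maxRecDepth 1000000 in
theorem edges_2_165 : edgesRange E 2 1521 319827 = true := by decide +kernel

set_option maxRecDepth 1000000 in
theorem edges_3_29 : edgesRange E 3 2268 63228 = true := by decide +kernel

set_option maxRecDepth 1000000 in
theorem edges_3_124 : edgesRange E 3 1842 253670 = true := by decide +kernel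

set_option maxRecDepth 1000000 in
theorem edges_4_34 : edgesRange E 4 2698 79614 = true := by decide +kernel

set_option maxRecDepth 1000000 in
theorem edges_4_96 : edgesRange E 4 1944 210360 = true := by decide +kernel

set_option maxRecDepth 1000000 in
theorem edges_5_15 : edgesRange E 5 2385 33830 = true := by decide +kernel

set_option maxRecDepth 1000000 in
theorem edges_5_90 : edgesRange E 5 2438 214721 = true := by decide +kernel

set_option maxRecDepth 1000000 in
theorem edges_5_158 : edgesRange E 5 1637 352011 = true := by decide +kernel

set_option maxRecDepth 1000000 in
theorem edges_6_85 : edgesRange E 6 1882 200855 = true := by decide +kernel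

set_option maxRecDepth 1000000 in
theorem edges_7_8 : edgesRange E 7 2290 19484 = true := by decide +kernel

set_option maxRecDepth 1000000 in
theorem edges_7_130 : edgesRange E 7 2078 278110 = true := by decide +kernel

set_option maxRecDepth 1000000 in
theorem edges_8_51 : edgesRange E 8 1908 126294 = true := by decide +kernel

set_option maxRecDepth 1000000 in
theorem edges_8_150 : edgesRange E 8 1972 305169 = true := by decide +kernel

set_option maxRecDepth 1000000 in
theorem edges_9_74 : edgesRange E 9 1628 163458 = true := by decide +kernel

set_option maxRecDepth 1000000 in
theorem edges_9_139 : edgesRange E 9 1629 279143 = true := by decide +kernel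

set_option maxRecDepth 1000000 in
theorem edges_10_78 : edgesRange E 10 2646 226191 = true := by decide +kernel

set_option maxRecDepth 1000000 in
theorem edges_11_77 : edgesRange E 11 2337 242011 = true := by decide +kernel

set_option maxRecDepth 1000000 in
theorem edges_0_48 : edgesRange E 0 1986 104840 = true := by decide +kernel

set_option maxRecDepth 1000000 in
theorem edges_0_104 : edgesRange E 0 1849 208102 = true := by decide +kernel

set_option maxRecDepth 1000000 in
theorem edges_0_156 : edgesRange E 0 1347 300787 = true := by decide +kernel

set_option maxRecDepth 1000000 in
theorem edges_1_50 : edgesRange E 1 1950 109972 = true := by decide +kernel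

set_option maxRecDepth 1000000 in
theorem edges_1_114 : edgesRange E 1 1760 227174 = true := by decide +kernel

set_option maxRecDepth 1000000 in
theorem edges_1_185 : edgesRange E 1 1557 349026 = true := by decide +kernel

set_option maxRecDepth 1000000 in
theorem edges_2_92 : edgesRange E 2 1704 191263 = true := by decide +kernel

set_option maxRecDepth 1000000 in
theorem edges_2_155 : edgesRange E 2 1622 302220 = true := by decide +kernel

set_option maxRecDepth 1000000 in
theorem edges_3_56 : edgesRange E 3 1855 130065 = true := by decide +kernel

set_option maxRecDepth 1000000 in
theorem edges_3_131 : edgesRange E 3 1944 266579 = true := by decide +kernel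

set_option maxRecDepth 1000000 in
theorem edges_4_19 : edgesRange E 4 2154 41313 = true := by decide +kernel

set_option maxRecDepth 1000000 in
theorem edges_4_148 : edgesRange E 4 1738 311820 = true := by decide +kernel

set_option maxRecDepth 1000000 in
theorem edges_5_71 : edgesRange E 5 2325 172922 = true := by decide +kernel

set_option maxRecDepth 1000000 in
theorem edges_5_131 : edgesRange E 5 1926 304223 = true := by decide +kernel

set_option maxRecDepth 1000000 in
theorem edges_6_55 : edgesRange E 6 1966 139566 = true := by decide +kernel

set_option maxRecDepth 1000000 in
theorem edges_6_139 : edgesRange E 6 1908 319200 = true := by decide +kernel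

set_option maxRecDepth 1000000 in
theorem edges_7_65 : edgesRange E 7 1887 155495 = true := by decide +kernel

set_option maxRecDepth 1000000 in
theorem edges_7_122 : edgesRange E 7 1917 262788 = true := by decide +kernel

set_option maxRecDepth 1000000 in
theorem edges_8_39 : edgesRange E 8 2974 96077 = true := by decide +kernel

set_option maxRecDepth 1000000 in
theorem edges_8_130 : edgesRange E 8 1942 270179 = true := by decide +kernel

set_option maxRecDepth 1000000 in
theorem edges_9_34 : edgesRange E 9 3090 77917 = true := by decide +kernel

set_option maxRecDepth 1000000 in
theorem edges_9_94 : edgesRange E 9 1429 199930 = true := by decide +kernel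

set_option maxRecDepth 1000000 in
theorem edges_9_179 : edgesRange E 9 1444 347368 = true := by decide +kernel

set_option maxRecDepth 1000000 in
theorem edges_10_80 : edgesRange E 10 2181 231465 = true := by decide +kernel

set_option maxRecDepth 1000000 in
theorem edges_11_70 : edgesRange E 11 2405 225471 = true := by decide +kernel

set_option maxRecDepth 1000000 in
theorem aliases_20 : aliasRange E 3117 79652 = true := by decide +kernel

set_option maxRecDepth 1000000 in
theorem edges_0_74 : edgesRange E 0 1376 157699 = true := by decide +kernel

set_option maxRecDepth 1000000 in
theorem edges_1_4 : edgesRange E 1 2009 7468 = true := by decide +kernel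

set_option maxRecDepth 1000000 in
theorem edges_1_52 : edgesRange E 1 2814 114243 = true := by decide +kernel

set_option maxRecDepth 1000000 in
theorem edges_1_128 : edgesRange E 1 1753 251942 = true := by decide +kernel

set_option maxRecDepth 1000000 in
theorem edges_2_7 : edgesRange E 2 1882 13382 = true := by decide +kernel

set_option maxRecDepth 1000000 in
theorem edges_2_65 : edgesRange E 2 1832 142972 = true := by decide +kernel

set_option maxRecDepth 1000000 in
theorem edges_2_144 : edgesRange E 2 1784 283017 = true := by decide +kernel

set_option maxRecDepth 1000000 in
theorem edges_3_44 : edgesRange E 3 2715 101632 = true := by decide +kernel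

set_option maxRecDepth 1000000 in
theorem edges_3_101 : edgesRange E 3 1907 211801 = true := by decide +kernel

set_option maxRecDepth 1000000 in
theorem edges_4_2 : edgesRange E 4 2068 3985 = true := by decide +kernel

set_option maxRecDepth 1000000 in
theorem edges_4_36 : edgesRange E 4 2252 84535 = true := by decide +kernel

set_option maxRecDepth 1000000 in
theorem edges_4_106 : edgesRange E 4 2069 229842 = true := by decide +kernel

set_option maxRecDepth 1000000 in
theorem edges_5_19 : edgesRange E 5 2572 44314 = true := by decide +kernel

set_option maxRecDepth 1000000 in
theorem edges_5_53 : edgesRange E 5 2159 136055 = true := by decide +kernel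

set_option maxRecDepth 1000000 in
theorem edges_5_145 : edgesRange E 5 1711 329851 = true := by decide +kernel

set_option maxRecDepth 1000000 in
theorem edges_6_39 : edgesRange E 6 2612 100593 = true := by decide +kernel

set_option maxRecDepth 1000000 in
theorem edges_6_105 : edgesRange E 6 2471 243999 = true := by decide +kernel

set_option maxRecDepth 1000000 in
theorem edges_6_155 : edgesRange E 6 1760 349469 = true := by decide +kernel

set_option maxRecDepth 1000000 in
theorem edges_7_30 : edgesRange E 7 2149 74956 = true := by decide +kernel

set_option maxRecDepth 1000000 in
theorem edges_7_76 : edgesRange E 7 1732 176047 = true := by decide +kernel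

set_option maxRecDepth 1000000 in
theorem edges_7_159 : edgesRange E 7 1931 333946 = true := by decide +kernel

set_option maxRecDepth 1000000 in
theorem edges_8_41 : edgesRange E 8 2512 101220 = true := by decide +kernel

set_option maxRecDepth 1000000 in
theorem edges_8_90 : edgesRange E 8 1750 197712 = true := by decide +kernel

set_option maxRecDepth 1000000 in
theorem edges_8_146 : edgesRange E 8 1470 298684 = true := by decide +kernel

set_option maxRecDepth 1000000 in
theorem edges_9_25 : edgesRange E 9 1942 56244 = true := by decide +kernel

set_option maxRecDepth 1000000 in
theorem edges_9_73 : edgesRange E 9 1694 161764 = true := by decide +kernel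

set_option maxRecDepth 1000000 in
theorem edges_9_154 : edgesRange E 9 1507 305049 = true := by decide +kernel

set_option maxRecDepth 1000000 in
theorem edges_10_29 : edgesRange E 10 3793 89450 = true := by decide +kernel

set_option maxRecDepth 1000000 in
theorem edges_10_79 : edgesRange E 10 2628 228837 = true := by decide +kernel

set_option maxRecDepth 1000000 in
theorem edges_10_132 : edgesRange E 10 1824 340865 = true := by decide +kernel

set_option maxRecDepth 1000000 in
theorem edges_11_26 : edgesRange E 11 4531 91779 = true := by decide +kernel

set_option maxRecDepth 1000000 in
theorem edges_11_50 : edgesRange E 11 2684 173740 = true := by decide +kernel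

set_option maxRecDepth 1000000 in
theorem edges_11_107 : edgesRange E 11 1920 303355 = true := by decide +kernel

set_option maxRecDepth 1000000 in
theorem aliases_17 : aliasRange E 3192 69934 = true := by decide +kernel

set_option maxRecDepth 1000000 in
theorem aliases_43 : aliasRange E 8000 183507 = true := by decide +kernel

set_option maxRecDepth 1000000 in
theorem aliases_59 : aliasRange E 8000 311363 = true := by decide +kernel

set_option maxRecDepth 1000000 in
theorem rows_14 : rowsRange E RS 1500 21000 = true := by decide +kernel

set_option maxRecDepth 1000000 in
theorem rows_30 : rowsRange E RS 1500 45000 = true := by decide +kernel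

set_option maxRecDepth 1000000 in
theorem rows_46 : rowsRange E RS 1500 69000 = true := by decide +kernel

set_option maxRecDepth 1000000 in
theorem rows_62 : rowsRange E RS 1500 93000 = true := by decide +kernel

set_option maxRecDepth 1000000 in
theorem rows_78 : rowsRange E RS 1500 117000 = true := by decide +kernel

set_option maxRecDepth 1000000 in
theorem rows_94 : rowsRange E RS 1500 141000 = true := by decide +kernel

set_option maxRecDepth 1000000 in
theorem rows_110 : rowsRange E RS 1500 165000 = true := by decide +kernel

set_option maxRecDepth 1000000 in
theorem rows_126 : rowsRange E RS 1500 189000 = true := by decide +kernel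

set_option maxRecDepth 1000000 in
theorem rows_142 : rowsRange E RS 1500 213000 = true := by decide +kernel

set_option maxRecDepth 1000000 in
theorem rows_158 : rowsRange E RS 1500 237000 = true := by decide +kernel

set_option maxRecDepth 1000000 in
theorem rows_174 : rowsRange E RS 1500 261000 = true := by decide +kernel

set_option maxRecDepth 1000000 in
theorem rows_190 : rowsRange E RS 1500 285000 = true := by decide +kernel

set_option maxRecDepth 1000000 in
theorem rows_206 : rowsRange E RS 1500 309000 = true := by decide +kernel

set_option maxRecDepth 1000000 in
theorem rows_222 : rowsRange E RS 1500 333000 = true := by decide +kernel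

set_option maxRecDepth 1000000 in
theorem edges_2_187 : edgesRange E 2 1019 356030 = true := by decide +kernel

end Cfsg.Agent.Helper5.Fi24TC
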