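import Cfsg.Agent.Helper5.Fi24TCDatD
import Cfsg.Agent.Helper5.TC3A

/-! kernel checks of edges, aliases, rows: Fi24TC -/

set_option autoImplicit false
set_option Elab.async false

namespace Cfsg.Agent.Helper5.Fi24TC
open Cfsg.Agent.Helper5.TC

set_option maxRecDepth 1000000 in
theorem cnt_14 : cntFrom RS 20000 280000 0 = 20000 := by decide +kernel

set_option maxRecDepth 1000000 in
theorem edges_6_2 : edgesRange E 6 2575 4899 = true := by decide +kernel

set_option maxRecDepth 1000000 in
theorem edges_10_6 : edgesRange E 10 3147 14989 = true := by decide +kernel

set_option maxRecDepth 1000000 in
theorem edges_5_13 : edgesRange E 5 2436 28864 = true := by decide +kernel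

set_option maxRecDepth 1000000 in
theorem edges_10_3 : edgesRange E 10 2611 6835 = true := by decide +kernel

set_option maxRecDepth 1000000 in
theorem edges_0_25 : edgesRange E 0 2607 51183 = true := by decide +kernel

set_option maxRecDepth 1000000 in
theorem edges_0_107 : edgesRange E 0 2142 214604 = true := by decide +kernel

set_option maxRecDepth 1000000 in
theorem edges_1_61 : edgesRange E 1 1742 133473 = true := by decide +kernel

set_option maxRecDepth 1000000 in
theorem edges_2_15 : edgesRange E 2 2037 29573 = true := by decide +kernel

set_option maxRecDepth 1000000 in
theorem edges_2_152 : edgesRange E 2 1574 297508 = true := by decide +kernel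

set_option maxRecDepth 1000000 in
theorem edges_3_115 : edgesRange E 3 1801 237388 = true := by decide +kernel

set_option maxRecDepth 1000000 in
theorem edges_4_69 : edgesRange E 4 1766 158767 = true := by decide +kernel

set_option maxRecDepth 1000000 in
theorem edges_4_146 : edgesRange E 4 1784 308223 = true := by decide +kernel

set_option maxRecDepth 1000000 in
theorem edges_5_123 : edgesRange E 5 2117 288062 = true := by decide +kernel

set_option maxRecDepth 1000000 in
theorem edges_6_156 : edgesRange E 6 1743 351229 = true := by decide +kernel

set_option maxRecDepth 1000000 in
theorem edges_7_152 : edgesRange E 7 1595 320769 = true := by decide +kernel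

set_option maxRecDepth 1000000 in
theorem edges_8_125 : edgesRange E 8 1710 260536 = true := by decide +kernel

set_option maxRecDepth 1000000 in
theorem edges_9_123 : edgesRange E 9 1657 251101 = true := by decide +kernel

set_option maxRecDepth 1000000 in
theorem edges_10_75 : edgesRange E 10 2479 218815 = true := by decide +kernel

set_option maxRecDepth 1000000 in
theorem edges_11_103 : edgesRange E 11 1872 295972 = true := by decide +kernel

set_option maxRecDepth 1000000 in
theorem edges_0_66 : edgesRange E 0 1362 142826 = true := by decide +kernel

set_option maxRecDepth 1000000 in
theorem edges_0_165 : edgesRange E 0 1877 316856 = true := by decide +kernel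

set_option maxRecDepth 1000000 in
theorem edges_1_162 : edgesRange E 1 1682 311297 = true := by decide +kernel

set_option maxRecDepth 1000000 in
theorem edges_2_153 : edgesRange E 2 1506 299082 = true := by decide +kernel

set_option maxRecDepth 1000000 in
theorem edges_3_89 : edgesRange E 3 1840 190012 = true := by decide +kernel

set_option maxRecDepth 1000000 in
theorem edges_4_65 : edgesRange E 4 2017 151103 = true := by decide +kernel

set_option maxRecDepth 1000000 in
theorem edges_5_64 : edgesRange E 5 1929 158491 = true := by decide +kernel

set_option maxRecDepth 1000000 in
theorem edges_6_126 : edgesRange E 6 2236 290992 = true := by decide +kernel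

set_option maxRecDepth 1000000 in
theorem edges_7_167 : edgesRange E 7 1873 348683 = true := by decide +kernel

set_option maxRecDepth 1000000 in
theorem edges_8_105 : edgesRange E 8 1585 224660 = true := by decide +kernel

set_option maxRecDepth 1000000 in
theorem edges_9_150 : edgesRange E 9 1405 298752 = true := by decide +kernel

set_option maxRecDepth 1000000 in
theorem edges_10_100 : edgesRange E 10 2150 278601 = true := by decide +kernel

set_option maxRecDepth 1000000 in
theorem aliases_7 : aliasRange E 4300 32605 = true := by decide +kernel

set_option maxRecDepth 1000000 in
theorem edges_0_127 : edgesRange E 0 1357 250182 = true := by decide +kernel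

set_option maxRecDepth 1000000 in
theorem edges_1_59 : edgesRange E 1 1899 129853 = true := by decide +kernel

set_option maxRecDepth 1000000 in
theorem edges_1_176 : edgesRange E 1 1341 334945 = true := by decide +kernel

set_option maxRecDepth 1000000 in
theorem edges_2_71 : edgesRange E 2 1747 153926 = true := by decide +kernel

set_option maxRecDepth 1000000 in
theorem edges_2_167 : edgesRange E 2 1552 322809 = true := by decide +kernel

set_option maxRecDepth 1000000 in
theorem edges_3_107 : edgesRange E 3 1731 222893 = true := by decide +kernel

set_option maxRecDepth 1000000 in
theorem edges_4_86 : edgesRange E 4 1919 190984 = true := by decide +kernel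

set_option maxRecDepth 1000000 in
theorem edges_5_42 : edgesRange E 5 2442 109521 = true := by decide +kernel

set_option maxRecDepth 1000000 in
theorem edges_6_27 : edgesRange E 6 2783 66809 = true := by decide +kernel

set_option maxRecDepth 1000000 in
theorem edges_7_17 : edgesRange E 7 2385 41122 = true := by decide +kernel

set_option maxRecDepth 1000000 in
theorem edges_7_129 : edgesRange E 7 1692 276418 = true := by decide +kernel

set_option maxRecDepth 1000000 in
theorem edges_8_144 : edgesRange E 8 1989 295195 = true := by decide +kernel

set_option maxRecDepth 1000000 in
theorem edges_9_41 : edgesRange E 9 2726 96258 = true := by decide +kernel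

set_option maxRecDepth 1000000 in
theorem edges_9_166 : edgesRange E 9 1490 325488 = true := by decide +kernel

set_option maxRecDepth 1000000 in
theorem edges_11_13 : edgesRange E 11 4301 35029 = true := by decide +kernel

set_option maxRecDepth 1000000 in
theorem aliases_1 : aliasRange E 4113 5599 = true := by decide +kernel

set_option maxRecDepth 1000000 in
theorem edges_0_47 : edgesRange E 0 2058 102782 = true := by decide +kernel

set_option maxRecDepth 1000000 in
theorem edges_0_122 : edgesRange E 0 2474 241663 = true := by decide +kernel

set_option maxRecDepth 1000000 in
theorem edges_1_37 : edgesRange E 1 2764 79012 = true := by decide +kernel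

set_option maxRecDepth 1000000 in
theorem edges_1_100 : edgesRange E 1 1790 202261 = true := by decide +kernel

set_option maxRecDepth 1000000 in
theorem edges_1_189 : edgesRange E 1 1431 355330 = true := by decide +kernel

set_option maxRecDepth 1000000 in
theorem edges_2_94 : edgesRange E 2 1846 194843 = true := by decide +kernel

set_option maxRecDepth 1000000 in
theorem edges_2_171 : edgesRange E 2 1795 329427 = true := by decide +kernel

set_option maxRecDepth 1000000 in
theorem edges_3_31 : edgesRange E 3 3021 68112 = true := by decide +kernel

set_option maxRecDepth 1000000 in
theorem edges_3_130 : edgesRange E 3 1799 264780 = true := by decide +kernel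

set_option maxRecDepth 1000000 in
theorem edges_4_42 : edgesRange E 4 2470 101038 = true := by decide +kernel

set_option maxRecDepth 1000000 in
theorem edges_4_99 : edgesRange E 4 2003 216184 = true := by decide +kernel

set_option maxRecDepth 1000000 in
theorem edges_5_16 : edgesRange E 5 2887 36215 = true := by decide +kernel

set_option maxRecDepth 1000000 in
theorem edges_5_104 : edgesRange E 5 2114 246975 = true := by decide +kernel

set_option maxRecDepth 1000000 in
theorem edges_6_3 : edgesRange E 6 2369 7474 = true := by decide +kernel

set_option maxRecDepth 1000000 in
theorem edges_6_86 : edgesRange E 6 1963 202737 = true := by decide +kernel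

set_option maxRecDepth 1000000 in
theorem edges_7_16 : edgesRange E 7 2707 38415 = true := by decide +kernel

set_option maxRecDepth 1000000 in
theorem edges_7_146 : edgesRange E 7 1928 309102 = true := by decide +kernel

set_option maxRecDepth 1000000 in
theorem edges_8_54 : edgesRange E 8 1756 131825 = true := by decide +kernel

set_option maxRecDepth 1000000 in
theorem edges_8_157 : edgesRange E 8 1597 318288 = true := by decide +kernel

set_option maxRecDepth 1000000 in
theorem edges_9_77 : edgesRange E 9 1767 169033 = true := by decide +kernel

set_option maxRecDepth 1000000 in
theorem edges_9_143 : edgesRange E 9 1787 286212 = true := by decide +kernel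

set_option maxRecDepth 1000000 in
theorem edges_10_91 : edgesRange E 10 2333 258099 = true := by decide +kernel

set_option maxRecDepth 1000000 in
theorem edges_11_99 : edgesRange E 11 2064 287733 = true := by decide +kernel

set_option maxRecDepth 1000000 in
theorem edges_0_49 : edgesRange E 0 2546 106826 = true := by decide +kernel

set_option maxRecDepth 1000000 in
theorem edges_0_108 : edgesRange E 0 2474 216746 = true := by decide +kernel

set_option maxRecDepth 1000000 in
theorem edges_0_161 : edgesRange E 0 2209 307888 = true := by decide +kernel

set_option maxRecDepth 1000000 in
theorem edges_1_51 : edgesRange E 1 2321 111922 = true := by decide +kernel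

set_option maxRecDepth 1000000 in
theorem edges_1_117 : edgesRange E 1 2001 232423 = true := by decide +kernel

set_option maxRecDepth 1000000 in
theorem edges_2_4 : edgesRange E 2 1979 7570 = true := by decide +kernel

set_option maxRecDepth 1000000 in
theorem edges_2_97 : edgesRange E 2 1635 200184 = true := by decide +kernel

set_option maxRecDepth 1000000 in
theorem edges_2_166 : edgesRange E 2 1461 321348 = true := by decide +kernel

set_option maxRecDepth 1000000 in
theorem edges_3_58 : edgesRange E 3 1889 133796 = true := by decide +kernel

set_option maxRecDepth 1000000 in
theorem edges_3_132 : edgesRange E 3 1921 268523 = true := by decide +kernel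

set_option maxRecDepth 1000000 in
theorem edges_4_31 : edgesRange E 4 3216 71563 = true := by decide +kernel

set_option maxRecDepth 1000000 in
theorem edges_4_151 : edgesRange E 4 1881 317236 = true := by decide +kernel

set_option maxRecDepth 1000000 in
theorem edges_5_74 : edgesRange E 5 1976 179422 = true := by decide +kernel

set_option maxRecDepth 1000000 in
theorem edges_5_137 : edgesRange E 5 1999 315577 = true := by decide +kernel

set_option maxRecDepth 1000000 in
theorem edges_6_59 : edgesRange E 6 2058 147421 = true := by decide +kernel

set_option maxRecDepth 1000000 in
theorem edges_6_142 : edgesRange E 6 1977 325029 = true := by decide +kernel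

set_option maxRecDepth 1000000 in
theorem edges_7_67 : edgesRange E 7 1750 159113 = true := by decide +kernel

set_option maxRecDepth 1000000 in
theorem edges_7_135 : edgesRange E 7 1804 287997 = true := by decide +kernel

set_option maxRecDepth 1000000 in
theorem edges_8_55 : edgesRange E 8 1980 133581 = true := by decide +kernel

set_option maxRecDepth 1000000 in
theorem edges_8_133 : edgesRange E 8 1580 275158 = true := by decide +kernel

set_option maxRecDepth 1000000 in
theorem edges_9_35 : edgesRange E 9 2432 81007 = true := by decide +kernel

set_option maxRecDepth 1000000 in
theorem edges_9_104 : edgesRange E 9 2151 217447 = true := by decide +kernel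

set_option maxRecDepth 1000000 in
theorem edges_9_181 : edgesRange E 9 1773 350393 = true := by decide +kernel

set_option maxRecDepth 1000000 in
theorem edges_10_85 : edgesRange E 10 2191 244315 = true := by decide +kernel

set_option maxRecDepth 1000000 in
theorem edges_11_78 : edgesRange E 11 1955 244348 = true := by decide +kernel

set_option maxRecDepth 1000000 in
theorem aliases_30 : aliasRange E 4163 109487 = true := by decide +kernel

set_option maxRecDepth 1000000 in
theorem edges_0_81 : edgesRange E 0 2393 168077 = true := by decide +kernel

set_option maxRecDepth 1000000 in
theorem edges_1_10 : edgesRange E 1 1850 18934 = true := by decide +kernel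

set_option maxRecDepth 1000000 in
theorem edges_1_55 : edgesRange E 1 2409 121749 = true := by decide +kernel

set_option maxRecDepth 1000000 in
theorem edges_1_129 : edgesRange E 1 1794 253695 = true := by decide +kernel

set_option maxRecDepth 1000000 in
theorem edges_2_14 : edgesRange E 2 2268 27305 = true := by decide +kernel

set_option maxRecDepth 1000000 in
theorem edges_2_66 : edgesRange E 2 1841 144804 = true := by decide +kernel

set_option maxRecDepth 1000000 in
theorem edges_2_149 : edgesRange E 2 1861 291933 = true := by decide +kernel

set_option maxRecDepth 1000000 in
theorem edges_3_48 : edgesRange E 3 2222 111354 = true := by decide +kernel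

set_option maxRecDepth 1000000 in
theorem edges_3_103 : edgesRange E 3 1856 215464 = true := by decide +kernel

set_option maxRecDepth 1000000 in
theorem edges_4_5 : edgesRange E 4 1959 10438 = true := by decide +kernel

set_option maxRecDepth 1000000 in
theorem edges_4_37 : edgesRange E 4 3029 86787 = true := by decide +kernel

set_option maxRecDepth 1000000 in
theorem edges_4_112 : edgesRange E 4 2114 241927 = true := by decide +kernel

set_option maxRecDepth 1000000 in
theorem edges_5_22 : edgesRange E 5 3028 52717 = true := by decide +kernel

set_option maxRecDepth 1000000 in
theorem edges_5_59 : edgesRange E 5 2044 148016 = true := by decide +kernel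

set_option maxRecDepth 1000000 in
theorem edges_5_149 : edgesRange E 5 1570 336924 = true := by decide +kernel

set_option maxRecDepth 1000000 in
theorem edges_6_40 : edgesRange E 6 2971 103205 = true := by decide +kernel

set_option maxRecDepth 1000000 in
theorem edges_6_106 : edgesRange E 6 2021 246470 = true := by decide +kernel

set_option maxRecDepth 1000000 in
theorem edges_6_157 : edgesRange E 6 1315 352972 = true := by decide +kernel

set_option maxRecDepth 1000000 in
theorem edges_7_31 : edgesRange E 7 2802 77105 = true := by decide +kernel

set_option maxRecDepth 1000000 in
theorem edges_7_81 : edgesRange E 7 1785 185026 = true := by decide +kernel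

set_option maxRecDepth 1000000 in
theorem edges_7_170 : edgesRange E 7 1887 354244 = true := by decide +kernel

set_option maxRecDepth 1000000 in
theorem edges_8_45 : edgesRange E 8 2219 111050 = true := by decide +kernel

set_option maxRecDepth 1000000 in
theorem edges_8_94 : edgesRange E 8 1891 204407 = true := by decide +kernel

set_option maxRecDepth 1000000 in
theorem edges_8_159 : edgesRange E 8 1470 321347 = true := by decide +kernel

set_option maxRecDepth 1000000 in
theorem edges_9_26 : edgesRange E 9 3059 58186 = true := by decide +kernel

set_option maxRecDepth 1000000 in
theorem edges_9_79 : edgesRange E 9 1951 172580 = true := by decide +kernel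

set_option maxRecDepth 1000000 in
theorem edges_9_155 : edgesRange E 9 2047 306556 = true := by decide +kernel

set_option maxRecDepth 1000000 in
theorem edges_10_31 : edgesRange E 10 3200 96722 = true := by decide +kernel

set_option maxRecDepth 1000000 in
theorem edges_10_81 : edgesRange E 10 2519 233646 = true := by decide +kernel

set_option maxRecDepth 1000000 in
theorem edges_10_139 : edgesRange E 10 1646 352988 = true := by decide +kernel

set_option maxRecDepth 1000000 in
theorem edges_11_27 : edgesRange E 11 4277 96310 = true := by decide +kernel

set_option maxRecDepth 1000000 in
theorem edges_11_54 : edgesRange E 11 2379 184642 = true := by decide +kernel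

set_option maxRecDepth 1000000 in
theorem edges_11_108 : edgesRange E 11 1826 305275 = true := by decide +kernel

set_option maxRecDepth 1000000 in
theorem aliases_18 : aliasRange E 3480 73126 = true := by decide +kernel

set_option maxRecDepth 1000000 in
theorem aliases_44 : aliasRange E 7940 191507 = true := by decide +kernel

set_option maxRecDepth 1000000 in
theorem aliases_60 : aliasRange E 8000 319363 = true := by decide +kernel

set_option maxRecDepth 1000000 in
theorem rows_15 : rowsRange E RS 1500 22500 = true := by decide +kernel

set_option maxRecDepth 1000000 in
theorem rows_31 : rowsRange E RS 1500 46500 = true := by decide +kernel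

set_option maxRecDepth 1000000 in
theorem rows_47 : rowsRange E RS 1500 70500 = true := by decide +kernel

set_option maxRecDepth 1000000 in
theorem rows_63 : rowsRange E RS 1500 94500 = true := by decide +kernel

set_option maxRecDepth 1000000 in
theorem rows_79 : rowsRange E RS 1500 118500 = true := by decide +kernel

set_option maxRecDepth 1000000 in
theorem rows_95 : rowsRange E RS 1500 142500 = true := by decide +kernel

set_option maxRecDepth 1000000 in
theorem rows_111 : rowsRange E RS 1500 166500 = true := by decide +kernel

set_option maxRecDepth 1000000 in
theorem rows_127 : rowsRange E RS 1500 190500 = true := by decide +kernel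

set_option maxRecDepth 1000000 in
theorem rows_143 : rowsRange E RS 1500 214500 = true := by decide +kernel

set_option maxRecDepth 1000000 in
theorem rows_159 : rowsRange E RS 1500 238500 = true := by decide +kernel

set_option maxRecDepth 1000000 in
theorem rows_175 : rowsRange E RS 1500 262500 = true := by decide +kernel

set_option maxRecDepth 1000000 in
theorem rows_191 : rowsRange E RS 1500 286500 = true := by decide +kernel

set_option maxRecDepth 1000000 in
theorem rows_207 : rowsRange E RS 1500 310500 = true := by decide +kernel

set_option maxRecDepth 1000000 in
theorem rows_223 : rowsRange E RS 1500 334500 = true := by decide +kernel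

set_option maxRecDepth 1000000 in
theorem aliases_64 : aliasRange E 5686 351363 = true := by decide +kernel

set_option maxRecDepth 1000000 in
theorem edges_4_175 : edgesRange E 4 17 357032 = true := by decide +kernel

end Cfsg.Agent.Helper5.Fi24TC
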