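import Cfsg.Agent.Helper5.Fi24TCDatD
import Cfsg.Agent.Helper5.TC3A

/-! kernel checks of edges, aliases, rows: Fi24TC -/

set_option autoImplicit false
set_option Elab.async false

namespace Cfsg.Agent.Helper5.Fi24TC
open Cfsg.Agent.Helper5.TC

set_option maxRecDepth 1000000 in
theorem cnt_15 : cntFrom RS 20000 300000 0 = 20000 := by decide +kernel

set_option maxRecDepth 1000000 in
theorem edges_6_77 : edgesRange E 6 2007 184027 = true := by decide +kernel

set_option maxRecDepth 1000000 in
theorem edges_10_26 : edgesRange E 10 3304 79717 = true := by decide +kernel

set_option maxRecDepth 1000000 in
theorem edges_5_33 : edgesRange E 5 2506 83952 = true := by decide +kernel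

set_option maxRecDepth 1000000 in
theorem edges_10_35 : edgesRange E 10 2806 109529 = true := by decide +kernel

set_option maxRecDepth 1000000 in
theorem edges_0_27 : edgesRange E 0 1520 56294 = true := by decide +kernel

set_option maxRecDepth 1000000 in
theorem edges_0_142 : edgesRange E 0 1356 276321 = true := by decide +kernel

set_option maxRecDepth 1000000 in
theorem edges_1_69 : edgesRange E 1 2003 147439 = true := by decide +kernel

set_option maxRecDepth 1000000 in
theorem edges_2_23 : edgesRange E 2 2276 47239 = true := by decide +kernel

set_option maxRecDepth 1000000 in
theorem edges_2_156 : edgesRange E 2 1676 303842 = true := by decide +kernel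

set_option maxRecDepth 1000000 in
theorem edges_3_122 : edgesRange E 3 1817 250124 = true := by decide +kernel

set_option maxRecDepth 1000000 in
theorem edges_4_74 : edgesRange E 4 1985 168019 = true := by decide +kernel

set_option maxRecDepth 1000000 in
theorem edges_4_149 : edgesRange E 4 1849 313558 = true := by decide +kernel

set_option maxRecDepth 1000000 in
theorem edges_5_135 : edgesRange E 5 1933 311701 = true := by decide +kernel

set_option maxRecDepth 1000000 in
theorem edges_7_21 : edgesRange E 7 2872 50765 = true := by decide +kernel

set_option maxRecDepth 1000000 in
theorem edges_7_154 : edgesRange E 7 1898 324156 = true := by decide +kernel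

set_option maxRecDepth 1000000 in
theorem edges_8_142 : edgesRange E 8 2148 291065 = true := by decide +kernel

set_option maxRecDepth 1000000 in
theorem edges_9_133 : edgesRange E 9 1881 269523 = true := by decide +kernel

set_option maxRecDepth 1000000 in
theorem edges_10_98 : edgesRange E 10 2179 274314 = true := by decide +kernel

set_option maxRecDepth 1000000 in
theorem edges_11_104 : edgesRange E 11 1784 297844 = true := by decide +kernel

set_option maxRecDepth 1000000 in
theorem edges_0_72 : edgesRange E 0 2425 153535 = true := by decide +kernel

set_option maxRecDepth 1000000 in
theorem edges_0_175 : edgesRange E 0 2260 332974 = true := by decide +kernel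

set_option maxRecDepth 1000000 in
theorem edges_1_163 : edgesRange E 1 1733 312979 = true := by decide +kernel

set_option maxRecDepth 1000000 in
theorem edges_2_161 : edgesRange E 2 1700 312537 = true := by decide +kernel

set_option maxRecDepth 1000000 in
theorem edges_3_95 : edgesRange E 3 1734 200979 = true := by decide +kernel

set_option maxRecDepth 1000000 in
theorem edges_4_70 : edgesRange E 4 1883 160533 = true := by decide +kernel

set_option maxRecDepth 1000000 in
theorem edges_5_97 : edgesRange E 5 2188 230689 = true := by decide +kernel

set_option maxRecDepth 1000000 in
theorem edges_6_134 : edgesRange E 6 2061 308419 = true := by decide +kernel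

set_option maxRecDepth 1000000 in
theorem edges_8_3 : edgesRange E 8 2466 6339 = true := by decide +kernel

set_option maxRecDepth 1000000 in
theorem edges_8_124 : edgesRange E 8 1666 258870 = true := by decide +kernel

set_option maxRecDepth 1000000 in
theorem edges_9_151 : edgesRange E 9 1633 300157 = true := by decide +kernel

set_option maxRecDepth 1000000 in
theorem edges_10_106 : edgesRange E 10 2190 291622 = true := by decide +kernel

set_option maxRecDepth 1000000 in
theorem aliases_8 : aliasRange E 3628 36905 = true := by decide +kernel

set_option maxRecDepth 1000000 in
theorem edges_0_140 : edgesRange E 0 1349 273566 = true := by decide +kernel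

set_option maxRecDepth 1000000 in
theorem edges_1_63 : edgesRange E 1 1844 137017 = true := by decide +kernel

set_option maxRecDepth 1000000 in
theorem edges_1_178 : edgesRange E 1 1564 337750 = true := by decide +kernel

set_option maxRecDepth 1000000 in
theorem edges_2_72 : edgesRange E 2 1787 155673 = true := by decide +kernel

set_option maxRecDepth 1000000 in
theorem edges_2_169 : edgesRange E 2 1711 325983 = true := by decide +kernel

set_option maxRecDepth 1000000 in
theorem edges_3_118 : edgesRange E 3 1939 242941 = true := by decide +kernel

set_option maxRecDepth 1000000 in
theorem edges_4_89 : edgesRange E 4 1916 196946 = true := by decide +kernel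

set_option maxRecDepth 1000000 in
theorem edges_5_46 : edgesRange E 5 3046 120786 = true := by decide +kernel

set_option maxRecDepth 1000000 in
theorem edges_6_47 : edgesRange E 6 2728 122575 = true := by decide +kernel

set_option maxRecDepth 1000000 in
theorem edges_7_38 : edgesRange E 7 3054 95978 = true := by decide +kernel

set_option maxRecDepth 1000000 in
theorem edges_7_150 : edgesRange E 7 1992 317106 = true := by decide +kernel

set_option maxRecDepth 1000000 in
theorem edges_8_145 : edgesRange E 8 1500 297184 = true := by decide +kernel

set_option maxRecDepth 1000000 in
theorem edges_9_44 : edgesRange E 9 3392 103148 = true := by decide +kernel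

set_option maxRecDepth 1000000 in
theorem edges_9_167 : edgesRange E 9 1931 326978 = true := by decide +kernel

set_option maxRecDepth 1000000 in
theorem edges_11_19 : edgesRange E 11 4285 60623 = true := by decide +kernel

set_option maxRecDepth 1000000 in
theorem aliases_5 : aliasRange E 4483 24166 = true := by decide +kernel

set_option maxRecDepth 1000000 in
theorem edges_0_57 : edgesRange E 0 1404 126921 = true := by decide +kernel

set_option maxRecDepth 1000000 in
theorem edges_0_126 : edgesRange E 0 1406 248776 = true := by decide +kernel

set_option maxRecDepth 1000000 in
theorem edges_1_41 : edgesRange E 1 2682 88183 = true := by decide +kernel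

set_option maxRecDepth 1000000 in
theorem edges_1_105 : edgesRange E 1 1904 211425 = true := by decide +kernel

set_option maxRecDepth 1000000 in
theorem edges_2_8 : edgesRange E 2 1960 15264 = true := by decide +kernel

set_option maxRecDepth 1000000 in
theorem edges_2_98 : edgesRange E 2 1774 201819 = true := by decide +kernel

set_option maxRecDepth 1000000 in
theorem edges_2_172 : edgesRange E 2 1629 331222 = true := by decide +kernel

set_option maxRecDepth 1000000 in
theorem edges_3_32 : edgesRange E 3 2713 71133 = true := by decide +kernel

set_option maxRecDepth 1000000 in
theorem edges_3_136 : edgesRange E 3 1823 275680 = true := by decide +kernel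

set_option maxRecDepth 1000000 in
theorem edges_4_45 : edgesRange E 4 2341 108619 = true := by decide +kernel

set_option maxRecDepth 1000000 in
theorem edges_4_124 : edgesRange E 4 2061 265854 = true := by decide +kernel

set_option maxRecDepth 1000000 in
theorem edges_5_17 : edgesRange E 5 2621 39102 = true := by decide +kernel

set_option maxRecDepth 1000000 in
theorem edges_5_106 : edgesRange E 5 2258 251318 = true := by decide +kernel

set_option maxRecDepth 1000000 in
theorem edges_6_7 : edgesRange E 6 2321 16308 = true := by decide +kernel

set_option maxRecDepth 1000000 in
theorem edges_6_87 : edgesRange E 6 2113 204700 = true := by decide +kernel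

set_option maxRecDepth 1000000 in
theorem edges_7_26 : edgesRange E 7 2520 63706 = true := by decide +kernel

set_option maxRecDepth 1000000 in
theorem edges_7_147 : edgesRange E 7 1819 311030 = true := by decide +kernel

set_option maxRecDepth 1000000 in
theorem edges_8_62 : edgesRange E 8 1813 146417 = true := by decide +kernel

set_option maxRecDepth 1000000 in
theorem edges_8_163 : edgesRange E 8 1649 328125 = true := by decide +kernel

set_option maxRecDepth 1000000 in
theorem edges_9_81 : edgesRange E 9 1637 176782 = true := by decide +kernel

set_option maxRecDepth 1000000 in
theorem edges_9_149 : edgesRange E 9 1397 297355 = true := by decide +kernel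

set_option maxRecDepth 1000000 in
theorem edges_10_94 : edgesRange E 10 2527 265310 = true := by decide +kernel

set_option maxRecDepth 1000000 in
theorem edges_11_100 : edgesRange E 11 2175 289797 = true := by decide +kernel

set_option maxRecDepth 1000000 in
theorem edges_0_50 : edgesRange E 0 2596 109372 = true := by decide +kernel

set_option maxRecDepth 1000000 in
theorem edges_0_109 : edgesRange E 0 2148 219220 = true := by decide +kernel

set_option maxRecDepth 1000000 in
theorem edges_0_162 : edgesRange E 0 2369 310097 = true := by decide +kernel

set_option maxRecDepth 1000000 in
theorem edges_1_57 : edgesRange E 1 1994 125993 = true := by decide +kernel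

set_option maxRecDepth 1000000 in
theorem edges_1_119 : edgesRange E 1 1734 236308 = true := by decide +kernel

set_option maxRecDepth 1000000 in
theorem edges_2_9 : edgesRange E 2 1960 17224 = true := by decide +kernel

set_option maxRecDepth 1000000 in
theorem edges_2_99 : edgesRange E 2 1716 203593 = true := by decide +kernel

set_option maxRecDepth 1000000 in
theorem edges_2_170 : edgesRange E 2 1733 327694 = true := by decide +kernel

set_option maxRecDepth 1000000 in
theorem edges_3_61 : edgesRange E 3 1777 139293 = true := by decide +kernel

set_option maxRecDepth 1000000 in
theorem edges_3_133 : edgesRange E 3 1887 270444 = true := by decide +kernel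

set_option maxRecDepth 1000000 in
theorem edges_4_35 : edgesRange E 4 2223 82312 = true := by decide +kernel

set_option maxRecDepth 1000000 in
theorem edges_4_158 : edgesRange E 4 1711 329182 = true := by decide +kernel

set_option maxRecDepth 1000000 in
theorem edges_5_79 : edgesRange E 5 2178 190105 = true := by decide +kernel

set_option maxRecDepth 1000000 in
theorem edges_5_140 : edgesRange E 5 1724 321099 = true := by decide +kernel

set_option maxRecDepth 1000000 in
theorem edges_6_65 : edgesRange E 6 1891 159753 = true := by decide +kernel

set_option maxRecDepth 1000000 in
theorem edges_6_150 : edgesRange E 6 1878 340571 = true := by decide +kernel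

set_option maxRecDepth 1000000 in
theorem edges_7_68 : edgesRange E 7 1734 160863 = true := by decide +kernel

set_option maxRecDepth 1000000 in
theorem edges_7_142 : edgesRange E 7 1716 301400 = true := by decide +kernel

set_option maxRecDepth 1000000 in
theorem edges_8_57 : edgesRange E 8 1883 137418 = true := by decide +kernel

set_option maxRecDepth 1000000 in
theorem edges_8_134 : edgesRange E 8 1633 276738 = true := by decide +kernel

set_option maxRecDepth 1000000 in
theorem edges_9_36 : edgesRange E 9 1973 83439 = true := by decide +kernel

set_option maxRecDepth 1000000 in
theorem edges_9_107 : edgesRange E 9 1467 223125 = true := by decide +kernel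

set_option maxRecDepth 1000000 in
theorem edges_10_19 : edgesRange E 10 3106 56969 = true := by decide +kernel

set_option maxRecDepth 1000000 in
theorem edges_10_87 : edgesRange E 10 2393 248793 = true := by decide +kernel

set_option maxRecDepth 1000000 in
theorem edges_11_79 : edgesRange E 11 2126 246303 = true := by decide +kernel

set_option maxRecDepth 1000000 in
theorem aliases_33 : aliasRange E 2341 118378 = true := by decide +kernel

set_option maxRecDepth 1000000 in
theorem edges_0_88 : edgesRange E 0 1366 181342 = true := by decide +kernel

set_option maxRecDepth 1000000 in
theorem edges_1_14 : edgesRange E 1 2187 26737 = true := by decide +kernel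

set_option maxRecDepth 1000000 in
theorem edges_1_64 : edgesRange E 1 1404 138861 = true := by decide +kernel

set_option maxRecDepth 1000000 in
theorem edges_1_136 : edgesRange E 1 1892 266359 = true := by decide +kernel

set_option maxRecDepth 1000000 in
theorem edges_2_19 : edgesRange E 2 2423 38197 = true := by decide +kernel

set_option maxRecDepth 1000000 in
theorem edges_2_69 : edgesRange E 2 1752 150321 = true := by decide +kernel

set_option maxRecDepth 1000000 in
theorem edges_2_157 : edgesRange E 2 1739 305518 = true := by decide +kernel

set_option maxRecDepth 1000000 in
theorem edges_3_49 : edgesRange E 3 2855 113576 = true := by decide +kernel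

set_option maxRecDepth 1000000 in
theorem edges_3_108 : edgesRange E 3 1747 224624 = true := by decide +kernel

set_option maxRecDepth 1000000 in
theorem edges_4_8 : edgesRange E 4 2139 16423 = true := by decide +kernel

set_option maxRecDepth 1000000 in
theorem edges_4_40 : edgesRange E 4 3202 95619 = true := by decide +kernel

set_option maxRecDepth 1000000 in
theorem edges_4_125 : edgesRange E 4 2055 267915 = true := by decide +kernel

set_option maxRecDepth 1000000 in
theorem edges_5_23 : edgesRange E 5 2313 55745 = true := by decide +kernel

set_option maxRecDepth 1000000 in
theorem edges_5_61 : edgesRange E 5 2130 152137 = true := by decide +kernel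

set_option maxRecDepth 1000000 in
theorem edges_5_157 : edgesRange E 5 1611 350400 = true := by decide +kernel

set_option maxRecDepth 1000000 in
theorem edges_6_44 : edgesRange E 6 3311 113679 = true := by decide +kernel

set_option maxRecDepth 1000000 in
theorem edges_6_107 : edgesRange E 6 2072 248491 = true := by decide +kernel

set_option maxRecDepth 1000000 in
theorem edges_7_0 : edgesRange E 7 1999 0 = true := by decide +kernel

set_option maxRecDepth 1000000 in
theorem edges_7_32 : edgesRange E 7 2748 79907 = true := by decide +kernel

set_option maxRecDepth 1000000 in
theorem edges_7_83 : edgesRange E 7 1882 188752 = true := by decide +kernel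

set_option maxRecDepth 1000000 in
theorem edges_8_1 : edgesRange E 8 2112 1850 = true := by decide +kernel

set_option maxRecDepth 1000000 in
theorem edges_8_47 : edgesRange E 8 2841 115999 = true := by decide +kernel

set_option maxRecDepth 1000000 in
theorem edges_8_96 : edgesRange E 8 1952 208085 = true := by decide +kernel

set_option maxRecDepth 1000000 in
theorem edges_8_162 : edgesRange E 8 1955 326170 = true := by decide +kernel

set_option maxRecDepth 1000000 in
theorem edges_9_30 : edgesRange E 9 3179 67984 = true := by decide +kernel

set_option maxRecDepth 1000000 in
theorem edges_9_80 : edgesRange E 9 2251 174531 = true := by decide +kernel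

set_option maxRecDepth 1000000 in
theorem edges_9_170 : edgesRange E 9 2112 332397 = true := by decide +kernel

set_option maxRecDepth 1000000 in
theorem edges_10_33 : edgesRange E 10 3733 102720 = true := by decide +kernel

set_option maxRecDepth 1000000 in
theorem edges_10_84 : edgesRange E 10 2562 241753 = true := by decide +kernel

set_option maxRecDepth 1000000 in
theorem edges_10_140 : edgesRange E 10 1662 354634 = true := by decide +kernel

set_option maxRecDepth 1000000 in
theorem edges_11_29 : edgesRange E 11 3949 104849 = true := by decide +kernel

set_option maxRecDepth 1000000 in
theorem edges_11_57 : edgesRange E 11 3013 192812 = true := by decide +kernel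

set_option maxRecDepth 1000000 in
theorem edges_11_109 : edgesRange E 11 1910 307101 = true := by decide +kernel

set_option maxRecDepth 1000000 in
theorem aliases_21 : aliasRange E 4380 82769 = true := by decide +kernel

set_option maxRecDepth 1000000 in
theorem aliases_45 : aliasRange E 7964 199447 = true := by decide +kernel

set_option maxRecDepth 1000000 in
theorem aliases_61 : aliasRange E 8000 327363 = true := by decide +kernel

set_option maxRecDepth 1000000 in
theorem rows_16 : rowsRange E RS 1500 24000 = true := by decide +kernel

set_option maxRecDepth 1000000 in
theorem rows_32 : rowsRange E RS 1500 48000 = true := by decide +kernel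

set_option maxRecDepth 1000000 in
theorem rows_48 : rowsRange E RS 1500 72000 = true := by decide +kernel

set_option maxRecDepth 1000000 in
theorem rows_64 : rowsRange E RS 1500 96000 = true := by decide +kernel

set_option maxRecDepth 1000000 in
theorem rows_80 : rowsRange E RS 1500 120000 = true := by decide +kernel

set_option maxRecDepth 1000000 in
theorem rows_96 : rowsRange E RS 1500 144000 = true := by decide +kernel

set_option maxRecDepth 1000000 in
theorem rows_112 : rowsRange E RS 1500 168000 = true := by decide +kernel

set_option maxRecDepth 1000000 in
theorem rows_128 : rowsRange E RS 1500 192000 = true := by decide +kernel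

set_option maxRecDepth 1000000 in
theorem rows_144 : rowsRange E RS 1500 216000 = true := by decide +kernel

set_option maxRecDepth 1000000 in
theorem rows_160 : rowsRange E RS 1500 240000 = true := by decide +kernel

set_option maxRecDepth 1000000 in
theorem rows_176 : rowsRange E RS 1500 264000 = true := by decide +kernel

set_option maxRecDepth 1000000 in
theorem rows_192 : rowsRange E RS 1500 288000 = true := by decide +kernel

set_option maxRecDepth 1000000 in
theorem rows_208 : rowsRange E RS 1500 312000 = true := by decide +kernel

set_option maxRecDepth 1000000 in
theorem rows_224 : rowsRange E RS 1500 336000 = true := by decide +kernel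

set_option maxRecDepth 1000000 in
theorem edges_11_136 : edgesRange E 11 909 356140 = true := by decide +kernel

set_option maxRecDepth 1000000 in
theorem edges_3_183 : edgesRange E 3 403 356646 = true := by decide +kernel

end Cfsg.Agent.Helper5.Fi24TC
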