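import Cfsg.Agent.Helper5.Fi24TCDatD
import Cfsg.Agent.Helper5.TC3A

/-! kernel checks of edges, aliases, rows: Fi24TC -/

set_option autoImplicit false
set_option Elab.async false

namespace Cfsg.Agent.Helper5.Fi24TC
open Cfsg.Agent.Helper5.TC

set_option maxRecDepth 1000000 in
theorem cnt_2 : cntFrom RS 20000 40000 0 = 11311 := by decide +kernel

set_option maxRecDepth 1000000 in
theorem edges_6_158 : edgesRange E 6 1451 354287 = true := by decide +kernel

set_option maxRecDepth 1000000 in
theorem edges_10_125 : edgesRange E 10 1913 328362 = true := by decide +kernel

set_option maxRecDepth 1000000 in
theorem edges_5_125 : edgesRange E 5 2031 292333 = true := by decide +kernel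

set_option maxRecDepth 1000000 in
theorem edges_10_123 : edgesRange E 10 1809 324718 = true := by decide +kernel

set_option maxRecDepth 1000000 in
theorem edges_0_42 : edgesRange E 0 3097 91604 = true := by decide +kernel

set_option maxRecDepth 1000000 in
theorem edges_1_5 : edgesRange E 1 2004 9477 = true := by decide +kernel

set_option maxRecDepth 1000000 in
theorem edges_1_156 : edgesRange E 1 1771 300775 = true := by decide +kernel

set_option maxRecDepth 1000000 in
theorem edges_2_104 : edgesRange E 2 1752 212596 = true := by decide +kernel

set_option maxRecDepth 1000000 in
theorem edges_3_67 : edgesRange E 3 1858 150143 = true := by decide +kernel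

set_option maxRecDepth 1000000 in
theorem edges_3_180 : edgesRange E 3 1505 352078 = true := by decide +kernel

set_option maxRecDepth 1000000 in
theorem edges_4_122 : edgesRange E 4 1945 261983 = true := by decide +kernel

set_option maxRecDepth 1000000 in
theorem edges_5_72 : edgesRange E 5 2207 175247 = true := by decide +kernel

set_option maxRecDepth 1000000 in
theorem edges_6_56 : edgesRange E 6 1895 141532 = true := by decide +kernel

set_option maxRecDepth 1000000 in
theorem edges_7_125 : edgesRange E 7 2125 269052 = true := by decide +kernel

set_option maxRecDepth 1000000 in
theorem edges_8_52 : edgesRange E 8 1692 128202 = true := by decide +kernel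

set_option maxRecDepth 1000000 in
theorem edges_9_71 : edgesRange E 9 1469 158638 = true := by decide +kernel

set_option maxRecDepth 1000000 in
theorem edges_9_182 : edgesRange E 9 1453 352166 = true := by decide +kernel

set_option maxRecDepth 1000000 in
theorem edges_11_18 : edgesRange E 11 4285 56338 = true := by decide +kernel

set_option maxRecDepth 1000000 in
theorem edges_0_28 : edgesRange E 0 1938 57814 = true := by decide +kernel

set_option maxRecDepth 1000000 in
theorem edges_0_134 : edgesRange E 0 2199 261744 = true := by decide +kernel

set_option maxRecDepth 1000000 in
theorem edges_1_60 : edgesRange E 1 1721 131752 = true := by decide +kernel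

set_option maxRecDepth 1000000 in
theorem edges_2_87 : edgesRange E 2 1786 182255 = true := by decide +kernel

set_option maxRecDepth 1000000 in
theorem edges_3_20 : edgesRange E 3 2258 41811 = true := by decide +kernel

set_option maxRecDepth 1000000 in
theorem edges_3_172 : edgesRange E 3 1637 339069 = true := by decide +kernel

set_option maxRecDepth 1000000 in
theorem edges_4_147 : edgesRange E 4 1813 310007 = true := by decide +kernel

set_option maxRecDepth 1000000 in
theorem edges_6_57 : edgesRange E 6 2104 143427 = true := by decide +kernel

set_option maxRecDepth 1000000 in
theorem edges_7_107 : edgesRange E 7 1861 234089 = true := by decide +kernel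

set_option maxRecDepth 1000000 in
theorem edges_8_60 : edgesRange E 8 1771 142813 = true := by decide +kernel

set_option maxRecDepth 1000000 in
theorem edges_9_90 : edgesRange E 9 1827 192268 = true := by decide +kernel

set_option maxRecDepth 1000000 in
theorem edges_10_34 : edgesRange E 10 3076 106453 = true := by decide +kernel

set_option maxRecDepth 1000000 in
theorem edges_11_68 : edgesRange E 11 2206 220945 = true := by decide +kernel

set_option maxRecDepth 1000000 in
theorem edges_0_77 : edgesRange E 0 1356 161894 = true := by decide +kernel

set_option maxRecDepth 1000000 in
theorem edges_1_8 : edgesRange E 1 1852 15131 = true := by decide +kernel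

set_option maxRecDepth 1000000 in
theorem edges_1_125 : edgesRange E 1 1626 246971 = true := by decide +kernel

set_option maxRecDepth 1000000 in
theorem edges_2_17 : edgesRange E 2 2053 33880 = true := by decide +kernel

set_option maxRecDepth 1000000 in
theorem edges_2_115 : edgesRange E 2 1924 231931 = true := by decide +kernel

set_option maxRecDepth 1000000 in
theorem edges_3_40 : edgesRange E 3 3086 91000 = true := by decide +kernel

set_option maxRecDepth 1000000 in
theorem edges_4_12 : edgesRange E 4 2137 24969 = true := by decide +kernel

set_option maxRecDepth 1000000 in
theorem edges_4_165 : edgesRange E 4 1685 340728 = true := by decide +kernel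

set_option maxRecDepth 1000000 in
theorem edges_5_126 : edgesRange E 5 2186 294364 = true := by decide +kernel

set_option maxRecDepth 1000000 in
theorem edges_6_92 : edgesRange E 6 2288 215413 = true := by decide +kernel

set_option maxRecDepth 1000000 in
theorem edges_7_102 : edgesRange E 7 1761 224678 = true := by decide +kernel

set_option maxRecDepth 1000000 in
theorem edges_8_71 : edgesRange E 8 1945 162740 = true := by decide +kernel

set_option maxRecDepth 1000000 in
theorem edges_8_169 : edgesRange E 8 1628 338498 = true := by decide +kernel

set_option maxRecDepth 1000000 in
theorem edges_9_100 : edgesRange E 9 1761 210225 = true := by decide +kernel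

set_option maxRecDepth 1000000 in
theorem edges_10_21 : edgesRange E 10 3132 63229 = true := by decide +kernel

set_option maxRecDepth 1000000 in
theorem edges_11_86 : edgesRange E 11 2269 261105 = true := by decide +kernel

set_option maxRecDepth 1000000 in
theorem edges_0_7 : edgesRange E 0 1656 13489 = true := by decide +kernel

set_option maxRecDepth 1000000 in
theorem edges_0_90 : edgesRange E 0 1408 184120 = true := by decide +kernel

set_option maxRecDepth 1000000 in
theorem edges_0_189 : edgesRange E 0 1398 355503 = true := by decide +kernel

set_option maxRecDepth 1000000 in
theorem edges_1_83 : edgesRange E 1 1904 172429 = true := by decide +kernel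

set_option maxRecDepth 1000000 in
theorem edges_1_130 : edgesRange E 1 1597 255489 = true := by decide +kernel

set_option maxRecDepth 1000000 in
theorem edges_2_73 : edgesRange E 2 1707 157460 = true := by decide +kernel

set_option maxRecDepth 1000000 in
theorem edges_2_125 : edgesRange E 2 1737 249748 = true := by decide +kernel

set_option maxRecDepth 1000000 in
theorem edges_3_8 : edgesRange E 3 2062 15642 = true := by decide +kernel

set_option maxRecDepth 1000000 in
theorem edges_3_93 : edgesRange E 3 1777 197444 = true := by decide +kernel

set_option maxRecDepth 1000000 in
theorem edges_3_163 : edgesRange E 3 1623 323794 = true := by decide +kernel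

set_option maxRecDepth 1000000 in
theorem edges_4_67 : edgesRange E 4 1907 155110 = true := by decide +kernel

set_option maxRecDepth 1000000 in
theorem edges_4_156 : edgesRange E 4 1709 325818 = true := by decide +kernel

set_option maxRecDepth 1000000 in
theorem edges_5_67 : edgesRange E 5 2152 164380 = true := by decide +kernel

set_option maxRecDepth 1000000 in
theorem edges_5_132 : edgesRange E 5 1882 306149 = true := by decide +kernel

set_option maxRecDepth 1000000 in
theorem edges_6_51 : edgesRange E 6 2006 131308 = true := by decide +kernel

set_option maxRecDepth 1000000 in
theorem edges_6_123 : edgesRange E 6 2206 284425 = true := by decide +kernel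

set_option maxRecDepth 1000000 in
theorem edges_7_79 : edgesRange E 7 1753 181327 = true := by decide +kernel

set_option maxRecDepth 1000000 in
theorem edges_8_10 : edgesRange E 8 2392 23235 = true := by decide +kernel

set_option maxRecDepth 1000000 in
theorem edges_8_112 : edgesRange E 8 1764 236964 = true := by decide +kernel

set_option maxRecDepth 1000000 in
theorem edges_9_27 : edgesRange E 9 1984 61245 = true := by decide +kernel

set_option maxRecDepth 1000000 in
theorem edges_9_105 : edgesRange E 9 2041 219598 = true := by decide +kernel

set_option maxRecDepth 1000000 in
theorem edges_10_17 : edgesRange E 10 3311 50463 = true := by decide +kernel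

set_option maxRecDepth 1000000 in
theorem edges_10_136 : edgesRange E 10 1602 347879 = true := by decide +kernel

set_option maxRecDepth 1000000 in
theorem edges_0_12 : edgesRange E 0 1524 23340 = true := by decide +kernel

set_option maxRecDepth 1000000 in
theorem edges_0_70 : edgesRange E 0 2399 148822 = true := by decide +kernel

set_option maxRecDepth 1000000 in
theorem edges_0_131 : edgesRange E 0 1415 255673 = true := by decide +kernel

set_option maxRecDepth 1000000 in
theorem edges_1_3 : edgesRange E 1 2035 5433 = true := by decide +kernel

set_option maxRecDepth 1000000 in
theorem edges_1_78 : edgesRange E 1 1887 163316 = true := by decide +kernel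

set_option maxRecDepth 1000000 in
theorem edges_1_154 : edgesRange E 1 1558 297727 = true := by decide +kernel

set_option maxRecDepth 1000000 in
theorem edges_2_40 : edgesRange E 2 2741 88119 = true := by decide +kernel

set_option maxRecDepth 1000000 in
theorem edges_2_120 : edgesRange E 2 1893 240988 = true := by decide +kernel

set_option maxRecDepth 1000000 in
theorem edges_3_14 : edgesRange E 3 2375 28056 = true := by decide +kernel

set_option maxRecDepth 1000000 in
theorem edges_3_99 : edgesRange E 3 1857 208103 = true := by decide +kernel

set_option maxRecDepth 1000000 in
theorem edges_3_170 : edgesRange E 3 1561 335920 = true := by decide +kernel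

set_option maxRecDepth 1000000 in
theorem edges_4_97 : edgesRange E 4 1865 212304 = true := by decide +kernel

set_option maxRecDepth 1000000 in
theorem edges_5_48 : edgesRange E 5 1984 126017 = true := by decide +kernel

set_option maxRecDepth 1000000 in
theorem edges_5_99 : edgesRange E 5 2308 235243 = true := by decide +kernel

set_option maxRecDepth 1000000 in
theorem edges_6_13 : edgesRange E 6 2331 30680 = true := by decide +kernel

set_option maxRecDepth 1000000 in
theorem edges_6_94 : edgesRange E 6 2324 220003 = true := by decide +kernel

set_option maxRecDepth 1000000 in
theorem edges_7_42 : edgesRange E 7 2341 106850 = true := by decide +kernel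

set_option maxRecDepth 1000000 in
theorem edges_7_100 : edgesRange E 7 1736 221202 = true := by decide +kernel

set_option maxRecDepth 1000000 in
theorem edges_7_168 : edgesRange E 7 1902 350556 = true := by decide +kernel

set_option maxRecDepth 1000000 in
theorem edges_8_93 : edgesRange E 8 1644 202763 = true := by decide +kernel

set_option maxRecDepth 1000000 in
theorem edges_8_170 : edgesRange E 8 1892 340126 = true := by decide +kernel

set_option maxRecDepth 1000000 in
theorem edges_9_65 : edgesRange E 9 1943 147389 = true := by decide +kernel

set_option maxRecDepth 1000000 in
theorem edges_9_135 : edgesRange E 9 1432 272822 = true := by decide +kernel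

set_option maxRecDepth 1000000 in
theorem edges_10_42 : edgesRange E 10 2465 130885 = true := by decide +kernel

set_option maxRecDepth 1000000 in
theorem edges_11_3 : edgesRange E 11 2207 6158 = true := by decide +kernel

set_option maxRecDepth 1000000 in
theorem edges_11_127 : edgesRange E 11 1784 340425 = true := by decide +kernel

set_option maxRecDepth 1000000 in
theorem edges_0_23 : edgesRange E 0 2595 45858 = true := by decide +kernel

set_option maxRecDepth 1000000 in
theorem edges_0_125 : edgesRange E 0 1419 247357 = true := by decide +kernel

set_option maxRecDepth 1000000 in
theorem edges_1_29 : edgesRange E 1 2386 60026 = true := by decide +kernel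

set_option maxRecDepth 1000000 in
theorem edges_1_81 : edgesRange E 1 1726 168913 = true := by decide +kernel

set_option maxRecDepth 1000000 in
theorem edges_1_153 : edgesRange E 1 1455 296272 = true := by decide +kernel

set_option maxRecDepth 1000000 in
theorem edges_2_37 : edgesRange E 2 2276 81370 = true := by decide +kernel

set_option maxRecDepth 1000000 in
theorem edges_2_89 : edgesRange E 2 1785 185840 = true := by decide +kernel

set_option maxRecDepth 1000000 in
theorem edges_2_178 : edgesRange E 2 1738 341218 = true := by decide +kernel

set_option maxRecDepth 1000000 in
theorem edges_3_64 : edgesRange E 3 1823 144671 = true := by decide +kernel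

set_option maxRecDepth 1000000 in
theorem edges_3_128 : edgesRange E 3 1914 261062 = true := by decide +kernel

set_option maxRecDepth 1000000 in
theorem edges_4_18 : edgesRange E 4 2696 38617 = true := by decide +kernel

set_option maxRecDepth 1000000 in
theorem edges_4_64 : edgesRange E 4 1962 149141 = true := by decide +kernel

set_option maxRecDepth 1000000 in
theorem edges_4_139 : edgesRange E 4 2003 295212 = true := by decide +kernel

set_option maxRecDepth 1000000 in
theorem edges_5_28 : edgesRange E 5 3277 69320 = true := by decide +kernel

set_option maxRecDepth 1000000 in
theorem edges_5_82 : edgesRange E 5 2254 197033 = true := by decide +kernel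

set_option maxRecDepth 1000000 in
theorem edges_6_17 : edgesRange E 6 2329 40772 = true := by decide +kernel

set_option maxRecDepth 1000000 in
theorem edges_6_62 : edgesRange E 6 2117 153770 = true := by decide +kernel

set_option maxRecDepth 1000000 in
theorem edges_6_124 : edgesRange E 6 2178 286631 = true := by decide +kernel

set_option maxRecDepth 1000000 in
theorem edges_7_7 : edgesRange E 7 2330 17154 = true := by decide +kernel

set_option maxRecDepth 1000000 in
theorem edges_7_41 : edgesRange E 7 2861 103989 = true := by decide +kernel

set_option maxRecDepth 1000000 in
theorem edges_7_96 : edgesRange E 7 1758 213178 = true := by decide +kernel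

set_option maxRecDepth 1000000 in
theorem edges_8_7 : edgesRange E 8 2499 15879 = true := by decide +kernel

set_option maxRecDepth 1000000 in
theorem edges_8_68 : edgesRange E 8 1720 157571 = true := by decide +kernel

set_option maxRecDepth 1000000 in
theorem edges_8_106 : edgesRange E 8 1611 226245 = true := by decide +kernel

set_option maxRecDepth 1000000 in
theorem edges_9_2 : edgesRange E 9 2142 3778 = true := by decide +kernel

set_option maxRecDepth 1000000 in
theorem edges_9_42 : edgesRange E 9 2110 98984 = true := by decide +kernel

set_option maxRecDepth 1000000 in
theorem edges_9_101 : edgesRange E 9 1767 211986 = true := by decide +kernel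

set_option maxRecDepth 1000000 in
theorem edges_10_2 : edgesRange E 10 2406 4429 = true := by decide +kernel

set_option maxRecDepth 1000000 in
theorem edges_10_53 : edgesRange E 10 2466 159557 = true := by decide +kernel

set_option maxRecDepth 1000000 in
theorem edges_10_95 : edgesRange E 10 2335 267837 = true := by decide +kernel

set_option maxRecDepth 1000000 in
theorem edges_11_9 : edgesRange E 11 3010 21067 = true := by decide +kernel

set_option maxRecDepth 1000000 in
theorem edges_11_36 : edgesRange E 11 3283 131375 = true := by decide +kernel

set_option maxRecDepth 1000000 in
theorem edges_11_69 : edgesRange E 11 2320 223151 = true := by decide +kernel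

set_option maxRecDepth 1000000 in
theorem edges_11_124 : edgesRange E 11 1764 335196 = true := by decide +kernel

set_option maxRecDepth 1000000 in
theorem aliases_29 : aliasRange E 3392 106095 = true := by decide +kernel

set_option maxRecDepth 1000000 in
theorem aliases_49 : aliasRange E 8000 231363 = true := by decide +kernel

set_option maxRecDepth 1000000 in
theorem rows_0 : rowsRange E RS 1500 0 = true := by decide +kernel

set_option maxRecDepth 1000000 in
theorem rows_3 : rowsRange E RS 1500 4500 = true := by decide +kernel

set_option maxRecDepth 1000000 in
theorem rows_19 : rowsRange E RS 1500 28500 = true := by decide +kernel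

set_option maxRecDepth 1000000 in
theorem rows_35 : rowsRange E RS 1500 52500 = true := by decide +kernel

set_option maxRecDepth 1000000 in
theorem rows_51 : rowsRange E RS 1500 76500 = true := by decide +kernel

set_option maxRecDepth 1000000 in
theorem rows_67 : rowsRange E RS 1500 100500 = true := by decide +kernel

set_option maxRecDepth 1000000 in
theorem rows_83 : rowsRange E RS 1500 124500 = true := by decide +kernel

set_option maxRecDepth 1000000 in
theorem rows_99 : rowsRange E RS 1500 148500 = true := by decide +kernel

set_option maxRecDepth 1000000 in
theorem rows_115 : rowsRange E RS 1500 172500 = true := by decide +kernel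

set_option maxRecDepth 1000000 in
theorem rows_131 : rowsRange E RS 1500 196500 = true := by decide +kernel

set_option maxRecDepth 1000000 in
theorem rows_147 : rowsRange E RS 1500 220500 = true := by decide +kernel

set_option maxRecDepth 1000000 in
theorem rows_163 : rowsRange E RS 1500 244500 = true := by decide +kernel

set_option maxRecDepth 1000000 in
theorem rows_179 : rowsRange E RS 1500 268500 = true := by decide +kernel

set_option maxRecDepth 1000000 in
theorem rows_195 : rowsRange E RS 1500 292500 = true := by decide +kernel

set_option maxRecDepth 1000000 in
theorem rows_211 : rowsRange E RS 1500 316500 = true := by decide +kernel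

set_option maxRecDepth 1000000 in
theorem rows_227 : rowsRange E RS 1500 340500 = true := by decide +kernel

set_option maxRecDepth 1000000 in
theorem edges_9_185 : edgesRange E 9 355 356694 = true := by decide +kernel

end Cfsg.Agent.Helper5.Fi24TC
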