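import Cfsg.Agent.Helper5.Fi24TCDatD
import Cfsg.Agent.Helper5.TC3A

/-! kernel checks of edges, aliases, rows: Fi24TC -/

set_option autoImplicit false
set_option Elab.async false

namespace Cfsg.Agent.Helper5.Fi24TC
open Cfsg.Agent.Helper5.TC

set_option maxRecDepth 1000000 in
theorem cnt_3 : cntFrom RS 20000 60000 0 = 10452 := by decide +kernel

set_option maxRecDepth 1000000 in
theorem edges_6_159 : edgesRange E 6 1040 355738 = true := by decide +kernel

set_option maxRecDepth 1000000 in
theorem edges_10_120 : edgesRange E 10 1776 319381 = true := by decide +kernel

set_option maxRecDepth 1000000 in
theorem edges_5_118 : edgesRange E 5 2130 277845 = true := by decide +kernel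

set_option maxRecDepth 1000000 in
theorem edges_10_119 : edgesRange E 10 1849 317532 = true := by decide +kernel

set_option maxRecDepth 1000000 in
theorem edges_0_40 : edgesRange E 0 2910 85634 = true := by decide +kernel

set_option maxRecDepth 1000000 in
theorem edges_1_2 : edgesRange E 1 1912 3521 = true := by decide +kernel

set_option maxRecDepth 1000000 in
theorem edges_1_145 : edgesRange E 1 1808 281729 = true := by decide +kernel

set_option maxRecDepth 1000000 in
theorem edges_2_95 : edgesRange E 2 1848 196689 = true := by decide +kernel

set_option maxRecDepth 1000000 in
theorem edges_3_65 : edgesRange E 3 1786 146494 = true := by decide +kernel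

set_option maxRecDepth 1000000 in
theorem edges_3_171 : edgesRange E 3 1588 337481 = true := by decide +kernel

set_option maxRecDepth 1000000 in
theorem edges_4_121 : edgesRange E 4 1973 260010 = true := by decide +kernel

set_option maxRecDepth 1000000 in
theorem edges_5_56 : edgesRange E 5 1906 142063 = true := by decide +kernel

set_option maxRecDepth 1000000 in
theorem edges_6_49 : edgesRange E 6 2070 127301 = true := by decide +kernel

set_option maxRecDepth 1000000 in
theorem edges_7_118 : edgesRange E 7 2031 255064 = true := by decide +kernel

set_option maxRecDepth 1000000 in
theorem edges_8_48 : edgesRange E 8 2750 118840 = true := by decide +kernel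

set_option maxRecDepth 1000000 in
theorem edges_9_70 : edgesRange E 9 1648 156990 = true := by decide +kernel

set_option maxRecDepth 1000000 in
theorem edges_9_165 : edgesRange E 9 1570 323918 = true := by decide +kernel

set_option maxRecDepth 1000000 in
theorem edges_11_8 : edgesRange E 11 3014 18053 = true := by decide +kernel

set_option maxRecDepth 1000000 in
theorem edges_0_19 : edgesRange E 0 2498 37914 = true := by decide +kernel

set_option maxRecDepth 1000000 in
theorem edges_0_128 : edgesRange E 0 1337 251539 = true := by decide +kernel

set_option maxRecDepth 1000000 in
theorem edges_1_56 : edgesRange E 1 1835 124158 = true := by decide +kernel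

set_option maxRecDepth 1000000 in
theorem edges_2_68 : edgesRange E 2 1845 148476 = true := by decide +kernel

set_option maxRecDepth 1000000 in
theorem edges_3_18 : edgesRange E 3 2506 36971 = true := by decide +kernel

set_option maxRecDepth 1000000 in
theorem edges_3_168 : edgesRange E 3 1728 332288 = true := by decide +kernel

set_option maxRecDepth 1000000 in
theorem edges_4_138 : edgesRange E 4 1940 293272 = true := by decide +kernel

set_option maxRecDepth 1000000 in
theorem edges_6_43 : edgesRange E 6 2488 111191 = true := by decide +kernel

set_option maxRecDepth 1000000 in
theorem edges_7_93 : edgesRange E 7 1933 207466 = true := by decide +kernel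

set_option maxRecDepth 1000000 in
theorem edges_8_53 : edgesRange E 8 1931 129894 = true := by decide +kernel

set_option maxRecDepth 1000000 in
theorem edges_9_59 : edgesRange E 9 2153 136792 = true := by decide +kernel

set_option maxRecDepth 1000000 in
theorem edges_10_27 : edgesRange E 10 2898 83021 = true := by decide +kernel

set_option maxRecDepth 1000000 in
theorem edges_11_55 : edgesRange E 11 2770 187021 = true := by decide +kernel

set_option maxRecDepth 1000000 in
theorem edges_0_71 : edgesRange E 0 2314 151221 = true := by decide +kernel

set_option maxRecDepth 1000000 in
theorem edges_1_6 : edgesRange E 1 1725 11481 = true := by decide +kernel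

set_option maxRecDepth 1000000 in
theorem edges_1_124 : edgesRange E 1 1409 245562 = true := by decide +kernel

set_option maxRecDepth 1000000 in
theorem edges_2_11 : edgesRange E 2 2106 21137 = true := by decide +kernel

set_option maxRecDepth 1000000 in
theorem edges_2_109 : edgesRange E 2 1619 221672 = true := by decide +kernel

set_option maxRecDepth 1000000 in
theorem edges_3_36 : edgesRange E 3 2353 81238 = true := by decide +kernel

set_option maxRecDepth 1000000 in
theorem edges_4_4 : edgesRange E 4 2207 8231 = true := by decide +kernel

set_option maxRecDepth 1000000 in
theorem edges_4_155 : edgesRange E 4 1634 324184 = true := by decide +kernel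

set_option maxRecDepth 1000000 in
theorem edges_5_121 : edgesRange E 5 2050 284025 = true := by decide +kernel

set_option maxRecDepth 1000000 in
theorem edges_6_90 : edgesRange E 6 2088 211083 = true := by decide +kernel

set_option maxRecDepth 1000000 in
theorem edges_7_94 : edgesRange E 7 1892 209399 = true := by decide +kernel

set_option maxRecDepth 1000000 in
theorem edges_8_38 : edgesRange E 8 2445 93632 = true := by decide +kernel

set_option maxRecDepth 1000000 in
theorem edges_8_166 : edgesRange E 8 2104 333384 = true := by decide +kernel

set_option maxRecDepth 1000000 in
theorem edges_9_98 : edgesRange E 9 1561 206416 = true := by decide +kernel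

set_option maxRecDepth 1000000 in
theorem edges_10_18 : edgesRange E 10 3195 53774 = true := by decide +kernel

set_option maxRecDepth 1000000 in
theorem edges_11_76 : edgesRange E 11 2517 239494 = true := by decide +kernel

set_option maxRecDepth 1000000 in
theorem edges_0_5 : edgesRange E 0 1653 9769 = true := by decide +kernel

set_option maxRecDepth 1000000 in
theorem edges_0_87 : edgesRange E 0 1394 179948 = true := by decide +kernel

set_option maxRecDepth 1000000 in
theorem edges_0_180 : edgesRange E 0 1468 340611 = true := by decide +kernel

set_option maxRecDepth 1000000 in
theorem edges_1_80 : edgesRange E 1 1937 166976 = true := by decide +kernel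

set_option maxRecDepth 1000000 in
theorem edges_1_126 : edgesRange E 1 1550 248597 = true := by decide +kernel

set_option maxRecDepth 1000000 in
theorem edges_2_44 : edgesRange E 2 2118 98873 = true := by decide +kernel

set_option maxRecDepth 1000000 in
theorem edges_2_124 : edgesRange E 2 1601 248147 = true := by decide +kernel

set_option maxRecDepth 1000000 in
theorem edges_3_2 : edgesRange E 3 2010 3812 = true := by decide +kernel

set_option maxRecDepth 1000000 in
theorem edges_3_92 : edgesRange E 3 1896 195548 = true := by decide +kernel

set_option maxRecDepth 1000000 in
theorem edges_3_161 : edgesRange E 3 1554 320545 = true := by decide +kernel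

set_option maxRecDepth 1000000 in
theorem edges_4_61 : edgesRange E 4 1931 143542 = true := by decide +kernel

set_option maxRecDepth 1000000 in
theorem edges_4_152 : edgesRange E 4 1689 319117 = true := by decide +kernel

set_option maxRecDepth 1000000 in
theorem edges_5_62 : edgesRange E 5 2238 154267 = true := by decide +kernel

set_option maxRecDepth 1000000 in
theorem edges_5_130 : edgesRange E 5 1888 302335 = true := by decide +kernel

set_option maxRecDepth 1000000 in
theorem edges_6_46 : edgesRange E 6 2592 119983 = true := by decide +kernel

set_option maxRecDepth 1000000 in
theorem edges_6_122 : edgesRange E 6 2380 282045 = true := by decide +kernel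

set_option maxRecDepth 1000000 in
theorem edges_7_73 : edgesRange E 7 1846 170100 = true := by decide +kernel

set_option maxRecDepth 1000000 in
theorem edges_8_9 : edgesRange E 8 2556 20679 = true := by decide +kernel

set_option maxRecDepth 1000000 in
theorem edges_8_98 : edgesRange E 8 1680 211753 = true := by decide +kernel

set_option maxRecDepth 1000000 in
theorem edges_9_22 : edgesRange E 9 2566 48366 = true := by decide +kernel

set_option maxRecDepth 1000000 in
theorem edges_9_97 : edgesRange E 9 1743 204673 = true := by decide +kernel

set_option maxRecDepth 1000000 in
theorem edges_9_180 : edgesRange E 9 1581 348812 = true := by decide +kernel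

set_option maxRecDepth 1000000 in
theorem edges_10_133 : edgesRange E 10 1764 342689 = true := by decide +kernel

set_option maxRecDepth 1000000 in
theorem edges_0_10 : edgesRange E 0 2314 18919 = true := by decide +kernel

set_option maxRecDepth 1000000 in
theorem edges_0_68 : edgesRange E 0 1379 145608 = true := by decide +kernel

set_option maxRecDepth 1000000 in
theorem edges_0_130 : edgesRange E 0 1376 254297 = true := by decide +kernel

set_option maxRecDepth 1000000 in
theorem edges_0_181 : edgesRange E 0 2246 342079 = true := by decide +kernel

set_option maxRecDepth 1000000 in
theorem edges_1_76 : edgesRange E 1 1743 159673 = true := by decide +kernel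

set_option maxRecDepth 1000000 in
theorem edges_1_146 : edgesRange E 1 1844 283537 = true := by decide +kernel

set_option maxRecDepth 1000000 in
theorem edges_2_33 : edgesRange E 2 2501 71513 = true := by decide +kernel

set_option maxRecDepth 1000000 in
theorem edges_2_118 : edgesRange E 2 1716 237460 = true := by decide +kernel

set_option maxRecDepth 1000000 in
theorem edges_3_12 : edgesRange E 3 2074 23817 = true := by decide +kernel

set_option maxRecDepth 1000000 in
theorem edges_3_94 : edgesRange E 3 1758 199221 = true := by decide +kernel

set_option maxRecDepth 1000000 in
theorem edges_3_169 : edgesRange E 3 1904 334016 = true := by decide +kernel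

set_option maxRecDepth 1000000 in
theorem edges_4_78 : edgesRange E 4 1816 175948 = true := by decide +kernel

set_option maxRecDepth 1000000 in
theorem edges_5_20 : edgesRange E 5 2696 46886 = true := by decide +kernel

set_option maxRecDepth 1000000 in
theorem edges_5_98 : edgesRange E 5 2366 232877 = true := by decide +kernel

set_option maxRecDepth 1000000 in
theorem edges_6_12 : edgesRange E 6 2690 27990 = true := by decide +kernel

set_option maxRecDepth 1000000 in
theorem edges_6_88 : edgesRange E 6 2082 206813 = true := by decide +kernel

set_option maxRecDepth 1000000 in
theorem edges_7_39 : edgesRange E 7 2244 99032 = true := by decide +kernel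

set_option maxRecDepth 1000000 in
theorem edges_7_98 : edgesRange E 7 2073 217020 = true := by decide +kernel

set_option maxRecDepth 1000000 in
theorem edges_7_165 : edgesRange E 7 1898 345004 = true := by decide +kernel

set_option maxRecDepth 1000000 in
theorem edges_8_92 : edgesRange E 8 1615 201148 = true := by decide +kernel

set_option maxRecDepth 1000000 in
theorem edges_8_168 : edgesRange E 8 1459 337039 = true := by decide +kernel

set_option maxRecDepth 1000000 in
theorem edges_9_62 : edgesRange E 9 1712 142096 = true := by decide +kernel

set_option maxRecDepth 1000000 in
theorem edges_9_130 : edgesRange E 9 1826 263512 = true := by decide +kernel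

set_option maxRecDepth 1000000 in
theorem edges_10_40 : edgesRange E 10 2424 125834 = true := by decide +kernel

set_option maxRecDepth 1000000 in
theorem edges_10_124 : edgesRange E 10 1835 326527 = true := by decide +kernel

set_option maxRecDepth 1000000 in
theorem edges_11_126 : edgesRange E 11 1803 338622 = true := by decide +kernel

set_option maxRecDepth 1000000 in
theorem edges_0_14 : edgesRange E 0 2445 27181 = true := by decide +kernel

set_option maxRecDepth 1000000 in
theorem edges_0_119 : edgesRange E 0 2442 234875 = true := by decide +kernel

set_option maxRecDepth 1000000 in
theorem edges_1_26 : edgesRange E 1 2094 53144 = true := by decide +kernel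

set_option maxRecDepth 1000000 in
theorem edges_1_77 : edgesRange E 1 1900 161416 = true := by decide +kernel

set_option maxRecDepth 1000000 in
theorem edges_1_150 : edgesRange E 1 1791 290766 = true := by decide +kernel

set_option maxRecDepth 1000000 in
theorem edges_2_30 : edgesRange E 2 2308 63785 = true := by decide +kernel

set_option maxRecDepth 1000000 in
theorem edges_2_85 : edgesRange E 2 1628 178820 = true := by decide +kernel

set_option maxRecDepth 1000000 in
theorem edges_2_160 : edgesRange E 2 1751 310786 = true := by decide +kernel

set_option maxRecDepth 1000000 in
theorem edges_3_55 : edgesRange E 3 1737 128328 = true := by decide +kernel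

set_option maxRecDepth 1000000 in
theorem edges_3_127 : edgesRange E 3 1844 259218 = true := by decide +kernel

set_option maxRecDepth 1000000 in
theorem edges_4_14 : edgesRange E 4 2213 29476 = true := by decide +kernel

set_option maxRecDepth 1000000 in
theorem edges_4_62 : edgesRange E 4 1753 145473 = true := by decide +kernel

set_option maxRecDepth 1000000 in
theorem edges_4_133 : edgesRange E 4 1923 283714 = true := by decide +kernel

set_option maxRecDepth 1000000 in
theorem edges_5_27 : edgesRange E 5 2866 66454 = true := by decide +kernel

set_option maxRecDepth 1000000 in
theorem edges_5_78 : edgesRange E 5 2209 187896 = true := by decide +kernel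

set_option maxRecDepth 1000000 in
theorem edges_6_6 : edgesRange E 6 2147 14161 = true := by decide +kernel

set_option maxRecDepth 1000000 in
theorem edges_6_54 : edgesRange E 6 1945 137621 = true := by decide +kernel

set_option maxRecDepth 1000000 in
theorem edges_6_117 : edgesRange E 6 2193 271067 = true := by decide +kernel

set_option maxRecDepth 1000000 in
theorem edges_7_3 : edgesRange E 7 2711 7233 = true := by decide +kernel

set_option maxRecDepth 1000000 in
theorem edges_7_40 : edgesRange E 7 2713 101276 = true := by decide +kernel

set_option maxRecDepth 1000000 in
theorem edges_7_95 : edgesRange E 7 1887 211291 = true := by decide +kernel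

set_option maxRecDepth 1000000 in
theorem edges_8_6 : edgesRange E 8 2305 13574 = true := by decide +kernel

set_option maxRecDepth 1000000 in
theorem edges_8_66 : edgesRange E 8 1871 153875 = true := by decide +kernel

set_option maxRecDepth 1000000 in
theorem edges_8_104 : edgesRange E 8 1627 223033 = true := by decide +kernel

set_option maxRecDepth 1000000 in
theorem edges_8_176 : edgesRange E 8 1793 350669 = true := by decide +kernel

set_option maxRecDepth 1000000 in
theorem edges_9_39 : edgesRange E 9 3367 90551 = true := by decide +kernel

set_option maxRecDepth 1000000 in
theorem edges_9_99 : edgesRange E 9 2248 207977 = true := by decide +kernel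

set_option maxRecDepth 1000000 in
theorem edges_10_1 : edgesRange E 10 2122 2307 = true := by decide +kernel

set_option maxRecDepth 1000000 in
theorem edges_10_43 : edgesRange E 10 2625 133350 = true := by decide +kernel

set_option maxRecDepth 1000000 in
theorem edges_10_92 : edgesRange E 10 2427 260432 = true := by decide +kernel

set_option maxRecDepth 1000000 in
theorem edges_11_5 : edgesRange E 11 2319 10734 = true := by decide +kernel

set_option maxRecDepth 1000000 in
theorem edges_11_35 : edgesRange E 11 2850 128525 = true := by decide +kernel

set_option maxRecDepth 1000000 in
theorem edges_11_67 : edgesRange E 11 2207 218738 = true := by decide +kernel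

set_option maxRecDepth 1000000 in
theorem edges_11_123 : edgesRange E 11 1881 333315 = true := by decide +kernel

set_option maxRecDepth 1000000 in
theorem aliases_28 : aliasRange E 2536 103559 = true := by decide +kernel

set_option maxRecDepth 1000000 in
theorem aliases_48 : aliasRange E 8000 223363 = true := by decide +kernel

set_option maxRecDepth 1000000 in
theorem edges_8_179 : edgesRange E 8 1331 355718 = true := by decide +kernel

set_option maxRecDepth 1000000 in
theorem rows_5 : rowsRange E RS 1500 7500 = true := by decide +kernel

set_option maxRecDepth 1000000 in
theorem rows_21 : rowsRange E RS 1500 31500 = true := by decide +kernel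

set_option maxRecDepth 1000000 in
theorem rows_37 : rowsRange E RS 1500 55500 = true := by decide +kernel

set_option maxRecDepth 1000000 in
theorem rows_53 : rowsRange E RS 1500 79500 = true := by decide +kernel

set_option maxRecDepth 1000000 in
theorem rows_69 : rowsRange E RS 1500 103500 = true := by decide +kernel

set_option maxRecDepth 1000000 in
theorem rows_85 : rowsRange E RS 1500 127500 = true := by decide +kernel

set_option maxRecDepth 1000000 in
theorem rows_101 : rowsRange E RS 1500 151500 = true := by decide +kernel

set_option maxRecDepth 1000000 in
theorem rows_117 : rowsRange E RS 1500 175500 = true := by decide +kernel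

set_option maxRecDepth 1000000 in
theorem rows_133 : rowsRange E RS 1500 199500 = true := by decide +kernel

set_option maxRecDepth 1000000 in
theorem rows_149 : rowsRange E RS 1500 223500 = true := by decide +kernel

set_option maxRecDepth 1000000 in
theorem rows_165 : rowsRange E RS 1500 247500 = true := by decide +kernel

set_option maxRecDepth 1000000 in
theorem rows_181 : rowsRange E RS 1500 271500 = true := by decide +kernel

set_option maxRecDepth 1000000 in
theorem rows_197 : rowsRange E RS 1500 295500 = true := by decide +kernel

set_option maxRecDepth 1000000 in
theorem rows_213 : rowsRange E RS 1500 319500 = true := by decide +kernel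

set_option maxRecDepth 1000000 in
theorem rows_229 : rowsRange E RS 1500 343500 = true := by decide +kernel

set_option maxRecDepth 1000000 in
theorem edges_0_190 : edgesRange E 0 148 356901 = true := by decide +kernel

set_option maxRecDepth 1000000 in
theorem rows_238 : rowsRange E RS 49 357000 = true := by decide +kernel

end Cfsg.Agent.Helper5.Fi24TC
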