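import Cfsg.Agent.Helper5.Fi24TCDatD
import Cfsg.Agent.Helper5.TC3A

/-! kernel checks of edges, aliases, rows: Fi24TC -/

set_option autoImplicit false
set_option Elab.async false

namespace Cfsg.Agent.Helper5.Fi24TC
open Cfsg.Agent.Helper5.TC

set_option maxRecDepth 1000000 in
theorem cnt_4 : cntFrom RS 20000 80000 0 = 10087 := by decide +kernel

set_option maxRecDepth 1000000 in
theorem edges_10_82 : edgesRange E 10 2761 236165 = true := by decide +kernel

set_option maxRecDepth 1000000 in
theorem edges_10_76 : edgesRange E 10 2455 221294 = true := by decide +kernel

set_option maxRecDepth 1000000 in
theorem edges_5_117 : edgesRange E 5 2102 275743 = true := by decide +kernel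

set_option maxRecDepth 1000000 in
theorem edges_10_88 : edgesRange E 10 2415 251186 = true := by decide +kernel

set_option maxRecDepth 1000000 in
theorem edges_0_35 : edgesRange E 0 1563 75401 = true := by decide +kernel

set_option maxRecDepth 1000000 in
theorem edges_0_188 : edgesRange E 0 1623 353880 = true := by decide +kernel

set_option maxRecDepth 1000000 in
theorem edges_1_141 : edgesRange E 1 1701 274902 = true := by decide +kernel

set_option maxRecDepth 1000000 in
theorem edges_2_75 : edgesRange E 2 1848 160792 = true := by decide +kernel

set_option maxRecDepth 1000000 in
theorem edges_3_60 : edgesRange E 3 1796 137497 = true := by decide +kernel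

set_option maxRecDepth 1000000 in
theorem edges_3_166 : edgesRange E 3 1739 328855 = true := by decide +kernel

set_option maxRecDepth 1000000 in
theorem edges_4_117 : edgesRange E 4 1983 251885 = true := by decide +kernel

set_option maxRecDepth 1000000 in
theorem edges_5_43 : edgesRange E 5 2700 111963 = true := by decide +kernel

set_option maxRecDepth 1000000 in
theorem edges_6_42 : edgesRange E 6 2400 108791 = true := by decide +kernel

set_option maxRecDepth 1000000 in
theorem edges_7_103 : edgesRange E 7 1749 226439 = true := by decide +kernel

set_option maxRecDepth 1000000 in
theorem edges_8_46 : edgesRange E 8 2730 113269 = true := by decide +kernel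

set_option maxRecDepth 1000000 in
theorem edges_9_55 : edgesRange E 9 2089 129266 = true := by decide +kernel

set_option maxRecDepth 1000000 in
theorem edges_9_156 : edgesRange E 9 1695 308603 = true := by decide +kernel

set_option maxRecDepth 1000000 in
theorem edges_11_6 : edgesRange E 11 2335 13053 = true := by decide +kernel

set_option maxRecDepth 1000000 in
theorem edges_0_9 : edgesRange E 0 1549 17370 = true := by decide +kernel

set_option maxRecDepth 1000000 in
theorem edges_0_123 : edgesRange E 0 1885 244137 = true := by decide +kernel

set_option maxRecDepth 1000000 in
theorem edges_1_40 : edgesRange E 1 2470 85713 = true := by decide +kernel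

set_option maxRecDepth 1000000 in
theorem edges_2_54 : edgesRange E 2 2451 122602 = true := by decide +kernel

set_option maxRecDepth 1000000 in
theorem edges_3_7 : edgesRange E 3 1903 13739 = true := by decide +kernel

set_option maxRecDepth 1000000 in
theorem edges_3_167 : edgesRange E 3 1694 330594 = true := by decide +kernel

set_option maxRecDepth 1000000 in
theorem edges_4_120 : edgesRange E 4 2053 257957 = true := by decide +kernel

set_option maxRecDepth 1000000 in
theorem edges_6_9 : edgesRange E 6 2504 20878 = true := by decide +kernel

set_option maxRecDepth 1000000 in
theorem edges_7_82 : edgesRange E 7 1941 186811 = true := by decide +kernel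

set_option maxRecDepth 1000000 in
theorem edges_8_50 : edgesRange E 8 1784 124510 = true := by decide +kernel

set_option maxRecDepth 1000000 in
theorem edges_9_58 : edgesRange E 9 1923 134869 = true := by decide +kernel

set_option maxRecDepth 1000000 in
theorem edges_10_16 : edgesRange E 10 3220 47243 = true := by decide +kernel

set_option maxRecDepth 1000000 in
theorem edges_11_53 : edgesRange E 11 2926 181716 = true := by decide +kernel

set_option maxRecDepth 1000000 in
theorem edges_0_56 : edgesRange E 0 1374 125547 = true := by decide +kernel

set_option maxRecDepth 1000000 in
theorem edges_1_1 : edgesRange E 1 1835 1686 = true := by decide +kernel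

set_option maxRecDepth 1000000 in
theorem edges_1_123 : edgesRange E 1 1912 243650 = true := by decide +kernel

set_option maxRecDepth 1000000 in
theorem edges_2_3 : edgesRange E 2 2004 5566 = true := by decide +kernel

set_option maxRecDepth 1000000 in
theorem edges_2_84 : edgesRange E 2 1702 177118 = true := by decide +kernel

set_option maxRecDepth 1000000 in
theorem edges_3_34 : edgesRange E 3 2324 76207 = true := by decide +kernel

set_option maxRecDepth 1000000 in
theorem edges_3_177 : edgesRange E 3 1552 347335 = true := by decide +kernel

set_option maxRecDepth 1000000 in
theorem edges_4_154 : edgesRange E 4 1727 322457 = true := by decide +kernel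

set_option maxRecDepth 1000000 in
theorem edges_5_107 : edgesRange E 5 2235 253576 = true := by decide +kernel

set_option maxRecDepth 1000000 in
theorem edges_6_67 : edgesRange E 6 1983 163703 = true := by decide +kernel

set_option maxRecDepth 1000000 in
theorem edges_7_91 : edgesRange E 7 1790 203710 = true := by decide +kernel

set_option maxRecDepth 1000000 in
theorem edges_8_8 : edgesRange E 8 2301 18378 = true := by decide +kernel

set_option maxRecDepth 1000000 in
theorem edges_8_158 : edgesRange E 8 1462 319885 = true := by decide +kernel

set_option maxRecDepth 1000000 in
theorem edges_9_95 : edgesRange E 9 1630 201359 = true := by decide +kernel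

set_option maxRecDepth 1000000 in
theorem edges_9_183 : edgesRange E 9 1572 353619 = true := by decide +kernel

set_option maxRecDepth 1000000 in
theorem edges_11_73 : edgesRange E 11 2175 232431 = true := by decide +kernel

set_option maxRecDepth 1000000 in
theorem aliases_26 : aliasRange E 3259 97080 = true := by decide +kernel

set_option maxRecDepth 1000000 in
theorem edges_0_86 : edgesRange E 0 1418 178530 = true := by decide +kernel

set_option maxRecDepth 1000000 in
theorem edges_0_155 : edgesRange E 0 1401 299386 = true := by decide +kernel

set_option maxRecDepth 1000000 in
theorem edges_1_75 : edgesRange E 1 1556 158117 = true := by decide +kernel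

set_option maxRecDepth 1000000 in
theorem edges_1_121 : edgesRange E 1 1880 239836 = true := by decide +kernel

set_option maxRecDepth 1000000 in
theorem edges_2_34 : edgesRange E 2 2285 74014 = true := by decide +kernel

set_option maxRecDepth 1000000 in
theorem edges_2_121 : edgesRange E 2 1913 242881 = true := by decide +kernel

set_option maxRecDepth 1000000 in
theorem edges_3_1 : edgesRange E 3 1971 1841 = true := by decide +kernel

set_option maxRecDepth 1000000 in
theorem edges_3_86 : edgesRange E 3 1749 184527 = true := by decide +kernel

set_option maxRecDepth 1000000 in
theorem edges_3_153 : edgesRange E 3 1820 306177 = true := by decide +kernel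

set_option maxRecDepth 1000000 in
theorem edges_4_60 : edgesRange E 4 1805 141737 = true := by decide +kernel

set_option maxRecDepth 1000000 in
theorem edges_4_145 : edgesRange E 4 1779 306444 = true := by decide +kernel

set_option maxRecDepth 1000000 in
theorem edges_5_60 : edgesRange E 5 2077 150060 = true := by decide +kernel

set_option maxRecDepth 1000000 in
theorem edges_5_129 : edgesRange E 5 1935 300400 = true := by decide +kernel

set_option maxRecDepth 1000000 in
theorem edges_6_41 : edgesRange E 6 2615 106176 = true := by decide +kernel

set_option maxRecDepth 1000000 in
theorem edges_6_114 : edgesRange E 6 2332 264059 = true := by decide +kernel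

set_option maxRecDepth 1000000 in
theorem edges_7_66 : edgesRange E 7 1731 157382 = true := by decide +kernel

set_option maxRecDepth 1000000 in
theorem edges_8_5 : edgesRange E 8 2338 11236 = true := by decide +kernel

set_option maxRecDepth 1000000 in
theorem edges_8_88 : edgesRange E 8 2113 193700 = true := by decide +kernel

set_option maxRecDepth 1000000 in
theorem edges_9_21 : edgesRange E 9 2025 46341 = true := by decide +kernel

set_option maxRecDepth 1000000 in
theorem edges_9_96 : edgesRange E 9 1684 202989 = true := by decide +kernel

set_option maxRecDepth 1000000 in
theorem edges_9_174 : edgesRange E 9 1555 338975 = true := by decide +kernel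

set_option maxRecDepth 1000000 in
theorem edges_10_127 : edgesRange E 10 1858 332105 = true := by decide +kernel

set_option maxRecDepth 1000000 in
theorem aliases_23 : aliasRange E 2738 89525 = true := by decide +kernel

set_option maxRecDepth 1000000 in
theorem edges_0_67 : edgesRange E 0 1420 144188 = true := by decide +kernel

set_option maxRecDepth 1000000 in
theorem edges_0_129 : edgesRange E 0 1421 252876 = true := by decide +kernel

set_option maxRecDepth 1000000 in
theorem edges_0_174 : edgesRange E 0 2086 330888 = true := by decide +kernel

set_option maxRecDepth 1000000 in
theorem edges_1_72 : edgesRange E 1 1856 152927 = true := by decide +kernel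

set_option maxRecDepth 1000000 in
theorem edges_1_144 : edgesRange E 1 1672 280057 = true := by decide +kernel

set_option maxRecDepth 1000000 in
theorem edges_2_32 : edgesRange E 2 2904 68609 = true := by decide +kernel

set_option maxRecDepth 1000000 in
theorem edges_2_116 : edgesRange E 2 1740 233855 = true := by decide +kernel

set_option maxRecDepth 1000000 in
theorem edges_3_11 : edgesRange E 3 2044 21773 = true := by decide +kernel

set_option maxRecDepth 1000000 in
theorem edges_3_91 : edgesRange E 3 1907 193641 = true := by decide +kernel

set_option maxRecDepth 1000000 in
theorem edges_3_165 : edgesRange E 3 1728 327127 = true := by decide +kernel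

set_option maxRecDepth 1000000 in
theorem edges_4_63 : edgesRange E 4 1915 147226 = true := by decide +kernel

set_option maxRecDepth 1000000 in
theorem edges_5_12 : edgesRange E 5 2577 26287 = true := by decide +kernel

set_option maxRecDepth 1000000 in
theorem edges_5_96 : edgesRange E 5 2296 228393 = true := by decide +kernel

set_option maxRecDepth 1000000 in
theorem edges_6_11 : edgesRange E 6 2288 25702 = true := by decide +kernel

set_option maxRecDepth 1000000 in
theorem edges_6_84 : edgesRange E 6 1887 198968 = true := by decide +kernel

set_option maxRecDepth 1000000 in
theorem edges_7_34 : edgesRange E 7 2379 84899 = true := by decide +kernel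

set_option maxRecDepth 1000000 in
theorem edges_7_97 : edgesRange E 7 2084 214936 = true := by decide +kernel

set_option maxRecDepth 1000000 in
theorem edges_7_162 : edgesRange E 7 1863 339296 = true := by decide +kernel

set_option maxRecDepth 1000000 in
theorem edges_8_80 : edgesRange E 8 1684 179330 = true := by decide +kernel

set_option maxRecDepth 1000000 in
theorem edges_8_161 : edgesRange E 8 1777 324393 = true := by decide +kernel

set_option maxRecDepth 1000000 in
theorem edges_9_61 : edgesRange E 9 1480 140616 = true := by decide +kernel

set_option maxRecDepth 1000000 in
theorem edges_9_128 : edgesRange E 9 1841 259908 = true := by decide +kernel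

set_option maxRecDepth 1000000 in
theorem edges_10_39 : edgesRange E 10 3016 122818 = true := by decide +kernel

set_option maxRecDepth 1000000 in
theorem edges_10_121 : edgesRange E 10 1814 321157 = true := by decide +kernel

set_option maxRecDepth 1000000 in
theorem edges_11_113 : edgesRange E 11 1983 314910 = true := by decide +kernel

set_option maxRecDepth 1000000 in
theorem edges_0_11 : edgesRange E 0 2107 21233 = true := by decide +kernel

set_option maxRecDepth 1000000 in
theorem edges_0_115 : edgesRange E 0 1434 228239 = true := by decide +kernel

set_option maxRecDepth 1000000 in
theorem edges_1_21 : edgesRange E 1 2381 41620 = true := by decide +kernel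

set_option maxRecDepth 1000000 in
theorem edges_1_74 : edgesRange E 1 1482 156635 = true := by decide +kernel

set_option maxRecDepth 1000000 in
theorem edges_1_149 : edgesRange E 1 1750 289016 = true := by decide +kernel

set_option maxRecDepth 1000000 in
theorem edges_2_24 : edgesRange E 2 2516 49515 = true := by decide +kernel

set_option maxRecDepth 1000000 in
theorem edges_2_79 : edgesRange E 2 1867 168105 = true := by decide +kernel

set_option maxRecDepth 1000000 in
theorem edges_2_159 : edgesRange E 2 1790 308996 = true := by decide +kernel

set_option maxRecDepth 1000000 in
theorem edges_3_52 : edgesRange E 3 2883 121712 = true := by decide +kernel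

set_option maxRecDepth 1000000 in
theorem edges_3_119 : edgesRange E 3 1837 244880 = true := by decide +kernel

set_option maxRecDepth 1000000 in
theorem edges_4_11 : edgesRange E 4 2100 22869 = true := by decide +kernel

set_option maxRecDepth 1000000 in
theorem edges_4_48 : edgesRange E 4 2756 116115 = true := by decide +kernel

set_option maxRecDepth 1000000 in
theorem edges_4_128 : edgesRange E 4 1920 273924 = true := by decide +kernel

set_option maxRecDepth 1000000 in
theorem edges_5_26 : edgesRange E 5 2762 63692 = true := by decide +kernel

set_option maxRecDepth 1000000 in
theorem edges_5_69 : edgesRange E 5 2122 168647 = true := by decide +kernel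

set_option maxRecDepth 1000000 in
theorem edges_6_5 : edgesRange E 6 2141 12020 = true := by decide +kernel

set_option maxRecDepth 1000000 in
theorem edges_6_48 : edgesRange E 6 1998 125303 = true := by decide +kernel

set_option maxRecDepth 1000000 in
theorem edges_6_113 : edgesRange E 6 2180 261879 = true := by decide +kernel

set_option maxRecDepth 1000000 in
theorem edges_7_2 : edgesRange E 7 2722 4511 = true := by decide +kernel

set_option maxRecDepth 1000000 in
theorem edges_7_36 : edgesRange E 7 3013 90382 = true := by decide +kernel

set_option maxRecDepth 1000000 in
theorem edges_7_92 : edgesRange E 7 1966 205500 = true := by decide +kernel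

set_option maxRecDepth 1000000 in
theorem edges_8_4 : edgesRange E 8 2431 8805 = true := by decide +kernel

set_option maxRecDepth 1000000 in
theorem edges_8_65 : edgesRange E 8 2032 151843 = true := by decide +kernel

set_option maxRecDepth 1000000 in
theorem edges_8_102 : edgesRange E 8 1850 219507 = true := by decide +kernel

set_option maxRecDepth 1000000 in
theorem edges_8_173 : edgesRange E 8 1745 345610 = true := by decide +kernel

set_option maxRecDepth 1000000 in
theorem edges_9_38 : edgesRange E 9 2829 87722 = true := by decide +kernel

set_option maxRecDepth 1000000 in
theorem edges_9_91 : edgesRange E 9 2029 194095 = true := by decide +kernel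

set_option maxRecDepth 1000000 in
theorem edges_10_0 : edgesRange E 10 2307 0 = true := by decide +kernel

set_option maxRecDepth 1000000 in
theorem edges_10_38 : edgesRange E 10 3258 119560 = true := by decide +kernel

set_option maxRecDepth 1000000 in
theorem edges_10_90 : edgesRange E 10 2088 256011 = true := by decide +kernel

set_option maxRecDepth 1000000 in
theorem edges_11_1 : edgesRange E 11 1927 2185 = true := by decide +kernel

set_option maxRecDepth 1000000 in
theorem edges_11_34 : edgesRange E 11 3362 125163 = true := by decide +kernel

set_option maxRecDepth 1000000 in
theorem edges_11_61 : edgesRange E 11 2723 203179 = true := by decide +kernel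

set_option maxRecDepth 1000000 in
theorem edges_11_120 : edgesRange E 11 1883 327610 = true := by decide +kernel

set_option maxRecDepth 1000000 in
theorem aliases_24 : aliasRange E 2342 92263 = true := by decide +kernel

set_option maxRecDepth 1000000 in
theorem aliases_47 : aliasRange E 8000 215363 = true := by decide +kernel

set_option maxRecDepth 1000000 in
theorem aliases_63 : aliasRange E 8000 343363 = true := by decide +kernel

set_option maxRecDepth 1000000 in
theorem rows_18 : rowsRange E RS 1500 27000 = true := by decide +kernel

set_option maxRecDepth 1000000 in
theorem rows_34 : rowsRange E RS 1500 51000 = true := by decide +kernel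

set_option maxRecDepth 1000000 in
theorem rows_50 : rowsRange E RS 1500 75000 = true := by decide +kernel

set_option maxRecDepth 1000000 in
theorem rows_66 : rowsRange E RS 1500 99000 = true := by decide +kernel

set_option maxRecDepth 1000000 in
theorem rows_82 : rowsRange E RS 1500 123000 = true := by decide +kernel

set_option maxRecDepth 1000000 in
theorem rows_98 : rowsRange E RS 1500 147000 = true := by decide +kernel

set_option maxRecDepth 1000000 in
theorem rows_114 : rowsRange E RS 1500 171000 = true := by decide +kernel

set_option maxRecDepth 1000000 in
theorem rows_130 : rowsRange E RS 1500 195000 = true := by decide +kernel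

set_option maxRecDepth 1000000 in
theorem rows_146 : rowsRange E RS 1500 219000 = true := by decide +kernel

set_option maxRecDepth 1000000 in
theorem rows_162 : rowsRange E RS 1500 243000 = true := by decide +kernel

set_option maxRecDepth 1000000 in
theorem rows_178 : rowsRange E RS 1500 267000 = true := by decide +kernel

set_option maxRecDepth 1000000 in
theorem rows_194 : rowsRange E RS 1500 291000 = true := by decide +kernel

set_option maxRecDepth 1000000 in
theorem rows_210 : rowsRange E RS 1500 315000 = true := by decide +kernel

set_option maxRecDepth 1000000 in
theorem rows_226 : rowsRange E RS 1500 339000 = true := by decide +kernel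

set_option maxRecDepth 1000000 in
theorem edges_7_171 : edgesRange E 7 918 356131 = true := by decide +kernel

set_option maxRecDepth 1000000 in
theorem edges_5_161 : edgesRange E 5 445 356604 = true := by decide +kernel

end Cfsg.Agent.Helper5.Fi24TC
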