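import Cfsg.Agent.Helper5.Fi24TCDatD
import Cfsg.Agent.Helper5.TC3A

/-! kernel checks of edges, aliases, rows: Fi24TC -/

set_option autoImplicit false
set_option Elab.async false

namespace Cfsg.Agent.Helper5.Fi24TC
open Cfsg.Agent.Helper5.TC

set_option maxRecDepth 1000000 in
theorem cnt_5 : cntFrom RS 20000 100000 0 = 11107 := by decide +kernel

set_option maxRecDepth 1000000 in
theorem edges_10_93 : edgesRange E 10 2451 262859 = true := by decide +kernel

set_option maxRecDepth 1000000 in
theorem edges_10_44 : edgesRange E 10 2725 135975 = true := by decide +kernel

set_option maxRecDepth 1000000 in
theorem edges_5_55 : edgesRange E 5 1893 140170 = true := by decide +kernel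

set_option maxRecDepth 1000000 in
theorem edges_10_69 : edgesRange E 10 2795 202397 = true := by decide +kernel

set_option maxRecDepth 1000000 in
theorem edges_0_29 : edgesRange E 0 1954 59752 = true := by decide +kernel

set_option maxRecDepth 1000000 in
theorem edges_0_187 : edgesRange E 0 1336 352544 = true := by decide +kernel

set_option maxRecDepth 1000000 in
theorem edges_1_133 : edgesRange E 1 1762 261075 = true := by decide +kernel

set_option maxRecDepth 1000000 in
theorem edges_2_67 : edgesRange E 2 1831 146645 = true := by decide +kernel

set_option maxRecDepth 1000000 in
theorem edges_3_59 : edgesRange E 3 1812 135685 = true := by decide +kernel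

set_option maxRecDepth 1000000 in
theorem edges_3_159 : edgesRange E 3 2034 316861 = true := by decide +kernel

set_option maxRecDepth 1000000 in
theorem edges_4_116 : edgesRange E 4 2000 249885 = true := by decide +kernel

set_option maxRecDepth 1000000 in
theorem edges_5_40 : edgesRange E 5 2775 104323 = true := by decide +kernel

set_option maxRecDepth 1000000 in
theorem edges_6_33 : edgesRange E 6 2235 83643 = true := by decide +kernel

set_option maxRecDepth 1000000 in
theorem edges_7_99 : edgesRange E 7 2109 219093 = true := by decide +kernel

set_option maxRecDepth 1000000 in
theorem edges_8_44 : edgesRange E 8 2114 108936 = true := by decide +kernel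

set_option maxRecDepth 1000000 in
theorem edges_9_17 : edgesRange E 9 2863 36621 = true := by decide +kernel

set_option maxRecDepth 1000000 in
theorem edges_9_152 : edgesRange E 9 1588 301790 = true := by decide +kernel

set_option maxRecDepth 1000000 in
theorem edges_10_135 : edgesRange E 10 1611 346268 = true := by decide +kernel

set_option maxRecDepth 1000000 in
theorem edges_0_6 : edgesRange E 0 2067 11422 = true := by decide +kernel

set_option maxRecDepth 1000000 in
theorem edges_0_112 : edgesRange E 0 1379 224128 = true := by decide +kernel

set_option maxRecDepth 1000000 in
theorem edges_0_186 : edgesRange E 0 2058 350486 = true := by decide +kernel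

set_option maxRecDepth 1000000 in
theorem edges_2_51 : edgesRange E 2 2822 114979 = true := by decide +kernel

set_option maxRecDepth 1000000 in
theorem edges_2_181 : edgesRange E 2 1545 346511 = true := by decide +kernel

set_option maxRecDepth 1000000 in
theorem edges_3_154 : edgesRange E 3 1748 307997 = true := by decide +kernel

set_option maxRecDepth 1000000 in
theorem edges_4_119 : edgesRange E 4 2041 255916 = true := by decide +kernel

set_option maxRecDepth 1000000 in
theorem edges_5_160 : edgesRange E 5 1406 355198 = true := by decide +kernel

set_option maxRecDepth 1000000 in
theorem edges_7_74 : edgesRange E 7 2079 171946 = true := by decide +kernel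

set_option maxRecDepth 1000000 in
theorem edges_8_49 : edgesRange E 8 2920 121590 = true := by decide +kernel

set_option maxRecDepth 1000000 in
theorem edges_9_20 : edgesRange E 9 2509 43832 = true := by decide +kernel

set_option maxRecDepth 1000000 in
theorem edges_10_14 : edgesRange E 10 3213 41040 = true := by decide +kernel

set_option maxRecDepth 1000000 in
theorem edges_10_138 : edgesRange E 10 1742 351246 = true := by decide +kernel

set_option maxRecDepth 1000000 in
theorem edges_0_43 : edgesRange E 0 2801 94701 = true := by decide +kernel

set_option maxRecDepth 1000000 in
theorem edges_0_184 : edgesRange E 0 1337 347689 = true := by decide +kernel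

set_option maxRecDepth 1000000 in
theorem edges_1_122 : edgesRange E 1 1934 241716 = true := by decide +kernel

set_option maxRecDepth 1000000 in
theorem edges_2_2 : edgesRange E 2 1933 3633 = true := by decide +kernel

set_option maxRecDepth 1000000 in
theorem edges_2_83 : edgesRange E 2 1796 175322 = true := by decide +kernel

set_option maxRecDepth 1000000 in
theorem edges_3_30 : edgesRange E 3 2616 65496 = true := by decide +kernel

set_option maxRecDepth 1000000 in
theorem edges_3_162 : edgesRange E 3 1695 322099 = true := by decide +kernel

set_option maxRecDepth 1000000 in
theorem edges_4_142 : edgesRange E 4 1878 300906 = true := by decide +kernel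

set_option maxRecDepth 1000000 in
theorem edges_5_103 : edgesRange E 5 2151 244824 = true := by decide +kernel

set_option maxRecDepth 1000000 in
theorem edges_6_64 : edgesRange E 6 1913 157840 = true := by decide +kernel

set_option maxRecDepth 1000000 in
theorem edges_7_70 : edgesRange E 7 1789 164514 = true := by decide +kernel

set_option maxRecDepth 1000000 in
theorem edges_7_163 : edgesRange E 7 1950 341159 = true := by decide +kernel

set_option maxRecDepth 1000000 in
theorem edges_8_156 : edgesRange E 8 2121 316167 = true := by decide +kernel

set_option maxRecDepth 1000000 in
theorem edges_9_83 : edgesRange E 9 1631 179856 = true := by decide +kernel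

set_option maxRecDepth 1000000 in
theorem edges_9_178 : edgesRange E 9 1464 345904 = true := by decide +kernel

set_option maxRecDepth 1000000 in
theorem edges_11_58 : edgesRange E 11 2294 195825 = true := by decide +kernel

set_option maxRecDepth 1000000 in
theorem aliases_25 : aliasRange E 2475 94605 = true := by decide +kernel

set_option maxRecDepth 1000000 in
theorem edges_0_82 : edgesRange E 0 2201 170470 = true := by decide +kernel

set_option maxRecDepth 1000000 in
theorem edges_0_147 : edgesRange E 0 2249 283576 = true := by decide +kernel

set_option maxRecDepth 1000000 in
theorem edges_1_73 : edgesRange E 1 1852 154783 = true := by decide +kernel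

set_option maxRecDepth 1000000 in
theorem edges_1_115 : edgesRange E 1 1798 228934 = true := by decide +kernel

set_option maxRecDepth 1000000 in
theorem edges_2_29 : edgesRange E 2 2107 61678 = true := by decide +kernel

set_option maxRecDepth 1000000 in
theorem edges_2_111 : edgesRange E 2 1753 224933 = true := by decide +kernel

set_option maxRecDepth 1000000 in
theorem edges_3_0 : edgesRange E 3 1841 0 = true := by decide +kernel

set_option maxRecDepth 1000000 in
theorem edges_3_73 : edgesRange E 3 1804 160979 = true := by decide +kernel

set_option maxRecDepth 1000000 in
theorem edges_3_148 : edgesRange E 3 1634 297679 = true := by decide +kernel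

set_option maxRecDepth 1000000 in
theorem edges_4_58 : edgesRange E 4 1832 138151 = true := by decide +kernel

set_option maxRecDepth 1000000 in
theorem edges_4_141 : edgesRange E 4 1846 299060 = true := by decide +kernel

set_option maxRecDepth 1000000 in
theorem edges_5_52 : edgesRange E 5 2108 133947 = true := by decide +kernel

set_option maxRecDepth 1000000 in
theorem edges_5_124 : edgesRange E 5 2154 290179 = true := by decide +kernel

set_option maxRecDepth 1000000 in
theorem edges_6_34 : edgesRange E 6 3013 85878 = true := by decide +kernel

set_option maxRecDepth 1000000 in
theorem edges_6_111 : edgesRange E 6 2383 257230 = true := by decide +kernel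

set_option maxRecDepth 1000000 in
theorem edges_7_55 : edgesRange E 7 2002 136652 = true := by decide +kernel

set_option maxRecDepth 1000000 in
theorem edges_7_164 : edgesRange E 7 1895 343109 = true := by decide +kernel

set_option maxRecDepth 1000000 in
theorem edges_8_82 : edgesRange E 8 1872 182698 = true := by decide +kernel

set_option maxRecDepth 1000000 in
theorem edges_9_8 : edgesRange E 9 2141 16976 = true := by decide +kernel

set_option maxRecDepth 1000000 in
theorem edges_9_89 : edgesRange E 9 1750 190518 = true := by decide +kernel

set_option maxRecDepth 1000000 in
theorem edges_9_172 : edgesRange E 9 1357 336167 = true := by decide +kernel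

set_option maxRecDepth 1000000 in
theorem edges_10_126 : edgesRange E 10 1830 330275 = true := by decide +kernel

set_option maxRecDepth 1000000 in
theorem aliases_19 : aliasRange E 3046 76606 = true := by decide +kernel

set_option maxRecDepth 1000000 in
theorem edges_0_64 : edgesRange E 0 1412 140018 = true := by decide +kernel

set_option maxRecDepth 1000000 in
theorem edges_0_121 : edgesRange E 0 2228 239435 = true := by decide +kernel

set_option maxRecDepth 1000000 in
theorem edges_0_173 : edgesRange E 0 2256 328632 = true := by decide +kernel

set_option maxRecDepth 1000000 in
theorem edges_1_71 : edgesRange E 1 1756 151171 = true := by decide +kernel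

set_option maxRecDepth 1000000 in
theorem edges_1_140 : edgesRange E 1 1591 273311 = true := by decide +kernel

set_option maxRecDepth 1000000 in
theorem edges_2_31 : edgesRange E 2 2516 66093 = true := by decide +kernel

set_option maxRecDepth 1000000 in
theorem edges_2_114 : edgesRange E 2 1701 230230 = true := by decide +kernel

set_option maxRecDepth 1000000 in
theorem edges_3_4 : edgesRange E 3 2068 7896 = true := by decide +kernel

set_option maxRecDepth 1000000 in
theorem edges_3_77 : edgesRange E 3 1860 168249 = true := by decide +kernel

set_option maxRecDepth 1000000 in
theorem edges_3_164 : edgesRange E 3 1710 325417 = true := by decide +kernel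

set_option maxRecDepth 1000000 in
theorem edges_4_56 : edgesRange E 4 2094 134118 = true := by decide +kernel

set_option maxRecDepth 1000000 in
theorem edges_5_4 : edgesRange E 5 2247 8971 = true := by decide +kernel

set_option maxRecDepth 1000000 in
theorem edges_5_95 : edgesRange E 5 2287 226106 = true := by decide +kernel

set_option maxRecDepth 1000000 in
theorem edges_6_8 : edgesRange E 6 2249 18629 = true := by decide +kernel

set_option maxRecDepth 1000000 in
theorem edges_6_83 : edgesRange E 6 2217 196751 = true := by decide +kernel

set_option maxRecDepth 1000000 in
theorem edges_7_24 : edgesRange E 7 2771 58699 = true := by decide +kernel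

set_option maxRecDepth 1000000 in
theorem edges_7_84 : edgesRange E 7 1753 190634 = true := by decide +kernel

set_option maxRecDepth 1000000 in
theorem edges_7_161 : edgesRange E 7 1666 337630 = true := by decide +kernel

set_option maxRecDepth 1000000 in
theorem edges_8_74 : edgesRange E 8 1722 168278 = true := by decide +kernel

set_option maxRecDepth 1000000 in
theorem edges_8_160 : edgesRange E 8 1576 322817 = true := by decide +kernel

set_option maxRecDepth 1000000 in
theorem edges_9_60 : edgesRange E 9 1671 138945 = true := by decide +kernel

set_option maxRecDepth 1000000 in
theorem edges_9_127 : edgesRange E 9 1781 258127 = true := by decide +kernel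

set_option maxRecDepth 1000000 in
theorem edges_10_36 : edgesRange E 10 3427 112335 = true := by decide +kernel

set_option maxRecDepth 1000000 in
theorem edges_10_116 : edgesRange E 10 1969 311512 = true := by decide +kernel

set_option maxRecDepth 1000000 in
theorem edges_11_102 : edgesRange E 11 1867 294105 = true := by decide +kernel

set_option maxRecDepth 1000000 in
theorem edges_0_8 : edgesRange E 0 2225 15145 = true := by decide +kernel

set_option maxRecDepth 1000000 in
theorem edges_0_114 : edgesRange E 0 1340 226899 = true := by decide +kernel

set_option maxRecDepth 1000000 in
theorem edges_1_16 : edgesRange E 1 2234 30890 = true := by decide +kernel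

set_option maxRecDepth 1000000 in
theorem edges_1_70 : edgesRange E 1 1729 149442 = true := by decide +kernel

set_option maxRecDepth 1000000 in
theorem edges_1_139 : edgesRange E 1 1553 271758 = true := by decide +kernel

set_option maxRecDepth 1000000 in
theorem edges_2_20 : edgesRange E 2 2055 40620 = true := by decide +kernel

set_option maxRecDepth 1000000 in
theorem edges_2_70 : edgesRange E 2 1853 152073 = true := by decide +kernel

set_option maxRecDepth 1000000 in
theorem edges_2_158 : edgesRange E 2 1739 307257 = true := by decide +kernel

set_option maxRecDepth 1000000 in
theorem edges_3_50 : edgesRange E 3 2627 116431 = true := by decide +kernel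

set_option maxRecDepth 1000000 in
theorem edges_3_117 : edgesRange E 3 1923 241018 = true := by decide +kernel

set_option maxRecDepth 1000000 in
theorem edges_4_10 : edgesRange E 4 2247 20622 = true := by decide +kernel

set_option maxRecDepth 1000000 in
theorem edges_4_44 : edgesRange E 4 2336 106283 = true := by decide +kernel

set_option maxRecDepth 1000000 in
theorem edges_4_127 : edgesRange E 4 1940 271984 = true := by decide +kernel

set_option maxRecDepth 1000000 in
theorem edges_5_24 : edgesRange E 5 3085 58058 = true := by decide +kernel

set_option maxRecDepth 1000000 in
theorem edges_5_65 : edgesRange E 5 1916 160420 = true := by decide +kernel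

set_option maxRecDepth 1000000 in
theorem edges_6_0 : edgesRange E 6 2282 0 = true := by decide +kernel

set_option maxRecDepth 1000000 in
theorem edges_6_45 : edgesRange E 6 2993 116990 = true := by decide +kernel

set_option maxRecDepth 1000000 in
theorem edges_6_110 : edgesRange E 6 2356 254874 = true := by decide +kernel

set_option maxRecDepth 1000000 in
theorem edges_7_1 : edgesRange E 7 2512 1999 = true := by decide +kernel

set_option maxRecDepth 1000000 in
theorem edges_7_33 : edgesRange E 7 2244 82655 = true := by decide +kernel

set_option maxRecDepth 1000000 in
theorem edges_7_86 : edgesRange E 7 2010 194445 = true := by decide +kernel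

set_option maxRecDepth 1000000 in
theorem edges_8_2 : edgesRange E 8 2377 3962 = true := by decide +kernel

set_option maxRecDepth 1000000 in
theorem edges_8_56 : edgesRange E 8 1857 135561 = true := by decide +kernel

set_option maxRecDepth 1000000 in
theorem edges_8_101 : edgesRange E 8 2123 217384 = true := by decide +kernel

set_option maxRecDepth 1000000 in
theorem edges_8_172 : edgesRange E 8 1864 343746 = true := by decide +kernel

set_option maxRecDepth 1000000 in
theorem edges_9_32 : edgesRange E 9 2257 73698 = true := by decide +kernel

set_option maxRecDepth 1000000 in
theorem edges_9_85 : edgesRange E 9 1703 183181 = true := by decide +kernel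

set_option maxRecDepth 1000000 in
theorem edges_9_184 : edgesRange E 9 1503 355191 = true := by decide +kernel

set_option maxRecDepth 1000000 in
theorem edges_10_37 : edgesRange E 10 3798 115762 = true := by decide +kernel

set_option maxRecDepth 1000000 in
theorem edges_10_86 : edgesRange E 10 2287 246506 = true := by decide +kernel

set_option maxRecDepth 1000000 in
theorem edges_11_0 : edgesRange E 11 2185 0 = true := by decide +kernel

set_option maxRecDepth 1000000 in
theorem edges_11_30 : edgesRange E 11 3890 108798 = true := by decide +kernel

set_option maxRecDepth 1000000 in
theorem edges_11_59 : edgesRange E 11 2530 198119 = true := by decide +kernel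

set_option maxRecDepth 1000000 in
theorem edges_11_119 : edgesRange E 11 1784 325826 = true := by decide +kernel

set_option maxRecDepth 1000000 in
theorem aliases_22 : aliasRange E 2376 87149 = true := by decide +kernel

set_option maxRecDepth 1000000 in
theorem aliases_46 : aliasRange E 7952 207411 = true := by decide +kernel

set_option maxRecDepth 1000000 in
theorem aliases_62 : aliasRange E 8000 335363 = true := by decide +kernel

set_option maxRecDepth 1000000 in
theorem rows_17 : rowsRange E RS 1500 25500 = true := by decide +kernel

set_option maxRecDepth 1000000 in
theorem rows_33 : rowsRange E RS 1500 49500 = true := by decide +kernel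

set_option maxRecDepth 1000000 in
theorem rows_49 : rowsRange E RS 1500 73500 = true := by decide +kernel

set_option maxRecDepth 1000000 in
theorem rows_65 : rowsRange E RS 1500 97500 = true := by decide +kernel

set_option maxRecDepth 1000000 in
theorem rows_81 : rowsRange E RS 1500 121500 = true := by decide +kernel

set_option maxRecDepth 1000000 in
theorem rows_97 : rowsRange E RS 1500 145500 = true := by decide +kernel

set_option maxRecDepth 1000000 in
theorem rows_113 : rowsRange E RS 1500 169500 = true := by decide +kernel

set_option maxRecDepth 1000000 in
theorem rows_129 : rowsRange E RS 1500 193500 = true := by decide +kernel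

set_option maxRecDepth 1000000 in
theorem rows_145 : rowsRange E RS 1500 217500 = true := by decide +kernel

set_option maxRecDepth 1000000 in
theorem rows_161 : rowsRange E RS 1500 241500 = true := by decide +kernel

set_option maxRecDepth 1000000 in
theorem rows_177 : rowsRange E RS 1500 265500 = true := by decide +kernel

set_option maxRecDepth 1000000 in
theorem rows_193 : rowsRange E RS 1500 289500 = true := by decide +kernel

set_option maxRecDepth 1000000 in
theorem rows_209 : rowsRange E RS 1500 313500 = true := by decide +kernel

set_option maxRecDepth 1000000 in
theorem rows_225 : rowsRange E RS 1500 337500 = true := by decide +kernel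

set_option maxRecDepth 1000000 in
theorem edges_10_141 : edgesRange E 10 753 356296 = true := by decide +kernel

set_option maxRecDepth 1000000 in
theorem edges_6_160 : edgesRange E 6 271 356778 = true := by decide +kernel

end Cfsg.Agent.Helper5.Fi24TC
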