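import Cfsg.Agent.Helper5.Fi24TCDatD
import Cfsg.Agent.Helper5.TC3A

/-! kernel checks of edges, aliases, rows: Fi24TC -/

set_option autoImplicit false
set_option Elab.async false

namespace Cfsg.Agent.Helper5.Fi24TC
open Cfsg.Agent.Helper5.TC

set_option maxRecDepth 1000000 in
theorem cnt_6 : cntFrom RS 20000 120000 0 = 17387 := by decide +kernel

set_option maxRecDepth 1000000 in
theorem edges_2_164 : edgesRange E 2 1846 317981 = true := by decide +kernel

set_option maxRecDepth 1000000 in
theorem edges_6_102 : edgesRange E 6 2266 237130 = true := by decide +kernel

set_option maxRecDepth 1000000 in
theorem edges_2_6 : edgesRange E 2 1878 11504 = true := by decide +kernel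

set_option maxRecDepth 1000000 in
theorem edges_6_109 : edgesRange E 6 2184 252690 = true := by decide +kernel

set_option maxRecDepth 1000000 in
theorem edges_11_40 : edgesRange E 11 3042 143853 = true := by decide +kernel

set_option maxRecDepth 1000000 in
theorem edges_0_143 : edgesRange E 0 1341 277677 = true := by decide +kernel

set_option maxRecDepth 1000000 in
theorem edges_1_97 : edgesRange E 1 1551 197543 = true := by decide +kernel

set_option maxRecDepth 1000000 in
theorem edges_2_25 : edgesRange E 2 2450 52031 = true := by decide +kernel

set_option maxRecDepth 1000000 in
theorem edges_2_182 : edgesRange E 2 1539 348056 = true := by decide +kernel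

set_option maxRecDepth 1000000 in
theorem edges_3_129 : edgesRange E 3 1804 262976 = true := by decide +kernel

set_option maxRecDepth 1000000 in
theorem edges_4_87 : edgesRange E 4 2043 192903 = true := by decide +kernel

set_option maxRecDepth 1000000 in
theorem edges_4_157 : edgesRange E 4 1655 327527 = true := by decide +kernel

set_option maxRecDepth 1000000 in
theorem edges_5_136 : edgesRange E 5 1943 313634 = true := by decide +kernel

set_option maxRecDepth 1000000 in
theorem edges_7_25 : edgesRange E 7 2236 61470 = true := by decide +kernel

set_option maxRecDepth 1000000 in
theorem edges_7_166 : edgesRange E 7 1781 346902 = true := by decide +kernel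

set_option maxRecDepth 1000000 in
theorem edges_8_148 : edgesRange E 8 1575 301738 = true := by decide +kernel

set_option maxRecDepth 1000000 in
theorem edges_9_141 : edgesRange E 9 2155 282395 = true := by decide +kernel

set_option maxRecDepth 1000000 in
theorem edges_10_107 : edgesRange E 10 2039 293812 = true := by decide +kernel

set_option maxRecDepth 1000000 in
theorem edges_11_110 : edgesRange E 11 1888 309011 = true := by decide +kernel

set_option maxRecDepth 1000000 in
theorem edges_0_76 : edgesRange E 0 1397 160497 = true := by decide +kernel

set_option maxRecDepth 1000000 in
theorem edges_0_176 : edgesRange E 0 1334 335234 = true := by decide +kernel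

set_option maxRecDepth 1000000 in
theorem edges_1_167 : edgesRange E 1 1545 319778 = true := by decide +kernel

set_option maxRecDepth 1000000 in
theorem edges_2_168 : edgesRange E 2 1622 324361 = true := by decide +kernel

set_option maxRecDepth 1000000 in
theorem edges_3_102 : edgesRange E 3 1756 213708 = true := by decide +kernel

set_option maxRecDepth 1000000 in
theorem edges_4_72 : edgesRange E 4 1778 164306 = true := by decide +kernel

set_option maxRecDepth 1000000 in
theorem edges_5_110 : edgesRange E 5 2232 260161 = true := by decide +kernel

set_option maxRecDepth 1000000 in
theorem edges_6_146 : edgesRange E 6 2013 332890 = true := by decide +kernel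

set_option maxRecDepth 1000000 in
theorem edges_8_12 : edgesRange E 8 2630 27863 = true := by decide +kernel

set_option maxRecDepth 1000000 in
theorem edges_8_136 : edgesRange E 8 1832 280296 = true := by decide +kernel

set_option maxRecDepth 1000000 in
theorem edges_9_159 : edgesRange E 9 1979 313849 = true := by decide +kernel

set_option maxRecDepth 1000000 in
theorem edges_10_111 : edgesRange E 10 1923 301671 = true := by decide +kernel

set_option maxRecDepth 1000000 in
theorem aliases_27 : aliasRange E 3220 100339 = true := by decide +kernel

set_option maxRecDepth 1000000 in
theorem edges_0_141 : edgesRange E 0 1406 274915 = true := by decide +kernel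

set_option maxRecDepth 1000000 in
theorem edges_1_89 : edgesRange E 1 1864 182765 = true := by decide +kernel

set_option maxRecDepth 1000000 in
theorem edges_1_186 : edgesRange E 1 1747 350583 = true := by decide +kernel

set_option maxRecDepth 1000000 in
theorem edges_2_77 : edgesRange E 2 1692 164555 = true := by decide +kernel

set_option maxRecDepth 1000000 in
theorem edges_3_15 : edgesRange E 3 2116 30431 = true := by decide +kernel

set_option maxRecDepth 1000000 in
theorem edges_3_125 : edgesRange E 3 1852 255512 = true := by decide +kernel

set_option maxRecDepth 1000000 in
theorem edges_4_111 : edgesRange E 4 1957 239970 = true := by decide +kernel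

set_option maxRecDepth 1000000 in
theorem edges_5_47 : edgesRange E 5 2185 123832 = true := by decide +kernel

set_option maxRecDepth 1000000 in
theorem edges_6_50 : edgesRange E 6 1937 129371 = true := by decide +kernel

set_option maxRecDepth 1000000 in
theorem edges_7_45 : edgesRange E 7 3184 113849 = true := by decide +kernel

set_option maxRecDepth 1000000 in
theorem edges_7_151 : edgesRange E 7 1671 319098 = true := by decide +kernel

set_option maxRecDepth 1000000 in
theorem edges_8_151 : edgesRange E 8 1756 307141 = true := by decide +kernel

set_option maxRecDepth 1000000 in
theorem edges_9_46 : edgesRange E 9 2027 108757 = true := by decide +kernel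

set_option maxRecDepth 1000000 in
theorem edges_9_168 : edgesRange E 9 1702 328909 = true := by decide +kernel

set_option maxRecDepth 1000000 in
theorem edges_11_28 : edgesRange E 11 4262 100587 = true := by decide +kernel

set_option maxRecDepth 1000000 in
theorem aliases_10 : aliasRange E 4291 44449 = true := by decide +kernel

set_option maxRecDepth 1000000 in
theorem edges_0_69 : edgesRange E 0 1835 146987 = true := by decide +kernel

set_option maxRecDepth 1000000 in
theorem edges_0_135 : edgesRange E 0 2161 263943 = true := by decide +kernel

set_option maxRecDepth 1000000 in
theorem edges_1_43 : edgesRange E 1 1910 93984 = true := by decide +kernel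

set_option maxRecDepth 1000000 in
theorem edges_1_108 : edgesRange E 1 1946 216864 = true := by decide +kernel

set_option maxRecDepth 1000000 in
theorem edges_2_10 : edgesRange E 2 1953 19184 = true := by decide +kernel

set_option maxRecDepth 1000000 in
theorem edges_2_101 : edgesRange E 2 1729 207195 = true := by decide +kernel

set_option maxRecDepth 1000000 in
theorem edges_2_179 : edgesRange E 2 1687 342956 = true := by decide +kernel

set_option maxRecDepth 1000000 in
theorem edges_3_47 : edgesRange E 3 2191 109163 = true := by decide +kernel

set_option maxRecDepth 1000000 in
theorem edges_3_142 : edgesRange E 3 1852 286545 = true := by decide +kernel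

set_option maxRecDepth 1000000 in
theorem edges_4_51 : edgesRange E 4 1797 124751 = true := by decide +kernel

set_option maxRecDepth 1000000 in
theorem edges_4_134 : edgesRange E 4 1919 285637 = true := by decide +kernel

set_option maxRecDepth 1000000 in
theorem edges_5_32 : edgesRange E 5 2708 81244 = true := by decide +kernel

set_option maxRecDepth 1000000 in
theorem edges_5_109 : edgesRange E 5 2265 257896 = true := by decide +kernel

set_option maxRecDepth 1000000 in
theorem edges_6_14 : edgesRange E 6 2276 33011 = true := by decide +kernel

set_option maxRecDepth 1000000 in
theorem edges_6_93 : edgesRange E 6 2302 217701 = true := by decide +kernel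

set_option maxRecDepth 1000000 in
theorem edges_7_27 : edgesRange E 7 2657 66226 = true := by decide +kernel

set_option maxRecDepth 1000000 in
theorem edges_7_148 : edgesRange E 7 2086 312849 = true := by decide +kernel

set_option maxRecDepth 1000000 in
theorem edges_8_64 : edgesRange E 8 1795 150048 = true := by decide +kernel

set_option maxRecDepth 1000000 in
theorem edges_8_165 : edgesRange E 8 1883 331501 = true := by decide +kernel

set_option maxRecDepth 1000000 in
theorem edges_9_86 : edgesRange E 9 1832 184884 = true := by decide +kernel

set_option maxRecDepth 1000000 in
theorem edges_9_161 : edgesRange E 9 1539 317996 = true := by decide +kernel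

set_option maxRecDepth 1000000 in
theorem edges_10_101 : edgesRange E 10 2066 280751 = true := by decide +kernel

set_option maxRecDepth 1000000 in
theorem edges_11_105 : edgesRange E 11 1849 299628 = true := by decide +kernel

set_option maxRecDepth 1000000 in
theorem edges_0_51 : edgesRange E 0 3024 111968 = true := by decide +kernel

set_option maxRecDepth 1000000 in
theorem edges_0_116 : edgesRange E 0 1382 229673 = true := by decide +kernel

set_option maxRecDepth 1000000 in
theorem edges_0_164 : edgesRange E 0 2354 314502 = true := by decide +kernel

set_option maxRecDepth 1000000 in
theorem edges_1_58 : edgesRange E 1 1866 127987 = true := by decide +kernel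

set_option maxRecDepth 1000000 in
theorem edges_1_131 : edgesRange E 1 2009 257086 = true := by decide +kernel

set_option maxRecDepth 1000000 in
theorem edges_2_13 : edgesRange E 2 1989 25316 = true := by decide +kernel

set_option maxRecDepth 1000000 in
theorem edges_2_105 : edgesRange E 2 1781 214348 = true := by decide +kernel

set_option maxRecDepth 1000000 in
theorem edges_2_176 : edgesRange E 2 1501 338105 = true := by decide +kernel

set_option maxRecDepth 1000000 in
theorem edges_3_63 : edgesRange E 3 1819 142852 = true := by decide +kernel

set_option maxRecDepth 1000000 in
theorem edges_3_141 : edgesRange E 3 1862 284683 = true := by decide +kernel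

set_option maxRecDepth 1000000 in
theorem edges_4_47 : edgesRange E 4 2881 113234 = true := by decide +kernel

set_option maxRecDepth 1000000 in
theorem edges_4_161 : edgesRange E 4 1718 334311 = true := by decide +kernel

set_option maxRecDepth 1000000 in
theorem edges_5_80 : edgesRange E 5 2319 192283 = true := by decide +kernel

set_option maxRecDepth 1000000 in
theorem edges_5_153 : edgesRange E 5 1639 343617 = true := by decide +kernel

set_option maxRecDepth 1000000 in
theorem edges_6_69 : edgesRange E 6 2029 167719 = true := by decide +kernel

set_option maxRecDepth 1000000 in
theorem edges_7_14 : edgesRange E 7 2291 33711 = true := by decide +kernel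

set_option maxRecDepth 1000000 in
theorem edges_7_72 : edgesRange E 7 1825 168275 = true := by decide +kernel

set_option maxRecDepth 1000000 in
theorem edges_7_143 : edgesRange E 7 2034 303116 = true := by decide +kernel

set_option maxRecDepth 1000000 in
theorem edges_8_58 : edgesRange E 8 1752 139301 = true := by decide +kernel

set_option maxRecDepth 1000000 in
theorem edges_8_135 : edgesRange E 8 1925 278371 = true := by decide +kernel

set_option maxRecDepth 1000000 in
theorem edges_9_49 : edgesRange E 9 3208 115373 = true := by decide +kernel

set_option maxRecDepth 1000000 in
theorem edges_9_109 : edgesRange E 9 1676 226231 = true := by decide +kernel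

set_option maxRecDepth 1000000 in
theorem edges_10_20 : edgesRange E 10 3154 60075 = true := by decide +kernel

set_option maxRecDepth 1000000 in
theorem edges_10_89 : edgesRange E 10 2410 253601 = true := by decide +kernel

set_option maxRecDepth 1000000 in
theorem edges_11_82 : edgesRange E 11 2210 252696 = true := by decide +kernel

set_option maxRecDepth 1000000 in
theorem edges_0_1 : edgesRange E 0 1926 1688 = true := by decide +kernel

set_option maxRecDepth 1000000 in
theorem edges_0_41 : edgesRange E 0 3060 88544 = true := by decide +kernel

set_option maxRecDepth 1000000 in
theorem edges_0_149 : edgesRange E 0 2091 288227 = true := by decide +kernel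

set_option maxRecDepth 1000000 in
theorem edges_1_33 : edgesRange E 1 2802 69085 = true := by decide +kernel

set_option maxRecDepth 1000000 in
theorem edges_1_91 : edgesRange E 1 1935 186382 = true := by decide +kernel

set_option maxRecDepth 1000000 in
theorem edges_1_161 : edgesRange E 1 1931 309366 = true := by decide +kernel

set_option maxRecDepth 1000000 in
theorem edges_2_45 : edgesRange E 2 2445 100991 = true := by decide +kernel

set_option maxRecDepth 1000000 in
theorem edges_2_103 : edgesRange E 2 1845 210751 = true := by decide +kernel

set_option maxRecDepth 1000000 in
theorem edges_3_6 : edgesRange E 3 1898 11841 = true := by decide +kernel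

set_option maxRecDepth 1000000 in
theorem edges_3_79 : edgesRange E 3 1906 171896 = true := by decide +kernel

set_option maxRecDepth 1000000 in
theorem edges_3_156 : edgesRange E 3 1727 311543 = true := by decide +kernel

set_option maxRecDepth 1000000 in
theorem edges_4_25 : edgesRange E 4 2173 56177 = true := by decide +kernel

set_option maxRecDepth 1000000 in
theorem edges_4_73 : edgesRange E 4 1935 166084 = true := by decide +kernel

set_option maxRecDepth 1000000 in
theorem edges_4_163 : edgesRange E 4 1574 337571 = true := by decide +kernel

set_option maxRecDepth 1000000 in
theorem edges_5_34 : edgesRange E 5 3046 86458 = true := by decide +kernel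

set_option maxRecDepth 1000000 in
theorem edges_5_92 : edgesRange E 5 2201 219703 = true := by decide +kernel

set_option maxRecDepth 1000000 in
theorem edges_6_29 : edgesRange E 6 3084 72590 = true := by decide +kernel

set_option maxRecDepth 1000000 in
theorem edges_6_70 : edgesRange E 6 2138 169748 = true := by decide +kernel

set_option maxRecDepth 1000000 in
theorem edges_6_133 : edgesRange E 6 2096 306323 = true := by decide +kernel

set_option maxRecDepth 1000000 in
theorem edges_7_12 : edgesRange E 7 2507 28816 = true := by decide +kernel

set_option maxRecDepth 1000000 in
theorem edges_7_47 : edgesRange E 7 2432 120006 = true := by decide +kernel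

set_option maxRecDepth 1000000 in
theorem edges_7_133 : edgesRange E 7 1859 284266 = true := by decide +kernel

set_option maxRecDepth 1000000 in
theorem edges_8_21 : edgesRange E 8 2876 49990 = true := by decide +kernel

set_option maxRecDepth 1000000 in
theorem edges_8_76 : edgesRange E 8 2046 171877 = true := by decide +kernel

set_option maxRecDepth 1000000 in
theorem edges_8_118 : edgesRange E 8 1539 248311 = true := by decide +kernel

set_option maxRecDepth 1000000 in
theorem edges_9_10 : edgesRange E 9 2336 21156 = true := by decide +kernel

set_option maxRecDepth 1000000 in
theorem edges_9_48 : edgesRange E 9 2677 112696 = true := by decide +kernel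

set_option maxRecDepth 1000000 in
theorem edges_9_112 : edgesRange E 9 2179 231167 = true := by decide +kernel

set_option maxRecDepth 1000000 in
theorem edges_10_10 : edgesRange E 10 3348 27945 = true := by decide +kernel

set_option maxRecDepth 1000000 in
theorem edges_10_57 : edgesRange E 10 2708 170089 = true := by decide +kernel

set_option maxRecDepth 1000000 in
theorem edges_10_99 : edgesRange E 10 2108 276493 = true := by decide +kernel

set_option maxRecDepth 1000000 in
theorem edges_11_14 : edgesRange E 11 3731 39330 = true := by decide +kernel

set_option maxRecDepth 1000000 in
theorem edges_11_43 : edgesRange E 11 2963 153200 = true := by decide +kernel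

set_option maxRecDepth 1000000 in
theorem edges_11_80 : edgesRange E 11 2140 248429 = true := by decide +kernel

set_option maxRecDepth 1000000 in
theorem aliases_2 : aliasRange E 4986 9712 = true := by decide +kernel

set_option maxRecDepth 1000000 in
theorem aliases_36 : aliasRange E 7928 127585 = true := by decide +kernel

set_option maxRecDepth 1000000 in
theorem aliases_52 : aliasRange E 8000 255363 = true := by decide +kernel

set_option maxRecDepth 1000000 in
theorem rows_7 : rowsRange E RS 1500 10500 = true := by decide +kernel

set_option maxRecDepth 1000000 in
theorem rows_23 : rowsRange E RS 1500 34500 = true := by decide +kernel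

set_option maxRecDepth 1000000 in
theorem rows_39 : rowsRange E RS 1500 58500 = true := by decide +kernel

set_option maxRecDepth 1000000 in
theorem rows_55 : rowsRange E RS 1500 82500 = true := by decide +kernel

set_option maxRecDepth 1000000 in
theorem rows_71 : rowsRange E RS 1500 106500 = true := by decide +kernel

set_option maxRecDepth 1000000 in
theorem rows_87 : rowsRange E RS 1500 130500 = true := by decide +kernel

set_option maxRecDepth 1000000 in
theorem rows_103 : rowsRange E RS 1500 154500 = true := by decide +kernel

set_option maxRecDepth 1000000 in
theorem rows_119 : rowsRange E RS 1500 178500 = true := by decide +kernel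

set_option maxRecDepth 1000000 in
theorem rows_135 : rowsRange E RS 1500 202500 = true := by decide +kernel

set_option maxRecDepth 1000000 in
theorem rows_151 : rowsRange E RS 1500 226500 = true := by decide +kernel

set_option maxRecDepth 1000000 in
theorem rows_167 : rowsRange E RS 1500 250500 = true := by decide +kernel

set_option maxRecDepth 1000000 in
theorem rows_183 : rowsRange E RS 1500 274500 = true := by decide +kernel

set_option maxRecDepth 1000000 in
theorem rows_199 : rowsRange E RS 1500 298500 = true := by decide +kernel

set_option maxRecDepth 1000000 in
theorem rows_215 : rowsRange E RS 1500 322500 = true := by decide +kernel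

set_option maxRecDepth 1000000 in
theorem rows_231 : rowsRange E RS 1500 346500 = true := by decide +kernel

end Cfsg.Agent.Helper5.Fi24TC
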