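import Cfsg.Agent.Helper5.Fi24TCDatD
import Cfsg.Agent.Helper5.TC3A

/-! kernel checks of edges, aliases, rows: Fi24TC -/

set_option autoImplicit false
set_option Elab.async false

namespace Cfsg.Agent.Helper5.Fi24TC
open Cfsg.Agent.Helper5.TC

set_option maxRecDepth 1000000 in
theorem cnt_7 : cntFrom RS 20000 140000 0 = 20000 := by decide +kernel

set_option maxRecDepth 1000000 in
theorem edges_3_144 : edgesRange E 3 1772 290166 = true := by decide +kernel

set_option maxRecDepth 1000000 in
theorem edges_6_108 : edgesRange E 6 2127 250563 = true := by decide +kernel

set_option maxRecDepth 1000000 in
theorem edges_3_139 : edgesRange E 3 1866 281034 = true := by decide +kernel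

set_option maxRecDepth 1000000 in
theorem edges_6_128 : edgesRange E 6 2278 295539 = true := by decide +kernel

set_option maxRecDepth 1000000 in
theorem edges_11_41 : edgesRange E 11 2789 146895 = true := by decide +kernel

set_option maxRecDepth 1000000 in
theorem edges_0_153 : edgesRange E 0 1334 296646 = true := by decide +kernel

set_option maxRecDepth 1000000 in
theorem edges_1_104 : edgesRange E 1 1952 209473 = true := by decide +kernel

set_option maxRecDepth 1000000 in
theorem edges_2_35 : edgesRange E 2 2426 76299 = true := by decide +kernel

set_option maxRecDepth 1000000 in
theorem edges_2_186 : edgesRange E 2 1563 354467 = true := by decide +kernel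

set_option maxRecDepth 1000000 in
theorem edges_3_135 : edgesRange E 3 1676 274004 = true := by decide +kernel

set_option maxRecDepth 1000000 in
theorem edges_4_90 : edgesRange E 4 1826 198862 = true := by decide +kernel

set_option maxRecDepth 1000000 in
theorem edges_4_162 : edgesRange E 4 1542 336029 = true := by decide +kernel

set_option maxRecDepth 1000000 in
theorem edges_6_10 : edgesRange E 6 2320 23382 = true := by decide +kernel

set_option maxRecDepth 1000000 in
theorem edges_7_37 : edgesRange E 7 2583 93395 = true := by decide +kernel

set_option maxRecDepth 1000000 in
theorem edges_8_0 : edgesRange E 8 1850 0 = true := by decide +kernel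

set_option maxRecDepth 1000000 in
theorem edges_8_155 : edgesRange E 8 2111 314056 = true := by decide +kernel

set_option maxRecDepth 1000000 in
theorem edges_9_144 : edgesRange E 9 1721 287999 = true := by decide +kernel

set_option maxRecDepth 1000000 in
theorem edges_10_112 : edgesRange E 10 1962 303594 = true := by decide +kernel

set_option maxRecDepth 1000000 in
theorem edges_11_122 : edgesRange E 11 1869 331446 = true := by decide +kernel

set_option maxRecDepth 1000000 in
theorem edges_0_84 : edgesRange E 0 2076 175088 = true := by decide +kernel

set_option maxRecDepth 1000000 in
theorem edges_0_177 : edgesRange E 0 1350 336568 = true := by decide +kernel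

set_option maxRecDepth 1000000 in
theorem edges_2_5 : edgesRange E 2 1955 9549 = true := by decide +kernel

set_option maxRecDepth 1000000 in
theorem edges_2_173 : edgesRange E 2 1897 332851 = true := by decide +kernel

set_option maxRecDepth 1000000 in
theorem edges_3_104 : edgesRange E 3 1950 217320 = true := by decide +kernel

set_option maxRecDepth 1000000 in
theorem edges_4_76 : edgesRange E 4 1996 171939 = true := by decide +kernel

set_option maxRecDepth 1000000 in
theorem edges_5_111 : edgesRange E 5 2278 262393 = true := by decide +kernel

set_option maxRecDepth 1000000 in
theorem edges_7_6 : edgesRange E 7 2410 14744 = true := by decide +kernel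

set_option maxRecDepth 1000000 in
theorem edges_8_23 : edgesRange E 8 2309 55475 = true := by decide +kernel

set_option maxRecDepth 1000000 in
theorem edges_8_137 : edgesRange E 8 1991 282128 = true := by decide +kernel

set_option maxRecDepth 1000000 in
theorem edges_9_173 : edgesRange E 9 1451 337524 = true := by decide +kernel

set_option maxRecDepth 1000000 in
theorem edges_10_115 : edgesRange E 10 2062 309450 = true := by decide +kernel

set_option maxRecDepth 1000000 in
theorem aliases_31 : aliasRange E 2236 113650 = true := by decide +kernel

set_option maxRecDepth 1000000 in
theorem edges_0_154 : edgesRange E 0 1406 297980 = true := by decide +kernel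

set_option maxRecDepth 1000000 in
theorem edges_1_90 : edgesRange E 1 1753 184629 = true := by decide +kernel

set_option maxRecDepth 1000000 in
theorem edges_1_188 : edgesRange E 1 1555 353775 = true := by decide +kernel

set_option maxRecDepth 1000000 in
theorem edges_2_78 : edgesRange E 2 1858 166247 = true := by decide +kernel

set_option maxRecDepth 1000000 in
theorem edges_3_16 : edgesRange E 3 2139 32547 = true := by decide +kernel

set_option maxRecDepth 1000000 in
theorem edges_3_140 : edgesRange E 3 1783 282900 = true := by decide +kernel

set_option maxRecDepth 1000000 in
theorem edges_4_113 : edgesRange E 4 2016 244041 = true := by decide +kernel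

set_option maxRecDepth 1000000 in
theorem edges_5_86 : edgesRange E 5 2253 205552 = true := by decide +kernel

set_option maxRecDepth 1000000 in
theorem edges_6_53 : edgesRange E 6 2139 135482 = true := by decide +kernel

set_option maxRecDepth 1000000 in
theorem edges_7_51 : edgesRange E 7 1840 128916 = true := by decide +kernel

set_option maxRecDepth 1000000 in
theorem edges_7_156 : edgesRange E 7 1926 328037 = true := by decide +kernel

set_option maxRecDepth 1000000 in
theorem edges_8_152 : edgesRange E 8 1644 308897 = true := by decide +kernel

set_option maxRecDepth 1000000 in
theorem edges_9_53 : edgesRange E 9 1714 125894 = true := by decide +kernel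

set_option maxRecDepth 1000000 in
theorem edges_9_169 : edgesRange E 9 1786 330611 = true := by decide +kernel

set_option maxRecDepth 1000000 in
theorem edges_11_32 : edgesRange E 11 4078 116955 = true := by decide +kernel

set_option maxRecDepth 1000000 in
theorem aliases_12 : aliasRange E 3253 52109 = true := by decide +kernel

set_option maxRecDepth 1000000 in
theorem edges_0_79 : edgesRange E 0 1380 164678 = true := by decide +kernel

set_option maxRecDepth 1000000 in
theorem edges_0_136 : edgesRange E 0 2353 266104 = true := by decide +kernel

set_option maxRecDepth 1000000 in
theorem edges_1_53 : edgesRange E 1 2911 117057 = true := by decide +kernel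

set_option maxRecDepth 1000000 in
theorem edges_1_109 : edgesRange E 1 1910 218810 = true := by decide +kernel

set_option maxRecDepth 1000000 in
theorem edges_2_27 : edgesRange E 2 2404 56798 = true := by decide +kernel

set_option maxRecDepth 1000000 in
theorem edges_2_106 : edgesRange E 2 1864 216129 = true := by decide +kernel

set_option maxRecDepth 1000000 in
theorem edges_2_183 : edgesRange E 2 1654 349595 = true := by decide +kernel

set_option maxRecDepth 1000000 in
theorem edges_3_53 : edgesRange E 3 1824 124595 = true := by decide +kernel

set_option maxRecDepth 1000000 in
theorem edges_3_145 : edgesRange E 3 1899 291938 = true := by decide +kernel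

set_option maxRecDepth 1000000 in
theorem edges_4_52 : edgesRange E 4 1902 126548 = true := by decide +kernel

set_option maxRecDepth 1000000 in
theorem edges_4_136 : edgesRange E 4 1873 289426 = true := by decide +kernel

set_option maxRecDepth 1000000 in
theorem edges_5_37 : edgesRange E 5 3245 95762 = true := by decide +kernel

set_option maxRecDepth 1000000 in
theorem edges_5_112 : edgesRange E 5 2372 264671 = true := by decide +kernel

set_option maxRecDepth 1000000 in
theorem edges_6_23 : edgesRange E 6 2496 56508 = true := by decide +kernel

set_option maxRecDepth 1000000 in
theorem edges_6_103 : edgesRange E 6 2300 239396 = true := by decide +kernel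

set_option maxRecDepth 1000000 in
theorem edges_7_35 : edgesRange E 7 3104 87278 = true := by decide +kernel

set_option maxRecDepth 1000000 in
theorem edges_7_155 : edgesRange E 7 1983 326054 = true := by decide +kernel

set_option maxRecDepth 1000000 in
theorem edges_8_69 : edgesRange E 8 1735 159291 = true := by decide +kernel

set_option maxRecDepth 1000000 in
theorem edges_9_4 : edgesRange E 9 2457 8247 = true := by decide +kernel

set_option maxRecDepth 1000000 in
theorem edges_9_87 : edgesRange E 9 2056 186716 = true := by decide +kernel

set_option maxRecDepth 1000000 in
theorem edges_9_164 : edgesRange E 9 1600 322318 = true := by decide +kernel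

set_option maxRecDepth 1000000 in
theorem edges_10_102 : edgesRange E 10 2071 282817 = true := by decide +kernel

set_option maxRecDepth 1000000 in
theorem edges_11_111 : edgesRange E 11 1973 310899 = true := by decide +kernel

set_option maxRecDepth 1000000 in
theorem edges_0_60 : edgesRange E 0 2424 131469 = true := by decide +kernel

set_option maxRecDepth 1000000 in
theorem edges_0_118 : edgesRange E 0 2235 232640 = true := by decide +kernel

set_option maxRecDepth 1000000 in
theorem edges_0_166 : edgesRange E 0 1334 318733 = true := by decide +kernel

set_option maxRecDepth 1000000 in
theorem edges_1_62 : edgesRange E 1 1802 135215 = true := by decide +kernel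

set_option maxRecDepth 1000000 in
theorem edges_1_135 : edgesRange E 1 1886 264473 = true := by decide +kernel

set_option maxRecDepth 1000000 in
theorem edges_2_16 : edgesRange E 2 2270 31610 = true := by decide +kernel

set_option maxRecDepth 1000000 in
theorem edges_2_107 : edgesRange E 2 1860 217993 = true := by decide +kernel

set_option maxRecDepth 1000000 in
theorem edges_2_180 : edgesRange E 2 1868 344643 = true := by decide +kernel

set_option maxRecDepth 1000000 in
theorem edges_3_66 : edgesRange E 3 1863 148280 = true := by decide +kernel

set_option maxRecDepth 1000000 in
theorem edges_3_149 : edgesRange E 3 1618 299313 = true := by decide +kernel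

set_option maxRecDepth 1000000 in
theorem edges_4_49 : edgesRange E 4 2874 118871 = true := by decide +kernel

set_option maxRecDepth 1000000 in
theorem edges_5_1 : edgesRange E 5 2198 2107 = true := by decide +kernel

set_option maxRecDepth 1000000 in
theorem edges_5_81 : edgesRange E 5 2431 194602 = true := by decide +kernel

set_option maxRecDepth 1000000 in
theorem edges_5_156 : edgesRange E 5 1667 348733 = true := by decide +kernel

set_option maxRecDepth 1000000 in
theorem edges_6_73 : edgesRange E 6 1962 176241 = true := by decide +kernel

set_option maxRecDepth 1000000 in
theorem edges_7_15 : edgesRange E 7 2413 36002 = true := by decide +kernel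

set_option maxRecDepth 1000000 in
theorem edges_7_77 : edgesRange E 7 1831 177779 = true := by decide +kernel

set_option maxRecDepth 1000000 in
theorem edges_7_149 : edgesRange E 7 2171 314935 = true := by decide +kernel

set_option maxRecDepth 1000000 in
theorem edges_8_59 : edgesRange E 8 1760 141053 = true := by decide +kernel

set_option maxRecDepth 1000000 in
theorem edges_8_139 : edgesRange E 8 1755 285722 = true := by decide +kernel

set_option maxRecDepth 1000000 in
theorem edges_9_50 : edgesRange E 9 2853 118581 = true := by decide +kernel

set_option maxRecDepth 1000000 in
theorem edges_9_125 : edgesRange E 9 1519 254488 = true := by decide +kernel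

set_option maxRecDepth 1000000 in
theorem edges_10_28 : edgesRange E 10 3531 85919 = true := by decide +kernel

set_option maxRecDepth 1000000 in
theorem edges_10_104 : edgesRange E 10 2259 287100 = true := by decide +kernel

set_option maxRecDepth 1000000 in
theorem edges_11_85 : edgesRange E 11 2088 259017 = true := by decide +kernel

set_option maxRecDepth 1000000 in
theorem edges_0_2 : edgesRange E 0 1922 3614 = true := by decide +kernel

set_option maxRecDepth 1000000 in
theorem edges_0_46 : edgesRange E 0 1632 101150 = true := by decide +kernel

set_option maxRecDepth 1000000 in
theorem edges_0_150 : edgesRange E 0 2158 290318 = true := by decide +kernel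

set_option maxRecDepth 1000000 in
theorem edges_1_42 : edgesRange E 1 3119 90865 = true := by decide +kernel

set_option maxRecDepth 1000000 in
theorem edges_1_99 : edgesRange E 1 1665 200596 = true := by decide +kernel

set_option maxRecDepth 1000000 in
theorem edges_1_164 : edgesRange E 1 1925 314712 = true := by decide +kernel

set_option maxRecDepth 1000000 in
theorem edges_2_49 : edgesRange E 2 2068 110462 = true := by decide +kernel

set_option maxRecDepth 1000000 in
theorem edges_2_112 : edgesRange E 2 1686 226686 = true := by decide +kernel

set_option maxRecDepth 1000000 in
theorem edges_3_24 : edgesRange E 3 2765 50874 = true := by decide +kernel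

set_option maxRecDepth 1000000 in
theorem edges_3_82 : edgesRange E 3 1703 177445 = true := by decide +kernel

set_option maxRecDepth 1000000 in
theorem edges_3_158 : edgesRange E 3 1819 315042 = true := by decide +kernel

set_option maxRecDepth 1000000 in
theorem edges_4_26 : edgesRange E 4 2792 58350 = true := by decide +kernel

set_option maxRecDepth 1000000 in
theorem edges_4_77 : edgesRange E 4 2013 173935 = true := by decide +kernel

set_option maxRecDepth 1000000 in
theorem edges_4_171 : edgesRange E 4 1631 350420 = true := by decide +kernel

set_option maxRecDepth 1000000 in
theorem edges_5_35 : edgesRange E 5 3027 89504 = true := by decide +kernel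

set_option maxRecDepth 1000000 in
theorem edges_5_93 : edgesRange E 5 2083 221904 = true := by decide +kernel

set_option maxRecDepth 1000000 in
theorem edges_6_30 : edgesRange E 6 2331 75674 = true := by decide +kernel

set_option maxRecDepth 1000000 in
theorem edges_6_71 : edgesRange E 6 2257 171886 = true := by decide +kernel

set_option maxRecDepth 1000000 in
theorem edges_6_140 : edgesRange E 6 1962 321108 = true := by decide +kernel

set_option maxRecDepth 1000000 in
theorem edges_7_13 : edgesRange E 7 2388 31323 = true := by decide +kernel

set_option maxRecDepth 1000000 in
theorem edges_7_48 : edgesRange E 7 2771 122438 = true := by decide +kernel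

set_option maxRecDepth 1000000 in
theorem edges_7_136 : edgesRange E 7 2208 289801 = true := by decide +kernel

set_option maxRecDepth 1000000 in
theorem edges_8_22 : edgesRange E 8 2609 52866 = true := by decide +kernel

set_option maxRecDepth 1000000 in
theorem edges_8_78 : edgesRange E 8 1750 175836 = true := by decide +kernel

set_option maxRecDepth 1000000 in
theorem edges_8_123 : edgesRange E 8 1917 256953 = true := by decide +kernel

set_option maxRecDepth 1000000 in
theorem edges_9_11 : edgesRange E 9 2148 23492 = true := by decide +kernel

set_option maxRecDepth 1000000 in
theorem edges_9_51 : edgesRange E 9 2922 121434 = true := by decide +kernel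

set_option maxRecDepth 1000000 in
theorem edges_9_118 : edgesRange E 9 2294 242561 = true := by decide +kernel

set_option maxRecDepth 1000000 in
theorem edges_10_11 : edgesRange E 10 3231 31293 = true := by decide +kernel

set_option maxRecDepth 1000000 in
theorem edges_10_62 : edgesRange E 10 2749 183527 = true := by decide +kernel

set_option maxRecDepth 1000000 in
theorem edges_10_103 : edgesRange E 10 2212 284888 = true := by decide +kernel

set_option maxRecDepth 1000000 in
theorem edges_11_15 : edgesRange E 11 4336 43061 = true := by decide +kernel

set_option maxRecDepth 1000000 in
theorem edges_11_44 : edgesRange E 11 2682 156163 = true := by decide +kernel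

set_option maxRecDepth 1000000 in
theorem edges_11_81 : edgesRange E 11 2127 250569 = true := by decide +kernel

set_option maxRecDepth 1000000 in
theorem aliases_3 : aliasRange E 4944 14698 = true := by decide +kernel

set_option maxRecDepth 1000000 in
theorem aliases_37 : aliasRange E 7994 135513 = true := by decide +kernel

set_option maxRecDepth 1000000 in
theorem aliases_53 : aliasRange E 8000 263363 = true := by decide +kernel

set_option maxRecDepth 1000000 in
theorem rows_8 : rowsRange E RS 1500 12000 = true := by decide +kernel

set_option maxRecDepth 1000000 in
theorem rows_24 : rowsRange E RS 1500 36000 = true := by decide +kernel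

set_option maxRecDepth 1000000 in
theorem rows_40 : rowsRange E RS 1500 60000 = true := by decide +kernel

set_option maxRecDepth 1000000 in
theorem rows_56 : rowsRange E RS 1500 84000 = true := by decide +kernel

set_option maxRecDepth 1000000 in
theorem rows_72 : rowsRange E RS 1500 108000 = true := by decide +kernel

set_option maxRecDepth 1000000 in
theorem rows_88 : rowsRange E RS 1500 132000 = true := by decide +kernel

set_option maxRecDepth 1000000 in
theorem rows_104 : rowsRange E RS 1500 156000 = true := by decide +kernel

set_option maxRecDepth 1000000 in
theorem rows_120 : rowsRange E RS 1500 180000 = true := by decide +kernel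

set_option maxRecDepth 1000000 in
theorem rows_136 : rowsRange E RS 1500 204000 = true := by decide +kernel

set_option maxRecDepth 1000000 in
theorem rows_152 : rowsRange E RS 1500 228000 = true := by decide +kernel

set_option maxRecDepth 1000000 in
theorem rows_168 : rowsRange E RS 1500 252000 = true := by decide +kernel

set_option maxRecDepth 1000000 in
theorem rows_184 : rowsRange E RS 1500 276000 = true := by decide +kernel

set_option maxRecDepth 1000000 in
theorem rows_200 : rowsRange E RS 1500 300000 = true := by decide +kernel

set_option maxRecDepth 1000000 in
theorem rows_216 : rowsRange E RS 1500 324000 = true := by decide +kernel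

set_option maxRecDepth 1000000 in
theorem rows_232 : rowsRange E RS 1500 348000 = true := by decide +kernel

end Cfsg.Agent.Helper5.Fi24TC
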