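import Cfsg.Agent.Helper5.Fi24TCDatD
import Cfsg.Agent.Helper5.TC3A

/-! kernel checks of edges, aliases, rows: Fi24TC -/

set_option autoImplicit false
set_option Elab.async false

namespace Cfsg.Agent.Helper5.Fi24TC
open Cfsg.Agent.Helper5.TC

set_option maxRecDepth 1000000 in
theorem cnt_8 : cntFrom RS 20000 160000 0 = 20000 := by decide +kernel

set_option maxRecDepth 1000000 in
theorem edges_4_38 : edgesRange E 4 2791 89816 = true := by decide +kernel

set_option maxRecDepth 1000000 in
theorem edges_6_112 : edgesRange E 6 2266 259613 = true := by decide +kernel

set_option maxRecDepth 1000000 in
theorem edges_3_157 : edgesRange E 3 1772 313270 = true := by decide +kernel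

set_option maxRecDepth 1000000 in
theorem edges_6_147 : edgesRange E 6 2053 334903 = true := by decide +kernel

set_option maxRecDepth 1000000 in
theorem edges_11_60 : edgesRange E 11 2530 200649 = true := by decide +kernel

set_option maxRecDepth 1000000 in
theorem edges_0_170 : edgesRange E 0 1365 324168 = true := by decide +kernel

set_option maxRecDepth 1000000 in
theorem edges_1_107 : edgesRange E 1 1898 214966 = true := by decide +kernel

set_option maxRecDepth 1000000 in
theorem edges_2_48 : edgesRange E 2 2201 108261 = true := by decide +kernel

set_option maxRecDepth 1000000 in
theorem edges_3_10 : edgesRange E 3 2155 19618 = true := by decide +kernel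

set_option maxRecDepth 1000000 in
theorem edges_3_137 : edgesRange E 3 1701 277503 = true := by decide +kernel

set_option maxRecDepth 1000000 in
theorem edges_4_100 : edgesRange E 4 2088 218187 = true := by decide +kernel

set_option maxRecDepth 1000000 in
theorem edges_4_167 : edgesRange E 4 1691 344027 = true := by decide +kernel

set_option maxRecDepth 1000000 in
theorem edges_6_16 : edgesRange E 6 2906 37866 = true := by decide +kernel

set_option maxRecDepth 1000000 in
theorem edges_7_62 : edgesRange E 7 1861 149620 = true := by decide +kernel

set_option maxRecDepth 1000000 in
theorem edges_8_11 : edgesRange E 8 2236 25627 = true := by decide +kernel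

set_option maxRecDepth 1000000 in
theorem edges_8_164 : edgesRange E 8 1727 329774 = true := by decide +kernel

set_option maxRecDepth 1000000 in
theorem edges_9_145 : edgesRange E 9 1915 289720 = true := by decide +kernel

set_option maxRecDepth 1000000 in
theorem edges_10_113 : edgesRange E 10 1941 305556 = true := by decide +kernel

set_option maxRecDepth 1000000 in
theorem edges_11_125 : edgesRange E 11 1662 336960 = true := by decide +kernel

set_option maxRecDepth 1000000 in
theorem edges_0_95 : edgesRange E 0 2404 193805 = true := by decide +kernel

set_option maxRecDepth 1000000 in
theorem edges_0_178 : edgesRange E 0 1348 337918 = true := by decide +kernel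

set_option maxRecDepth 1000000 in
theorem edges_2_36 : edgesRange E 2 2645 78725 = true := by decide +kernel

set_option maxRecDepth 1000000 in
theorem edges_2_174 : edgesRange E 2 1883 334748 = true := by decide +kernel

set_option maxRecDepth 1000000 in
theorem edges_3_105 : edgesRange E 3 1895 219270 = true := by decide +kernel

set_option maxRecDepth 1000000 in
theorem edges_4_98 : edgesRange E 4 2015 214169 = true := by decide +kernel

set_option maxRecDepth 1000000 in
theorem edges_5_115 : edgesRange E 5 2159 271496 = true := by decide +kernel

set_option maxRecDepth 1000000 in
theorem edges_7_57 : edgesRange E 7 1820 140394 = true := by decide +kernel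

set_option maxRecDepth 1000000 in
theorem edges_8_27 : edgesRange E 8 2691 64919 = true := by decide +kernel

set_option maxRecDepth 1000000 in
theorem edges_8_167 : edgesRange E 8 1551 335488 = true := by decide +kernel

set_option maxRecDepth 1000000 in
theorem edges_10_7 : edgesRange E 10 3179 18136 = true := by decide +kernel

set_option maxRecDepth 1000000 in
theorem edges_10_128 : edgesRange E 10 1863 333963 = true := by decide +kernel

set_option maxRecDepth 1000000 in
theorem aliases_34 : aliasRange E 2466 120719 = true := by decide +kernel

set_option maxRecDepth 1000000 in
theorem edges_0_159 : edgesRange E 0 1364 304879 = true := by decide +kernel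

set_option maxRecDepth 1000000 in
theorem edges_1_118 : edgesRange E 1 1884 234424 = true := by decide +kernel

set_option maxRecDepth 1000000 in
theorem edges_2_0 : edgesRange E 2 1714 0 = true := by decide +kernel

set_option maxRecDepth 1000000 in
theorem edges_2_80 : edgesRange E 2 1708 169972 = true := by decide +kernel

set_option maxRecDepth 1000000 in
theorem edges_3_19 : edgesRange E 3 2334 39477 = true := by decide +kernel

set_option maxRecDepth 1000000 in
theorem edges_3_143 : edgesRange E 3 1769 288397 = true := by decide +kernel

set_option maxRecDepth 1000000 in
theorem edges_4_132 : edgesRange E 4 1942 281772 = true := by decide +kernel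

set_option maxRecDepth 1000000 in
theorem edges_5_88 : edgesRange E 5 2263 210199 = true := by decide +kernel

set_option maxRecDepth 1000000 in
theorem edges_6_60 : edgesRange E 6 2074 149479 = true := by decide +kernel

set_option maxRecDepth 1000000 in
theorem edges_7_56 : edgesRange E 7 1740 138654 = true := by decide +kernel

set_option maxRecDepth 1000000 in
theorem edges_7_160 : edgesRange E 7 1753 335877 = true := by decide +kernel

set_option maxRecDepth 1000000 in
theorem edges_8_153 : edgesRange E 8 1713 310541 = true := by decide +kernel

set_option maxRecDepth 1000000 in
theorem edges_9_78 : edgesRange E 9 1780 170800 = true := by decide +kernel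

set_option maxRecDepth 1000000 in
theorem edges_9_177 : edgesRange E 9 1933 343971 = true := by decide +kernel

set_option maxRecDepth 1000000 in
theorem edges_11_37 : edgesRange E 11 3189 134658 = true := by decide +kernel

set_option maxRecDepth 1000000 in
theorem aliases_14 : aliasRange E 3759 59226 = true := by decide +kernel

set_option maxRecDepth 1000000 in
theorem edges_0_80 : edgesRange E 0 2019 166058 = true := by decide +kernel

set_option maxRecDepth 1000000 in
theorem edges_0_139 : edgesRange E 0 1401 272165 = true := by decide +kernel

set_option maxRecDepth 1000000 in
theorem edges_1_67 : edgesRange E 1 1951 143742 = true := by decide +kernel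

set_option maxRecDepth 1000000 in
theorem edges_1_111 : edgesRange E 1 1576 222197 = true := by decide +kernel

set_option maxRecDepth 1000000 in
theorem edges_2_28 : edgesRange E 2 2476 59202 = true := by decide +kernel

set_option maxRecDepth 1000000 in
theorem edges_2_110 : edgesRange E 2 1642 223291 = true := by decide +kernel

set_option maxRecDepth 1000000 in
theorem edges_2_184 : edgesRange E 2 1717 351249 = true := by decide +kernel

set_option maxRecDepth 1000000 in
theorem edges_3_72 : edgesRange E 3 1742 159237 = true := by decide +kernel

set_option maxRecDepth 1000000 in
theorem edges_3_147 : edgesRange E 3 1896 295783 = true := by decide +kernel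

set_option maxRecDepth 1000000 in
theorem edges_4_54 : edgesRange E 4 1872 130275 = true := by decide +kernel

set_option maxRecDepth 1000000 in
theorem edges_4_140 : edgesRange E 4 1845 297215 = true := by decide +kernel

set_option maxRecDepth 1000000 in
theorem edges_5_41 : edgesRange E 5 2423 107098 = true := by decide +kernel

set_option maxRecDepth 1000000 in
theorem edges_5_119 : edgesRange E 5 2086 279975 = true := by decide +kernel

set_option maxRecDepth 1000000 in
theorem edges_6_32 : edgesRange E 6 2622 81021 = true := by decide +kernel

set_option maxRecDepth 1000000 in
theorem edges_6_104 : edgesRange E 6 2303 241696 = true := by decide +kernel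

set_option maxRecDepth 1000000 in
theorem edges_7_49 : edgesRange E 7 1792 125209 = true := by decide +kernel

set_option maxRecDepth 1000000 in
theorem edges_7_157 : edgesRange E 7 1914 329963 = true := by decide +kernel

set_option maxRecDepth 1000000 in
theorem edges_8_70 : edgesRange E 8 1714 161026 = true := by decide +kernel

set_option maxRecDepth 1000000 in
theorem edges_9_7 : edgesRange E 9 2137 14839 = true := by decide +kernel

set_option maxRecDepth 1000000 in
theorem edges_9_88 : edgesRange E 9 1746 188772 = true := by decide +kernel

set_option maxRecDepth 1000000 in
theorem edges_9_171 : edgesRange E 9 1658 334509 = true := by decide +kernel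

set_option maxRecDepth 1000000 in
theorem edges_10_105 : edgesRange E 10 2263 289359 = true := by decide +kernel

set_option maxRecDepth 1000000 in
theorem edges_11_115 : edgesRange E 11 1774 318742 = true := by decide +kernel

set_option maxRecDepth 1000000 in
theorem edges_0_61 : edgesRange E 0 2354 133893 = true := by decide +kernel

set_option maxRecDepth 1000000 in
theorem edges_0_120 : edgesRange E 0 2118 237317 = true := by decide +kernel

set_option maxRecDepth 1000000 in
theorem edges_0_171 : edgesRange E 0 1351 325533 = true := by decide +kernel

set_option maxRecDepth 1000000 in
theorem edges_1_66 : edgesRange E 1 1921 141821 = true := by decide +kernel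

set_option maxRecDepth 1000000 in
theorem edges_1_137 : edgesRange E 1 2016 268251 = true := by decide +kernel

set_option maxRecDepth 1000000 in
theorem edges_2_18 : edgesRange E 2 2264 35933 = true := by decide +kernel

set_option maxRecDepth 1000000 in
theorem edges_2_108 : edgesRange E 2 1819 219853 = true := by decide +kernel

set_option maxRecDepth 1000000 in
theorem edges_2_185 : edgesRange E 2 1501 352966 = true := by decide +kernel

set_option maxRecDepth 1000000 in
theorem edges_3_70 : edgesRange E 3 1773 155734 = true := by decide +kernel

set_option maxRecDepth 1000000 in
theorem edges_3_151 : edgesRange E 3 1688 302703 = true := by decide +kernel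

set_option maxRecDepth 1000000 in
theorem edges_4_55 : edgesRange E 4 1971 132147 = true := by decide +kernel

set_option maxRecDepth 1000000 in
theorem edges_5_2 : edgesRange E 5 2337 4305 = true := by decide +kernel

set_option maxRecDepth 1000000 in
theorem edges_5_85 : edgesRange E 5 2194 203358 = true := by decide +kernel

set_option maxRecDepth 1000000 in
theorem edges_6_1 : edgesRange E 6 2617 2282 = true := by decide +kernel

set_option maxRecDepth 1000000 in
theorem edges_6_81 : edgesRange E 6 2291 192277 = true := by decide +kernel

set_option maxRecDepth 1000000 in
theorem edges_7_22 : edgesRange E 7 2727 53637 = true := by decide +kernel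

set_option maxRecDepth 1000000 in
theorem edges_7_78 : edgesRange E 7 1717 179610 = true := by decide +kernel

set_option maxRecDepth 1000000 in
theorem edges_7_153 : edgesRange E 7 1792 322364 = true := by decide +kernel

set_option maxRecDepth 1000000 in
theorem edges_8_73 : edgesRange E 8 1946 166332 = true := by decide +kernel

set_option maxRecDepth 1000000 in
theorem edges_8_149 : edgesRange E 8 1856 303313 = true := by decide +kernel

set_option maxRecDepth 1000000 in
theorem edges_9_54 : edgesRange E 9 1658 127608 = true := by decide +kernel

set_option maxRecDepth 1000000 in
theorem edges_9_126 : edgesRange E 9 2120 256007 = true := by decide +kernel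

set_option maxRecDepth 1000000 in
theorem edges_10_30 : edgesRange E 10 3479 93243 = true := by decide +kernel

set_option maxRecDepth 1000000 in
theorem edges_10_110 : edgesRange E 10 1998 299673 = true := by decide +kernel

set_option maxRecDepth 1000000 in
theorem edges_11_96 : edgesRange E 11 1886 281845 = true := by decide +kernel

set_option maxRecDepth 1000000 in
theorem edges_0_3 : edgesRange E 0 2073 5536 = true := by decide +kernel

set_option maxRecDepth 1000000 in
theorem edges_0_53 : edgesRange E 0 2786 118305 = true := by decide +kernel

set_option maxRecDepth 1000000 in
theorem edges_0_160 : edgesRange E 0 1645 306243 = true := by decide +kernel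

set_option maxRecDepth 1000000 in
theorem edges_1_44 : edgesRange E 1 2672 95894 = true := by decide +kernel

set_option maxRecDepth 1000000 in
theorem edges_1_102 : edgesRange E 1 1840 205875 = true := by decide +kernel

set_option maxRecDepth 1000000 in
theorem edges_1_166 : edgesRange E 1 1355 318423 = true := by decide +kernel

set_option maxRecDepth 1000000 in
theorem edges_2_53 : edgesRange E 2 2111 120491 = true := by decide +kernel

set_option maxRecDepth 1000000 in
theorem edges_2_117 : edgesRange E 2 1865 235595 = true := by decide +kernel

set_option maxRecDepth 1000000 in
theorem edges_3_35 : edgesRange E 3 2707 78531 = true := by decide +kernel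

set_option maxRecDepth 1000000 in
theorem edges_3_84 : edgesRange E 3 1811 180894 = true := by decide +kernel

set_option maxRecDepth 1000000 in
theorem edges_3_160 : edgesRange E 3 1650 318895 = true := by decide +kernel

set_option maxRecDepth 1000000 in
theorem edges_4_27 : edgesRange E 4 2212 61142 = true := by decide +kernel

set_option maxRecDepth 1000000 in
theorem edges_4_79 : edgesRange E 4 1816 177764 = true := by decide +kernel

set_option maxRecDepth 1000000 in
theorem edges_4_173 : edgesRange E 4 1647 353681 = true := by decide +kernel

set_option maxRecDepth 1000000 in
theorem edges_5_38 : edgesRange E 5 2438 99007 = true := by decide +kernel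

set_option maxRecDepth 1000000 in
theorem edges_5_102 : edgesRange E 5 2356 242468 = true := by decide +kernel

set_option maxRecDepth 1000000 in
theorem edges_6_31 : edgesRange E 6 3016 78005 = true := by decide +kernel

set_option maxRecDepth 1000000 in
theorem edges_6_75 : edgesRange E 6 1897 180046 = true := by decide +kernel

set_option maxRecDepth 1000000 in
theorem edges_6_145 : edgesRange E 6 1965 330925 = true := by decide +kernel

set_option maxRecDepth 1000000 in
theorem edges_7_18 : edgesRange E 7 2538 43507 = true := by decide +kernel

set_option maxRecDepth 1000000 in
theorem edges_7_50 : edgesRange E 7 1915 127001 = true := by decide +kernel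

set_option maxRecDepth 1000000 in
theorem edges_7_138 : edgesRange E 7 2000 294232 = true := by decide +kernel

set_option maxRecDepth 1000000 in
theorem edges_8_25 : edgesRange E 8 2508 60312 = true := by decide +kernel

set_option maxRecDepth 1000000 in
theorem edges_8_79 : edgesRange E 8 1744 177586 = true := by decide +kernel

set_option maxRecDepth 1000000 in
theorem edges_8_129 : edgesRange E 8 2026 268153 = true := by decide +kernel

set_option maxRecDepth 1000000 in
theorem edges_9_12 : edgesRange E 9 2038 25640 = true := by decide +kernel

set_option maxRecDepth 1000000 in
theorem edges_9_52 : edgesRange E 9 1538 124356 = true := by decide +kernel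

set_option maxRecDepth 1000000 in
theorem edges_9_120 : edgesRange E 9 1389 246583 = true := by decide +kernel

set_option maxRecDepth 1000000 in
theorem edges_10_12 : edgesRange E 10 3122 34524 = true := by decide +kernel

set_option maxRecDepth 1000000 in
theorem edges_10_64 : edgesRange E 10 2781 188755 = true := by decide +kernel

set_option maxRecDepth 1000000 in
theorem edges_10_108 : edgesRange E 10 1917 295851 = true := by decide +kernel

set_option maxRecDepth 1000000 in
theorem edges_11_16 : edgesRange E 11 4681 47397 = true := by decide +kernel

set_option maxRecDepth 1000000 in
theorem edges_11_45 : edgesRange E 11 2935 158845 = true := by decide +kernel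

set_option maxRecDepth 1000000 in
theorem edges_11_83 : edgesRange E 11 2009 254906 = true := by decide +kernel

set_option maxRecDepth 1000000 in
theorem aliases_4 : aliasRange E 4524 19642 = true := by decide +kernel

set_option maxRecDepth 1000000 in
theorem aliases_38 : aliasRange E 8000 143507 = true := by decide +kernel

set_option maxRecDepth 1000000 in
theorem aliases_54 : aliasRange E 8000 271363 = true := by decide +kernel

set_option maxRecDepth 1000000 in
theorem rows_9 : rowsRange E RS 1500 13500 = true := by decide +kernel

set_option maxRecDepth 1000000 in
theorem rows_25 : rowsRange E RS 1500 37500 = true := by decide +kernel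

set_option maxRecDepth 1000000 in
theorem rows_41 : rowsRange E RS 1500 61500 = true := by decide +kernel

set_option maxRecDepth 1000000 in
theorem rows_57 : rowsRange E RS 1500 85500 = true := by decide +kernel

set_option maxRecDepth 1000000 in
theorem rows_73 : rowsRange E RS 1500 109500 = true := by decide +kernel

set_option maxRecDepth 1000000 in
theorem rows_89 : rowsRange E RS 1500 133500 = true := by decide +kernel

set_option maxRecDepth 1000000 in
theorem rows_105 : rowsRange E RS 1500 157500 = true := by decide +kernel

set_option maxRecDepth 1000000 in
theorem rows_121 : rowsRange E RS 1500 181500 = true := by decide +kernel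

set_option maxRecDepth 1000000 in
theorem rows_137 : rowsRange E RS 1500 205500 = true := by decide +kernel

set_option maxRecDepth 1000000 in
theorem rows_153 : rowsRange E RS 1500 229500 = true := by decide +kernel

set_option maxRecDepth 1000000 in
theorem rows_169 : rowsRange E RS 1500 253500 = true := by decide +kernel

set_option maxRecDepth 1000000 in
theorem rows_185 : rowsRange E RS 1500 277500 = true := by decide +kernel

set_option maxRecDepth 1000000 in
theorem rows_201 : rowsRange E RS 1500 301500 = true := by decide +kernel

set_option maxRecDepth 1000000 in
theorem rows_217 : rowsRange E RS 1500 325500 = true := by decide +kernel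

set_option maxRecDepth 1000000 in
theorem rows_233 : rowsRange E RS 1500 349500 = true := by decide +kernel

end Cfsg.Agent.Helper5.Fi24TC
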