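import Cfsg.Agent.Helper5.Fi24TCDatD
import Cfsg.Agent.Helper5.TC3A

/-! kernel checks of edges, aliases, rows: Fi24TC -/

set_option autoImplicit false
set_option Elab.async false

namespace Cfsg.Agent.Helper5.Fi24TC
open Cfsg.Agent.Helper5.TC

set_option maxRecDepth 1000000 in
theorem cnt_9 : cntFrom RS 20000 180000 0 = 19990 := by decide +kernel

set_option maxRecDepth 1000000 in
theorem edges_4_95 : edgesRange E 4 2073 208287 = true := by decide +kernel

set_option maxRecDepth 1000000 in
theorem edges_6_141 : edgesRange E 6 1959 323070 = true := by decide +kernel

set_option maxRecDepth 1000000 in
theorem edges_4_50 : edgesRange E 4 3006 121745 = true := by decide +kernel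

set_option maxRecDepth 1000000 in
theorem edges_7_128 : edgesRange E 7 1760 274658 = true := by decide +kernel

set_option maxRecDepth 1000000 in
theorem edges_11_116 : edgesRange E 11 1715 320516 = true := by decide +kernel

set_option maxRecDepth 1000000 in
theorem edges_0_172 : edgesRange E 0 1748 326884 = true := by decide +kernel

set_option maxRecDepth 1000000 in
theorem edges_1_110 : edgesRange E 1 1477 220720 = true := by decide +kernel

set_option maxRecDepth 1000000 in
theorem edges_2_60 : edgesRange E 2 1865 134185 = true := by decide +kernel

set_option maxRecDepth 1000000 in
theorem edges_3_25 : edgesRange E 3 2643 53639 = true := by decide +kernel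

set_option maxRecDepth 1000000 in
theorem edges_3_138 : edgesRange E 3 1830 279204 = true := by decide +kernel

set_option maxRecDepth 1000000 in
theorem edges_4_102 : edgesRange E 4 1879 222210 = true := by decide +kernel

set_option maxRecDepth 1000000 in
theorem edges_5_0 : edgesRange E 5 2107 0 = true := by decide +kernel

set_option maxRecDepth 1000000 in
theorem edges_6_19 : edgesRange E 6 2163 45835 = true := by decide +kernel

set_option maxRecDepth 1000000 in
theorem edges_7_71 : edgesRange E 7 1972 166303 = true := by decide +kernel

set_option maxRecDepth 1000000 in
theorem edges_8_17 : edgesRange E 8 2458 40302 = true := by decide +kernel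

set_option maxRecDepth 1000000 in
theorem edges_8_174 : edgesRange E 8 1522 347355 = true := by decide +kernel

set_option maxRecDepth 1000000 in
theorem edges_9_147 : edgesRange E 9 2095 293727 = true := by decide +kernel

set_option maxRecDepth 1000000 in
theorem edges_10_117 : edgesRange E 10 2086 313481 = true := by decide +kernel

set_option maxRecDepth 1000000 in
theorem edges_11_133 : edgesRange E 11 1776 351114 = true := by decide +kernel

set_option maxRecDepth 1000000 in
theorem edges_0_103 : edgesRange E 0 1380 206722 = true := by decide +kernel

set_option maxRecDepth 1000000 in
theorem edges_0_182 : edgesRange E 0 2027 344325 = true := by decide +kernel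

set_option maxRecDepth 1000000 in
theorem edges_2_41 : edgesRange E 2 3082 90860 = true := by decide +kernel

set_option maxRecDepth 1000000 in
theorem edges_2_175 : edgesRange E 2 1474 336631 = true := by decide +kernel

set_option maxRecDepth 1000000 in
theorem edges_3_134 : edgesRange E 3 1673 272331 = true := by decide +kernel

set_option maxRecDepth 1000000 in
theorem edges_4_104 : edgesRange E 4 1928 225916 = true := by decide +kernel

set_option maxRecDepth 1000000 in
theorem edges_5_138 : edgesRange E 5 1811 317576 = true := by decide +kernel

set_option maxRecDepth 1000000 in
theorem edges_7_61 : edgesRange E 7 1945 147675 = true := by decide +kernel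

set_option maxRecDepth 1000000 in
theorem edges_8_40 : edgesRange E 8 2169 99051 = true := by decide +kernel

set_option maxRecDepth 1000000 in
theorem edges_8_171 : edgesRange E 8 1728 342018 = true := by decide +kernel

set_option maxRecDepth 1000000 in
theorem edges_10_9 : edgesRange E 10 3235 24710 = true := by decide +kernel

set_option maxRecDepth 1000000 in
theorem edges_10_130 : edgesRange E 10 1652 337532 = true := by decide +kernel

set_option maxRecDepth 1000000 in
theorem edges_0_18 : edgesRange E 0 2641 35273 = true := by decide +kernel

set_option maxRecDepth 1000000 in
theorem edges_0_100 : edgesRange E 0 1379 202552 = true := by decide +kernel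

set_option maxRecDepth 1000000 in
theorem edges_1_30 : edgesRange E 1 1800 62412 = true := by decide +kernel

set_option maxRecDepth 1000000 in
theorem edges_1_148 : edgesRange E 1 1718 287298 = true := by decide +kernel

set_option maxRecDepth 1000000 in
theorem edges_2_26 : edgesRange E 2 2317 54481 = true := by decide +kernel

set_option maxRecDepth 1000000 in
theorem edges_2_135 : edgesRange E 2 1874 267545 = true := by decide +kernel

set_option maxRecDepth 1000000 in
theorem edges_3_62 : edgesRange E 3 1782 141070 = true := by decide +kernel

set_option maxRecDepth 1000000 in
theorem edges_4_59 : edgesRange E 4 1754 139983 = true := by decide +kernel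

set_option maxRecDepth 1000000 in
theorem edges_4_174 : edgesRange E 4 1704 355328 = true := by decide +kernel

set_option maxRecDepth 1000000 in
theorem edges_5_142 : edgesRange E 5 1597 324552 = true := by decide +kernel

set_option maxRecDepth 1000000 in
theorem edges_6_101 : edgesRange E 6 2180 234950 = true := by decide +kernel

set_option maxRecDepth 1000000 in
theorem edges_7_114 : edgesRange E 7 1684 247829 = true := by decide +kernel

set_option maxRecDepth 1000000 in
theorem edges_8_108 : edgesRange E 8 1775 229785 = true := by decide +kernel

set_option maxRecDepth 1000000 in
theorem edges_9_18 : edgesRange E 9 2288 39484 = true := by decide +kernel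

set_option maxRecDepth 1000000 in
theorem edges_9_136 : edgesRange E 9 1551 274254 = true := by decide +kernel

set_option maxRecDepth 1000000 in
theorem edges_10_83 : edgesRange E 10 2827 238926 = true := by decide +kernel

set_option maxRecDepth 1000000 in
theorem edges_11_95 : edgesRange E 11 2011 279834 = true := by decide +kernel

set_option maxRecDepth 1000000 in
theorem edges_0_17 : edgesRange E 0 2164 33109 = true := by decide +kernel

set_option maxRecDepth 1000000 in
theorem edges_0_93 : edgesRange E 0 2352 189222 = true := by decide +kernel

set_option maxRecDepth 1000000 in
theorem edges_1_12 : edgesRange E 1 2104 22751 = true := by decide +kernel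

set_option maxRecDepth 1000000 in
theorem edges_1_86 : edgesRange E 1 1505 177735 = true := by decide +kernel

set_option maxRecDepth 1000000 in
theorem edges_1_143 : edgesRange E 1 1793 278264 = true := by decide +kernel

set_option maxRecDepth 1000000 in
theorem edges_2_81 : edgesRange E 2 1832 171680 = true := by decide +kernel

set_option maxRecDepth 1000000 in
theorem edges_2_141 : edgesRange E 2 1710 277815 = true := by decide +kernel

set_option maxRecDepth 1000000 in
theorem edges_3_17 : edgesRange E 3 2285 34686 = true := by decide +kernel

set_option maxRecDepth 1000000 in
theorem edges_3_110 : edgesRange E 3 1800 228144 = true := by decide +kernel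

set_option maxRecDepth 1000000 in
theorem edges_4_9 : edgesRange E 4 2060 18562 = true := by decide +kernel

set_option maxRecDepth 1000000 in
theorem edges_4_83 : edgesRange E 4 1884 185143 = true := by decide +kernel

set_option maxRecDepth 1000000 in
theorem edges_4_164 : edgesRange E 4 1583 339145 = true := by decide +kernel

set_option maxRecDepth 1000000 in
theorem edges_5_77 : edgesRange E 5 2262 185634 = true := by decide +kernel

set_option maxRecDepth 1000000 in
theorem edges_5_147 : edgesRange E 5 1810 333345 = true := by decide +kernel

set_option maxRecDepth 1000000 in
theorem edges_6_63 : edgesRange E 6 1953 155887 = true := by decide +kernel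

set_option maxRecDepth 1000000 in
theorem edges_6_143 : edgesRange E 6 1928 327006 = true := by decide +kernel

set_option maxRecDepth 1000000 in
theorem edges_7_87 : edgesRange E 7 2011 196455 = true := by decide +kernel

set_option maxRecDepth 1000000 in
theorem edges_8_24 : edgesRange E 8 2528 57784 = true := by decide +kernel

set_option maxRecDepth 1000000 in
theorem edges_8_122 : edgesRange E 8 1864 255089 = true := by decide +kernel

set_option maxRecDepth 1000000 in
theorem edges_9_47 : edgesRange E 9 1912 110784 = true := by decide +kernel

set_option maxRecDepth 1000000 in
theorem edges_9_117 : edgesRange E 9 1995 240566 = true := by decide +kernel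

set_option maxRecDepth 1000000 in
theorem edges_10_45 : edgesRange E 10 2503 138700 = true := by decide +kernel

set_option maxRecDepth 1000000 in
theorem edges_11_62 : edgesRange E 11 2363 205902 = true := by decide +kernel

set_option maxRecDepth 1000000 in
theorem edges_0_30 : edgesRange E 0 2541 61706 = true := by decide +kernel

set_option maxRecDepth 1000000 in
theorem edges_0_89 : edgesRange E 0 1412 182708 = true := by decide +kernel

set_option maxRecDepth 1000000 in
theorem edges_0_138 : edgesRange E 0 1334 270831 = true := by decide +kernel

set_option maxRecDepth 1000000 in
theorem edges_1_20 : edgesRange E 1 2024 39596 = true := by decide +kernel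

set_option maxRecDepth 1000000 in
theorem edges_1_93 : edgesRange E 1 1759 190193 = true := by decide +kernel

set_option maxRecDepth 1000000 in
theorem edges_1_170 : edgesRange E 1 1637 324510 = true := by decide +kernel

set_option maxRecDepth 1000000 in
theorem edges_2_55 : edgesRange E 2 1766 125053 = true := by decide +kernel

set_option maxRecDepth 1000000 in
theorem edges_2_130 : edgesRange E 2 1689 258599 = true := by decide +kernel

set_option maxRecDepth 1000000 in
theorem edges_3_27 : edgesRange E 3 2688 58382 = true := by decide +kernel

set_option maxRecDepth 1000000 in
theorem edges_3_113 : edgesRange E 3 1853 233625 = true := by decide +kernel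

set_option maxRecDepth 1000000 in
theorem edges_4_7 : edgesRange E 4 2008 14415 = true := by decide +kernel

set_option maxRecDepth 1000000 in
theorem edges_4_109 : edgesRange E 4 1916 236015 = true := by decide +kernel

set_option maxRecDepth 1000000 in
theorem edges_5_58 : edgesRange E 5 2042 145974 = true := by decide +kernel

set_option maxRecDepth 1000000 in
theorem edges_5_105 : edgesRange E 5 2229 249089 = true := by decide +kernel

set_option maxRecDepth 1000000 in
theorem edges_6_20 : edgesRange E 6 2781 47998 = true := by decide +kernel

set_option maxRecDepth 1000000 in
theorem edges_6_121 : edgesRange E 6 2251 279794 = true := by decide +kernel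

set_option maxRecDepth 1000000 in
theorem edges_7_53 : edgesRange E 7 1905 132688 = true := by decide +kernel

set_option maxRecDepth 1000000 in
theorem edges_7_111 : edgesRange E 7 2097 241797 = true := by decide +kernel

set_option maxRecDepth 1000000 in
theorem edges_8_20 : edgesRange E 8 2432 47558 = true := by decide +kernel

set_option maxRecDepth 1000000 in
theorem edges_8_113 : edgesRange E 8 2041 238728 = true := by decide +kernel

set_option maxRecDepth 1000000 in
theorem edges_9_3 : edgesRange E 9 2327 5920 = true := by decide +kernel

set_option maxRecDepth 1000000 in
theorem edges_9_75 : edgesRange E 9 2115 165086 = true := by decide +kernel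

set_option maxRecDepth 1000000 in
theorem edges_9_160 : edgesRange E 9 2168 315828 = true := by decide +kernel

set_option maxRecDepth 1000000 in
theorem edges_10_59 : edgesRange E 10 2591 175754 = true := by decide +kernel

set_option maxRecDepth 1000000 in
theorem edges_11_33 : edgesRange E 11 4130 121033 = true := by decide +kernel

set_option maxRecDepth 1000000 in
theorem edges_11_134 : edgesRange E 11 1621 352890 = true := by decide +kernel

set_option maxRecDepth 1000000 in
theorem edges_0_54 : edgesRange E 0 2715 121091 = true := by decide +kernel

set_option maxRecDepth 1000000 in
theorem edges_0_167 : edgesRange E 0 1377 320067 = true := by decide +kernel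

set_option maxRecDepth 1000000 in
theorem edges_1_45 : edgesRange E 1 2152 98566 = true := by decide +kernel

set_option maxRecDepth 1000000 in
theorem edges_1_106 : edgesRange E 1 1637 213329 = true := by decide +kernel

set_option maxRecDepth 1000000 in
theorem edges_1_171 : edgesRange E 1 1503 326147 = true := by decide +kernel

set_option maxRecDepth 1000000 in
theorem edges_2_57 : edgesRange E 2 1760 128721 = true := by decide +kernel

set_option maxRecDepth 1000000 in
theorem edges_2_122 : edgesRange E 2 1768 244794 = true := by decide +kernel

set_option maxRecDepth 1000000 in
theorem edges_3_37 : edgesRange E 3 2156 83591 = true := by decide +kernel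

set_option maxRecDepth 1000000 in
theorem edges_3_85 : edgesRange E 3 1822 182705 = true := by decide +kernel

set_option maxRecDepth 1000000 in
theorem edges_3_176 : edgesRange E 3 1632 345703 = true := by decide +kernel

set_option maxRecDepth 1000000 in
theorem edges_4_28 : edgesRange E 4 2460 63354 = true := by decide +kernel

set_option maxRecDepth 1000000 in
theorem edges_4_85 : edgesRange E 4 1990 188994 = true := by decide +kernel

set_option maxRecDepth 1000000 in
theorem edges_5_3 : edgesRange E 5 2329 6642 = true := by decide +kernel

set_option maxRecDepth 1000000 in
theorem edges_5_39 : edgesRange E 5 2878 101445 = true := by decide +kernel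

set_option maxRecDepth 1000000 in
theorem edges_5_114 : edgesRange E 5 2268 269228 = true := by decide +kernel

set_option maxRecDepth 1000000 in
theorem edges_6_35 : edgesRange E 6 2851 88891 = true := by decide +kernel

set_option maxRecDepth 1000000 in
theorem edges_6_82 : edgesRange E 6 2183 194568 = true := by decide +kernel

set_option maxRecDepth 1000000 in
theorem edges_6_148 : edgesRange E 6 1830 336956 = true := by decide +kernel

set_option maxRecDepth 1000000 in
theorem edges_7_20 : edgesRange E 7 2511 48254 = true := by decide +kernel

set_option maxRecDepth 1000000 in
theorem edges_7_54 : edgesRange E 7 2059 134593 = true := by decide +kernel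

set_option maxRecDepth 1000000 in
theorem edges_7_139 : edgesRange E 7 1823 296232 = true := by decide +kernel

set_option maxRecDepth 1000000 in
theorem edges_8_26 : edgesRange E 8 2099 62820 = true := by decide +kernel

set_option maxRecDepth 1000000 in
theorem edges_8_84 : edgesRange E 8 1956 186314 = true := by decide +kernel

set_option maxRecDepth 1000000 in
theorem edges_8_138 : edgesRange E 8 1603 284119 = true := by decide +kernel

set_option maxRecDepth 1000000 in
theorem edges_9_13 : edgesRange E 9 2560 27678 = true := by decide +kernel

set_option maxRecDepth 1000000 in
theorem edges_9_56 : edgesRange E 9 1739 131355 = true := by decide +kernel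

set_option maxRecDepth 1000000 in
theorem edges_9_131 : edgesRange E 9 1967 265338 = true := by decide +kernel

set_option maxRecDepth 1000000 in
theorem edges_10_15 : edgesRange E 10 2990 44253 = true := by decide +kernel

set_option maxRecDepth 1000000 in
theorem edges_10_65 : edgesRange E 10 2928 191536 = true := by decide +kernel

set_option maxRecDepth 1000000 in
theorem edges_10_109 : edgesRange E 10 1905 297768 = true := by decide +kernel

set_option maxRecDepth 1000000 in
theorem edges_11_20 : edgesRange E 11 4667 64908 = true := by decide +kernel

set_option maxRecDepth 1000000 in
theorem edges_11_46 : edgesRange E 11 3121 161780 = true := by decide +kernel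

set_option maxRecDepth 1000000 in
theorem edges_11_88 : edgesRange E 11 2216 265681 = true := by decide +kernel

set_option maxRecDepth 1000000 in
theorem aliases_6 : aliasRange E 3956 28649 = true := by decide +kernel

set_option maxRecDepth 1000000 in
theorem aliases_39 : aliasRange E 8000 151507 = true := by decide +kernel

set_option maxRecDepth 1000000 in
theorem aliases_55 : aliasRange E 8000 279363 = true := by decide +kernel

set_option maxRecDepth 1000000 in
theorem rows_10 : rowsRange E RS 1500 15000 = true := by decide +kernel

set_option maxRecDepth 1000000 in
theorem rows_26 : rowsRange E RS 1500 39000 = true := by decide +kernel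

set_option maxRecDepth 1000000 in
theorem rows_42 : rowsRange E RS 1500 63000 = true := by decide +kernel

set_option maxRecDepth 1000000 in
theorem rows_58 : rowsRange E RS 1500 87000 = true := by decide +kernel

set_option maxRecDepth 1000000 in
theorem rows_74 : rowsRange E RS 1500 111000 = true := by decide +kernel

set_option maxRecDepth 1000000 in
theorem rows_90 : rowsRange E RS 1500 135000 = true := by decide +kernel

set_option maxRecDepth 1000000 in
theorem rows_106 : rowsRange E RS 1500 159000 = true := by decide +kernel

set_option maxRecDepth 1000000 in
theorem rows_122 : rowsRange E RS 1500 183000 = true := by decide +kernel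

set_option maxRecDepth 1000000 in
theorem rows_138 : rowsRange E RS 1500 207000 = true := by decide +kernel

set_option maxRecDepth 1000000 in
theorem rows_154 : rowsRange E RS 1500 231000 = true := by decide +kernel

set_option maxRecDepth 1000000 in
theorem rows_170 : rowsRange E RS 1500 255000 = true := by decide +kernel

set_option maxRecDepth 1000000 in
theorem rows_186 : rowsRange E RS 1500 279000 = true := by decide +kernel

set_option maxRecDepth 1000000 in
theorem rows_202 : rowsRange E RS 1500 303000 = true := by decide +kernel

set_option maxRecDepth 1000000 in
theorem rows_218 : rowsRange E RS 1500 327000 = true := by decide +kernel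

set_option maxRecDepth 1000000 in
theorem rows_234 : rowsRange E RS 1500 351000 = true := by decide +kernel

end Cfsg.Agent.Helper5.Fi24TC
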