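import Cfsg.Agent.Helper5.Fi24TCDatD
import Cfsg.Agent.Helper5.Fi24TCDatT
import Cfsg.Agent.Helper5.TC2C
import Cfsg.Agent.Helper5.TC3A

/-! kernel checks of the coset table: Fi24TC -/

set_option autoImplicit false
set_option Elab.async false

namespace Cfsg.Agent.Helper5.Fi24TC
open Cfsg.Agent.Helper5.TC

set_option maxRecDepth 1000000 in
theorem relc_2_0 : fixPtsF W_2 50000 0 = true := by decide +kernel

set_option maxRecDepth 1000000 in
theorem relc_7_2 : fixPtsF W_7 50000 100000 = true := by decide +kernel

set_option maxRecDepth 1000000 in
theorem relc_15_4 : fixPtsF W_15 50000 200000 = true := by decide +kernel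

set_option maxRecDepth 1000000 in
theorem relc_21_0 : fixPtsF W_21 50000 0 = true := by decide +kernel

set_option maxRecDepth 1000000 in
theorem relc_30_2 : fixPtsF W_30 50000 100000 = true := by decide +kernel

set_option maxRecDepth 1000000 in
theorem relc_35_4 : fixPtsF W_35 50000 200000 = true := by decide +kernel

set_option maxRecDepth 1000000 in
theorem relc_46_0 : fixPtsF W_46 50000 0 = true := by decide +kernel

set_option maxRecDepth 1000000 in
theorem relc_57_2 : fixPtsF W_57 50000 100000 = true := by decide +kernel

set_option maxRecDepth 1000000 in
theorem relc_69_4 : fixPtsF W_69 50000 200000 = true := by decide +kernel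

set_option maxRecDepth 1000000 in
theorem relc_93_0 : fixPtsF W_93 50000 0 = true := by decide +kernel

set_option maxRecDepth 1000000 in
theorem relc_118_2 : fixPtsF W_118 50000 100000 = true := by decide +kernel

set_option maxRecDepth 1000000 in
theorem relc_53_8 : fixPtsF W_53 33333 266664 = true := by decide +kernel

set_option maxRecDepth 1000000 in
theorem relc_92_4 : fixPtsF W_92 33333 133332 = true := by decide +kernel

set_option maxRecDepth 1000000 in
theorem relc_144_9 : fixPtsF W_144 3125 28125 = true := by decide +kernel

set_option maxRecDepth 1000000 in
theorem relc_144_28 : fixPtsF W_144 3125 87500 = true := by decide +kernel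

set_option maxRecDepth 1000000 in
theorem relc_144_60 : fixPtsF W_144 3125 187500 = true := by decide +kernel

set_option maxRecDepth 1000000 in
theorem relc_144_92 : fixPtsF W_144 3125 287500 = true := by decide +kernel

set_option maxRecDepth 1000000 in
theorem relc_145_30 : fixPtsF W_145 840 25200 = true := by decide +kernel

set_option maxRecDepth 1000000 in
theorem relc_145_62 : fixPtsF W_145 840 52080 = true := by decide +kernel

set_option maxRecDepth 1000000 in
theorem relc_145_94 : fixPtsF W_145 840 78960 = true := by decide +kernel

set_option maxRecDepth 1000000 in
theorem relc_145_126 : fixPtsF W_145 840 105840 = true := by decide +kernel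

set_option maxRecDepth 1000000 in
theorem relc_145_158 : fixPtsF W_145 840 132720 = true := by decide +kernel

set_option maxRecDepth 1000000 in
theorem relc_145_190 : fixPtsF W_145 840 159600 = true := by decide +kernel

set_option maxRecDepth 1000000 in
theorem relc_145_222 : fixPtsF W_145 840 186480 = true := by decide +kernel

set_option maxRecDepth 1000000 in
theorem relc_145_254 : fixPtsF W_145 840 213360 = true := by decide +kernel

set_option maxRecDepth 1000000 in
theorem relc_145_286 : fixPtsF W_145 840 240240 = true := by decide +kernel

set_option maxRecDepth 1000000 in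
theorem relc_145_318 : fixPtsF W_145 840 267120 = true := by decide +kernel

set_option maxRecDepth 1000000 in
theorem relc_145_350 : fixPtsF W_145 840 294000 = true := by decide +kernel

set_option maxRecDepth 1000000 in
theorem inv_3_3 : invRowF ctF 306936 3 50000 150000 = true := by decide +kernel

set_option maxRecDepth 1000000 in
theorem inv_8_5 : invRowF ctF 306936 8 50000 250000 = true := by decide +kernel

set_option maxRecDepth 1000000 in
theorem relc_70_9 : fixPtsF W_70 6939 299997 = true := by decide +kernel

set_option maxRecDepth 1000000 in
theorem relc_32_6 : fixPtsF W_32 6936 300000 = true := by decide +kernel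

set_option maxRecDepth 1000000 in
theorem relc_144_98 : fixPtsF W_144 686 306250 = true := by decide +kernel

end Cfsg.Agent.Helper5.Fi24TC
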