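import Cfsg.Agent.Helper5.Fi24TCDatD
import Cfsg.Agent.Helper5.Fi24TCDatT
import Cfsg.Agent.Helper5.TC2C
import Cfsg.Agent.Helper5.TC3A

/-! kernel checks of the coset table: Fi24TC -/

set_option autoImplicit false
set_option Elab.async false

namespace Cfsg.Agent.Helper5.Fi24TC
open Cfsg.Agent.Helper5.TC

set_option maxRecDepth 1000000 in
theorem relc_2_1 : fixPtsF W_2 50000 50000 = true := by decide +kernel

set_option maxRecDepth 1000000 in
theorem relc_7_3 : fixPtsF W_7 50000 150000 = true := by decide +kernel

set_option maxRecDepth 1000000 in
theorem relc_15_5 : fixPtsF W_15 50000 250000 = true := by decide +kernel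

set_option maxRecDepth 1000000 in
theorem relc_21_1 : fixPtsF W_21 50000 50000 = true := by decide +kernel

set_option maxRecDepth 1000000 in
theorem relc_30_3 : fixPtsF W_30 50000 150000 = true := by decide +kernel

set_option maxRecDepth 1000000 in
theorem relc_35_5 : fixPtsF W_35 50000 250000 = true := by decide +kernel

set_option maxRecDepth 1000000 in
theorem relc_46_1 : fixPtsF W_46 50000 50000 = true := by decide +kernel

set_option maxRecDepth 1000000 in
theorem relc_57_3 : fixPtsF W_57 50000 150000 = true := by decide +kernel

set_option maxRecDepth 1000000 in
theorem relc_69_5 : fixPtsF W_69 50000 250000 = true := by decide +kernel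

set_option maxRecDepth 1000000 in
theorem relc_93_1 : fixPtsF W_93 50000 50000 = true := by decide +kernel

set_option maxRecDepth 1000000 in
theorem relc_118_3 : fixPtsF W_118 50000 150000 = true := by decide +kernel

set_option maxRecDepth 1000000 in
theorem relc_66_0 : fixPtsF W_66 33333 0 = true := by decide +kernel

set_option maxRecDepth 1000000 in
theorem relc_92_5 : fixPtsF W_92 33333 166665 = true := by decide +kernel

set_option maxRecDepth 1000000 in
theorem relc_144_10 : fixPtsF W_144 3125 31250 = true := by decide +kernel

set_option maxRecDepth 1000000 in
theorem relc_144_29 : fixPtsF W_144 3125 90625 = true := by decide +kernel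

set_option maxRecDepth 1000000 in
theorem relc_144_61 : fixPtsF W_144 3125 190625 = true := by decide +kernel

set_option maxRecDepth 1000000 in
theorem relc_144_93 : fixPtsF W_144 3125 290625 = true := by decide +kernel

set_option maxRecDepth 1000000 in
theorem relc_145_31 : fixPtsF W_145 840 26040 = true := by decide +kernel

set_option maxRecDepth 1000000 in
theorem relc_145_63 : fixPtsF W_145 840 52920 = true := by decide +kernel

set_option maxRecDepth 1000000 in
theorem relc_145_95 : fixPtsF W_145 840 79800 = true := by decide +kernel

set_option maxRecDepth 1000000 in
theorem relc_145_127 : fixPtsF W_145 840 106680 = true := by decide +kernel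

set_option maxRecDepth 1000000 in
theorem relc_145_159 : fixPtsF W_145 840 133560 = true := by decide +kernel

set_option maxRecDepth 1000000 in
theorem relc_145_191 : fixPtsF W_145 840 160440 = true := by decide +kernel

set_option maxRecDepth 1000000 in
theorem relc_145_223 : fixPtsF W_145 840 187320 = true := by decide +kernel

set_option maxRecDepth 1000000 in
theorem relc_145_255 : fixPtsF W_145 840 214200 = true := by decide +kernel

set_option maxRecDepth 1000000 in
theorem relc_145_287 : fixPtsF W_145 840 241080 = true := by decide +kernel

set_option maxRecDepth 1000000 in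
theorem relc_145_319 : fixPtsF W_145 840 267960 = true := by decide +kernel

set_option maxRecDepth 1000000 in
theorem relc_145_351 : fixPtsF W_145 840 294840 = true := by decide +kernel

set_option maxRecDepth 1000000 in
theorem inv_3_4 : invRowF ctF 306936 3 50000 200000 = true := by decide +kernel

set_option maxRecDepth 1000000 in
theorem inv_9_0 : invRowF ctF 306936 9 50000 0 = true := by decide +kernel

set_option maxRecDepth 1000000 in
theorem relc_79_9 : fixPtsF W_79 6939 299997 = true := by decide +kernel

set_option maxRecDepth 1000000 in
theorem relc_33_6 : fixPtsF W_33 6936 300000 = true := by decide +kernel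

set_option maxRecDepth 1000000 in
theorem inv_0_6 : invRowF ctF 306936 0 6936 300000 = true := by decide +kernel

end Cfsg.Agent.Helper5.Fi24TC
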