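import Cfsg.Agent.Helper5.Fi24TCDatD
import Cfsg.Agent.Helper5.Fi24TCDatT
import Cfsg.Agent.Helper5.TC2C
import Cfsg.Agent.Helper5.TC3A

/-! kernel checks of the coset table: Fi24TC -/

set_option autoImplicit false
set_option Elab.async false

namespace Cfsg.Agent.Helper5.Fi24TC
open Cfsg.Agent.Helper5.TC

set_option maxRecDepth 1000000 in
theorem relc_3_4 : fixPtsF W_3 50000 200000 = true := by decide +kernel

set_option maxRecDepth 1000000 in
theorem relc_9_0 : fixPtsF W_9 50000 0 = true := by decide +kernel

set_option maxRecDepth 1000000 in
theorem relc_17_2 : fixPtsF W_17 50000 100000 = true := by decide +kernel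

set_option maxRecDepth 1000000 in
theorem relc_22_4 : fixPtsF W_22 50000 200000 = true := by decide +kernel

set_option maxRecDepth 1000000 in
theorem relc_32_0 : fixPtsF W_32 50000 0 = true := by decide +kernel

set_option maxRecDepth 1000000 in
theorem relc_42_2 : fixPtsF W_42 50000 100000 = true := by decide +kernel

set_option maxRecDepth 1000000 in
theorem relc_47_4 : fixPtsF W_47 50000 200000 = true := by decide +kernel

set_option maxRecDepth 1000000 in
theorem relc_59_0 : fixPtsF W_59 50000 0 = true := by decide +kernel

set_option maxRecDepth 1000000 in
theorem relc_80_2 : fixPtsF W_80 50000 100000 = true := by decide +kernel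

set_option maxRecDepth 1000000 in
theorem relc_94_4 : fixPtsF W_94 50000 200000 = true := by decide +kernel

set_option maxRecDepth 1000000 in
theorem relc_1_0 : fixPtsF W_1 33333 0 = true := by decide +kernel

set_option maxRecDepth 1000000 in
theorem relc_27_4 : fixPtsF W_27 33333 133332 = true := by decide +kernel

set_option maxRecDepth 1000000 in
theorem relc_70_0 : fixPtsF W_70 33333 0 = true := by decide +kernel

set_option maxRecDepth 1000000 in
theorem relc_105_5 : fixPtsF W_105 33333 166665 = true := by decide +kernel

set_option maxRecDepth 1000000 in
theorem relc_144_38 : fixPtsF W_144 3125 118750 = true := by decide +kernel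

set_option maxRecDepth 1000000 in
theorem relc_144_70 : fixPtsF W_144 3125 218750 = true := by decide +kernel

set_option maxRecDepth 1000000 in
theorem relc_145_4 : fixPtsF W_145 840 3360 = true := by decide +kernel

set_option maxRecDepth 1000000 in
theorem relc_145_36 : fixPtsF W_145 840 30240 = true := by decide +kernel

set_option maxRecDepth 1000000 in
theorem relc_145_68 : fixPtsF W_145 840 57120 = true := by decide +kernel

set_option maxRecDepth 1000000 in
theorem relc_145_100 : fixPtsF W_145 840 84000 = true := by decide +kernel

set_option maxRecDepth 1000000 in
theorem relc_145_132 : fixPtsF W_145 840 110880 = true := by decide +kernel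

set_option maxRecDepth 1000000 in
theorem relc_145_164 : fixPtsF W_145 840 137760 = true := by decide +kernel

set_option maxRecDepth 1000000 in
theorem relc_145_196 : fixPtsF W_145 840 164640 = true := by decide +kernel

set_option maxRecDepth 1000000 in
theorem relc_145_228 : fixPtsF W_145 840 191520 = true := by decide +kernel

set_option maxRecDepth 1000000 in
theorem relc_145_260 : fixPtsF W_145 840 218400 = true := by decide +kernel

set_option maxRecDepth 1000000 in
theorem relc_145_292 : fixPtsF W_145 840 245280 = true := by decide +kernel

set_option maxRecDepth 1000000 in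
theorem relc_145_324 : fixPtsF W_145 840 272160 = true := by decide +kernel

set_option maxRecDepth 1000000 in
theorem relc_145_356 : fixPtsF W_145 840 299040 = true := by decide +kernel

set_option maxRecDepth 1000000 in
theorem inv_4_3 : invRowF ctF 306936 4 50000 150000 = true := by decide +kernel

set_option maxRecDepth 1000000 in
theorem inv_9_5 : invRowF ctF 306936 9 50000 250000 = true := by decide +kernel

set_option maxRecDepth 1000000 in
theorem relc_3_6 : fixPtsF W_3 6936 300000 = true := by decide +kernel

set_option maxRecDepth 1000000 in
theorem relc_43_6 : fixPtsF W_43 6936 300000 = true := by decide +kernel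

set_option maxRecDepth 1000000 in
theorem inv_5_6 : invRowF ctF 306936 5 6936 300000 = true := by decide +kernel

end Cfsg.Agent.Helper5.Fi24TC
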