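import Cfsg.Agent.Helper5.Fi24TCDatD
import Cfsg.Agent.Helper5.Fi24TCDatT
import Cfsg.Agent.Helper5.TC2C
import Cfsg.Agent.Helper5.TC3A

/-! kernel checks of the coset table: Fi24TC -/

set_option autoImplicit false
set_option Elab.async false

namespace Cfsg.Agent.Helper5.Fi24TC
open Cfsg.Agent.Helper5.TC

set_option maxRecDepth 1000000 in
theorem relc_3_5 : fixPtsF W_3 50000 250000 = true := by decide +kernel

set_option maxRecDepth 1000000 in
theorem relc_9_1 : fixPtsF W_9 50000 50000 = true := by decide +kernel

set_option maxRecDepth 1000000 in
theorem relc_17_3 : fixPtsF W_17 50000 150000 = true := by decide +kernel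

set_option maxRecDepth 1000000 in
theorem relc_22_5 : fixPtsF W_22 50000 250000 = true := by decide +kernel

set_option maxRecDepth 1000000 in
theorem relc_32_1 : fixPtsF W_32 50000 50000 = true := by decide +kernel

set_option maxRecDepth 1000000 in
theorem relc_42_3 : fixPtsF W_42 50000 150000 = true := by decide +kernel

set_option maxRecDepth 1000000 in
theorem relc_47_5 : fixPtsF W_47 50000 250000 = true := by decide +kernel

set_option maxRecDepth 1000000 in
theorem relc_59_1 : fixPtsF W_59 50000 50000 = true := by decide +kernel

set_option maxRecDepth 1000000 in
theorem relc_80_3 : fixPtsF W_80 50000 150000 = true := by decide +kernel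

set_option maxRecDepth 1000000 in
theorem relc_94_5 : fixPtsF W_94 50000 250000 = true := by decide +kernel

set_option maxRecDepth 1000000 in
theorem relc_1_1 : fixPtsF W_1 33333 33333 = true := by decide +kernel

set_option maxRecDepth 1000000 in
theorem relc_27_5 : fixPtsF W_27 33333 166665 = true := by decide +kernel

set_option maxRecDepth 1000000 in
theorem relc_70_1 : fixPtsF W_70 33333 33333 = true := by decide +kernel

set_option maxRecDepth 1000000 in
theorem relc_105_6 : fixPtsF W_105 33333 199998 = true := by decide +kernel

set_option maxRecDepth 1000000 in
theorem relc_144_39 : fixPtsF W_144 3125 121875 = true := by decide +kernel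

set_option maxRecDepth 1000000 in
theorem relc_144_71 : fixPtsF W_144 3125 221875 = true := by decide +kernel

set_option maxRecDepth 1000000 in
theorem relc_145_5 : fixPtsF W_145 840 4200 = true := by decide +kernel

set_option maxRecDepth 1000000 in
theorem relc_145_37 : fixPtsF W_145 840 31080 = true := by decide +kernel

set_option maxRecDepth 1000000 in
theorem relc_145_69 : fixPtsF W_145 840 57960 = true := by decide +kernel

set_option maxRecDepth 1000000 in
theorem relc_145_101 : fixPtsF W_145 840 84840 = true := by decide +kernel

set_option maxRecDepth 1000000 in
theorem relc_145_133 : fixPtsF W_145 840 111720 = true := by decide +kernel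

set_option maxRecDepth 1000000 in
theorem relc_145_165 : fixPtsF W_145 840 138600 = true := by decide +kernel

set_option maxRecDepth 1000000 in
theorem relc_145_197 : fixPtsF W_145 840 165480 = true := by decide +kernel

set_option maxRecDepth 1000000 in
theorem relc_145_229 : fixPtsF W_145 840 192360 = true := by decide +kernel

set_option maxRecDepth 1000000 in
theorem relc_145_261 : fixPtsF W_145 840 219240 = true := by decide +kernel

set_option maxRecDepth 1000000 in
theorem relc_145_293 : fixPtsF W_145 840 246120 = true := by decide +kernel

set_option maxRecDepth 1000000 in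
theorem relc_145_325 : fixPtsF W_145 840 273000 = true := by decide +kernel

set_option maxRecDepth 1000000 in
theorem relc_145_357 : fixPtsF W_145 840 299880 = true := by decide +kernel

set_option maxRecDepth 1000000 in
theorem inv_4_4 : invRowF ctF 306936 4 50000 200000 = true := by decide +kernel

set_option maxRecDepth 1000000 in
theorem inv_10_0 : invRowF ctF 306936 10 50000 0 = true := by decide +kernel

set_option maxRecDepth 1000000 in
theorem relc_4_6 : fixPtsF W_4 6936 300000 = true := by decide +kernel

set_option maxRecDepth 1000000 in
theorem relc_44_6 : fixPtsF W_44 6936 300000 = true := by decide +kernel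

set_option maxRecDepth 1000000 in
theorem inv_6_6 : invRowF ctF 306936 6 6936 300000 = true := by decide +kernel

end Cfsg.Agent.Helper5.Fi24TC
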