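import Cfsg.Agent.Helper5.Fi24TCDatD
import Cfsg.Agent.Helper5.Fi24TCDatT
import Cfsg.Agent.Helper5.TC2C
import Cfsg.Agent.Helper5.TC3A

/-! kernel checks of the coset table: Fi24TC -/

set_option autoImplicit false
set_option Elab.async false

namespace Cfsg.Agent.Helper5.Fi24TC
open Cfsg.Agent.Helper5.TC

set_option maxRecDepth 1000000 in
theorem relc_4_0 : fixPtsF W_4 50000 0 = true := by decide +kernel

set_option maxRecDepth 1000000 in
theorem relc_9_2 : fixPtsF W_9 50000 100000 = true := by decide +kernel

set_option maxRecDepth 1000000 in
theorem relc_17_4 : fixPtsF W_17 50000 200000 = true := by decide +kernel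

set_option maxRecDepth 1000000 in
theorem relc_23_0 : fixPtsF W_23 50000 0 = true := by decide +kernel

set_option maxRecDepth 1000000 in
theorem relc_32_2 : fixPtsF W_32 50000 100000 = true := by decide +kernel

set_option maxRecDepth 1000000 in
theorem relc_42_4 : fixPtsF W_42 50000 200000 = true := by decide +kernel

set_option maxRecDepth 1000000 in
theorem relc_54_0 : fixPtsF W_54 50000 0 = true := by decide +kernel

set_option maxRecDepth 1000000 in
theorem relc_59_2 : fixPtsF W_59 50000 100000 = true := by decide +kernel

set_option maxRecDepth 1000000 in
theorem relc_80_4 : fixPtsF W_80 50000 200000 = true := by decide +kernel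

set_option maxRecDepth 1000000 in
theorem relc_95_0 : fixPtsF W_95 50000 0 = true := by decide +kernel

set_option maxRecDepth 1000000 in
theorem relc_1_2 : fixPtsF W_1 33333 66666 = true := by decide +kernel

set_option maxRecDepth 1000000 in
theorem relc_27_6 : fixPtsF W_27 33333 199998 = true := by decide +kernel

set_option maxRecDepth 1000000 in
theorem relc_70_2 : fixPtsF W_70 33333 66666 = true := by decide +kernel

set_option maxRecDepth 1000000 in
theorem relc_105_7 : fixPtsF W_105 33333 233331 = true := by decide +kernel

set_option maxRecDepth 1000000 in
theorem relc_144_40 : fixPtsF W_144 3125 125000 = true := by decide +kernel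

set_option maxRecDepth 1000000 in
theorem relc_144_72 : fixPtsF W_144 3125 225000 = true := by decide +kernel

set_option maxRecDepth 1000000 in
theorem relc_145_6 : fixPtsF W_145 840 5040 = true := by decide +kernel

set_option maxRecDepth 1000000 in
theorem relc_145_38 : fixPtsF W_145 840 31920 = true := by decide +kernel

set_option maxRecDepth 1000000 in
theorem relc_145_70 : fixPtsF W_145 840 58800 = true := by decide +kernel

set_option maxRecDepth 1000000 in
theorem relc_145_102 : fixPtsF W_145 840 85680 = true := by decide +kernel

set_option maxRecDepth 1000000 in
theorem relc_145_134 : fixPtsF W_145 840 112560 = true := by decide +kernel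

set_option maxRecDepth 1000000 in
theorem relc_145_166 : fixPtsF W_145 840 139440 = true := by decide +kernel

set_option maxRecDepth 1000000 in
theorem relc_145_198 : fixPtsF W_145 840 166320 = true := by decide +kernel

set_option maxRecDepth 1000000 in
theorem relc_145_230 : fixPtsF W_145 840 193200 = true := by decide +kernel

set_option maxRecDepth 1000000 in
theorem relc_145_262 : fixPtsF W_145 840 220080 = true := by decide +kernel

set_option maxRecDepth 1000000 in
theorem relc_145_294 : fixPtsF W_145 840 246960 = true := by decide +kernel

set_option maxRecDepth 1000000 in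
theorem relc_145_326 : fixPtsF W_145 840 273840 = true := by decide +kernel

set_option maxRecDepth 1000000 in
theorem relc_145_358 : fixPtsF W_145 840 300720 = true := by decide +kernel

set_option maxRecDepth 1000000 in
theorem inv_4_5 : invRowF ctF 306936 4 50000 250000 = true := by decide +kernel

set_option maxRecDepth 1000000 in
theorem inv_10_1 : invRowF ctF 306936 10 50000 50000 = true := by decide +kernel

set_option maxRecDepth 1000000 in
theorem relc_5_6 : fixPtsF W_5 6936 300000 = true := by decide +kernel

set_option maxRecDepth 1000000 in
theorem relc_45_6 : fixPtsF W_45 6936 300000 = true := by decide +kernel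

set_option maxRecDepth 1000000 in
theorem inv_7_6 : invRowF ctF 306936 7 6936 300000 = true := by decide +kernel

end Cfsg.Agent.Helper5.Fi24TC
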