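import Cfsg.Agent.Helper5.Fi24TCDatD
import Cfsg.Agent.Helper5.Fi24TCDatT
import Cfsg.Agent.Helper5.TC2C
import Cfsg.Agent.Helper5.TC3A

/-! kernel checks of the coset table: Fi24TC -/

set_option autoImplicit false
set_option Elab.async false

namespace Cfsg.Agent.Helper5.Fi24TC
open Cfsg.Agent.Helper5.TC

set_option maxRecDepth 1000000 in
theorem relc_4_1 : fixPtsF W_4 50000 50000 = true := by decide +kernel

set_option maxRecDepth 1000000 in
theorem relc_9_3 : fixPtsF W_9 50000 150000 = true := by decide +kernel

set_option maxRecDepth 1000000 in
theorem relc_17_5 : fixPtsF W_17 50000 250000 = true := by decide +kernel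

set_option maxRecDepth 1000000 in
theorem relc_23_1 : fixPtsF W_23 50000 50000 = true := by decide +kernel

set_option maxRecDepth 1000000 in
theorem relc_32_3 : fixPtsF W_32 50000 150000 = true := by decide +kernel

set_option maxRecDepth 1000000 in
theorem relc_42_5 : fixPtsF W_42 50000 250000 = true := by decide +kernel

set_option maxRecDepth 1000000 in
theorem relc_54_1 : fixPtsF W_54 50000 50000 = true := by decide +kernel

set_option maxRecDepth 1000000 in
theorem relc_59_3 : fixPtsF W_59 50000 150000 = true := by decide +kernel

set_option maxRecDepth 1000000 in
theorem relc_80_5 : fixPtsF W_80 50000 250000 = true := by decide +kernel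

set_option maxRecDepth 1000000 in
theorem relc_95_1 : fixPtsF W_95 50000 50000 = true := by decide +kernel

set_option maxRecDepth 1000000 in
theorem relc_1_3 : fixPtsF W_1 33333 99999 = true := by decide +kernel

set_option maxRecDepth 1000000 in
theorem relc_27_7 : fixPtsF W_27 33333 233331 = true := by decide +kernel

set_option maxRecDepth 1000000 in
theorem relc_70_3 : fixPtsF W_70 33333 99999 = true := by decide +kernel

set_option maxRecDepth 1000000 in
theorem relc_105_8 : fixPtsF W_105 33333 266664 = true := by decide +kernel

set_option maxRecDepth 1000000 in
theorem relc_144_41 : fixPtsF W_144 3125 128125 = true := by decide +kernel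

set_option maxRecDepth 1000000 in
theorem relc_144_73 : fixPtsF W_144 3125 228125 = true := by decide +kernel

set_option maxRecDepth 1000000 in
theorem relc_145_7 : fixPtsF W_145 840 5880 = true := by decide +kernel

set_option maxRecDepth 1000000 in
theorem relc_145_39 : fixPtsF W_145 840 32760 = true := by decide +kernel

set_option maxRecDepth 1000000 in
theorem relc_145_71 : fixPtsF W_145 840 59640 = true := by decide +kernel

set_option maxRecDepth 1000000 in
theorem relc_145_103 : fixPtsF W_145 840 86520 = true := by decide +kernel

set_option maxRecDepth 1000000 in
theorem relc_145_135 : fixPtsF W_145 840 113400 = true := by decide +kernel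

set_option maxRecDepth 1000000 in
theorem relc_145_167 : fixPtsF W_145 840 140280 = true := by decide +kernel

set_option maxRecDepth 1000000 in
theorem relc_145_199 : fixPtsF W_145 840 167160 = true := by decide +kernel

set_option maxRecDepth 1000000 in
theorem relc_145_231 : fixPtsF W_145 840 194040 = true := by decide +kernel

set_option maxRecDepth 1000000 in
theorem relc_145_263 : fixPtsF W_145 840 220920 = true := by decide +kernel

set_option maxRecDepth 1000000 in
theorem relc_145_295 : fixPtsF W_145 840 247800 = true := by decide +kernel

set_option maxRecDepth 1000000 in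
theorem relc_145_327 : fixPtsF W_145 840 274680 = true := by decide +kernel

set_option maxRecDepth 1000000 in
theorem relc_145_359 : fixPtsF W_145 840 301560 = true := by decide +kernel

set_option maxRecDepth 1000000 in
theorem inv_5_0 : invRowF ctF 306936 5 50000 0 = true := by decide +kernel

set_option maxRecDepth 1000000 in
theorem inv_10_2 : invRowF ctF 306936 10 50000 100000 = true := by decide +kernel

set_option maxRecDepth 1000000 in
theorem relc_6_6 : fixPtsF W_6 6936 300000 = true := by decide +kernel

set_option maxRecDepth 1000000 in
theorem relc_46_6 : fixPtsF W_46 6936 300000 = true := by decide +kernel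

set_option maxRecDepth 1000000 in
theorem inv_8_6 : invRowF ctF 306936 8 6936 300000 = true := by decide +kernel

end Cfsg.Agent.Helper5.Fi24TC
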