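import Cfsg.Agent.Helper5.Fi24TCDatD
import Cfsg.Agent.Helper5.Fi24TCDatT
import Cfsg.Agent.Helper5.TC2C
import Cfsg.Agent.Helper5.TC3A

/-! kernel checks of the coset table: Fi24TC -/

set_option autoImplicit false
set_option Elab.async false

namespace Cfsg.Agent.Helper5.Fi24TC
open Cfsg.Agent.Helper5.TC

set_option maxRecDepth 1000000 in
theorem relc_4_2 : fixPtsF W_4 50000 100000 = true := by decide +kernel

set_option maxRecDepth 1000000 in
theorem relc_9_4 : fixPtsF W_9 50000 200000 = true := by decide +kernel

set_option maxRecDepth 1000000 in
theorem relc_18_0 : fixPtsF W_18 50000 0 = true := by decide +kernel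

set_option maxRecDepth 1000000 in
theorem relc_23_2 : fixPtsF W_23 50000 100000 = true := by decide +kernel

set_option maxRecDepth 1000000 in
theorem relc_32_4 : fixPtsF W_32 50000 200000 = true := by decide +kernel

set_option maxRecDepth 1000000 in
theorem relc_43_0 : fixPtsF W_43 50000 0 = true := by decide +kernel

set_option maxRecDepth 1000000 in
theorem relc_54_2 : fixPtsF W_54 50000 100000 = true := by decide +kernel

set_option maxRecDepth 1000000 in
theorem relc_59_4 : fixPtsF W_59 50000 200000 = true := by decide +kernel

set_option maxRecDepth 1000000 in
theorem relc_81_0 : fixPtsF W_81 50000 0 = true := by decide +kernel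

set_option maxRecDepth 1000000 in
theorem relc_95_2 : fixPtsF W_95 50000 100000 = true := by decide +kernel

set_option maxRecDepth 1000000 in
theorem relc_1_4 : fixPtsF W_1 33333 133332 = true := by decide +kernel

set_option maxRecDepth 1000000 in
theorem relc_27_8 : fixPtsF W_27 33333 266664 = true := by decide +kernel

set_option maxRecDepth 1000000 in
theorem relc_70_4 : fixPtsF W_70 33333 133332 = true := by decide +kernel

set_option maxRecDepth 1000000 in
theorem relc_131_0 : fixPtsF W_131 33333 0 = true := by decide +kernel

set_option maxRecDepth 1000000 in
theorem relc_144_42 : fixPtsF W_144 3125 131250 = true := by decide +kernel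

set_option maxRecDepth 1000000 in
theorem relc_144_74 : fixPtsF W_144 3125 231250 = true := by decide +kernel

set_option maxRecDepth 1000000 in
theorem relc_145_8 : fixPtsF W_145 840 6720 = true := by decide +kernel

set_option maxRecDepth 1000000 in
theorem relc_145_40 : fixPtsF W_145 840 33600 = true := by decide +kernel

set_option maxRecDepth 1000000 in
theorem relc_145_72 : fixPtsF W_145 840 60480 = true := by decide +kernel

set_option maxRecDepth 1000000 in
theorem relc_145_104 : fixPtsF W_145 840 87360 = true := by decide +kernel

set_option maxRecDepth 1000000 in
theorem relc_145_136 : fixPtsF W_145 840 114240 = true := by decide +kernel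

set_option maxRecDepth 1000000 in
theorem relc_145_168 : fixPtsF W_145 840 141120 = true := by decide +kernel

set_option maxRecDepth 1000000 in
theorem relc_145_200 : fixPtsF W_145 840 168000 = true := by decide +kernel

set_option maxRecDepth 1000000 in
theorem relc_145_232 : fixPtsF W_145 840 194880 = true := by decide +kernel

set_option maxRecDepth 1000000 in
theorem relc_145_264 : fixPtsF W_145 840 221760 = true := by decide +kernel

set_option maxRecDepth 1000000 in
theorem relc_145_296 : fixPtsF W_145 840 248640 = true := by decide +kernel

set_option maxRecDepth 1000000 in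
theorem relc_145_328 : fixPtsF W_145 840 275520 = true := by decide +kernel

set_option maxRecDepth 1000000 in
theorem relc_145_360 : fixPtsF W_145 840 302400 = true := by decide +kernel

set_option maxRecDepth 1000000 in
theorem inv_5_1 : invRowF ctF 306936 5 50000 50000 = true := by decide +kernel

set_option maxRecDepth 1000000 in
theorem inv_10_3 : invRowF ctF 306936 10 50000 150000 = true := by decide +kernel

set_option maxRecDepth 1000000 in
theorem relc_7_6 : fixPtsF W_7 6936 300000 = true := by decide +kernel

set_option maxRecDepth 1000000 in
theorem relc_47_6 : fixPtsF W_47 6936 300000 = true := by decide +kernel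

set_option maxRecDepth 1000000 in
theorem inv_9_6 : invRowF ctF 306936 9 6936 300000 = true := by decide +kernel

end Cfsg.Agent.Helper5.Fi24TC
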