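import Cfsg.Agent.Helper5.Fi24TCDatD
import Cfsg.Agent.Helper5.Fi24TCDatT
import Cfsg.Agent.Helper5.TC2C
import Cfsg.Agent.Helper5.TC3A

/-! kernel checks of the coset table: Fi24TC -/

set_option autoImplicit false
set_option Elab.async false

namespace Cfsg.Agent.Helper5.Fi24TC
open Cfsg.Agent.Helper5.TC

set_option maxRecDepth 1000000 in
theorem relc_4_3 : fixPtsF W_4 50000 150000 = true := by decide +kernel

set_option maxRecDepth 1000000 in
theorem relc_9_5 : fixPtsF W_9 50000 250000 = true := by decide +kernel

set_option maxRecDepth 1000000 in
theorem relc_18_1 : fixPtsF W_18 50000 50000 = true := by decide +kernel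

set_option maxRecDepth 1000000 in
theorem relc_23_3 : fixPtsF W_23 50000 150000 = true := by decide +kernel

set_option maxRecDepth 1000000 in
theorem relc_32_5 : fixPtsF W_32 50000 250000 = true := by decide +kernel

set_option maxRecDepth 1000000 in
theorem relc_43_1 : fixPtsF W_43 50000 50000 = true := by decide +kernel

set_option maxRecDepth 1000000 in
theorem relc_54_3 : fixPtsF W_54 50000 150000 = true := by decide +kernel

set_option maxRecDepth 1000000 in
theorem relc_59_5 : fixPtsF W_59 50000 250000 = true := by decide +kernel

set_option maxRecDepth 1000000 in
theorem relc_81_1 : fixPtsF W_81 50000 50000 = true := by decide +kernel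

set_option maxRecDepth 1000000 in
theorem relc_95_3 : fixPtsF W_95 50000 150000 = true := by decide +kernel

set_option maxRecDepth 1000000 in
theorem relc_1_5 : fixPtsF W_1 33333 166665 = true := by decide +kernel

set_option maxRecDepth 1000000 in
theorem relc_40_0 : fixPtsF W_40 33333 0 = true := by decide +kernel

set_option maxRecDepth 1000000 in
theorem relc_70_5 : fixPtsF W_70 33333 166665 = true := by decide +kernel

set_option maxRecDepth 1000000 in
theorem relc_131_1 : fixPtsF W_131 33333 33333 = true := by decide +kernel

set_option maxRecDepth 1000000 in
theorem relc_144_43 : fixPtsF W_144 3125 134375 = true := by decide +kernel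

set_option maxRecDepth 1000000 in
theorem relc_144_75 : fixPtsF W_144 3125 234375 = true := by decide +kernel

set_option maxRecDepth 1000000 in
theorem relc_145_9 : fixPtsF W_145 840 7560 = true := by decide +kernel

set_option maxRecDepth 1000000 in
theorem relc_145_41 : fixPtsF W_145 840 34440 = true := by decide +kernel

set_option maxRecDepth 1000000 in
theorem relc_145_73 : fixPtsF W_145 840 61320 = true := by decide +kernel

set_option maxRecDepth 1000000 in
theorem relc_145_105 : fixPtsF W_145 840 88200 = true := by decide +kernel

set_option maxRecDepth 1000000 in
theorem relc_145_137 : fixPtsF W_145 840 115080 = true := by decide +kernel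

set_option maxRecDepth 1000000 in
theorem relc_145_169 : fixPtsF W_145 840 141960 = true := by decide +kernel

set_option maxRecDepth 1000000 in
theorem relc_145_201 : fixPtsF W_145 840 168840 = true := by decide +kernel

set_option maxRecDepth 1000000 in
theorem relc_145_233 : fixPtsF W_145 840 195720 = true := by decide +kernel

set_option maxRecDepth 1000000 in
theorem relc_145_265 : fixPtsF W_145 840 222600 = true := by decide +kernel

set_option maxRecDepth 1000000 in
theorem relc_145_297 : fixPtsF W_145 840 249480 = true := by decide +kernel

set_option maxRecDepth 1000000 in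
theorem relc_145_329 : fixPtsF W_145 840 276360 = true := by decide +kernel

set_option maxRecDepth 1000000 in
theorem relc_145_361 : fixPtsF W_145 840 303240 = true := by decide +kernel

set_option maxRecDepth 1000000 in
theorem inv_5_2 : invRowF ctF 306936 5 50000 100000 = true := by decide +kernel

set_option maxRecDepth 1000000 in
theorem inv_10_4 : invRowF ctF 306936 10 50000 200000 = true := by decide +kernel

set_option maxRecDepth 1000000 in
theorem relc_8_6 : fixPtsF W_8 6936 300000 = true := by decide +kernel

set_option maxRecDepth 1000000 in
theorem relc_54_6 : fixPtsF W_54 6936 300000 = true := by decide +kernel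

set_option maxRecDepth 1000000 in
theorem inv_10_6 : invRowF ctF 306936 10 6936 300000 = true := by decide +kernel

end Cfsg.Agent.Helper5.Fi24TC
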