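import Cfsg.Agent.Helper5.Fi24TCDatD
import Cfsg.Agent.Helper5.Fi24TCDatT
import Cfsg.Agent.Helper5.TC2C
import Cfsg.Agent.Helper5.TC3A

/-! kernel checks of the coset table: Fi24TC -/

set_option autoImplicit false
set_option Elab.async false

namespace Cfsg.Agent.Helper5.Fi24TC
open Cfsg.Agent.Helper5.TC

set_option maxRecDepth 1000000 in
theorem relc_4_4 : fixPtsF W_4 50000 200000 = true := by decide +kernel

set_option maxRecDepth 1000000 in
theorem relc_10_0 : fixPtsF W_10 50000 0 = true := by decide +kernel

set_option maxRecDepth 1000000 in
theorem relc_18_2 : fixPtsF W_18 50000 100000 = true := by decide +kernel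

set_option maxRecDepth 1000000 in
theorem relc_23_4 : fixPtsF W_23 50000 200000 = true := by decide +kernel

set_option maxRecDepth 1000000 in
theorem relc_33_0 : fixPtsF W_33 50000 0 = true := by decide +kernel

set_option maxRecDepth 1000000 in
theorem relc_43_2 : fixPtsF W_43 50000 100000 = true := by decide +kernel

set_option maxRecDepth 1000000 in
theorem relc_54_4 : fixPtsF W_54 50000 200000 = true := by decide +kernel

set_option maxRecDepth 1000000 in
theorem relc_67_0 : fixPtsF W_67 50000 0 = true := by decide +kernel

set_option maxRecDepth 1000000 in
theorem relc_81_2 : fixPtsF W_81 50000 100000 = true := by decide +kernel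

set_option maxRecDepth 1000000 in
theorem relc_95_4 : fixPtsF W_95 50000 200000 = true := by decide +kernel

set_option maxRecDepth 1000000 in
theorem relc_1_6 : fixPtsF W_1 33333 199998 = true := by decide +kernel

set_option maxRecDepth 1000000 in
theorem relc_40_1 : fixPtsF W_40 33333 33333 = true := by decide +kernel

set_option maxRecDepth 1000000 in
theorem relc_70_6 : fixPtsF W_70 33333 199998 = true := by decide +kernel

set_option maxRecDepth 1000000 in
theorem relc_131_2 : fixPtsF W_131 33333 66666 = true := by decide +kernel

set_option maxRecDepth 1000000 in
theorem relc_144_44 : fixPtsF W_144 3125 137500 = true := by decide +kernel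

set_option maxRecDepth 1000000 in
theorem relc_144_76 : fixPtsF W_144 3125 237500 = true := by decide +kernel

set_option maxRecDepth 1000000 in
theorem relc_145_10 : fixPtsF W_145 840 8400 = true := by decide +kernel

set_option maxRecDepth 1000000 in
theorem relc_145_42 : fixPtsF W_145 840 35280 = true := by decide +kernel

set_option maxRecDepth 1000000 in
theorem relc_145_74 : fixPtsF W_145 840 62160 = true := by decide +kernel

set_option maxRecDepth 1000000 in
theorem relc_145_106 : fixPtsF W_145 840 89040 = true := by decide +kernel

set_option maxRecDepth 1000000 in
theorem relc_145_138 : fixPtsF W_145 840 115920 = true := by decide +kernel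

set_option maxRecDepth 1000000 in
theorem relc_145_170 : fixPtsF W_145 840 142800 = true := by decide +kernel

set_option maxRecDepth 1000000 in
theorem relc_145_202 : fixPtsF W_145 840 169680 = true := by decide +kernel

set_option maxRecDepth 1000000 in
theorem relc_145_234 : fixPtsF W_145 840 196560 = true := by decide +kernel

set_option maxRecDepth 1000000 in
theorem relc_145_266 : fixPtsF W_145 840 223440 = true := by decide +kernel

set_option maxRecDepth 1000000 in
theorem relc_145_298 : fixPtsF W_145 840 250320 = true := by decide +kernel

set_option maxRecDepth 1000000 in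
theorem relc_145_330 : fixPtsF W_145 840 277200 = true := by decide +kernel

set_option maxRecDepth 1000000 in
theorem relc_145_362 : fixPtsF W_145 840 304080 = true := by decide +kernel

set_option maxRecDepth 1000000 in
theorem inv_5_3 : invRowF ctF 306936 5 50000 150000 = true := by decide +kernel

set_option maxRecDepth 1000000 in
theorem inv_10_5 : invRowF ctF 306936 10 50000 250000 = true := by decide +kernel

set_option maxRecDepth 1000000 in
theorem relc_9_6 : fixPtsF W_9 6936 300000 = true := by decide +kernel

set_option maxRecDepth 1000000 in
theorem relc_55_6 : fixPtsF W_55 6936 300000 = true := by decide +kernel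

set_option maxRecDepth 1000000 in
theorem inv_11_6 : invRowF ctF 306936 11 6936 300000 = true := by decide +kernel

end Cfsg.Agent.Helper5.Fi24TC
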