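import Cfsg.Agent.Helper5.Fi24TCDatD
import Cfsg.Agent.Helper5.Fi24TCDatT
import Cfsg.Agent.Helper5.TC2C
import Cfsg.Agent.Helper5.TC3A

/-! kernel checks of the coset table: Fi24TC -/

set_option autoImplicit false
set_option Elab.async false

namespace Cfsg.Agent.Helper5.Fi24TC
open Cfsg.Agent.Helper5.TC

set_option maxRecDepth 1000000 in
theorem relc_4_5 : fixPtsF W_4 50000 250000 = true := by decide +kernel

set_option maxRecDepth 1000000 in
theorem relc_10_1 : fixPtsF W_10 50000 50000 = true := by decide +kernel

set_option maxRecDepth 1000000 in
theorem relc_18_3 : fixPtsF W_18 50000 150000 = true := by decide +kernel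

set_option maxRecDepth 1000000 in
theorem relc_23_5 : fixPtsF W_23 50000 250000 = true := by decide +kernel

set_option maxRecDepth 1000000 in
theorem relc_33_1 : fixPtsF W_33 50000 50000 = true := by decide +kernel

set_option maxRecDepth 1000000 in
theorem relc_43_3 : fixPtsF W_43 50000 150000 = true := by decide +kernel

set_option maxRecDepth 1000000 in
theorem relc_54_5 : fixPtsF W_54 50000 250000 = true := by decide +kernel

set_option maxRecDepth 1000000 in
theorem relc_67_1 : fixPtsF W_67 50000 50000 = true := by decide +kernel

set_option maxRecDepth 1000000 in
theorem relc_81_3 : fixPtsF W_81 50000 150000 = true := by decide +kernel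

set_option maxRecDepth 1000000 in
theorem relc_95_5 : fixPtsF W_95 50000 250000 = true := by decide +kernel

set_option maxRecDepth 1000000 in
theorem relc_1_7 : fixPtsF W_1 33333 233331 = true := by decide +kernel

set_option maxRecDepth 1000000 in
theorem relc_40_2 : fixPtsF W_40 33333 66666 = true := by decide +kernel

set_option maxRecDepth 1000000 in
theorem relc_70_7 : fixPtsF W_70 33333 233331 = true := by decide +kernel

set_option maxRecDepth 1000000 in
theorem relc_131_3 : fixPtsF W_131 33333 99999 = true := by decide +kernel

set_option maxRecDepth 1000000 in
theorem relc_144_45 : fixPtsF W_144 3125 140625 = true := by decide +kernel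

set_option maxRecDepth 1000000 in
theorem relc_144_77 : fixPtsF W_144 3125 240625 = true := by decide +kernel

set_option maxRecDepth 1000000 in
theorem relc_145_11 : fixPtsF W_145 840 9240 = true := by decide +kernel

set_option maxRecDepth 1000000 in
theorem relc_145_43 : fixPtsF W_145 840 36120 = true := by decide +kernel

set_option maxRecDepth 1000000 in
theorem relc_145_75 : fixPtsF W_145 840 63000 = true := by decide +kernel

set_option maxRecDepth 1000000 in
theorem relc_145_107 : fixPtsF W_145 840 89880 = true := by decide +kernel

set_option maxRecDepth 1000000 in
theorem relc_145_139 : fixPtsF W_145 840 116760 = true := by decide +kernel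

set_option maxRecDepth 1000000 in
theorem relc_145_171 : fixPtsF W_145 840 143640 = true := by decide +kernel

set_option maxRecDepth 1000000 in
theorem relc_145_203 : fixPtsF W_145 840 170520 = true := by decide +kernel

set_option maxRecDepth 1000000 in
theorem relc_145_235 : fixPtsF W_145 840 197400 = true := by decide +kernel

set_option maxRecDepth 1000000 in
theorem relc_145_267 : fixPtsF W_145 840 224280 = true := by decide +kernel

set_option maxRecDepth 1000000 in
theorem relc_145_299 : fixPtsF W_145 840 251160 = true := by decide +kernel

set_option maxRecDepth 1000000 in
theorem relc_145_331 : fixPtsF W_145 840 278040 = true := by decide +kernel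

set_option maxRecDepth 1000000 in
theorem relc_145_363 : fixPtsF W_145 840 304920 = true := by decide +kernel

set_option maxRecDepth 1000000 in
theorem inv_5_4 : invRowF ctF 306936 5 50000 200000 = true := by decide +kernel

set_option maxRecDepth 1000000 in
theorem inv_11_0 : invRowF ctF 306936 11 50000 0 = true := by decide +kernel

set_option maxRecDepth 1000000 in
theorem relc_10_6 : fixPtsF W_10 6936 300000 = true := by decide +kernel

set_option maxRecDepth 1000000 in
theorem relc_56_6 : fixPtsF W_56 6936 300000 = true := by decide +kernel

set_option maxRecDepth 1000000 in
theorem conn_6 : connF ctF 12 6936 300000 = true := by decide +kernel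

end Cfsg.Agent.Helper5.Fi24TC
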