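import Cfsg.Agent.Helper5.Fi24TCDatD
import Cfsg.Agent.Helper5.Fi24TCDatT
import Cfsg.Agent.Helper5.TC2C
import Cfsg.Agent.Helper5.TC3A

/-! kernel checks of the coset table: Fi24TC -/

set_option autoImplicit false
set_option Elab.async false

namespace Cfsg.Agent.Helper5.Fi24TC
open Cfsg.Agent.Helper5.TC

set_option maxRecDepth 1000000 in
theorem relc_5_0 : fixPtsF W_5 50000 0 = true := by decide +kernel

set_option maxRecDepth 1000000 in
theorem relc_10_2 : fixPtsF W_10 50000 100000 = true := by decide +kernel

set_option maxRecDepth 1000000 in
theorem relc_18_4 : fixPtsF W_18 50000 200000 = true := by decide +kernel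

set_option maxRecDepth 1000000 in
theorem relc_28_0 : fixPtsF W_28 50000 0 = true := by decide +kernel

set_option maxRecDepth 1000000 in
theorem relc_33_2 : fixPtsF W_33 50000 100000 = true := by decide +kernel

set_option maxRecDepth 1000000 in
theorem relc_43_4 : fixPtsF W_43 50000 200000 = true := by decide +kernel

set_option maxRecDepth 1000000 in
theorem relc_55_0 : fixPtsF W_55 50000 0 = true := by decide +kernel

set_option maxRecDepth 1000000 in
theorem relc_67_2 : fixPtsF W_67 50000 100000 = true := by decide +kernel

set_option maxRecDepth 1000000 in
theorem relc_81_4 : fixPtsF W_81 50000 200000 = true := by decide +kernel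

set_option maxRecDepth 1000000 in
theorem relc_106_0 : fixPtsF W_106 50000 0 = true := by decide +kernel

set_option maxRecDepth 1000000 in
theorem relc_1_8 : fixPtsF W_1 33333 266664 = true := by decide +kernel

set_option maxRecDepth 1000000 in
theorem relc_40_3 : fixPtsF W_40 33333 99999 = true := by decide +kernel

set_option maxRecDepth 1000000 in
theorem relc_70_8 : fixPtsF W_70 33333 266664 = true := by decide +kernel

set_option maxRecDepth 1000000 in
theorem relc_131_4 : fixPtsF W_131 33333 133332 = true := by decide +kernel

set_option maxRecDepth 1000000 in
theorem relc_144_46 : fixPtsF W_144 3125 143750 = true := by decide +kernel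

set_option maxRecDepth 1000000 in
theorem relc_144_78 : fixPtsF W_144 3125 243750 = true := by decide +kernel

set_option maxRecDepth 1000000 in
theorem relc_145_12 : fixPtsF W_145 840 10080 = true := by decide +kernel

set_option maxRecDepth 1000000 in
theorem relc_145_44 : fixPtsF W_145 840 36960 = true := by decide +kernel

set_option maxRecDepth 1000000 in
theorem relc_145_76 : fixPtsF W_145 840 63840 = true := by decide +kernel

set_option maxRecDepth 1000000 in
theorem relc_145_108 : fixPtsF W_145 840 90720 = true := by decide +kernel

set_option maxRecDepth 1000000 in
theorem relc_145_140 : fixPtsF W_145 840 117600 = true := by decide +kernel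

set_option maxRecDepth 1000000 in
theorem relc_145_172 : fixPtsF W_145 840 144480 = true := by decide +kernel

set_option maxRecDepth 1000000 in
theorem relc_145_204 : fixPtsF W_145 840 171360 = true := by decide +kernel

set_option maxRecDepth 1000000 in
theorem relc_145_236 : fixPtsF W_145 840 198240 = true := by decide +kernel

set_option maxRecDepth 1000000 in
theorem relc_145_268 : fixPtsF W_145 840 225120 = true := by decide +kernel

set_option maxRecDepth 1000000 in
theorem relc_145_300 : fixPtsF W_145 840 252000 = true := by decide +kernel

set_option maxRecDepth 1000000 in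
theorem relc_145_332 : fixPtsF W_145 840 278880 = true := by decide +kernel

set_option maxRecDepth 1000000 in
theorem relc_145_364 : fixPtsF W_145 840 305760 = true := by decide +kernel

set_option maxRecDepth 1000000 in
theorem inv_5_5 : invRowF ctF 306936 5 50000 250000 = true := by decide +kernel

set_option maxRecDepth 1000000 in
theorem inv_11_1 : invRowF ctF 306936 11 50000 50000 = true := by decide +kernel

set_option maxRecDepth 1000000 in
theorem relc_11_6 : fixPtsF W_11 6936 300000 = true := by decide +kernel

set_option maxRecDepth 1000000 in
theorem relc_57_6 : fixPtsF W_57 6936 300000 = true := by decide +kernel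

end Cfsg.Agent.Helper5.Fi24TC
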