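import Cfsg.Agent.Helper5.Fi24TCDatD
import Cfsg.Agent.Helper5.Fi24TCDatT
import Cfsg.Agent.Helper5.TC2C
import Cfsg.Agent.Helper5.TC3A

/-! kernel checks of the coset table: Fi24TC -/

set_option autoImplicit false
set_option Elab.async false

namespace Cfsg.Agent.Helper5.Fi24TC
open Cfsg.Agent.Helper5.TC

set_option maxRecDepth 1000000 in
theorem relc_5_1 : fixPtsF W_5 50000 50000 = true := by decide +kernel

set_option maxRecDepth 1000000 in
theorem relc_10_3 : fixPtsF W_10 50000 150000 = true := by decide +kernel

set_option maxRecDepth 1000000 in
theorem relc_18_5 : fixPtsF W_18 50000 250000 = true := by decide +kernel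

set_option maxRecDepth 1000000 in
theorem relc_28_1 : fixPtsF W_28 50000 50000 = true := by decide +kernel

set_option maxRecDepth 1000000 in
theorem relc_33_3 : fixPtsF W_33 50000 150000 = true := by decide +kernel

set_option maxRecDepth 1000000 in
theorem relc_43_5 : fixPtsF W_43 50000 250000 = true := by decide +kernel

set_option maxRecDepth 1000000 in
theorem relc_55_1 : fixPtsF W_55 50000 50000 = true := by decide +kernel

set_option maxRecDepth 1000000 in
theorem relc_67_3 : fixPtsF W_67 50000 150000 = true := by decide +kernel

set_option maxRecDepth 1000000 in
theorem relc_81_5 : fixPtsF W_81 50000 250000 = true := by decide +kernel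

set_option maxRecDepth 1000000 in
theorem relc_106_1 : fixPtsF W_106 50000 50000 = true := by decide +kernel

set_option maxRecDepth 1000000 in
theorem relc_14_0 : fixPtsF W_14 33333 0 = true := by decide +kernel

set_option maxRecDepth 1000000 in
theorem relc_40_4 : fixPtsF W_40 33333 133332 = true := by decide +kernel

set_option maxRecDepth 1000000 in
theorem relc_79_0 : fixPtsF W_79 33333 0 = true := by decide +kernel

set_option maxRecDepth 1000000 in
theorem relc_131_5 : fixPtsF W_131 33333 166665 = true := by decide +kernel

set_option maxRecDepth 1000000 in
theorem relc_144_47 : fixPtsF W_144 3125 146875 = true := by decide +kernel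

set_option maxRecDepth 1000000 in
theorem relc_144_79 : fixPtsF W_144 3125 246875 = true := by decide +kernel

set_option maxRecDepth 1000000 in
theorem relc_145_13 : fixPtsF W_145 840 10920 = true := by decide +kernel

set_option maxRecDepth 1000000 in
theorem relc_145_45 : fixPtsF W_145 840 37800 = true := by decide +kernel

set_option maxRecDepth 1000000 in
theorem relc_145_77 : fixPtsF W_145 840 64680 = true := by decide +kernel

set_option maxRecDepth 1000000 in
theorem relc_145_109 : fixPtsF W_145 840 91560 = true := by decide +kernel

set_option maxRecDepth 1000000 in
theorem relc_145_141 : fixPtsF W_145 840 118440 = true := by decide +kernel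

set_option maxRecDepth 1000000 in
theorem relc_145_173 : fixPtsF W_145 840 145320 = true := by decide +kernel

set_option maxRecDepth 1000000 in
theorem relc_145_205 : fixPtsF W_145 840 172200 = true := by decide +kernel

set_option maxRecDepth 1000000 in
theorem relc_145_237 : fixPtsF W_145 840 199080 = true := by decide +kernel

set_option maxRecDepth 1000000 in
theorem relc_145_269 : fixPtsF W_145 840 225960 = true := by decide +kernel

set_option maxRecDepth 1000000 in
theorem relc_145_301 : fixPtsF W_145 840 252840 = true := by decide +kernel

set_option maxRecDepth 1000000 in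
theorem relc_145_333 : fixPtsF W_145 840 279720 = true := by decide +kernel

set_option maxRecDepth 1000000 in
theorem inv_0_0 : invRowF ctF 306936 0 50000 0 = true := by decide +kernel

set_option maxRecDepth 1000000 in
theorem inv_2_1 : invRowF ctF 306936 2 50000 50000 = true := by decide +kernel

set_option maxRecDepth 1000000 in
theorem inv_7_3 : invRowF ctF 306936 7 50000 150000 = true := by decide +kernel

set_option maxRecDepth 1000000 in
theorem conn_5 : connF ctF 12 50000 250000 = true := by decide +kernel

set_option maxRecDepth 1000000 in
theorem relc_42_6 : fixPtsF W_42 6936 300000 = true := by decide +kernel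

set_option maxRecDepth 1000000 in
theorem inv_4_6 : invRowF ctF 306936 4 6936 300000 = true := by decide +kernel

end Cfsg.Agent.Helper5.Fi24TC
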