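import Cfsg.Agent.Helper5.Fi24TCDatD
import Cfsg.Agent.Helper5.Fi24TCDatT
import Cfsg.Agent.Helper5.TC2C
import Cfsg.Agent.Helper5.TC3A

/-! kernel checks of the coset table: Fi24TC -/

set_option autoImplicit false
set_option Elab.async false

namespace Cfsg.Agent.Helper5.Fi24TC
open Cfsg.Agent.Helper5.TC

set_option maxRecDepth 1000000 in
theorem relc_2_2 : fixPtsF W_2 50000 100000 = true := by decide +kernel

set_option maxRecDepth 1000000 in
theorem relc_7_4 : fixPtsF W_7 50000 200000 = true := by decide +kernel

set_option maxRecDepth 1000000 in
theorem relc_16_0 : fixPtsF W_16 50000 0 = true := by decide +kernel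

set_option maxRecDepth 1000000 in
theorem relc_21_2 : fixPtsF W_21 50000 100000 = true := by decide +kernel

set_option maxRecDepth 1000000 in
theorem relc_30_4 : fixPtsF W_30 50000 200000 = true := by decide +kernel

set_option maxRecDepth 1000000 in
theorem relc_41_0 : fixPtsF W_41 50000 0 = true := by decide +kernel

set_option maxRecDepth 1000000 in
theorem relc_46_2 : fixPtsF W_46 50000 100000 = true := by decide +kernel

set_option maxRecDepth 1000000 in
theorem relc_57_4 : fixPtsF W_57 50000 200000 = true := by decide +kernel

set_option maxRecDepth 1000000 in
theorem relc_71_0 : fixPtsF W_71 50000 0 = true := by decide +kernel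

set_option maxRecDepth 1000000 in
theorem relc_93_2 : fixPtsF W_93 50000 100000 = true := by decide +kernel

set_option maxRecDepth 1000000 in
theorem relc_118_4 : fixPtsF W_118 50000 200000 = true := by decide +kernel

set_option maxRecDepth 1000000 in
theorem relc_66_1 : fixPtsF W_66 33333 33333 = true := by decide +kernel

set_option maxRecDepth 1000000 in
theorem relc_92_6 : fixPtsF W_92 33333 199998 = true := by decide +kernel

set_option maxRecDepth 1000000 in
theorem relc_144_11 : fixPtsF W_144 3125 34375 = true := by decide +kernel

set_option maxRecDepth 1000000 in
theorem relc_144_30 : fixPtsF W_144 3125 93750 = true := by decide +kernel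

set_option maxRecDepth 1000000 in
theorem relc_144_62 : fixPtsF W_144 3125 193750 = true := by decide +kernel

set_option maxRecDepth 1000000 in
theorem relc_144_94 : fixPtsF W_144 3125 293750 = true := by decide +kernel

set_option maxRecDepth 1000000 in
theorem relc_145_32 : fixPtsF W_145 840 26880 = true := by decide +kernel

set_option maxRecDepth 1000000 in
theorem relc_145_64 : fixPtsF W_145 840 53760 = true := by decide +kernel

set_option maxRecDepth 1000000 in
theorem relc_145_96 : fixPtsF W_145 840 80640 = true := by decide +kernel

set_option maxRecDepth 1000000 in
theorem relc_145_128 : fixPtsF W_145 840 107520 = true := by decide +kernel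

set_option maxRecDepth 1000000 in
theorem relc_145_160 : fixPtsF W_145 840 134400 = true := by decide +kernel

set_option maxRecDepth 1000000 in
theorem relc_145_192 : fixPtsF W_145 840 161280 = true := by decide +kernel

set_option maxRecDepth 1000000 in
theorem relc_145_224 : fixPtsF W_145 840 188160 = true := by decide +kernel

set_option maxRecDepth 1000000 in
theorem relc_145_256 : fixPtsF W_145 840 215040 = true := by decide +kernel

set_option maxRecDepth 1000000 in
theorem relc_145_288 : fixPtsF W_145 840 241920 = true := by decide +kernel

set_option maxRecDepth 1000000 in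
theorem relc_145_320 : fixPtsF W_145 840 268800 = true := by decide +kernel

set_option maxRecDepth 1000000 in
theorem relc_145_352 : fixPtsF W_145 840 295680 = true := by decide +kernel

set_option maxRecDepth 1000000 in
theorem inv_3_5 : invRowF ctF 306936 3 50000 250000 = true := by decide +kernel

set_option maxRecDepth 1000000 in
theorem inv_9_1 : invRowF ctF 306936 9 50000 50000 = true := by decide +kernel

set_option maxRecDepth 1000000 in
theorem relc_92_9 : fixPtsF W_92 6939 299997 = true := by decide +kernel

set_option maxRecDepth 1000000 in
theorem relc_34_6 : fixPtsF W_34 6936 300000 = true := by decide +kernel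

set_option maxRecDepth 1000000 in
theorem inv_1_6 : invRowF ctF 306936 1 6936 300000 = true := by decide +kernel

end Cfsg.Agent.Helper5.Fi24TC
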