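import Cfsg.Agent.Helper5.Fi24TCDatD
import Cfsg.Agent.Helper5.Fi24TCDatT
import Cfsg.Agent.Helper5.TC2C
import Cfsg.Agent.Helper5.TC3A

/-! kernel checks of the coset table: Fi24TC -/

set_option autoImplicit false
set_option Elab.async false

namespace Cfsg.Agent.Helper5.Fi24TC
open Cfsg.Agent.Helper5.TC

set_option maxRecDepth 1000000 in
theorem relc_5_2 : fixPtsF W_5 50000 100000 = true := by decide +kernel

set_option maxRecDepth 1000000 in
theorem relc_10_4 : fixPtsF W_10 50000 200000 = true := by decide +kernel

set_option maxRecDepth 1000000 in
theorem relc_19_0 : fixPtsF W_19 50000 0 = true := by decide +kernel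

set_option maxRecDepth 1000000 in
theorem relc_28_2 : fixPtsF W_28 50000 100000 = true := by decide +kernel

set_option maxRecDepth 1000000 in
theorem relc_33_4 : fixPtsF W_33 50000 200000 = true := by decide +kernel

set_option maxRecDepth 1000000 in
theorem relc_44_0 : fixPtsF W_44 50000 0 = true := by decide +kernel

set_option maxRecDepth 1000000 in
theorem relc_55_2 : fixPtsF W_55 50000 100000 = true := by decide +kernel

set_option maxRecDepth 1000000 in
theorem relc_67_4 : fixPtsF W_67 50000 200000 = true := by decide +kernel

set_option maxRecDepth 1000000 in
theorem relc_82_0 : fixPtsF W_82 50000 0 = true := by decide +kernel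

set_option maxRecDepth 1000000 in
theorem relc_106_2 : fixPtsF W_106 50000 100000 = true := by decide +kernel

set_option maxRecDepth 1000000 in
theorem relc_14_1 : fixPtsF W_14 33333 33333 = true := by decide +kernel

set_option maxRecDepth 1000000 in
theorem relc_40_5 : fixPtsF W_40 33333 166665 = true := by decide +kernel

set_option maxRecDepth 1000000 in
theorem relc_79_1 : fixPtsF W_79 33333 33333 = true := by decide +kernel

set_option maxRecDepth 1000000 in
theorem relc_131_6 : fixPtsF W_131 33333 199998 = true := by decide +kernel

set_option maxRecDepth 1000000 in
theorem relc_144_48 : fixPtsF W_144 3125 150000 = true := by decide +kernel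

set_option maxRecDepth 1000000 in
theorem relc_144_80 : fixPtsF W_144 3125 250000 = true := by decide +kernel

set_option maxRecDepth 1000000 in
theorem relc_145_14 : fixPtsF W_145 840 11760 = true := by decide +kernel

set_option maxRecDepth 1000000 in
theorem relc_145_46 : fixPtsF W_145 840 38640 = true := by decide +kernel

set_option maxRecDepth 1000000 in
theorem relc_145_78 : fixPtsF W_145 840 65520 = true := by decide +kernel

set_option maxRecDepth 1000000 in
theorem relc_145_110 : fixPtsF W_145 840 92400 = true := by decide +kernel

set_option maxRecDepth 1000000 in
theorem relc_145_142 : fixPtsF W_145 840 119280 = true := by decide +kernel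

set_option maxRecDepth 1000000 in
theorem relc_145_174 : fixPtsF W_145 840 146160 = true := by decide +kernel

set_option maxRecDepth 1000000 in
theorem relc_145_206 : fixPtsF W_145 840 173040 = true := by decide +kernel

set_option maxRecDepth 1000000 in
theorem relc_145_238 : fixPtsF W_145 840 199920 = true := by decide +kernel

set_option maxRecDepth 1000000 in
theorem relc_145_270 : fixPtsF W_145 840 226800 = true := by decide +kernel

set_option maxRecDepth 1000000 in
theorem relc_145_302 : fixPtsF W_145 840 253680 = true := by decide +kernel

set_option maxRecDepth 1000000 in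
theorem relc_145_334 : fixPtsF W_145 840 280560 = true := by decide +kernel

set_option maxRecDepth 1000000 in
theorem inv_0_1 : invRowF ctF 306936 0 50000 50000 = true := by decide +kernel

set_option maxRecDepth 1000000 in
theorem inv_2_2 : invRowF ctF 306936 2 50000 100000 = true := by decide +kernel

set_option maxRecDepth 1000000 in
theorem inv_7_4 : invRowF ctF 306936 7 50000 200000 = true := by decide +kernel

set_option maxRecDepth 1000000 in
theorem relc_145_365 : fixPtsF W_145 336 306600 = true := by decide +kernel

set_option maxRecDepth 1000000 in
theorem relc_31_6 : fixPtsF W_31 6936 300000 = true := by decide +kernel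

set_option maxRecDepth 1000000 in
theorem relc_119_6 : fixPtsF W_119 6936 300000 = true := by decide +kernel

end Cfsg.Agent.Helper5.Fi24TC
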