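import Cfsg.Agent.Helper5.Fi24TCDatD
import Cfsg.Agent.Helper5.Fi24TCDatT
import Cfsg.Agent.Helper5.TC2C
import Cfsg.Agent.Helper5.TC3A

/-! kernel checks of the coset table: Fi24TC -/

set_option autoImplicit false
set_option Elab.async false

namespace Cfsg.Agent.Helper5.Fi24TC
open Cfsg.Agent.Helper5.TC

set_option maxRecDepth 1000000 in
theorem relc_5_3 : fixPtsF W_5 50000 150000 = true := by decide +kernel

set_option maxRecDepth 1000000 in
theorem relc_10_5 : fixPtsF W_10 50000 250000 = true := by decide +kernel

set_option maxRecDepth 1000000 in
theorem relc_19_1 : fixPtsF W_19 50000 50000 = true := by decide +kernel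

set_option maxRecDepth 1000000 in
theorem relc_28_3 : fixPtsF W_28 50000 150000 = true := by decide +kernel

set_option maxRecDepth 1000000 in
theorem relc_33_5 : fixPtsF W_33 50000 250000 = true := by decide +kernel

set_option maxRecDepth 1000000 in
theorem relc_44_1 : fixPtsF W_44 50000 50000 = true := by decide +kernel

set_option maxRecDepth 1000000 in
theorem relc_55_3 : fixPtsF W_55 50000 150000 = true := by decide +kernel

set_option maxRecDepth 1000000 in
theorem relc_67_5 : fixPtsF W_67 50000 250000 = true := by decide +kernel

set_option maxRecDepth 1000000 in
theorem relc_82_1 : fixPtsF W_82 50000 50000 = true := by decide +kernel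

set_option maxRecDepth 1000000 in
theorem relc_106_3 : fixPtsF W_106 50000 150000 = true := by decide +kernel

set_option maxRecDepth 1000000 in
theorem relc_14_2 : fixPtsF W_14 33333 66666 = true := by decide +kernel

set_option maxRecDepth 1000000 in
theorem relc_40_6 : fixPtsF W_40 33333 199998 = true := by decide +kernel

set_option maxRecDepth 1000000 in
theorem relc_79_2 : fixPtsF W_79 33333 66666 = true := by decide +kernel

set_option maxRecDepth 1000000 in
theorem relc_131_7 : fixPtsF W_131 33333 233331 = true := by decide +kernel

set_option maxRecDepth 1000000 in
theorem relc_144_49 : fixPtsF W_144 3125 153125 = true := by decide +kernel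

set_option maxRecDepth 1000000 in
theorem relc_144_81 : fixPtsF W_144 3125 253125 = true := by decide +kernel

set_option maxRecDepth 1000000 in
theorem relc_145_15 : fixPtsF W_145 840 12600 = true := by decide +kernel

set_option maxRecDepth 1000000 in
theorem relc_145_47 : fixPtsF W_145 840 39480 = true := by decide +kernel

set_option maxRecDepth 1000000 in
theorem relc_145_79 : fixPtsF W_145 840 66360 = true := by decide +kernel

set_option maxRecDepth 1000000 in
theorem relc_145_111 : fixPtsF W_145 840 93240 = true := by decide +kernel

set_option maxRecDepth 1000000 in
theorem relc_145_143 : fixPtsF W_145 840 120120 = true := by decide +kernel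

set_option maxRecDepth 1000000 in
theorem relc_145_175 : fixPtsF W_145 840 147000 = true := by decide +kernel

set_option maxRecDepth 1000000 in
theorem relc_145_207 : fixPtsF W_145 840 173880 = true := by decide +kernel

set_option maxRecDepth 1000000 in
theorem relc_145_239 : fixPtsF W_145 840 200760 = true := by decide +kernel

set_option maxRecDepth 1000000 in
theorem relc_145_271 : fixPtsF W_145 840 227640 = true := by decide +kernel

set_option maxRecDepth 1000000 in
theorem relc_145_303 : fixPtsF W_145 840 254520 = true := by decide +kernel

set_option maxRecDepth 1000000 in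
theorem relc_145_335 : fixPtsF W_145 840 281400 = true := by decide +kernel

set_option maxRecDepth 1000000 in
theorem inv_0_2 : invRowF ctF 306936 0 50000 100000 = true := by decide +kernel

set_option maxRecDepth 1000000 in
theorem inv_2_3 : invRowF ctF 306936 2 50000 150000 = true := by decide +kernel

set_option maxRecDepth 1000000 in
theorem inv_7_5 : invRowF ctF 306936 7 50000 250000 = true := by decide +kernel

set_option maxRecDepth 1000000 in
theorem relc_1_9 : fixPtsF W_1 6939 299997 = true := by decide +kernel

set_option maxRecDepth 1000000 in
theorem relc_15_6 : fixPtsF W_15 6936 300000 = true := by decide +kernel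

set_option maxRecDepth 1000000 in
theorem relc_58_6 : fixPtsF W_58 6936 300000 = true := by decide +kernel

end Cfsg.Agent.Helper5.Fi24TC
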