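import Cfsg.Agent.Helper5.Fi24TCDatD
import Cfsg.Agent.Helper5.Fi24TCDatT
import Cfsg.Agent.Helper5.TC2C
import Cfsg.Agent.Helper5.TC3A

/-! kernel checks of the coset table: Fi24TC -/

set_option autoImplicit false
set_option Elab.async false

namespace Cfsg.Agent.Helper5.Fi24TC
open Cfsg.Agent.Helper5.TC

set_option maxRecDepth 1000000 in
theorem relc_5_4 : fixPtsF W_5 50000 200000 = true := by decide +kernel

set_option maxRecDepth 1000000 in
theorem relc_11_0 : fixPtsF W_11 50000 0 = true := by decide +kernel

set_option maxRecDepth 1000000 in
theorem relc_19_2 : fixPtsF W_19 50000 100000 = true := by decide +kernel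

set_option maxRecDepth 1000000 in
theorem relc_28_4 : fixPtsF W_28 50000 200000 = true := by decide +kernel

set_option maxRecDepth 1000000 in
theorem relc_34_0 : fixPtsF W_34 50000 0 = true := by decide +kernel

set_option maxRecDepth 1000000 in
theorem relc_44_2 : fixPtsF W_44 50000 100000 = true := by decide +kernel

set_option maxRecDepth 1000000 in
theorem relc_55_4 : fixPtsF W_55 50000 200000 = true := by decide +kernel

set_option maxRecDepth 1000000 in
theorem relc_68_0 : fixPtsF W_68 50000 0 = true := by decide +kernel

set_option maxRecDepth 1000000 in
theorem relc_82_2 : fixPtsF W_82 50000 100000 = true := by decide +kernel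

set_option maxRecDepth 1000000 in
theorem relc_106_4 : fixPtsF W_106 50000 200000 = true := by decide +kernel

set_option maxRecDepth 1000000 in
theorem relc_14_3 : fixPtsF W_14 33333 99999 = true := by decide +kernel

set_option maxRecDepth 1000000 in
theorem relc_40_7 : fixPtsF W_40 33333 233331 = true := by decide +kernel

set_option maxRecDepth 1000000 in
theorem relc_79_3 : fixPtsF W_79 33333 99999 = true := by decide +kernel

set_option maxRecDepth 1000000 in
theorem relc_131_8 : fixPtsF W_131 33333 266664 = true := by decide +kernel

set_option maxRecDepth 1000000 in
theorem relc_144_50 : fixPtsF W_144 3125 156250 = true := by decide +kernel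

set_option maxRecDepth 1000000 in
theorem relc_144_82 : fixPtsF W_144 3125 256250 = true := by decide +kernel

set_option maxRecDepth 1000000 in
theorem relc_145_16 : fixPtsF W_145 840 13440 = true := by decide +kernel

set_option maxRecDepth 1000000 in
theorem relc_145_48 : fixPtsF W_145 840 40320 = true := by decide +kernel

set_option maxRecDepth 1000000 in
theorem relc_145_80 : fixPtsF W_145 840 67200 = true := by decide +kernel

set_option maxRecDepth 1000000 in
theorem relc_145_112 : fixPtsF W_145 840 94080 = true := by decide +kernel

set_option maxRecDepth 1000000 in
theorem relc_145_144 : fixPtsF W_145 840 120960 = true := by decide +kernel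

set_option maxRecDepth 1000000 in
theorem relc_145_176 : fixPtsF W_145 840 147840 = true := by decide +kernel

set_option maxRecDepth 1000000 in
theorem relc_145_208 : fixPtsF W_145 840 174720 = true := by decide +kernel

set_option maxRecDepth 1000000 in
theorem relc_145_240 : fixPtsF W_145 840 201600 = true := by decide +kernel

set_option maxRecDepth 1000000 in
theorem relc_145_272 : fixPtsF W_145 840 228480 = true := by decide +kernel

set_option maxRecDepth 1000000 in
theorem relc_145_304 : fixPtsF W_145 840 255360 = true := by decide +kernel

set_option maxRecDepth 1000000 in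
theorem relc_145_336 : fixPtsF W_145 840 282240 = true := by decide +kernel

set_option maxRecDepth 1000000 in
theorem inv_0_3 : invRowF ctF 306936 0 50000 150000 = true := by decide +kernel

set_option maxRecDepth 1000000 in
theorem inv_2_4 : invRowF ctF 306936 2 50000 200000 = true := by decide +kernel

set_option maxRecDepth 1000000 in
theorem inv_8_0 : invRowF ctF 306936 8 50000 0 = true := by decide +kernel

set_option maxRecDepth 1000000 in
theorem relc_14_9 : fixPtsF W_14 6939 299997 = true := by decide +kernel

set_option maxRecDepth 1000000 in
theorem relc_16_6 : fixPtsF W_16 6936 300000 = true := by decide +kernel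

set_option maxRecDepth 1000000 in
theorem relc_59_6 : fixPtsF W_59 6936 300000 = true := by decide +kernel

end Cfsg.Agent.Helper5.Fi24TC
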