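import Cfsg.Agent.Helper5.Fi24TCDatD
import Cfsg.Agent.Helper5.Fi24TCDatT
import Cfsg.Agent.Helper5.TC2C
import Cfsg.Agent.Helper5.TC3A

/-! kernel checks of the coset table: Fi24TC -/

set_option autoImplicit false
set_option Elab.async false

namespace Cfsg.Agent.Helper5.Fi24TC
open Cfsg.Agent.Helper5.TC

set_option maxRecDepth 1000000 in
theorem relc_5_5 : fixPtsF W_5 50000 250000 = true := by decide +kernel

set_option maxRecDepth 1000000 in
theorem relc_11_1 : fixPtsF W_11 50000 50000 = true := by decide +kernel

set_option maxRecDepth 1000000 in
theorem relc_19_3 : fixPtsF W_19 50000 150000 = true := by decide +kernel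

set_option maxRecDepth 1000000 in
theorem relc_28_5 : fixPtsF W_28 50000 250000 = true := by decide +kernel

set_option maxRecDepth 1000000 in
theorem relc_34_1 : fixPtsF W_34 50000 50000 = true := by decide +kernel

set_option maxRecDepth 1000000 in
theorem relc_44_3 : fixPtsF W_44 50000 150000 = true := by decide +kernel

set_option maxRecDepth 1000000 in
theorem relc_55_5 : fixPtsF W_55 50000 250000 = true := by decide +kernel

set_option maxRecDepth 1000000 in
theorem relc_68_1 : fixPtsF W_68 50000 50000 = true := by decide +kernel

set_option maxRecDepth 1000000 in
theorem relc_82_3 : fixPtsF W_82 50000 150000 = true := by decide +kernel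

set_option maxRecDepth 1000000 in
theorem relc_106_5 : fixPtsF W_106 50000 250000 = true := by decide +kernel

set_option maxRecDepth 1000000 in
theorem relc_14_4 : fixPtsF W_14 33333 133332 = true := by decide +kernel

set_option maxRecDepth 1000000 in
theorem relc_40_8 : fixPtsF W_40 33333 266664 = true := by decide +kernel

set_option maxRecDepth 1000000 in
theorem relc_79_4 : fixPtsF W_79 33333 133332 = true := by decide +kernel

set_option maxRecDepth 1000000 in
theorem relc_144_0 : fixPtsF W_144 3125 0 = true := by decide +kernel

set_option maxRecDepth 1000000 in
theorem relc_144_19 : fixPtsF W_144 3125 59375 = true := by decide +kernel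

set_option maxRecDepth 1000000 in
theorem relc_144_51 : fixPtsF W_144 3125 159375 = true := by decide +kernel

set_option maxRecDepth 1000000 in
theorem relc_144_83 : fixPtsF W_144 3125 259375 = true := by decide +kernel

set_option maxRecDepth 1000000 in
theorem relc_145_17 : fixPtsF W_145 840 14280 = true := by decide +kernel

set_option maxRecDepth 1000000 in
theorem relc_145_49 : fixPtsF W_145 840 41160 = true := by decide +kernel

set_option maxRecDepth 1000000 in
theorem relc_145_81 : fixPtsF W_145 840 68040 = true := by decide +kernel

set_option maxRecDepth 1000000 in
theorem relc_145_113 : fixPtsF W_145 840 94920 = true := by decide +kernel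

set_option maxRecDepth 1000000 in
theorem relc_145_145 : fixPtsF W_145 840 121800 = true := by decide +kernel

set_option maxRecDepth 1000000 in
theorem relc_145_177 : fixPtsF W_145 840 148680 = true := by decide +kernel

set_option maxRecDepth 1000000 in
theorem relc_145_209 : fixPtsF W_145 840 175560 = true := by decide +kernel

set_option maxRecDepth 1000000 in
theorem relc_145_241 : fixPtsF W_145 840 202440 = true := by decide +kernel

set_option maxRecDepth 1000000 in
theorem relc_145_273 : fixPtsF W_145 840 229320 = true := by decide +kernel

set_option maxRecDepth 1000000 in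
theorem relc_145_305 : fixPtsF W_145 840 256200 = true := by decide +kernel

set_option maxRecDepth 1000000 in
theorem relc_145_337 : fixPtsF W_145 840 283080 = true := by decide +kernel

set_option maxRecDepth 1000000 in
theorem inv_0_4 : invRowF ctF 306936 0 50000 200000 = true := by decide +kernel

set_option maxRecDepth 1000000 in
theorem inv_6_0 : invRowF ctF 306936 6 50000 0 = true := by decide +kernel

set_option maxRecDepth 1000000 in
theorem inv_11_2 : invRowF ctF 306936 11 50000 100000 = true := by decide +kernel

set_option maxRecDepth 1000000 in
theorem relc_82_6 : fixPtsF W_82 6936 300000 = true := by decide +kernel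

end Cfsg.Agent.Helper5.Fi24TC
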