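import Cfsg.Agent.Helper5.Fi24TCDatD
import Cfsg.Agent.Helper5.Fi24TCDatT
import Cfsg.Agent.Helper5.TC2C
import Cfsg.Agent.Helper5.TC3A

/-! kernel checks of the coset table: Fi24TC -/

set_option autoImplicit false
set_option Elab.async false

namespace Cfsg.Agent.Helper5.Fi24TC
open Cfsg.Agent.Helper5.TC

set_option maxRecDepth 1000000 in
theorem relc_6_0 : fixPtsF W_6 50000 0 = true := by decide +kernel

set_option maxRecDepth 1000000 in
theorem relc_11_2 : fixPtsF W_11 50000 100000 = true := by decide +kernel

set_option maxRecDepth 1000000 in
theorem relc_19_4 : fixPtsF W_19 50000 200000 = true := by decide +kernel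

set_option maxRecDepth 1000000 in
theorem relc_29_0 : fixPtsF W_29 50000 0 = true := by decide +kernel

set_option maxRecDepth 1000000 in
theorem relc_34_2 : fixPtsF W_34 50000 100000 = true := by decide +kernel

set_option maxRecDepth 1000000 in
theorem relc_44_4 : fixPtsF W_44 50000 200000 = true := by decide +kernel

set_option maxRecDepth 1000000 in
theorem relc_56_0 : fixPtsF W_56 50000 0 = true := by decide +kernel

set_option maxRecDepth 1000000 in
theorem relc_68_2 : fixPtsF W_68 50000 100000 = true := by decide +kernel

set_option maxRecDepth 1000000 in
theorem relc_82_4 : fixPtsF W_82 50000 200000 = true := by decide +kernel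

set_option maxRecDepth 1000000 in
theorem relc_107_0 : fixPtsF W_107 50000 0 = true := by decide +kernel

set_option maxRecDepth 1000000 in
theorem relc_14_5 : fixPtsF W_14 33333 166665 = true := by decide +kernel

set_option maxRecDepth 1000000 in
theorem relc_53_0 : fixPtsF W_53 33333 0 = true := by decide +kernel

set_option maxRecDepth 1000000 in
theorem relc_79_5 : fixPtsF W_79 33333 166665 = true := by decide +kernel

set_option maxRecDepth 1000000 in
theorem relc_144_1 : fixPtsF W_144 3125 3125 = true := by decide +kernel

set_option maxRecDepth 1000000 in
theorem relc_144_20 : fixPtsF W_144 3125 62500 = true := by decide +kernel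

set_option maxRecDepth 1000000 in
theorem relc_144_52 : fixPtsF W_144 3125 162500 = true := by decide +kernel

set_option maxRecDepth 1000000 in
theorem relc_144_84 : fixPtsF W_144 3125 262500 = true := by decide +kernel

set_option maxRecDepth 1000000 in
theorem relc_145_18 : fixPtsF W_145 840 15120 = true := by decide +kernel

set_option maxRecDepth 1000000 in
theorem relc_145_50 : fixPtsF W_145 840 42000 = true := by decide +kernel

set_option maxRecDepth 1000000 in
theorem relc_145_82 : fixPtsF W_145 840 68880 = true := by decide +kernel

set_option maxRecDepth 1000000 in
theorem relc_145_114 : fixPtsF W_145 840 95760 = true := by decide +kernel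

set_option maxRecDepth 1000000 in
theorem relc_145_146 : fixPtsF W_145 840 122640 = true := by decide +kernel

set_option maxRecDepth 1000000 in
theorem relc_145_178 : fixPtsF W_145 840 149520 = true := by decide +kernel

set_option maxRecDepth 1000000 in
theorem relc_145_210 : fixPtsF W_145 840 176400 = true := by decide +kernel

set_option maxRecDepth 1000000 in
theorem relc_145_242 : fixPtsF W_145 840 203280 = true := by decide +kernel

set_option maxRecDepth 1000000 in
theorem relc_145_274 : fixPtsF W_145 840 230160 = true := by decide +kernel

set_option maxRecDepth 1000000 in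
theorem relc_145_306 : fixPtsF W_145 840 257040 = true := by decide +kernel

set_option maxRecDepth 1000000 in
theorem relc_145_338 : fixPtsF W_145 840 283920 = true := by decide +kernel

set_option maxRecDepth 1000000 in
theorem inv_0_5 : invRowF ctF 306936 0 50000 250000 = true := by decide +kernel

set_option maxRecDepth 1000000 in
theorem inv_6_1 : invRowF ctF 306936 6 50000 50000 = true := by decide +kernel

set_option maxRecDepth 1000000 in
theorem inv_11_3 : invRowF ctF 306936 11 50000 150000 = true := by decide +kernel

set_option maxRecDepth 1000000 in
theorem relc_83_6 : fixPtsF W_83 6936 300000 = true := by decide +kernel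

end Cfsg.Agent.Helper5.Fi24TC
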