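import Cfsg.Agent.Helper5.Fi24TCDatD
import Cfsg.Agent.Helper5.Fi24TCDatT
import Cfsg.Agent.Helper5.TC2C
import Cfsg.Agent.Helper5.TC3A

/-! kernel checks of the coset table: Fi24TC -/

set_option autoImplicit false
set_option Elab.async false

namespace Cfsg.Agent.Helper5.Fi24TC
open Cfsg.Agent.Helper5.TC

set_option maxRecDepth 1000000 in
theorem relc_6_1 : fixPtsF W_6 50000 50000 = true := by decide +kernel

set_option maxRecDepth 1000000 in
theorem relc_11_3 : fixPtsF W_11 50000 150000 = true := by decide +kernel

set_option maxRecDepth 1000000 in
theorem relc_19_5 : fixPtsF W_19 50000 250000 = true := by decide +kernel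

set_option maxRecDepth 1000000 in
theorem relc_29_1 : fixPtsF W_29 50000 50000 = true := by decide +kernel

set_option maxRecDepth 1000000 in
theorem relc_34_3 : fixPtsF W_34 50000 150000 = true := by decide +kernel

set_option maxRecDepth 1000000 in
theorem relc_44_5 : fixPtsF W_44 50000 250000 = true := by decide +kernel

set_option maxRecDepth 1000000 in
theorem relc_56_1 : fixPtsF W_56 50000 50000 = true := by decide +kernel

set_option maxRecDepth 1000000 in
theorem relc_68_3 : fixPtsF W_68 50000 150000 = true := by decide +kernel

set_option maxRecDepth 1000000 in
theorem relc_82_5 : fixPtsF W_82 50000 250000 = true := by decide +kernel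

set_option maxRecDepth 1000000 in
theorem relc_107_1 : fixPtsF W_107 50000 50000 = true := by decide +kernel

set_option maxRecDepth 1000000 in
theorem relc_14_6 : fixPtsF W_14 33333 199998 = true := by decide +kernel

set_option maxRecDepth 1000000 in
theorem relc_53_1 : fixPtsF W_53 33333 33333 = true := by decide +kernel

set_option maxRecDepth 1000000 in
theorem relc_79_6 : fixPtsF W_79 33333 199998 = true := by decide +kernel

set_option maxRecDepth 1000000 in
theorem relc_144_2 : fixPtsF W_144 3125 6250 = true := by decide +kernel

set_option maxRecDepth 1000000 in
theorem relc_144_21 : fixPtsF W_144 3125 65625 = true := by decide +kernel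

set_option maxRecDepth 1000000 in
theorem relc_144_53 : fixPtsF W_144 3125 165625 = true := by decide +kernel

set_option maxRecDepth 1000000 in
theorem relc_144_85 : fixPtsF W_144 3125 265625 = true := by decide +kernel

set_option maxRecDepth 1000000 in
theorem relc_145_19 : fixPtsF W_145 840 15960 = true := by decide +kernel

set_option maxRecDepth 1000000 in
theorem relc_145_51 : fixPtsF W_145 840 42840 = true := by decide +kernel

set_option maxRecDepth 1000000 in
theorem relc_145_83 : fixPtsF W_145 840 69720 = true := by decide +kernel

set_option maxRecDepth 1000000 in
theorem relc_145_115 : fixPtsF W_145 840 96600 = true := by decide +kernel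

set_option maxRecDepth 1000000 in
theorem relc_145_147 : fixPtsF W_145 840 123480 = true := by decide +kernel

set_option maxRecDepth 1000000 in
theorem relc_145_179 : fixPtsF W_145 840 150360 = true := by decide +kernel

set_option maxRecDepth 1000000 in
theorem relc_145_211 : fixPtsF W_145 840 177240 = true := by decide +kernel

set_option maxRecDepth 1000000 in
theorem relc_145_243 : fixPtsF W_145 840 204120 = true := by decide +kernel

set_option maxRecDepth 1000000 in
theorem relc_145_275 : fixPtsF W_145 840 231000 = true := by decide +kernel

set_option maxRecDepth 1000000 in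
theorem relc_145_307 : fixPtsF W_145 840 257880 = true := by decide +kernel

set_option maxRecDepth 1000000 in
theorem relc_145_339 : fixPtsF W_145 840 284760 = true := by decide +kernel

set_option maxRecDepth 1000000 in
theorem inv_1_0 : invRowF ctF 306936 1 50000 0 = true := by decide +kernel

set_option maxRecDepth 1000000 in
theorem inv_6_2 : invRowF ctF 306936 6 50000 100000 = true := by decide +kernel

set_option maxRecDepth 1000000 in
theorem inv_11_4 : invRowF ctF 306936 11 50000 200000 = true := by decide +kernel

set_option maxRecDepth 1000000 in
theorem relc_93_6 : fixPtsF W_93 6936 300000 = true := by decide +kernel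

end Cfsg.Agent.Helper5.Fi24TC
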