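import Cfsg.Agent.Helper5.Fi24TCDatD
import Cfsg.Agent.Helper5.Fi24TCDatT
import Cfsg.Agent.Helper5.TC2C
import Cfsg.Agent.Helper5.TC3A

/-! kernel checks of the coset table: Fi24TC -/

set_option autoImplicit false
set_option Elab.async false

namespace Cfsg.Agent.Helper5.Fi24TC
open Cfsg.Agent.Helper5.TC

set_option maxRecDepth 1000000 in
theorem relc_6_2 : fixPtsF W_6 50000 100000 = true := by decide +kernel

set_option maxRecDepth 1000000 in
theorem relc_11_4 : fixPtsF W_11 50000 200000 = true := by decide +kernel

set_option maxRecDepth 1000000 in
theorem relc_20_0 : fixPtsF W_20 50000 0 = true := by decide +kernel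

set_option maxRecDepth 1000000 in
theorem relc_29_2 : fixPtsF W_29 50000 100000 = true := by decide +kernel

set_option maxRecDepth 1000000 in
theorem relc_34_4 : fixPtsF W_34 50000 200000 = true := by decide +kernel

set_option maxRecDepth 1000000 in
theorem relc_45_0 : fixPtsF W_45 50000 0 = true := by decide +kernel

set_option maxRecDepth 1000000 in
theorem relc_56_2 : fixPtsF W_56 50000 100000 = true := by decide +kernel

set_option maxRecDepth 1000000 in
theorem relc_68_4 : fixPtsF W_68 50000 200000 = true := by decide +kernel

set_option maxRecDepth 1000000 in
theorem relc_83_0 : fixPtsF W_83 50000 0 = true := by decide +kernel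

set_option maxRecDepth 1000000 in
theorem relc_107_2 : fixPtsF W_107 50000 100000 = true := by decide +kernel

set_option maxRecDepth 1000000 in
theorem relc_14_7 : fixPtsF W_14 33333 233331 = true := by decide +kernel

set_option maxRecDepth 1000000 in
theorem relc_53_2 : fixPtsF W_53 33333 66666 = true := by decide +kernel

set_option maxRecDepth 1000000 in
theorem relc_79_7 : fixPtsF W_79 33333 233331 = true := by decide +kernel

set_option maxRecDepth 1000000 in
theorem relc_144_3 : fixPtsF W_144 3125 9375 = true := by decide +kernel

set_option maxRecDepth 1000000 in
theorem relc_144_22 : fixPtsF W_144 3125 68750 = true := by decide +kernel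

set_option maxRecDepth 1000000 in
theorem relc_144_54 : fixPtsF W_144 3125 168750 = true := by decide +kernel

set_option maxRecDepth 1000000 in
theorem relc_144_86 : fixPtsF W_144 3125 268750 = true := by decide +kernel

set_option maxRecDepth 1000000 in
theorem relc_145_20 : fixPtsF W_145 840 16800 = true := by decide +kernel

set_option maxRecDepth 1000000 in
theorem relc_145_52 : fixPtsF W_145 840 43680 = true := by decide +kernel

set_option maxRecDepth 1000000 in
theorem relc_145_84 : fixPtsF W_145 840 70560 = true := by decide +kernel

set_option maxRecDepth 1000000 in
theorem relc_145_116 : fixPtsF W_145 840 97440 = true := by decide +kernel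

set_option maxRecDepth 1000000 in
theorem relc_145_148 : fixPtsF W_145 840 124320 = true := by decide +kernel

set_option maxRecDepth 1000000 in
theorem relc_145_180 : fixPtsF W_145 840 151200 = true := by decide +kernel

set_option maxRecDepth 1000000 in
theorem relc_145_212 : fixPtsF W_145 840 178080 = true := by decide +kernel

set_option maxRecDepth 1000000 in
theorem relc_145_244 : fixPtsF W_145 840 204960 = true := by decide +kernel

set_option maxRecDepth 1000000 in
theorem relc_145_276 : fixPtsF W_145 840 231840 = true := by decide +kernel

set_option maxRecDepth 1000000 in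
theorem relc_145_308 : fixPtsF W_145 840 258720 = true := by decide +kernel

set_option maxRecDepth 1000000 in
theorem relc_145_340 : fixPtsF W_145 840 285600 = true := by decide +kernel

set_option maxRecDepth 1000000 in
theorem inv_1_1 : invRowF ctF 306936 1 50000 50000 = true := by decide +kernel

set_option maxRecDepth 1000000 in
theorem inv_6_3 : invRowF ctF 306936 6 50000 150000 = true := by decide +kernel

set_option maxRecDepth 1000000 in
theorem inv_11_5 : invRowF ctF 306936 11 50000 250000 = true := by decide +kernel

set_option maxRecDepth 1000000 in
theorem relc_94_6 : fixPtsF W_94 6936 300000 = true := by decide +kernel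

end Cfsg.Agent.Helper5.Fi24TC
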