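import Cfsg.Agent.Helper5.Fi24TCDatD
import Cfsg.Agent.Helper5.Fi24TCDatT
import Cfsg.Agent.Helper5.TC2C
import Cfsg.Agent.Helper5.TC3A

/-! kernel checks of the coset table: Fi24TC -/

set_option autoImplicit false
set_option Elab.async false

namespace Cfsg.Agent.Helper5.Fi24TC
open Cfsg.Agent.Helper5.TC

set_option maxRecDepth 1000000 in
theorem relc_6_3 : fixPtsF W_6 50000 150000 = true := by decide +kernel

set_option maxRecDepth 1000000 in
theorem relc_11_5 : fixPtsF W_11 50000 250000 = true := by decide +kernel

set_option maxRecDepth 1000000 in
theorem relc_20_1 : fixPtsF W_20 50000 50000 = true := by decide +kernel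

set_option maxRecDepth 1000000 in
theorem relc_29_3 : fixPtsF W_29 50000 150000 = true := by decide +kernel

set_option maxRecDepth 1000000 in
theorem relc_34_5 : fixPtsF W_34 50000 250000 = true := by decide +kernel

set_option maxRecDepth 1000000 in
theorem relc_45_1 : fixPtsF W_45 50000 50000 = true := by decide +kernel

set_option maxRecDepth 1000000 in
theorem relc_56_3 : fixPtsF W_56 50000 150000 = true := by decide +kernel

set_option maxRecDepth 1000000 in
theorem relc_68_5 : fixPtsF W_68 50000 250000 = true := by decide +kernel

set_option maxRecDepth 1000000 in
theorem relc_83_1 : fixPtsF W_83 50000 50000 = true := by decide +kernel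

set_option maxRecDepth 1000000 in
theorem relc_107_3 : fixPtsF W_107 50000 150000 = true := by decide +kernel

set_option maxRecDepth 1000000 in
theorem relc_14_8 : fixPtsF W_14 33333 266664 = true := by decide +kernel

set_option maxRecDepth 1000000 in
theorem relc_53_3 : fixPtsF W_53 33333 99999 = true := by decide +kernel

set_option maxRecDepth 1000000 in
theorem relc_79_8 : fixPtsF W_79 33333 266664 = true := by decide +kernel

set_option maxRecDepth 1000000 in
theorem relc_144_4 : fixPtsF W_144 3125 12500 = true := by decide +kernel

set_option maxRecDepth 1000000 in
theorem relc_144_23 : fixPtsF W_144 3125 71875 = true := by decide +kernel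

set_option maxRecDepth 1000000 in
theorem relc_144_55 : fixPtsF W_144 3125 171875 = true := by decide +kernel

set_option maxRecDepth 1000000 in
theorem relc_144_87 : fixPtsF W_144 3125 271875 = true := by decide +kernel

set_option maxRecDepth 1000000 in
theorem relc_145_21 : fixPtsF W_145 840 17640 = true := by decide +kernel

set_option maxRecDepth 1000000 in
theorem relc_145_53 : fixPtsF W_145 840 44520 = true := by decide +kernel

set_option maxRecDepth 1000000 in
theorem relc_145_85 : fixPtsF W_145 840 71400 = true := by decide +kernel

set_option maxRecDepth 1000000 in
theorem relc_145_117 : fixPtsF W_145 840 98280 = true := by decide +kernel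

set_option maxRecDepth 1000000 in
theorem relc_145_149 : fixPtsF W_145 840 125160 = true := by decide +kernel

set_option maxRecDepth 1000000 in
theorem relc_145_181 : fixPtsF W_145 840 152040 = true := by decide +kernel

set_option maxRecDepth 1000000 in
theorem relc_145_213 : fixPtsF W_145 840 178920 = true := by decide +kernel

set_option maxRecDepth 1000000 in
theorem relc_145_245 : fixPtsF W_145 840 205800 = true := by decide +kernel

set_option maxRecDepth 1000000 in
theorem relc_145_277 : fixPtsF W_145 840 232680 = true := by decide +kernel

set_option maxRecDepth 1000000 in
theorem relc_145_309 : fixPtsF W_145 840 259560 = true := by decide +kernel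

set_option maxRecDepth 1000000 in
theorem relc_145_341 : fixPtsF W_145 840 286440 = true := by decide +kernel

set_option maxRecDepth 1000000 in
theorem inv_1_2 : invRowF ctF 306936 1 50000 100000 = true := by decide +kernel

set_option maxRecDepth 1000000 in
theorem inv_6_4 : invRowF ctF 306936 6 50000 200000 = true := by decide +kernel

set_option maxRecDepth 1000000 in
theorem conn_0 : connF ctF 12 50000 0 = true := by decide +kernel

set_option maxRecDepth 1000000 in
theorem relc_18_6 : fixPtsF W_18 6936 300000 = true := by decide +kernel

set_option maxRecDepth 1000000 in
theorem relc_68_6 : fixPtsF W_68 6936 300000 = true := by decide +kernel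

end Cfsg.Agent.Helper5.Fi24TC
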