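import Cfsg.Agent.Helper5.Fi24TCDatD
import Cfsg.Agent.Helper5.Fi24TCDatT
import Cfsg.Agent.Helper5.TC2C
import Cfsg.Agent.Helper5.TC3A

/-! kernel checks of the coset table: Fi24TC -/

set_option autoImplicit false
set_option Elab.async false

namespace Cfsg.Agent.Helper5.Fi24TC
open Cfsg.Agent.Helper5.TC

set_option maxRecDepth 1000000 in
theorem relc_6_4 : fixPtsF W_6 50000 200000 = true := by decide +kernel

set_option maxRecDepth 1000000 in
theorem relc_15_0 : fixPtsF W_15 50000 0 = true := by decide +kernel

set_option maxRecDepth 1000000 in
theorem relc_20_2 : fixPtsF W_20 50000 100000 = true := by decide +kernel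

set_option maxRecDepth 1000000 in
theorem relc_29_4 : fixPtsF W_29 50000 200000 = true := by decide +kernel

set_option maxRecDepth 1000000 in
theorem relc_35_0 : fixPtsF W_35 50000 0 = true := by decide +kernel

set_option maxRecDepth 1000000 in
theorem relc_45_2 : fixPtsF W_45 50000 100000 = true := by decide +kernel

set_option maxRecDepth 1000000 in
theorem relc_56_4 : fixPtsF W_56 50000 200000 = true := by decide +kernel

set_option maxRecDepth 1000000 in
theorem relc_69_0 : fixPtsF W_69 50000 0 = true := by decide +kernel

set_option maxRecDepth 1000000 in
theorem relc_83_2 : fixPtsF W_83 50000 100000 = true := by decide +kernel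

set_option maxRecDepth 1000000 in
theorem relc_107_4 : fixPtsF W_107 50000 200000 = true := by decide +kernel

set_option maxRecDepth 1000000 in
theorem relc_27_0 : fixPtsF W_27 33333 0 = true := by decide +kernel

set_option maxRecDepth 1000000 in
theorem relc_53_4 : fixPtsF W_53 33333 133332 = true := by decide +kernel

set_option maxRecDepth 1000000 in
theorem relc_92_0 : fixPtsF W_92 33333 0 = true := by decide +kernel

set_option maxRecDepth 1000000 in
theorem relc_144_5 : fixPtsF W_144 3125 15625 = true := by decide +kernel

set_option maxRecDepth 1000000 in
theorem relc_144_24 : fixPtsF W_144 3125 75000 = true := by decide +kernel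

set_option maxRecDepth 1000000 in
theorem relc_144_56 : fixPtsF W_144 3125 175000 = true := by decide +kernel

set_option maxRecDepth 1000000 in
theorem relc_144_88 : fixPtsF W_144 3125 275000 = true := by decide +kernel

set_option maxRecDepth 1000000 in
theorem relc_145_22 : fixPtsF W_145 840 18480 = true := by decide +kernel

set_option maxRecDepth 1000000 in
theorem relc_145_54 : fixPtsF W_145 840 45360 = true := by decide +kernel

set_option maxRecDepth 1000000 in
theorem relc_145_86 : fixPtsF W_145 840 72240 = true := by decide +kernel

set_option maxRecDepth 1000000 in
theorem relc_145_118 : fixPtsF W_145 840 99120 = true := by decide +kernel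

set_option maxRecDepth 1000000 in
theorem relc_145_150 : fixPtsF W_145 840 126000 = true := by decide +kernel

set_option maxRecDepth 1000000 in
theorem relc_145_182 : fixPtsF W_145 840 152880 = true := by decide +kernel

set_option maxRecDepth 1000000 in
theorem relc_145_214 : fixPtsF W_145 840 179760 = true := by decide +kernel

set_option maxRecDepth 1000000 in
theorem relc_145_246 : fixPtsF W_145 840 206640 = true := by decide +kernel

set_option maxRecDepth 1000000 in
theorem relc_145_278 : fixPtsF W_145 840 233520 = true := by decide +kernel

set_option maxRecDepth 1000000 in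
theorem relc_145_310 : fixPtsF W_145 840 260400 = true := by decide +kernel

set_option maxRecDepth 1000000 in
theorem relc_145_342 : fixPtsF W_145 840 287280 = true := by decide +kernel

set_option maxRecDepth 1000000 in
theorem inv_1_3 : invRowF ctF 306936 1 50000 150000 = true := by decide +kernel

set_option maxRecDepth 1000000 in
theorem inv_6_5 : invRowF ctF 306936 6 50000 250000 = true := by decide +kernel

set_option maxRecDepth 1000000 in
theorem conn_1 : connF ctF 12 50000 50000 = true := by decide +kernel

set_option maxRecDepth 1000000 in
theorem relc_19_6 : fixPtsF W_19 6936 300000 = true := by decide +kernel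

set_option maxRecDepth 1000000 in
theorem relc_69_6 : fixPtsF W_69 6936 300000 = true := by decide +kernel

end Cfsg.Agent.Helper5.Fi24TC
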