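import Cfsg.Agent.Helper5.Fi24TCDatD
import Cfsg.Agent.Helper5.Fi24TCDatT
import Cfsg.Agent.Helper5.TC2C
import Cfsg.Agent.Helper5.TC3A

/-! kernel checks of the coset table: Fi24TC -/

set_option autoImplicit false
set_option Elab.async false

namespace Cfsg.Agent.Helper5.Fi24TC
open Cfsg.Agent.Helper5.TC

set_option maxRecDepth 1000000 in
theorem relc_6_5 : fixPtsF W_6 50000 250000 = true := by decide +kernel

set_option maxRecDepth 1000000 in
theorem relc_15_1 : fixPtsF W_15 50000 50000 = true := by decide +kernel

set_option maxRecDepth 1000000 in
theorem relc_20_3 : fixPtsF W_20 50000 150000 = true := by decide +kernel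

set_option maxRecDepth 1000000 in
theorem relc_29_5 : fixPtsF W_29 50000 250000 = true := by decide +kernel

set_option maxRecDepth 1000000 in
theorem relc_35_1 : fixPtsF W_35 50000 50000 = true := by decide +kernel

set_option maxRecDepth 1000000 in
theorem relc_45_3 : fixPtsF W_45 50000 150000 = true := by decide +kernel

set_option maxRecDepth 1000000 in
theorem relc_56_5 : fixPtsF W_56 50000 250000 = true := by decide +kernel

set_option maxRecDepth 1000000 in
theorem relc_69_1 : fixPtsF W_69 50000 50000 = true := by decide +kernel

set_option maxRecDepth 1000000 in
theorem relc_83_3 : fixPtsF W_83 50000 150000 = true := by decide +kernel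

set_option maxRecDepth 1000000 in
theorem relc_107_5 : fixPtsF W_107 50000 250000 = true := by decide +kernel

set_option maxRecDepth 1000000 in
theorem relc_27_1 : fixPtsF W_27 33333 33333 = true := by decide +kernel

set_option maxRecDepth 1000000 in
theorem relc_53_5 : fixPtsF W_53 33333 166665 = true := by decide +kernel

set_option maxRecDepth 1000000 in
theorem relc_92_1 : fixPtsF W_92 33333 33333 = true := by decide +kernel

set_option maxRecDepth 1000000 in
theorem relc_144_6 : fixPtsF W_144 3125 18750 = true := by decide +kernel

set_option maxRecDepth 1000000 in
theorem relc_144_25 : fixPtsF W_144 3125 78125 = true := by decide +kernel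

set_option maxRecDepth 1000000 in
theorem relc_144_57 : fixPtsF W_144 3125 178125 = true := by decide +kernel

set_option maxRecDepth 1000000 in
theorem relc_144_89 : fixPtsF W_144 3125 278125 = true := by decide +kernel

set_option maxRecDepth 1000000 in
theorem relc_145_23 : fixPtsF W_145 840 19320 = true := by decide +kernel

set_option maxRecDepth 1000000 in
theorem relc_145_55 : fixPtsF W_145 840 46200 = true := by decide +kernel

set_option maxRecDepth 1000000 in
theorem relc_145_87 : fixPtsF W_145 840 73080 = true := by decide +kernel

set_option maxRecDepth 1000000 in
theorem relc_145_119 : fixPtsF W_145 840 99960 = true := by decide +kernel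

set_option maxRecDepth 1000000 in
theorem relc_145_151 : fixPtsF W_145 840 126840 = true := by decide +kernel

set_option maxRecDepth 1000000 in
theorem relc_145_183 : fixPtsF W_145 840 153720 = true := by decide +kernel

set_option maxRecDepth 1000000 in
theorem relc_145_215 : fixPtsF W_145 840 180600 = true := by decide +kernel

set_option maxRecDepth 1000000 in
theorem relc_145_247 : fixPtsF W_145 840 207480 = true := by decide +kernel

set_option maxRecDepth 1000000 in
theorem relc_145_279 : fixPtsF W_145 840 234360 = true := by decide +kernel

set_option maxRecDepth 1000000 in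
theorem relc_145_311 : fixPtsF W_145 840 261240 = true := by decide +kernel

set_option maxRecDepth 1000000 in
theorem relc_145_343 : fixPtsF W_145 840 288120 = true := by decide +kernel

set_option maxRecDepth 1000000 in
theorem inv_1_4 : invRowF ctF 306936 1 50000 200000 = true := by decide +kernel

set_option maxRecDepth 1000000 in
theorem inv_7_0 : invRowF ctF 306936 7 50000 0 = true := by decide +kernel

set_option maxRecDepth 1000000 in
theorem conn_2 : connF ctF 12 50000 100000 = true := by decide +kernel

set_option maxRecDepth 1000000 in
theorem relc_20_6 : fixPtsF W_20 6936 300000 = true := by decide +kernel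

set_option maxRecDepth 1000000 in
theorem relc_71_6 : fixPtsF W_71 6936 300000 = true := by decide +kernel

end Cfsg.Agent.Helper5.Fi24TC
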