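import Cfsg.Agent.Helper5.Fi24TCDatD
import Cfsg.Agent.Helper5.Fi24TCDatT
import Cfsg.Agent.Helper5.TC2C
import Cfsg.Agent.Helper5.TC3A

/-! kernel checks of the coset table: Fi24TC -/

set_option autoImplicit false
set_option Elab.async false

namespace Cfsg.Agent.Helper5.Fi24TC
open Cfsg.Agent.Helper5.TC

set_option maxRecDepth 1000000 in
theorem relc_2_3 : fixPtsF W_2 50000 150000 = true := by decide +kernel

set_option maxRecDepth 1000000 in
theorem relc_7_5 : fixPtsF W_7 50000 250000 = true := by decide +kernel

set_option maxRecDepth 1000000 in
theorem relc_16_1 : fixPtsF W_16 50000 50000 = true := by decide +kernel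

set_option maxRecDepth 1000000 in
theorem relc_21_3 : fixPtsF W_21 50000 150000 = true := by decide +kernel

set_option maxRecDepth 1000000 in
theorem relc_30_5 : fixPtsF W_30 50000 250000 = true := by decide +kernel

set_option maxRecDepth 1000000 in
theorem relc_41_1 : fixPtsF W_41 50000 50000 = true := by decide +kernel

set_option maxRecDepth 1000000 in
theorem relc_46_3 : fixPtsF W_46 50000 150000 = true := by decide +kernel

set_option maxRecDepth 1000000 in
theorem relc_57_5 : fixPtsF W_57 50000 250000 = true := by decide +kernel

set_option maxRecDepth 1000000 in
theorem relc_71_1 : fixPtsF W_71 50000 50000 = true := by decide +kernel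

set_option maxRecDepth 1000000 in
theorem relc_93_3 : fixPtsF W_93 50000 150000 = true := by decide +kernel

set_option maxRecDepth 1000000 in
theorem relc_118_5 : fixPtsF W_118 50000 250000 = true := by decide +kernel

set_option maxRecDepth 1000000 in
theorem relc_66_2 : fixPtsF W_66 33333 66666 = true := by decide +kernel

set_option maxRecDepth 1000000 in
theorem relc_92_7 : fixPtsF W_92 33333 233331 = true := by decide +kernel

set_option maxRecDepth 1000000 in
theorem relc_144_12 : fixPtsF W_144 3125 37500 = true := by decide +kernel

set_option maxRecDepth 1000000 in
theorem relc_144_31 : fixPtsF W_144 3125 96875 = true := by decide +kernel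

set_option maxRecDepth 1000000 in
theorem relc_144_63 : fixPtsF W_144 3125 196875 = true := by decide +kernel

set_option maxRecDepth 1000000 in
theorem relc_144_95 : fixPtsF W_144 3125 296875 = true := by decide +kernel

set_option maxRecDepth 1000000 in
theorem relc_145_33 : fixPtsF W_145 840 27720 = true := by decide +kernel

set_option maxRecDepth 1000000 in
theorem relc_145_65 : fixPtsF W_145 840 54600 = true := by decide +kernel

set_option maxRecDepth 1000000 in
theorem relc_145_97 : fixPtsF W_145 840 81480 = true := by decide +kernel

set_option maxRecDepth 1000000 in
theorem relc_145_129 : fixPtsF W_145 840 108360 = true := by decide +kernel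

set_option maxRecDepth 1000000 in
theorem relc_145_161 : fixPtsF W_145 840 135240 = true := by decide +kernel

set_option maxRecDepth 1000000 in
theorem relc_145_193 : fixPtsF W_145 840 162120 = true := by decide +kernel

set_option maxRecDepth 1000000 in
theorem relc_145_225 : fixPtsF W_145 840 189000 = true := by decide +kernel

set_option maxRecDepth 1000000 in
theorem relc_145_257 : fixPtsF W_145 840 215880 = true := by decide +kernel

set_option maxRecDepth 1000000 in
theorem relc_145_289 : fixPtsF W_145 840 242760 = true := by decide +kernel

set_option maxRecDepth 1000000 in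
theorem relc_145_321 : fixPtsF W_145 840 269640 = true := by decide +kernel

set_option maxRecDepth 1000000 in
theorem relc_145_353 : fixPtsF W_145 840 296520 = true := by decide +kernel

set_option maxRecDepth 1000000 in
theorem inv_4_0 : invRowF ctF 306936 4 50000 0 = true := by decide +kernel

set_option maxRecDepth 1000000 in
theorem inv_9_2 : invRowF ctF 306936 9 50000 100000 = true := by decide +kernel

set_option maxRecDepth 1000000 in
theorem relc_105_9 : fixPtsF W_105 6939 299997 = true := by decide +kernel

set_option maxRecDepth 1000000 in
theorem relc_35_6 : fixPtsF W_35 6936 300000 = true := by decide +kernel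

set_option maxRecDepth 1000000 in
theorem inv_2_6 : invRowF ctF 306936 2 6936 300000 = true := by decide +kernel

end Cfsg.Agent.Helper5.Fi24TC
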