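import Cfsg.Agent.Helper5.Fi24TCDatD
import Cfsg.Agent.Helper5.Fi24TCDatT
import Cfsg.Agent.Helper5.TC2C
import Cfsg.Agent.Helper5.TC3A

/-! kernel checks of the coset table: Fi24TC -/

set_option autoImplicit false
set_option Elab.async false

namespace Cfsg.Agent.Helper5.Fi24TC
open Cfsg.Agent.Helper5.TC

set_option maxRecDepth 1000000 in
theorem relc_7_0 : fixPtsF W_7 50000 0 = true := by decide +kernel

set_option maxRecDepth 1000000 in
theorem relc_15_2 : fixPtsF W_15 50000 100000 = true := by decide +kernel

set_option maxRecDepth 1000000 in
theorem relc_20_4 : fixPtsF W_20 50000 200000 = true := by decide +kernel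

set_option maxRecDepth 1000000 in
theorem relc_30_0 : fixPtsF W_30 50000 0 = true := by decide +kernel

set_option maxRecDepth 1000000 in
theorem relc_35_2 : fixPtsF W_35 50000 100000 = true := by decide +kernel

set_option maxRecDepth 1000000 in
theorem relc_45_4 : fixPtsF W_45 50000 200000 = true := by decide +kernel

set_option maxRecDepth 1000000 in
theorem relc_57_0 : fixPtsF W_57 50000 0 = true := by decide +kernel

set_option maxRecDepth 1000000 in
theorem relc_69_2 : fixPtsF W_69 50000 100000 = true := by decide +kernel

set_option maxRecDepth 1000000 in
theorem relc_83_4 : fixPtsF W_83 50000 200000 = true := by decide +kernel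

set_option maxRecDepth 1000000 in
theorem relc_118_0 : fixPtsF W_118 50000 0 = true := by decide +kernel

set_option maxRecDepth 1000000 in
theorem relc_27_2 : fixPtsF W_27 33333 66666 = true := by decide +kernel

set_option maxRecDepth 1000000 in
theorem relc_53_6 : fixPtsF W_53 33333 199998 = true := by decide +kernel

set_option maxRecDepth 1000000 in
theorem relc_92_2 : fixPtsF W_92 33333 66666 = true := by decide +kernel

set_option maxRecDepth 1000000 in
theorem relc_144_7 : fixPtsF W_144 3125 21875 = true := by decide +kernel

set_option maxRecDepth 1000000 in
theorem relc_144_26 : fixPtsF W_144 3125 81250 = true := by decide +kernel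

set_option maxRecDepth 1000000 in
theorem relc_144_58 : fixPtsF W_144 3125 181250 = true := by decide +kernel

set_option maxRecDepth 1000000 in
theorem relc_144_90 : fixPtsF W_144 3125 281250 = true := by decide +kernel

set_option maxRecDepth 1000000 in
theorem relc_145_24 : fixPtsF W_145 840 20160 = true := by decide +kernel

set_option maxRecDepth 1000000 in
theorem relc_145_56 : fixPtsF W_145 840 47040 = true := by decide +kernel

set_option maxRecDepth 1000000 in
theorem relc_145_88 : fixPtsF W_145 840 73920 = true := by decide +kernel

set_option maxRecDepth 1000000 in
theorem relc_145_120 : fixPtsF W_145 840 100800 = true := by decide +kernel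

set_option maxRecDepth 1000000 in
theorem relc_145_152 : fixPtsF W_145 840 127680 = true := by decide +kernel

set_option maxRecDepth 1000000 in
theorem relc_145_184 : fixPtsF W_145 840 154560 = true := by decide +kernel

set_option maxRecDepth 1000000 in
theorem relc_145_216 : fixPtsF W_145 840 181440 = true := by decide +kernel

set_option maxRecDepth 1000000 in
theorem relc_145_248 : fixPtsF W_145 840 208320 = true := by decide +kernel

set_option maxRecDepth 1000000 in
theorem relc_145_280 : fixPtsF W_145 840 235200 = true := by decide +kernel

set_option maxRecDepth 1000000 in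
theorem relc_145_312 : fixPtsF W_145 840 262080 = true := by decide +kernel

set_option maxRecDepth 1000000 in
theorem relc_145_344 : fixPtsF W_145 840 288960 = true := by decide +kernel

set_option maxRecDepth 1000000 in
theorem inv_1_5 : invRowF ctF 306936 1 50000 250000 = true := by decide +kernel

set_option maxRecDepth 1000000 in
theorem inv_7_1 : invRowF ctF 306936 7 50000 50000 = true := by decide +kernel

set_option maxRecDepth 1000000 in
theorem conn_3 : connF ctF 12 50000 150000 = true := by decide +kernel

set_option maxRecDepth 1000000 in
theorem relc_21_6 : fixPtsF W_21 6936 300000 = true := by decide +kernel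

set_option maxRecDepth 1000000 in
theorem relc_80_6 : fixPtsF W_80 6936 300000 = true := by decide +kernel

end Cfsg.Agent.Helper5.Fi24TC
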