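import Cfsg.Agent.Helper5.Fi24TCDatD
import Cfsg.Agent.Helper5.Fi24TCDatT
import Cfsg.Agent.Helper5.TC2C
import Cfsg.Agent.Helper5.TC3A

/-! kernel checks of the coset table: Fi24TC -/

set_option autoImplicit false
set_option Elab.async false

namespace Cfsg.Agent.Helper5.Fi24TC
open Cfsg.Agent.Helper5.TC

set_option maxRecDepth 1000000 in
theorem relc_7_1 : fixPtsF W_7 50000 50000 = true := by decide +kernel

set_option maxRecDepth 1000000 in
theorem relc_15_3 : fixPtsF W_15 50000 150000 = true := by decide +kernel

set_option maxRecDepth 1000000 in
theorem relc_20_5 : fixPtsF W_20 50000 250000 = true := by decide +kernel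

set_option maxRecDepth 1000000 in
theorem relc_30_1 : fixPtsF W_30 50000 50000 = true := by decide +kernel

set_option maxRecDepth 1000000 in
theorem relc_35_3 : fixPtsF W_35 50000 150000 = true := by decide +kernel

set_option maxRecDepth 1000000 in
theorem relc_45_5 : fixPtsF W_45 50000 250000 = true := by decide +kernel

set_option maxRecDepth 1000000 in
theorem relc_57_1 : fixPtsF W_57 50000 50000 = true := by decide +kernel

set_option maxRecDepth 1000000 in
theorem relc_69_3 : fixPtsF W_69 50000 150000 = true := by decide +kernel

set_option maxRecDepth 1000000 in
theorem relc_83_5 : fixPtsF W_83 50000 250000 = true := by decide +kernel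

set_option maxRecDepth 1000000 in
theorem relc_118_1 : fixPtsF W_118 50000 50000 = true := by decide +kernel

set_option maxRecDepth 1000000 in
theorem relc_27_3 : fixPtsF W_27 33333 99999 = true := by decide +kernel

set_option maxRecDepth 1000000 in
theorem relc_53_7 : fixPtsF W_53 33333 233331 = true := by decide +kernel

set_option maxRecDepth 1000000 in
theorem relc_92_3 : fixPtsF W_92 33333 99999 = true := by decide +kernel

set_option maxRecDepth 1000000 in
theorem relc_144_8 : fixPtsF W_144 3125 25000 = true := by decide +kernel

set_option maxRecDepth 1000000 in
theorem relc_144_27 : fixPtsF W_144 3125 84375 = true := by decide +kernel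

set_option maxRecDepth 1000000 in
theorem relc_144_59 : fixPtsF W_144 3125 184375 = true := by decide +kernel

set_option maxRecDepth 1000000 in
theorem relc_144_91 : fixPtsF W_144 3125 284375 = true := by decide +kernel

set_option maxRecDepth 1000000 in
theorem relc_145_25 : fixPtsF W_145 840 21000 = true := by decide +kernel

set_option maxRecDepth 1000000 in
theorem relc_145_57 : fixPtsF W_145 840 47880 = true := by decide +kernel

set_option maxRecDepth 1000000 in
theorem relc_145_89 : fixPtsF W_145 840 74760 = true := by decide +kernel

set_option maxRecDepth 1000000 in
theorem relc_145_121 : fixPtsF W_145 840 101640 = true := by decide +kernel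

set_option maxRecDepth 1000000 in
theorem relc_145_153 : fixPtsF W_145 840 128520 = true := by decide +kernel

set_option maxRecDepth 1000000 in
theorem relc_145_185 : fixPtsF W_145 840 155400 = true := by decide +kernel

set_option maxRecDepth 1000000 in
theorem relc_145_217 : fixPtsF W_145 840 182280 = true := by decide +kernel

set_option maxRecDepth 1000000 in
theorem relc_145_249 : fixPtsF W_145 840 209160 = true := by decide +kernel

set_option maxRecDepth 1000000 in
theorem relc_145_281 : fixPtsF W_145 840 236040 = true := by decide +kernel

set_option maxRecDepth 1000000 in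
theorem relc_145_313 : fixPtsF W_145 840 262920 = true := by decide +kernel

set_option maxRecDepth 1000000 in
theorem relc_145_345 : fixPtsF W_145 840 289800 = true := by decide +kernel

set_option maxRecDepth 1000000 in
theorem inv_2_0 : invRowF ctF 306936 2 50000 0 = true := by decide +kernel

set_option maxRecDepth 1000000 in
theorem inv_7_2 : invRowF ctF 306936 7 50000 100000 = true := by decide +kernel

set_option maxRecDepth 1000000 in
theorem conn_4 : connF ctF 12 50000 200000 = true := by decide +kernel

set_option maxRecDepth 1000000 in
theorem relc_22_6 : fixPtsF W_22 6936 300000 = true := by decide +kernel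

set_option maxRecDepth 1000000 in
theorem relc_81_6 : fixPtsF W_81 6936 300000 = true := by decide +kernel

end Cfsg.Agent.Helper5.Fi24TC
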