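import Cfsg.Agent.Helper5.Fi24TCDatD
import Cfsg.Agent.Helper5.Fi24TCDatT
import Cfsg.Agent.Helper5.TC2C
import Cfsg.Agent.Helper5.TC3A

/-! kernel checks of the coset table: Fi24TC -/

set_option autoImplicit false
set_option Elab.async false

namespace Cfsg.Agent.Helper5.Fi24TC
open Cfsg.Agent.Helper5.TC

set_option maxRecDepth 1000000 in
theorem relc_2_4 : fixPtsF W_2 50000 200000 = true := by decide +kernel

set_option maxRecDepth 1000000 in
theorem relc_8_0 : fixPtsF W_8 50000 0 = true := by decide +kernel

set_option maxRecDepth 1000000 in
theorem relc_16_2 : fixPtsF W_16 50000 100000 = true := by decide +kernel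

set_option maxRecDepth 1000000 in
theorem relc_21_4 : fixPtsF W_21 50000 200000 = true := by decide +kernel

set_option maxRecDepth 1000000 in
theorem relc_31_0 : fixPtsF W_31 50000 0 = true := by decide +kernel

set_option maxRecDepth 1000000 in
theorem relc_41_2 : fixPtsF W_41 50000 100000 = true := by decide +kernel

set_option maxRecDepth 1000000 in
theorem relc_46_4 : fixPtsF W_46 50000 200000 = true := by decide +kernel

set_option maxRecDepth 1000000 in
theorem relc_58_0 : fixPtsF W_58 50000 0 = true := by decide +kernel

set_option maxRecDepth 1000000 in
theorem relc_71_2 : fixPtsF W_71 50000 100000 = true := by decide +kernel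

set_option maxRecDepth 1000000 in
theorem relc_93_4 : fixPtsF W_93 50000 200000 = true := by decide +kernel

set_option maxRecDepth 1000000 in
theorem relc_119_0 : fixPtsF W_119 50000 0 = true := by decide +kernel

set_option maxRecDepth 1000000 in
theorem relc_66_3 : fixPtsF W_66 33333 99999 = true := by decide +kernel

set_option maxRecDepth 1000000 in
theorem relc_92_8 : fixPtsF W_92 33333 266664 = true := by decide +kernel

set_option maxRecDepth 1000000 in
theorem relc_144_13 : fixPtsF W_144 3125 40625 = true := by decide +kernel

set_option maxRecDepth 1000000 in
theorem relc_144_32 : fixPtsF W_144 3125 100000 = true := by decide +kernel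

set_option maxRecDepth 1000000 in
theorem relc_144_64 : fixPtsF W_144 3125 200000 = true := by decide +kernel

set_option maxRecDepth 1000000 in
theorem relc_144_96 : fixPtsF W_144 3125 300000 = true := by decide +kernel

set_option maxRecDepth 1000000 in
theorem relc_145_34 : fixPtsF W_145 840 28560 = true := by decide +kernel

set_option maxRecDepth 1000000 in
theorem relc_145_66 : fixPtsF W_145 840 55440 = true := by decide +kernel

set_option maxRecDepth 1000000 in
theorem relc_145_98 : fixPtsF W_145 840 82320 = true := by decide +kernel

set_option maxRecDepth 1000000 in
theorem relc_145_130 : fixPtsF W_145 840 109200 = true := by decide +kernel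

set_option maxRecDepth 1000000 in
theorem relc_145_162 : fixPtsF W_145 840 136080 = true := by decide +kernel

set_option maxRecDepth 1000000 in
theorem relc_145_194 : fixPtsF W_145 840 162960 = true := by decide +kernel

set_option maxRecDepth 1000000 in
theorem relc_145_226 : fixPtsF W_145 840 189840 = true := by decide +kernel

set_option maxRecDepth 1000000 in
theorem relc_145_258 : fixPtsF W_145 840 216720 = true := by decide +kernel

set_option maxRecDepth 1000000 in
theorem relc_145_290 : fixPtsF W_145 840 243600 = true := by decide +kernel

set_option maxRecDepth 1000000 in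
theorem relc_145_322 : fixPtsF W_145 840 270480 = true := by decide +kernel

set_option maxRecDepth 1000000 in
theorem relc_145_354 : fixPtsF W_145 840 297360 = true := by decide +kernel

set_option maxRecDepth 1000000 in
theorem inv_4_1 : invRowF ctF 306936 4 50000 50000 = true := by decide +kernel

set_option maxRecDepth 1000000 in
theorem inv_9_3 : invRowF ctF 306936 9 50000 150000 = true := by decide +kernel

set_option maxRecDepth 1000000 in
theorem relc_131_9 : fixPtsF W_131 6939 299997 = true := by decide +kernel

set_option maxRecDepth 1000000 in
theorem relc_41_6 : fixPtsF W_41 6936 300000 = true := by decide +kernel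

set_option maxRecDepth 1000000 in
theorem inv_3_6 : invRowF ctF 306936 3 6936 300000 = true := by decide +kernel

end Cfsg.Agent.Helper5.Fi24TC
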