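import Cfsg.Agent.Helper5.Fi24TCDatD
import Cfsg.Agent.Helper5.Fi24TCDatT
import Cfsg.Agent.Helper5.TC2C
import Cfsg.Agent.Helper5.TC3A

/-! kernel checks of the coset table: Fi24TC -/

set_option autoImplicit false
set_option Elab.async false

namespace Cfsg.Agent.Helper5.Fi24TC
open Cfsg.Agent.Helper5.TC

set_option maxRecDepth 1000000 in
theorem relc_2_5 : fixPtsF W_2 50000 250000 = true := by decide +kernel

set_option maxRecDepth 1000000 in
theorem relc_8_1 : fixPtsF W_8 50000 50000 = true := by decide +kernel

set_option maxRecDepth 1000000 in
theorem relc_16_3 : fixPtsF W_16 50000 150000 = true := by decide +kernel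

set_option maxRecDepth 1000000 in
theorem relc_21_5 : fixPtsF W_21 50000 250000 = true := by decide +kernel

set_option maxRecDepth 1000000 in
theorem relc_31_1 : fixPtsF W_31 50000 50000 = true := by decide +kernel

set_option maxRecDepth 1000000 in
theorem relc_41_3 : fixPtsF W_41 50000 150000 = true := by decide +kernel

set_option maxRecDepth 1000000 in
theorem relc_46_5 : fixPtsF W_46 50000 250000 = true := by decide +kernel

set_option maxRecDepth 1000000 in
theorem relc_58_1 : fixPtsF W_58 50000 50000 = true := by decide +kernel

set_option maxRecDepth 1000000 in
theorem relc_71_3 : fixPtsF W_71 50000 150000 = true := by decide +kernel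

set_option maxRecDepth 1000000 in
theorem relc_93_5 : fixPtsF W_93 50000 250000 = true := by decide +kernel

set_option maxRecDepth 1000000 in
theorem relc_119_1 : fixPtsF W_119 50000 50000 = true := by decide +kernel

set_option maxRecDepth 1000000 in
theorem relc_66_4 : fixPtsF W_66 33333 133332 = true := by decide +kernel

set_option maxRecDepth 1000000 in
theorem relc_105_0 : fixPtsF W_105 33333 0 = true := by decide +kernel

set_option maxRecDepth 1000000 in
theorem relc_144_14 : fixPtsF W_144 3125 43750 = true := by decide +kernel

set_option maxRecDepth 1000000 in
theorem relc_144_33 : fixPtsF W_144 3125 103125 = true := by decide +kernel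

set_option maxRecDepth 1000000 in
theorem relc_144_65 : fixPtsF W_144 3125 203125 = true := by decide +kernel

set_option maxRecDepth 1000000 in
theorem relc_144_97 : fixPtsF W_144 3125 303125 = true := by decide +kernel

set_option maxRecDepth 1000000 in
theorem relc_145_35 : fixPtsF W_145 840 29400 = true := by decide +kernel

set_option maxRecDepth 1000000 in
theorem relc_145_67 : fixPtsF W_145 840 56280 = true := by decide +kernel

set_option maxRecDepth 1000000 in
theorem relc_145_99 : fixPtsF W_145 840 83160 = true := by decide +kernel

set_option maxRecDepth 1000000 in
theorem relc_145_131 : fixPtsF W_145 840 110040 = true := by decide +kernel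

set_option maxRecDepth 1000000 in
theorem relc_145_163 : fixPtsF W_145 840 136920 = true := by decide +kernel

set_option maxRecDepth 1000000 in
theorem relc_145_195 : fixPtsF W_145 840 163800 = true := by decide +kernel

set_option maxRecDepth 1000000 in
theorem relc_145_227 : fixPtsF W_145 840 190680 = true := by decide +kernel

set_option maxRecDepth 1000000 in
theorem relc_145_259 : fixPtsF W_145 840 217560 = true := by decide +kernel

set_option maxRecDepth 1000000 in
theorem relc_145_291 : fixPtsF W_145 840 244440 = true := by decide +kernel

set_option maxRecDepth 1000000 in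
theorem relc_145_323 : fixPtsF W_145 840 271320 = true := by decide +kernel

set_option maxRecDepth 1000000 in
theorem relc_145_355 : fixPtsF W_145 840 298200 = true := by decide +kernel

set_option maxRecDepth 1000000 in
theorem inv_4_2 : invRowF ctF 306936 4 50000 100000 = true := by decide +kernel

set_option maxRecDepth 1000000 in
theorem inv_9_4 : invRowF ctF 306936 9 50000 200000 = true := by decide +kernel

set_option maxRecDepth 1000000 in
theorem relc_2_6 : fixPtsF W_2 6936 300000 = true := by decide +kernel

set_option maxRecDepth 1000000 in
theorem relc_17_6 : fixPtsF W_17 6936 300000 = true := by decide +kernel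

set_option maxRecDepth 1000000 in
theorem relc_67_6 : fixPtsF W_67 6936 300000 = true := by decide +kernel

end Cfsg.Agent.Helper5.Fi24TC
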