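import Cfsg.Agent.Helper5.Fi24TCDatD
import Cfsg.Agent.Helper5.Fi24TCDatT
import Cfsg.Agent.Helper5.TC2C
import Cfsg.Agent.Helper5.TC3A

/-! kernel checks of the coset table: Fi24TC -/

set_option autoImplicit false
set_option Elab.async false

namespace Cfsg.Agent.Helper5.Fi24TC
open Cfsg.Agent.Helper5.TC

set_option maxRecDepth 1000000 in
theorem relc_3_0 : fixPtsF W_3 50000 0 = true := by decide +kernel

set_option maxRecDepth 1000000 in
theorem relc_8_2 : fixPtsF W_8 50000 100000 = true := by decide +kernel

set_option maxRecDepth 1000000 in
theorem relc_16_4 : fixPtsF W_16 50000 200000 = true := by decide +kernel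

set_option maxRecDepth 1000000 in
theorem relc_22_0 : fixPtsF W_22 50000 0 = true := by decide +kernel

set_option maxRecDepth 1000000 in
theorem relc_31_2 : fixPtsF W_31 50000 100000 = true := by decide +kernel

set_option maxRecDepth 1000000 in
theorem relc_41_4 : fixPtsF W_41 50000 200000 = true := by decide +kernel

set_option maxRecDepth 1000000 in
theorem relc_47_0 : fixPtsF W_47 50000 0 = true := by decide +kernel

set_option maxRecDepth 1000000 in
theorem relc_58_2 : fixPtsF W_58 50000 100000 = true := by decide +kernel

set_option maxRecDepth 1000000 in
theorem relc_71_4 : fixPtsF W_71 50000 200000 = true := by decide +kernel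

set_option maxRecDepth 1000000 in
theorem relc_94_0 : fixPtsF W_94 50000 0 = true := by decide +kernel

set_option maxRecDepth 1000000 in
theorem relc_119_2 : fixPtsF W_119 50000 100000 = true := by decide +kernel

set_option maxRecDepth 1000000 in
theorem relc_66_5 : fixPtsF W_66 33333 166665 = true := by decide +kernel

set_option maxRecDepth 1000000 in
theorem relc_105_1 : fixPtsF W_105 33333 33333 = true := by decide +kernel

set_option maxRecDepth 1000000 in
theorem relc_144_15 : fixPtsF W_144 3125 46875 = true := by decide +kernel

set_option maxRecDepth 1000000 in
theorem relc_144_34 : fixPtsF W_144 3125 106250 = true := by decide +kernel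

set_option maxRecDepth 1000000 in
theorem relc_144_66 : fixPtsF W_144 3125 206250 = true := by decide +kernel

set_option maxRecDepth 1000000 in
theorem relc_145_0 : fixPtsF W_145 840 0 = true := by decide +kernel

set_option maxRecDepth 1000000 in
theorem relc_145_26 : fixPtsF W_145 840 21840 = true := by decide +kernel

set_option maxRecDepth 1000000 in
theorem relc_145_58 : fixPtsF W_145 840 48720 = true := by decide +kernel

set_option maxRecDepth 1000000 in
theorem relc_145_90 : fixPtsF W_145 840 75600 = true := by decide +kernel

set_option maxRecDepth 1000000 in
theorem relc_145_122 : fixPtsF W_145 840 102480 = true := by decide +kernel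

set_option maxRecDepth 1000000 in
theorem relc_145_154 : fixPtsF W_145 840 129360 = true := by decide +kernel

set_option maxRecDepth 1000000 in
theorem relc_145_186 : fixPtsF W_145 840 156240 = true := by decide +kernel

set_option maxRecDepth 1000000 in
theorem relc_145_218 : fixPtsF W_145 840 183120 = true := by decide +kernel

set_option maxRecDepth 1000000 in
theorem relc_145_250 : fixPtsF W_145 840 210000 = true := by decide +kernel

set_option maxRecDepth 1000000 in
theorem relc_145_282 : fixPtsF W_145 840 236880 = true := by decide +kernel

set_option maxRecDepth 1000000 in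
theorem relc_145_314 : fixPtsF W_145 840 263760 = true := by decide +kernel

set_option maxRecDepth 1000000 in
theorem relc_145_346 : fixPtsF W_145 840 290640 = true := by decide +kernel

set_option maxRecDepth 1000000 in
theorem inv_2_5 : invRowF ctF 306936 2 50000 250000 = true := by decide +kernel

set_option maxRecDepth 1000000 in
theorem inv_8_1 : invRowF ctF 306936 8 50000 50000 = true := by decide +kernel

set_option maxRecDepth 1000000 in
theorem relc_27_9 : fixPtsF W_27 6939 299997 = true := by decide +kernel

set_option maxRecDepth 1000000 in
theorem relc_23_6 : fixPtsF W_23 6936 300000 = true := by decide +kernel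

set_option maxRecDepth 1000000 in
theorem relc_95_6 : fixPtsF W_95 6936 300000 = true := by decide +kernel

end Cfsg.Agent.Helper5.Fi24TC
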