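import Cfsg.Agent.Helper5.Fi24TCDatD
import Cfsg.Agent.Helper5.Fi24TCDatT
import Cfsg.Agent.Helper5.TC2C
import Cfsg.Agent.Helper5.TC3A

/-! kernel checks of the coset table: Fi24TC -/

set_option autoImplicit false
set_option Elab.async false

namespace Cfsg.Agent.Helper5.Fi24TC
open Cfsg.Agent.Helper5.TC

set_option maxRecDepth 1000000 in
theorem relc_3_1 : fixPtsF W_3 50000 50000 = true := by decide +kernel

set_option maxRecDepth 1000000 in
theorem relc_8_3 : fixPtsF W_8 50000 150000 = true := by decide +kernel

set_option maxRecDepth 1000000 in
theorem relc_16_5 : fixPtsF W_16 50000 250000 = true := by decide +kernel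

set_option maxRecDepth 1000000 in
theorem relc_22_1 : fixPtsF W_22 50000 50000 = true := by decide +kernel

set_option maxRecDepth 1000000 in
theorem relc_31_3 : fixPtsF W_31 50000 150000 = true := by decide +kernel

set_option maxRecDepth 1000000 in
theorem relc_41_5 : fixPtsF W_41 50000 250000 = true := by decide +kernel

set_option maxRecDepth 1000000 in
theorem relc_47_1 : fixPtsF W_47 50000 50000 = true := by decide +kernel

set_option maxRecDepth 1000000 in
theorem relc_58_3 : fixPtsF W_58 50000 150000 = true := by decide +kernel

set_option maxRecDepth 1000000 in
theorem relc_71_5 : fixPtsF W_71 50000 250000 = true := by decide +kernel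

set_option maxRecDepth 1000000 in
theorem relc_94_1 : fixPtsF W_94 50000 50000 = true := by decide +kernel

set_option maxRecDepth 1000000 in
theorem relc_119_3 : fixPtsF W_119 50000 150000 = true := by decide +kernel

set_option maxRecDepth 1000000 in
theorem relc_66_6 : fixPtsF W_66 33333 199998 = true := by decide +kernel

set_option maxRecDepth 1000000 in
theorem relc_105_2 : fixPtsF W_105 33333 66666 = true := by decide +kernel

set_option maxRecDepth 1000000 in
theorem relc_144_16 : fixPtsF W_144 3125 50000 = true := by decide +kernel

set_option maxRecDepth 1000000 in
theorem relc_144_35 : fixPtsF W_144 3125 109375 = true := by decide +kernel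

set_option maxRecDepth 1000000 in
theorem relc_144_67 : fixPtsF W_144 3125 209375 = true := by decide +kernel

set_option maxRecDepth 1000000 in
theorem relc_145_1 : fixPtsF W_145 840 840 = true := by decide +kernel

set_option maxRecDepth 1000000 in
theorem relc_145_27 : fixPtsF W_145 840 22680 = true := by decide +kernel

set_option maxRecDepth 1000000 in
theorem relc_145_59 : fixPtsF W_145 840 49560 = true := by decide +kernel

set_option maxRecDepth 1000000 in
theorem relc_145_91 : fixPtsF W_145 840 76440 = true := by decide +kernel

set_option maxRecDepth 1000000 in
theorem relc_145_123 : fixPtsF W_145 840 103320 = true := by decide +kernel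

set_option maxRecDepth 1000000 in
theorem relc_145_155 : fixPtsF W_145 840 130200 = true := by decide +kernel

set_option maxRecDepth 1000000 in
theorem relc_145_187 : fixPtsF W_145 840 157080 = true := by decide +kernel

set_option maxRecDepth 1000000 in
theorem relc_145_219 : fixPtsF W_145 840 183960 = true := by decide +kernel

set_option maxRecDepth 1000000 in
theorem relc_145_251 : fixPtsF W_145 840 210840 = true := by decide +kernel

set_option maxRecDepth 1000000 in
theorem relc_145_283 : fixPtsF W_145 840 237720 = true := by decide +kernel

set_option maxRecDepth 1000000 in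
theorem relc_145_315 : fixPtsF W_145 840 264600 = true := by decide +kernel

set_option maxRecDepth 1000000 in
theorem relc_145_347 : fixPtsF W_145 840 291480 = true := by decide +kernel

set_option maxRecDepth 1000000 in
theorem inv_3_0 : invRowF ctF 306936 3 50000 0 = true := by decide +kernel

set_option maxRecDepth 1000000 in
theorem inv_8_2 : invRowF ctF 306936 8 50000 100000 = true := by decide +kernel

set_option maxRecDepth 1000000 in
theorem relc_40_9 : fixPtsF W_40 6939 299997 = true := by decide +kernel

set_option maxRecDepth 1000000 in
theorem relc_28_6 : fixPtsF W_28 6936 300000 = true := by decide +kernel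

set_option maxRecDepth 1000000 in
theorem relc_106_6 : fixPtsF W_106 6936 300000 = true := by decide +kernel

end Cfsg.Agent.Helper5.Fi24TC
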