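import Cfsg.Agent.Helper5.Fi24TCDatD
import Cfsg.Agent.Helper5.Fi24TCDatT
import Cfsg.Agent.Helper5.TC2C
import Cfsg.Agent.Helper5.TC3A

/-! kernel checks of the coset table: Fi24TC -/

set_option autoImplicit false
set_option Elab.async false

namespace Cfsg.Agent.Helper5.Fi24TC
open Cfsg.Agent.Helper5.TC

set_option maxRecDepth 1000000 in
theorem relc_3_2 : fixPtsF W_3 50000 100000 = true := by decide +kernel

set_option maxRecDepth 1000000 in
theorem relc_8_4 : fixPtsF W_8 50000 200000 = true := by decide +kernel

set_option maxRecDepth 1000000 in
theorem relc_17_0 : fixPtsF W_17 50000 0 = true := by decide +kernel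

set_option maxRecDepth 1000000 in
theorem relc_22_2 : fixPtsF W_22 50000 100000 = true := by decide +kernel

set_option maxRecDepth 1000000 in
theorem relc_31_4 : fixPtsF W_31 50000 200000 = true := by decide +kernel

set_option maxRecDepth 1000000 in
theorem relc_42_0 : fixPtsF W_42 50000 0 = true := by decide +kernel

set_option maxRecDepth 1000000 in
theorem relc_47_2 : fixPtsF W_47 50000 100000 = true := by decide +kernel

set_option maxRecDepth 1000000 in
theorem relc_58_4 : fixPtsF W_58 50000 200000 = true := by decide +kernel

set_option maxRecDepth 1000000 in
theorem relc_80_0 : fixPtsF W_80 50000 0 = true := by decide +kernel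

set_option maxRecDepth 1000000 in
theorem relc_94_2 : fixPtsF W_94 50000 100000 = true := by decide +kernel

set_option maxRecDepth 1000000 in
theorem relc_119_4 : fixPtsF W_119 50000 200000 = true := by decide +kernel

set_option maxRecDepth 1000000 in
theorem relc_66_7 : fixPtsF W_66 33333 233331 = true := by decide +kernel

set_option maxRecDepth 1000000 in
theorem relc_105_3 : fixPtsF W_105 33333 99999 = true := by decide +kernel

set_option maxRecDepth 1000000 in
theorem relc_144_17 : fixPtsF W_144 3125 53125 = true := by decide +kernel

set_option maxRecDepth 1000000 in
theorem relc_144_36 : fixPtsF W_144 3125 112500 = true := by decide +kernel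

set_option maxRecDepth 1000000 in
theorem relc_144_68 : fixPtsF W_144 3125 212500 = true := by decide +kernel

set_option maxRecDepth 1000000 in
theorem relc_145_2 : fixPtsF W_145 840 1680 = true := by decide +kernel

set_option maxRecDepth 1000000 in
theorem relc_145_28 : fixPtsF W_145 840 23520 = true := by decide +kernel

set_option maxRecDepth 1000000 in
theorem relc_145_60 : fixPtsF W_145 840 50400 = true := by decide +kernel

set_option maxRecDepth 1000000 in
theorem relc_145_92 : fixPtsF W_145 840 77280 = true := by decide +kernel

set_option maxRecDepth 1000000 in
theorem relc_145_124 : fixPtsF W_145 840 104160 = true := by decide +kernel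

set_option maxRecDepth 1000000 in
theorem relc_145_156 : fixPtsF W_145 840 131040 = true := by decide +kernel

set_option maxRecDepth 1000000 in
theorem relc_145_188 : fixPtsF W_145 840 157920 = true := by decide +kernel

set_option maxRecDepth 1000000 in
theorem relc_145_220 : fixPtsF W_145 840 184800 = true := by decide +kernel

set_option maxRecDepth 1000000 in
theorem relc_145_252 : fixPtsF W_145 840 211680 = true := by decide +kernel

set_option maxRecDepth 1000000 in
theorem relc_145_284 : fixPtsF W_145 840 238560 = true := by decide +kernel

set_option maxRecDepth 1000000 in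
theorem relc_145_316 : fixPtsF W_145 840 265440 = true := by decide +kernel

set_option maxRecDepth 1000000 in
theorem relc_145_348 : fixPtsF W_145 840 292320 = true := by decide +kernel

set_option maxRecDepth 1000000 in
theorem inv_3_1 : invRowF ctF 306936 3 50000 50000 = true := by decide +kernel

set_option maxRecDepth 1000000 in
theorem inv_8_3 : invRowF ctF 306936 8 50000 150000 = true := by decide +kernel

set_option maxRecDepth 1000000 in
theorem relc_53_9 : fixPtsF W_53 6939 299997 = true := by decide +kernel

set_option maxRecDepth 1000000 in
theorem relc_29_6 : fixPtsF W_29 6936 300000 = true := by decide +kernel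

set_option maxRecDepth 1000000 in
theorem relc_107_6 : fixPtsF W_107 6936 300000 = true := by decide +kernel

end Cfsg.Agent.Helper5.Fi24TC
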