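import Cfsg.Agent.Helper5.Fi24TCDatD
import Cfsg.Agent.Helper5.Fi24TCDatT
import Cfsg.Agent.Helper5.TC2C
import Cfsg.Agent.Helper5.TC3A

/-! kernel checks of the coset table: Fi24TC -/

set_option autoImplicit false
set_option Elab.async false

namespace Cfsg.Agent.Helper5.Fi24TC
open Cfsg.Agent.Helper5.TC

set_option maxRecDepth 1000000 in
theorem relc_3_3 : fixPtsF W_3 50000 150000 = true := by decide +kernel

set_option maxRecDepth 1000000 in
theorem relc_8_5 : fixPtsF W_8 50000 250000 = true := by decide +kernel

set_option maxRecDepth 1000000 in
theorem relc_17_1 : fixPtsF W_17 50000 50000 = true := by decide +kernel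

set_option maxRecDepth 1000000 in
theorem relc_22_3 : fixPtsF W_22 50000 150000 = true := by decide +kernel

set_option maxRecDepth 1000000 in
theorem relc_31_5 : fixPtsF W_31 50000 250000 = true := by decide +kernel

set_option maxRecDepth 1000000 in
theorem relc_42_1 : fixPtsF W_42 50000 50000 = true := by decide +kernel

set_option maxRecDepth 1000000 in
theorem relc_47_3 : fixPtsF W_47 50000 150000 = true := by decide +kernel

set_option maxRecDepth 1000000 in
theorem relc_58_5 : fixPtsF W_58 50000 250000 = true := by decide +kernel

set_option maxRecDepth 1000000 in
theorem relc_80_1 : fixPtsF W_80 50000 50000 = true := by decide +kernel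

set_option maxRecDepth 1000000 in
theorem relc_94_3 : fixPtsF W_94 50000 150000 = true := by decide +kernel

set_option maxRecDepth 1000000 in
theorem relc_119_5 : fixPtsF W_119 50000 250000 = true := by decide +kernel

set_option maxRecDepth 1000000 in
theorem relc_66_8 : fixPtsF W_66 33333 266664 = true := by decide +kernel

set_option maxRecDepth 1000000 in
theorem relc_105_4 : fixPtsF W_105 33333 133332 = true := by decide +kernel

set_option maxRecDepth 1000000 in
theorem relc_144_18 : fixPtsF W_144 3125 56250 = true := by decide +kernel

set_option maxRecDepth 1000000 in
theorem relc_144_37 : fixPtsF W_144 3125 115625 = true := by decide +kernel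

set_option maxRecDepth 1000000 in
theorem relc_144_69 : fixPtsF W_144 3125 215625 = true := by decide +kernel

set_option maxRecDepth 1000000 in
theorem relc_145_3 : fixPtsF W_145 840 2520 = true := by decide +kernel

set_option maxRecDepth 1000000 in
theorem relc_145_29 : fixPtsF W_145 840 24360 = true := by decide +kernel

set_option maxRecDepth 1000000 in
theorem relc_145_61 : fixPtsF W_145 840 51240 = true := by decide +kernel

set_option maxRecDepth 1000000 in
theorem relc_145_93 : fixPtsF W_145 840 78120 = true := by decide +kernel

set_option maxRecDepth 1000000 in
theorem relc_145_125 : fixPtsF W_145 840 105000 = true := by decide +kernel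

set_option maxRecDepth 1000000 in
theorem relc_145_157 : fixPtsF W_145 840 131880 = true := by decide +kernel

set_option maxRecDepth 1000000 in
theorem relc_145_189 : fixPtsF W_145 840 158760 = true := by decide +kernel

set_option maxRecDepth 1000000 in
theorem relc_145_221 : fixPtsF W_145 840 185640 = true := by decide +kernel

set_option maxRecDepth 1000000 in
theorem relc_145_253 : fixPtsF W_145 840 212520 = true := by decide +kernel

set_option maxRecDepth 1000000 in
theorem relc_145_285 : fixPtsF W_145 840 239400 = true := by decide +kernel

set_option maxRecDepth 1000000 in
theorem relc_145_317 : fixPtsF W_145 840 266280 = true := by decide +kernel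

set_option maxRecDepth 1000000 in
theorem relc_145_349 : fixPtsF W_145 840 293160 = true := by decide +kernel

set_option maxRecDepth 1000000 in
theorem inv_3_2 : invRowF ctF 306936 3 50000 100000 = true := by decide +kernel

set_option maxRecDepth 1000000 in
theorem inv_8_4 : invRowF ctF 306936 8 50000 200000 = true := by decide +kernel

set_option maxRecDepth 1000000 in
theorem relc_66_9 : fixPtsF W_66 6939 299997 = true := by decide +kernel

set_option maxRecDepth 1000000 in
theorem relc_30_6 : fixPtsF W_30 6936 300000 = true := by decide +kernel

set_option maxRecDepth 1000000 in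
theorem relc_118_6 : fixPtsF W_118 6936 300000 = true := by decide +kernel

end Cfsg.Agent.Helper5.Fi24TC
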