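import Cfsg.Agent.Helper5.Fi24TCChkE0
import Cfsg.Agent.Helper5.Fi24TCChkE1
import Cfsg.Agent.Helper5.Fi24TCChkE2
import Cfsg.Agent.Helper5.Fi24TCChkE3
import Cfsg.Agent.Helper5.Fi24TCChkE4
import Cfsg.Agent.Helper5.Fi24TCChkE5
import Cfsg.Agent.Helper5.Fi24TCChkE6
import Cfsg.Agent.Helper5.Fi24TCChkE7
import Cfsg.Agent.Helper5.Fi24TCChkE8
import Cfsg.Agent.Helper5.Fi24TCChkE9
import Cfsg.Agent.Helper5.Fi24TCChkE10
import Cfsg.Agent.Helper5.Fi24TCChkE11
import Cfsg.Agent.Helper5.Fi24TCChkE12
import Cfsg.Agent.Helper5.Fi24TCChkE13
import Cfsg.Agent.Helper5.Fi24TCChkE14
import Cfsg.Agent.Helper5.Fi24TCChkE15
import Cfsg.Agent.Helper5.Fi24TCChkR0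
import Cfsg.Agent.Helper5.Fi24TCChkR1
import Cfsg.Agent.Helper5.Fi24TCChkR2
import Cfsg.Agent.Helper5.Fi24TCChkR3
import Cfsg.Agent.Helper5.Fi24TCChkR4
import Cfsg.Agent.Helper5.Fi24TCChkR5
import Cfsg.Agent.Helper5.Fi24TCChkR6
import Cfsg.Agent.Helper5.Fi24TCChkR7
import Cfsg.Agent.Helper5.Fi24TCChkR8
import Cfsg.Agent.Helper5.Fi24TCChkR9
import Cfsg.Agent.Helper5.Fi24TCChkR10
import Cfsg.Agent.Helper5.Fi24TCChkR11
import Cfsg.Agent.Helper5.Fi24TCChkR12
import Cfsg.Agent.Helper5.Fi24TCChkR13
import Cfsg.Agent.Helper5.Fi24TCChkR14
import Cfsg.Agent.Helper5.Fi24TCChkR15
import Cfsg.Agent.Helper5.Fi24TCChkR16
import Cfsg.Agent.Helper5.Fi24TCChkR17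
import Cfsg.Agent.Helper5.Fi24TCChkR18
import Cfsg.Agent.Helper5.Fi24TCChkR19
import Cfsg.Agent.Helper5.Fi24TCChkR20
import Cfsg.Agent.Helper5.Fi24TCChkR21
import Cfsg.Agent.Helper5.Fi24TCChkR22
import Cfsg.Agent.Helper5.Fi24TCChkR23
import Cfsg.Agent.Helper5.Fi24TCChkR24
import Cfsg.Agent.Helper5.Fi24TCChkR25
import Cfsg.Agent.Helper5.Fi24TCChkR26
import Cfsg.Agent.Helper5.Fi24TCChkR27
import Cfsg.Agent.Helper5.Fi24TCChkR28
import Cfsg.Agent.Helper5.Fi24TCChkR29
import Cfsg.Agent.Helper5.Fi24TCChkR30
import Cfsg.Agent.Helper5.Fi24TCChkR31
import Cfsg.Agent.Helper5.Fi24TCChkA
import Cfsg.Agent.Helper5.TC2C
import Cfsg.Agent.Helper5.TC3A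

/-! summary of the kernel checks: Fi24TC -/

set_option autoImplicit false
set_option Elab.async false

namespace Cfsg.Agent.Helper5.Fi24TC
open Cfsg.Agent.Helper5.TC

theorem edgesx_0 : ∀ v, v < 357049 → edgeOK E 0 v = true := by
  intro v hv
  rcases Nat.lt_or_ge v 193805 with h | h
  · rcases Nat.lt_or_ge v 102782 with h | h
    · rcases Nat.lt_or_ge v 45858 with h | h
      · rcases Nat.lt_or_ge v 21233 with h | h
        · rcases Nat.lt_or_ge v 9769 with h | h
          · rcases Nat.lt_or_ge v 3614 with h | h
            · rcases Nat.lt_or_ge v 1688 with h | h
              · exact edgesRange_spec E 0 1688 0 edges_0_0 v (by omega) (by omega)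
              · exact edgesRange_spec E 0 1926 1688 edges_0_1 v (by omega) (by omega)
            · rcases Nat.lt_or_ge v 5536 with h | h
              · exact edgesRange_spec E 0 1922 3614 edges_0_2 v (by omega) (by omega)
              · rcases Nat.lt_or_ge v 7609 with h | h
                · exact edgesRange_spec E 0 2073 5536 edges_0_3 v (by omega) (by omega)
                · exact edgesRange_spec E 0 2160 7609 edges_0_4 v (by omega) (by omega)
          · rcases Nat.lt_or_ge v 15145 with h | h
            · rcases Nat.lt_or_ge v 11422 with h | h
              · exact edgesRange_spec E 0 1653 9769 edges_0_5 v (by omega) (by omega)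
              · rcases Nat.lt_or_ge v 13489 with h | h
                · exact edgesRange_spec E 0 2067 11422 edges_0_6 v (by omega) (by omega)
                · exact edgesRange_spec E 0 1656 13489 edges_0_7 v (by omega) (by omega)
            · rcases Nat.lt_or_ge v 17370 with h | h
              · exact edgesRange_spec E 0 2225 15145 edges_0_8 v (by omega) (by omega)
              · rcases Nat.lt_or_ge v 18919 with h | h
                · exact edgesRange_spec E 0 1549 17370 edges_0_9 v (by omega) (by omega)
                · exact edgesRange_spec E 0 2314 18919 edges_0_10 v (by omega) (by omega)
        · rcases Nat.lt_or_ge v 33109 with h | h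
          · rcases Nat.lt_or_ge v 27181 with h | h
            · rcases Nat.lt_or_ge v 23340 with h | h
              · exact edgesRange_spec E 0 2107 21233 edges_0_11 v (by omega) (by omega)
              · rcases Nat.lt_or_ge v 24864 with h | h
                · exact edgesRange_spec E 0 1524 23340 edges_0_12 v (by omega) (by omega)
                · exact edgesRange_spec E 0 2317 24864 edges_0_13 v (by omega) (by omega)
            · rcases Nat.lt_or_ge v 29626 with h | h
              · exact edgesRange_spec E 0 2445 27181 edges_0_14 v (by omega) (by omega)
              · rcases Nat.lt_or_ge v 31495 with h | h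
                · exact edgesRange_spec E 0 1869 29626 edges_0_15 v (by omega) (by omega)
                · exact edgesRange_spec E 0 1614 31495 edges_0_16 v (by omega) (by omega)
          · rcases Nat.lt_or_ge v 40412 with h | h
            · rcases Nat.lt_or_ge v 35273 with h | h
              · exact edgesRange_spec E 0 2164 33109 edges_0_17 v (by omega) (by omega)
              · rcases Nat.lt_or_ge v 37914 with h | h
                · exact edgesRange_spec E 0 2641 35273 edges_0_18 v (by omega) (by omega)
                · exact edgesRange_spec E 0 2498 37914 edges_0_19 v (by omega) (by omega)
            · rcases Nat.lt_or_ge v 42312 with h | h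
              · exact edgesRange_spec E 0 1900 40412 edges_0_20 v (by omega) (by omega)
              · rcases Nat.lt_or_ge v 44019 with h | h
                · exact edgesRange_spec E 0 1707 42312 edges_0_21 v (by omega) (by omega)
                · exact edgesRange_spec E 0 1839 44019 edges_0_22 v (by omega) (by omega)
      · rcases Nat.lt_or_ge v 75401 with h | h
        · rcases Nat.lt_or_ge v 59752 with h | h
          · rcases Nat.lt_or_ge v 53790 with h | h
            · rcases Nat.lt_or_ge v 48453 with h | h
              · exact edgesRange_spec E 0 2595 45858 edges_0_23 v (by omega) (by omega)
              · rcases Nat.lt_or_ge v 51183 with h | h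
                · exact edgesRange_spec E 0 2730 48453 edges_0_24 v (by omega) (by omega)
                · exact edgesRange_spec E 0 2607 51183 edges_0_25 v (by omega) (by omega)
            · rcases Nat.lt_or_ge v 56294 with h | h
              · exact edgesRange_spec E 0 2504 53790 edges_0_26 v (by omega) (by omega)
              · rcases Nat.lt_or_ge v 57814 with h | h
                · exact edgesRange_spec E 0 1520 56294 edges_0_27 v (by omega) (by omega)
                · exact edgesRange_spec E 0 1938 57814 edges_0_28 v (by omega) (by omega)
          · rcases Nat.lt_or_ge v 67270 with h | h
            · rcases Nat.lt_or_ge v 61706 with h | h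
              · exact edgesRange_spec E 0 1954 59752 edges_0_29 v (by omega) (by omega)
              · rcases Nat.lt_or_ge v 64247 with h | h
                · exact edgesRange_spec E 0 2541 61706 edges_0_30 v (by omega) (by omega)
                · exact edgesRange_spec E 0 3023 64247 edges_0_31 v (by omega) (by omega)
            · rcases Nat.lt_or_ge v 70480 with h | h
              · exact edgesRange_spec E 0 3210 67270 edges_0_32 v (by omega) (by omega)
              · rcases Nat.lt_or_ge v 72679 with h | h
                · exact edgesRange_spec E 0 2199 70480 edges_0_33 v (by omega) (by omega)
                · exact edgesRange_spec E 0 2722 72679 edges_0_34 v (by omega) (by omega)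
        · rcases Nat.lt_or_ge v 88544 with h | h
          · rcases Nat.lt_or_ge v 80721 with h | h
            · rcases Nat.lt_or_ge v 76964 with h | h
              · exact edgesRange_spec E 0 1563 75401 edges_0_35 v (by omega) (by omega)
              · rcases Nat.lt_or_ge v 78805 with h | h
                · exact edgesRange_spec E 0 1841 76964 edges_0_36 v (by omega) (by omega)
                · exact edgesRange_spec E 0 1916 78805 edges_0_37 v (by omega) (by omega)
            · rcases Nat.lt_or_ge v 82958 with h | h
              · exact edgesRange_spec E 0 2237 80721 edges_0_38 v (by omega) (by omega)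
              · rcases Nat.lt_or_ge v 85634 with h | h
                · exact edgesRange_spec E 0 2676 82958 edges_0_39 v (by omega) (by omega)
                · exact edgesRange_spec E 0 2910 85634 edges_0_40 v (by omega) (by omega)
          · rcases Nat.lt_or_ge v 97502 with h | h
            · rcases Nat.lt_or_ge v 91604 with h | h
              · exact edgesRange_spec E 0 3060 88544 edges_0_41 v (by omega) (by omega)
              · rcases Nat.lt_or_ge v 94701 with h | h
                · exact edgesRange_spec E 0 3097 91604 edges_0_42 v (by omega) (by omega)
                · exact edgesRange_spec E 0 2801 94701 edges_0_43 v (by omega) (by omega)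
            · rcases Nat.lt_or_ge v 99572 with h | h
              · exact edgesRange_spec E 0 2070 97502 edges_0_44 v (by omega) (by omega)
              · rcases Nat.lt_or_ge v 101150 with h | h
                · exact edgesRange_spec E 0 1578 99572 edges_0_45 v (by omega) (by omega)
                · exact edgesRange_spec E 0 1632 101150 edges_0_46 v (by omega) (by omega)
    · rcases Nat.lt_or_ge v 151221 with h | h
      · rcases Nat.lt_or_ge v 129703 with h | h
        · rcases Nat.lt_or_ge v 118305 with h | h
          · rcases Nat.lt_or_ge v 109372 with h | h
            · rcases Nat.lt_or_ge v 104840 with h | h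
              · exact edgesRange_spec E 0 2058 102782 edges_0_47 v (by omega) (by omega)
              · rcases Nat.lt_or_ge v 106826 with h | h
                · exact edgesRange_spec E 0 1986 104840 edges_0_48 v (by omega) (by omega)
                · exact edgesRange_spec E 0 2546 106826 edges_0_49 v (by omega) (by omega)
            · rcases Nat.lt_or_ge v 111968 with h | h
              · exact edgesRange_spec E 0 2596 109372 edges_0_50 v (by omega) (by omega)
              · rcases Nat.lt_or_ge v 114992 with h | h
                · exact edgesRange_spec E 0 3024 111968 edges_0_51 v (by omega) (by omega)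
                · exact edgesRange_spec E 0 3313 114992 edges_0_52 v (by omega) (by omega)
          · rcases Nat.lt_or_ge v 125547 with h | h
            · rcases Nat.lt_or_ge v 121091 with h | h
              · exact edgesRange_spec E 0 2786 118305 edges_0_53 v (by omega) (by omega)
              · rcases Nat.lt_or_ge v 123806 with h | h
                · exact edgesRange_spec E 0 2715 121091 edges_0_54 v (by omega) (by omega)
                · exact edgesRange_spec E 0 1741 123806 edges_0_55 v (by omega) (by omega)
            · rcases Nat.lt_or_ge v 126921 with h | h
              · exact edgesRange_spec E 0 1374 125547 edges_0_56 v (by omega) (by omega)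
              · rcases Nat.lt_or_ge v 128325 with h | h
                · exact edgesRange_spec E 0 1404 126921 edges_0_57 v (by omega) (by omega)
                · exact edgesRange_spec E 0 1378 128325 edges_0_58 v (by omega) (by omega)
        · rcases Nat.lt_or_ge v 141430 with h | h
          · rcases Nat.lt_or_ge v 136247 with h | h
            · rcases Nat.lt_or_ge v 131469 with h | h
              · exact edgesRange_spec E 0 1766 129703 edges_0_59 v (by omega) (by omega)
              · rcases Nat.lt_or_ge v 133893 with h | h
                · exact edgesRange_spec E 0 2424 131469 edges_0_60 v (by omega) (by omega)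
                · exact edgesRange_spec E 0 2354 133893 edges_0_61 v (by omega) (by omega)
            · rcases Nat.lt_or_ge v 138596 with h | h
              · exact edgesRange_spec E 0 2349 136247 edges_0_62 v (by omega) (by omega)
              · rcases Nat.lt_or_ge v 140018 with h | h
                · exact edgesRange_spec E 0 1422 138596 edges_0_63 v (by omega) (by omega)
                · exact edgesRange_spec E 0 1412 140018 edges_0_64 v (by omega) (by omega)
          · rcases Nat.lt_or_ge v 145608 with h | h
            · rcases Nat.lt_or_ge v 142826 with h | h
              · exact edgesRange_spec E 0 1396 141430 edges_0_65 v (by omega) (by omega)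
              · rcases Nat.lt_or_ge v 144188 with h | h
                · exact edgesRange_spec E 0 1362 142826 edges_0_66 v (by omega) (by omega)
                · exact edgesRange_spec E 0 1420 144188 edges_0_67 v (by omega) (by omega)
            · rcases Nat.lt_or_ge v 146987 with h | h
              · exact edgesRange_spec E 0 1379 145608 edges_0_68 v (by omega) (by omega)
              · rcases Nat.lt_or_ge v 148822 with h | h
                · exact edgesRange_spec E 0 1835 146987 edges_0_69 v (by omega) (by omega)
                · exact edgesRange_spec E 0 2399 148822 edges_0_70 v (by omega) (by omega)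
      · rcases Nat.lt_or_ge v 172671 with h | h
        · rcases Nat.lt_or_ge v 161894 with h | h
          · rcases Nat.lt_or_ge v 157699 with h | h
            · rcases Nat.lt_or_ge v 153535 with h | h
              · exact edgesRange_spec E 0 2314 151221 edges_0_71 v (by omega) (by omega)
              · rcases Nat.lt_or_ge v 155960 with h | h
                · exact edgesRange_spec E 0 2425 153535 edges_0_72 v (by omega) (by omega)
                · exact edgesRange_spec E 0 1739 155960 edges_0_73 v (by omega) (by omega)
            · rcases Nat.lt_or_ge v 159075 with h | h
              · exact edgesRange_spec E 0 1376 157699 edges_0_74 v (by omega) (by omega)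
              · rcases Nat.lt_or_ge v 160497 with h | h
                · exact edgesRange_spec E 0 1422 159075 edges_0_75 v (by omega) (by omega)
                · exact edgesRange_spec E 0 1397 160497 edges_0_76 v (by omega) (by omega)
          · rcases Nat.lt_or_ge v 166058 with h | h
            · rcases Nat.lt_or_ge v 163250 with h | h
              · exact edgesRange_spec E 0 1356 161894 edges_0_77 v (by omega) (by omega)
              · rcases Nat.lt_or_ge v 164678 with h | h
                · exact edgesRange_spec E 0 1428 163250 edges_0_78 v (by omega) (by omega)
                · exact edgesRange_spec E 0 1380 164678 edges_0_79 v (by omega) (by omega)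
            · rcases Nat.lt_or_ge v 168077 with h | h
              · exact edgesRange_spec E 0 2019 166058 edges_0_80 v (by omega) (by omega)
              · rcases Nat.lt_or_ge v 170470 with h | h
                · exact edgesRange_spec E 0 2393 168077 edges_0_81 v (by omega) (by omega)
                · exact edgesRange_spec E 0 2201 170470 edges_0_82 v (by omega) (by omega)
        · rcases Nat.lt_or_ge v 182708 with h | h
          · rcases Nat.lt_or_ge v 178530 with h | h
            · rcases Nat.lt_or_ge v 175088 with h | h
              · exact edgesRange_spec E 0 2417 172671 edges_0_83 v (by omega) (by omega)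
              · rcases Nat.lt_or_ge v 177164 with h | h
                · exact edgesRange_spec E 0 2076 175088 edges_0_84 v (by omega) (by omega)
                · exact edgesRange_spec E 0 1366 177164 edges_0_85 v (by omega) (by omega)
            · rcases Nat.lt_or_ge v 179948 with h | h
              · exact edgesRange_spec E 0 1418 178530 edges_0_86 v (by omega) (by omega)
              · rcases Nat.lt_or_ge v 181342 with h | h
                · exact edgesRange_spec E 0 1394 179948 edges_0_87 v (by omega) (by omega)
                · exact edgesRange_spec E 0 1366 181342 edges_0_88 v (by omega) (by omega)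
          · rcases Nat.lt_or_ge v 186888 with h | h
            · rcases Nat.lt_or_ge v 184120 with h | h
              · exact edgesRange_spec E 0 1412 182708 edges_0_89 v (by omega) (by omega)
              · rcases Nat.lt_or_ge v 185528 with h | h
                · exact edgesRange_spec E 0 1408 184120 edges_0_90 v (by omega) (by omega)
                · exact edgesRange_spec E 0 1360 185528 edges_0_91 v (by omega) (by omega)
            · rcases Nat.lt_or_ge v 189222 with h | h
              · exact edgesRange_spec E 0 2334 186888 edges_0_92 v (by omega) (by omega)
              · rcases Nat.lt_or_ge v 191574 with h | h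
                · exact edgesRange_spec E 0 2352 189222 edges_0_93 v (by omega) (by omega)
                · exact edgesRange_spec E 0 2231 191574 edges_0_94 v (by omega) (by omega)
  · rcases Nat.lt_or_ge v 277677 with h | h
    · rcases Nat.lt_or_ge v 234875 with h | h
      · rcases Nat.lt_or_ge v 214604 with h | h
        · rcases Nat.lt_or_ge v 203931 with h | h
          · rcases Nat.lt_or_ge v 199741 with h | h
            · rcases Nat.lt_or_ge v 196209 with h | h
              · exact edgesRange_spec E 0 2404 193805 edges_0_95 v (by omega) (by omega)
              · rcases Nat.lt_or_ge v 198390 with h | h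
                · exact edgesRange_spec E 0 2181 196209 edges_0_96 v (by omega) (by omega)
                · exact edgesRange_spec E 0 1351 198390 edges_0_97 v (by omega) (by omega)
            · rcases Nat.lt_or_ge v 201163 with h | h
              · exact edgesRange_spec E 0 1422 199741 edges_0_98 v (by omega) (by omega)
              · rcases Nat.lt_or_ge v 202552 with h | h
                · exact edgesRange_spec E 0 1389 201163 edges_0_99 v (by omega) (by omega)
                · exact edgesRange_spec E 0 1379 202552 edges_0_100 v (by omega) (by omega)
          · rcases Nat.lt_or_ge v 208102 with h | h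
            · rcases Nat.lt_or_ge v 205279 with h | h
              · exact edgesRange_spec E 0 1348 203931 edges_0_101 v (by omega) (by omega)
              · rcases Nat.lt_or_ge v 206722 with h | h
                · exact edgesRange_spec E 0 1443 205279 edges_0_102 v (by omega) (by omega)
                · exact edgesRange_spec E 0 1380 206722 edges_0_103 v (by omega) (by omega)
            · rcases Nat.lt_or_ge v 209951 with h | h
              · exact edgesRange_spec E 0 1849 208102 edges_0_104 v (by omega) (by omega)
              · rcases Nat.lt_or_ge v 212336 with h | h
                · exact edgesRange_spec E 0 2385 209951 edges_0_105 v (by omega) (by omega)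
                · exact edgesRange_spec E 0 2268 212336 edges_0_106 v (by omega) (by omega)
        · rcases Nat.lt_or_ge v 225507 with h | h
          · rcases Nat.lt_or_ge v 221368 with h | h
            · rcases Nat.lt_or_ge v 216746 with h | h
              · exact edgesRange_spec E 0 2142 214604 edges_0_107 v (by omega) (by omega)
              · rcases Nat.lt_or_ge v 219220 with h | h
                · exact edgesRange_spec E 0 2474 216746 edges_0_108 v (by omega) (by omega)
                · exact edgesRange_spec E 0 2148 219220 edges_0_109 v (by omega) (by omega)
            · rcases Nat.lt_or_ge v 222710 with h | h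
              · exact edgesRange_spec E 0 1342 221368 edges_0_110 v (by omega) (by omega)
              · rcases Nat.lt_or_ge v 224128 with h | h
                · exact edgesRange_spec E 0 1418 222710 edges_0_111 v (by omega) (by omega)
                · exact edgesRange_spec E 0 1379 224128 edges_0_112 v (by omega) (by omega)
          · rcases Nat.lt_or_ge v 229673 with h | h
            · rcases Nat.lt_or_ge v 226899 with h | h
              · exact edgesRange_spec E 0 1392 225507 edges_0_113 v (by omega) (by omega)
              · rcases Nat.lt_or_ge v 228239 with h | h
                · exact edgesRange_spec E 0 1340 226899 edges_0_114 v (by omega) (by omega)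
                · exact edgesRange_spec E 0 1434 228239 edges_0_115 v (by omega) (by omega)
            · rcases Nat.lt_or_ge v 231055 with h | h
              · exact edgesRange_spec E 0 1382 229673 edges_0_116 v (by omega) (by omega)
              · rcases Nat.lt_or_ge v 232640 with h | h
                · exact edgesRange_spec E 0 1585 231055 edges_0_117 v (by omega) (by omega)
                · exact edgesRange_spec E 0 2235 232640 edges_0_118 v (by omega) (by omega)
      · rcases Nat.lt_or_ge v 255673 with h | h
        · rcases Nat.lt_or_ge v 247357 with h | h
          · rcases Nat.lt_or_ge v 241663 with h | h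
            · rcases Nat.lt_or_ge v 237317 with h | h
              · exact edgesRange_spec E 0 2442 234875 edges_0_119 v (by omega) (by omega)
              · rcases Nat.lt_or_ge v 239435 with h | h
                · exact edgesRange_spec E 0 2118 237317 edges_0_120 v (by omega) (by omega)
                · exact edgesRange_spec E 0 2228 239435 edges_0_121 v (by omega) (by omega)
            · rcases Nat.lt_or_ge v 244137 with h | h
              · exact edgesRange_spec E 0 2474 241663 edges_0_122 v (by omega) (by omega)
              · rcases Nat.lt_or_ge v 246022 with h | h
                · exact edgesRange_spec E 0 1885 244137 edges_0_123 v (by omega) (by omega)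
                · exact edgesRange_spec E 0 1335 246022 edges_0_124 v (by omega) (by omega)
          · rcases Nat.lt_or_ge v 251539 with h | h
            · rcases Nat.lt_or_ge v 248776 with h | h
              · exact edgesRange_spec E 0 1419 247357 edges_0_125 v (by omega) (by omega)
              · rcases Nat.lt_or_ge v 250182 with h | h
                · exact edgesRange_spec E 0 1406 248776 edges_0_126 v (by omega) (by omega)
                · exact edgesRange_spec E 0 1357 250182 edges_0_127 v (by omega) (by omega)
            · rcases Nat.lt_or_ge v 252876 with h | h
              · exact edgesRange_spec E 0 1337 251539 edges_0_128 v (by omega) (by omega)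
              · rcases Nat.lt_or_ge v 254297 with h | h
                · exact edgesRange_spec E 0 1421 252876 edges_0_129 v (by omega) (by omega)
                · exact edgesRange_spec E 0 1376 254297 edges_0_130 v (by omega) (by omega)
        · rcases Nat.lt_or_ge v 268457 with h | h
          · rcases Nat.lt_or_ge v 261744 with h | h
            · rcases Nat.lt_or_ge v 257088 with h | h
              · exact edgesRange_spec E 0 1415 255673 edges_0_131 v (by omega) (by omega)
              · rcases Nat.lt_or_ge v 259449 with h | h
                · exact edgesRange_spec E 0 2361 257088 edges_0_132 v (by omega) (by omega)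
                · exact edgesRange_spec E 0 2295 259449 edges_0_133 v (by omega) (by omega)
            · rcases Nat.lt_or_ge v 263943 with h | h
              · exact edgesRange_spec E 0 2199 261744 edges_0_134 v (by omega) (by omega)
              · rcases Nat.lt_or_ge v 266104 with h | h
                · exact edgesRange_spec E 0 2161 263943 edges_0_135 v (by omega) (by omega)
                · exact edgesRange_spec E 0 2353 266104 edges_0_136 v (by omega) (by omega)
          · rcases Nat.lt_or_ge v 273566 with h | h
            · rcases Nat.lt_or_ge v 270831 with h | h
              · exact edgesRange_spec E 0 2374 268457 edges_0_137 v (by omega) (by omega)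
              · rcases Nat.lt_or_ge v 272165 with h | h
                · exact edgesRange_spec E 0 1334 270831 edges_0_138 v (by omega) (by omega)
                · exact edgesRange_spec E 0 1401 272165 edges_0_139 v (by omega) (by omega)
            · rcases Nat.lt_or_ge v 274915 with h | h
              · exact edgesRange_spec E 0 1349 273566 edges_0_140 v (by omega) (by omega)
              · rcases Nat.lt_or_ge v 276321 with h | h
                · exact edgesRange_spec E 0 1406 274915 edges_0_141 v (by omega) (by omega)
                · exact edgesRange_spec E 0 1356 276321 edges_0_142 v (by omega) (by omega)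
    · rcases Nat.lt_or_ge v 320067 with h | h
      · rcases Nat.lt_or_ge v 299386 with h | h
        · rcases Nat.lt_or_ge v 288227 with h | h
          · rcases Nat.lt_or_ge v 281800 with h | h
            · rcases Nat.lt_or_ge v 279018 with h | h
              · exact edgesRange_spec E 0 1341 277677 edges_0_143 v (by omega) (by omega)
              · rcases Nat.lt_or_ge v 280445 with h | h
                · exact edgesRange_spec E 0 1427 279018 edges_0_144 v (by omega) (by omega)
                · exact edgesRange_spec E 0 1355 280445 edges_0_145 v (by omega) (by omega)
            · rcases Nat.lt_or_ge v 283576 with h | h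
              · exact edgesRange_spec E 0 1776 281800 edges_0_146 v (by omega) (by omega)
              · rcases Nat.lt_or_ge v 285825 with h | h
                · exact edgesRange_spec E 0 2249 283576 edges_0_147 v (by omega) (by omega)
                · exact edgesRange_spec E 0 2402 285825 edges_0_148 v (by omega) (by omega)
          · rcases Nat.lt_or_ge v 295002 with h | h
            · rcases Nat.lt_or_ge v 290318 with h | h
              · exact edgesRange_spec E 0 2091 288227 edges_0_149 v (by omega) (by omega)
              · rcases Nat.lt_or_ge v 292476 with h | h
                · exact edgesRange_spec E 0 2158 290318 edges_0_150 v (by omega) (by omega)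
                · exact edgesRange_spec E 0 2526 292476 edges_0_151 v (by omega) (by omega)
            · rcases Nat.lt_or_ge v 296646 with h | h
              · exact edgesRange_spec E 0 1644 295002 edges_0_152 v (by omega) (by omega)
              · rcases Nat.lt_or_ge v 297980 with h | h
                · exact edgesRange_spec E 0 1334 296646 edges_0_153 v (by omega) (by omega)
                · exact edgesRange_spec E 0 1406 297980 edges_0_154 v (by omega) (by omega)
        · rcases Nat.lt_or_ge v 307888 with h | h
          · rcases Nat.lt_or_ge v 303470 with h | h
            · rcases Nat.lt_or_ge v 300787 with h | h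
              · exact edgesRange_spec E 0 1401 299386 edges_0_155 v (by omega) (by omega)
              · rcases Nat.lt_or_ge v 302134 with h | h
                · exact edgesRange_spec E 0 1347 300787 edges_0_156 v (by omega) (by omega)
                · exact edgesRange_spec E 0 1336 302134 edges_0_157 v (by omega) (by omega)
            · rcases Nat.lt_or_ge v 304879 with h | h
              · exact edgesRange_spec E 0 1409 303470 edges_0_158 v (by omega) (by omega)
              · rcases Nat.lt_or_ge v 306243 with h | h
                · exact edgesRange_spec E 0 1364 304879 edges_0_159 v (by omega) (by omega)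
                · exact edgesRange_spec E 0 1645 306243 edges_0_160 v (by omega) (by omega)
          · rcases Nat.lt_or_ge v 314502 with h | h
            · rcases Nat.lt_or_ge v 310097 with h | h
              · exact edgesRange_spec E 0 2209 307888 edges_0_161 v (by omega) (by omega)
              · rcases Nat.lt_or_ge v 312466 with h | h
                · exact edgesRange_spec E 0 2369 310097 edges_0_162 v (by omega) (by omega)
                · exact edgesRange_spec E 0 2036 312466 edges_0_163 v (by omega) (by omega)
            · rcases Nat.lt_or_ge v 316856 with h | h
              · exact edgesRange_spec E 0 2354 314502 edges_0_164 v (by omega) (by omega)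
              · rcases Nat.lt_or_ge v 318733 with h | h
                · exact edgesRange_spec E 0 1877 316856 edges_0_165 v (by omega) (by omega)
                · exact edgesRange_spec E 0 1334 318733 edges_0_166 v (by omega) (by omega)
      · rcases Nat.lt_or_ge v 339266 with h | h
        · rcases Nat.lt_or_ge v 328632 with h | h
          · rcases Nat.lt_or_ge v 324168 with h | h
            · rcases Nat.lt_or_ge v 321444 with h | h
              · exact edgesRange_spec E 0 1377 320067 edges_0_167 v (by omega) (by omega)
              · rcases Nat.lt_or_ge v 322825 with h | h
                · exact edgesRange_spec E 0 1381 321444 edges_0_168 v (by omega) (by omega)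
                · exact edgesRange_spec E 0 1343 322825 edges_0_169 v (by omega) (by omega)
            · rcases Nat.lt_or_ge v 325533 with h | h
              · exact edgesRange_spec E 0 1365 324168 edges_0_170 v (by omega) (by omega)
              · rcases Nat.lt_or_ge v 326884 with h | h
                · exact edgesRange_spec E 0 1351 325533 edges_0_171 v (by omega) (by omega)
                · exact edgesRange_spec E 0 1748 326884 edges_0_172 v (by omega) (by omega)
          · rcases Nat.lt_or_ge v 335234 with h | h
            · rcases Nat.lt_or_ge v 330888 with h | h
              · exact edgesRange_spec E 0 2256 328632 edges_0_173 v (by omega) (by omega)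
              · rcases Nat.lt_or_ge v 332974 with h | h
                · exact edgesRange_spec E 0 2086 330888 edges_0_174 v (by omega) (by omega)
                · exact edgesRange_spec E 0 2260 332974 edges_0_175 v (by omega) (by omega)
            · rcases Nat.lt_or_ge v 336568 with h | h
              · exact edgesRange_spec E 0 1334 335234 edges_0_176 v (by omega) (by omega)
              · rcases Nat.lt_or_ge v 337918 with h | h
                · exact edgesRange_spec E 0 1350 336568 edges_0_177 v (by omega) (by omega)
                · exact edgesRange_spec E 0 1348 337918 edges_0_178 v (by omega) (by omega)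
        · rcases Nat.lt_or_ge v 349026 with h | h
          · rcases Nat.lt_or_ge v 344325 with h | h
            · rcases Nat.lt_or_ge v 340611 with h | h
              · exact edgesRange_spec E 0 1345 339266 edges_0_179 v (by omega) (by omega)
              · rcases Nat.lt_or_ge v 342079 with h | h
                · exact edgesRange_spec E 0 1468 340611 edges_0_180 v (by omega) (by omega)
                · exact edgesRange_spec E 0 2246 342079 edges_0_181 v (by omega) (by omega)
            · rcases Nat.lt_or_ge v 346352 with h | h
              · exact edgesRange_spec E 0 2027 344325 edges_0_182 v (by omega) (by omega)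
              · rcases Nat.lt_or_ge v 347689 with h | h
                · exact edgesRange_spec E 0 1337 346352 edges_0_183 v (by omega) (by omega)
                · exact edgesRange_spec E 0 1337 347689 edges_0_184 v (by omega) (by omega)
          · rcases Nat.lt_or_ge v 353880 with h | h
            · rcases Nat.lt_or_ge v 350486 with h | h
              · exact edgesRange_spec E 0 1460 349026 edges_0_185 v (by omega) (by omega)
              · rcases Nat.lt_or_ge v 352544 with h | h
                · exact edgesRange_spec E 0 2058 350486 edges_0_186 v (by omega) (by omega)
                · exact edgesRange_spec E 0 1336 352544 edges_0_187 v (by omega) (by omega)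
            · rcases Nat.lt_or_ge v 355503 with h | h
              · exact edgesRange_spec E 0 1623 353880 edges_0_188 v (by omega) (by omega)
              · rcases Nat.lt_or_ge v 356901 with h | h
                · exact edgesRange_spec E 0 1398 355503 edges_0_189 v (by omega) (by omega)
                · exact edgesRange_spec E 0 148 356901 edges_0_190 v (by omega) (by omega)

theorem edgesx_1 : ∀ v, v < 357049 → edgeOK E 1 v = true := by
  intro v hv
  rcases Nat.lt_or_ge v 193734 with h | h
  · rcases Nat.lt_or_ge v 102994 with h | h
    · rcases Nat.lt_or_ge v 46268 with h | h
      · rcases Nat.lt_or_ge v 20784 with h | h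
        · rcases Nat.lt_or_ge v 9477 with h | h
          · rcases Nat.lt_or_ge v 3521 with h | h
            · rcases Nat.lt_or_ge v 1686 with h | h
              · exact edgesRange_spec E 1 1686 0 edges_1_0 v (by omega) (by omega)
              · exact edgesRange_spec E 1 1835 1686 edges_1_1 v (by omega) (by omega)
            · rcases Nat.lt_or_ge v 5433 with h | h
              · exact edgesRange_spec E 1 1912 3521 edges_1_2 v (by omega) (by omega)
              · rcases Nat.lt_or_ge v 7468 with h | h
                · exact edgesRange_spec E 1 2035 5433 edges_1_3 v (by omega) (by omega)
                · exact edgesRange_spec E 1 2009 7468 edges_1_4 v (by omega) (by omega)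
          · rcases Nat.lt_or_ge v 15131 with h | h
            · rcases Nat.lt_or_ge v 11481 with h | h
              · exact edgesRange_spec E 1 2004 9477 edges_1_5 v (by omega) (by omega)
              · rcases Nat.lt_or_ge v 13206 with h | h
                · exact edgesRange_spec E 1 1725 11481 edges_1_6 v (by omega) (by omega)
                · exact edgesRange_spec E 1 1925 13206 edges_1_7 v (by omega) (by omega)
            · rcases Nat.lt_or_ge v 16983 with h | h
              · exact edgesRange_spec E 1 1852 15131 edges_1_8 v (by omega) (by omega)
              · rcases Nat.lt_or_ge v 18934 with h | h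
                · exact edgesRange_spec E 1 1951 16983 edges_1_9 v (by omega) (by omega)
                · exact edgesRange_spec E 1 1850 18934 edges_1_10 v (by omega) (by omega)
        · rcases Nat.lt_or_ge v 33124 with h | h
          · rcases Nat.lt_or_ge v 26737 with h | h
            · rcases Nat.lt_or_ge v 22751 with h | h
              · exact edgesRange_spec E 1 1967 20784 edges_1_11 v (by omega) (by omega)
              · rcases Nat.lt_or_ge v 24855 with h | h
                · exact edgesRange_spec E 1 2104 22751 edges_1_12 v (by omega) (by omega)
                · exact edgesRange_spec E 1 1882 24855 edges_1_13 v (by omega) (by omega)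
            · rcases Nat.lt_or_ge v 28924 with h | h
              · exact edgesRange_spec E 1 2187 26737 edges_1_14 v (by omega) (by omega)
              · rcases Nat.lt_or_ge v 30890 with h | h
                · exact edgesRange_spec E 1 1966 28924 edges_1_15 v (by omega) (by omega)
                · exact edgesRange_spec E 1 2234 30890 edges_1_16 v (by omega) (by omega)
          · rcases Nat.lt_or_ge v 39596 with h | h
            · rcases Nat.lt_or_ge v 35088 with h | h
              · exact edgesRange_spec E 1 1964 33124 edges_1_17 v (by omega) (by omega)
              · rcases Nat.lt_or_ge v 37224 with h | h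
                · exact edgesRange_spec E 1 2136 35088 edges_1_18 v (by omega) (by omega)
                · exact edgesRange_spec E 1 2372 37224 edges_1_19 v (by omega) (by omega)
            · rcases Nat.lt_or_ge v 41620 with h | h
              · exact edgesRange_spec E 1 2024 39596 edges_1_20 v (by omega) (by omega)
              · rcases Nat.lt_or_ge v 44001 with h | h
                · exact edgesRange_spec E 1 2381 41620 edges_1_21 v (by omega) (by omega)
                · exact edgesRange_spec E 1 2267 44001 edges_1_22 v (by omega) (by omega)
      · rcases Nat.lt_or_ge v 74253 with h | h
        · rcases Nat.lt_or_ge v 60026 with h | h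
          · rcases Nat.lt_or_ge v 53144 with h | h
            · rcases Nat.lt_or_ge v 48035 with h | h
              · exact edgesRange_spec E 1 1767 46268 edges_1_23 v (by omega) (by omega)
              · rcases Nat.lt_or_ge v 50471 with h | h
                · exact edgesRange_spec E 1 2436 48035 edges_1_24 v (by omega) (by omega)
                · exact edgesRange_spec E 1 2673 50471 edges_1_25 v (by omega) (by omega)
            · rcases Nat.lt_or_ge v 55238 with h | h
              · exact edgesRange_spec E 1 2094 53144 edges_1_26 v (by omega) (by omega)
              · rcases Nat.lt_or_ge v 57476 with h | h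
                · exact edgesRange_spec E 1 2238 55238 edges_1_27 v (by omega) (by omega)
                · exact edgesRange_spec E 1 2550 57476 edges_1_28 v (by omega) (by omega)
          · rcases Nat.lt_or_ge v 66652 with h | h
            · rcases Nat.lt_or_ge v 62412 with h | h
              · exact edgesRange_spec E 1 2386 60026 edges_1_29 v (by omega) (by omega)
              · rcases Nat.lt_or_ge v 64212 with h | h
                · exact edgesRange_spec E 1 1800 62412 edges_1_30 v (by omega) (by omega)
                · exact edgesRange_spec E 1 2440 64212 edges_1_31 v (by omega) (by omega)
            · rcases Nat.lt_or_ge v 69085 with h | h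
              · exact edgesRange_spec E 1 2433 66652 edges_1_32 v (by omega) (by omega)
              · rcases Nat.lt_or_ge v 71887 with h | h
                · exact edgesRange_spec E 1 2802 69085 edges_1_33 v (by omega) (by omega)
                · exact edgesRange_spec E 1 2366 71887 edges_1_34 v (by omega) (by omega)
        · rcases Nat.lt_or_ge v 88183 with h | h
          · rcases Nat.lt_or_ge v 81776 with h | h
            · rcases Nat.lt_or_ge v 76562 with h | h
              · exact edgesRange_spec E 1 2309 74253 edges_1_35 v (by omega) (by omega)
              · rcases Nat.lt_or_ge v 79012 with h | h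
                · exact edgesRange_spec E 1 2450 76562 edges_1_36 v (by omega) (by omega)
                · exact edgesRange_spec E 1 2764 79012 edges_1_37 v (by omega) (by omega)
            · rcases Nat.lt_or_ge v 83814 with h | h
              · exact edgesRange_spec E 1 2038 81776 edges_1_38 v (by omega) (by omega)
              · rcases Nat.lt_or_ge v 85713 with h | h
                · exact edgesRange_spec E 1 1899 83814 edges_1_39 v (by omega) (by omega)
                · exact edgesRange_spec E 1 2470 85713 edges_1_40 v (by omega) (by omega)
          · rcases Nat.lt_or_ge v 95894 with h | h
            · rcases Nat.lt_or_ge v 90865 with h | h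
              · exact edgesRange_spec E 1 2682 88183 edges_1_41 v (by omega) (by omega)
              · rcases Nat.lt_or_ge v 93984 with h | h
                · exact edgesRange_spec E 1 3119 90865 edges_1_42 v (by omega) (by omega)
                · exact edgesRange_spec E 1 1910 93984 edges_1_43 v (by omega) (by omega)
            · rcases Nat.lt_or_ge v 98566 with h | h
              · exact edgesRange_spec E 1 2672 95894 edges_1_44 v (by omega) (by omega)
              · rcases Nat.lt_or_ge v 100718 with h | h
                · exact edgesRange_spec E 1 2152 98566 edges_1_45 v (by omega) (by omega)
                · exact edgesRange_spec E 1 2276 100718 edges_1_46 v (by omega) (by omega)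
    · rcases Nat.lt_or_ge v 151171 with h | h
      · rcases Nat.lt_or_ge v 129853 with h | h
        · rcases Nat.lt_or_ge v 117057 with h | h
          · rcases Nat.lt_or_ge v 109972 with h | h
            · rcases Nat.lt_or_ge v 105578 with h | h
              · exact edgesRange_spec E 1 2584 102994 edges_1_47 v (by omega) (by omega)
              · rcases Nat.lt_or_ge v 107961 with h | h
                · exact edgesRange_spec E 1 2383 105578 edges_1_48 v (by omega) (by omega)
                · exact edgesRange_spec E 1 2011 107961 edges_1_49 v (by omega) (by omega)
            · rcases Nat.lt_or_ge v 111922 with h | h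
              · exact edgesRange_spec E 1 1950 109972 edges_1_50 v (by omega) (by omega)
              · rcases Nat.lt_or_ge v 114243 with h | h
                · exact edgesRange_spec E 1 2321 111922 edges_1_51 v (by omega) (by omega)
                · exact edgesRange_spec E 1 2814 114243 edges_1_52 v (by omega) (by omega)
          · rcases Nat.lt_or_ge v 124158 with h | h
            · rcases Nat.lt_or_ge v 119968 with h | h
              · exact edgesRange_spec E 1 2911 117057 edges_1_53 v (by omega) (by omega)
              · rcases Nat.lt_or_ge v 121749 with h | h
                · exact edgesRange_spec E 1 1781 119968 edges_1_54 v (by omega) (by omega)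
                · exact edgesRange_spec E 1 2409 121749 edges_1_55 v (by omega) (by omega)
            · rcases Nat.lt_or_ge v 125993 with h | h
              · exact edgesRange_spec E 1 1835 124158 edges_1_56 v (by omega) (by omega)
              · rcases Nat.lt_or_ge v 127987 with h | h
                · exact edgesRange_spec E 1 1994 125993 edges_1_57 v (by omega) (by omega)
                · exact edgesRange_spec E 1 1866 127987 edges_1_58 v (by omega) (by omega)
        · rcases Nat.lt_or_ge v 140265 with h | h
          · rcases Nat.lt_or_ge v 135215 with h | h
            · rcases Nat.lt_or_ge v 131752 with h | h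
              · exact edgesRange_spec E 1 1899 129853 edges_1_59 v (by omega) (by omega)
              · rcases Nat.lt_or_ge v 133473 with h | h
                · exact edgesRange_spec E 1 1721 131752 edges_1_60 v (by omega) (by omega)
                · exact edgesRange_spec E 1 1742 133473 edges_1_61 v (by omega) (by omega)
            · rcases Nat.lt_or_ge v 137017 with h | h
              · exact edgesRange_spec E 1 1802 135215 edges_1_62 v (by omega) (by omega)
              · rcases Nat.lt_or_ge v 138861 with h | h
                · exact edgesRange_spec E 1 1844 137017 edges_1_63 v (by omega) (by omega)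
                · exact edgesRange_spec E 1 1404 138861 edges_1_64 v (by omega) (by omega)
          · rcases Nat.lt_or_ge v 145693 with h | h
            · rcases Nat.lt_or_ge v 141821 with h | h
              · exact edgesRange_spec E 1 1556 140265 edges_1_65 v (by omega) (by omega)
              · rcases Nat.lt_or_ge v 143742 with h | h
                · exact edgesRange_spec E 1 1921 141821 edges_1_66 v (by omega) (by omega)
                · exact edgesRange_spec E 1 1951 143742 edges_1_67 v (by omega) (by omega)
            · rcases Nat.lt_or_ge v 147439 with h | h
              · exact edgesRange_spec E 1 1746 145693 edges_1_68 v (by omega) (by omega)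
              · rcases Nat.lt_or_ge v 149442 with h | h
                · exact edgesRange_spec E 1 2003 147439 edges_1_69 v (by omega) (by omega)
                · exact edgesRange_spec E 1 1729 149442 edges_1_70 v (by omega) (by omega)
      · rcases Nat.lt_or_ge v 172429 with h | h
        · rcases Nat.lt_or_ge v 161416 with h | h
          · rcases Nat.lt_or_ge v 156635 with h | h
            · rcases Nat.lt_or_ge v 152927 with h | h
              · exact edgesRange_spec E 1 1756 151171 edges_1_71 v (by omega) (by omega)
              · rcases Nat.lt_or_ge v 154783 with h | h
                · exact edgesRange_spec E 1 1856 152927 edges_1_72 v (by omega) (by omega)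
                · exact edgesRange_spec E 1 1852 154783 edges_1_73 v (by omega) (by omega)
            · rcases Nat.lt_or_ge v 158117 with h | h
              · exact edgesRange_spec E 1 1482 156635 edges_1_74 v (by omega) (by omega)
              · rcases Nat.lt_or_ge v 159673 with h | h
                · exact edgesRange_spec E 1 1556 158117 edges_1_75 v (by omega) (by omega)
                · exact edgesRange_spec E 1 1743 159673 edges_1_76 v (by omega) (by omega)
          · rcases Nat.lt_or_ge v 166976 with h | h
            · rcases Nat.lt_or_ge v 163316 with h | h
              · exact edgesRange_spec E 1 1900 161416 edges_1_77 v (by omega) (by omega)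
              · rcases Nat.lt_or_ge v 165203 with h | h
                · exact edgesRange_spec E 1 1887 163316 edges_1_78 v (by omega) (by omega)
                · exact edgesRange_spec E 1 1773 165203 edges_1_79 v (by omega) (by omega)
            · rcases Nat.lt_or_ge v 168913 with h | h
              · exact edgesRange_spec E 1 1937 166976 edges_1_80 v (by omega) (by omega)
              · rcases Nat.lt_or_ge v 170639 with h | h
                · exact edgesRange_spec E 1 1726 168913 edges_1_81 v (by omega) (by omega)
                · exact edgesRange_spec E 1 1790 170639 edges_1_82 v (by omega) (by omega)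
        · rcases Nat.lt_or_ge v 182765 with h | h
          · rcases Nat.lt_or_ge v 177735 with h | h
            · rcases Nat.lt_or_ge v 174333 with h | h
              · exact edgesRange_spec E 1 1904 172429 edges_1_83 v (by omega) (by omega)
              · rcases Nat.lt_or_ge v 176191 with h | h
                · exact edgesRange_spec E 1 1858 174333 edges_1_84 v (by omega) (by omega)
                · exact edgesRange_spec E 1 1544 176191 edges_1_85 v (by omega) (by omega)
            · rcases Nat.lt_or_ge v 179240 with h | h
              · exact edgesRange_spec E 1 1505 177735 edges_1_86 v (by omega) (by omega)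
              · rcases Nat.lt_or_ge v 180912 with h | h
                · exact edgesRange_spec E 1 1672 179240 edges_1_87 v (by omega) (by omega)
                · exact edgesRange_spec E 1 1853 180912 edges_1_88 v (by omega) (by omega)
          · rcases Nat.lt_or_ge v 188317 with h | h
            · rcases Nat.lt_or_ge v 184629 with h | h
              · exact edgesRange_spec E 1 1864 182765 edges_1_89 v (by omega) (by omega)
              · rcases Nat.lt_or_ge v 186382 with h | h
                · exact edgesRange_spec E 1 1753 184629 edges_1_90 v (by omega) (by omega)
                · exact edgesRange_spec E 1 1935 186382 edges_1_91 v (by omega) (by omega)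
            · rcases Nat.lt_or_ge v 190193 with h | h
              · exact edgesRange_spec E 1 1876 188317 edges_1_92 v (by omega) (by omega)
              · rcases Nat.lt_or_ge v 191952 with h | h
                · exact edgesRange_spec E 1 1759 190193 edges_1_93 v (by omega) (by omega)
                · exact edgesRange_spec E 1 1782 191952 edges_1_94 v (by omega) (by omega)
  · rcases Nat.lt_or_ge v 278264 with h | h
    · rcases Nat.lt_or_ge v 236308 with h | h
      · rcases Nat.lt_or_ge v 214966 with h | h
        · rcases Nat.lt_or_ge v 204051 with h | h
          · rcases Nat.lt_or_ge v 199094 with h | h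
            · rcases Nat.lt_or_ge v 195598 with h | h
              · exact edgesRange_spec E 1 1864 193734 edges_1_95 v (by omega) (by omega)
              · rcases Nat.lt_or_ge v 197543 with h | h
                · exact edgesRange_spec E 1 1945 195598 edges_1_96 v (by omega) (by omega)
                · exact edgesRange_spec E 1 1551 197543 edges_1_97 v (by omega) (by omega)
            · rcases Nat.lt_or_ge v 200596 with h | h
              · exact edgesRange_spec E 1 1502 199094 edges_1_98 v (by omega) (by omega)
              · rcases Nat.lt_or_ge v 202261 with h | h
                · exact edgesRange_spec E 1 1665 200596 edges_1_99 v (by omega) (by omega)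
                · exact edgesRange_spec E 1 1790 202261 edges_1_100 v (by omega) (by omega)
          · rcases Nat.lt_or_ge v 209473 with h | h
            · rcases Nat.lt_or_ge v 205875 with h | h
              · exact edgesRange_spec E 1 1824 204051 edges_1_101 v (by omega) (by omega)
              · rcases Nat.lt_or_ge v 207715 with h | h
                · exact edgesRange_spec E 1 1840 205875 edges_1_102 v (by omega) (by omega)
                · exact edgesRange_spec E 1 1758 207715 edges_1_103 v (by omega) (by omega)
            · rcases Nat.lt_or_ge v 211425 with h | h
              · exact edgesRange_spec E 1 1952 209473 edges_1_104 v (by omega) (by omega)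
              · rcases Nat.lt_or_ge v 213329 with h | h
                · exact edgesRange_spec E 1 1904 211425 edges_1_105 v (by omega) (by omega)
                · exact edgesRange_spec E 1 1637 213329 edges_1_106 v (by omega) (by omega)
        · rcases Nat.lt_or_ge v 225384 with h | h
          · rcases Nat.lt_or_ge v 220720 with h | h
            · rcases Nat.lt_or_ge v 216864 with h | h
              · exact edgesRange_spec E 1 1898 214966 edges_1_107 v (by omega) (by omega)
              · rcases Nat.lt_or_ge v 218810 with h | h
                · exact edgesRange_spec E 1 1946 216864 edges_1_108 v (by omega) (by omega)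
                · exact edgesRange_spec E 1 1910 218810 edges_1_109 v (by omega) (by omega)
            · rcases Nat.lt_or_ge v 222197 with h | h
              · exact edgesRange_spec E 1 1477 220720 edges_1_110 v (by omega) (by omega)
              · rcases Nat.lt_or_ge v 223773 with h | h
                · exact edgesRange_spec E 1 1576 222197 edges_1_111 v (by omega) (by omega)
                · exact edgesRange_spec E 1 1611 223773 edges_1_112 v (by omega) (by omega)
          · rcases Nat.lt_or_ge v 230732 with h | h
            · rcases Nat.lt_or_ge v 227174 with h | h
              · exact edgesRange_spec E 1 1790 225384 edges_1_113 v (by omega) (by omega)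
              · rcases Nat.lt_or_ge v 228934 with h | h
                · exact edgesRange_spec E 1 1760 227174 edges_1_114 v (by omega) (by omega)
                · exact edgesRange_spec E 1 1798 228934 edges_1_115 v (by omega) (by omega)
            · rcases Nat.lt_or_ge v 232423 with h | h
              · exact edgesRange_spec E 1 1691 230732 edges_1_116 v (by omega) (by omega)
              · rcases Nat.lt_or_ge v 234424 with h | h
                · exact edgesRange_spec E 1 2001 232423 edges_1_117 v (by omega) (by omega)
                · exact edgesRange_spec E 1 1884 234424 edges_1_118 v (by omega) (by omega)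
      · rcases Nat.lt_or_ge v 257086 with h | h
        · rcases Nat.lt_or_ge v 246971 with h | h
          · rcases Nat.lt_or_ge v 241716 with h | h
            · rcases Nat.lt_or_ge v 238042 with h | h
              · exact edgesRange_spec E 1 1734 236308 edges_1_119 v (by omega) (by omega)
              · rcases Nat.lt_or_ge v 239836 with h | h
                · exact edgesRange_spec E 1 1794 238042 edges_1_120 v (by omega) (by omega)
                · exact edgesRange_spec E 1 1880 239836 edges_1_121 v (by omega) (by omega)
            · rcases Nat.lt_or_ge v 243650 with h | h
              · exact edgesRange_spec E 1 1934 241716 edges_1_122 v (by omega) (by omega)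
              · rcases Nat.lt_or_ge v 245562 with h | h
                · exact edgesRange_spec E 1 1912 243650 edges_1_123 v (by omega) (by omega)
                · exact edgesRange_spec E 1 1409 245562 edges_1_124 v (by omega) (by omega)
          · rcases Nat.lt_or_ge v 251942 with h | h
            · rcases Nat.lt_or_ge v 248597 with h | h
              · exact edgesRange_spec E 1 1626 246971 edges_1_125 v (by omega) (by omega)
              · rcases Nat.lt_or_ge v 250147 with h | h
                · exact edgesRange_spec E 1 1550 248597 edges_1_126 v (by omega) (by omega)
                · exact edgesRange_spec E 1 1795 250147 edges_1_127 v (by omega) (by omega)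
            · rcases Nat.lt_or_ge v 253695 with h | h
              · exact edgesRange_spec E 1 1753 251942 edges_1_128 v (by omega) (by omega)
              · rcases Nat.lt_or_ge v 255489 with h | h
                · exact edgesRange_spec E 1 1794 253695 edges_1_129 v (by omega) (by omega)
                · exact edgesRange_spec E 1 1597 255489 edges_1_130 v (by omega) (by omega)
        · rcases Nat.lt_or_ge v 268251 with h | h
          · rcases Nat.lt_or_ge v 262837 with h | h
            · rcases Nat.lt_or_ge v 259095 with h | h
              · exact edgesRange_spec E 1 2009 257086 edges_1_131 v (by omega) (by omega)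
              · rcases Nat.lt_or_ge v 261075 with h | h
                · exact edgesRange_spec E 1 1980 259095 edges_1_132 v (by omega) (by omega)
                · exact edgesRange_spec E 1 1762 261075 edges_1_133 v (by omega) (by omega)
            · rcases Nat.lt_or_ge v 264473 with h | h
              · exact edgesRange_spec E 1 1636 262837 edges_1_134 v (by omega) (by omega)
              · rcases Nat.lt_or_ge v 266359 with h | h
                · exact edgesRange_spec E 1 1886 264473 edges_1_135 v (by omega) (by omega)
                · exact edgesRange_spec E 1 1892 266359 edges_1_136 v (by omega) (by omega)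
          · rcases Nat.lt_or_ge v 273311 with h | h
            · rcases Nat.lt_or_ge v 270267 with h | h
              · exact edgesRange_spec E 1 2016 268251 edges_1_137 v (by omega) (by omega)
              · rcases Nat.lt_or_ge v 271758 with h | h
                · exact edgesRange_spec E 1 1491 270267 edges_1_138 v (by omega) (by omega)
                · exact edgesRange_spec E 1 1553 271758 edges_1_139 v (by omega) (by omega)
            · rcases Nat.lt_or_ge v 274902 with h | h
              · exact edgesRange_spec E 1 1591 273311 edges_1_140 v (by omega) (by omega)
              · rcases Nat.lt_or_ge v 276603 with h | h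
                · exact edgesRange_spec E 1 1701 274902 edges_1_141 v (by omega) (by omega)
                · exact edgesRange_spec E 1 1661 276603 edges_1_142 v (by omega) (by omega)
    · rcases Nat.lt_or_ge v 319778 with h | h
      · rcases Nat.lt_or_ge v 299285 with h | h
        · rcases Nat.lt_or_ge v 289016 with h | h
          · rcases Nat.lt_or_ge v 283537 with h | h
            · rcases Nat.lt_or_ge v 280057 with h | h
              · exact edgesRange_spec E 1 1793 278264 edges_1_143 v (by omega) (by omega)
              · rcases Nat.lt_or_ge v 281729 with h | h
                · exact edgesRange_spec E 1 1672 280057 edges_1_144 v (by omega) (by omega)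
                · exact edgesRange_spec E 1 1808 281729 edges_1_145 v (by omega) (by omega)
            · rcases Nat.lt_or_ge v 285381 with h | h
              · exact edgesRange_spec E 1 1844 283537 edges_1_146 v (by omega) (by omega)
              · rcases Nat.lt_or_ge v 287298 with h | h
                · exact edgesRange_spec E 1 1917 285381 edges_1_147 v (by omega) (by omega)
                · exact edgesRange_spec E 1 1718 287298 edges_1_148 v (by omega) (by omega)
          · rcases Nat.lt_or_ge v 294533 with h | h
            · rcases Nat.lt_or_ge v 290766 with h | h
              · exact edgesRange_spec E 1 1750 289016 edges_1_149 v (by omega) (by omega)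
              · rcases Nat.lt_or_ge v 292557 with h | h
                · exact edgesRange_spec E 1 1791 290766 edges_1_150 v (by omega) (by omega)
                · exact edgesRange_spec E 1 1976 292557 edges_1_151 v (by omega) (by omega)
            · rcases Nat.lt_or_ge v 296272 with h | h
              · exact edgesRange_spec E 1 1739 294533 edges_1_152 v (by omega) (by omega)
              · rcases Nat.lt_or_ge v 297727 with h | h
                · exact edgesRange_spec E 1 1455 296272 edges_1_153 v (by omega) (by omega)
                · exact edgesRange_spec E 1 1558 297727 edges_1_154 v (by omega) (by omega)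
        · rcases Nat.lt_or_ge v 309366 with h | h
          · rcases Nat.lt_or_ge v 304213 with h | h
            · rcases Nat.lt_or_ge v 300775 with h | h
              · exact edgesRange_spec E 1 1490 299285 edges_1_155 v (by omega) (by omega)
              · rcases Nat.lt_or_ge v 302546 with h | h
                · exact edgesRange_spec E 1 1771 300775 edges_1_156 v (by omega) (by omega)
                · exact edgesRange_spec E 1 1667 302546 edges_1_157 v (by omega) (by omega)
            · rcases Nat.lt_or_ge v 305914 with h | h
              · exact edgesRange_spec E 1 1701 304213 edges_1_158 v (by omega) (by omega)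
              · rcases Nat.lt_or_ge v 307525 with h | h
                · exact edgesRange_spec E 1 1611 305914 edges_1_159 v (by omega) (by omega)
                · exact edgesRange_spec E 1 1841 307525 edges_1_160 v (by omega) (by omega)
          · rcases Nat.lt_or_ge v 314712 with h | h
            · rcases Nat.lt_or_ge v 311297 with h | h
              · exact edgesRange_spec E 1 1931 309366 edges_1_161 v (by omega) (by omega)
              · rcases Nat.lt_or_ge v 312979 with h | h
                · exact edgesRange_spec E 1 1682 311297 edges_1_162 v (by omega) (by omega)
                · exact edgesRange_spec E 1 1733 312979 edges_1_163 v (by omega) (by omega)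
            · rcases Nat.lt_or_ge v 316637 with h | h
              · exact edgesRange_spec E 1 1925 314712 edges_1_164 v (by omega) (by omega)
              · rcases Nat.lt_or_ge v 318423 with h | h
                · exact edgesRange_spec E 1 1786 316637 edges_1_165 v (by omega) (by omega)
                · exact edgesRange_spec E 1 1355 318423 edges_1_166 v (by omega) (by omega)
      · rcases Nat.lt_or_ge v 339314 with h | h
        · rcases Nat.lt_or_ge v 329465 with h | h
          · rcases Nat.lt_or_ge v 324510 with h | h
            · rcases Nat.lt_or_ge v 321323 with h | h
              · exact edgesRange_spec E 1 1545 319778 edges_1_167 v (by omega) (by omega)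
              · rcases Nat.lt_or_ge v 322813 with h | h
                · exact edgesRange_spec E 1 1490 321323 edges_1_168 v (by omega) (by omega)
                · exact edgesRange_spec E 1 1697 322813 edges_1_169 v (by omega) (by omega)
            · rcases Nat.lt_or_ge v 326147 with h | h
              · exact edgesRange_spec E 1 1637 324510 edges_1_170 v (by omega) (by omega)
              · rcases Nat.lt_or_ge v 327650 with h | h
                · exact edgesRange_spec E 1 1503 326147 edges_1_171 v (by omega) (by omega)
                · exact edgesRange_spec E 1 1815 327650 edges_1_172 v (by omega) (by omega)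
          · rcases Nat.lt_or_ge v 334945 with h | h
            · rcases Nat.lt_or_ge v 331370 with h | h
              · exact edgesRange_spec E 1 1905 329465 edges_1_173 v (by omega) (by omega)
              · rcases Nat.lt_or_ge v 333028 with h | h
                · exact edgesRange_spec E 1 1658 331370 edges_1_174 v (by omega) (by omega)
                · exact edgesRange_spec E 1 1917 333028 edges_1_175 v (by omega) (by omega)
            · rcases Nat.lt_or_ge v 336286 with h | h
              · exact edgesRange_spec E 1 1341 334945 edges_1_176 v (by omega) (by omega)
              · rcases Nat.lt_or_ge v 337750 with h | h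
                · exact edgesRange_spec E 1 1464 336286 edges_1_177 v (by omega) (by omega)
                · exact edgesRange_spec E 1 1564 337750 edges_1_178 v (by omega) (by omega)
        · rcases Nat.lt_or_ge v 349026 with h | h
          · rcases Nat.lt_or_ge v 344324 with h | h
            · rcases Nat.lt_or_ge v 340936 with h | h
              · exact edgesRange_spec E 1 1622 339314 edges_1_179 v (by omega) (by omega)
              · rcases Nat.lt_or_ge v 342535 with h | h
                · exact edgesRange_spec E 1 1599 340936 edges_1_180 v (by omega) (by omega)
                · exact edgesRange_spec E 1 1789 342535 edges_1_181 v (by omega) (by omega)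
            · rcases Nat.lt_or_ge v 346118 with h | h
              · exact edgesRange_spec E 1 1794 344324 edges_1_182 v (by omega) (by omega)
              · rcases Nat.lt_or_ge v 347451 with h | h
                · exact edgesRange_spec E 1 1333 346118 edges_1_183 v (by omega) (by omega)
                · exact edgesRange_spec E 1 1575 347451 edges_1_184 v (by omega) (by omega)
          · rcases Nat.lt_or_ge v 353775 with h | h
            · rcases Nat.lt_or_ge v 350583 with h | h
              · exact edgesRange_spec E 1 1557 349026 edges_1_185 v (by omega) (by omega)
              · rcases Nat.lt_or_ge v 352330 with h | h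
                · exact edgesRange_spec E 1 1747 350583 edges_1_186 v (by omega) (by omega)
                · exact edgesRange_spec E 1 1445 352330 edges_1_187 v (by omega) (by omega)
            · rcases Nat.lt_or_ge v 355330 with h | h
              · exact edgesRange_spec E 1 1555 353775 edges_1_188 v (by omega) (by omega)
              · rcases Nat.lt_or_ge v 356761 with h | h
                · exact edgesRange_spec E 1 1431 355330 edges_1_189 v (by omega) (by omega)
                · exact edgesRange_spec E 1 288 356761 edges_1_190 v (by omega) (by omega)

theorem edgesx_2 : ∀ v, v < 357049 → edgeOK E 2 v = true := by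
  intro v hv
  rcases Nat.lt_or_ge v 194843 with h | h
  · rcases Nat.lt_or_ge v 106039 with h | h
    · rcases Nat.lt_or_ge v 47239 with h | h
      · rcases Nat.lt_or_ge v 21137 with h | h
        · rcases Nat.lt_or_ge v 9549 with h | h
          · rcases Nat.lt_or_ge v 3633 with h | h
            · rcases Nat.lt_or_ge v 1714 with h | h
              · exact edgesRange_spec E 2 1714 0 edges_2_0 v (by omega) (by omega)
              · exact edgesRange_spec E 2 1919 1714 edges_2_1 v (by omega) (by omega)
            · rcases Nat.lt_or_ge v 5566 with h | h
              · exact edgesRange_spec E 2 1933 3633 edges_2_2 v (by omega) (by omega)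
              · rcases Nat.lt_or_ge v 7570 with h | h
                · exact edgesRange_spec E 2 2004 5566 edges_2_3 v (by omega) (by omega)
                · exact edgesRange_spec E 2 1979 7570 edges_2_4 v (by omega) (by omega)
          · rcases Nat.lt_or_ge v 15264 with h | h
            · rcases Nat.lt_or_ge v 11504 with h | h
              · exact edgesRange_spec E 2 1955 9549 edges_2_5 v (by omega) (by omega)
              · rcases Nat.lt_or_ge v 13382 with h | h
                · exact edgesRange_spec E 2 1878 11504 edges_2_6 v (by omega) (by omega)
                · exact edgesRange_spec E 2 1882 13382 edges_2_7 v (by omega) (by omega)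
            · rcases Nat.lt_or_ge v 17224 with h | h
              · exact edgesRange_spec E 2 1960 15264 edges_2_8 v (by omega) (by omega)
              · rcases Nat.lt_or_ge v 19184 with h | h
                · exact edgesRange_spec E 2 1960 17224 edges_2_9 v (by omega) (by omega)
                · exact edgesRange_spec E 2 1953 19184 edges_2_10 v (by omega) (by omega)
        · rcases Nat.lt_or_ge v 33880 with h | h
          · rcases Nat.lt_or_ge v 27305 with h | h
            · rcases Nat.lt_or_ge v 23243 with h | h
              · exact edgesRange_spec E 2 2106 21137 edges_2_11 v (by omega) (by omega)
              · rcases Nat.lt_or_ge v 25316 with h | h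
                · exact edgesRange_spec E 2 2073 23243 edges_2_12 v (by omega) (by omega)
                · exact edgesRange_spec E 2 1989 25316 edges_2_13 v (by omega) (by omega)
            · rcases Nat.lt_or_ge v 29573 with h | h
              · exact edgesRange_spec E 2 2268 27305 edges_2_14 v (by omega) (by omega)
              · rcases Nat.lt_or_ge v 31610 with h | h
                · exact edgesRange_spec E 2 2037 29573 edges_2_15 v (by omega) (by omega)
                · exact edgesRange_spec E 2 2270 31610 edges_2_16 v (by omega) (by omega)
          · rcases Nat.lt_or_ge v 40620 with h | h
            · rcases Nat.lt_or_ge v 35933 with h | h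
              · exact edgesRange_spec E 2 2053 33880 edges_2_17 v (by omega) (by omega)
              · rcases Nat.lt_or_ge v 38197 with h | h
                · exact edgesRange_spec E 2 2264 35933 edges_2_18 v (by omega) (by omega)
                · exact edgesRange_spec E 2 2423 38197 edges_2_19 v (by omega) (by omega)
            · rcases Nat.lt_or_ge v 42675 with h | h
              · exact edgesRange_spec E 2 2055 40620 edges_2_20 v (by omega) (by omega)
              · rcases Nat.lt_or_ge v 45106 with h | h
                · exact edgesRange_spec E 2 2431 42675 edges_2_21 v (by omega) (by omega)
                · exact edgesRange_spec E 2 2133 45106 edges_2_22 v (by omega) (by omega)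
      · rcases Nat.lt_or_ge v 76299 with h | h
        · rcases Nat.lt_or_ge v 61678 with h | h
          · rcases Nat.lt_or_ge v 54481 with h | h
            · rcases Nat.lt_or_ge v 49515 with h | h
              · exact edgesRange_spec E 2 2276 47239 edges_2_23 v (by omega) (by omega)
              · rcases Nat.lt_or_ge v 52031 with h | h
                · exact edgesRange_spec E 2 2516 49515 edges_2_24 v (by omega) (by omega)
                · exact edgesRange_spec E 2 2450 52031 edges_2_25 v (by omega) (by omega)
            · rcases Nat.lt_or_ge v 56798 with h | h
              · exact edgesRange_spec E 2 2317 54481 edges_2_26 v (by omega) (by omega)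
              · rcases Nat.lt_or_ge v 59202 with h | h
                · exact edgesRange_spec E 2 2404 56798 edges_2_27 v (by omega) (by omega)
                · exact edgesRange_spec E 2 2476 59202 edges_2_28 v (by omega) (by omega)
          · rcases Nat.lt_or_ge v 68609 with h | h
            · rcases Nat.lt_or_ge v 63785 with h | h
              · exact edgesRange_spec E 2 2107 61678 edges_2_29 v (by omega) (by omega)
              · rcases Nat.lt_or_ge v 66093 with h | h
                · exact edgesRange_spec E 2 2308 63785 edges_2_30 v (by omega) (by omega)
                · exact edgesRange_spec E 2 2516 66093 edges_2_31 v (by omega) (by omega)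
            · rcases Nat.lt_or_ge v 71513 with h | h
              · exact edgesRange_spec E 2 2904 68609 edges_2_32 v (by omega) (by omega)
              · rcases Nat.lt_or_ge v 74014 with h | h
                · exact edgesRange_spec E 2 2501 71513 edges_2_33 v (by omega) (by omega)
                · exact edgesRange_spec E 2 2285 74014 edges_2_34 v (by omega) (by omega)
        · rcases Nat.lt_or_ge v 90860 with h | h
          · rcases Nat.lt_or_ge v 83646 with h | h
            · rcases Nat.lt_or_ge v 78725 with h | h
              · exact edgesRange_spec E 2 2426 76299 edges_2_35 v (by omega) (by omega)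
              · rcases Nat.lt_or_ge v 81370 with h | h
                · exact edgesRange_spec E 2 2645 78725 edges_2_36 v (by omega) (by omega)
                · exact edgesRange_spec E 2 2276 81370 edges_2_37 v (by omega) (by omega)
            · rcases Nat.lt_or_ge v 85687 with h | h
              · exact edgesRange_spec E 2 2041 83646 edges_2_38 v (by omega) (by omega)
              · rcases Nat.lt_or_ge v 88119 with h | h
                · exact edgesRange_spec E 2 2432 85687 edges_2_39 v (by omega) (by omega)
                · exact edgesRange_spec E 2 2741 88119 edges_2_40 v (by omega) (by omega)
          · rcases Nat.lt_or_ge v 98873 with h | h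
            · rcases Nat.lt_or_ge v 93942 with h | h
              · exact edgesRange_spec E 2 3082 90860 edges_2_41 v (by omega) (by omega)
              · rcases Nat.lt_or_ge v 96075 with h | h
                · exact edgesRange_spec E 2 2133 93942 edges_2_42 v (by omega) (by omega)
                · exact edgesRange_spec E 2 2798 96075 edges_2_43 v (by omega) (by omega)
            · rcases Nat.lt_or_ge v 100991 with h | h
              · exact edgesRange_spec E 2 2118 98873 edges_2_44 v (by omega) (by omega)
              · rcases Nat.lt_or_ge v 103436 with h | h
                · exact edgesRange_spec E 2 2445 100991 edges_2_45 v (by omega) (by omega)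
                · exact edgesRange_spec E 2 2603 103436 edges_2_46 v (by omega) (by omega)
    · rcases Nat.lt_or_ge v 152073 with h | h
      · rcases Nat.lt_or_ge v 130481 with h | h
        · rcases Nat.lt_or_ge v 117801 with h | h
          · rcases Nat.lt_or_ge v 110462 with h | h
            · rcases Nat.lt_or_ge v 108261 with h | h
              · exact edgesRange_spec E 2 2222 106039 edges_2_47 v (by omega) (by omega)
              · exact edgesRange_spec E 2 2201 108261 edges_2_48 v (by omega) (by omega)
            · rcases Nat.lt_or_ge v 112530 with h | h
              · exact edgesRange_spec E 2 2068 110462 edges_2_49 v (by omega) (by omega)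
              · rcases Nat.lt_or_ge v 114979 with h | h
                · exact edgesRange_spec E 2 2449 112530 edges_2_50 v (by omega) (by omega)
                · exact edgesRange_spec E 2 2822 114979 edges_2_51 v (by omega) (by omega)
          · rcases Nat.lt_or_ge v 125053 with h | h
            · rcases Nat.lt_or_ge v 120491 with h | h
              · exact edgesRange_spec E 2 2690 117801 edges_2_52 v (by omega) (by omega)
              · rcases Nat.lt_or_ge v 122602 with h | h
                · exact edgesRange_spec E 2 2111 120491 edges_2_53 v (by omega) (by omega)
                · exact edgesRange_spec E 2 2451 122602 edges_2_54 v (by omega) (by omega)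
            · rcases Nat.lt_or_ge v 126819 with h | h
              · exact edgesRange_spec E 2 1766 125053 edges_2_55 v (by omega) (by omega)
              · rcases Nat.lt_or_ge v 128721 with h | h
                · exact edgesRange_spec E 2 1902 126819 edges_2_56 v (by omega) (by omega)
                · exact edgesRange_spec E 2 1760 128721 edges_2_57 v (by omega) (by omega)
        · rcases Nat.lt_or_ge v 141250 with h | h
          · rcases Nat.lt_or_ge v 136050 with h | h
            · rcases Nat.lt_or_ge v 132355 with h | h
              · exact edgesRange_spec E 2 1874 130481 edges_2_58 v (by omega) (by omega)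
              · rcases Nat.lt_or_ge v 134185 with h | h
                · exact edgesRange_spec E 2 1830 132355 edges_2_59 v (by omega) (by omega)
                · exact edgesRange_spec E 2 1865 134185 edges_2_60 v (by omega) (by omega)
            · rcases Nat.lt_or_ge v 137804 with h | h
              · exact edgesRange_spec E 2 1754 136050 edges_2_61 v (by omega) (by omega)
              · rcases Nat.lt_or_ge v 139516 with h | h
                · exact edgesRange_spec E 2 1712 137804 edges_2_62 v (by omega) (by omega)
                · exact edgesRange_spec E 2 1734 139516 edges_2_63 v (by omega) (by omega)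
          · rcases Nat.lt_or_ge v 146645 with h | h
            · rcases Nat.lt_or_ge v 142972 with h | h
              · exact edgesRange_spec E 2 1722 141250 edges_2_64 v (by omega) (by omega)
              · rcases Nat.lt_or_ge v 144804 with h | h
                · exact edgesRange_spec E 2 1832 142972 edges_2_65 v (by omega) (by omega)
                · exact edgesRange_spec E 2 1841 144804 edges_2_66 v (by omega) (by omega)
            · rcases Nat.lt_or_ge v 148476 with h | h
              · exact edgesRange_spec E 2 1831 146645 edges_2_67 v (by omega) (by omega)
              · rcases Nat.lt_or_ge v 150321 with h | h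
                · exact edgesRange_spec E 2 1845 148476 edges_2_68 v (by omega) (by omega)
                · exact edgesRange_spec E 2 1752 150321 edges_2_69 v (by omega) (by omega)
      · rcases Nat.lt_or_ge v 173512 with h | h
        · rcases Nat.lt_or_ge v 162640 with h | h
          · rcases Nat.lt_or_ge v 157460 with h | h
            · rcases Nat.lt_or_ge v 153926 with h | h
              · exact edgesRange_spec E 2 1853 152073 edges_2_70 v (by omega) (by omega)
              · rcases Nat.lt_or_ge v 155673 with h | h
                · exact edgesRange_spec E 2 1747 153926 edges_2_71 v (by omega) (by omega)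
                · exact edgesRange_spec E 2 1787 155673 edges_2_72 v (by omega) (by omega)
            · rcases Nat.lt_or_ge v 159167 with h | h
              · exact edgesRange_spec E 2 1707 157460 edges_2_73 v (by omega) (by omega)
              · rcases Nat.lt_or_ge v 160792 with h | h
                · exact edgesRange_spec E 2 1625 159167 edges_2_74 v (by omega) (by omega)
                · exact edgesRange_spec E 2 1848 160792 edges_2_75 v (by omega) (by omega)
          · rcases Nat.lt_or_ge v 168105 with h | h
            · rcases Nat.lt_or_ge v 164555 with h | h
              · exact edgesRange_spec E 2 1915 162640 edges_2_76 v (by omega) (by omega)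
              · rcases Nat.lt_or_ge v 166247 with h | h
                · exact edgesRange_spec E 2 1692 164555 edges_2_77 v (by omega) (by omega)
                · exact edgesRange_spec E 2 1858 166247 edges_2_78 v (by omega) (by omega)
            · rcases Nat.lt_or_ge v 169972 with h | h
              · exact edgesRange_spec E 2 1867 168105 edges_2_79 v (by omega) (by omega)
              · rcases Nat.lt_or_ge v 171680 with h | h
                · exact edgesRange_spec E 2 1708 169972 edges_2_80 v (by omega) (by omega)
                · exact edgesRange_spec E 2 1832 171680 edges_2_81 v (by omega) (by omega)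
        · rcases Nat.lt_or_ge v 184041 with h | h
          · rcases Nat.lt_or_ge v 178820 with h | h
            · rcases Nat.lt_or_ge v 175322 with h | h
              · exact edgesRange_spec E 2 1810 173512 edges_2_82 v (by omega) (by omega)
              · rcases Nat.lt_or_ge v 177118 with h | h
                · exact edgesRange_spec E 2 1796 175322 edges_2_83 v (by omega) (by omega)
                · exact edgesRange_spec E 2 1702 177118 edges_2_84 v (by omega) (by omega)
            · rcases Nat.lt_or_ge v 180448 with h | h
              · exact edgesRange_spec E 2 1628 178820 edges_2_85 v (by omega) (by omega)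
              · rcases Nat.lt_or_ge v 182255 with h | h
                · exact edgesRange_spec E 2 1807 180448 edges_2_86 v (by omega) (by omega)
                · exact edgesRange_spec E 2 1786 182255 edges_2_87 v (by omega) (by omega)
          · rcases Nat.lt_or_ge v 189395 with h | h
            · rcases Nat.lt_or_ge v 185840 with h | h
              · exact edgesRange_spec E 2 1799 184041 edges_2_88 v (by omega) (by omega)
              · rcases Nat.lt_or_ge v 187625 with h | h
                · exact edgesRange_spec E 2 1785 185840 edges_2_89 v (by omega) (by omega)
                · exact edgesRange_spec E 2 1770 187625 edges_2_90 v (by omega) (by omega)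
            · rcases Nat.lt_or_ge v 191263 with h | h
              · exact edgesRange_spec E 2 1868 189395 edges_2_91 v (by omega) (by omega)
              · rcases Nat.lt_or_ge v 192967 with h | h
                · exact edgesRange_spec E 2 1704 191263 edges_2_92 v (by omega) (by omega)
                · exact edgesRange_spec E 2 1876 192967 edges_2_93 v (by omega) (by omega)
  · rcases Nat.lt_or_ge v 277815 with h | h
    · rcases Nat.lt_or_ge v 235595 with h | h
      · rcases Nat.lt_or_ge v 214348 with h | h
        · rcases Nat.lt_or_ge v 203593 with h | h
          · rcases Nat.lt_or_ge v 198537 with h | h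
            · rcases Nat.lt_or_ge v 196689 with h | h
              · exact edgesRange_spec E 2 1846 194843 edges_2_94 v (by omega) (by omega)
              · exact edgesRange_spec E 2 1848 196689 edges_2_95 v (by omega) (by omega)
            · rcases Nat.lt_or_ge v 200184 with h | h
              · exact edgesRange_spec E 2 1647 198537 edges_2_96 v (by omega) (by omega)
              · rcases Nat.lt_or_ge v 201819 with h | h
                · exact edgesRange_spec E 2 1635 200184 edges_2_97 v (by omega) (by omega)
                · exact edgesRange_spec E 2 1774 201819 edges_2_98 v (by omega) (by omega)
          · rcases Nat.lt_or_ge v 208924 with h | h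
            · rcases Nat.lt_or_ge v 205309 with h | h
              · exact edgesRange_spec E 2 1716 203593 edges_2_99 v (by omega) (by omega)
              · rcases Nat.lt_or_ge v 207195 with h | h
                · exact edgesRange_spec E 2 1886 205309 edges_2_100 v (by omega) (by omega)
                · exact edgesRange_spec E 2 1729 207195 edges_2_101 v (by omega) (by omega)
            · rcases Nat.lt_or_ge v 210751 with h | h
              · exact edgesRange_spec E 2 1827 208924 edges_2_102 v (by omega) (by omega)
              · rcases Nat.lt_or_ge v 212596 with h | h
                · exact edgesRange_spec E 2 1845 210751 edges_2_103 v (by omega) (by omega)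
                · exact edgesRange_spec E 2 1752 212596 edges_2_104 v (by omega) (by omega)
        · rcases Nat.lt_or_ge v 224933 with h | h
          · rcases Nat.lt_or_ge v 219853 with h | h
            · rcases Nat.lt_or_ge v 216129 with h | h
              · exact edgesRange_spec E 2 1781 214348 edges_2_105 v (by omega) (by omega)
              · rcases Nat.lt_or_ge v 217993 with h | h
                · exact edgesRange_spec E 2 1864 216129 edges_2_106 v (by omega) (by omega)
                · exact edgesRange_spec E 2 1860 217993 edges_2_107 v (by omega) (by omega)
            · rcases Nat.lt_or_ge v 221672 with h | h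
              · exact edgesRange_spec E 2 1819 219853 edges_2_108 v (by omega) (by omega)
              · rcases Nat.lt_or_ge v 223291 with h | h
                · exact edgesRange_spec E 2 1619 221672 edges_2_109 v (by omega) (by omega)
                · exact edgesRange_spec E 2 1642 223291 edges_2_110 v (by omega) (by omega)
          · rcases Nat.lt_or_ge v 230230 with h | h
            · rcases Nat.lt_or_ge v 226686 with h | h
              · exact edgesRange_spec E 2 1753 224933 edges_2_111 v (by omega) (by omega)
              · rcases Nat.lt_or_ge v 228372 with h | h
                · exact edgesRange_spec E 2 1686 226686 edges_2_112 v (by omega) (by omega)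
                · exact edgesRange_spec E 2 1858 228372 edges_2_113 v (by omega) (by omega)
            · rcases Nat.lt_or_ge v 231931 with h | h
              · exact edgesRange_spec E 2 1701 230230 edges_2_114 v (by omega) (by omega)
              · rcases Nat.lt_or_ge v 233855 with h | h
                · exact edgesRange_spec E 2 1924 231931 edges_2_115 v (by omega) (by omega)
                · exact edgesRange_spec E 2 1740 233855 edges_2_116 v (by omega) (by omega)
      · rcases Nat.lt_or_ge v 256646 with h | h
        · rcases Nat.lt_or_ge v 246562 with h | h
          · rcases Nat.lt_or_ge v 240988 with h | h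
            · rcases Nat.lt_or_ge v 237460 with h | h
              · exact edgesRange_spec E 2 1865 235595 edges_2_117 v (by omega) (by omega)
              · rcases Nat.lt_or_ge v 239176 with h | h
                · exact edgesRange_spec E 2 1716 237460 edges_2_118 v (by omega) (by omega)
                · exact edgesRange_spec E 2 1812 239176 edges_2_119 v (by omega) (by omega)
            · rcases Nat.lt_or_ge v 242881 with h | h
              · exact edgesRange_spec E 2 1893 240988 edges_2_120 v (by omega) (by omega)
              · rcases Nat.lt_or_ge v 244794 with h | h
                · exact edgesRange_spec E 2 1913 242881 edges_2_121 v (by omega) (by omega)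
                · exact edgesRange_spec E 2 1768 244794 edges_2_122 v (by omega) (by omega)
          · rcases Nat.lt_or_ge v 251485 with h | h
            · rcases Nat.lt_or_ge v 248147 with h | h
              · exact edgesRange_spec E 2 1585 246562 edges_2_123 v (by omega) (by omega)
              · rcases Nat.lt_or_ge v 249748 with h | h
                · exact edgesRange_spec E 2 1601 248147 edges_2_124 v (by omega) (by omega)
                · exact edgesRange_spec E 2 1737 249748 edges_2_125 v (by omega) (by omega)
            · rcases Nat.lt_or_ge v 253150 with h | h
              · exact edgesRange_spec E 2 1665 251485 edges_2_126 v (by omega) (by omega)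
              · rcases Nat.lt_or_ge v 254954 with h | h
                · exact edgesRange_spec E 2 1804 253150 edges_2_127 v (by omega) (by omega)
                · exact edgesRange_spec E 2 1692 254954 edges_2_128 v (by omega) (by omega)
        · rcases Nat.lt_or_ge v 267545 with h | h
          · rcases Nat.lt_or_ge v 262219 with h | h
            · rcases Nat.lt_or_ge v 258599 with h | h
              · exact edgesRange_spec E 2 1953 256646 edges_2_129 v (by omega) (by omega)
              · rcases Nat.lt_or_ge v 260288 with h | h
                · exact edgesRange_spec E 2 1689 258599 edges_2_130 v (by omega) (by omega)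
                · exact edgesRange_spec E 2 1931 260288 edges_2_131 v (by omega) (by omega)
            · rcases Nat.lt_or_ge v 263897 with h | h
              · exact edgesRange_spec E 2 1678 262219 edges_2_132 v (by omega) (by omega)
              · rcases Nat.lt_or_ge v 265658 with h | h
                · exact edgesRange_spec E 2 1761 263897 edges_2_133 v (by omega) (by omega)
                · exact edgesRange_spec E 2 1887 265658 edges_2_134 v (by omega) (by omega)
          · rcases Nat.lt_or_ge v 272936 with h | h
            · rcases Nat.lt_or_ge v 269419 with h | h
              · exact edgesRange_spec E 2 1874 267545 edges_2_135 v (by omega) (by omega)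
              · rcases Nat.lt_or_ge v 271300 with h | h
                · exact edgesRange_spec E 2 1881 269419 edges_2_136 v (by omega) (by omega)
                · exact edgesRange_spec E 2 1636 271300 edges_2_137 v (by omega) (by omega)
            · rcases Nat.lt_or_ge v 274566 with h | h
              · exact edgesRange_spec E 2 1630 272936 edges_2_138 v (by omega) (by omega)
              · rcases Nat.lt_or_ge v 276160 with h | h
                · exact edgesRange_spec E 2 1594 274566 edges_2_139 v (by omega) (by omega)
                · exact edgesRange_spec E 2 1655 276160 edges_2_140 v (by omega) (by omega)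
    · rcases Nat.lt_or_ge v 317981 with h | h
      · rcases Nat.lt_or_ge v 297508 with h | h
        · rcases Nat.lt_or_ge v 286618 with h | h
          · rcases Nat.lt_or_ge v 281260 with h | h
            · rcases Nat.lt_or_ge v 279525 with h | h
              · exact edgesRange_spec E 2 1710 277815 edges_2_141 v (by omega) (by omega)
              · exact edgesRange_spec E 2 1735 279525 edges_2_142 v (by omega) (by omega)
            · rcases Nat.lt_or_ge v 283017 with h | h
              · exact edgesRange_spec E 2 1757 281260 edges_2_143 v (by omega) (by omega)
              · rcases Nat.lt_or_ge v 284801 with h | h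
                · exact edgesRange_spec E 2 1784 283017 edges_2_144 v (by omega) (by omega)
                · exact edgesRange_spec E 2 1817 284801 edges_2_145 v (by omega) (by omega)
          · rcases Nat.lt_or_ge v 291933 with h | h
            · rcases Nat.lt_or_ge v 288442 with h | h
              · exact edgesRange_spec E 2 1824 286618 edges_2_146 v (by omega) (by omega)
              · rcases Nat.lt_or_ge v 290122 with h | h
                · exact edgesRange_spec E 2 1680 288442 edges_2_147 v (by omega) (by omega)
                · exact edgesRange_spec E 2 1811 290122 edges_2_148 v (by omega) (by omega)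
            · rcases Nat.lt_or_ge v 293794 with h | h
              · exact edgesRange_spec E 2 1861 291933 edges_2_149 v (by omega) (by omega)
              · rcases Nat.lt_or_ge v 295738 with h | h
                · exact edgesRange_spec E 2 1944 293794 edges_2_150 v (by omega) (by omega)
                · exact edgesRange_spec E 2 1770 295738 edges_2_151 v (by omega) (by omega)
        · rcases Nat.lt_or_ge v 307257 with h | h
          · rcases Nat.lt_or_ge v 302220 with h | h
            · rcases Nat.lt_or_ge v 299082 with h | h
              · exact edgesRange_spec E 2 1574 297508 edges_2_152 v (by omega) (by omega)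
              · rcases Nat.lt_or_ge v 300588 with h | h
                · exact edgesRange_spec E 2 1506 299082 edges_2_153 v (by omega) (by omega)
                · exact edgesRange_spec E 2 1632 300588 edges_2_154 v (by omega) (by omega)
            · rcases Nat.lt_or_ge v 303842 with h | h
              · exact edgesRange_spec E 2 1622 302220 edges_2_155 v (by omega) (by omega)
              · rcases Nat.lt_or_ge v 305518 with h | h
                · exact edgesRange_spec E 2 1676 303842 edges_2_156 v (by omega) (by omega)
                · exact edgesRange_spec E 2 1739 305518 edges_2_157 v (by omega) (by omega)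
          · rcases Nat.lt_or_ge v 312537 with h | h
            · rcases Nat.lt_or_ge v 308996 with h | h
              · exact edgesRange_spec E 2 1739 307257 edges_2_158 v (by omega) (by omega)
              · rcases Nat.lt_or_ge v 310786 with h | h
                · exact edgesRange_spec E 2 1790 308996 edges_2_159 v (by omega) (by omega)
                · exact edgesRange_spec E 2 1751 310786 edges_2_160 v (by omega) (by omega)
            · rcases Nat.lt_or_ge v 314237 with h | h
              · exact edgesRange_spec E 2 1700 312537 edges_2_161 v (by omega) (by omega)
              · rcases Nat.lt_or_ge v 316028 with h | h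
                · exact edgesRange_spec E 2 1791 314237 edges_2_162 v (by omega) (by omega)
                · exact edgesRange_spec E 2 1953 316028 edges_2_163 v (by omega) (by omega)
      · rcases Nat.lt_or_ge v 338105 with h | h
        · rcases Nat.lt_or_ge v 327694 with h | h
          · rcases Nat.lt_or_ge v 322809 with h | h
            · rcases Nat.lt_or_ge v 319827 with h | h
              · exact edgesRange_spec E 2 1846 317981 edges_2_164 v (by omega) (by omega)
              · rcases Nat.lt_or_ge v 321348 with h | h
                · exact edgesRange_spec E 2 1521 319827 edges_2_165 v (by omega) (by omega)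
                · exact edgesRange_spec E 2 1461 321348 edges_2_166 v (by omega) (by omega)
            · rcases Nat.lt_or_ge v 324361 with h | h
              · exact edgesRange_spec E 2 1552 322809 edges_2_167 v (by omega) (by omega)
              · rcases Nat.lt_or_ge v 325983 with h | h
                · exact edgesRange_spec E 2 1622 324361 edges_2_168 v (by omega) (by omega)
                · exact edgesRange_spec E 2 1711 325983 edges_2_169 v (by omega) (by omega)
          · rcases Nat.lt_or_ge v 332851 with h | h
            · rcases Nat.lt_or_ge v 329427 with h | h
              · exact edgesRange_spec E 2 1733 327694 edges_2_170 v (by omega) (by omega)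
              · rcases Nat.lt_or_ge v 331222 with h | h
                · exact edgesRange_spec E 2 1795 329427 edges_2_171 v (by omega) (by omega)
                · exact edgesRange_spec E 2 1629 331222 edges_2_172 v (by omega) (by omega)
            · rcases Nat.lt_or_ge v 334748 with h | h
              · exact edgesRange_spec E 2 1897 332851 edges_2_173 v (by omega) (by omega)
              · rcases Nat.lt_or_ge v 336631 with h | h
                · exact edgesRange_spec E 2 1883 334748 edges_2_174 v (by omega) (by omega)
                · exact edgesRange_spec E 2 1474 336631 edges_2_175 v (by omega) (by omega)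
        · rcases Nat.lt_or_ge v 348056 with h | h
          · rcases Nat.lt_or_ge v 342956 with h | h
            · rcases Nat.lt_or_ge v 339606 with h | h
              · exact edgesRange_spec E 2 1501 338105 edges_2_176 v (by omega) (by omega)
              · rcases Nat.lt_or_ge v 341218 with h | h
                · exact edgesRange_spec E 2 1612 339606 edges_2_177 v (by omega) (by omega)
                · exact edgesRange_spec E 2 1738 341218 edges_2_178 v (by omega) (by omega)
            · rcases Nat.lt_or_ge v 344643 with h | h
              · exact edgesRange_spec E 2 1687 342956 edges_2_179 v (by omega) (by omega)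
              · rcases Nat.lt_or_ge v 346511 with h | h
                · exact edgesRange_spec E 2 1868 344643 edges_2_180 v (by omega) (by omega)
                · exact edgesRange_spec E 2 1545 346511 edges_2_181 v (by omega) (by omega)
          · rcases Nat.lt_or_ge v 352966 with h | h
            · rcases Nat.lt_or_ge v 349595 with h | h
              · exact edgesRange_spec E 2 1539 348056 edges_2_182 v (by omega) (by omega)
              · rcases Nat.lt_or_ge v 351249 with h | h
                · exact edgesRange_spec E 2 1654 349595 edges_2_183 v (by omega) (by omega)
                · exact edgesRange_spec E 2 1717 351249 edges_2_184 v (by omega) (by omega)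
            · rcases Nat.lt_or_ge v 354467 with h | h
              · exact edgesRange_spec E 2 1501 352966 edges_2_185 v (by omega) (by omega)
              · rcases Nat.lt_or_ge v 356030 with h | h
                · exact edgesRange_spec E 2 1563 354467 edges_2_186 v (by omega) (by omega)
                · exact edgesRange_spec E 2 1019 356030 edges_2_187 v (by omega) (by omega)

theorem edgesx_3 : ∀ v, v < 357049 → edgeOK E 3 v = true := by
  intro v hv
  rcases Nat.lt_or_ge v 195548 with h | h
  · rcases Nat.lt_or_ge v 106990 with h | h
    · rcases Nat.lt_or_ge v 48512 with h | h
      · rcases Nat.lt_or_ge v 21773 with h | h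
        · rcases Nat.lt_or_ge v 9964 with h | h
          · rcases Nat.lt_or_ge v 3812 with h | h
            · rcases Nat.lt_or_ge v 1841 with h | h
              · exact edgesRange_spec E 3 1841 0 edges_3_0 v (by omega) (by omega)
              · exact edgesRange_spec E 3 1971 1841 edges_3_1 v (by omega) (by omega)
            · rcases Nat.lt_or_ge v 5822 with h | h
              · exact edgesRange_spec E 3 2010 3812 edges_3_2 v (by omega) (by omega)
              · rcases Nat.lt_or_ge v 7896 with h | h
                · exact edgesRange_spec E 3 2074 5822 edges_3_3 v (by omega) (by omega)
                · exact edgesRange_spec E 3 2068 7896 edges_3_4 v (by omega) (by omega)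
          · rcases Nat.lt_or_ge v 15642 with h | h
            · rcases Nat.lt_or_ge v 11841 with h | h
              · exact edgesRange_spec E 3 1877 9964 edges_3_5 v (by omega) (by omega)
              · rcases Nat.lt_or_ge v 13739 with h | h
                · exact edgesRange_spec E 3 1898 11841 edges_3_6 v (by omega) (by omega)
                · exact edgesRange_spec E 3 1903 13739 edges_3_7 v (by omega) (by omega)
            · rcases Nat.lt_or_ge v 17704 with h | h
              · exact edgesRange_spec E 3 2062 15642 edges_3_8 v (by omega) (by omega)
              · rcases Nat.lt_or_ge v 19618 with h | h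
                · exact edgesRange_spec E 3 1914 17704 edges_3_9 v (by omega) (by omega)
                · exact edgesRange_spec E 3 2155 19618 edges_3_10 v (by omega) (by omega)
        · rcases Nat.lt_or_ge v 34686 with h | h
          · rcases Nat.lt_or_ge v 28056 with h | h
            · rcases Nat.lt_or_ge v 23817 with h | h
              · exact edgesRange_spec E 3 2044 21773 edges_3_11 v (by omega) (by omega)
              · rcases Nat.lt_or_ge v 25891 with h | h
                · exact edgesRange_spec E 3 2074 23817 edges_3_12 v (by omega) (by omega)
                · exact edgesRange_spec E 3 2165 25891 edges_3_13 v (by omega) (by omega)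
            · rcases Nat.lt_or_ge v 30431 with h | h
              · exact edgesRange_spec E 3 2375 28056 edges_3_14 v (by omega) (by omega)
              · rcases Nat.lt_or_ge v 32547 with h | h
                · exact edgesRange_spec E 3 2116 30431 edges_3_15 v (by omega) (by omega)
                · exact edgesRange_spec E 3 2139 32547 edges_3_16 v (by omega) (by omega)
          · rcases Nat.lt_or_ge v 41811 with h | h
            · rcases Nat.lt_or_ge v 36971 with h | h
              · exact edgesRange_spec E 3 2285 34686 edges_3_17 v (by omega) (by omega)
              · rcases Nat.lt_or_ge v 39477 with h | h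
                · exact edgesRange_spec E 3 2506 36971 edges_3_18 v (by omega) (by omega)
                · exact edgesRange_spec E 3 2334 39477 edges_3_19 v (by omega) (by omega)
            · rcases Nat.lt_or_ge v 44069 with h | h
              · exact edgesRange_spec E 3 2258 41811 edges_3_20 v (by omega) (by omega)
              · rcases Nat.lt_or_ge v 46277 with h | h
                · exact edgesRange_spec E 3 2208 44069 edges_3_21 v (by omega) (by omega)
                · exact edgesRange_spec E 3 2235 46277 edges_3_22 v (by omega) (by omega)
      · rcases Nat.lt_or_ge v 76207 with h | h
        · rcases Nat.lt_or_ge v 61070 with h | h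
          · rcases Nat.lt_or_ge v 53639 with h | h
            · rcases Nat.lt_or_ge v 50874 with h | h
              · exact edgesRange_spec E 3 2362 48512 edges_3_23 v (by omega) (by omega)
              · exact edgesRange_spec E 3 2765 50874 edges_3_24 v (by omega) (by omega)
            · rcases Nat.lt_or_ge v 56282 with h | h
              · exact edgesRange_spec E 3 2643 53639 edges_3_25 v (by omega) (by omega)
              · rcases Nat.lt_or_ge v 58382 with h | h
                · exact edgesRange_spec E 3 2100 56282 edges_3_26 v (by omega) (by omega)
                · exact edgesRange_spec E 3 2688 58382 edges_3_27 v (by omega) (by omega)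
          · rcases Nat.lt_or_ge v 68112 with h | h
            · rcases Nat.lt_or_ge v 63228 with h | h
              · exact edgesRange_spec E 3 2158 61070 edges_3_28 v (by omega) (by omega)
              · rcases Nat.lt_or_ge v 65496 with h | h
                · exact edgesRange_spec E 3 2268 63228 edges_3_29 v (by omega) (by omega)
                · exact edgesRange_spec E 3 2616 65496 edges_3_30 v (by omega) (by omega)
            · rcases Nat.lt_or_ge v 71133 with h | h
              · exact edgesRange_spec E 3 3021 68112 edges_3_31 v (by omega) (by omega)
              · rcases Nat.lt_or_ge v 73846 with h | h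
                · exact edgesRange_spec E 3 2713 71133 edges_3_32 v (by omega) (by omega)
                · exact edgesRange_spec E 3 2361 73846 edges_3_33 v (by omega) (by omega)
        · rcases Nat.lt_or_ge v 91000 with h | h
          · rcases Nat.lt_or_ge v 83591 with h | h
            · rcases Nat.lt_or_ge v 78531 with h | h
              · exact edgesRange_spec E 3 2324 76207 edges_3_34 v (by omega) (by omega)
              · rcases Nat.lt_or_ge v 81238 with h | h
                · exact edgesRange_spec E 3 2707 78531 edges_3_35 v (by omega) (by omega)
                · exact edgesRange_spec E 3 2353 81238 edges_3_36 v (by omega) (by omega)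
            · rcases Nat.lt_or_ge v 85747 with h | h
              · exact edgesRange_spec E 3 2156 83591 edges_3_37 v (by omega) (by omega)
              · rcases Nat.lt_or_ge v 88291 with h | h
                · exact edgesRange_spec E 3 2544 85747 edges_3_38 v (by omega) (by omega)
                · exact edgesRange_spec E 3 2709 88291 edges_3_39 v (by omega) (by omega)
          · rcases Nat.lt_or_ge v 99497 with h | h
            · rcases Nat.lt_or_ge v 94086 with h | h
              · exact edgesRange_spec E 3 3086 91000 edges_3_40 v (by omega) (by omega)
              · rcases Nat.lt_or_ge v 96825 with h | h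
                · exact edgesRange_spec E 3 2739 94086 edges_3_41 v (by omega) (by omega)
                · exact edgesRange_spec E 3 2672 96825 edges_3_42 v (by omega) (by omega)
            · rcases Nat.lt_or_ge v 101632 with h | h
              · exact edgesRange_spec E 3 2135 99497 edges_3_43 v (by omega) (by omega)
              · rcases Nat.lt_or_ge v 104347 with h | h
                · exact edgesRange_spec E 3 2715 101632 edges_3_44 v (by omega) (by omega)
                · exact edgesRange_spec E 3 2643 104347 edges_3_45 v (by omega) (by omega)
    · rcases Nat.lt_or_ge v 153891 with h | h
      · rcases Nat.lt_or_ge v 131920 with h | h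
        · rcases Nat.lt_or_ge v 119058 with h | h
          · rcases Nat.lt_or_ge v 111354 with h | h
            · rcases Nat.lt_or_ge v 109163 with h | h
              · exact edgesRange_spec E 3 2173 106990 edges_3_46 v (by omega) (by omega)
              · exact edgesRange_spec E 3 2191 109163 edges_3_47 v (by omega) (by omega)
            · rcases Nat.lt_or_ge v 113576 with h | h
              · exact edgesRange_spec E 3 2222 111354 edges_3_48 v (by omega) (by omega)
              · rcases Nat.lt_or_ge v 116431 with h | h
                · exact edgesRange_spec E 3 2855 113576 edges_3_49 v (by omega) (by omega)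
                · exact edgesRange_spec E 3 2627 116431 edges_3_50 v (by omega) (by omega)
          · rcases Nat.lt_or_ge v 126419 with h | h
            · rcases Nat.lt_or_ge v 121712 with h | h
              · exact edgesRange_spec E 3 2654 119058 edges_3_51 v (by omega) (by omega)
              · rcases Nat.lt_or_ge v 124595 with h | h
                · exact edgesRange_spec E 3 2883 121712 edges_3_52 v (by omega) (by omega)
                · exact edgesRange_spec E 3 1824 124595 edges_3_53 v (by omega) (by omega)
            · rcases Nat.lt_or_ge v 128328 with h | h
              · exact edgesRange_spec E 3 1909 126419 edges_3_54 v (by omega) (by omega)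
              · rcases Nat.lt_or_ge v 130065 with h | h
                · exact edgesRange_spec E 3 1737 128328 edges_3_55 v (by omega) (by omega)
                · exact edgesRange_spec E 3 1855 130065 edges_3_56 v (by omega) (by omega)
        · rcases Nat.lt_or_ge v 142852 with h | h
          · rcases Nat.lt_or_ge v 137497 with h | h
            · rcases Nat.lt_or_ge v 133796 with h | h
              · exact edgesRange_spec E 3 1876 131920 edges_3_57 v (by omega) (by omega)
              · rcases Nat.lt_or_ge v 135685 with h | h
                · exact edgesRange_spec E 3 1889 133796 edges_3_58 v (by omega) (by omega)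
                · exact edgesRange_spec E 3 1812 135685 edges_3_59 v (by omega) (by omega)
            · rcases Nat.lt_or_ge v 139293 with h | h
              · exact edgesRange_spec E 3 1796 137497 edges_3_60 v (by omega) (by omega)
              · rcases Nat.lt_or_ge v 141070 with h | h
                · exact edgesRange_spec E 3 1777 139293 edges_3_61 v (by omega) (by omega)
                · exact edgesRange_spec E 3 1782 141070 edges_3_62 v (by omega) (by omega)
          · rcases Nat.lt_or_ge v 148280 with h | h
            · rcases Nat.lt_or_ge v 144671 with h | h
              · exact edgesRange_spec E 3 1819 142852 edges_3_63 v (by omega) (by omega)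
              · rcases Nat.lt_or_ge v 146494 with h | h
                · exact edgesRange_spec E 3 1823 144671 edges_3_64 v (by omega) (by omega)
                · exact edgesRange_spec E 3 1786 146494 edges_3_65 v (by omega) (by omega)
            · rcases Nat.lt_or_ge v 150143 with h | h
              · exact edgesRange_spec E 3 1863 148280 edges_3_66 v (by omega) (by omega)
              · rcases Nat.lt_or_ge v 152001 with h | h
                · exact edgesRange_spec E 3 1858 150143 edges_3_67 v (by omega) (by omega)
                · exact edgesRange_spec E 3 1890 152001 edges_3_68 v (by omega) (by omega)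
      · rcases Nat.lt_or_ge v 173802 with h | h
        · rcases Nat.lt_or_ge v 162783 with h | h
          · rcases Nat.lt_or_ge v 157507 with h | h
            · rcases Nat.lt_or_ge v 155734 with h | h
              · exact edgesRange_spec E 3 1843 153891 edges_3_69 v (by omega) (by omega)
              · exact edgesRange_spec E 3 1773 155734 edges_3_70 v (by omega) (by omega)
            · rcases Nat.lt_or_ge v 159237 with h | h
              · exact edgesRange_spec E 3 1730 157507 edges_3_71 v (by omega) (by omega)
              · rcases Nat.lt_or_ge v 160979 with h | h
                · exact edgesRange_spec E 3 1742 159237 edges_3_72 v (by omega) (by omega)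
                · exact edgesRange_spec E 3 1804 160979 edges_3_73 v (by omega) (by omega)
          · rcases Nat.lt_or_ge v 168249 with h | h
            · rcases Nat.lt_or_ge v 164661 with h | h
              · exact edgesRange_spec E 3 1878 162783 edges_3_74 v (by omega) (by omega)
              · rcases Nat.lt_or_ge v 166349 with h | h
                · exact edgesRange_spec E 3 1688 164661 edges_3_75 v (by omega) (by omega)
                · exact edgesRange_spec E 3 1900 166349 edges_3_76 v (by omega) (by omega)
            · rcases Nat.lt_or_ge v 170109 with h | h
              · exact edgesRange_spec E 3 1860 168249 edges_3_77 v (by omega) (by omega)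
              · rcases Nat.lt_or_ge v 171896 with h | h
                · exact edgesRange_spec E 3 1787 170109 edges_3_78 v (by omega) (by omega)
                · exact edgesRange_spec E 3 1906 171896 edges_3_79 v (by omega) (by omega)
        · rcases Nat.lt_or_ge v 184527 with h | h
          · rcases Nat.lt_or_ge v 179148 with h | h
            · rcases Nat.lt_or_ge v 175677 with h | h
              · exact edgesRange_spec E 3 1875 173802 edges_3_80 v (by omega) (by omega)
              · rcases Nat.lt_or_ge v 177445 with h | h
                · exact edgesRange_spec E 3 1768 175677 edges_3_81 v (by omega) (by omega)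
                · exact edgesRange_spec E 3 1703 177445 edges_3_82 v (by omega) (by omega)
            · rcases Nat.lt_or_ge v 180894 with h | h
              · exact edgesRange_spec E 3 1746 179148 edges_3_83 v (by omega) (by omega)
              · rcases Nat.lt_or_ge v 182705 with h | h
                · exact edgesRange_spec E 3 1811 180894 edges_3_84 v (by omega) (by omega)
                · exact edgesRange_spec E 3 1822 182705 edges_3_85 v (by omega) (by omega)
          · rcases Nat.lt_or_ge v 190012 with h | h
            · rcases Nat.lt_or_ge v 186276 with h | h
              · exact edgesRange_spec E 3 1749 184527 edges_3_86 v (by omega) (by omega)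
              · rcases Nat.lt_or_ge v 188135 with h | h
                · exact edgesRange_spec E 3 1859 186276 edges_3_87 v (by omega) (by omega)
                · exact edgesRange_spec E 3 1877 188135 edges_3_88 v (by omega) (by omega)
            · rcases Nat.lt_or_ge v 191852 with h | h
              · exact edgesRange_spec E 3 1840 190012 edges_3_89 v (by omega) (by omega)
              · rcases Nat.lt_or_ge v 193641 with h | h
                · exact edgesRange_spec E 3 1789 191852 edges_3_90 v (by omega) (by omega)
                · exact edgesRange_spec E 3 1907 193641 edges_3_91 v (by omega) (by omega)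
  · rcases Nat.lt_or_ge v 279204 with h | h
    · rcases Nat.lt_or_ge v 237388 with h | h
      · rcases Nat.lt_or_ge v 215464 with h | h
        · rcases Nat.lt_or_ge v 204514 with h | h
          · rcases Nat.lt_or_ge v 199221 with h | h
            · rcases Nat.lt_or_ge v 197444 with h | h
              · exact edgesRange_spec E 3 1896 195548 edges_3_92 v (by omega) (by omega)
              · exact edgesRange_spec E 3 1777 197444 edges_3_93 v (by omega) (by omega)
            · rcases Nat.lt_or_ge v 200979 with h | h
              · exact edgesRange_spec E 3 1758 199221 edges_3_94 v (by omega) (by omega)
              · rcases Nat.lt_or_ge v 202713 with h | h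
                · exact edgesRange_spec E 3 1734 200979 edges_3_95 v (by omega) (by omega)
                · exact edgesRange_spec E 3 1801 202713 edges_3_96 v (by omega) (by omega)
          · rcases Nat.lt_or_ge v 209960 with h | h
            · rcases Nat.lt_or_ge v 206315 with h | h
              · exact edgesRange_spec E 3 1801 204514 edges_3_97 v (by omega) (by omega)
              · rcases Nat.lt_or_ge v 208103 with h | h
                · exact edgesRange_spec E 3 1788 206315 edges_3_98 v (by omega) (by omega)
                · exact edgesRange_spec E 3 1857 208103 edges_3_99 v (by omega) (by omega)
            · rcases Nat.lt_or_ge v 211801 with h | h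
              · exact edgesRange_spec E 3 1841 209960 edges_3_100 v (by omega) (by omega)
              · rcases Nat.lt_or_ge v 213708 with h | h
                · exact edgesRange_spec E 3 1907 211801 edges_3_101 v (by omega) (by omega)
                · exact edgesRange_spec E 3 1756 213708 edges_3_102 v (by omega) (by omega)
        · rcases Nat.lt_or_ge v 226371 with h | h
          · rcases Nat.lt_or_ge v 221165 with h | h
            · rcases Nat.lt_or_ge v 217320 with h | h
              · exact edgesRange_spec E 3 1856 215464 edges_3_103 v (by omega) (by omega)
              · rcases Nat.lt_or_ge v 219270 with h | h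
                · exact edgesRange_spec E 3 1950 217320 edges_3_104 v (by omega) (by omega)
                · exact edgesRange_spec E 3 1895 219270 edges_3_105 v (by omega) (by omega)
            · rcases Nat.lt_or_ge v 222893 with h | h
              · exact edgesRange_spec E 3 1728 221165 edges_3_106 v (by omega) (by omega)
              · rcases Nat.lt_or_ge v 224624 with h | h
                · exact edgesRange_spec E 3 1731 222893 edges_3_107 v (by omega) (by omega)
                · exact edgesRange_spec E 3 1747 224624 edges_3_108 v (by omega) (by omega)
          · rcases Nat.lt_or_ge v 231744 with h | h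
            · rcases Nat.lt_or_ge v 228144 with h | h
              · exact edgesRange_spec E 3 1773 226371 edges_3_109 v (by omega) (by omega)
              · rcases Nat.lt_or_ge v 229944 with h | h
                · exact edgesRange_spec E 3 1800 228144 edges_3_110 v (by omega) (by omega)
                · exact edgesRange_spec E 3 1800 229944 edges_3_111 v (by omega) (by omega)
            · rcases Nat.lt_or_ge v 233625 with h | h
              · exact edgesRange_spec E 3 1881 231744 edges_3_112 v (by omega) (by omega)
              · rcases Nat.lt_or_ge v 235478 with h | h
                · exact edgesRange_spec E 3 1853 233625 edges_3_113 v (by omega) (by omega)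
                · exact edgesRange_spec E 3 1910 235478 edges_3_114 v (by omega) (by omega)
      · rcases Nat.lt_or_ge v 257364 with h | h
        · rcases Nat.lt_or_ge v 246717 with h | h
          · rcases Nat.lt_or_ge v 241018 with h | h
            · rcases Nat.lt_or_ge v 239189 with h | h
              · exact edgesRange_spec E 3 1801 237388 edges_3_115 v (by omega) (by omega)
              · exact edgesRange_spec E 3 1829 239189 edges_3_116 v (by omega) (by omega)
            · rcases Nat.lt_or_ge v 242941 with h | h
              · exact edgesRange_spec E 3 1923 241018 edges_3_117 v (by omega) (by omega)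
              · rcases Nat.lt_or_ge v 244880 with h | h
                · exact edgesRange_spec E 3 1939 242941 edges_3_118 v (by omega) (by omega)
                · exact edgesRange_spec E 3 1837 244880 edges_3_119 v (by omega) (by omega)
          · rcases Nat.lt_or_ge v 251941 with h | h
            · rcases Nat.lt_or_ge v 248424 with h | h
              · exact edgesRange_spec E 3 1707 246717 edges_3_120 v (by omega) (by omega)
              · rcases Nat.lt_or_ge v 250124 with h | h
                · exact edgesRange_spec E 3 1700 248424 edges_3_121 v (by omega) (by omega)
                · exact edgesRange_spec E 3 1817 250124 edges_3_122 v (by omega) (by omega)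
            · rcases Nat.lt_or_ge v 253670 with h | h
              · exact edgesRange_spec E 3 1729 251941 edges_3_123 v (by omega) (by omega)
              · rcases Nat.lt_or_ge v 255512 with h | h
                · exact edgesRange_spec E 3 1842 253670 edges_3_124 v (by omega) (by omega)
                · exact edgesRange_spec E 3 1852 255512 edges_3_125 v (by omega) (by omega)
        · rcases Nat.lt_or_ge v 268523 with h | h
          · rcases Nat.lt_or_ge v 262976 with h | h
            · rcases Nat.lt_or_ge v 259218 with h | h
              · exact edgesRange_spec E 3 1854 257364 edges_3_126 v (by omega) (by omega)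
              · rcases Nat.lt_or_ge v 261062 with h | h
                · exact edgesRange_spec E 3 1844 259218 edges_3_127 v (by omega) (by omega)
                · exact edgesRange_spec E 3 1914 261062 edges_3_128 v (by omega) (by omega)
            · rcases Nat.lt_or_ge v 264780 with h | h
              · exact edgesRange_spec E 3 1804 262976 edges_3_129 v (by omega) (by omega)
              · rcases Nat.lt_or_ge v 266579 with h | h
                · exact edgesRange_spec E 3 1799 264780 edges_3_130 v (by omega) (by omega)
                · exact edgesRange_spec E 3 1944 266579 edges_3_131 v (by omega) (by omega)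
          · rcases Nat.lt_or_ge v 274004 with h | h
            · rcases Nat.lt_or_ge v 270444 with h | h
              · exact edgesRange_spec E 3 1921 268523 edges_3_132 v (by omega) (by omega)
              · rcases Nat.lt_or_ge v 272331 with h | h
                · exact edgesRange_spec E 3 1887 270444 edges_3_133 v (by omega) (by omega)
                · exact edgesRange_spec E 3 1673 272331 edges_3_134 v (by omega) (by omega)
            · rcases Nat.lt_or_ge v 275680 with h | h
              · exact edgesRange_spec E 3 1676 274004 edges_3_135 v (by omega) (by omega)
              · rcases Nat.lt_or_ge v 277503 with h | h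
                · exact edgesRange_spec E 3 1823 275680 edges_3_136 v (by omega) (by omega)
                · exact edgesRange_spec E 3 1701 277503 edges_3_137 v (by omega) (by omega)
    · rcases Nat.lt_or_ge v 320545 with h | h
      · rcases Nat.lt_or_ge v 299313 with h | h
        · rcases Nat.lt_or_ge v 288397 with h | h
          · rcases Nat.lt_or_ge v 282900 with h | h
            · rcases Nat.lt_or_ge v 281034 with h | h
              · exact edgesRange_spec E 3 1830 279204 edges_3_138 v (by omega) (by omega)
              · exact edgesRange_spec E 3 1866 281034 edges_3_139 v (by omega) (by omega)
            · rcases Nat.lt_or_ge v 284683 with h | h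
              · exact edgesRange_spec E 3 1783 282900 edges_3_140 v (by omega) (by omega)
              · rcases Nat.lt_or_ge v 286545 with h | h
                · exact edgesRange_spec E 3 1862 284683 edges_3_141 v (by omega) (by omega)
                · exact edgesRange_spec E 3 1852 286545 edges_3_142 v (by omega) (by omega)
          · rcases Nat.lt_or_ge v 293837 with h | h
            · rcases Nat.lt_or_ge v 290166 with h | h
              · exact edgesRange_spec E 3 1769 288397 edges_3_143 v (by omega) (by omega)
              · rcases Nat.lt_or_ge v 291938 with h | h
                · exact edgesRange_spec E 3 1772 290166 edges_3_144 v (by omega) (by omega)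
                · exact edgesRange_spec E 3 1899 291938 edges_3_145 v (by omega) (by omega)
            · rcases Nat.lt_or_ge v 295783 with h | h
              · exact edgesRange_spec E 3 1946 293837 edges_3_146 v (by omega) (by omega)
              · rcases Nat.lt_or_ge v 297679 with h | h
                · exact edgesRange_spec E 3 1896 295783 edges_3_147 v (by omega) (by omega)
                · exact edgesRange_spec E 3 1634 297679 edges_3_148 v (by omega) (by omega)
        · rcases Nat.lt_or_ge v 309745 with h | h
          · rcases Nat.lt_or_ge v 304391 with h | h
            · rcases Nat.lt_or_ge v 300931 with h | h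
              · exact edgesRange_spec E 3 1618 299313 edges_3_149 v (by omega) (by omega)
              · rcases Nat.lt_or_ge v 302703 with h | h
                · exact edgesRange_spec E 3 1772 300931 edges_3_150 v (by omega) (by omega)
                · exact edgesRange_spec E 3 1688 302703 edges_3_151 v (by omega) (by omega)
            · rcases Nat.lt_or_ge v 306177 with h | h
              · exact edgesRange_spec E 3 1786 304391 edges_3_152 v (by omega) (by omega)
              · rcases Nat.lt_or_ge v 307997 with h | h
                · exact edgesRange_spec E 3 1820 306177 edges_3_153 v (by omega) (by omega)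
                · exact edgesRange_spec E 3 1748 307997 edges_3_154 v (by omega) (by omega)
          · rcases Nat.lt_or_ge v 315042 with h | h
            · rcases Nat.lt_or_ge v 311543 with h | h
              · exact edgesRange_spec E 3 1798 309745 edges_3_155 v (by omega) (by omega)
              · rcases Nat.lt_or_ge v 313270 with h | h
                · exact edgesRange_spec E 3 1727 311543 edges_3_156 v (by omega) (by omega)
                · exact edgesRange_spec E 3 1772 313270 edges_3_157 v (by omega) (by omega)
            · rcases Nat.lt_or_ge v 316861 with h | h
              · exact edgesRange_spec E 3 1819 315042 edges_3_158 v (by omega) (by omega)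
              · rcases Nat.lt_or_ge v 318895 with h | h
                · exact edgesRange_spec E 3 2034 316861 edges_3_159 v (by omega) (by omega)
                · exact edgesRange_spec E 3 1650 318895 edges_3_160 v (by omega) (by omega)
      · rcases Nat.lt_or_ge v 339069 with h | h
        · rcases Nat.lt_or_ge v 328855 with h | h
          · rcases Nat.lt_or_ge v 323794 with h | h
            · rcases Nat.lt_or_ge v 322099 with h | h
              · exact edgesRange_spec E 3 1554 320545 edges_3_161 v (by omega) (by omega)
              · exact edgesRange_spec E 3 1695 322099 edges_3_162 v (by omega) (by omega)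
            · rcases Nat.lt_or_ge v 325417 with h | h
              · exact edgesRange_spec E 3 1623 323794 edges_3_163 v (by omega) (by omega)
              · rcases Nat.lt_or_ge v 327127 with h | h
                · exact edgesRange_spec E 3 1710 325417 edges_3_164 v (by omega) (by omega)
                · exact edgesRange_spec E 3 1728 327127 edges_3_165 v (by omega) (by omega)
          · rcases Nat.lt_or_ge v 334016 with h | h
            · rcases Nat.lt_or_ge v 330594 with h | h
              · exact edgesRange_spec E 3 1739 328855 edges_3_166 v (by omega) (by omega)
              · rcases Nat.lt_or_ge v 332288 with h | h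
                · exact edgesRange_spec E 3 1694 330594 edges_3_167 v (by omega) (by omega)
                · exact edgesRange_spec E 3 1728 332288 edges_3_168 v (by omega) (by omega)
            · rcases Nat.lt_or_ge v 335920 with h | h
              · exact edgesRange_spec E 3 1904 334016 edges_3_169 v (by omega) (by omega)
              · rcases Nat.lt_or_ge v 337481 with h | h
                · exact edgesRange_spec E 3 1561 335920 edges_3_170 v (by omega) (by omega)
                · exact edgesRange_spec E 3 1588 337481 edges_3_171 v (by omega) (by omega)
        · rcases Nat.lt_or_ge v 348887 with h | h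
          · rcases Nat.lt_or_ge v 344043 with h | h
            · rcases Nat.lt_or_ge v 340706 with h | h
              · exact edgesRange_spec E 3 1637 339069 edges_3_172 v (by omega) (by omega)
              · rcases Nat.lt_or_ge v 342392 with h | h
                · exact edgesRange_spec E 3 1686 340706 edges_3_173 v (by omega) (by omega)
                · exact edgesRange_spec E 3 1651 342392 edges_3_174 v (by omega) (by omega)
            · rcases Nat.lt_or_ge v 345703 with h | h
              · exact edgesRange_spec E 3 1660 344043 edges_3_175 v (by omega) (by omega)
              · rcases Nat.lt_or_ge v 347335 with h | h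
                · exact edgesRange_spec E 3 1632 345703 edges_3_176 v (by omega) (by omega)
                · exact edgesRange_spec E 3 1552 347335 edges_3_177 v (by omega) (by omega)
          · rcases Nat.lt_or_ge v 353583 with h | h
            · rcases Nat.lt_or_ge v 350485 with h | h
              · exact edgesRange_spec E 3 1598 348887 edges_3_178 v (by omega) (by omega)
              · rcases Nat.lt_or_ge v 352078 with h | h
                · exact edgesRange_spec E 3 1593 350485 edges_3_179 v (by omega) (by omega)
                · exact edgesRange_spec E 3 1505 352078 edges_3_180 v (by omega) (by omega)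
            · rcases Nat.lt_or_ge v 355097 with h | h
              · exact edgesRange_spec E 3 1514 353583 edges_3_181 v (by omega) (by omega)
              · rcases Nat.lt_or_ge v 356646 with h | h
                · exact edgesRange_spec E 3 1549 355097 edges_3_182 v (by omega) (by omega)
                · exact edgesRange_spec E 3 403 356646 edges_3_183 v (by omega) (by omega)

theorem edgesx_4 : ∀ v, v < 357049 → edgeOK E 4 v = true := by
  intro v hv
  rcases Nat.lt_or_ge v 194946 with h | h
  · rcases Nat.lt_or_ge v 106283 with h | h
    · rcases Nat.lt_or_ge v 47985 with h | h
      · rcases Nat.lt_or_ge v 22869 with h | h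
        · rcases Nat.lt_or_ge v 10438 with h | h
          · rcases Nat.lt_or_ge v 3985 with h | h
            · rcases Nat.lt_or_ge v 1982 with h | h
              · exact edgesRange_spec E 4 1982 0 edges_4_0 v (by omega) (by omega)
              · exact edgesRange_spec E 4 2003 1982 edges_4_1 v (by omega) (by omega)
            · rcases Nat.lt_or_ge v 6053 with h | h
              · exact edgesRange_spec E 4 2068 3985 edges_4_2 v (by omega) (by omega)
              · rcases Nat.lt_or_ge v 8231 with h | h
                · exact edgesRange_spec E 4 2178 6053 edges_4_3 v (by omega) (by omega)
                · exact edgesRange_spec E 4 2207 8231 edges_4_4 v (by omega) (by omega)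
          · rcases Nat.lt_or_ge v 16423 with h | h
            · rcases Nat.lt_or_ge v 12397 with h | h
              · exact edgesRange_spec E 4 1959 10438 edges_4_5 v (by omega) (by omega)
              · rcases Nat.lt_or_ge v 14415 with h | h
                · exact edgesRange_spec E 4 2018 12397 edges_4_6 v (by omega) (by omega)
                · exact edgesRange_spec E 4 2008 14415 edges_4_7 v (by omega) (by omega)
            · rcases Nat.lt_or_ge v 18562 with h | h
              · exact edgesRange_spec E 4 2139 16423 edges_4_8 v (by omega) (by omega)
              · rcases Nat.lt_or_ge v 20622 with h | h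
                · exact edgesRange_spec E 4 2060 18562 edges_4_9 v (by omega) (by omega)
                · exact edgesRange_spec E 4 2247 20622 edges_4_10 v (by omega) (by omega)
        · rcases Nat.lt_or_ge v 34018 with h | h
          · rcases Nat.lt_or_ge v 27106 with h | h
            · rcases Nat.lt_or_ge v 24969 with h | h
              · exact edgesRange_spec E 4 2100 22869 edges_4_11 v (by omega) (by omega)
              · exact edgesRange_spec E 4 2137 24969 edges_4_12 v (by omega) (by omega)
            · rcases Nat.lt_or_ge v 29476 with h | h
              · exact edgesRange_spec E 4 2370 27106 edges_4_13 v (by omega) (by omega)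
              · rcases Nat.lt_or_ge v 31689 with h | h
                · exact edgesRange_spec E 4 2213 29476 edges_4_14 v (by omega) (by omega)
                · exact edgesRange_spec E 4 2329 31689 edges_4_15 v (by omega) (by omega)
          · rcases Nat.lt_or_ge v 41313 with h | h
            · rcases Nat.lt_or_ge v 36132 with h | h
              · exact edgesRange_spec E 4 2114 34018 edges_4_16 v (by omega) (by omega)
              · rcases Nat.lt_or_ge v 38617 with h | h
                · exact edgesRange_spec E 4 2485 36132 edges_4_17 v (by omega) (by omega)
                · exact edgesRange_spec E 4 2696 38617 edges_4_18 v (by omega) (by omega)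
            · rcases Nat.lt_or_ge v 43467 with h | h
              · exact edgesRange_spec E 4 2154 41313 edges_4_19 v (by omega) (by omega)
              · rcases Nat.lt_or_ge v 45884 with h | h
                · exact edgesRange_spec E 4 2417 43467 edges_4_20 v (by omega) (by omega)
                · exact edgesRange_spec E 4 2101 45884 edges_4_21 v (by omega) (by omega)
      · rcases Nat.lt_or_ge v 76865 with h | h
        · rcases Nat.lt_or_ge v 61142 with h | h
          · rcases Nat.lt_or_ge v 53384 with h | h
            · rcases Nat.lt_or_ge v 50525 with h | h
              · exact edgesRange_spec E 4 2540 47985 edges_4_22 v (by omega) (by omega)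
              · exact edgesRange_spec E 4 2859 50525 edges_4_23 v (by omega) (by omega)
            · rcases Nat.lt_or_ge v 56177 with h | h
              · exact edgesRange_spec E 4 2793 53384 edges_4_24 v (by omega) (by omega)
              · rcases Nat.lt_or_ge v 58350 with h | h
                · exact edgesRange_spec E 4 2173 56177 edges_4_25 v (by omega) (by omega)
                · exact edgesRange_spec E 4 2792 58350 edges_4_26 v (by omega) (by omega)
          · rcases Nat.lt_or_ge v 68503 with h | h
            · rcases Nat.lt_or_ge v 63354 with h | h
              · exact edgesRange_spec E 4 2212 61142 edges_4_27 v (by omega) (by omega)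
              · rcases Nat.lt_or_ge v 65814 with h | h
                · exact edgesRange_spec E 4 2460 63354 edges_4_28 v (by omega) (by omega)
                · exact edgesRange_spec E 4 2689 65814 edges_4_29 v (by omega) (by omega)
            · rcases Nat.lt_or_ge v 71563 with h | h
              · exact edgesRange_spec E 4 3060 68503 edges_4_30 v (by omega) (by omega)
              · rcases Nat.lt_or_ge v 74779 with h | h
                · exact edgesRange_spec E 4 3216 71563 edges_4_31 v (by omega) (by omega)
                · exact edgesRange_spec E 4 2086 74779 edges_4_32 v (by omega) (by omega)
        · rcases Nat.lt_or_ge v 89816 with h | h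
          · rcases Nat.lt_or_ge v 82312 with h | h
            · rcases Nat.lt_or_ge v 79614 with h | h
              · exact edgesRange_spec E 4 2749 76865 edges_4_33 v (by omega) (by omega)
              · exact edgesRange_spec E 4 2698 79614 edges_4_34 v (by omega) (by omega)
            · rcases Nat.lt_or_ge v 84535 with h | h
              · exact edgesRange_spec E 4 2223 82312 edges_4_35 v (by omega) (by omega)
              · rcases Nat.lt_or_ge v 86787 with h | h
                · exact edgesRange_spec E 4 2252 84535 edges_4_36 v (by omega) (by omega)
                · exact edgesRange_spec E 4 3029 86787 edges_4_37 v (by omega) (by omega)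
          · rcases Nat.lt_or_ge v 98821 with h | h
            · rcases Nat.lt_or_ge v 92607 with h | h
              · exact edgesRange_spec E 4 2791 89816 edges_4_38 v (by omega) (by omega)
              · rcases Nat.lt_or_ge v 95619 with h | h
                · exact edgesRange_spec E 4 3012 92607 edges_4_39 v (by omega) (by omega)
                · exact edgesRange_spec E 4 3202 95619 edges_4_40 v (by omega) (by omega)
            · rcases Nat.lt_or_ge v 101038 with h | h
              · exact edgesRange_spec E 4 2217 98821 edges_4_41 v (by omega) (by omega)
              · rcases Nat.lt_or_ge v 103508 with h | h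
                · exact edgesRange_spec E 4 2470 101038 edges_4_42 v (by omega) (by omega)
                · exact edgesRange_spec E 4 2775 103508 edges_4_43 v (by omega) (by omega)
    · rcases Nat.lt_or_ge v 153120 with h | h
      · rcases Nat.lt_or_ge v 132147 with h | h
        · rcases Nat.lt_or_ge v 118871 with h | h
          · rcases Nat.lt_or_ge v 110960 with h | h
            · rcases Nat.lt_or_ge v 108619 with h | h
              · exact edgesRange_spec E 4 2336 106283 edges_4_44 v (by omega) (by omega)
              · exact edgesRange_spec E 4 2341 108619 edges_4_45 v (by omega) (by omega)
            · rcases Nat.lt_or_ge v 113234 with h | h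
              · exact edgesRange_spec E 4 2274 110960 edges_4_46 v (by omega) (by omega)
              · rcases Nat.lt_or_ge v 116115 with h | h
                · exact edgesRange_spec E 4 2881 113234 edges_4_47 v (by omega) (by omega)
                · exact edgesRange_spec E 4 2756 116115 edges_4_48 v (by omega) (by omega)
          · rcases Nat.lt_or_ge v 126548 with h | h
            · rcases Nat.lt_or_ge v 121745 with h | h
              · exact edgesRange_spec E 4 2874 118871 edges_4_49 v (by omega) (by omega)
              · rcases Nat.lt_or_ge v 124751 with h | h
                · exact edgesRange_spec E 4 3006 121745 edges_4_50 v (by omega) (by omega)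
                · exact edgesRange_spec E 4 1797 124751 edges_4_51 v (by omega) (by omega)
            · rcases Nat.lt_or_ge v 128450 with h | h
              · exact edgesRange_spec E 4 1902 126548 edges_4_52 v (by omega) (by omega)
              · rcases Nat.lt_or_ge v 130275 with h | h
                · exact edgesRange_spec E 4 1825 128450 edges_4_53 v (by omega) (by omega)
                · exact edgesRange_spec E 4 1872 130275 edges_4_54 v (by omega) (by omega)
        · rcases Nat.lt_or_ge v 141737 with h | h
          · rcases Nat.lt_or_ge v 136212 with h | h
            · rcases Nat.lt_or_ge v 134118 with h | h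
              · exact edgesRange_spec E 4 1971 132147 edges_4_55 v (by omega) (by omega)
              · exact edgesRange_spec E 4 2094 134118 edges_4_56 v (by omega) (by omega)
            · rcases Nat.lt_or_ge v 138151 with h | h
              · exact edgesRange_spec E 4 1939 136212 edges_4_57 v (by omega) (by omega)
              · rcases Nat.lt_or_ge v 139983 with h | h
                · exact edgesRange_spec E 4 1832 138151 edges_4_58 v (by omega) (by omega)
                · exact edgesRange_spec E 4 1754 139983 edges_4_59 v (by omega) (by omega)
          · rcases Nat.lt_or_ge v 147226 with h | h
            · rcases Nat.lt_or_ge v 143542 with h | h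
              · exact edgesRange_spec E 4 1805 141737 edges_4_60 v (by omega) (by omega)
              · rcases Nat.lt_or_ge v 145473 with h | h
                · exact edgesRange_spec E 4 1931 143542 edges_4_61 v (by omega) (by omega)
                · exact edgesRange_spec E 4 1753 145473 edges_4_62 v (by omega) (by omega)
            · rcases Nat.lt_or_ge v 149141 with h | h
              · exact edgesRange_spec E 4 1915 147226 edges_4_63 v (by omega) (by omega)
              · rcases Nat.lt_or_ge v 151103 with h | h
                · exact edgesRange_spec E 4 1962 149141 edges_4_64 v (by omega) (by omega)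
                · exact edgesRange_spec E 4 2017 151103 edges_4_65 v (by omega) (by omega)
      · rcases Nat.lt_or_ge v 173935 with h | h
        · rcases Nat.lt_or_ge v 162416 with h | h
          · rcases Nat.lt_or_ge v 157017 with h | h
            · rcases Nat.lt_or_ge v 155110 with h | h
              · exact edgesRange_spec E 4 1990 153120 edges_4_66 v (by omega) (by omega)
              · exact edgesRange_spec E 4 1907 155110 edges_4_67 v (by omega) (by omega)
            · rcases Nat.lt_or_ge v 158767 with h | h
              · exact edgesRange_spec E 4 1750 157017 edges_4_68 v (by omega) (by omega)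
              · rcases Nat.lt_or_ge v 160533 with h | h
                · exact edgesRange_spec E 4 1766 158767 edges_4_69 v (by omega) (by omega)
                · exact edgesRange_spec E 4 1883 160533 edges_4_70 v (by omega) (by omega)
          · rcases Nat.lt_or_ge v 168019 with h | h
            · rcases Nat.lt_or_ge v 164306 with h | h
              · exact edgesRange_spec E 4 1890 162416 edges_4_71 v (by omega) (by omega)
              · rcases Nat.lt_or_ge v 166084 with h | h
                · exact edgesRange_spec E 4 1778 164306 edges_4_72 v (by omega) (by omega)
                · exact edgesRange_spec E 4 1935 166084 edges_4_73 v (by omega) (by omega)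
            · rcases Nat.lt_or_ge v 170004 with h | h
              · exact edgesRange_spec E 4 1985 168019 edges_4_74 v (by omega) (by omega)
              · rcases Nat.lt_or_ge v 171939 with h | h
                · exact edgesRange_spec E 4 1935 170004 edges_4_75 v (by omega) (by omega)
                · exact edgesRange_spec E 4 1996 171939 edges_4_76 v (by omega) (by omega)
        · rcases Nat.lt_or_ge v 183228 with h | h
          · rcases Nat.lt_or_ge v 177764 with h | h
            · rcases Nat.lt_or_ge v 175948 with h | h
              · exact edgesRange_spec E 4 2013 173935 edges_4_77 v (by omega) (by omega)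
              · exact edgesRange_spec E 4 1816 175948 edges_4_78 v (by omega) (by omega)
            · rcases Nat.lt_or_ge v 179580 with h | h
              · exact edgesRange_spec E 4 1816 177764 edges_4_79 v (by omega) (by omega)
              · rcases Nat.lt_or_ge v 181347 with h | h
                · exact edgesRange_spec E 4 1767 179580 edges_4_80 v (by omega) (by omega)
                · exact edgesRange_spec E 4 1881 181347 edges_4_81 v (by omega) (by omega)
          · rcases Nat.lt_or_ge v 188994 with h | h
            · rcases Nat.lt_or_ge v 185143 with h | h
              · exact edgesRange_spec E 4 1915 183228 edges_4_82 v (by omega) (by omega)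
              · rcases Nat.lt_or_ge v 187027 with h | h
                · exact edgesRange_spec E 4 1884 185143 edges_4_83 v (by omega) (by omega)
                · exact edgesRange_spec E 4 1967 187027 edges_4_84 v (by omega) (by omega)
            · rcases Nat.lt_or_ge v 190984 with h | h
              · exact edgesRange_spec E 4 1990 188994 edges_4_85 v (by omega) (by omega)
              · rcases Nat.lt_or_ge v 192903 with h | h
                · exact edgesRange_spec E 4 1919 190984 edges_4_86 v (by omega) (by omega)
                · exact edgesRange_spec E 4 2043 192903 edges_4_87 v (by omega) (by omega)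
  · rcases Nat.lt_or_ge v 281772 with h | h
    · rcases Nat.lt_or_ge v 237931 with h | h
      · rcases Nat.lt_or_ge v 216184 with h | h
        · rcases Nat.lt_or_ge v 204379 with h | h
          · rcases Nat.lt_or_ge v 198862 with h | h
            · rcases Nat.lt_or_ge v 196946 with h | h
              · exact edgesRange_spec E 4 2000 194946 edges_4_88 v (by omega) (by omega)
              · exact edgesRange_spec E 4 1916 196946 edges_4_89 v (by omega) (by omega)
            · rcases Nat.lt_or_ge v 200688 with h | h
              · exact edgesRange_spec E 4 1826 198862 edges_4_90 v (by omega) (by omega)
              · rcases Nat.lt_or_ge v 202490 with h | h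
                · exact edgesRange_spec E 4 1802 200688 edges_4_91 v (by omega) (by omega)
                · exact edgesRange_spec E 4 1889 202490 edges_4_92 v (by omega) (by omega)
          · rcases Nat.lt_or_ge v 210360 with h | h
            · rcases Nat.lt_or_ge v 206290 with h | h
              · exact edgesRange_spec E 4 1911 204379 edges_4_93 v (by omega) (by omega)
              · rcases Nat.lt_or_ge v 208287 with h | h
                · exact edgesRange_spec E 4 1997 206290 edges_4_94 v (by omega) (by omega)
                · exact edgesRange_spec E 4 2073 208287 edges_4_95 v (by omega) (by omega)
            · rcases Nat.lt_or_ge v 212304 with h | h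
              · exact edgesRange_spec E 4 1944 210360 edges_4_96 v (by omega) (by omega)
              · rcases Nat.lt_or_ge v 214169 with h | h
                · exact edgesRange_spec E 4 1865 212304 edges_4_97 v (by omega) (by omega)
                · exact edgesRange_spec E 4 2015 214169 edges_4_98 v (by omega) (by omega)
        · rcases Nat.lt_or_ge v 225916 with h | h
          · rcases Nat.lt_or_ge v 220275 with h | h
            · rcases Nat.lt_or_ge v 218187 with h | h
              · exact edgesRange_spec E 4 2003 216184 edges_4_99 v (by omega) (by omega)
              · exact edgesRange_spec E 4 2088 218187 edges_4_100 v (by omega) (by omega)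
            · rcases Nat.lt_or_ge v 222210 with h | h
              · exact edgesRange_spec E 4 1935 220275 edges_4_101 v (by omega) (by omega)
              · rcases Nat.lt_or_ge v 224089 with h | h
                · exact edgesRange_spec E 4 1879 222210 edges_4_102 v (by omega) (by omega)
                · exact edgesRange_spec E 4 1827 224089 edges_4_103 v (by omega) (by omega)
          · rcases Nat.lt_or_ge v 231911 with h | h
            · rcases Nat.lt_or_ge v 227844 with h | h
              · exact edgesRange_spec E 4 1928 225916 edges_4_104 v (by omega) (by omega)
              · rcases Nat.lt_or_ge v 229842 with h | h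
                · exact edgesRange_spec E 4 1998 227844 edges_4_105 v (by omega) (by omega)
                · exact edgesRange_spec E 4 2069 229842 edges_4_106 v (by omega) (by omega)
            · rcases Nat.lt_or_ge v 234024 with h | h
              · exact edgesRange_spec E 4 2113 231911 edges_4_107 v (by omega) (by omega)
              · rcases Nat.lt_or_ge v 236015 with h | h
                · exact edgesRange_spec E 4 1991 234024 edges_4_108 v (by omega) (by omega)
                · exact edgesRange_spec E 4 1916 236015 edges_4_109 v (by omega) (by omega)
      · rcases Nat.lt_or_ge v 260010 with h | h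
        · rcases Nat.lt_or_ge v 247974 with h | h
          · rcases Nat.lt_or_ge v 241927 with h | h
            · rcases Nat.lt_or_ge v 239970 with h | h
              · exact edgesRange_spec E 4 2039 237931 edges_4_110 v (by omega) (by omega)
              · exact edgesRange_spec E 4 1957 239970 edges_4_111 v (by omega) (by omega)
            · rcases Nat.lt_or_ge v 244041 with h | h
              · exact edgesRange_spec E 4 2114 241927 edges_4_112 v (by omega) (by omega)
              · rcases Nat.lt_or_ge v 246057 with h | h
                · exact edgesRange_spec E 4 2016 244041 edges_4_113 v (by omega) (by omega)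
                · exact edgesRange_spec E 4 1917 246057 edges_4_114 v (by omega) (by omega)
          · rcases Nat.lt_or_ge v 253868 with h | h
            · rcases Nat.lt_or_ge v 249885 with h | h
              · exact edgesRange_spec E 4 1911 247974 edges_4_115 v (by omega) (by omega)
              · rcases Nat.lt_or_ge v 251885 with h | h
                · exact edgesRange_spec E 4 2000 249885 edges_4_116 v (by omega) (by omega)
                · exact edgesRange_spec E 4 1983 251885 edges_4_117 v (by omega) (by omega)
            · rcases Nat.lt_or_ge v 255916 with h | h
              · exact edgesRange_spec E 4 2048 253868 edges_4_118 v (by omega) (by omega)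
              · rcases Nat.lt_or_ge v 257957 with h | h
                · exact edgesRange_spec E 4 2041 255916 edges_4_119 v (by omega) (by omega)
                · exact edgesRange_spec E 4 2053 257957 edges_4_120 v (by omega) (by omega)
        · rcases Nat.lt_or_ge v 269970 with h | h
          · rcases Nat.lt_or_ge v 263928 with h | h
            · rcases Nat.lt_or_ge v 261983 with h | h
              · exact edgesRange_spec E 4 1973 260010 edges_4_121 v (by omega) (by omega)
              · exact edgesRange_spec E 4 1945 261983 edges_4_122 v (by omega) (by omega)
            · rcases Nat.lt_or_ge v 265854 with h | h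
              · exact edgesRange_spec E 4 1926 263928 edges_4_123 v (by omega) (by omega)
              · rcases Nat.lt_or_ge v 267915 with h | h
                · exact edgesRange_spec E 4 2061 265854 edges_4_124 v (by omega) (by omega)
                · exact edgesRange_spec E 4 2055 267915 edges_4_125 v (by omega) (by omega)
          · rcases Nat.lt_or_ge v 275844 with h | h
            · rcases Nat.lt_or_ge v 271984 with h | h
              · exact edgesRange_spec E 4 2014 269970 edges_4_126 v (by omega) (by omega)
              · rcases Nat.lt_or_ge v 273924 with h | h
                · exact edgesRange_spec E 4 1940 271984 edges_4_127 v (by omega) (by omega)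
                · exact edgesRange_spec E 4 1920 273924 edges_4_128 v (by omega) (by omega)
            · rcases Nat.lt_or_ge v 277808 with h | h
              · exact edgesRange_spec E 4 1964 275844 edges_4_129 v (by omega) (by omega)
              · rcases Nat.lt_or_ge v 279776 with h | h
                · exact edgesRange_spec E 4 1968 277808 edges_4_130 v (by omega) (by omega)
                · exact edgesRange_spec E 4 1996 279776 edges_4_131 v (by omega) (by omega)
    · rcases Nat.lt_or_ge v 322457 with h | h
      · rcases Nat.lt_or_ge v 302784 with h | h
        · rcases Nat.lt_or_ge v 291299 with h | h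
          · rcases Nat.lt_or_ge v 285637 with h | h
            · rcases Nat.lt_or_ge v 283714 with h | h
              · exact edgesRange_spec E 4 1942 281772 edges_4_132 v (by omega) (by omega)
              · exact edgesRange_spec E 4 1923 283714 edges_4_133 v (by omega) (by omega)
            · rcases Nat.lt_or_ge v 287556 with h | h
              · exact edgesRange_spec E 4 1919 285637 edges_4_134 v (by omega) (by omega)
              · rcases Nat.lt_or_ge v 289426 with h | h
                · exact edgesRange_spec E 4 1870 287556 edges_4_135 v (by omega) (by omega)
                · exact edgesRange_spec E 4 1873 289426 edges_4_136 v (by omega) (by omega)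
          · rcases Nat.lt_or_ge v 297215 with h | h
            · rcases Nat.lt_or_ge v 293272 with h | h
              · exact edgesRange_spec E 4 1973 291299 edges_4_137 v (by omega) (by omega)
              · rcases Nat.lt_or_ge v 295212 with h | h
                · exact edgesRange_spec E 4 1940 293272 edges_4_138 v (by omega) (by omega)
                · exact edgesRange_spec E 4 2003 295212 edges_4_139 v (by omega) (by omega)
            · rcases Nat.lt_or_ge v 299060 with h | h
              · exact edgesRange_spec E 4 1845 297215 edges_4_140 v (by omega) (by omega)
              · rcases Nat.lt_or_ge v 300906 with h | h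
                · exact edgesRange_spec E 4 1846 299060 edges_4_141 v (by omega) (by omega)
                · exact edgesRange_spec E 4 1878 300906 edges_4_142 v (by omega) (by omega)
        · rcases Nat.lt_or_ge v 311820 with h | h
          · rcases Nat.lt_or_ge v 306444 with h | h
            · rcases Nat.lt_or_ge v 304614 with h | h
              · exact edgesRange_spec E 4 1830 302784 edges_4_143 v (by omega) (by omega)
              · exact edgesRange_spec E 4 1830 304614 edges_4_144 v (by omega) (by omega)
            · rcases Nat.lt_or_ge v 308223 with h | h
              · exact edgesRange_spec E 4 1779 306444 edges_4_145 v (by omega) (by omega)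
              · rcases Nat.lt_or_ge v 310007 with h | h
                · exact edgesRange_spec E 4 1784 308223 edges_4_146 v (by omega) (by omega)
                · exact edgesRange_spec E 4 1813 310007 edges_4_147 v (by omega) (by omega)
          · rcases Nat.lt_or_ge v 317236 with h | h
            · rcases Nat.lt_or_ge v 313558 with h | h
              · exact edgesRange_spec E 4 1738 311820 edges_4_148 v (by omega) (by omega)
              · rcases Nat.lt_or_ge v 315407 with h | h
                · exact edgesRange_spec E 4 1849 313558 edges_4_149 v (by omega) (by omega)
                · exact edgesRange_spec E 4 1829 315407 edges_4_150 v (by omega) (by omega)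
            · rcases Nat.lt_or_ge v 319117 with h | h
              · exact edgesRange_spec E 4 1881 317236 edges_4_151 v (by omega) (by omega)
              · rcases Nat.lt_or_ge v 320806 with h | h
                · exact edgesRange_spec E 4 1689 319117 edges_4_152 v (by omega) (by omega)
                · exact edgesRange_spec E 4 1651 320806 edges_4_153 v (by omega) (by omega)
      · rcases Nat.lt_or_ge v 340728 with h | h
        · rcases Nat.lt_or_ge v 330893 with h | h
          · rcases Nat.lt_or_ge v 325818 with h | h
            · rcases Nat.lt_or_ge v 324184 with h | h
              · exact edgesRange_spec E 4 1727 322457 edges_4_154 v (by omega) (by omega)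
              · exact edgesRange_spec E 4 1634 324184 edges_4_155 v (by omega) (by omega)
            · rcases Nat.lt_or_ge v 327527 with h | h
              · exact edgesRange_spec E 4 1709 325818 edges_4_156 v (by omega) (by omega)
              · rcases Nat.lt_or_ge v 329182 with h | h
                · exact edgesRange_spec E 4 1655 327527 edges_4_157 v (by omega) (by omega)
                · exact edgesRange_spec E 4 1711 329182 edges_4_158 v (by omega) (by omega)
          · rcases Nat.lt_or_ge v 336029 with h | h
            · rcases Nat.lt_or_ge v 332563 with h | h
              · exact edgesRange_spec E 4 1670 330893 edges_4_159 v (by omega) (by omega)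
              · rcases Nat.lt_or_ge v 334311 with h | h
                · exact edgesRange_spec E 4 1748 332563 edges_4_160 v (by omega) (by omega)
                · exact edgesRange_spec E 4 1718 334311 edges_4_161 v (by omega) (by omega)
            · rcases Nat.lt_or_ge v 337571 with h | h
              · exact edgesRange_spec E 4 1542 336029 edges_4_162 v (by omega) (by omega)
              · rcases Nat.lt_or_ge v 339145 with h | h
                · exact edgesRange_spec E 4 1574 337571 edges_4_163 v (by omega) (by omega)
                · exact edgesRange_spec E 4 1583 339145 edges_4_164 v (by omega) (by omega)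
        · rcases Nat.lt_or_ge v 348767 with h | h
          · rcases Nat.lt_or_ge v 344027 with h | h
            · rcases Nat.lt_or_ge v 342413 with h | h
              · exact edgesRange_spec E 4 1685 340728 edges_4_165 v (by omega) (by omega)
              · exact edgesRange_spec E 4 1614 342413 edges_4_166 v (by omega) (by omega)
            · rcases Nat.lt_or_ge v 345718 with h | h
              · exact edgesRange_spec E 4 1691 344027 edges_4_167 v (by omega) (by omega)
              · rcases Nat.lt_or_ge v 347296 with h | h
                · exact edgesRange_spec E 4 1578 345718 edges_4_168 v (by omega) (by omega)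
                · exact edgesRange_spec E 4 1471 347296 edges_4_169 v (by omega) (by omega)
          · rcases Nat.lt_or_ge v 353681 with h | h
            · rcases Nat.lt_or_ge v 350420 with h | h
              · exact edgesRange_spec E 4 1653 348767 edges_4_170 v (by omega) (by omega)
              · rcases Nat.lt_or_ge v 352051 with h | h
                · exact edgesRange_spec E 4 1631 350420 edges_4_171 v (by omega) (by omega)
                · exact edgesRange_spec E 4 1630 352051 edges_4_172 v (by omega) (by omega)
            · rcases Nat.lt_or_ge v 355328 with h | h
              · exact edgesRange_spec E 4 1647 353681 edges_4_173 v (by omega) (by omega)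
              · rcases Nat.lt_or_ge v 357032 with h | h
                · exact edgesRange_spec E 4 1704 355328 edges_4_174 v (by omega) (by omega)
                · exact edgesRange_spec E 4 17 357032 edges_4_175 v (by omega) (by omega)

theorem edgesx_5 : ∀ v, v < 357049 → edgeOK E 5 v = true := by
  intro v hv
  rcases Nat.lt_or_ge v 194602 with h | h
  · rcases Nat.lt_or_ge v 104323 with h | h
    · rcases Nat.lt_or_ge v 46886 with h | h
      · rcases Nat.lt_or_ge v 21863 with h | h
        · rcases Nat.lt_or_ge v 11218 with h | h
          · rcases Nat.lt_or_ge v 4305 with h | h
            · rcases Nat.lt_or_ge v 2107 with h | h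
              · exact edgesRange_spec E 5 2107 0 edges_5_0 v (by omega) (by omega)
              · exact edgesRange_spec E 5 2198 2107 edges_5_1 v (by omega) (by omega)
            · rcases Nat.lt_or_ge v 6642 with h | h
              · exact edgesRange_spec E 5 2337 4305 edges_5_2 v (by omega) (by omega)
              · rcases Nat.lt_or_ge v 8971 with h | h
                · exact edgesRange_spec E 5 2329 6642 edges_5_3 v (by omega) (by omega)
                · exact edgesRange_spec E 5 2247 8971 edges_5_4 v (by omega) (by omega)
          · rcases Nat.lt_or_ge v 15264 with h | h
            · rcases Nat.lt_or_ge v 13271 with h | h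
              · exact edgesRange_spec E 5 2053 11218 edges_5_5 v (by omega) (by omega)
              · exact edgesRange_spec E 5 1993 13271 edges_5_6 v (by omega) (by omega)
            · rcases Nat.lt_or_ge v 17463 with h | h
              · exact edgesRange_spec E 5 2199 15264 edges_5_7 v (by omega) (by omega)
              · rcases Nat.lt_or_ge v 19566 with h | h
                · exact edgesRange_spec E 5 2103 17463 edges_5_8 v (by omega) (by omega)
                · exact edgesRange_spec E 5 2297 19566 edges_5_9 v (by omega) (by omega)
        · rcases Nat.lt_or_ge v 33830 with h | h
          · rcases Nat.lt_or_ge v 26287 with h | h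
            · rcases Nat.lt_or_ge v 24056 with h | h
              · exact edgesRange_spec E 5 2193 21863 edges_5_10 v (by omega) (by omega)
              · exact edgesRange_spec E 5 2231 24056 edges_5_11 v (by omega) (by omega)
            · rcases Nat.lt_or_ge v 28864 with h | h
              · exact edgesRange_spec E 5 2577 26287 edges_5_12 v (by omega) (by omega)
              · rcases Nat.lt_or_ge v 31300 with h | h
                · exact edgesRange_spec E 5 2436 28864 edges_5_13 v (by omega) (by omega)
                · exact edgesRange_spec E 5 2530 31300 edges_5_14 v (by omega) (by omega)
          · rcases Nat.lt_or_ge v 39102 with h | h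
            · rcases Nat.lt_or_ge v 36215 with h | h
              · exact edgesRange_spec E 5 2385 33830 edges_5_15 v (by omega) (by omega)
              · exact edgesRange_spec E 5 2887 36215 edges_5_16 v (by omega) (by omega)
            · rcases Nat.lt_or_ge v 41723 with h | h
              · exact edgesRange_spec E 5 2621 39102 edges_5_17 v (by omega) (by omega)
              · rcases Nat.lt_or_ge v 44314 with h | h
                · exact edgesRange_spec E 5 2591 41723 edges_5_18 v (by omega) (by omega)
                · exact edgesRange_spec E 5 2572 44314 edges_5_19 v (by omega) (by omega)
      · rcases Nat.lt_or_ge v 75725 with h | h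
        · rcases Nat.lt_or_ge v 61143 with h | h
          · rcases Nat.lt_or_ge v 52717 with h | h
            · rcases Nat.lt_or_ge v 49582 with h | h
              · exact edgesRange_spec E 5 2696 46886 edges_5_20 v (by omega) (by omega)
              · exact edgesRange_spec E 5 3135 49582 edges_5_21 v (by omega) (by omega)
            · rcases Nat.lt_or_ge v 55745 with h | h
              · exact edgesRange_spec E 5 3028 52717 edges_5_22 v (by omega) (by omega)
              · rcases Nat.lt_or_ge v 58058 with h | h
                · exact edgesRange_spec E 5 2313 55745 edges_5_23 v (by omega) (by omega)
                · exact edgesRange_spec E 5 3085 58058 edges_5_24 v (by omega) (by omega)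
          · rcases Nat.lt_or_ge v 66454 with h | h
            · rcases Nat.lt_or_ge v 63692 with h | h
              · exact edgesRange_spec E 5 2549 61143 edges_5_25 v (by omega) (by omega)
              · exact edgesRange_spec E 5 2762 63692 edges_5_26 v (by omega) (by omega)
            · rcases Nat.lt_or_ge v 69320 with h | h
              · exact edgesRange_spec E 5 2866 66454 edges_5_27 v (by omega) (by omega)
              · rcases Nat.lt_or_ge v 72597 with h | h
                · exact edgesRange_spec E 5 3277 69320 edges_5_28 v (by omega) (by omega)
                · exact edgesRange_spec E 5 3128 72597 edges_5_29 v (by omega) (by omega)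
        · rcases Nat.lt_or_ge v 89504 with h | h
          · rcases Nat.lt_or_ge v 81244 with h | h
            · rcases Nat.lt_or_ge v 78332 with h | h
              · exact edgesRange_spec E 5 2607 75725 edges_5_30 v (by omega) (by omega)
              · exact edgesRange_spec E 5 2912 78332 edges_5_31 v (by omega) (by omega)
            · rcases Nat.lt_or_ge v 83952 with h | h
              · exact edgesRange_spec E 5 2708 81244 edges_5_32 v (by omega) (by omega)
              · rcases Nat.lt_or_ge v 86458 with h | h
                · exact edgesRange_spec E 5 2506 83952 edges_5_33 v (by omega) (by omega)
                · exact edgesRange_spec E 5 3046 86458 edges_5_34 v (by omega) (by omega)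
          · rcases Nat.lt_or_ge v 95762 with h | h
            · rcases Nat.lt_or_ge v 92531 with h | h
              · exact edgesRange_spec E 5 3027 89504 edges_5_35 v (by omega) (by omega)
              · exact edgesRange_spec E 5 3231 92531 edges_5_36 v (by omega) (by omega)
            · rcases Nat.lt_or_ge v 99007 with h | h
              · exact edgesRange_spec E 5 3245 95762 edges_5_37 v (by omega) (by omega)
              · rcases Nat.lt_or_ge v 101445 with h | h
                · exact edgesRange_spec E 5 2438 99007 edges_5_38 v (by omega) (by omega)
                · exact edgesRange_spec E 5 2878 101445 edges_5_39 v (by omega) (by omega)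
    · rcases Nat.lt_or_ge v 150060 with h | h
      · rcases Nat.lt_or_ge v 129944 with h | h
        · rcases Nat.lt_or_ge v 117739 with h | h
          · rcases Nat.lt_or_ge v 109521 with h | h
            · rcases Nat.lt_or_ge v 107098 with h | h
              · exact edgesRange_spec E 5 2775 104323 edges_5_40 v (by omega) (by omega)
              · exact edgesRange_spec E 5 2423 107098 edges_5_41 v (by omega) (by omega)
            · rcases Nat.lt_or_ge v 111963 with h | h
              · exact edgesRange_spec E 5 2442 109521 edges_5_42 v (by omega) (by omega)
              · rcases Nat.lt_or_ge v 114663 with h | h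
                · exact edgesRange_spec E 5 2700 111963 edges_5_43 v (by omega) (by omega)
                · exact edgesRange_spec E 5 3076 114663 edges_5_44 v (by omega) (by omega)
          · rcases Nat.lt_or_ge v 123832 with h | h
            · rcases Nat.lt_or_ge v 120786 with h | h
              · exact edgesRange_spec E 5 3047 117739 edges_5_45 v (by omega) (by omega)
              · exact edgesRange_spec E 5 3046 120786 edges_5_46 v (by omega) (by omega)
            · rcases Nat.lt_or_ge v 126017 with h | h
              · exact edgesRange_spec E 5 2185 123832 edges_5_47 v (by omega) (by omega)
              · rcases Nat.lt_or_ge v 128001 with h | h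
                · exact edgesRange_spec E 5 1984 126017 edges_5_48 v (by omega) (by omega)
                · exact edgesRange_spec E 5 1943 128001 edges_5_49 v (by omega) (by omega)
        · rcases Nat.lt_or_ge v 140170 with h | h
          · rcases Nat.lt_or_ge v 133947 with h | h
            · rcases Nat.lt_or_ge v 131910 with h | h
              · exact edgesRange_spec E 5 1966 129944 edges_5_50 v (by omega) (by omega)
              · exact edgesRange_spec E 5 2037 131910 edges_5_51 v (by omega) (by omega)
            · rcases Nat.lt_or_ge v 136055 with h | h
              · exact edgesRange_spec E 5 2108 133947 edges_5_52 v (by omega) (by omega)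
              · rcases Nat.lt_or_ge v 138214 with h | h
                · exact edgesRange_spec E 5 2159 136055 edges_5_53 v (by omega) (by omega)
                · exact edgesRange_spec E 5 1956 138214 edges_5_54 v (by omega) (by omega)
          · rcases Nat.lt_or_ge v 143969 with h | h
            · rcases Nat.lt_or_ge v 142063 with h | h
              · exact edgesRange_spec E 5 1893 140170 edges_5_55 v (by omega) (by omega)
              · exact edgesRange_spec E 5 1906 142063 edges_5_56 v (by omega) (by omega)
            · rcases Nat.lt_or_ge v 145974 with h | h
              · exact edgesRange_spec E 5 2005 143969 edges_5_57 v (by omega) (by omega)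
              · rcases Nat.lt_or_ge v 148016 with h | h
                · exact edgesRange_spec E 5 2042 145974 edges_5_58 v (by omega) (by omega)
                · exact edgesRange_spec E 5 2044 148016 edges_5_59 v (by omega) (by omega)
      · rcases Nat.lt_or_ge v 170769 with h | h
        · rcases Nat.lt_or_ge v 160420 with h | h
          · rcases Nat.lt_or_ge v 154267 with h | h
            · rcases Nat.lt_or_ge v 152137 with h | h
              · exact edgesRange_spec E 5 2077 150060 edges_5_60 v (by omega) (by omega)
              · exact edgesRange_spec E 5 2130 152137 edges_5_61 v (by omega) (by omega)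
            · rcases Nat.lt_or_ge v 156505 with h | h
              · exact edgesRange_spec E 5 2238 154267 edges_5_62 v (by omega) (by omega)
              · rcases Nat.lt_or_ge v 158491 with h | h
                · exact edgesRange_spec E 5 1986 156505 edges_5_63 v (by omega) (by omega)
                · exact edgesRange_spec E 5 1929 158491 edges_5_64 v (by omega) (by omega)
          · rcases Nat.lt_or_ge v 164380 with h | h
            · rcases Nat.lt_or_ge v 162336 with h | h
              · exact edgesRange_spec E 5 1916 160420 edges_5_65 v (by omega) (by omega)
              · exact edgesRange_spec E 5 2044 162336 edges_5_66 v (by omega) (by omega)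
            · rcases Nat.lt_or_ge v 166532 with h | h
              · exact edgesRange_spec E 5 2152 164380 edges_5_67 v (by omega) (by omega)
              · rcases Nat.lt_or_ge v 168647 with h | h
                · exact edgesRange_spec E 5 2115 166532 edges_5_68 v (by omega) (by omega)
                · exact edgesRange_spec E 5 2122 168647 edges_5_69 v (by omega) (by omega)
        · rcases Nat.lt_or_ge v 181398 with h | h
          · rcases Nat.lt_or_ge v 175247 with h | h
            · rcases Nat.lt_or_ge v 172922 with h | h
              · exact edgesRange_spec E 5 2153 170769 edges_5_70 v (by omega) (by omega)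
              · exact edgesRange_spec E 5 2325 172922 edges_5_71 v (by omega) (by omega)
            · rcases Nat.lt_or_ge v 177454 with h | h
              · exact edgesRange_spec E 5 2207 175247 edges_5_72 v (by omega) (by omega)
              · rcases Nat.lt_or_ge v 179422 with h | h
                · exact edgesRange_spec E 5 1968 177454 edges_5_73 v (by omega) (by omega)
                · exact edgesRange_spec E 5 1976 179422 edges_5_74 v (by omega) (by omega)
          · rcases Nat.lt_or_ge v 187896 with h | h
            · rcases Nat.lt_or_ge v 183466 with h | h
              · exact edgesRange_spec E 5 2068 181398 edges_5_75 v (by omega) (by omega)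
              · rcases Nat.lt_or_ge v 185634 with h | h
                · exact edgesRange_spec E 5 2168 183466 edges_5_76 v (by omega) (by omega)
                · exact edgesRange_spec E 5 2262 185634 edges_5_77 v (by omega) (by omega)
            · rcases Nat.lt_or_ge v 190105 with h | h
              · exact edgesRange_spec E 5 2209 187896 edges_5_78 v (by omega) (by omega)
              · rcases Nat.lt_or_ge v 192283 with h | h
                · exact edgesRange_spec E 5 2178 190105 edges_5_79 v (by omega) (by omega)
                · exact edgesRange_spec E 5 2319 192283 edges_5_80 v (by omega) (by omega)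
  · rcases Nat.lt_or_ge v 284025 with h | h
    · rcases Nat.lt_or_ge v 239968 with h | h
      · rcases Nat.lt_or_ge v 217159 with h | h
        · rcases Nat.lt_or_ge v 205552 with h | h
          · rcases Nat.lt_or_ge v 199287 with h | h
            · rcases Nat.lt_or_ge v 197033 with h | h
              · exact edgesRange_spec E 5 2431 194602 edges_5_81 v (by omega) (by omega)
              · exact edgesRange_spec E 5 2254 197033 edges_5_82 v (by omega) (by omega)
            · rcases Nat.lt_or_ge v 201325 with h | h
              · exact edgesRange_spec E 5 2038 199287 edges_5_83 v (by omega) (by omega)
              · rcases Nat.lt_or_ge v 203358 with h | h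
                · exact edgesRange_spec E 5 2033 201325 edges_5_84 v (by omega) (by omega)
                · exact edgesRange_spec E 5 2194 203358 edges_5_85 v (by omega) (by omega)
          · rcases Nat.lt_or_ge v 210199 with h | h
            · rcases Nat.lt_or_ge v 207805 with h | h
              · exact edgesRange_spec E 5 2253 205552 edges_5_86 v (by omega) (by omega)
              · exact edgesRange_spec E 5 2394 207805 edges_5_87 v (by omega) (by omega)
            · rcases Nat.lt_or_ge v 212462 with h | h
              · exact edgesRange_spec E 5 2263 210199 edges_5_88 v (by omega) (by omega)
              · rcases Nat.lt_or_ge v 214721 with h | h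
                · exact edgesRange_spec E 5 2259 212462 edges_5_89 v (by omega) (by omega)
                · exact edgesRange_spec E 5 2438 214721 edges_5_90 v (by omega) (by omega)
        · rcases Nat.lt_or_ge v 228393 with h | h
          · rcases Nat.lt_or_ge v 221904 with h | h
            · rcases Nat.lt_or_ge v 219703 with h | h
              · exact edgesRange_spec E 5 2544 217159 edges_5_91 v (by omega) (by omega)
              · exact edgesRange_spec E 5 2201 219703 edges_5_92 v (by omega) (by omega)
            · rcases Nat.lt_or_ge v 223987 with h | h
              · exact edgesRange_spec E 5 2083 221904 edges_5_93 v (by omega) (by omega)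
              · rcases Nat.lt_or_ge v 226106 with h | h
                · exact edgesRange_spec E 5 2119 223987 edges_5_94 v (by omega) (by omega)
                · exact edgesRange_spec E 5 2287 226106 edges_5_95 v (by omega) (by omega)
          · rcases Nat.lt_or_ge v 232877 with h | h
            · rcases Nat.lt_or_ge v 230689 with h | h
              · exact edgesRange_spec E 5 2296 228393 edges_5_96 v (by omega) (by omega)
              · exact edgesRange_spec E 5 2188 230689 edges_5_97 v (by omega) (by omega)
            · rcases Nat.lt_or_ge v 235243 with h | h
              · exact edgesRange_spec E 5 2366 232877 edges_5_98 v (by omega) (by omega)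
              · rcases Nat.lt_or_ge v 237551 with h | h
                · exact edgesRange_spec E 5 2308 235243 edges_5_99 v (by omega) (by omega)
                · exact edgesRange_spec E 5 2417 237551 edges_5_100 v (by omega) (by omega)
      · rcases Nat.lt_or_ge v 262393 with h | h
        · rcases Nat.lt_or_ge v 251318 with h | h
          · rcases Nat.lt_or_ge v 244824 with h | h
            · rcases Nat.lt_or_ge v 242468 with h | h
              · exact edgesRange_spec E 5 2500 239968 edges_5_101 v (by omega) (by omega)
              · exact edgesRange_spec E 5 2356 242468 edges_5_102 v (by omega) (by omega)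
            · rcases Nat.lt_or_ge v 246975 with h | h
              · exact edgesRange_spec E 5 2151 244824 edges_5_103 v (by omega) (by omega)
              · rcases Nat.lt_or_ge v 249089 with h | h
                · exact edgesRange_spec E 5 2114 246975 edges_5_104 v (by omega) (by omega)
                · exact edgesRange_spec E 5 2229 249089 edges_5_105 v (by omega) (by omega)
          · rcases Nat.lt_or_ge v 255811 with h | h
            · rcases Nat.lt_or_ge v 253576 with h | h
              · exact edgesRange_spec E 5 2258 251318 edges_5_106 v (by omega) (by omega)
              · exact edgesRange_spec E 5 2235 253576 edges_5_107 v (by omega) (by omega)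
            · rcases Nat.lt_or_ge v 257896 with h | h
              · exact edgesRange_spec E 5 2085 255811 edges_5_108 v (by omega) (by omega)
              · rcases Nat.lt_or_ge v 260161 with h | h
                · exact edgesRange_spec E 5 2265 257896 edges_5_109 v (by omega) (by omega)
                · exact edgesRange_spec E 5 2232 260161 edges_5_110 v (by omega) (by omega)
        · rcases Nat.lt_or_ge v 273655 with h | h
          · rcases Nat.lt_or_ge v 267043 with h | h
            · rcases Nat.lt_or_ge v 264671 with h | h
              · exact edgesRange_spec E 5 2278 262393 edges_5_111 v (by omega) (by omega)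
              · exact edgesRange_spec E 5 2372 264671 edges_5_112 v (by omega) (by omega)
            · rcases Nat.lt_or_ge v 269228 with h | h
              · exact edgesRange_spec E 5 2185 267043 edges_5_113 v (by omega) (by omega)
              · rcases Nat.lt_or_ge v 271496 with h | h
                · exact edgesRange_spec E 5 2268 269228 edges_5_114 v (by omega) (by omega)
                · exact edgesRange_spec E 5 2159 271496 edges_5_115 v (by omega) (by omega)
          · rcases Nat.lt_or_ge v 277845 with h | h
            · rcases Nat.lt_or_ge v 275743 with h | h
              · exact edgesRange_spec E 5 2088 273655 edges_5_116 v (by omega) (by omega)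
              · exact edgesRange_spec E 5 2102 275743 edges_5_117 v (by omega) (by omega)
            · rcases Nat.lt_or_ge v 279975 with h | h
              · exact edgesRange_spec E 5 2130 277845 edges_5_118 v (by omega) (by omega)
              · rcases Nat.lt_or_ge v 282061 with h | h
                · exact edgesRange_spec E 5 2086 279975 edges_5_119 v (by omega) (by omega)
                · exact edgesRange_spec E 5 1964 282061 edges_5_120 v (by omega) (by omega)
    · rcases Nat.lt_or_ge v 322823 with h | h
      · rcases Nat.lt_or_ge v 304223 with h | h
        · rcases Nat.lt_or_ge v 294364 with h | h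
          · rcases Nat.lt_or_ge v 288062 with h | h
            · rcases Nat.lt_or_ge v 286075 with h | h
              · exact edgesRange_spec E 5 2050 284025 edges_5_121 v (by omega) (by omega)
              · exact edgesRange_spec E 5 1987 286075 edges_5_122 v (by omega) (by omega)
            · rcases Nat.lt_or_ge v 290179 with h | h
              · exact edgesRange_spec E 5 2117 288062 edges_5_123 v (by omega) (by omega)
              · rcases Nat.lt_or_ge v 292333 with h | h
                · exact edgesRange_spec E 5 2154 290179 edges_5_124 v (by omega) (by omega)
                · exact edgesRange_spec E 5 2031 292333 edges_5_125 v (by omega) (by omega)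
          · rcases Nat.lt_or_ge v 298550 with h | h
            · rcases Nat.lt_or_ge v 296550 with h | h
              · exact edgesRange_spec E 5 2186 294364 edges_5_126 v (by omega) (by omega)
              · exact edgesRange_spec E 5 2000 296550 edges_5_127 v (by omega) (by omega)
            · rcases Nat.lt_or_ge v 300400 with h | h
              · exact edgesRange_spec E 5 1850 298550 edges_5_128 v (by omega) (by omega)
              · rcases Nat.lt_or_ge v 302335 with h | h
                · exact edgesRange_spec E 5 1935 300400 edges_5_129 v (by omega) (by omega)
                · exact edgesRange_spec E 5 1888 302335 edges_5_130 v (by omega) (by omega)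
        · rcases Nat.lt_or_ge v 313634 with h | h
          · rcases Nat.lt_or_ge v 308031 with h | h
            · rcases Nat.lt_or_ge v 306149 with h | h
              · exact edgesRange_spec E 5 1926 304223 edges_5_131 v (by omega) (by omega)
              · exact edgesRange_spec E 5 1882 306149 edges_5_132 v (by omega) (by omega)
            · rcases Nat.lt_or_ge v 309851 with h | h
              · exact edgesRange_spec E 5 1820 308031 edges_5_133 v (by omega) (by omega)
              · rcases Nat.lt_or_ge v 311701 with h | h
                · exact edgesRange_spec E 5 1850 309851 edges_5_134 v (by omega) (by omega)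
                · exact edgesRange_spec E 5 1933 311701 edges_5_135 v (by omega) (by omega)
          · rcases Nat.lt_or_ge v 317576 with h | h
            · rcases Nat.lt_or_ge v 315577 with h | h
              · exact edgesRange_spec E 5 1943 313634 edges_5_136 v (by omega) (by omega)
              · exact edgesRange_spec E 5 1999 315577 edges_5_137 v (by omega) (by omega)
            · rcases Nat.lt_or_ge v 319387 with h | h
              · exact edgesRange_spec E 5 1811 317576 edges_5_138 v (by omega) (by omega)
              · rcases Nat.lt_or_ge v 321099 with h | h
                · exact edgesRange_spec E 5 1712 319387 edges_5_139 v (by omega) (by omega)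
                · exact edgesRange_spec E 5 1724 321099 edges_5_140 v (by omega) (by omega)
      · rcases Nat.lt_or_ge v 340159 with h | h
        · rcases Nat.lt_or_ge v 331562 with h | h
          · rcases Nat.lt_or_ge v 326149 with h | h
            · rcases Nat.lt_or_ge v 324552 with h | h
              · exact edgesRange_spec E 5 1729 322823 edges_5_141 v (by omega) (by omega)
              · exact edgesRange_spec E 5 1597 324552 edges_5_142 v (by omega) (by omega)
            · rcases Nat.lt_or_ge v 328101 with h | h
              · exact edgesRange_spec E 5 1952 326149 edges_5_143 v (by omega) (by omega)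
              · rcases Nat.lt_or_ge v 329851 with h | h
                · exact edgesRange_spec E 5 1750 328101 edges_5_144 v (by omega) (by omega)
                · exact edgesRange_spec E 5 1711 329851 edges_5_145 v (by omega) (by omega)
          · rcases Nat.lt_or_ge v 335155 with h | h
            · rcases Nat.lt_or_ge v 333345 with h | h
              · exact edgesRange_spec E 5 1783 331562 edges_5_146 v (by omega) (by omega)
              · exact edgesRange_spec E 5 1810 333345 edges_5_147 v (by omega) (by omega)
            · rcases Nat.lt_or_ge v 336924 with h | h
              · exact edgesRange_spec E 5 1769 335155 edges_5_148 v (by omega) (by omega)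
              · rcases Nat.lt_or_ge v 338494 with h | h
                · exact edgesRange_spec E 5 1570 336924 edges_5_149 v (by omega) (by omega)
                · exact edgesRange_spec E 5 1665 338494 edges_5_150 v (by omega) (by omega)
        · rcases Nat.lt_or_ge v 348733 with h | h
          · rcases Nat.lt_or_ge v 343617 with h | h
            · rcases Nat.lt_or_ge v 341932 with h | h
              · exact edgesRange_spec E 5 1773 340159 edges_5_151 v (by omega) (by omega)
              · exact edgesRange_spec E 5 1685 341932 edges_5_152 v (by omega) (by omega)
            · rcases Nat.lt_or_ge v 345256 with h | h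
              · exact edgesRange_spec E 5 1639 343617 edges_5_153 v (by omega) (by omega)
              · rcases Nat.lt_or_ge v 347090 with h | h
                · exact edgesRange_spec E 5 1834 345256 edges_5_154 v (by omega) (by omega)
                · exact edgesRange_spec E 5 1643 347090 edges_5_155 v (by omega) (by omega)
          · rcases Nat.lt_or_ge v 353648 with h | h
            · rcases Nat.lt_or_ge v 350400 with h | h
              · exact edgesRange_spec E 5 1667 348733 edges_5_156 v (by omega) (by omega)
              · rcases Nat.lt_or_ge v 352011 with h | h
                · exact edgesRange_spec E 5 1611 350400 edges_5_157 v (by omega) (by omega)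
                · exact edgesRange_spec E 5 1637 352011 edges_5_158 v (by omega) (by omega)
            · rcases Nat.lt_or_ge v 355198 with h | h
              · exact edgesRange_spec E 5 1550 353648 edges_5_159 v (by omega) (by omega)
              · rcases Nat.lt_or_ge v 356604 with h | h
                · exact edgesRange_spec E 5 1406 355198 edges_5_160 v (by omega) (by omega)
                · exact edgesRange_spec E 5 445 356604 edges_5_161 v (by omega) (by omega)

theorem edgesx_6 : ∀ v, v < 357049 → edgeOK E 6 v = true := by
  intro v hv
  rcases Nat.lt_or_ge v 190177 with h | h
  · rcases Nat.lt_or_ge v 103205 with h | h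
    · rcases Nat.lt_or_ge v 47998 with h | h
      · rcases Nat.lt_or_ge v 23382 with h | h
        · rcases Nat.lt_or_ge v 12020 with h | h
          · rcases Nat.lt_or_ge v 4899 with h | h
            · rcases Nat.lt_or_ge v 2282 with h | h
              · exact edgesRange_spec E 6 2282 0 edges_6_0 v (by omega) (by omega)
              · exact edgesRange_spec E 6 2617 2282 edges_6_1 v (by omega) (by omega)
            · rcases Nat.lt_or_ge v 7474 with h | h
              · exact edgesRange_spec E 6 2575 4899 edges_6_2 v (by omega) (by omega)
              · rcases Nat.lt_or_ge v 9843 with h | h
                · exact edgesRange_spec E 6 2369 7474 edges_6_3 v (by omega) (by omega)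
                · exact edgesRange_spec E 6 2177 9843 edges_6_4 v (by omega) (by omega)
          · rcases Nat.lt_or_ge v 16308 with h | h
            · rcases Nat.lt_or_ge v 14161 with h | h
              · exact edgesRange_spec E 6 2141 12020 edges_6_5 v (by omega) (by omega)
              · exact edgesRange_spec E 6 2147 14161 edges_6_6 v (by omega) (by omega)
            · rcases Nat.lt_or_ge v 18629 with h | h
              · exact edgesRange_spec E 6 2321 16308 edges_6_7 v (by omega) (by omega)
              · rcases Nat.lt_or_ge v 20878 with h | h
                · exact edgesRange_spec E 6 2249 18629 edges_6_8 v (by omega) (by omega)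
                · exact edgesRange_spec E 6 2504 20878 edges_6_9 v (by omega) (by omega)
        · rcases Nat.lt_or_ge v 35287 with h | h
          · rcases Nat.lt_or_ge v 27990 with h | h
            · rcases Nat.lt_or_ge v 25702 with h | h
              · exact edgesRange_spec E 6 2320 23382 edges_6_10 v (by omega) (by omega)
              · exact edgesRange_spec E 6 2288 25702 edges_6_11 v (by omega) (by omega)
            · rcases Nat.lt_or_ge v 30680 with h | h
              · exact edgesRange_spec E 6 2690 27990 edges_6_12 v (by omega) (by omega)
              · rcases Nat.lt_or_ge v 33011 with h | h
                · exact edgesRange_spec E 6 2331 30680 edges_6_13 v (by omega) (by omega)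
                · exact edgesRange_spec E 6 2276 33011 edges_6_14 v (by omega) (by omega)
          · rcases Nat.lt_or_ge v 40772 with h | h
            · rcases Nat.lt_or_ge v 37866 with h | h
              · exact edgesRange_spec E 6 2579 35287 edges_6_15 v (by omega) (by omega)
              · exact edgesRange_spec E 6 2906 37866 edges_6_16 v (by omega) (by omega)
            · rcases Nat.lt_or_ge v 43101 with h | h
              · exact edgesRange_spec E 6 2329 40772 edges_6_17 v (by omega) (by omega)
              · rcases Nat.lt_or_ge v 45835 with h | h
                · exact edgesRange_spec E 6 2734 43101 edges_6_18 v (by omega) (by omega)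
                · exact edgesRange_spec E 6 2163 45835 edges_6_19 v (by omega) (by omega)
      · rcases Nat.lt_or_ge v 75674 with h | h
        · rcases Nat.lt_or_ge v 61810 with h | h
          · rcases Nat.lt_or_ge v 53643 with h | h
            · rcases Nat.lt_or_ge v 50779 with h | h
              · exact edgesRange_spec E 6 2781 47998 edges_6_20 v (by omega) (by omega)
              · exact edgesRange_spec E 6 2864 50779 edges_6_21 v (by omega) (by omega)
            · rcases Nat.lt_or_ge v 56508 with h | h
              · exact edgesRange_spec E 6 2865 53643 edges_6_22 v (by omega) (by omega)
              · rcases Nat.lt_or_ge v 59004 with h | h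
                · exact edgesRange_spec E 6 2496 56508 edges_6_23 v (by omega) (by omega)
                · exact edgesRange_spec E 6 2806 59004 edges_6_24 v (by omega) (by omega)
          · rcases Nat.lt_or_ge v 66809 with h | h
            · rcases Nat.lt_or_ge v 64003 with h | h
              · exact edgesRange_spec E 6 2193 61810 edges_6_25 v (by omega) (by omega)
              · exact edgesRange_spec E 6 2806 64003 edges_6_26 v (by omega) (by omega)
            · rcases Nat.lt_or_ge v 69592 with h | h
              · exact edgesRange_spec E 6 2783 66809 edges_6_27 v (by omega) (by omega)
              · rcases Nat.lt_or_ge v 72590 with h | h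
                · exact edgesRange_spec E 6 2998 69592 edges_6_28 v (by omega) (by omega)
                · exact edgesRange_spec E 6 3084 72590 edges_6_29 v (by omega) (by omega)
        · rcases Nat.lt_or_ge v 88891 with h | h
          · rcases Nat.lt_or_ge v 81021 with h | h
            · rcases Nat.lt_or_ge v 78005 with h | h
              · exact edgesRange_spec E 6 2331 75674 edges_6_30 v (by omega) (by omega)
              · exact edgesRange_spec E 6 3016 78005 edges_6_31 v (by omega) (by omega)
            · rcases Nat.lt_or_ge v 83643 with h | h
              · exact edgesRange_spec E 6 2622 81021 edges_6_32 v (by omega) (by omega)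
              · rcases Nat.lt_or_ge v 85878 with h | h
                · exact edgesRange_spec E 6 2235 83643 edges_6_33 v (by omega) (by omega)
                · exact edgesRange_spec E 6 3013 85878 edges_6_34 v (by omega) (by omega)
          · rcases Nat.lt_or_ge v 94970 with h | h
            · rcases Nat.lt_or_ge v 91742 with h | h
              · exact edgesRange_spec E 6 2851 88891 edges_6_35 v (by omega) (by omega)
              · exact edgesRange_spec E 6 3228 91742 edges_6_36 v (by omega) (by omega)
            · rcases Nat.lt_or_ge v 98342 with h | h
              · exact edgesRange_spec E 6 3372 94970 edges_6_37 v (by omega) (by omega)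
              · rcases Nat.lt_or_ge v 100593 with h | h
                · exact edgesRange_spec E 6 2251 98342 edges_6_38 v (by omega) (by omega)
                · exact edgesRange_spec E 6 2612 100593 edges_6_39 v (by omega) (by omega)
    · rcases Nat.lt_or_ge v 149479 with h | h
      · rcases Nat.lt_or_ge v 129371 with h | h
        · rcases Nat.lt_or_ge v 116990 with h | h
          · rcases Nat.lt_or_ge v 108791 with h | h
            · rcases Nat.lt_or_ge v 106176 with h | h
              · exact edgesRange_spec E 6 2971 103205 edges_6_40 v (by omega) (by omega)
              · exact edgesRange_spec E 6 2615 106176 edges_6_41 v (by omega) (by omega)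
            · rcases Nat.lt_or_ge v 111191 with h | h
              · exact edgesRange_spec E 6 2400 108791 edges_6_42 v (by omega) (by omega)
              · rcases Nat.lt_or_ge v 113679 with h | h
                · exact edgesRange_spec E 6 2488 111191 edges_6_43 v (by omega) (by omega)
                · exact edgesRange_spec E 6 3311 113679 edges_6_44 v (by omega) (by omega)
          · rcases Nat.lt_or_ge v 122575 with h | h
            · rcases Nat.lt_or_ge v 119983 with h | h
              · exact edgesRange_spec E 6 2993 116990 edges_6_45 v (by omega) (by omega)
              · exact edgesRange_spec E 6 2592 119983 edges_6_46 v (by omega) (by omega)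
            · rcases Nat.lt_or_ge v 125303 with h | h
              · exact edgesRange_spec E 6 2728 122575 edges_6_47 v (by omega) (by omega)
              · rcases Nat.lt_or_ge v 127301 with h | h
                · exact edgesRange_spec E 6 1998 125303 edges_6_48 v (by omega) (by omega)
                · exact edgesRange_spec E 6 2070 127301 edges_6_49 v (by omega) (by omega)
        · rcases Nat.lt_or_ge v 139566 with h | h
          · rcases Nat.lt_or_ge v 133314 with h | h
            · rcases Nat.lt_or_ge v 131308 with h | h
              · exact edgesRange_spec E 6 1937 129371 edges_6_50 v (by omega) (by omega)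
              · exact edgesRange_spec E 6 2006 131308 edges_6_51 v (by omega) (by omega)
            · rcases Nat.lt_or_ge v 135482 with h | h
              · exact edgesRange_spec E 6 2168 133314 edges_6_52 v (by omega) (by omega)
              · rcases Nat.lt_or_ge v 137621 with h | h
                · exact edgesRange_spec E 6 2139 135482 edges_6_53 v (by omega) (by omega)
                · exact edgesRange_spec E 6 1945 137621 edges_6_54 v (by omega) (by omega)
          · rcases Nat.lt_or_ge v 143427 with h | h
            · rcases Nat.lt_or_ge v 141532 with h | h
              · exact edgesRange_spec E 6 1966 139566 edges_6_55 v (by omega) (by omega)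
              · exact edgesRange_spec E 6 1895 141532 edges_6_56 v (by omega) (by omega)
            · rcases Nat.lt_or_ge v 145531 with h | h
              · exact edgesRange_spec E 6 2104 143427 edges_6_57 v (by omega) (by omega)
              · rcases Nat.lt_or_ge v 147421 with h | h
                · exact edgesRange_spec E 6 1890 145531 edges_6_58 v (by omega) (by omega)
                · exact edgesRange_spec E 6 2058 147421 edges_6_59 v (by omega) (by omega)
      · rcases Nat.lt_or_ge v 169748 with h | h
        · rcases Nat.lt_or_ge v 159753 with h | h
          · rcases Nat.lt_or_ge v 153770 with h | h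
            · rcases Nat.lt_or_ge v 151553 with h | h
              · exact edgesRange_spec E 6 2074 149479 edges_6_60 v (by omega) (by omega)
              · exact edgesRange_spec E 6 2217 151553 edges_6_61 v (by omega) (by omega)
            · rcases Nat.lt_or_ge v 155887 with h | h
              · exact edgesRange_spec E 6 2117 153770 edges_6_62 v (by omega) (by omega)
              · rcases Nat.lt_or_ge v 157840 with h | h
                · exact edgesRange_spec E 6 1953 155887 edges_6_63 v (by omega) (by omega)
                · exact edgesRange_spec E 6 1913 157840 edges_6_64 v (by omega) (by omega)
          · rcases Nat.lt_or_ge v 163703 with h | h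
            · rcases Nat.lt_or_ge v 161644 with h | h
              · exact edgesRange_spec E 6 1891 159753 edges_6_65 v (by omega) (by omega)
              · exact edgesRange_spec E 6 2059 161644 edges_6_66 v (by omega) (by omega)
            · rcases Nat.lt_or_ge v 165686 with h | h
              · exact edgesRange_spec E 6 1983 163703 edges_6_67 v (by omega) (by omega)
              · rcases Nat.lt_or_ge v 167719 with h | h
                · exact edgesRange_spec E 6 2033 165686 edges_6_68 v (by omega) (by omega)
                · exact edgesRange_spec E 6 2029 167719 edges_6_69 v (by omega) (by omega)
        · rcases Nat.lt_or_ge v 180046 with h | h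
          · rcases Nat.lt_or_ge v 174143 with h | h
            · rcases Nat.lt_or_ge v 171886 with h | h
              · exact edgesRange_spec E 6 2138 169748 edges_6_70 v (by omega) (by omega)
              · exact edgesRange_spec E 6 2257 171886 edges_6_71 v (by omega) (by omega)
            · rcases Nat.lt_or_ge v 176241 with h | h
              · exact edgesRange_spec E 6 2098 174143 edges_6_72 v (by omega) (by omega)
              · rcases Nat.lt_or_ge v 178203 with h | h
                · exact edgesRange_spec E 6 1962 176241 edges_6_73 v (by omega) (by omega)
                · exact edgesRange_spec E 6 1843 178203 edges_6_74 v (by omega) (by omega)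
          · rcases Nat.lt_or_ge v 184027 with h | h
            · rcases Nat.lt_or_ge v 181943 with h | h
              · exact edgesRange_spec E 6 1897 180046 edges_6_75 v (by omega) (by omega)
              · exact edgesRange_spec E 6 2084 181943 edges_6_76 v (by omega) (by omega)
            · rcases Nat.lt_or_ge v 186034 with h | h
              · exact edgesRange_spec E 6 2007 184027 edges_6_77 v (by omega) (by omega)
              · rcases Nat.lt_or_ge v 188111 with h | h
                · exact edgesRange_spec E 6 2077 186034 edges_6_78 v (by omega) (by omega)
                · exact edgesRange_spec E 6 2066 188111 edges_6_79 v (by omega) (by omega)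
  · rcases Nat.lt_or_ge v 277628 with h | h
    · rcases Nat.lt_or_ge v 232691 with h | h
      · rcases Nat.lt_or_ge v 211083 with h | h
        · rcases Nat.lt_or_ge v 200855 with h | h
          · rcases Nat.lt_or_ge v 194568 with h | h
            · rcases Nat.lt_or_ge v 192277 with h | h
              · exact edgesRange_spec E 6 2100 190177 edges_6_80 v (by omega) (by omega)
              · exact edgesRange_spec E 6 2291 192277 edges_6_81 v (by omega) (by omega)
            · rcases Nat.lt_or_ge v 196751 with h | h
              · exact edgesRange_spec E 6 2183 194568 edges_6_82 v (by omega) (by omega)
              · rcases Nat.lt_or_ge v 198968 with h | h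
                · exact edgesRange_spec E 6 2217 196751 edges_6_83 v (by omega) (by omega)
                · exact edgesRange_spec E 6 1887 198968 edges_6_84 v (by omega) (by omega)
          · rcases Nat.lt_or_ge v 204700 with h | h
            · rcases Nat.lt_or_ge v 202737 with h | h
              · exact edgesRange_spec E 6 1882 200855 edges_6_85 v (by omega) (by omega)
              · exact edgesRange_spec E 6 1963 202737 edges_6_86 v (by omega) (by omega)
            · rcases Nat.lt_or_ge v 206813 with h | h
              · exact edgesRange_spec E 6 2113 204700 edges_6_87 v (by omega) (by omega)
              · rcases Nat.lt_or_ge v 208895 with h | h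
                · exact edgesRange_spec E 6 2082 206813 edges_6_88 v (by omega) (by omega)
                · exact edgesRange_spec E 6 2188 208895 edges_6_89 v (by omega) (by omega)
        · rcases Nat.lt_or_ge v 222327 with h | h
          · rcases Nat.lt_or_ge v 215413 with h | h
            · rcases Nat.lt_or_ge v 213171 with h | h
              · exact edgesRange_spec E 6 2088 211083 edges_6_90 v (by omega) (by omega)
              · exact edgesRange_spec E 6 2242 213171 edges_6_91 v (by omega) (by omega)
            · rcases Nat.lt_or_ge v 217701 with h | h
              · exact edgesRange_spec E 6 2288 215413 edges_6_92 v (by omega) (by omega)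
              · rcases Nat.lt_or_ge v 220003 with h | h
                · exact edgesRange_spec E 6 2302 217701 edges_6_93 v (by omega) (by omega)
                · exact edgesRange_spec E 6 2324 220003 edges_6_94 v (by omega) (by omega)
          · rcases Nat.lt_or_ge v 226217 with h | h
            · rcases Nat.lt_or_ge v 224243 with h | h
              · exact edgesRange_spec E 6 1916 222327 edges_6_95 v (by omega) (by omega)
              · exact edgesRange_spec E 6 1974 224243 edges_6_96 v (by omega) (by omega)
            · rcases Nat.lt_or_ge v 228271 with h | h
              · exact edgesRange_spec E 6 2054 226217 edges_6_97 v (by omega) (by omega)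
              · rcases Nat.lt_or_ge v 230372 with h | h
                · exact edgesRange_spec E 6 2101 228271 edges_6_98 v (by omega) (by omega)
                · exact edgesRange_spec E 6 2319 230372 edges_6_99 v (by omega) (by omega)
      · rcases Nat.lt_or_ge v 254874 with h | h
        · rcases Nat.lt_or_ge v 243999 with h | h
          · rcases Nat.lt_or_ge v 237130 with h | h
            · rcases Nat.lt_or_ge v 234950 with h | h
              · exact edgesRange_spec E 6 2259 232691 edges_6_100 v (by omega) (by omega)
              · exact edgesRange_spec E 6 2180 234950 edges_6_101 v (by omega) (by omega)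
            · rcases Nat.lt_or_ge v 239396 with h | h
              · exact edgesRange_spec E 6 2266 237130 edges_6_102 v (by omega) (by omega)
              · rcases Nat.lt_or_ge v 241696 with h | h
                · exact edgesRange_spec E 6 2300 239396 edges_6_103 v (by omega) (by omega)
                · exact edgesRange_spec E 6 2303 241696 edges_6_104 v (by omega) (by omega)
          · rcases Nat.lt_or_ge v 248491 with h | h
            · rcases Nat.lt_or_ge v 246470 with h | h
              · exact edgesRange_spec E 6 2471 243999 edges_6_105 v (by omega) (by omega)
              · exact edgesRange_spec E 6 2021 246470 edges_6_106 v (by omega) (by omega)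
            · rcases Nat.lt_or_ge v 250563 with h | h
              · exact edgesRange_spec E 6 2072 248491 edges_6_107 v (by omega) (by omega)
              · rcases Nat.lt_or_ge v 252690 with h | h
                · exact edgesRange_spec E 6 2127 250563 edges_6_108 v (by omega) (by omega)
                · exact edgesRange_spec E 6 2184 252690 edges_6_109 v (by omega) (by omega)
        · rcases Nat.lt_or_ge v 266391 with h | h
          · rcases Nat.lt_or_ge v 259613 with h | h
            · rcases Nat.lt_or_ge v 257230 with h | h
              · exact edgesRange_spec E 6 2356 254874 edges_6_110 v (by omega) (by omega)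
              · exact edgesRange_spec E 6 2383 257230 edges_6_111 v (by omega) (by omega)
            · rcases Nat.lt_or_ge v 261879 with h | h
              · exact edgesRange_spec E 6 2266 259613 edges_6_112 v (by omega) (by omega)
              · rcases Nat.lt_or_ge v 264059 with h | h
                · exact edgesRange_spec E 6 2180 261879 edges_6_113 v (by omega) (by omega)
                · exact edgesRange_spec E 6 2332 264059 edges_6_114 v (by omega) (by omega)
          · rcases Nat.lt_or_ge v 271067 with h | h
            · rcases Nat.lt_or_ge v 268602 with h | h
              · exact edgesRange_spec E 6 2211 266391 edges_6_115 v (by omega) (by omega)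
              · exact edgesRange_spec E 6 2465 268602 edges_6_116 v (by omega) (by omega)
            · rcases Nat.lt_or_ge v 273260 with h | h
              · exact edgesRange_spec E 6 2193 271067 edges_6_117 v (by omega) (by omega)
              · rcases Nat.lt_or_ge v 275425 with h | h
                · exact edgesRange_spec E 6 2165 273260 edges_6_118 v (by omega) (by omega)
                · exact edgesRange_spec E 6 2203 275425 edges_6_119 v (by omega) (by omega)
    · rcases Nat.lt_or_ge v 321108 with h | h
      · rcases Nat.lt_or_ge v 299886 with h | h
        · rcases Nat.lt_or_ge v 288809 with h | h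
          · rcases Nat.lt_or_ge v 282045 with h | h
            · rcases Nat.lt_or_ge v 279794 with h | h
              · exact edgesRange_spec E 6 2166 277628 edges_6_120 v (by omega) (by omega)
              · exact edgesRange_spec E 6 2251 279794 edges_6_121 v (by omega) (by omega)
            · rcases Nat.lt_or_ge v 284425 with h | h
              · exact edgesRange_spec E 6 2380 282045 edges_6_122 v (by omega) (by omega)
              · rcases Nat.lt_or_ge v 286631 with h | h
                · exact edgesRange_spec E 6 2206 284425 edges_6_123 v (by omega) (by omega)
                · exact edgesRange_spec E 6 2178 286631 edges_6_124 v (by omega) (by omega)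
          · rcases Nat.lt_or_ge v 293228 with h | h
            · rcases Nat.lt_or_ge v 290992 with h | h
              · exact edgesRange_spec E 6 2183 288809 edges_6_125 v (by omega) (by omega)
              · exact edgesRange_spec E 6 2236 290992 edges_6_126 v (by omega) (by omega)
            · rcases Nat.lt_or_ge v 295539 with h | h
              · exact edgesRange_spec E 6 2311 293228 edges_6_127 v (by omega) (by omega)
              · rcases Nat.lt_or_ge v 297817 with h | h
                · exact edgesRange_spec E 6 2278 295539 edges_6_128 v (by omega) (by omega)
                · exact edgesRange_spec E 6 2069 297817 edges_6_129 v (by omega) (by omega)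
        · rcases Nat.lt_or_ge v 310480 with h | h
          · rcases Nat.lt_or_ge v 304203 with h | h
            · rcases Nat.lt_or_ge v 302074 with h | h
              · exact edgesRange_spec E 6 2188 299886 edges_6_130 v (by omega) (by omega)
              · exact edgesRange_spec E 6 2129 302074 edges_6_131 v (by omega) (by omega)
            · rcases Nat.lt_or_ge v 306323 with h | h
              · exact edgesRange_spec E 6 2120 304203 edges_6_132 v (by omega) (by omega)
              · rcases Nat.lt_or_ge v 308419 with h | h
                · exact edgesRange_spec E 6 2096 306323 edges_6_133 v (by omega) (by omega)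
                · exact edgesRange_spec E 6 2061 308419 edges_6_134 v (by omega) (by omega)
          · rcases Nat.lt_or_ge v 314657 with h | h
            · rcases Nat.lt_or_ge v 312616 with h | h
              · exact edgesRange_spec E 6 2136 310480 edges_6_135 v (by omega) (by omega)
              · exact edgesRange_spec E 6 2041 312616 edges_6_136 v (by omega) (by omega)
            · rcases Nat.lt_or_ge v 316813 with h | h
              · exact edgesRange_spec E 6 2156 314657 edges_6_137 v (by omega) (by omega)
              · rcases Nat.lt_or_ge v 319200 with h | h
                · exact edgesRange_spec E 6 2387 316813 edges_6_138 v (by omega) (by omega)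
                · exact edgesRange_spec E 6 1908 319200 edges_6_139 v (by omega) (by omega)
      · rcases Nat.lt_or_ge v 340571 with h | h
        · rcases Nat.lt_or_ge v 330925 with h | h
          · rcases Nat.lt_or_ge v 325029 with h | h
            · rcases Nat.lt_or_ge v 323070 with h | h
              · exact edgesRange_spec E 6 1962 321108 edges_6_140 v (by omega) (by omega)
              · exact edgesRange_spec E 6 1959 323070 edges_6_141 v (by omega) (by omega)
            · rcases Nat.lt_or_ge v 327006 with h | h
              · exact edgesRange_spec E 6 1977 325029 edges_6_142 v (by omega) (by omega)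
              · rcases Nat.lt_or_ge v 328934 with h | h
                · exact edgesRange_spec E 6 1928 327006 edges_6_143 v (by omega) (by omega)
                · exact edgesRange_spec E 6 1991 328934 edges_6_144 v (by omega) (by omega)
          · rcases Nat.lt_or_ge v 334903 with h | h
            · rcases Nat.lt_or_ge v 332890 with h | h
              · exact edgesRange_spec E 6 1965 330925 edges_6_145 v (by omega) (by omega)
              · exact edgesRange_spec E 6 2013 332890 edges_6_146 v (by omega) (by omega)
            · rcases Nat.lt_or_ge v 336956 with h | h
              · exact edgesRange_spec E 6 2053 334903 edges_6_147 v (by omega) (by omega)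
              · rcases Nat.lt_or_ge v 338786 with h | h
                · exact edgesRange_spec E 6 1830 336956 edges_6_148 v (by omega) (by omega)
                · exact edgesRange_spec E 6 1785 338786 edges_6_149 v (by omega) (by omega)
        · rcases Nat.lt_or_ge v 349469 with h | h
          · rcases Nat.lt_or_ge v 344241 with h | h
            · rcases Nat.lt_or_ge v 342449 with h | h
              · exact edgesRange_spec E 6 1878 340571 edges_6_150 v (by omega) (by omega)
              · exact edgesRange_spec E 6 1792 342449 edges_6_151 v (by omega) (by omega)
            · rcases Nat.lt_or_ge v 346146 with h | h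
              · exact edgesRange_spec E 6 1905 344241 edges_6_152 v (by omega) (by omega)
              · rcases Nat.lt_or_ge v 347904 with h | h
                · exact edgesRange_spec E 6 1758 346146 edges_6_153 v (by omega) (by omega)
                · exact edgesRange_spec E 6 1565 347904 edges_6_154 v (by omega) (by omega)
          · rcases Nat.lt_or_ge v 354287 with h | h
            · rcases Nat.lt_or_ge v 351229 with h | h
              · exact edgesRange_spec E 6 1760 349469 edges_6_155 v (by omega) (by omega)
              · rcases Nat.lt_or_ge v 352972 with h | h
                · exact edgesRange_spec E 6 1743 351229 edges_6_156 v (by omega) (by omega)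
                · exact edgesRange_spec E 6 1315 352972 edges_6_157 v (by omega) (by omega)
            · rcases Nat.lt_or_ge v 355738 with h | h
              · exact edgesRange_spec E 6 1451 354287 edges_6_158 v (by omega) (by omega)
              · rcases Nat.lt_or_ge v 356778 with h | h
                · exact edgesRange_spec E 6 1040 355738 edges_6_159 v (by omega) (by omega)
                · exact edgesRange_spec E 6 271 356778 edges_6_160 v (by omega) (by omega)

theorem edgesx_7 : ∀ v, v < 357049 → edgeOK E 7 v = true := by
  intro v hv
  rcases Nat.lt_or_ge v 194445 with h | h
  · rcases Nat.lt_or_ge v 109191 with h | h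
    · rcases Nat.lt_or_ge v 50765 with h | h
      · rcases Nat.lt_or_ge v 24186 with h | h
        · rcases Nat.lt_or_ge v 12411 with h | h
          · rcases Nat.lt_or_ge v 4511 with h | h
            · rcases Nat.lt_or_ge v 1999 with h | h
              · exact edgesRange_spec E 7 1999 0 edges_7_0 v (by omega) (by omega)
              · exact edgesRange_spec E 7 2512 1999 edges_7_1 v (by omega) (by omega)
            · rcases Nat.lt_or_ge v 7233 with h | h
              · exact edgesRange_spec E 7 2722 4511 edges_7_2 v (by omega) (by omega)
              · rcases Nat.lt_or_ge v 9944 with h | h
                · exact edgesRange_spec E 7 2711 7233 edges_7_3 v (by omega) (by omega)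
                · exact edgesRange_spec E 7 2467 9944 edges_7_4 v (by omega) (by omega)
          · rcases Nat.lt_or_ge v 17154 with h | h
            · rcases Nat.lt_or_ge v 14744 with h | h
              · exact edgesRange_spec E 7 2333 12411 edges_7_5 v (by omega) (by omega)
              · exact edgesRange_spec E 7 2410 14744 edges_7_6 v (by omega) (by omega)
            · rcases Nat.lt_or_ge v 19484 with h | h
              · exact edgesRange_spec E 7 2330 17154 edges_7_7 v (by omega) (by omega)
              · rcases Nat.lt_or_ge v 21774 with h | h
                · exact edgesRange_spec E 7 2290 19484 edges_7_8 v (by omega) (by omega)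
                · exact edgesRange_spec E 7 2412 21774 edges_7_9 v (by omega) (by omega)
        · rcases Nat.lt_or_ge v 36002 with h | h
          · rcases Nat.lt_or_ge v 28816 with h | h
            · rcases Nat.lt_or_ge v 26447 with h | h
              · exact edgesRange_spec E 7 2261 24186 edges_7_10 v (by omega) (by omega)
              · exact edgesRange_spec E 7 2369 26447 edges_7_11 v (by omega) (by omega)
            · rcases Nat.lt_or_ge v 31323 with h | h
              · exact edgesRange_spec E 7 2507 28816 edges_7_12 v (by omega) (by omega)
              · rcases Nat.lt_or_ge v 33711 with h | h
                · exact edgesRange_spec E 7 2388 31323 edges_7_13 v (by omega) (by omega)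
                · exact edgesRange_spec E 7 2291 33711 edges_7_14 v (by omega) (by omega)
          · rcases Nat.lt_or_ge v 43507 with h | h
            · rcases Nat.lt_or_ge v 38415 with h | h
              · exact edgesRange_spec E 7 2413 36002 edges_7_15 v (by omega) (by omega)
              · rcases Nat.lt_or_ge v 41122 with h | h
                · exact edgesRange_spec E 7 2707 38415 edges_7_16 v (by omega) (by omega)
                · exact edgesRange_spec E 7 2385 41122 edges_7_17 v (by omega) (by omega)
            · rcases Nat.lt_or_ge v 46045 with h | h
              · exact edgesRange_spec E 7 2538 43507 edges_7_18 v (by omega) (by omega)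
              · rcases Nat.lt_or_ge v 48254 with h | h
                · exact edgesRange_spec E 7 2209 46045 edges_7_19 v (by omega) (by omega)
                · exact edgesRange_spec E 7 2511 48254 edges_7_20 v (by omega) (by omega)
      · rcases Nat.lt_or_ge v 79907 with h | h
        · rcases Nat.lt_or_ge v 63706 with h | h
          · rcases Nat.lt_or_ge v 56364 with h | h
            · rcases Nat.lt_or_ge v 53637 with h | h
              · exact edgesRange_spec E 7 2872 50765 edges_7_21 v (by omega) (by omega)
              · exact edgesRange_spec E 7 2727 53637 edges_7_22 v (by omega) (by omega)
            · rcases Nat.lt_or_ge v 58699 with h | h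
              · exact edgesRange_spec E 7 2335 56364 edges_7_23 v (by omega) (by omega)
              · rcases Nat.lt_or_ge v 61470 with h | h
                · exact edgesRange_spec E 7 2771 58699 edges_7_24 v (by omega) (by omega)
                · exact edgesRange_spec E 7 2236 61470 edges_7_25 v (by omega) (by omega)
          · rcases Nat.lt_or_ge v 71916 with h | h
            · rcases Nat.lt_or_ge v 66226 with h | h
              · exact edgesRange_spec E 7 2520 63706 edges_7_26 v (by omega) (by omega)
              · rcases Nat.lt_or_ge v 68883 with h | h
                · exact edgesRange_spec E 7 2657 66226 edges_7_27 v (by omega) (by omega)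
                · exact edgesRange_spec E 7 3033 68883 edges_7_28 v (by omega) (by omega)
            · rcases Nat.lt_or_ge v 74956 with h | h
              · exact edgesRange_spec E 7 3040 71916 edges_7_29 v (by omega) (by omega)
              · rcases Nat.lt_or_ge v 77105 with h | h
                · exact edgesRange_spec E 7 2149 74956 edges_7_30 v (by omega) (by omega)
                · exact edgesRange_spec E 7 2802 77105 edges_7_31 v (by omega) (by omega)
        · rcases Nat.lt_or_ge v 93395 with h | h
          · rcases Nat.lt_or_ge v 84899 with h | h
            · rcases Nat.lt_or_ge v 82655 with h | h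
              · exact edgesRange_spec E 7 2748 79907 edges_7_32 v (by omega) (by omega)
              · exact edgesRange_spec E 7 2244 82655 edges_7_33 v (by omega) (by omega)
            · rcases Nat.lt_or_ge v 87278 with h | h
              · exact edgesRange_spec E 7 2379 84899 edges_7_34 v (by omega) (by omega)
              · rcases Nat.lt_or_ge v 90382 with h | h
                · exact edgesRange_spec E 7 3104 87278 edges_7_35 v (by omega) (by omega)
                · exact edgesRange_spec E 7 3013 90382 edges_7_36 v (by omega) (by omega)
          · rcases Nat.lt_or_ge v 101276 with h | h
            · rcases Nat.lt_or_ge v 95978 with h | h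
              · exact edgesRange_spec E 7 2583 93395 edges_7_37 v (by omega) (by omega)
              · rcases Nat.lt_or_ge v 99032 with h | h
                · exact edgesRange_spec E 7 3054 95978 edges_7_38 v (by omega) (by omega)
                · exact edgesRange_spec E 7 2244 99032 edges_7_39 v (by omega) (by omega)
            · rcases Nat.lt_or_ge v 103989 with h | h
              · exact edgesRange_spec E 7 2713 101276 edges_7_40 v (by omega) (by omega)
              · rcases Nat.lt_or_ge v 106850 with h | h
                · exact edgesRange_spec E 7 2861 103989 edges_7_41 v (by omega) (by omega)
                · exact edgesRange_spec E 7 2341 106850 edges_7_42 v (by omega) (by omega)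
    · rcases Nat.lt_or_ge v 153502 with h | h
      · rcases Nat.lt_or_ge v 132688 with h | h
        · rcases Nat.lt_or_ge v 122438 with h | h
          · rcases Nat.lt_or_ge v 113849 with h | h
            · rcases Nat.lt_or_ge v 111453 with h | h
              · exact edgesRange_spec E 7 2262 109191 edges_7_43 v (by omega) (by omega)
              · exact edgesRange_spec E 7 2396 111453 edges_7_44 v (by omega) (by omega)
            · rcases Nat.lt_or_ge v 117033 with h | h
              · exact edgesRange_spec E 7 3184 113849 edges_7_45 v (by omega) (by omega)
              · rcases Nat.lt_or_ge v 120006 with h | h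
                · exact edgesRange_spec E 7 2973 117033 edges_7_46 v (by omega) (by omega)
                · exact edgesRange_spec E 7 2432 120006 edges_7_47 v (by omega) (by omega)
          · rcases Nat.lt_or_ge v 127001 with h | h
            · rcases Nat.lt_or_ge v 125209 with h | h
              · exact edgesRange_spec E 7 2771 122438 edges_7_48 v (by omega) (by omega)
              · exact edgesRange_spec E 7 1792 125209 edges_7_49 v (by omega) (by omega)
            · rcases Nat.lt_or_ge v 128916 with h | h
              · exact edgesRange_spec E 7 1915 127001 edges_7_50 v (by omega) (by omega)
              · rcases Nat.lt_or_ge v 130756 with h | h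
                · exact edgesRange_spec E 7 1840 128916 edges_7_51 v (by omega) (by omega)
                · exact edgesRange_spec E 7 1932 130756 edges_7_52 v (by omega) (by omega)
        · rcases Nat.lt_or_ge v 142214 with h | h
          · rcases Nat.lt_or_ge v 136652 with h | h
            · rcases Nat.lt_or_ge v 134593 with h | h
              · exact edgesRange_spec E 7 1905 132688 edges_7_53 v (by omega) (by omega)
              · exact edgesRange_spec E 7 2059 134593 edges_7_54 v (by omega) (by omega)
            · rcases Nat.lt_or_ge v 138654 with h | h
              · exact edgesRange_spec E 7 2002 136652 edges_7_55 v (by omega) (by omega)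
              · rcases Nat.lt_or_ge v 140394 with h | h
                · exact edgesRange_spec E 7 1740 138654 edges_7_56 v (by omega) (by omega)
                · exact edgesRange_spec E 7 1820 140394 edges_7_57 v (by omega) (by omega)
          · rcases Nat.lt_or_ge v 147675 with h | h
            · rcases Nat.lt_or_ge v 143978 with h | h
              · exact edgesRange_spec E 7 1764 142214 edges_7_58 v (by omega) (by omega)
              · rcases Nat.lt_or_ge v 145889 with h | h
                · exact edgesRange_spec E 7 1911 143978 edges_7_59 v (by omega) (by omega)
                · exact edgesRange_spec E 7 1786 145889 edges_7_60 v (by omega) (by omega)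
            · rcases Nat.lt_or_ge v 149620 with h | h
              · exact edgesRange_spec E 7 1945 147675 edges_7_61 v (by omega) (by omega)
              · rcases Nat.lt_or_ge v 151481 with h | h
                · exact edgesRange_spec E 7 1861 149620 edges_7_62 v (by omega) (by omega)
                · exact edgesRange_spec E 7 2021 151481 edges_7_63 v (by omega) (by omega)
      · rcases Nat.lt_or_ge v 174025 with h | h
        · rcases Nat.lt_or_ge v 162597 with h | h
          · rcases Nat.lt_or_ge v 157382 with h | h
            · rcases Nat.lt_or_ge v 155495 with h | h
              · exact edgesRange_spec E 7 1993 153502 edges_7_64 v (by omega) (by omega)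
              · exact edgesRange_spec E 7 1887 155495 edges_7_65 v (by omega) (by omega)
            · rcases Nat.lt_or_ge v 159113 with h | h
              · exact edgesRange_spec E 7 1731 157382 edges_7_66 v (by omega) (by omega)
              · rcases Nat.lt_or_ge v 160863 with h | h
                · exact edgesRange_spec E 7 1750 159113 edges_7_67 v (by omega) (by omega)
                · exact edgesRange_spec E 7 1734 160863 edges_7_68 v (by omega) (by omega)
          · rcases Nat.lt_or_ge v 168275 with h | h
            · rcases Nat.lt_or_ge v 164514 with h | h
              · exact edgesRange_spec E 7 1917 162597 edges_7_69 v (by omega) (by omega)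
              · rcases Nat.lt_or_ge v 166303 with h | h
                · exact edgesRange_spec E 7 1789 164514 edges_7_70 v (by omega) (by omega)
                · exact edgesRange_spec E 7 1972 166303 edges_7_71 v (by omega) (by omega)
            · rcases Nat.lt_or_ge v 170100 with h | h
              · exact edgesRange_spec E 7 1825 168275 edges_7_72 v (by omega) (by omega)
              · rcases Nat.lt_or_ge v 171946 with h | h
                · exact edgesRange_spec E 7 1846 170100 edges_7_73 v (by omega) (by omega)
                · exact edgesRange_spec E 7 2079 171946 edges_7_74 v (by omega) (by omega)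
        · rcases Nat.lt_or_ge v 183080 with h | h
          · rcases Nat.lt_or_ge v 177779 with h | h
            · rcases Nat.lt_or_ge v 176047 with h | h
              · exact edgesRange_spec E 7 2022 174025 edges_7_75 v (by omega) (by omega)
              · exact edgesRange_spec E 7 1732 176047 edges_7_76 v (by omega) (by omega)
            · rcases Nat.lt_or_ge v 179610 with h | h
              · exact edgesRange_spec E 7 1831 177779 edges_7_77 v (by omega) (by omega)
              · rcases Nat.lt_or_ge v 181327 with h | h
                · exact edgesRange_spec E 7 1717 179610 edges_7_78 v (by omega) (by omega)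
                · exact edgesRange_spec E 7 1753 181327 edges_7_79 v (by omega) (by omega)
          · rcases Nat.lt_or_ge v 188752 with h | h
            · rcases Nat.lt_or_ge v 185026 with h | h
              · exact edgesRange_spec E 7 1946 183080 edges_7_80 v (by omega) (by omega)
              · rcases Nat.lt_or_ge v 186811 with h | h
                · exact edgesRange_spec E 7 1785 185026 edges_7_81 v (by omega) (by omega)
                · exact edgesRange_spec E 7 1941 186811 edges_7_82 v (by omega) (by omega)
            · rcases Nat.lt_or_ge v 190634 with h | h
              · exact edgesRange_spec E 7 1882 188752 edges_7_83 v (by omega) (by omega)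
              · rcases Nat.lt_or_ge v 192387 with h | h
                · exact edgesRange_spec E 7 1753 190634 edges_7_84 v (by omega) (by omega)
                · exact edgesRange_spec E 7 2058 192387 edges_7_85 v (by omega) (by omega)
  · rcases Nat.lt_or_ge v 276418 with h | h
    · rcases Nat.lt_or_ge v 234089 with h | h
      · rcases Nat.lt_or_ge v 213178 with h | h
        · rcases Nat.lt_or_ge v 203710 with h | h
          · rcases Nat.lt_or_ge v 198466 with h | h
            · rcases Nat.lt_or_ge v 196455 with h | h
              · exact edgesRange_spec E 7 2010 194445 edges_7_86 v (by omega) (by omega)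
              · exact edgesRange_spec E 7 2011 196455 edges_7_87 v (by omega) (by omega)
            · rcases Nat.lt_or_ge v 200196 with h | h
              · exact edgesRange_spec E 7 1730 198466 edges_7_88 v (by omega) (by omega)
              · rcases Nat.lt_or_ge v 201942 with h | h
                · exact edgesRange_spec E 7 1746 200196 edges_7_89 v (by omega) (by omega)
                · exact edgesRange_spec E 7 1768 201942 edges_7_90 v (by omega) (by omega)
          · rcases Nat.lt_or_ge v 207466 with h | h
            · rcases Nat.lt_or_ge v 205500 with h | h
              · exact edgesRange_spec E 7 1790 203710 edges_7_91 v (by omega) (by omega)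
              · exact edgesRange_spec E 7 1966 205500 edges_7_92 v (by omega) (by omega)
            · rcases Nat.lt_or_ge v 209399 with h | h
              · exact edgesRange_spec E 7 1933 207466 edges_7_93 v (by omega) (by omega)
              · rcases Nat.lt_or_ge v 211291 with h | h
                · exact edgesRange_spec E 7 1892 209399 edges_7_94 v (by omega) (by omega)
                · exact edgesRange_spec E 7 1887 211291 edges_7_95 v (by omega) (by omega)
        · rcases Nat.lt_or_ge v 222938 with h | h
          · rcases Nat.lt_or_ge v 217020 with h | h
            · rcases Nat.lt_or_ge v 214936 with h | h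
              · exact edgesRange_spec E 7 1758 213178 edges_7_96 v (by omega) (by omega)
              · exact edgesRange_spec E 7 2084 214936 edges_7_97 v (by omega) (by omega)
            · rcases Nat.lt_or_ge v 219093 with h | h
              · exact edgesRange_spec E 7 2073 217020 edges_7_98 v (by omega) (by omega)
              · rcases Nat.lt_or_ge v 221202 with h | h
                · exact edgesRange_spec E 7 2109 219093 edges_7_99 v (by omega) (by omega)
                · exact edgesRange_spec E 7 1736 221202 edges_7_100 v (by omega) (by omega)
          · rcases Nat.lt_or_ge v 228188 with h | h
            · rcases Nat.lt_or_ge v 224678 with h | h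
              · exact edgesRange_spec E 7 1740 222938 edges_7_101 v (by omega) (by omega)
              · rcases Nat.lt_or_ge v 226439 with h | h
                · exact edgesRange_spec E 7 1761 224678 edges_7_102 v (by omega) (by omega)
                · exact edgesRange_spec E 7 1749 226439 edges_7_103 v (by omega) (by omega)
            · rcases Nat.lt_or_ge v 230154 with h | h
              · exact edgesRange_spec E 7 1966 228188 edges_7_104 v (by omega) (by omega)
              · rcases Nat.lt_or_ge v 232114 with h | h
                · exact edgesRange_spec E 7 1960 230154 edges_7_105 v (by omega) (by omega)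
                · exact edgesRange_spec E 7 1975 232114 edges_7_106 v (by omega) (by omega)
      · rcases Nat.lt_or_ge v 255064 with h | h
        · rcases Nat.lt_or_ge v 243894 with h | h
          · rcases Nat.lt_or_ge v 237733 with h | h
            · rcases Nat.lt_or_ge v 235950 with h | h
              · exact edgesRange_spec E 7 1861 234089 edges_7_107 v (by omega) (by omega)
              · exact edgesRange_spec E 7 1783 235950 edges_7_108 v (by omega) (by omega)
            · rcases Nat.lt_or_ge v 239653 with h | h
              · exact edgesRange_spec E 7 1920 237733 edges_7_109 v (by omega) (by omega)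
              · rcases Nat.lt_or_ge v 241797 with h | h
                · exact edgesRange_spec E 7 2144 239653 edges_7_110 v (by omega) (by omega)
                · exact edgesRange_spec E 7 2097 241797 edges_7_111 v (by omega) (by omega)
          · rcases Nat.lt_or_ge v 249513 with h | h
            · rcases Nat.lt_or_ge v 245993 with h | h
              · exact edgesRange_spec E 7 2099 243894 edges_7_112 v (by omega) (by omega)
              · rcases Nat.lt_or_ge v 247829 with h | h
                · exact edgesRange_spec E 7 1836 245993 edges_7_113 v (by omega) (by omega)
                · exact edgesRange_spec E 7 1684 247829 edges_7_114 v (by omega) (by omega)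
            · rcases Nat.lt_or_ge v 251253 with h | h
              · exact edgesRange_spec E 7 1740 249513 edges_7_115 v (by omega) (by omega)
              · rcases Nat.lt_or_ge v 253034 with h | h
                · exact edgesRange_spec E 7 1781 251253 edges_7_116 v (by omega) (by omega)
                · exact edgesRange_spec E 7 2030 253034 edges_7_117 v (by omega) (by omega)
        · rcases Nat.lt_or_ge v 264705 with h | h
          · rcases Nat.lt_or_ge v 259087 with h | h
            · rcases Nat.lt_or_ge v 257095 with h | h
              · exact edgesRange_spec E 7 2031 255064 edges_7_118 v (by omega) (by omega)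
              · exact edgesRange_spec E 7 1992 257095 edges_7_119 v (by omega) (by omega)
            · rcases Nat.lt_or_ge v 260987 with h | h
              · exact edgesRange_spec E 7 1900 259087 edges_7_120 v (by omega) (by omega)
              · rcases Nat.lt_or_ge v 262788 with h | h
                · exact edgesRange_spec E 7 1801 260987 edges_7_121 v (by omega) (by omega)
                · exact edgesRange_spec E 7 1917 262788 edges_7_122 v (by omega) (by omega)
          · rcases Nat.lt_or_ge v 271177 with h | h
            · rcases Nat.lt_or_ge v 266869 with h | h
              · exact edgesRange_spec E 7 2164 264705 edges_7_123 v (by omega) (by omega)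
              · rcases Nat.lt_or_ge v 269052 with h | h
                · exact edgesRange_spec E 7 2183 266869 edges_7_124 v (by omega) (by omega)
                · exact edgesRange_spec E 7 2125 269052 edges_7_125 v (by omega) (by omega)
            · rcases Nat.lt_or_ge v 272995 with h | h
              · exact edgesRange_spec E 7 1818 271177 edges_7_126 v (by omega) (by omega)
              · rcases Nat.lt_or_ge v 274658 with h | h
                · exact edgesRange_spec E 7 1663 272995 edges_7_127 v (by omega) (by omega)
                · exact edgesRange_spec E 7 1760 274658 edges_7_128 v (by omega) (by omega)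
    · rcases Nat.lt_or_ge v 317106 with h | h
      · rcases Nat.lt_or_ge v 296232 with h | h
        · rcases Nat.lt_or_ge v 286125 with h | h
          · rcases Nat.lt_or_ge v 280188 with h | h
            · rcases Nat.lt_or_ge v 278110 with h | h
              · exact edgesRange_spec E 7 1692 276418 edges_7_129 v (by omega) (by omega)
              · exact edgesRange_spec E 7 2078 278110 edges_7_130 v (by omega) (by omega)
            · rcases Nat.lt_or_ge v 282161 with h | h
              · exact edgesRange_spec E 7 1973 280188 edges_7_131 v (by omega) (by omega)
              · rcases Nat.lt_or_ge v 284266 with h | h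
                · exact edgesRange_spec E 7 2105 282161 edges_7_132 v (by omega) (by omega)
                · exact edgesRange_spec E 7 1859 284266 edges_7_133 v (by omega) (by omega)
          · rcases Nat.lt_or_ge v 289801 with h | h
            · rcases Nat.lt_or_ge v 287997 with h | h
              · exact edgesRange_spec E 7 1872 286125 edges_7_134 v (by omega) (by omega)
              · exact edgesRange_spec E 7 1804 287997 edges_7_135 v (by omega) (by omega)
            · rcases Nat.lt_or_ge v 292009 with h | h
              · exact edgesRange_spec E 7 2208 289801 edges_7_136 v (by omega) (by omega)
              · rcases Nat.lt_or_ge v 294232 with h | h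
                · exact edgesRange_spec E 7 2223 292009 edges_7_137 v (by omega) (by omega)
                · exact edgesRange_spec E 7 2000 294232 edges_7_138 v (by omega) (by omega)
        · rcases Nat.lt_or_ge v 305150 with h | h
          · rcases Nat.lt_or_ge v 299689 with h | h
            · rcases Nat.lt_or_ge v 298055 with h | h
              · exact edgesRange_spec E 7 1823 296232 edges_7_139 v (by omega) (by omega)
              · exact edgesRange_spec E 7 1634 298055 edges_7_140 v (by omega) (by omega)
            · rcases Nat.lt_or_ge v 301400 with h | h
              · exact edgesRange_spec E 7 1711 299689 edges_7_141 v (by omega) (by omega)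
              · rcases Nat.lt_or_ge v 303116 with h | h
                · exact edgesRange_spec E 7 1716 301400 edges_7_142 v (by omega) (by omega)
                · exact edgesRange_spec E 7 2034 303116 edges_7_143 v (by omega) (by omega)
          · rcases Nat.lt_or_ge v 311030 with h | h
            · rcases Nat.lt_or_ge v 307119 with h | h
              · exact edgesRange_spec E 7 1969 305150 edges_7_144 v (by omega) (by omega)
              · rcases Nat.lt_or_ge v 309102 with h | h
                · exact edgesRange_spec E 7 1983 307119 edges_7_145 v (by omega) (by omega)
                · exact edgesRange_spec E 7 1928 309102 edges_7_146 v (by omega) (by omega)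
            · rcases Nat.lt_or_ge v 312849 with h | h
              · exact edgesRange_spec E 7 1819 311030 edges_7_147 v (by omega) (by omega)
              · rcases Nat.lt_or_ge v 314935 with h | h
                · exact edgesRange_spec E 7 2086 312849 edges_7_148 v (by omega) (by omega)
                · exact edgesRange_spec E 7 2171 314935 edges_7_149 v (by omega) (by omega)
      · rcases Nat.lt_or_ge v 337630 with h | h
        · rcases Nat.lt_or_ge v 326054 with h | h
          · rcases Nat.lt_or_ge v 320769 with h | h
            · rcases Nat.lt_or_ge v 319098 with h | h
              · exact edgesRange_spec E 7 1992 317106 edges_7_150 v (by omega) (by omega)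
              · exact edgesRange_spec E 7 1671 319098 edges_7_151 v (by omega) (by omega)
            · rcases Nat.lt_or_ge v 322364 with h | h
              · exact edgesRange_spec E 7 1595 320769 edges_7_152 v (by omega) (by omega)
              · rcases Nat.lt_or_ge v 324156 with h | h
                · exact edgesRange_spec E 7 1792 322364 edges_7_153 v (by omega) (by omega)
                · exact edgesRange_spec E 7 1898 324156 edges_7_154 v (by omega) (by omega)
          · rcases Nat.lt_or_ge v 331877 with h | h
            · rcases Nat.lt_or_ge v 328037 with h | h
              · exact edgesRange_spec E 7 1983 326054 edges_7_155 v (by omega) (by omega)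
              · rcases Nat.lt_or_ge v 329963 with h | h
                · exact edgesRange_spec E 7 1926 328037 edges_7_156 v (by omega) (by omega)
                · exact edgesRange_spec E 7 1914 329963 edges_7_157 v (by omega) (by omega)
            · rcases Nat.lt_or_ge v 333946 with h | h
              · exact edgesRange_spec E 7 2069 331877 edges_7_158 v (by omega) (by omega)
              · rcases Nat.lt_or_ge v 335877 with h | h
                · exact edgesRange_spec E 7 1931 333946 edges_7_159 v (by omega) (by omega)
                · exact edgesRange_spec E 7 1753 335877 edges_7_160 v (by omega) (by omega)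
        · rcases Nat.lt_or_ge v 346902 with h | h
          · rcases Nat.lt_or_ge v 341159 with h | h
            · rcases Nat.lt_or_ge v 339296 with h | h
              · exact edgesRange_spec E 7 1666 337630 edges_7_161 v (by omega) (by omega)
              · exact edgesRange_spec E 7 1863 339296 edges_7_162 v (by omega) (by omega)
            · rcases Nat.lt_or_ge v 343109 with h | h
              · exact edgesRange_spec E 7 1950 341159 edges_7_163 v (by omega) (by omega)
              · rcases Nat.lt_or_ge v 345004 with h | h
                · exact edgesRange_spec E 7 1895 343109 edges_7_164 v (by omega) (by omega)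
                · exact edgesRange_spec E 7 1898 345004 edges_7_165 v (by omega) (by omega)
          · rcases Nat.lt_or_ge v 352458 with h | h
            · rcases Nat.lt_or_ge v 348683 with h | h
              · exact edgesRange_spec E 7 1781 346902 edges_7_166 v (by omega) (by omega)
              · rcases Nat.lt_or_ge v 350556 with h | h
                · exact edgesRange_spec E 7 1873 348683 edges_7_167 v (by omega) (by omega)
                · exact edgesRange_spec E 7 1902 350556 edges_7_168 v (by omega) (by omega)
            · rcases Nat.lt_or_ge v 354244 with h | h
              · exact edgesRange_spec E 7 1786 352458 edges_7_169 v (by omega) (by omega)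
              · rcases Nat.lt_or_ge v 356131 with h | h
                · exact edgesRange_spec E 7 1887 354244 edges_7_170 v (by omega) (by omega)
                · exact edgesRange_spec E 7 918 356131 edges_7_171 v (by omega) (by omega)

theorem edgesx_8 : ∀ v, v < 357049 → edgeOK E 8 v = true := by
  intro v hv
  rcases Nat.lt_or_ge v 197712 with h | h
  · rcases Nat.lt_or_ge v 111050 with h | h
    · rcases Nat.lt_or_ge v 52866 with h | h
      · rcases Nat.lt_or_ge v 25627 with h | h
        · rcases Nat.lt_or_ge v 11236 with h | h
          · rcases Nat.lt_or_ge v 3962 with h | h
            · rcases Nat.lt_or_ge v 1850 with h | h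
              · exact edgesRange_spec E 8 1850 0 edges_8_0 v (by omega) (by omega)
              · exact edgesRange_spec E 8 2112 1850 edges_8_1 v (by omega) (by omega)
            · rcases Nat.lt_or_ge v 6339 with h | h
              · exact edgesRange_spec E 8 2377 3962 edges_8_2 v (by omega) (by omega)
              · rcases Nat.lt_or_ge v 8805 with h | h
                · exact edgesRange_spec E 8 2466 6339 edges_8_3 v (by omega) (by omega)
                · exact edgesRange_spec E 8 2431 8805 edges_8_4 v (by omega) (by omega)
          · rcases Nat.lt_or_ge v 18378 with h | h
            · rcases Nat.lt_or_ge v 13574 with h | h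
              · exact edgesRange_spec E 8 2338 11236 edges_8_5 v (by omega) (by omega)
              · rcases Nat.lt_or_ge v 15879 with h | h
                · exact edgesRange_spec E 8 2305 13574 edges_8_6 v (by omega) (by omega)
                · exact edgesRange_spec E 8 2499 15879 edges_8_7 v (by omega) (by omega)
            · rcases Nat.lt_or_ge v 20679 with h | h
              · exact edgesRange_spec E 8 2301 18378 edges_8_8 v (by omega) (by omega)
              · rcases Nat.lt_or_ge v 23235 with h | h
                · exact edgesRange_spec E 8 2556 20679 edges_8_9 v (by omega) (by omega)
                · exact edgesRange_spec E 8 2392 23235 edges_8_10 v (by omega) (by omega)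
        · rcases Nat.lt_or_ge v 37572 with h | h
          · rcases Nat.lt_or_ge v 30493 with h | h
            · rcases Nat.lt_or_ge v 27863 with h | h
              · exact edgesRange_spec E 8 2236 25627 edges_8_11 v (by omega) (by omega)
              · exact edgesRange_spec E 8 2630 27863 edges_8_12 v (by omega) (by omega)
            · rcases Nat.lt_or_ge v 32867 with h | h
              · exact edgesRange_spec E 8 2374 30493 edges_8_13 v (by omega) (by omega)
              · rcases Nat.lt_or_ge v 35248 with h | h
                · exact edgesRange_spec E 8 2381 32867 edges_8_14 v (by omega) (by omega)
                · exact edgesRange_spec E 8 2324 35248 edges_8_15 v (by omega) (by omega)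
          · rcases Nat.lt_or_ge v 45281 with h | h
            · rcases Nat.lt_or_ge v 40302 with h | h
              · exact edgesRange_spec E 8 2730 37572 edges_8_16 v (by omega) (by omega)
              · rcases Nat.lt_or_ge v 42760 with h | h
                · exact edgesRange_spec E 8 2458 40302 edges_8_17 v (by omega) (by omega)
                · exact edgesRange_spec E 8 2521 42760 edges_8_18 v (by omega) (by omega)
            · rcases Nat.lt_or_ge v 47558 with h | h
              · exact edgesRange_spec E 8 2277 45281 edges_8_19 v (by omega) (by omega)
              · rcases Nat.lt_or_ge v 49990 with h | h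
                · exact edgesRange_spec E 8 2432 47558 edges_8_20 v (by omega) (by omega)
                · exact edgesRange_spec E 8 2876 49990 edges_8_21 v (by omega) (by omega)
      · rcases Nat.lt_or_ge v 80703 with h | h
        · rcases Nat.lt_or_ge v 64919 with h | h
          · rcases Nat.lt_or_ge v 57784 with h | h
            · rcases Nat.lt_or_ge v 55475 with h | h
              · exact edgesRange_spec E 8 2609 52866 edges_8_22 v (by omega) (by omega)
              · exact edgesRange_spec E 8 2309 55475 edges_8_23 v (by omega) (by omega)
            · rcases Nat.lt_or_ge v 60312 with h | h
              · exact edgesRange_spec E 8 2528 57784 edges_8_24 v (by omega) (by omega)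
              · rcases Nat.lt_or_ge v 62820 with h | h
                · exact edgesRange_spec E 8 2508 60312 edges_8_25 v (by omega) (by omega)
                · exact edgesRange_spec E 8 2099 62820 edges_8_26 v (by omega) (by omega)
          · rcases Nat.lt_or_ge v 73144 with h | h
            · rcases Nat.lt_or_ge v 67610 with h | h
              · exact edgesRange_spec E 8 2691 64919 edges_8_27 v (by omega) (by omega)
              · rcases Nat.lt_or_ge v 70522 with h | h
                · exact edgesRange_spec E 8 2912 67610 edges_8_28 v (by omega) (by omega)
                · exact edgesRange_spec E 8 2622 70522 edges_8_29 v (by omega) (by omega)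
            · rcases Nat.lt_or_ge v 75825 with h | h
              · exact edgesRange_spec E 8 2681 73144 edges_8_30 v (by omega) (by omega)
              · rcases Nat.lt_or_ge v 77954 with h | h
                · exact edgesRange_spec E 8 2129 75825 edges_8_31 v (by omega) (by omega)
                · exact edgesRange_spec E 8 2749 77954 edges_8_32 v (by omega) (by omega)
        · rcases Nat.lt_or_ge v 96077 with h | h
          · rcases Nat.lt_or_ge v 87717 with h | h
            · rcases Nat.lt_or_ge v 83322 with h | h
              · exact edgesRange_spec E 8 2619 80703 edges_8_33 v (by omega) (by omega)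
              · rcases Nat.lt_or_ge v 85399 with h | h
                · exact edgesRange_spec E 8 2077 83322 edges_8_34 v (by omega) (by omega)
                · exact edgesRange_spec E 8 2318 85399 edges_8_35 v (by omega) (by omega)
            · rcases Nat.lt_or_ge v 90568 with h | h
              · exact edgesRange_spec E 8 2851 87717 edges_8_36 v (by omega) (by omega)
              · rcases Nat.lt_or_ge v 93632 with h | h
                · exact edgesRange_spec E 8 3064 90568 edges_8_37 v (by omega) (by omega)
                · exact edgesRange_spec E 8 2445 93632 edges_8_38 v (by omega) (by omega)
          · rcases Nat.lt_or_ge v 103732 with h | h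
            · rcases Nat.lt_or_ge v 99051 with h | h
              · exact edgesRange_spec E 8 2974 96077 edges_8_39 v (by omega) (by omega)
              · rcases Nat.lt_or_ge v 101220 with h | h
                · exact edgesRange_spec E 8 2169 99051 edges_8_40 v (by omega) (by omega)
                · exact edgesRange_spec E 8 2512 101220 edges_8_41 v (by omega) (by omega)
            · rcases Nat.lt_or_ge v 106500 with h | h
              · exact edgesRange_spec E 8 2768 103732 edges_8_42 v (by omega) (by omega)
              · rcases Nat.lt_or_ge v 108936 with h | h
                · exact edgesRange_spec E 8 2436 106500 edges_8_43 v (by omega) (by omega)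
                · exact edgesRange_spec E 8 2114 108936 edges_8_44 v (by omega) (by omega)
    · rcases Nat.lt_or_ge v 155746 with h | h
      · rcases Nat.lt_or_ge v 135561 with h | h
        · rcases Nat.lt_or_ge v 124510 with h | h
          · rcases Nat.lt_or_ge v 115999 with h | h
            · rcases Nat.lt_or_ge v 113269 with h | h
              · exact edgesRange_spec E 8 2219 111050 edges_8_45 v (by omega) (by omega)
              · exact edgesRange_spec E 8 2730 113269 edges_8_46 v (by omega) (by omega)
            · rcases Nat.lt_or_ge v 118840 with h | h
              · exact edgesRange_spec E 8 2841 115999 edges_8_47 v (by omega) (by omega)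
              · rcases Nat.lt_or_ge v 121590 with h | h
                · exact edgesRange_spec E 8 2750 118840 edges_8_48 v (by omega) (by omega)
                · exact edgesRange_spec E 8 2920 121590 edges_8_49 v (by omega) (by omega)
          · rcases Nat.lt_or_ge v 129894 with h | h
            · rcases Nat.lt_or_ge v 126294 with h | h
              · exact edgesRange_spec E 8 1784 124510 edges_8_50 v (by omega) (by omega)
              · rcases Nat.lt_or_ge v 128202 with h | h
                · exact edgesRange_spec E 8 1908 126294 edges_8_51 v (by omega) (by omega)
                · exact edgesRange_spec E 8 1692 128202 edges_8_52 v (by omega) (by omega)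
            · rcases Nat.lt_or_ge v 131825 with h | h
              · exact edgesRange_spec E 8 1931 129894 edges_8_53 v (by omega) (by omega)
              · rcases Nat.lt_or_ge v 133581 with h | h
                · exact edgesRange_spec E 8 1756 131825 edges_8_54 v (by omega) (by omega)
                · exact edgesRange_spec E 8 1980 133581 edges_8_55 v (by omega) (by omega)
        · rcases Nat.lt_or_ge v 144584 with h | h
          · rcases Nat.lt_or_ge v 139301 with h | h
            · rcases Nat.lt_or_ge v 137418 with h | h
              · exact edgesRange_spec E 8 1857 135561 edges_8_56 v (by omega) (by omega)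
              · exact edgesRange_spec E 8 1883 137418 edges_8_57 v (by omega) (by omega)
            · rcases Nat.lt_or_ge v 141053 with h | h
              · exact edgesRange_spec E 8 1752 139301 edges_8_58 v (by omega) (by omega)
              · rcases Nat.lt_or_ge v 142813 with h | h
                · exact edgesRange_spec E 8 1760 141053 edges_8_59 v (by omega) (by omega)
                · exact edgesRange_spec E 8 1771 142813 edges_8_60 v (by omega) (by omega)
          · rcases Nat.lt_or_ge v 150048 with h | h
            · rcases Nat.lt_or_ge v 146417 with h | h
              · exact edgesRange_spec E 8 1833 144584 edges_8_61 v (by omega) (by omega)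
              · rcases Nat.lt_or_ge v 148230 with h | h
                · exact edgesRange_spec E 8 1813 146417 edges_8_62 v (by omega) (by omega)
                · exact edgesRange_spec E 8 1818 148230 edges_8_63 v (by omega) (by omega)
            · rcases Nat.lt_or_ge v 151843 with h | h
              · exact edgesRange_spec E 8 1795 150048 edges_8_64 v (by omega) (by omega)
              · rcases Nat.lt_or_ge v 153875 with h | h
                · exact edgesRange_spec E 8 2032 151843 edges_8_65 v (by omega) (by omega)
                · exact edgesRange_spec E 8 1871 153875 edges_8_66 v (by omega) (by omega)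
      · rcases Nat.lt_or_ge v 175836 with h | h
        · rcases Nat.lt_or_ge v 164685 with h | h
          · rcases Nat.lt_or_ge v 159291 with h | h
            · rcases Nat.lt_or_ge v 157571 with h | h
              · exact edgesRange_spec E 8 1825 155746 edges_8_67 v (by omega) (by omega)
              · exact edgesRange_spec E 8 1720 157571 edges_8_68 v (by omega) (by omega)
            · rcases Nat.lt_or_ge v 161026 with h | h
              · exact edgesRange_spec E 8 1735 159291 edges_8_69 v (by omega) (by omega)
              · rcases Nat.lt_or_ge v 162740 with h | h
                · exact edgesRange_spec E 8 1714 161026 edges_8_70 v (by omega) (by omega)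
                · exact edgesRange_spec E 8 1945 162740 edges_8_71 v (by omega) (by omega)
          · rcases Nat.lt_or_ge v 170000 with h | h
            · rcases Nat.lt_or_ge v 166332 with h | h
              · exact edgesRange_spec E 8 1647 164685 edges_8_72 v (by omega) (by omega)
              · rcases Nat.lt_or_ge v 168278 with h | h
                · exact edgesRange_spec E 8 1946 166332 edges_8_73 v (by omega) (by omega)
                · exact edgesRange_spec E 8 1722 168278 edges_8_74 v (by omega) (by omega)
            · rcases Nat.lt_or_ge v 171877 with h | h
              · exact edgesRange_spec E 8 1877 170000 edges_8_75 v (by omega) (by omega)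
              · rcases Nat.lt_or_ge v 173923 with h | h
                · exact edgesRange_spec E 8 2046 171877 edges_8_76 v (by omega) (by omega)
                · exact edgesRange_spec E 8 1913 173923 edges_8_77 v (by omega) (by omega)
        · rcases Nat.lt_or_ge v 186314 with h | h
          · rcases Nat.lt_or_ge v 181014 with h | h
            · rcases Nat.lt_or_ge v 177586 with h | h
              · exact edgesRange_spec E 8 1750 175836 edges_8_78 v (by omega) (by omega)
              · rcases Nat.lt_or_ge v 179330 with h | h
                · exact edgesRange_spec E 8 1744 177586 edges_8_79 v (by omega) (by omega)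
                · exact edgesRange_spec E 8 1684 179330 edges_8_80 v (by omega) (by omega)
            · rcases Nat.lt_or_ge v 182698 with h | h
              · exact edgesRange_spec E 8 1684 181014 edges_8_81 v (by omega) (by omega)
              · rcases Nat.lt_or_ge v 184570 with h | h
                · exact edgesRange_spec E 8 1872 182698 edges_8_82 v (by omega) (by omega)
                · exact edgesRange_spec E 8 1744 184570 edges_8_83 v (by omega) (by omega)
          · rcases Nat.lt_or_ge v 191738 with h | h
            · rcases Nat.lt_or_ge v 188270 with h | h
              · exact edgesRange_spec E 8 1956 186314 edges_8_84 v (by omega) (by omega)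
              · rcases Nat.lt_or_ge v 189989 with h | h
                · exact edgesRange_spec E 8 1719 188270 edges_8_85 v (by omega) (by omega)
                · exact edgesRange_spec E 8 1749 189989 edges_8_86 v (by omega) (by omega)
            · rcases Nat.lt_or_ge v 193700 with h | h
              · exact edgesRange_spec E 8 1962 191738 edges_8_87 v (by omega) (by omega)
              · rcases Nat.lt_or_ge v 195813 with h | h
                · exact edgesRange_spec E 8 2113 193700 edges_8_88 v (by omega) (by omega)
                · exact edgesRange_spec E 8 1899 195813 edges_8_89 v (by omega) (by omega)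
  · rcases Nat.lt_or_ge v 278371 with h | h
    · rcases Nat.lt_or_ge v 236964 with h | h
      · rcases Nat.lt_or_ge v 217384 with h | h
        · rcases Nat.lt_or_ge v 206298 with h | h
          · rcases Nat.lt_or_ge v 201148 with h | h
            · rcases Nat.lt_or_ge v 199462 with h | h
              · exact edgesRange_spec E 8 1750 197712 edges_8_90 v (by omega) (by omega)
              · exact edgesRange_spec E 8 1686 199462 edges_8_91 v (by omega) (by omega)
            · rcases Nat.lt_or_ge v 202763 with h | h
              · exact edgesRange_spec E 8 1615 201148 edges_8_92 v (by omega) (by omega)
              · rcases Nat.lt_or_ge v 204407 with h | h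
                · exact edgesRange_spec E 8 1644 202763 edges_8_93 v (by omega) (by omega)
                · exact edgesRange_spec E 8 1891 204407 edges_8_94 v (by omega) (by omega)
          · rcases Nat.lt_or_ge v 211753 with h | h
            · rcases Nat.lt_or_ge v 208085 with h | h
              · exact edgesRange_spec E 8 1787 206298 edges_8_95 v (by omega) (by omega)
              · rcases Nat.lt_or_ge v 210037 with h | h
                · exact edgesRange_spec E 8 1952 208085 edges_8_96 v (by omega) (by omega)
                · exact edgesRange_spec E 8 1716 210037 edges_8_97 v (by omega) (by omega)
            · rcases Nat.lt_or_ge v 213433 with h | h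
              · exact edgesRange_spec E 8 1680 211753 edges_8_98 v (by omega) (by omega)
              · rcases Nat.lt_or_ge v 215326 with h | h
                · exact edgesRange_spec E 8 1893 213433 edges_8_99 v (by omega) (by omega)
                · exact edgesRange_spec E 8 2058 215326 edges_8_100 v (by omega) (by omega)
        · rcases Nat.lt_or_ge v 226245 with h | h
          · rcases Nat.lt_or_ge v 221357 with h | h
            · rcases Nat.lt_or_ge v 219507 with h | h
              · exact edgesRange_spec E 8 2123 217384 edges_8_101 v (by omega) (by omega)
              · exact edgesRange_spec E 8 1850 219507 edges_8_102 v (by omega) (by omega)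
            · rcases Nat.lt_or_ge v 223033 with h | h
              · exact edgesRange_spec E 8 1676 221357 edges_8_103 v (by omega) (by omega)
              · rcases Nat.lt_or_ge v 224660 with h | h
                · exact edgesRange_spec E 8 1627 223033 edges_8_104 v (by omega) (by omega)
                · exact edgesRange_spec E 8 1585 224660 edges_8_105 v (by omega) (by omega)
          · rcases Nat.lt_or_ge v 231560 with h | h
            · rcases Nat.lt_or_ge v 227856 with h | h
              · exact edgesRange_spec E 8 1611 226245 edges_8_106 v (by omega) (by omega)
              · rcases Nat.lt_or_ge v 229785 with h | h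
                · exact edgesRange_spec E 8 1929 227856 edges_8_107 v (by omega) (by omega)
                · exact edgesRange_spec E 8 1775 229785 edges_8_108 v (by omega) (by omega)
            · rcases Nat.lt_or_ge v 233572 with h | h
              · exact edgesRange_spec E 8 2012 231560 edges_8_109 v (by omega) (by omega)
              · rcases Nat.lt_or_ge v 235240 with h | h
                · exact edgesRange_spec E 8 1668 233572 edges_8_110 v (by omega) (by omega)
                · exact edgesRange_spec E 8 1724 235240 edges_8_111 v (by omega) (by omega)
      · rcases Nat.lt_or_ge v 256953 with h | h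
        · rcases Nat.lt_or_ge v 246755 with h | h
          · rcases Nat.lt_or_ge v 240769 with h | h
            · rcases Nat.lt_or_ge v 238728 with h | h
              · exact edgesRange_spec E 8 1764 236964 edges_8_112 v (by omega) (by omega)
              · exact edgesRange_spec E 8 2041 238728 edges_8_113 v (by omega) (by omega)
            · rcases Nat.lt_or_ge v 242911 with h | h
              · exact edgesRange_spec E 8 2142 240769 edges_8_114 v (by omega) (by omega)
              · rcases Nat.lt_or_ge v 244894 with h | h
                · exact edgesRange_spec E 8 1983 242911 edges_8_115 v (by omega) (by omega)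
                · exact edgesRange_spec E 8 1861 244894 edges_8_116 v (by omega) (by omega)
          · rcases Nat.lt_or_ge v 251461 with h | h
            · rcases Nat.lt_or_ge v 248311 with h | h
              · exact edgesRange_spec E 8 1556 246755 edges_8_117 v (by omega) (by omega)
              · rcases Nat.lt_or_ge v 249850 with h | h
                · exact edgesRange_spec E 8 1539 248311 edges_8_118 v (by omega) (by omega)
                · exact edgesRange_spec E 8 1611 249850 edges_8_119 v (by omega) (by omega)
            · rcases Nat.lt_or_ge v 253173 with h | h
              · exact edgesRange_spec E 8 1712 251461 edges_8_120 v (by omega) (by omega)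
              · rcases Nat.lt_or_ge v 255089 with h | h
                · exact edgesRange_spec E 8 1916 253173 edges_8_121 v (by omega) (by omega)
                · exact edgesRange_spec E 8 1864 255089 edges_8_122 v (by omega) (by omega)
        · rcases Nat.lt_or_ge v 268153 with h | h
          · rcases Nat.lt_or_ge v 262246 with h | h
            · rcases Nat.lt_or_ge v 258870 with h | h
              · exact edgesRange_spec E 8 1917 256953 edges_8_123 v (by omega) (by omega)
              · rcases Nat.lt_or_ge v 260536 with h | h
                · exact edgesRange_spec E 8 1666 258870 edges_8_124 v (by omega) (by omega)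
                · exact edgesRange_spec E 8 1710 260536 edges_8_125 v (by omega) (by omega)
            · rcases Nat.lt_or_ge v 264000 with h | h
              · exact edgesRange_spec E 8 1754 262246 edges_8_126 v (by omega) (by omega)
              · rcases Nat.lt_or_ge v 266017 with h | h
                · exact edgesRange_spec E 8 2017 264000 edges_8_127 v (by omega) (by omega)
                · exact edgesRange_spec E 8 2136 266017 edges_8_128 v (by omega) (by omega)
          · rcases Nat.lt_or_ge v 273648 with h | h
            · rcases Nat.lt_or_ge v 270179 with h | h
              · exact edgesRange_spec E 8 2026 268153 edges_8_129 v (by omega) (by omega)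
              · rcases Nat.lt_or_ge v 272121 with h | h
                · exact edgesRange_spec E 8 1942 270179 edges_8_130 v (by omega) (by omega)
                · exact edgesRange_spec E 8 1527 272121 edges_8_131 v (by omega) (by omega)
            · rcases Nat.lt_or_ge v 275158 with h | h
              · exact edgesRange_spec E 8 1510 273648 edges_8_132 v (by omega) (by omega)
              · rcases Nat.lt_or_ge v 276738 with h | h
                · exact edgesRange_spec E 8 1580 275158 edges_8_133 v (by omega) (by omega)
                · exact edgesRange_spec E 8 1633 276738 edges_8_134 v (by omega) (by omega)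
    · rcases Nat.lt_or_ge v 318288 with h | h
      · rcases Nat.lt_or_ge v 298684 with h | h
        · rcases Nat.lt_or_ge v 287477 with h | h
          · rcases Nat.lt_or_ge v 282128 with h | h
            · rcases Nat.lt_or_ge v 280296 with h | h
              · exact edgesRange_spec E 8 1925 278371 edges_8_135 v (by omega) (by omega)
              · exact edgesRange_spec E 8 1832 280296 edges_8_136 v (by omega) (by omega)
            · rcases Nat.lt_or_ge v 284119 with h | h
              · exact edgesRange_spec E 8 1991 282128 edges_8_137 v (by omega) (by omega)
              · rcases Nat.lt_or_ge v 285722 with h | h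
                · exact edgesRange_spec E 8 1603 284119 edges_8_138 v (by omega) (by omega)
                · exact edgesRange_spec E 8 1755 285722 edges_8_139 v (by omega) (by omega)
          · rcases Nat.lt_or_ge v 293213 with h | h
            · rcases Nat.lt_or_ge v 289140 with h | h
              · exact edgesRange_spec E 8 1663 287477 edges_8_140 v (by omega) (by omega)
              · rcases Nat.lt_or_ge v 291065 with h | h
                · exact edgesRange_spec E 8 1925 289140 edges_8_141 v (by omega) (by omega)
                · exact edgesRange_spec E 8 2148 291065 edges_8_142 v (by omega) (by omega)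
            · rcases Nat.lt_or_ge v 295195 with h | h
              · exact edgesRange_spec E 8 1982 293213 edges_8_143 v (by omega) (by omega)
              · rcases Nat.lt_or_ge v 297184 with h | h
                · exact edgesRange_spec E 8 1989 295195 edges_8_144 v (by omega) (by omega)
                · exact edgesRange_spec E 8 1500 297184 edges_8_145 v (by omega) (by omega)
        · rcases Nat.lt_or_ge v 307141 with h | h
          · rcases Nat.lt_or_ge v 301738 with h | h
            · rcases Nat.lt_or_ge v 300154 with h | h
              · exact edgesRange_spec E 8 1470 298684 edges_8_146 v (by omega) (by omega)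
              · exact edgesRange_spec E 8 1584 300154 edges_8_147 v (by omega) (by omega)
            · rcases Nat.lt_or_ge v 303313 with h | h
              · exact edgesRange_spec E 8 1575 301738 edges_8_148 v (by omega) (by omega)
              · rcases Nat.lt_or_ge v 305169 with h | h
                · exact edgesRange_spec E 8 1856 303313 edges_8_149 v (by omega) (by omega)
                · exact edgesRange_spec E 8 1972 305169 edges_8_150 v (by omega) (by omega)
          · rcases Nat.lt_or_ge v 312254 with h | h
            · rcases Nat.lt_or_ge v 308897 with h | h
              · exact edgesRange_spec E 8 1756 307141 edges_8_151 v (by omega) (by omega)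
              · rcases Nat.lt_or_ge v 310541 with h | h
                · exact edgesRange_spec E 8 1644 308897 edges_8_152 v (by omega) (by omega)
                · exact edgesRange_spec E 8 1713 310541 edges_8_153 v (by omega) (by omega)
            · rcases Nat.lt_or_ge v 314056 with h | h
              · exact edgesRange_spec E 8 1802 312254 edges_8_154 v (by omega) (by omega)
              · rcases Nat.lt_or_ge v 316167 with h | h
                · exact edgesRange_spec E 8 2111 314056 edges_8_155 v (by omega) (by omega)
                · exact edgesRange_spec E 8 2121 316167 edges_8_156 v (by omega) (by omega)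
      · rcases Nat.lt_or_ge v 337039 with h | h
        · rcases Nat.lt_or_ge v 326170 with h | h
          · rcases Nat.lt_or_ge v 321347 with h | h
            · rcases Nat.lt_or_ge v 319885 with h | h
              · exact edgesRange_spec E 8 1597 318288 edges_8_157 v (by omega) (by omega)
              · exact edgesRange_spec E 8 1462 319885 edges_8_158 v (by omega) (by omega)
            · rcases Nat.lt_or_ge v 322817 with h | h
              · exact edgesRange_spec E 8 1470 321347 edges_8_159 v (by omega) (by omega)
              · rcases Nat.lt_or_ge v 324393 with h | h
                · exact edgesRange_spec E 8 1576 322817 edges_8_160 v (by omega) (by omega)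
                · exact edgesRange_spec E 8 1777 324393 edges_8_161 v (by omega) (by omega)
          · rcases Nat.lt_or_ge v 331501 with h | h
            · rcases Nat.lt_or_ge v 328125 with h | h
              · exact edgesRange_spec E 8 1955 326170 edges_8_162 v (by omega) (by omega)
              · rcases Nat.lt_or_ge v 329774 with h | h
                · exact edgesRange_spec E 8 1649 328125 edges_8_163 v (by omega) (by omega)
                · exact edgesRange_spec E 8 1727 329774 edges_8_164 v (by omega) (by omega)
            · rcases Nat.lt_or_ge v 333384 with h | h
              · exact edgesRange_spec E 8 1883 331501 edges_8_165 v (by omega) (by omega)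
              · rcases Nat.lt_or_ge v 335488 with h | h
                · exact edgesRange_spec E 8 2104 333384 edges_8_166 v (by omega) (by omega)
                · exact edgesRange_spec E 8 1551 335488 edges_8_167 v (by omega) (by omega)
        · rcases Nat.lt_or_ge v 347355 with h | h
          · rcases Nat.lt_or_ge v 342018 with h | h
            · rcases Nat.lt_or_ge v 338498 with h | h
              · exact edgesRange_spec E 8 1459 337039 edges_8_168 v (by omega) (by omega)
              · rcases Nat.lt_or_ge v 340126 with h | h
                · exact edgesRange_spec E 8 1628 338498 edges_8_169 v (by omega) (by omega)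
                · exact edgesRange_spec E 8 1892 340126 edges_8_170 v (by omega) (by omega)
            · rcases Nat.lt_or_ge v 343746 with h | h
              · exact edgesRange_spec E 8 1728 342018 edges_8_171 v (by omega) (by omega)
              · rcases Nat.lt_or_ge v 345610 with h | h
                · exact edgesRange_spec E 8 1864 343746 edges_8_172 v (by omega) (by omega)
                · exact edgesRange_spec E 8 1745 345610 edges_8_173 v (by omega) (by omega)
          · rcases Nat.lt_or_ge v 352462 with h | h
            · rcases Nat.lt_or_ge v 348877 with h | h
              · exact edgesRange_spec E 8 1522 347355 edges_8_174 v (by omega) (by omega)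
              · rcases Nat.lt_or_ge v 350669 with h | h
                · exact edgesRange_spec E 8 1792 348877 edges_8_175 v (by omega) (by omega)
                · exact edgesRange_spec E 8 1793 350669 edges_8_176 v (by omega) (by omega)
            · rcases Nat.lt_or_ge v 353997 with h | h
              · exact edgesRange_spec E 8 1535 352462 edges_8_177 v (by omega) (by omega)
              · rcases Nat.lt_or_ge v 355718 with h | h
                · exact edgesRange_spec E 8 1721 353997 edges_8_178 v (by omega) (by omega)
                · exact edgesRange_spec E 8 1331 355718 edges_8_179 v (by omega) (by omega)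

theorem edgesx_9 : ∀ v, v < 357049 → edgeOK E 9 v = true := by
  intro v hv
  rcases Nat.lt_or_ge v 198332 with h | h
  · rcases Nat.lt_or_ge v 108757 with h | h
    · rcases Nat.lt_or_ge v 50932 with h | h
      · rcases Nat.lt_or_ge v 23492 with h | h
        · rcases Nat.lt_or_ge v 10704 with h | h
          · rcases Nat.lt_or_ge v 3778 with h | h
            · rcases Nat.lt_or_ge v 1771 with h | h
              · exact edgesRange_spec E 9 1771 0 edges_9_0 v (by omega) (by omega)
              · exact edgesRange_spec E 9 2007 1771 edges_9_1 v (by omega) (by omega)
            · rcases Nat.lt_or_ge v 5920 with h | h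
              · exact edgesRange_spec E 9 2142 3778 edges_9_2 v (by omega) (by omega)
              · rcases Nat.lt_or_ge v 8247 with h | h
                · exact edgesRange_spec E 9 2327 5920 edges_9_3 v (by omega) (by omega)
                · exact edgesRange_spec E 9 2457 8247 edges_9_4 v (by omega) (by omega)
          · rcases Nat.lt_or_ge v 16976 with h | h
            · rcases Nat.lt_or_ge v 12783 with h | h
              · exact edgesRange_spec E 9 2079 10704 edges_9_5 v (by omega) (by omega)
              · rcases Nat.lt_or_ge v 14839 with h | h
                · exact edgesRange_spec E 9 2056 12783 edges_9_6 v (by omega) (by omega)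
                · exact edgesRange_spec E 9 2137 14839 edges_9_7 v (by omega) (by omega)
            · rcases Nat.lt_or_ge v 19117 with h | h
              · exact edgesRange_spec E 9 2141 16976 edges_9_8 v (by omega) (by omega)
              · rcases Nat.lt_or_ge v 21156 with h | h
                · exact edgesRange_spec E 9 2039 19117 edges_9_9 v (by omega) (by omega)
                · exact edgesRange_spec E 9 2336 21156 edges_9_10 v (by omega) (by omega)
        · rcases Nat.lt_or_ge v 36621 with h | h
          · rcases Nat.lt_or_ge v 30238 with h | h
            · rcases Nat.lt_or_ge v 25640 with h | h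
              · exact edgesRange_spec E 9 2148 23492 edges_9_11 v (by omega) (by omega)
              · rcases Nat.lt_or_ge v 27678 with h | h
                · exact edgesRange_spec E 9 2038 25640 edges_9_12 v (by omega) (by omega)
                · exact edgesRange_spec E 9 2560 27678 edges_9_13 v (by omega) (by omega)
            · rcases Nat.lt_or_ge v 32307 with h | h
              · exact edgesRange_spec E 9 2069 30238 edges_9_14 v (by omega) (by omega)
              · rcases Nat.lt_or_ge v 34584 with h | h
                · exact edgesRange_spec E 9 2277 32307 edges_9_15 v (by omega) (by omega)
                · exact edgesRange_spec E 9 2037 34584 edges_9_16 v (by omega) (by omega)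
          · rcases Nat.lt_or_ge v 43832 with h | h
            · rcases Nat.lt_or_ge v 39484 with h | h
              · exact edgesRange_spec E 9 2863 36621 edges_9_17 v (by omega) (by omega)
              · rcases Nat.lt_or_ge v 41772 with h | h
                · exact edgesRange_spec E 9 2288 39484 edges_9_18 v (by omega) (by omega)
                · exact edgesRange_spec E 9 2060 41772 edges_9_19 v (by omega) (by omega)
            · rcases Nat.lt_or_ge v 46341 with h | h
              · exact edgesRange_spec E 9 2509 43832 edges_9_20 v (by omega) (by omega)
              · rcases Nat.lt_or_ge v 48366 with h | h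
                · exact edgesRange_spec E 9 2025 46341 edges_9_21 v (by omega) (by omega)
                · exact edgesRange_spec E 9 2566 48366 edges_9_22 v (by omega) (by omega)
      · rcases Nat.lt_or_ge v 77917 with h | h
        · rcases Nat.lt_or_ge v 63229 with h | h
          · rcases Nat.lt_or_ge v 56244 with h | h
            · rcases Nat.lt_or_ge v 53690 with h | h
              · exact edgesRange_spec E 9 2758 50932 edges_9_23 v (by omega) (by omega)
              · exact edgesRange_spec E 9 2554 53690 edges_9_24 v (by omega) (by omega)
            · rcases Nat.lt_or_ge v 58186 with h | h
              · exact edgesRange_spec E 9 1942 56244 edges_9_25 v (by omega) (by omega)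
              · rcases Nat.lt_or_ge v 61245 with h | h
                · exact edgesRange_spec E 9 3059 58186 edges_9_26 v (by omega) (by omega)
                · exact edgesRange_spec E 9 1984 61245 edges_9_27 v (by omega) (by omega)
          · rcases Nat.lt_or_ge v 71163 with h | h
            · rcases Nat.lt_or_ge v 65271 with h | h
              · exact edgesRange_spec E 9 2042 63229 edges_9_28 v (by omega) (by omega)
              · rcases Nat.lt_or_ge v 67984 with h | h
                · exact edgesRange_spec E 9 2713 65271 edges_9_29 v (by omega) (by omega)
                · exact edgesRange_spec E 9 3179 67984 edges_9_30 v (by omega) (by omega)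
            · rcases Nat.lt_or_ge v 73698 with h | h
              · exact edgesRange_spec E 9 2535 71163 edges_9_31 v (by omega) (by omega)
              · rcases Nat.lt_or_ge v 75955 with h | h
                · exact edgesRange_spec E 9 2257 73698 edges_9_32 v (by omega) (by omega)
                · exact edgesRange_spec E 9 1962 75955 edges_9_33 v (by omega) (by omega)
        · rcases Nat.lt_or_ge v 93918 with h | h
          · rcases Nat.lt_or_ge v 85412 with h | h
            · rcases Nat.lt_or_ge v 81007 with h | h
              · exact edgesRange_spec E 9 3090 77917 edges_9_34 v (by omega) (by omega)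
              · rcases Nat.lt_or_ge v 83439 with h | h
                · exact edgesRange_spec E 9 2432 81007 edges_9_35 v (by omega) (by omega)
                · exact edgesRange_spec E 9 1973 83439 edges_9_36 v (by omega) (by omega)
            · rcases Nat.lt_or_ge v 87722 with h | h
              · exact edgesRange_spec E 9 2310 85412 edges_9_37 v (by omega) (by omega)
              · rcases Nat.lt_or_ge v 90551 with h | h
                · exact edgesRange_spec E 9 2829 87722 edges_9_38 v (by omega) (by omega)
                · exact edgesRange_spec E 9 3367 90551 edges_9_39 v (by omega) (by omega)
          · rcases Nat.lt_or_ge v 101094 with h | h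
            · rcases Nat.lt_or_ge v 96258 with h | h
              · exact edgesRange_spec E 9 2340 93918 edges_9_40 v (by omega) (by omega)
              · rcases Nat.lt_or_ge v 98984 with h | h
                · exact edgesRange_spec E 9 2726 96258 edges_9_41 v (by omega) (by omega)
                · exact edgesRange_spec E 9 2110 98984 edges_9_42 v (by omega) (by omega)
            · rcases Nat.lt_or_ge v 103148 with h | h
              · exact edgesRange_spec E 9 2054 101094 edges_9_43 v (by omega) (by omega)
              · rcases Nat.lt_or_ge v 106540 with h | h
                · exact edgesRange_spec E 9 3392 103148 edges_9_44 v (by omega) (by omega)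
                · exact edgesRange_spec E 9 2217 106540 edges_9_45 v (by omega) (by omega)
    · rcases Nat.lt_or_ge v 154769 with h | h
      · rcases Nat.lt_or_ge v 133094 with h | h
        · rcases Nat.lt_or_ge v 121434 with h | h
          · rcases Nat.lt_or_ge v 112696 with h | h
            · rcases Nat.lt_or_ge v 110784 with h | h
              · exact edgesRange_spec E 9 2027 108757 edges_9_46 v (by omega) (by omega)
              · exact edgesRange_spec E 9 1912 110784 edges_9_47 v (by omega) (by omega)
            · rcases Nat.lt_or_ge v 115373 with h | h
              · exact edgesRange_spec E 9 2677 112696 edges_9_48 v (by omega) (by omega)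
              · rcases Nat.lt_or_ge v 118581 with h | h
                · exact edgesRange_spec E 9 3208 115373 edges_9_49 v (by omega) (by omega)
                · exact edgesRange_spec E 9 2853 118581 edges_9_50 v (by omega) (by omega)
          · rcases Nat.lt_or_ge v 127608 with h | h
            · rcases Nat.lt_or_ge v 124356 with h | h
              · exact edgesRange_spec E 9 2922 121434 edges_9_51 v (by omega) (by omega)
              · rcases Nat.lt_or_ge v 125894 with h | h
                · exact edgesRange_spec E 9 1538 124356 edges_9_52 v (by omega) (by omega)
                · exact edgesRange_spec E 9 1714 125894 edges_9_53 v (by omega) (by omega)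
            · rcases Nat.lt_or_ge v 129266 with h | h
              · exact edgesRange_spec E 9 1658 127608 edges_9_54 v (by omega) (by omega)
              · rcases Nat.lt_or_ge v 131355 with h | h
                · exact edgesRange_spec E 9 2089 129266 edges_9_55 v (by omega) (by omega)
                · exact edgesRange_spec E 9 1739 131355 edges_9_56 v (by omega) (by omega)
        · rcases Nat.lt_or_ge v 143808 with h | h
          · rcases Nat.lt_or_ge v 138945 with h | h
            · rcases Nat.lt_or_ge v 134869 with h | h
              · exact edgesRange_spec E 9 1775 133094 edges_9_57 v (by omega) (by omega)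
              · rcases Nat.lt_or_ge v 136792 with h | h
                · exact edgesRange_spec E 9 1923 134869 edges_9_58 v (by omega) (by omega)
                · exact edgesRange_spec E 9 2153 136792 edges_9_59 v (by omega) (by omega)
            · rcases Nat.lt_or_ge v 140616 with h | h
              · exact edgesRange_spec E 9 1671 138945 edges_9_60 v (by omega) (by omega)
              · rcases Nat.lt_or_ge v 142096 with h | h
                · exact edgesRange_spec E 9 1480 140616 edges_9_61 v (by omega) (by omega)
                · exact edgesRange_spec E 9 1712 142096 edges_9_62 v (by omega) (by omega)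
          · rcases Nat.lt_or_ge v 149332 with h | h
            · rcases Nat.lt_or_ge v 145468 with h | h
              · exact edgesRange_spec E 9 1660 143808 edges_9_63 v (by omega) (by omega)
              · rcases Nat.lt_or_ge v 147389 with h | h
                · exact edgesRange_spec E 9 1921 145468 edges_9_64 v (by omega) (by omega)
                · exact edgesRange_spec E 9 1943 147389 edges_9_65 v (by omega) (by omega)
            · rcases Nat.lt_or_ge v 151071 with h | h
              · exact edgesRange_spec E 9 1739 149332 edges_9_66 v (by omega) (by omega)
              · rcases Nat.lt_or_ge v 152848 with h | h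
                · exact edgesRange_spec E 9 1777 151071 edges_9_67 v (by omega) (by omega)
                · exact edgesRange_spec E 9 1921 152848 edges_9_68 v (by omega) (by omega)
      · rcases Nat.lt_or_ge v 176782 with h | h
        · rcases Nat.lt_or_ge v 165086 with h | h
          · rcases Nat.lt_or_ge v 160107 with h | h
            · rcases Nat.lt_or_ge v 156990 with h | h
              · exact edgesRange_spec E 9 2221 154769 edges_9_69 v (by omega) (by omega)
              · rcases Nat.lt_or_ge v 158638 with h | h
                · exact edgesRange_spec E 9 1648 156990 edges_9_70 v (by omega) (by omega)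
                · exact edgesRange_spec E 9 1469 158638 edges_9_71 v (by omega) (by omega)
            · rcases Nat.lt_or_ge v 161764 with h | h
              · exact edgesRange_spec E 9 1657 160107 edges_9_72 v (by omega) (by omega)
              · rcases Nat.lt_or_ge v 163458 with h | h
                · exact edgesRange_spec E 9 1694 161764 edges_9_73 v (by omega) (by omega)
                · exact edgesRange_spec E 9 1628 163458 edges_9_74 v (by omega) (by omega)
          · rcases Nat.lt_or_ge v 170800 with h | h
            · rcases Nat.lt_or_ge v 167201 with h | h
              · exact edgesRange_spec E 9 2115 165086 edges_9_75 v (by omega) (by omega)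
              · rcases Nat.lt_or_ge v 169033 with h | h
                · exact edgesRange_spec E 9 1832 167201 edges_9_76 v (by omega) (by omega)
                · exact edgesRange_spec E 9 1767 169033 edges_9_77 v (by omega) (by omega)
            · rcases Nat.lt_or_ge v 172580 with h | h
              · exact edgesRange_spec E 9 1780 170800 edges_9_78 v (by omega) (by omega)
              · rcases Nat.lt_or_ge v 174531 with h | h
                · exact edgesRange_spec E 9 1951 172580 edges_9_79 v (by omega) (by omega)
                · exact edgesRange_spec E 9 2251 174531 edges_9_80 v (by omega) (by omega)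
        · rcases Nat.lt_or_ge v 186716 with h | h
          · rcases Nat.lt_or_ge v 181487 with h | h
            · rcases Nat.lt_or_ge v 178419 with h | h
              · exact edgesRange_spec E 9 1637 176782 edges_9_81 v (by omega) (by omega)
              · rcases Nat.lt_or_ge v 179856 with h | h
                · exact edgesRange_spec E 9 1437 178419 edges_9_82 v (by omega) (by omega)
                · exact edgesRange_spec E 9 1631 179856 edges_9_83 v (by omega) (by omega)
            · rcases Nat.lt_or_ge v 183181 with h | h
              · exact edgesRange_spec E 9 1694 181487 edges_9_84 v (by omega) (by omega)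
              · rcases Nat.lt_or_ge v 184884 with h | h
                · exact edgesRange_spec E 9 1703 183181 edges_9_85 v (by omega) (by omega)
                · exact edgesRange_spec E 9 1832 184884 edges_9_86 v (by omega) (by omega)
          · rcases Nat.lt_or_ge v 192268 with h | h
            · rcases Nat.lt_or_ge v 188772 with h | h
              · exact edgesRange_spec E 9 2056 186716 edges_9_87 v (by omega) (by omega)
              · rcases Nat.lt_or_ge v 190518 with h | h
                · exact edgesRange_spec E 9 1746 188772 edges_9_88 v (by omega) (by omega)
                · exact edgesRange_spec E 9 1750 190518 edges_9_89 v (by omega) (by omega)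
            · rcases Nat.lt_or_ge v 194095 with h | h
              · exact edgesRange_spec E 9 1827 192268 edges_9_90 v (by omega) (by omega)
              · rcases Nat.lt_or_ge v 196124 with h | h
                · exact edgesRange_spec E 9 2029 194095 edges_9_91 v (by omega) (by omega)
                · exact edgesRange_spec E 9 2208 196124 edges_9_92 v (by omega) (by omega)
  · rcases Nat.lt_or_ge v 279143 with h | h
    · rcases Nat.lt_or_ge v 238693 with h | h
      · rcases Nat.lt_or_ge v 217447 with h | h
        · rcases Nat.lt_or_ge v 206416 with h | h
          · rcases Nat.lt_or_ge v 201359 with h | h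
            · rcases Nat.lt_or_ge v 199930 with h | h
              · exact edgesRange_spec E 9 1598 198332 edges_9_93 v (by omega) (by omega)
              · exact edgesRange_spec E 9 1429 199930 edges_9_94 v (by omega) (by omega)
            · rcases Nat.lt_or_ge v 202989 with h | h
              · exact edgesRange_spec E 9 1630 201359 edges_9_95 v (by omega) (by omega)
              · rcases Nat.lt_or_ge v 204673 with h | h
                · exact edgesRange_spec E 9 1684 202989 edges_9_96 v (by omega) (by omega)
                · exact edgesRange_spec E 9 1743 204673 edges_9_97 v (by omega) (by omega)
          · rcases Nat.lt_or_ge v 211986 with h | h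
            · rcases Nat.lt_or_ge v 207977 with h | h
              · exact edgesRange_spec E 9 1561 206416 edges_9_98 v (by omega) (by omega)
              · rcases Nat.lt_or_ge v 210225 with h | h
                · exact edgesRange_spec E 9 2248 207977 edges_9_99 v (by omega) (by omega)
                · exact edgesRange_spec E 9 1761 210225 edges_9_100 v (by omega) (by omega)
            · rcases Nat.lt_or_ge v 213753 with h | h
              · exact edgesRange_spec E 9 1767 211986 edges_9_101 v (by omega) (by omega)
              · rcases Nat.lt_or_ge v 215559 with h | h
                · exact edgesRange_spec E 9 1806 213753 edges_9_102 v (by omega) (by omega)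
                · exact edgesRange_spec E 9 1888 215559 edges_9_103 v (by omega) (by omega)
        · rcases Nat.lt_or_ge v 227907 with h | h
          · rcases Nat.lt_or_ge v 223125 with h | h
            · rcases Nat.lt_or_ge v 219598 with h | h
              · exact edgesRange_spec E 9 2151 217447 edges_9_104 v (by omega) (by omega)
              · rcases Nat.lt_or_ge v 221639 with h | h
                · exact edgesRange_spec E 9 2041 219598 edges_9_105 v (by omega) (by omega)
                · exact edgesRange_spec E 9 1486 221639 edges_9_106 v (by omega) (by omega)
            · rcases Nat.lt_or_ge v 224592 with h | h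
              · exact edgesRange_spec E 9 1467 223125 edges_9_107 v (by omega) (by omega)
              · rcases Nat.lt_or_ge v 226231 with h | h
                · exact edgesRange_spec E 9 1639 224592 edges_9_108 v (by omega) (by omega)
                · exact edgesRange_spec E 9 1676 226231 edges_9_109 v (by omega) (by omega)
          · rcases Nat.lt_or_ge v 233346 with h | h
            · rcases Nat.lt_or_ge v 229636 with h | h
              · exact edgesRange_spec E 9 1729 227907 edges_9_110 v (by omega) (by omega)
              · rcases Nat.lt_or_ge v 231167 with h | h
                · exact edgesRange_spec E 9 1531 229636 edges_9_111 v (by omega) (by omega)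
                · exact edgesRange_spec E 9 2179 231167 edges_9_112 v (by omega) (by omega)
            · rcases Nat.lt_or_ge v 235143 with h | h
              · exact edgesRange_spec E 9 1797 233346 edges_9_113 v (by omega) (by omega)
              · rcases Nat.lt_or_ge v 236945 with h | h
                · exact edgesRange_spec E 9 1802 235143 edges_9_114 v (by omega) (by omega)
                · exact edgesRange_spec E 9 1748 236945 edges_9_115 v (by omega) (by omega)
      · rcases Nat.lt_or_ge v 258127 with h | h
        · rcases Nat.lt_or_ge v 247972 with h | h
          · rcases Nat.lt_or_ge v 242561 with h | h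
            · rcases Nat.lt_or_ge v 240566 with h | h
              · exact edgesRange_spec E 9 1873 238693 edges_9_116 v (by omega) (by omega)
              · exact edgesRange_spec E 9 1995 240566 edges_9_117 v (by omega) (by omega)
            · rcases Nat.lt_or_ge v 244855 with h | h
              · exact edgesRange_spec E 9 2294 242561 edges_9_118 v (by omega) (by omega)
              · rcases Nat.lt_or_ge v 246583 with h | h
                · exact edgesRange_spec E 9 1728 244855 edges_9_119 v (by omega) (by omega)
                · exact edgesRange_spec E 9 1389 246583 edges_9_120 v (by omega) (by omega)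
          · rcases Nat.lt_or_ge v 252758 with h | h
            · rcases Nat.lt_or_ge v 249465 with h | h
              · exact edgesRange_spec E 9 1493 247972 edges_9_121 v (by omega) (by omega)
              · rcases Nat.lt_or_ge v 251101 with h | h
                · exact edgesRange_spec E 9 1636 249465 edges_9_122 v (by omega) (by omega)
                · exact edgesRange_spec E 9 1657 251101 edges_9_123 v (by omega) (by omega)
            · rcases Nat.lt_or_ge v 254488 with h | h
              · exact edgesRange_spec E 9 1730 252758 edges_9_124 v (by omega) (by omega)
              · rcases Nat.lt_or_ge v 256007 with h | h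
                · exact edgesRange_spec E 9 1519 254488 edges_9_125 v (by omega) (by omega)
                · exact edgesRange_spec E 9 2120 256007 edges_9_126 v (by omega) (by omega)
        · rcases Nat.lt_or_ge v 269523 with h | h
          · rcases Nat.lt_or_ge v 263512 with h | h
            · rcases Nat.lt_or_ge v 259908 with h | h
              · exact edgesRange_spec E 9 1781 258127 edges_9_127 v (by omega) (by omega)
              · rcases Nat.lt_or_ge v 261749 with h | h
                · exact edgesRange_spec E 9 1841 259908 edges_9_128 v (by omega) (by omega)
                · exact edgesRange_spec E 9 1763 261749 edges_9_129 v (by omega) (by omega)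
            · rcases Nat.lt_or_ge v 265338 with h | h
              · exact edgesRange_spec E 9 1826 263512 edges_9_130 v (by omega) (by omega)
              · rcases Nat.lt_or_ge v 267305 with h | h
                · exact edgesRange_spec E 9 1967 265338 edges_9_131 v (by omega) (by omega)
                · exact edgesRange_spec E 9 2218 267305 edges_9_132 v (by omega) (by omega)
          · rcases Nat.lt_or_ge v 274254 with h | h
            · rcases Nat.lt_or_ge v 271404 with h | h
              · exact edgesRange_spec E 9 1881 269523 edges_9_133 v (by omega) (by omega)
              · rcases Nat.lt_or_ge v 272822 with h | h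
                · exact edgesRange_spec E 9 1418 271404 edges_9_134 v (by omega) (by omega)
                · exact edgesRange_spec E 9 1432 272822 edges_9_135 v (by omega) (by omega)
            · rcases Nat.lt_or_ge v 275805 with h | h
              · exact edgesRange_spec E 9 1551 274254 edges_9_136 v (by omega) (by omega)
              · rcases Nat.lt_or_ge v 277465 with h | h
                · exact edgesRange_spec E 9 1660 275805 edges_9_137 v (by omega) (by omega)
                · exact edgesRange_spec E 9 1678 277465 edges_9_138 v (by omega) (by omega)
    · rcases Nat.lt_or_ge v 319535 with h | h
      · rcases Nat.lt_or_ge v 298752 with h | h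
        · rcases Nat.lt_or_ge v 287999 with h | h
          · rcases Nat.lt_or_ge v 282395 with h | h
            · rcases Nat.lt_or_ge v 280772 with h | h
              · exact edgesRange_spec E 9 1629 279143 edges_9_139 v (by omega) (by omega)
              · exact edgesRange_spec E 9 1623 280772 edges_9_140 v (by omega) (by omega)
            · rcases Nat.lt_or_ge v 284550 with h | h
              · exact edgesRange_spec E 9 2155 282395 edges_9_141 v (by omega) (by omega)
              · rcases Nat.lt_or_ge v 286212 with h | h
                · exact edgesRange_spec E 9 1662 284550 edges_9_142 v (by omega) (by omega)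
                · exact edgesRange_spec E 9 1787 286212 edges_9_143 v (by omega) (by omega)
          · rcases Nat.lt_or_ge v 293727 with h | h
            · rcases Nat.lt_or_ge v 289720 with h | h
              · exact edgesRange_spec E 9 1721 287999 edges_9_144 v (by omega) (by omega)
              · rcases Nat.lt_or_ge v 291635 with h | h
                · exact edgesRange_spec E 9 1915 289720 edges_9_145 v (by omega) (by omega)
                · exact edgesRange_spec E 9 2092 291635 edges_9_146 v (by omega) (by omega)
            · rcases Nat.lt_or_ge v 295822 with h | h
              · exact edgesRange_spec E 9 2095 293727 edges_9_147 v (by omega) (by omega)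
              · rcases Nat.lt_or_ge v 297355 with h | h
                · exact edgesRange_spec E 9 1533 295822 edges_9_148 v (by omega) (by omega)
                · exact edgesRange_spec E 9 1397 297355 edges_9_149 v (by omega) (by omega)
        · rcases Nat.lt_or_ge v 308603 with h | h
          · rcases Nat.lt_or_ge v 303378 with h | h
            · rcases Nat.lt_or_ge v 300157 with h | h
              · exact edgesRange_spec E 9 1405 298752 edges_9_150 v (by omega) (by omega)
              · rcases Nat.lt_or_ge v 301790 with h | h
                · exact edgesRange_spec E 9 1633 300157 edges_9_151 v (by omega) (by omega)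
                · exact edgesRange_spec E 9 1588 301790 edges_9_152 v (by omega) (by omega)
            · rcases Nat.lt_or_ge v 305049 with h | h
              · exact edgesRange_spec E 9 1671 303378 edges_9_153 v (by omega) (by omega)
              · rcases Nat.lt_or_ge v 306556 with h | h
                · exact edgesRange_spec E 9 1507 305049 edges_9_154 v (by omega) (by omega)
                · exact edgesRange_spec E 9 2047 306556 edges_9_155 v (by omega) (by omega)
          · rcases Nat.lt_or_ge v 313849 with h | h
            · rcases Nat.lt_or_ge v 310298 with h | h
              · exact edgesRange_spec E 9 1695 308603 edges_9_156 v (by omega) (by omega)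
              · rcases Nat.lt_or_ge v 312074 with h | h
                · exact edgesRange_spec E 9 1776 310298 edges_9_157 v (by omega) (by omega)
                · exact edgesRange_spec E 9 1775 312074 edges_9_158 v (by omega) (by omega)
            · rcases Nat.lt_or_ge v 315828 with h | h
              · exact edgesRange_spec E 9 1979 313849 edges_9_159 v (by omega) (by omega)
              · rcases Nat.lt_or_ge v 317996 with h | h
                · exact edgesRange_spec E 9 2168 315828 edges_9_160 v (by omega) (by omega)
                · exact edgesRange_spec E 9 1539 317996 edges_9_161 v (by omega) (by omega)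
      · rcases Nat.lt_or_ge v 338975 with h | h
        · rcases Nat.lt_or_ge v 328909 with h | h
          · rcases Nat.lt_or_ge v 323918 with h | h
            · rcases Nat.lt_or_ge v 320911 with h | h
              · exact edgesRange_spec E 9 1376 319535 edges_9_162 v (by omega) (by omega)
              · rcases Nat.lt_or_ge v 322318 with h | h
                · exact edgesRange_spec E 9 1407 320911 edges_9_163 v (by omega) (by omega)
                · exact edgesRange_spec E 9 1600 322318 edges_9_164 v (by omega) (by omega)
            · rcases Nat.lt_or_ge v 325488 with h | h
              · exact edgesRange_spec E 9 1570 323918 edges_9_165 v (by omega) (by omega)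
              · rcases Nat.lt_or_ge v 326978 with h | h
                · exact edgesRange_spec E 9 1490 325488 edges_9_166 v (by omega) (by omega)
                · exact edgesRange_spec E 9 1931 326978 edges_9_167 v (by omega) (by omega)
          · rcases Nat.lt_or_ge v 334509 with h | h
            · rcases Nat.lt_or_ge v 330611 with h | h
              · exact edgesRange_spec E 9 1702 328909 edges_9_168 v (by omega) (by omega)
              · rcases Nat.lt_or_ge v 332397 with h | h
                · exact edgesRange_spec E 9 1786 330611 edges_9_169 v (by omega) (by omega)
                · exact edgesRange_spec E 9 2112 332397 edges_9_170 v (by omega) (by omega)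
            · rcases Nat.lt_or_ge v 336167 with h | h
              · exact edgesRange_spec E 9 1658 334509 edges_9_171 v (by omega) (by omega)
              · rcases Nat.lt_or_ge v 337524 with h | h
                · exact edgesRange_spec E 9 1357 336167 edges_9_172 v (by omega) (by omega)
                · exact edgesRange_spec E 9 1451 337524 edges_9_173 v (by omega) (by omega)
        · rcases Nat.lt_or_ge v 348812 with h | h
          · rcases Nat.lt_or_ge v 343971 with h | h
            · rcases Nat.lt_or_ge v 340530 with h | h
              · exact edgesRange_spec E 9 1555 338975 edges_9_174 v (by omega) (by omega)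
              · rcases Nat.lt_or_ge v 342193 with h | h
                · exact edgesRange_spec E 9 1663 340530 edges_9_175 v (by omega) (by omega)
                · exact edgesRange_spec E 9 1778 342193 edges_9_176 v (by omega) (by omega)
            · rcases Nat.lt_or_ge v 345904 with h | h
              · exact edgesRange_spec E 9 1933 343971 edges_9_177 v (by omega) (by omega)
              · rcases Nat.lt_or_ge v 347368 with h | h
                · exact edgesRange_spec E 9 1464 345904 edges_9_178 v (by omega) (by omega)
                · exact edgesRange_spec E 9 1444 347368 edges_9_179 v (by omega) (by omega)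
          · rcases Nat.lt_or_ge v 353619 with h | h
            · rcases Nat.lt_or_ge v 350393 with h | h
              · exact edgesRange_spec E 9 1581 348812 edges_9_180 v (by omega) (by omega)
              · rcases Nat.lt_or_ge v 352166 with h | h
                · exact edgesRange_spec E 9 1773 350393 edges_9_181 v (by omega) (by omega)
                · exact edgesRange_spec E 9 1453 352166 edges_9_182 v (by omega) (by omega)
            · rcases Nat.lt_or_ge v 355191 with h | h
              · exact edgesRange_spec E 9 1572 353619 edges_9_183 v (by omega) (by omega)
              · rcases Nat.lt_or_ge v 356694 with h | h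
                · exact edgesRange_spec E 9 1503 355191 edges_9_184 v (by omega) (by omega)
                · exact edgesRange_spec E 9 355 356694 edges_9_185 v (by omega) (by omega)

theorem edgesx_10 : ∀ v, v < 357049 → edgeOK E 10 v = true := by
  intro v hv
  rcases Nat.lt_or_ge v 207971 with h | h
  · rcases Nat.lt_or_ge v 109529 with h | h
    · rcases Nat.lt_or_ge v 50463 with h | h
      · rcases Nat.lt_or_ge v 21315 with h | h
        · rcases Nat.lt_or_ge v 9446 with h | h
          · rcases Nat.lt_or_ge v 4429 with h | h
            · rcases Nat.lt_or_ge v 2307 with h | h
              · exact edgesRange_spec E 10 2307 0 edges_10_0 v (by omega) (by omega)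
              · exact edgesRange_spec E 10 2122 2307 edges_10_1 v (by omega) (by omega)
            · rcases Nat.lt_or_ge v 6835 with h | h
              · exact edgesRange_spec E 10 2406 4429 edges_10_2 v (by omega) (by omega)
              · exact edgesRange_spec E 10 2611 6835 edges_10_3 v (by omega) (by omega)
          · rcases Nat.lt_or_ge v 14989 with h | h
            · rcases Nat.lt_or_ge v 12110 with h | h
              · exact edgesRange_spec E 10 2664 9446 edges_10_4 v (by omega) (by omega)
              · exact edgesRange_spec E 10 2879 12110 edges_10_5 v (by omega) (by omega)
            · rcases Nat.lt_or_ge v 18136 with h | h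
              · exact edgesRange_spec E 10 3147 14989 edges_10_6 v (by omega) (by omega)
              · exact edgesRange_spec E 10 3179 18136 edges_10_7 v (by omega) (by omega)
        · rcases Nat.lt_or_ge v 34524 with h | h
          · rcases Nat.lt_or_ge v 27945 with h | h
            · rcases Nat.lt_or_ge v 24710 with h | h
              · exact edgesRange_spec E 10 3395 21315 edges_10_8 v (by omega) (by omega)
              · exact edgesRange_spec E 10 3235 24710 edges_10_9 v (by omega) (by omega)
            · rcases Nat.lt_or_ge v 31293 with h | h
              · exact edgesRange_spec E 10 3348 27945 edges_10_10 v (by omega) (by omega)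
              · exact edgesRange_spec E 10 3231 31293 edges_10_11 v (by omega) (by omega)
          · rcases Nat.lt_or_ge v 41040 with h | h
            · rcases Nat.lt_or_ge v 37646 with h | h
              · exact edgesRange_spec E 10 3122 34524 edges_10_12 v (by omega) (by omega)
              · exact edgesRange_spec E 10 3394 37646 edges_10_13 v (by omega) (by omega)
            · rcases Nat.lt_or_ge v 44253 with h | h
              · exact edgesRange_spec E 10 3213 41040 edges_10_14 v (by omega) (by omega)
              · rcases Nat.lt_or_ge v 47243 with h | h
                · exact edgesRange_spec E 10 2990 44253 edges_10_15 v (by omega) (by omega)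
                · exact edgesRange_spec E 10 3220 47243 edges_10_16 v (by omega) (by omega)
      · rcases Nat.lt_or_ge v 79717 with h | h
        · rcases Nat.lt_or_ge v 63229 with h | h
          · rcases Nat.lt_or_ge v 56969 with h | h
            · rcases Nat.lt_or_ge v 53774 with h | h
              · exact edgesRange_spec E 10 3311 50463 edges_10_17 v (by omega) (by omega)
              · exact edgesRange_spec E 10 3195 53774 edges_10_18 v (by omega) (by omega)
            · rcases Nat.lt_or_ge v 60075 with h | h
              · exact edgesRange_spec E 10 3106 56969 edges_10_19 v (by omega) (by omega)
              · exact edgesRange_spec E 10 3154 60075 edges_10_20 v (by omega) (by omega)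
          · rcases Nat.lt_or_ge v 69803 with h | h
            · rcases Nat.lt_or_ge v 66361 with h | h
              · exact edgesRange_spec E 10 3132 63229 edges_10_21 v (by omega) (by omega)
              · exact edgesRange_spec E 10 3442 66361 edges_10_22 v (by omega) (by omega)
            · rcases Nat.lt_or_ge v 73336 with h | h
              · exact edgesRange_spec E 10 3533 69803 edges_10_23 v (by omega) (by omega)
              · rcases Nat.lt_or_ge v 76419 with h | h
                · exact edgesRange_spec E 10 3083 73336 edges_10_24 v (by omega) (by omega)
                · exact edgesRange_spec E 10 3298 76419 edges_10_25 v (by omega) (by omega)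
        · rcases Nat.lt_or_ge v 93243 with h | h
          · rcases Nat.lt_or_ge v 85919 with h | h
            · rcases Nat.lt_or_ge v 83021 with h | h
              · exact edgesRange_spec E 10 3304 79717 edges_10_26 v (by omega) (by omega)
              · exact edgesRange_spec E 10 2898 83021 edges_10_27 v (by omega) (by omega)
            · rcases Nat.lt_or_ge v 89450 with h | h
              · exact edgesRange_spec E 10 3531 85919 edges_10_28 v (by omega) (by omega)
              · exact edgesRange_spec E 10 3793 89450 edges_10_29 v (by omega) (by omega)
          · rcases Nat.lt_or_ge v 99922 with h | h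
            · rcases Nat.lt_or_ge v 96722 with h | h
              · exact edgesRange_spec E 10 3479 93243 edges_10_30 v (by omega) (by omega)
              · exact edgesRange_spec E 10 3200 96722 edges_10_31 v (by omega) (by omega)
            · rcases Nat.lt_or_ge v 102720 with h | h
              · exact edgesRange_spec E 10 2798 99922 edges_10_32 v (by omega) (by omega)
              · rcases Nat.lt_or_ge v 106453 with h | h
                · exact edgesRange_spec E 10 3733 102720 edges_10_33 v (by omega) (by omega)
                · exact edgesRange_spec E 10 3076 106453 edges_10_34 v (by omega) (by omega)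
    · rcases Nat.lt_or_ge v 159557 with h | h
      · rcases Nat.lt_or_ge v 135975 with h | h
        · rcases Nat.lt_or_ge v 122818 with h | h
          · rcases Nat.lt_or_ge v 115762 with h | h
            · rcases Nat.lt_or_ge v 112335 with h | h
              · exact edgesRange_spec E 10 2806 109529 edges_10_35 v (by omega) (by omega)
              · exact edgesRange_spec E 10 3427 112335 edges_10_36 v (by omega) (by omega)
            · rcases Nat.lt_or_ge v 119560 with h | h
              · exact edgesRange_spec E 10 3798 115762 edges_10_37 v (by omega) (by omega)
              · exact edgesRange_spec E 10 3258 119560 edges_10_38 v (by omega) (by omega)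
          · rcases Nat.lt_or_ge v 128258 with h | h
            · rcases Nat.lt_or_ge v 125834 with h | h
              · exact edgesRange_spec E 10 3016 122818 edges_10_39 v (by omega) (by omega)
              · exact edgesRange_spec E 10 2424 125834 edges_10_40 v (by omega) (by omega)
            · rcases Nat.lt_or_ge v 130885 with h | h
              · exact edgesRange_spec E 10 2627 128258 edges_10_41 v (by omega) (by omega)
              · rcases Nat.lt_or_ge v 133350 with h | h
                · exact edgesRange_spec E 10 2465 130885 edges_10_42 v (by omega) (by omega)
                · exact edgesRange_spec E 10 2625 133350 edges_10_43 v (by omega) (by omega)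
        · rcases Nat.lt_or_ge v 146199 with h | h
          · rcases Nat.lt_or_ge v 141203 with h | h
            · rcases Nat.lt_or_ge v 138700 with h | h
              · exact edgesRange_spec E 10 2725 135975 edges_10_44 v (by omega) (by omega)
              · exact edgesRange_spec E 10 2503 138700 edges_10_45 v (by omega) (by omega)
            · rcases Nat.lt_or_ge v 143544 with h | h
              · exact edgesRange_spec E 10 2341 141203 edges_10_46 v (by omega) (by omega)
              · exact edgesRange_spec E 10 2655 143544 edges_10_47 v (by omega) (by omega)
          · rcases Nat.lt_or_ge v 151415 with h | h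
            · rcases Nat.lt_or_ge v 148840 with h | h
              · exact edgesRange_spec E 10 2641 146199 edges_10_48 v (by omega) (by omega)
              · exact edgesRange_spec E 10 2575 148840 edges_10_49 v (by omega) (by omega)
            · rcases Nat.lt_or_ge v 154176 with h | h
              · exact edgesRange_spec E 10 2761 151415 edges_10_50 v (by omega) (by omega)
              · rcases Nat.lt_or_ge v 156952 with h | h
                · exact edgesRange_spec E 10 2776 154176 edges_10_51 v (by omega) (by omega)
                · exact edgesRange_spec E 10 2605 156952 edges_10_52 v (by omega) (by omega)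
      · rcases Nat.lt_or_ge v 183527 with h | h
        · rcases Nat.lt_or_ge v 170089 with h | h
          · rcases Nat.lt_or_ge v 164773 with h | h
            · rcases Nat.lt_or_ge v 162023 with h | h
              · exact edgesRange_spec E 10 2466 159557 edges_10_53 v (by omega) (by omega)
              · exact edgesRange_spec E 10 2750 162023 edges_10_54 v (by omega) (by omega)
            · rcases Nat.lt_or_ge v 167409 with h | h
              · exact edgesRange_spec E 10 2636 164773 edges_10_55 v (by omega) (by omega)
              · exact edgesRange_spec E 10 2680 167409 edges_10_56 v (by omega) (by omega)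
          · rcases Nat.lt_or_ge v 175754 with h | h
            · rcases Nat.lt_or_ge v 172797 with h | h
              · exact edgesRange_spec E 10 2708 170089 edges_10_57 v (by omega) (by omega)
              · exact edgesRange_spec E 10 2957 172797 edges_10_58 v (by omega) (by omega)
            · rcases Nat.lt_or_ge v 178345 with h | h
              · exact edgesRange_spec E 10 2591 175754 edges_10_59 v (by omega) (by omega)
              · rcases Nat.lt_or_ge v 180745 with h | h
                · exact edgesRange_spec E 10 2400 178345 edges_10_60 v (by omega) (by omega)
                · exact edgesRange_spec E 10 2782 180745 edges_10_61 v (by omega) (by omega)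
        · rcases Nat.lt_or_ge v 194464 with h | h
          · rcases Nat.lt_or_ge v 188755 with h | h
            · rcases Nat.lt_or_ge v 186276 with h | h
              · exact edgesRange_spec E 10 2749 183527 edges_10_62 v (by omega) (by omega)
              · exact edgesRange_spec E 10 2479 186276 edges_10_63 v (by omega) (by omega)
            · rcases Nat.lt_or_ge v 191536 with h | h
              · exact edgesRange_spec E 10 2781 188755 edges_10_64 v (by omega) (by omega)
              · exact edgesRange_spec E 10 2928 191536 edges_10_65 v (by omega) (by omega)
          · rcases Nat.lt_or_ge v 199936 with h | h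
            · rcases Nat.lt_or_ge v 197430 with h | h
              · exact edgesRange_spec E 10 2966 194464 edges_10_66 v (by omega) (by omega)
              · exact edgesRange_spec E 10 2506 197430 edges_10_67 v (by omega) (by omega)
            · rcases Nat.lt_or_ge v 202397 with h | h
              · exact edgesRange_spec E 10 2461 199936 edges_10_68 v (by omega) (by omega)
              · rcases Nat.lt_or_ge v 205192 with h | h
                · exact edgesRange_spec E 10 2795 202397 edges_10_69 v (by omega) (by omega)
                · exact edgesRange_spec E 10 2779 205192 edges_10_70 v (by omega) (by omega)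
  · rcases Nat.lt_or_ge v 291622 with h | h
    · rcases Nat.lt_or_ge v 251186 with h | h
      · rcases Nat.lt_or_ge v 228837 with h | h
        · rcases Nat.lt_or_ge v 218815 with h | h
          · rcases Nat.lt_or_ge v 212996 with h | h
            · rcases Nat.lt_or_ge v 210278 with h | h
              · exact edgesRange_spec E 10 2307 207971 edges_10_71 v (by omega) (by omega)
              · exact edgesRange_spec E 10 2718 210278 edges_10_72 v (by omega) (by omega)
            · rcases Nat.lt_or_ge v 215896 with h | h
              · exact edgesRange_spec E 10 2900 212996 edges_10_73 v (by omega) (by omega)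
              · exact edgesRange_spec E 10 2919 215896 edges_10_74 v (by omega) (by omega)
          · rcases Nat.lt_or_ge v 223749 with h | h
            · rcases Nat.lt_or_ge v 221294 with h | h
              · exact edgesRange_spec E 10 2479 218815 edges_10_75 v (by omega) (by omega)
              · exact edgesRange_spec E 10 2455 221294 edges_10_76 v (by omega) (by omega)
            · rcases Nat.lt_or_ge v 226191 with h | h
              · exact edgesRange_spec E 10 2442 223749 edges_10_77 v (by omega) (by omega)
              · exact edgesRange_spec E 10 2646 226191 edges_10_78 v (by omega) (by omega)
        · rcases Nat.lt_or_ge v 238926 with h | h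
          · rcases Nat.lt_or_ge v 233646 with h | h
            · rcases Nat.lt_or_ge v 231465 with h | h
              · exact edgesRange_spec E 10 2628 228837 edges_10_79 v (by omega) (by omega)
              · exact edgesRange_spec E 10 2181 231465 edges_10_80 v (by omega) (by omega)
            · rcases Nat.lt_or_ge v 236165 with h | h
              · exact edgesRange_spec E 10 2519 233646 edges_10_81 v (by omega) (by omega)
              · exact edgesRange_spec E 10 2761 236165 edges_10_82 v (by omega) (by omega)
          · rcases Nat.lt_or_ge v 244315 with h | h
            · rcases Nat.lt_or_ge v 241753 with h | h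
              · exact edgesRange_spec E 10 2827 238926 edges_10_83 v (by omega) (by omega)
              · exact edgesRange_spec E 10 2562 241753 edges_10_84 v (by omega) (by omega)
            · rcases Nat.lt_or_ge v 246506 with h | h
              · exact edgesRange_spec E 10 2191 244315 edges_10_85 v (by omega) (by omega)
              · rcases Nat.lt_or_ge v 248793 with h | h
                · exact edgesRange_spec E 10 2287 246506 edges_10_86 v (by omega) (by omega)
                · exact edgesRange_spec E 10 2393 248793 edges_10_87 v (by omega) (by omega)
      · rcases Nat.lt_or_ge v 272241 with h | h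
        · rcases Nat.lt_or_ge v 260432 with h | h
          · rcases Nat.lt_or_ge v 256011 with h | h
            · rcases Nat.lt_or_ge v 253601 with h | h
              · exact edgesRange_spec E 10 2415 251186 edges_10_88 v (by omega) (by omega)
              · exact edgesRange_spec E 10 2410 253601 edges_10_89 v (by omega) (by omega)
            · rcases Nat.lt_or_ge v 258099 with h | h
              · exact edgesRange_spec E 10 2088 256011 edges_10_90 v (by omega) (by omega)
              · exact edgesRange_spec E 10 2333 258099 edges_10_91 v (by omega) (by omega)
          · rcases Nat.lt_or_ge v 265310 with h | h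
            · rcases Nat.lt_or_ge v 262859 with h | h
              · exact edgesRange_spec E 10 2427 260432 edges_10_92 v (by omega) (by omega)
              · exact edgesRange_spec E 10 2451 262859 edges_10_93 v (by omega) (by omega)
            · rcases Nat.lt_or_ge v 267837 with h | h
              · exact edgesRange_spec E 10 2527 265310 edges_10_94 v (by omega) (by omega)
              · rcases Nat.lt_or_ge v 270172 with h | h
                · exact edgesRange_spec E 10 2335 267837 edges_10_95 v (by omega) (by omega)
                · exact edgesRange_spec E 10 2069 270172 edges_10_96 v (by omega) (by omega)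
        · rcases Nat.lt_or_ge v 280751 with h | h
          · rcases Nat.lt_or_ge v 276493 with h | h
            · rcases Nat.lt_or_ge v 274314 with h | h
              · exact edgesRange_spec E 10 2073 272241 edges_10_97 v (by omega) (by omega)
              · exact edgesRange_spec E 10 2179 274314 edges_10_98 v (by omega) (by omega)
            · rcases Nat.lt_or_ge v 278601 with h | h
              · exact edgesRange_spec E 10 2108 276493 edges_10_99 v (by omega) (by omega)
              · exact edgesRange_spec E 10 2150 278601 edges_10_100 v (by omega) (by omega)
          · rcases Nat.lt_or_ge v 284888 with h | h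
            · rcases Nat.lt_or_ge v 282817 with h | h
              · exact edgesRange_spec E 10 2066 280751 edges_10_101 v (by omega) (by omega)
              · exact edgesRange_spec E 10 2071 282817 edges_10_102 v (by omega) (by omega)
            · rcases Nat.lt_or_ge v 287100 with h | h
              · exact edgesRange_spec E 10 2212 284888 edges_10_103 v (by omega) (by omega)
              · rcases Nat.lt_or_ge v 289359 with h | h
                · exact edgesRange_spec E 10 2259 287100 edges_10_104 v (by omega) (by omega)
                · exact edgesRange_spec E 10 2263 289359 edges_10_105 v (by omega) (by omega)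
    · rcases Nat.lt_or_ge v 326527 with h | h
      · rcases Nat.lt_or_ge v 309450 with h | h
        · rcases Nat.lt_or_ge v 299673 with h | h
          · rcases Nat.lt_or_ge v 295851 with h | h
            · rcases Nat.lt_or_ge v 293812 with h | h
              · exact edgesRange_spec E 10 2190 291622 edges_10_106 v (by omega) (by omega)
              · exact edgesRange_spec E 10 2039 293812 edges_10_107 v (by omega) (by omega)
            · rcases Nat.lt_or_ge v 297768 with h | h
              · exact edgesRange_spec E 10 1917 295851 edges_10_108 v (by omega) (by omega)
              · exact edgesRange_spec E 10 1905 297768 edges_10_109 v (by omega) (by omega)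
          · rcases Nat.lt_or_ge v 303594 with h | h
            · rcases Nat.lt_or_ge v 301671 with h | h
              · exact edgesRange_spec E 10 1998 299673 edges_10_110 v (by omega) (by omega)
              · exact edgesRange_spec E 10 1923 301671 edges_10_111 v (by omega) (by omega)
            · rcases Nat.lt_or_ge v 305556 with h | h
              · exact edgesRange_spec E 10 1962 303594 edges_10_112 v (by omega) (by omega)
              · rcases Nat.lt_or_ge v 307497 with h | h
                · exact edgesRange_spec E 10 1941 305556 edges_10_113 v (by omega) (by omega)
                · exact edgesRange_spec E 10 1953 307497 edges_10_114 v (by omega) (by omega)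
        · rcases Nat.lt_or_ge v 317532 with h | h
          · rcases Nat.lt_or_ge v 313481 with h | h
            · rcases Nat.lt_or_ge v 311512 with h | h
              · exact edgesRange_spec E 10 2062 309450 edges_10_115 v (by omega) (by omega)
              · exact edgesRange_spec E 10 1969 311512 edges_10_116 v (by omega) (by omega)
            · rcases Nat.lt_or_ge v 315567 with h | h
              · exact edgesRange_spec E 10 2086 313481 edges_10_117 v (by omega) (by omega)
              · exact edgesRange_spec E 10 1965 315567 edges_10_118 v (by omega) (by omega)
          · rcases Nat.lt_or_ge v 321157 with h | h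
            · rcases Nat.lt_or_ge v 319381 with h | h
              · exact edgesRange_spec E 10 1849 317532 edges_10_119 v (by omega) (by omega)
              · exact edgesRange_spec E 10 1776 319381 edges_10_120 v (by omega) (by omega)
            · rcases Nat.lt_or_ge v 322971 with h | h
              · exact edgesRange_spec E 10 1814 321157 edges_10_121 v (by omega) (by omega)
              · rcases Nat.lt_or_ge v 324718 with h | h
                · exact edgesRange_spec E 10 1747 322971 edges_10_122 v (by omega) (by omega)
                · exact edgesRange_spec E 10 1809 324718 edges_10_123 v (by omega) (by omega)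
      · rcases Nat.lt_or_ge v 342689 with h | h
        · rcases Nat.lt_or_ge v 333963 with h | h
          · rcases Nat.lt_or_ge v 330275 with h | h
            · rcases Nat.lt_or_ge v 328362 with h | h
              · exact edgesRange_spec E 10 1835 326527 edges_10_124 v (by omega) (by omega)
              · exact edgesRange_spec E 10 1913 328362 edges_10_125 v (by omega) (by omega)
            · rcases Nat.lt_or_ge v 332105 with h | h
              · exact edgesRange_spec E 10 1830 330275 edges_10_126 v (by omega) (by omega)
              · exact edgesRange_spec E 10 1858 332105 edges_10_127 v (by omega) (by omega)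
          · rcases Nat.lt_or_ge v 337532 with h | h
            · rcases Nat.lt_or_ge v 335826 with h | h
              · exact edgesRange_spec E 10 1863 333963 edges_10_128 v (by omega) (by omega)
              · exact edgesRange_spec E 10 1706 335826 edges_10_129 v (by omega) (by omega)
            · rcases Nat.lt_or_ge v 339184 with h | h
              · exact edgesRange_spec E 10 1652 337532 edges_10_130 v (by omega) (by omega)
              · rcases Nat.lt_or_ge v 340865 with h | h
                · exact edgesRange_spec E 10 1681 339184 edges_10_131 v (by omega) (by omega)
                · exact edgesRange_spec E 10 1824 340865 edges_10_132 v (by omega) (by omega)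
        · rcases Nat.lt_or_ge v 349481 with h | h
          · rcases Nat.lt_or_ge v 346268 with h | h
            · rcases Nat.lt_or_ge v 344453 with h | h
              · exact edgesRange_spec E 10 1764 342689 edges_10_133 v (by omega) (by omega)
              · exact edgesRange_spec E 10 1815 344453 edges_10_134 v (by omega) (by omega)
            · rcases Nat.lt_or_ge v 347879 with h | h
              · exact edgesRange_spec E 10 1611 346268 edges_10_135 v (by omega) (by omega)
              · exact edgesRange_spec E 10 1602 347879 edges_10_136 v (by omega) (by omega)
          · rcases Nat.lt_or_ge v 352988 with h | h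
            · rcases Nat.lt_or_ge v 351246 with h | h
              · exact edgesRange_spec E 10 1765 349481 edges_10_137 v (by omega) (by omega)
              · exact edgesRange_spec E 10 1742 351246 edges_10_138 v (by omega) (by omega)
            · rcases Nat.lt_or_ge v 354634 with h | h
              · exact edgesRange_spec E 10 1646 352988 edges_10_139 v (by omega) (by omega)
              · rcases Nat.lt_or_ge v 356296 with h | h
                · exact edgesRange_spec E 10 1662 354634 edges_10_140 v (by omega) (by omega)
                · exact edgesRange_spec E 10 753 356296 edges_10_141 v (by omega) (by omega)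

theorem edgesx_11 : ∀ v, v < 357049 → edgeOK E 11 v = true := by
  intro v hv
  rcases Nat.lt_or_ge v 220945 with h | h
  · rcases Nat.lt_or_ge v 125163 with h | h
    · rcases Nat.lt_or_ge v 52078 with h | h
      · rcases Nat.lt_or_ge v 18053 with h | h
        · rcases Nat.lt_or_ge v 8365 with h | h
          · rcases Nat.lt_or_ge v 4112 with h | h
            · rcases Nat.lt_or_ge v 2185 with h | h
              · exact edgesRange_spec E 11 2185 0 edges_11_0 v (by omega) (by omega)
              · exact edgesRange_spec E 11 1927 2185 edges_11_1 v (by omega) (by omega)
            · rcases Nat.lt_or_ge v 6158 with h | h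
              · exact edgesRange_spec E 11 2046 4112 edges_11_2 v (by omega) (by omega)
              · exact edgesRange_spec E 11 2207 6158 edges_11_3 v (by omega) (by omega)
          · rcases Nat.lt_or_ge v 13053 with h | h
            · rcases Nat.lt_or_ge v 10734 with h | h
              · exact edgesRange_spec E 11 2369 8365 edges_11_4 v (by omega) (by omega)
              · exact edgesRange_spec E 11 2319 10734 edges_11_5 v (by omega) (by omega)
            · rcases Nat.lt_or_ge v 15388 with h | h
              · exact edgesRange_spec E 11 2335 13053 edges_11_6 v (by omega) (by omega)
              · exact edgesRange_spec E 11 2665 15388 edges_11_7 v (by omega) (by omega)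
        · rcases Nat.lt_or_ge v 31235 with h | h
          · rcases Nat.lt_or_ge v 24077 with h | h
            · rcases Nat.lt_or_ge v 21067 with h | h
              · exact edgesRange_spec E 11 3014 18053 edges_11_8 v (by omega) (by omega)
              · exact edgesRange_spec E 11 3010 21067 edges_11_9 v (by omega) (by omega)
            · rcases Nat.lt_or_ge v 27660 with h | h
              · exact edgesRange_spec E 11 3583 24077 edges_11_10 v (by omega) (by omega)
              · exact edgesRange_spec E 11 3575 27660 edges_11_11 v (by omega) (by omega)
          · rcases Nat.lt_or_ge v 39330 with h | h
            · rcases Nat.lt_or_ge v 35029 with h | h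
              · exact edgesRange_spec E 11 3794 31235 edges_11_12 v (by omega) (by omega)
              · exact edgesRange_spec E 11 4301 35029 edges_11_13 v (by omega) (by omega)
            · rcases Nat.lt_or_ge v 43061 with h | h
              · exact edgesRange_spec E 11 3731 39330 edges_11_14 v (by omega) (by omega)
              · rcases Nat.lt_or_ge v 47397 with h | h
                · exact edgesRange_spec E 11 4336 43061 edges_11_15 v (by omega) (by omega)
                · exact edgesRange_spec E 11 4681 47397 edges_11_16 v (by omega) (by omega)
      · rcases Nat.lt_or_ge v 87036 with h | h
        · rcases Nat.lt_or_ge v 69575 with h | h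
          · rcases Nat.lt_or_ge v 60623 with h | h
            · rcases Nat.lt_or_ge v 56338 with h | h
              · exact edgesRange_spec E 11 4260 52078 edges_11_17 v (by omega) (by omega)
              · exact edgesRange_spec E 11 4285 56338 edges_11_18 v (by omega) (by omega)
            · rcases Nat.lt_or_ge v 64908 with h | h
              · exact edgesRange_spec E 11 4285 60623 edges_11_19 v (by omega) (by omega)
              · exact edgesRange_spec E 11 4667 64908 edges_11_20 v (by omega) (by omega)
          · rcases Nat.lt_or_ge v 78371 with h | h
            · rcases Nat.lt_or_ge v 74340 with h | h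
              · exact edgesRange_spec E 11 4765 69575 edges_11_21 v (by omega) (by omega)
              · exact edgesRange_spec E 11 4031 74340 edges_11_22 v (by omega) (by omega)
            · rcases Nat.lt_or_ge v 83020 with h | h
              · exact edgesRange_spec E 11 4649 78371 edges_11_23 v (by omega) (by omega)
              · exact edgesRange_spec E 11 4016 83020 edges_11_24 v (by omega) (by omega)
        · rcases Nat.lt_or_ge v 104849 with h | h
          · rcases Nat.lt_or_ge v 96310 with h | h
            · rcases Nat.lt_or_ge v 91779 with h | h
              · exact edgesRange_spec E 11 4743 87036 edges_11_25 v (by omega) (by omega)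
              · exact edgesRange_spec E 11 4531 91779 edges_11_26 v (by omega) (by omega)
            · rcases Nat.lt_or_ge v 100587 with h | h
              · exact edgesRange_spec E 11 4277 96310 edges_11_27 v (by omega) (by omega)
              · exact edgesRange_spec E 11 4262 100587 edges_11_28 v (by omega) (by omega)
          · rcases Nat.lt_or_ge v 112688 with h | h
            · rcases Nat.lt_or_ge v 108798 with h | h
              · exact edgesRange_spec E 11 3949 104849 edges_11_29 v (by omega) (by omega)
              · exact edgesRange_spec E 11 3890 108798 edges_11_30 v (by omega) (by omega)
            · rcases Nat.lt_or_ge v 116955 with h | h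
              · exact edgesRange_spec E 11 4267 112688 edges_11_31 v (by omega) (by omega)
              · rcases Nat.lt_or_ge v 121033 with h | h
                · exact edgesRange_spec E 11 4078 116955 edges_11_32 v (by omega) (by omega)
                · exact edgesRange_spec E 11 4130 121033 edges_11_33 v (by omega) (by omega)
    · rcases Nat.lt_or_ge v 176424 with h | h
      · rcases Nat.lt_or_ge v 149684 with h | h
        · rcases Nat.lt_or_ge v 137847 with h | h
          · rcases Nat.lt_or_ge v 131375 with h | h
            · rcases Nat.lt_or_ge v 128525 with h | h
              · exact edgesRange_spec E 11 3362 125163 edges_11_34 v (by omega) (by omega)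
              · exact edgesRange_spec E 11 2850 128525 edges_11_35 v (by omega) (by omega)
            · rcases Nat.lt_or_ge v 134658 with h | h
              · exact edgesRange_spec E 11 3283 131375 edges_11_36 v (by omega) (by omega)
              · exact edgesRange_spec E 11 3189 134658 edges_11_37 v (by omega) (by omega)
          · rcases Nat.lt_or_ge v 143853 with h | h
            · rcases Nat.lt_or_ge v 140821 with h | h
              · exact edgesRange_spec E 11 2974 137847 edges_11_38 v (by omega) (by omega)
              · exact edgesRange_spec E 11 3032 140821 edges_11_39 v (by omega) (by omega)
            · rcases Nat.lt_or_ge v 146895 with h | h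
              · exact edgesRange_spec E 11 3042 143853 edges_11_40 v (by omega) (by omega)
              · exact edgesRange_spec E 11 2789 146895 edges_11_41 v (by omega) (by omega)
        · rcases Nat.lt_or_ge v 161780 with h | h
          · rcases Nat.lt_or_ge v 156163 with h | h
            · rcases Nat.lt_or_ge v 153200 with h | h
              · exact edgesRange_spec E 11 3516 149684 edges_11_42 v (by omega) (by omega)
              · exact edgesRange_spec E 11 2963 153200 edges_11_43 v (by omega) (by omega)
            · rcases Nat.lt_or_ge v 158845 with h | h
              · exact edgesRange_spec E 11 2682 156163 edges_11_44 v (by omega) (by omega)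
              · exact edgesRange_spec E 11 2935 158845 edges_11_45 v (by omega) (by omega)
          · rcases Nat.lt_or_ge v 167438 with h | h
            · rcases Nat.lt_or_ge v 164901 with h | h
              · exact edgesRange_spec E 11 3121 161780 edges_11_46 v (by omega) (by omega)
              · exact edgesRange_spec E 11 2537 164901 edges_11_47 v (by omega) (by omega)
            · rcases Nat.lt_or_ge v 170346 with h | h
              · exact edgesRange_spec E 11 2908 167438 edges_11_48 v (by omega) (by omega)
              · rcases Nat.lt_or_ge v 173740 with h | h
                · exact edgesRange_spec E 11 3394 170346 edges_11_49 v (by omega) (by omega)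
                · exact edgesRange_spec E 11 2684 173740 edges_11_50 v (by omega) (by omega)
      · rcases Nat.lt_or_ge v 198119 with h | h
        · rcases Nat.lt_or_ge v 187021 with h | h
          · rcases Nat.lt_or_ge v 181716 with h | h
            · rcases Nat.lt_or_ge v 178989 with h | h
              · exact edgesRange_spec E 11 2565 176424 edges_11_51 v (by omega) (by omega)
              · exact edgesRange_spec E 11 2727 178989 edges_11_52 v (by omega) (by omega)
            · rcases Nat.lt_or_ge v 184642 with h | h
              · exact edgesRange_spec E 11 2926 181716 edges_11_53 v (by omega) (by omega)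
              · exact edgesRange_spec E 11 2379 184642 edges_11_54 v (by omega) (by omega)
          · rcases Nat.lt_or_ge v 192812 with h | h
            · rcases Nat.lt_or_ge v 189791 with h | h
              · exact edgesRange_spec E 11 2770 187021 edges_11_55 v (by omega) (by omega)
              · exact edgesRange_spec E 11 3021 189791 edges_11_56 v (by omega) (by omega)
            · rcases Nat.lt_or_ge v 195825 with h | h
              · exact edgesRange_spec E 11 3013 192812 edges_11_57 v (by omega) (by omega)
              · exact edgesRange_spec E 11 2294 195825 edges_11_58 v (by omega) (by omega)
        · rcases Nat.lt_or_ge v 208265 with h | h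
          · rcases Nat.lt_or_ge v 203179 with h | h
            · rcases Nat.lt_or_ge v 200649 with h | h
              · exact edgesRange_spec E 11 2530 198119 edges_11_59 v (by omega) (by omega)
              · exact edgesRange_spec E 11 2530 200649 edges_11_60 v (by omega) (by omega)
            · rcases Nat.lt_or_ge v 205902 with h | h
              · exact edgesRange_spec E 11 2723 203179 edges_11_61 v (by omega) (by omega)
              · exact edgesRange_spec E 11 2363 205902 edges_11_62 v (by omega) (by omega)
          · rcases Nat.lt_or_ge v 213208 with h | h
            · rcases Nat.lt_or_ge v 210600 with h | h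
              · exact edgesRange_spec E 11 2335 208265 edges_11_63 v (by omega) (by omega)
              · exact edgesRange_spec E 11 2608 210600 edges_11_64 v (by omega) (by omega)
            · rcases Nat.lt_or_ge v 216020 with h | h
              · exact edgesRange_spec E 11 2812 213208 edges_11_65 v (by omega) (by omega)
              · rcases Nat.lt_or_ge v 218738 with h | h
                · exact edgesRange_spec E 11 2718 216020 edges_11_66 v (by omega) (by omega)
                · exact edgesRange_spec E 11 2207 218738 edges_11_67 v (by omega) (by omega)
  · rcases Nat.lt_or_ge v 294105 with h | h
    · rcases Nat.lt_or_ge v 259017 with h | h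
      · rcases Nat.lt_or_ge v 239494 with h | h
        · rcases Nat.lt_or_ge v 230312 with h | h
          · rcases Nat.lt_or_ge v 225471 with h | h
            · rcases Nat.lt_or_ge v 223151 with h | h
              · exact edgesRange_spec E 11 2206 220945 edges_11_68 v (by omega) (by omega)
              · exact edgesRange_spec E 11 2320 223151 edges_11_69 v (by omega) (by omega)
            · rcases Nat.lt_or_ge v 227876 with h | h
              · exact edgesRange_spec E 11 2405 225471 edges_11_70 v (by omega) (by omega)
              · exact edgesRange_spec E 11 2436 227876 edges_11_71 v (by omega) (by omega)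
          · rcases Nat.lt_or_ge v 234606 with h | h
            · rcases Nat.lt_or_ge v 232431 with h | h
              · exact edgesRange_spec E 11 2119 230312 edges_11_72 v (by omega) (by omega)
              · exact edgesRange_spec E 11 2175 232431 edges_11_73 v (by omega) (by omega)
            · rcases Nat.lt_or_ge v 237002 with h | h
              · exact edgesRange_spec E 11 2396 234606 edges_11_74 v (by omega) (by omega)
              · exact edgesRange_spec E 11 2492 237002 edges_11_75 v (by omega) (by omega)
        · rcases Nat.lt_or_ge v 248429 with h | h
          · rcases Nat.lt_or_ge v 244348 with h | h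
            · rcases Nat.lt_or_ge v 242011 with h | h
              · exact edgesRange_spec E 11 2517 239494 edges_11_76 v (by omega) (by omega)
              · exact edgesRange_spec E 11 2337 242011 edges_11_77 v (by omega) (by omega)
            · rcases Nat.lt_or_ge v 246303 with h | h
              · exact edgesRange_spec E 11 1955 244348 edges_11_78 v (by omega) (by omega)
              · exact edgesRange_spec E 11 2126 246303 edges_11_79 v (by omega) (by omega)
          · rcases Nat.lt_or_ge v 252696 with h | h
            · rcases Nat.lt_or_ge v 250569 with h | h
              · exact edgesRange_spec E 11 2140 248429 edges_11_80 v (by omega) (by omega)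
              · exact edgesRange_spec E 11 2127 250569 edges_11_81 v (by omega) (by omega)
            · rcases Nat.lt_or_ge v 254906 with h | h
              · exact edgesRange_spec E 11 2210 252696 edges_11_82 v (by omega) (by omega)
              · rcases Nat.lt_or_ge v 256915 with h | h
                · exact edgesRange_spec E 11 2009 254906 edges_11_83 v (by omega) (by omega)
                · exact edgesRange_spec E 11 2102 256915 edges_11_84 v (by omega) (by omega)
      · rcases Nat.lt_or_ge v 275806 with h | h
        · rcases Nat.lt_or_ge v 267897 with h | h
          · rcases Nat.lt_or_ge v 263374 with h | h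
            · rcases Nat.lt_or_ge v 261105 with h | h
              · exact edgesRange_spec E 11 2088 259017 edges_11_85 v (by omega) (by omega)
              · exact edgesRange_spec E 11 2269 261105 edges_11_86 v (by omega) (by omega)
            · rcases Nat.lt_or_ge v 265681 with h | h
              · exact edgesRange_spec E 11 2307 263374 edges_11_87 v (by omega) (by omega)
              · exact edgesRange_spec E 11 2216 265681 edges_11_88 v (by omega) (by omega)
          · rcases Nat.lt_or_ge v 271897 with h | h
            · rcases Nat.lt_or_ge v 270083 with h | h
              · exact edgesRange_spec E 11 2186 267897 edges_11_89 v (by omega) (by omega)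
              · exact edgesRange_spec E 11 1814 270083 edges_11_90 v (by omega) (by omega)
            · rcases Nat.lt_or_ge v 273859 with h | h
              · exact edgesRange_spec E 11 1962 271897 edges_11_91 v (by omega) (by omega)
              · exact edgesRange_spec E 11 1947 273859 edges_11_92 v (by omega) (by omega)
        · rcases Nat.lt_or_ge v 283731 with h | h
          · rcases Nat.lt_or_ge v 279834 with h | h
            · rcases Nat.lt_or_ge v 277801 with h | h
              · exact edgesRange_spec E 11 1995 275806 edges_11_93 v (by omega) (by omega)
              · exact edgesRange_spec E 11 2033 277801 edges_11_94 v (by omega) (by omega)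
            · rcases Nat.lt_or_ge v 281845 with h | h
              · exact edgesRange_spec E 11 2011 279834 edges_11_95 v (by omega) (by omega)
              · exact edgesRange_spec E 11 1886 281845 edges_11_96 v (by omega) (by omega)
          · rcases Nat.lt_or_ge v 287733 with h | h
            · rcases Nat.lt_or_ge v 285669 with h | h
              · exact edgesRange_spec E 11 1938 283731 edges_11_97 v (by omega) (by omega)
              · exact edgesRange_spec E 11 2064 285669 edges_11_98 v (by omega) (by omega)
            · rcases Nat.lt_or_ge v 289797 with h | h
              · exact edgesRange_spec E 11 2064 287733 edges_11_99 v (by omega) (by omega)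
              · rcases Nat.lt_or_ge v 291972 with h | h
                · exact edgesRange_spec E 11 2175 289797 edges_11_100 v (by omega) (by omega)
                · exact edgesRange_spec E 11 2133 291972 edges_11_101 v (by omega) (by omega)
    · rcases Nat.lt_or_ge v 325826 with h | h
      · rcases Nat.lt_or_ge v 309011 with h | h
        · rcases Nat.lt_or_ge v 301477 with h | h
          · rcases Nat.lt_or_ge v 297844 with h | h
            · rcases Nat.lt_or_ge v 295972 with h | h
              · exact edgesRange_spec E 11 1867 294105 edges_11_102 v (by omega) (by omega)
              · exact edgesRange_spec E 11 1872 295972 edges_11_103 v (by omega) (by omega)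
            · rcases Nat.lt_or_ge v 299628 with h | h
              · exact edgesRange_spec E 11 1784 297844 edges_11_104 v (by omega) (by omega)
              · exact edgesRange_spec E 11 1849 299628 edges_11_105 v (by omega) (by omega)
          · rcases Nat.lt_or_ge v 305275 with h | h
            · rcases Nat.lt_or_ge v 303355 with h | h
              · exact edgesRange_spec E 11 1878 301477 edges_11_106 v (by omega) (by omega)
              · exact edgesRange_spec E 11 1920 303355 edges_11_107 v (by omega) (by omega)
            · rcases Nat.lt_or_ge v 307101 with h | h
              · exact edgesRange_spec E 11 1826 305275 edges_11_108 v (by omega) (by omega)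
              · exact edgesRange_spec E 11 1910 307101 edges_11_109 v (by omega) (by omega)
        · rcases Nat.lt_or_ge v 316893 with h | h
          · rcases Nat.lt_or_ge v 312872 with h | h
            · rcases Nat.lt_or_ge v 310899 with h | h
              · exact edgesRange_spec E 11 1888 309011 edges_11_110 v (by omega) (by omega)
              · exact edgesRange_spec E 11 1973 310899 edges_11_111 v (by omega) (by omega)
            · rcases Nat.lt_or_ge v 314910 with h | h
              · exact edgesRange_spec E 11 2038 312872 edges_11_112 v (by omega) (by omega)
              · exact edgesRange_spec E 11 1983 314910 edges_11_113 v (by omega) (by omega)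
          · rcases Nat.lt_or_ge v 320516 with h | h
            · rcases Nat.lt_or_ge v 318742 with h | h
              · exact edgesRange_spec E 11 1849 316893 edges_11_114 v (by omega) (by omega)
              · exact edgesRange_spec E 11 1774 318742 edges_11_115 v (by omega) (by omega)
            · rcases Nat.lt_or_ge v 322231 with h | h
              · exact edgesRange_spec E 11 1715 320516 edges_11_116 v (by omega) (by omega)
              · rcases Nat.lt_or_ge v 324037 with h | h
                · exact edgesRange_spec E 11 1806 322231 edges_11_117 v (by omega) (by omega)
                · exact edgesRange_spec E 11 1789 324037 edges_11_118 v (by omega) (by omega)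
      · rcases Nat.lt_or_ge v 342209 with h | h
        · rcases Nat.lt_or_ge v 333315 with h | h
          · rcases Nat.lt_or_ge v 329493 with h | h
            · rcases Nat.lt_or_ge v 327610 with h | h
              · exact edgesRange_spec E 11 1784 325826 edges_11_119 v (by omega) (by omega)
              · exact edgesRange_spec E 11 1883 327610 edges_11_120 v (by omega) (by omega)
            · rcases Nat.lt_or_ge v 331446 with h | h
              · exact edgesRange_spec E 11 1953 329493 edges_11_121 v (by omega) (by omega)
              · exact edgesRange_spec E 11 1869 331446 edges_11_122 v (by omega) (by omega)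
          · rcases Nat.lt_or_ge v 336960 with h | h
            · rcases Nat.lt_or_ge v 335196 with h | h
              · exact edgesRange_spec E 11 1881 333315 edges_11_123 v (by omega) (by omega)
              · exact edgesRange_spec E 11 1764 335196 edges_11_124 v (by omega) (by omega)
            · rcases Nat.lt_or_ge v 338622 with h | h
              · exact edgesRange_spec E 11 1662 336960 edges_11_125 v (by omega) (by omega)
              · rcases Nat.lt_or_ge v 340425 with h | h
                · exact edgesRange_spec E 11 1803 338622 edges_11_126 v (by omega) (by omega)
                · exact edgesRange_spec E 11 1784 340425 edges_11_127 v (by omega) (by omega)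
        · rcases Nat.lt_or_ge v 349354 with h | h
          · rcases Nat.lt_or_ge v 345907 with h | h
            · rcases Nat.lt_or_ge v 344086 with h | h
              · exact edgesRange_spec E 11 1877 342209 edges_11_128 v (by omega) (by omega)
              · exact edgesRange_spec E 11 1821 344086 edges_11_129 v (by omega) (by omega)
            · rcases Nat.lt_or_ge v 347617 with h | h
              · exact edgesRange_spec E 11 1710 345907 edges_11_130 v (by omega) (by omega)
              · exact edgesRange_spec E 11 1737 347617 edges_11_131 v (by omega) (by omega)
          · rcases Nat.lt_or_ge v 352890 with h | h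
            · rcases Nat.lt_or_ge v 351114 with h | h
              · exact edgesRange_spec E 11 1760 349354 edges_11_132 v (by omega) (by omega)
              · exact edgesRange_spec E 11 1776 351114 edges_11_133 v (by omega) (by omega)
            · rcases Nat.lt_or_ge v 354511 with h | h
              · exact edgesRange_spec E 11 1621 352890 edges_11_134 v (by omega) (by omega)
              · rcases Nat.lt_or_ge v 356140 with h | h
                · exact edgesRange_spec E 11 1629 354511 edges_11_135 v (by omega) (by omega)
                · exact edgesRange_spec E 11 909 356140 edges_11_136 v (by omega) (by omega)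

theorem hA0 : ∀ v, v < 357049 → aliasOK E v = true := by
  intro v hv
  rcases Nat.lt_or_ge v 115886 with h | h
  · rcases Nat.lt_or_ge v 66813 with h | h
    · rcases Nat.lt_or_ge v 36905 with h | h
      · rcases Nat.lt_or_ge v 19642 with h | h
        · rcases Nat.lt_or_ge v 9712 with h | h
          · rcases Nat.lt_or_ge v 5599 with h | h
            · exact aliasRange_spec E 5599 0 aliases_0 v (by omega) (by omega)
            · exact aliasRange_spec E 4113 5599 aliases_1 v (by omega) (by omega)
          · rcases Nat.lt_or_ge v 14698 with h | h
            · exact aliasRange_spec E 4986 9712 aliases_2 v (by omega) (by omega)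
            · exact aliasRange_spec E 4944 14698 aliases_3 v (by omega) (by omega)
        · rcases Nat.lt_or_ge v 28649 with h | h
          · rcases Nat.lt_or_ge v 24166 with h | h
            · exact aliasRange_spec E 4524 19642 aliases_4 v (by omega) (by omega)
            · exact aliasRange_spec E 4483 24166 aliases_5 v (by omega) (by omega)
          · rcases Nat.lt_or_ge v 32605 with h | h
            · exact aliasRange_spec E 3956 28649 aliases_6 v (by omega) (by omega)
            · exact aliasRange_spec E 4300 32605 aliases_7 v (by omega) (by omega)
      · rcases Nat.lt_or_ge v 52109 with h | h
        · rcases Nat.lt_or_ge v 44449 with h | h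
          · rcases Nat.lt_or_ge v 40533 with h | h
            · exact aliasRange_spec E 3628 36905 aliases_8 v (by omega) (by omega)
            · exact aliasRange_spec E 3916 40533 aliases_9 v (by omega) (by omega)
          · rcases Nat.lt_or_ge v 48740 with h | h
            · exact aliasRange_spec E 4291 44449 aliases_10 v (by omega) (by omega)
            · exact aliasRange_spec E 3369 48740 aliases_11 v (by omega) (by omega)
        · rcases Nat.lt_or_ge v 59226 with h | h
          · rcases Nat.lt_or_ge v 55362 with h | h
            · exact aliasRange_spec E 3253 52109 aliases_12 v (by omega) (by omega)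
            · exact aliasRange_spec E 3864 55362 aliases_13 v (by omega) (by omega)
          · rcases Nat.lt_or_ge v 62985 with h | h
            · exact aliasRange_spec E 3759 59226 aliases_14 v (by omega) (by omega)
            · exact aliasRange_spec E 3828 62985 aliases_15 v (by omega) (by omega)
    · rcases Nat.lt_or_ge v 92263 with h | h
      · rcases Nat.lt_or_ge v 79652 with h | h
        · rcases Nat.lt_or_ge v 73126 with h | h
          · rcases Nat.lt_or_ge v 69934 with h | h
            · exact aliasRange_spec E 3121 66813 aliases_16 v (by omega) (by omega)
            · exact aliasRange_spec E 3192 69934 aliases_17 v (by omega) (by omega)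
          · rcases Nat.lt_or_ge v 76606 with h | h
            · exact aliasRange_spec E 3480 73126 aliases_18 v (by omega) (by omega)
            · exact aliasRange_spec E 3046 76606 aliases_19 v (by omega) (by omega)
        · rcases Nat.lt_or_ge v 87149 with h | h
          · rcases Nat.lt_or_ge v 82769 with h | h
            · exact aliasRange_spec E 3117 79652 aliases_20 v (by omega) (by omega)
            · exact aliasRange_spec E 4380 82769 aliases_21 v (by omega) (by omega)
          · rcases Nat.lt_or_ge v 89525 with h | h
            · exact aliasRange_spec E 2376 87149 aliases_22 v (by omega) (by omega)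
            · exact aliasRange_spec E 2738 89525 aliases_23 v (by omega) (by omega)
      · rcases Nat.lt_or_ge v 103559 with h | h
        · rcases Nat.lt_or_ge v 97080 with h | h
          · rcases Nat.lt_or_ge v 94605 with h | h
            · exact aliasRange_spec E 2342 92263 aliases_24 v (by omega) (by omega)
            · exact aliasRange_spec E 2475 94605 aliases_25 v (by omega) (by omega)
          · rcases Nat.lt_or_ge v 100339 with h | h
            · exact aliasRange_spec E 3259 97080 aliases_26 v (by omega) (by omega)
            · exact aliasRange_spec E 3220 100339 aliases_27 v (by omega) (by omega)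
        · rcases Nat.lt_or_ge v 109487 with h | h
          · rcases Nat.lt_or_ge v 106095 with h | h
            · exact aliasRange_spec E 2536 103559 aliases_28 v (by omega) (by omega)
            · exact aliasRange_spec E 3392 106095 aliases_29 v (by omega) (by omega)
          · rcases Nat.lt_or_ge v 113650 with h | h
            · exact aliasRange_spec E 4163 109487 aliases_30 v (by omega) (by omega)
            · exact aliasRange_spec E 2236 113650 aliases_31 v (by omega) (by omega)
  · rcases Nat.lt_or_ge v 223363 with h | h
    · rcases Nat.lt_or_ge v 159507 with h | h
      · rcases Nat.lt_or_ge v 127585 with h | h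
        · rcases Nat.lt_or_ge v 120719 with h | h
          · rcases Nat.lt_or_ge v 118378 with h | h
            · exact aliasRange_spec E 2492 115886 aliases_32 v (by omega) (by omega)
            · exact aliasRange_spec E 2341 118378 aliases_33 v (by omega) (by omega)
          · rcases Nat.lt_or_ge v 123185 with h | h
            · exact aliasRange_spec E 2466 120719 aliases_34 v (by omega) (by omega)
            · exact aliasRange_spec E 4400 123185 aliases_35 v (by omega) (by omega)
        · rcases Nat.lt_or_ge v 143507 with h | h
          · rcases Nat.lt_or_ge v 135513 with h | h
            · exact aliasRange_spec E 7928 127585 aliases_36 v (by omega) (by omega)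
            · exact aliasRange_spec E 7994 135513 aliases_37 v (by omega) (by omega)
          · rcases Nat.lt_or_ge v 151507 with h | h
            · exact aliasRange_spec E 8000 143507 aliases_38 v (by omega) (by omega)
            · exact aliasRange_spec E 8000 151507 aliases_39 v (by omega) (by omega)
      · rcases Nat.lt_or_ge v 191507 with h | h
        · rcases Nat.lt_or_ge v 175507 with h | h
          · rcases Nat.lt_or_ge v 167507 with h | h
            · exact aliasRange_spec E 8000 159507 aliases_40 v (by omega) (by omega)
            · exact aliasRange_spec E 8000 167507 aliases_41 v (by omega) (by omega)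
          · rcases Nat.lt_or_ge v 183507 with h | h
            · exact aliasRange_spec E 8000 175507 aliases_42 v (by omega) (by omega)
            · exact aliasRange_spec E 8000 183507 aliases_43 v (by omega) (by omega)
        · rcases Nat.lt_or_ge v 207411 with h | h
          · rcases Nat.lt_or_ge v 199447 with h | h
            · exact aliasRange_spec E 7940 191507 aliases_44 v (by omega) (by omega)
            · exact aliasRange_spec E 7964 199447 aliases_45 v (by omega) (by omega)
          · rcases Nat.lt_or_ge v 215363 with h | h
            · exact aliasRange_spec E 7952 207411 aliases_46 v (by omega) (by omega)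
            · exact aliasRange_spec E 8000 215363 aliases_47 v (by omega) (by omega)
    · rcases Nat.lt_or_ge v 287363 with h | h
      · rcases Nat.lt_or_ge v 255363 with h | h
        · rcases Nat.lt_or_ge v 239363 with h | h
          · rcases Nat.lt_or_ge v 231363 with h | h
            · exact aliasRange_spec E 8000 223363 aliases_48 v (by omega) (by omega)
            · exact aliasRange_spec E 8000 231363 aliases_49 v (by omega) (by omega)
          · rcases Nat.lt_or_ge v 247363 with h | h
            · exact aliasRange_spec E 8000 239363 aliases_50 v (by omega) (by omega)
            · exact aliasRange_spec E 8000 247363 aliases_51 v (by omega) (by omega)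
        · rcases Nat.lt_or_ge v 271363 with h | h
          · rcases Nat.lt_or_ge v 263363 with h | h
            · exact aliasRange_spec E 8000 255363 aliases_52 v (by omega) (by omega)
            · exact aliasRange_spec E 8000 263363 aliases_53 v (by omega) (by omega)
          · rcases Nat.lt_or_ge v 279363 with h | h
            · exact aliasRange_spec E 8000 271363 aliases_54 v (by omega) (by omega)
            · exact aliasRange_spec E 8000 279363 aliases_55 v (by omega) (by omega)
      · rcases Nat.lt_or_ge v 319363 with h | h
        · rcases Nat.lt_or_ge v 303363 with h | h
          · rcases Nat.lt_or_ge v 295363 with h | h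
            · exact aliasRange_spec E 8000 287363 aliases_56 v (by omega) (by omega)
            · exact aliasRange_spec E 8000 295363 aliases_57 v (by omega) (by omega)
          · rcases Nat.lt_or_ge v 311363 with h | h
            · exact aliasRange_spec E 8000 303363 aliases_58 v (by omega) (by omega)
            · exact aliasRange_spec E 8000 311363 aliases_59 v (by omega) (by omega)
        · rcases Nat.lt_or_ge v 335363 with h | h
          · rcases Nat.lt_or_ge v 327363 with h | h
            · exact aliasRange_spec E 8000 319363 aliases_60 v (by omega) (by omega)
            · exact aliasRange_spec E 8000 327363 aliases_61 v (by omega) (by omega)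
          · rcases Nat.lt_or_ge v 343363 with h | h
            · exact aliasRange_spec E 8000 335363 aliases_62 v (by omega) (by omega)
            · rcases Nat.lt_or_ge v 351363 with h | h
              · exact aliasRange_spec E 8000 343363 aliases_63 v (by omega) (by omega)
              · exact aliasRange_spec E 5686 351363 aliases_64 v (by omega) (by omega)

theorem hrows0 : ∀ v, v < 357049 → tb RS v = true → rowOK2 E RS v E.D.k = true := by
  intro v hv
  rcases Nat.lt_or_ge v 178500 with h | h
  · rcases Nat.lt_or_ge v 88500 with h | h
    · rcases Nat.lt_or_ge v 43500 with h | h
      · rcases Nat.lt_or_ge v 21000 with h | h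
        · rcases Nat.lt_or_ge v 10500 with h | h
          · rcases Nat.lt_or_ge v 4500 with h | h
            · rcases Nat.lt_or_ge v 1500 with h | h
              · exact rowsRange_spec E RS 1500 0 rows_0 v (by omega) (by omega)
              · rcases Nat.lt_or_ge v 3000 with h | h
                · exact rowsRange_spec E RS 1500 1500 rows_1 v (by omega) (by omega)
                · exact rowsRange_spec E RS 1500 3000 rows_2 v (by omega) (by omega)
            · rcases Nat.lt_or_ge v 7500 with h | h
              · rcases Nat.lt_or_ge v 6000 with h | h
                · exact rowsRange_spec E RS 1500 4500 rows_3 v (by omega) (by omega)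
                · exact rowsRange_spec E RS 1500 6000 rows_4 v (by omega) (by omega)
              · rcases Nat.lt_or_ge v 9000 with h | h
                · exact rowsRange_spec E RS 1500 7500 rows_5 v (by omega) (by omega)
                · exact rowsRange_spec E RS 1500 9000 rows_6 v (by omega) (by omega)
          · rcases Nat.lt_or_ge v 15000 with h | h
            · rcases Nat.lt_or_ge v 12000 with h | h
              · exact rowsRange_spec E RS 1500 10500 rows_7 v (by omega) (by omega)
              · rcases Nat.lt_or_ge v 13500 with h | h
                · exact rowsRange_spec E RS 1500 12000 rows_8 v (by omega) (by omega)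
                · exact rowsRange_spec E RS 1500 13500 rows_9 v (by omega) (by omega)
            · rcases Nat.lt_or_ge v 18000 with h | h
              · rcases Nat.lt_or_ge v 16500 with h | h
                · exact rowsRange_spec E RS 1500 15000 rows_10 v (by omega) (by omega)
                · exact rowsRange_spec E RS 1500 16500 rows_11 v (by omega) (by omega)
              · rcases Nat.lt_or_ge v 19500 with h | h
                · exact rowsRange_spec E RS 1500 18000 rows_12 v (by omega) (by omega)
                · exact rowsRange_spec E RS 1500 19500 rows_13 v (by omega) (by omega)
        · rcases Nat.lt_or_ge v 31500 with h | h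
          · rcases Nat.lt_or_ge v 25500 with h | h
            · rcases Nat.lt_or_ge v 22500 with h | h
              · exact rowsRange_spec E RS 1500 21000 rows_14 v (by omega) (by omega)
              · rcases Nat.lt_or_ge v 24000 with h | h
                · exact rowsRange_spec E RS 1500 22500 rows_15 v (by omega) (by omega)
                · exact rowsRange_spec E RS 1500 24000 rows_16 v (by omega) (by omega)
            · rcases Nat.lt_or_ge v 28500 with h | h
              · rcases Nat.lt_or_ge v 27000 with h | h
                · exact rowsRange_spec E RS 1500 25500 rows_17 v (by omega) (by omega)
                · exact rowsRange_spec E RS 1500 27000 rows_18 v (by omega) (by omega)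
              · rcases Nat.lt_or_ge v 30000 with h | h
                · exact rowsRange_spec E RS 1500 28500 rows_19 v (by omega) (by omega)
                · exact rowsRange_spec E RS 1500 30000 rows_20 v (by omega) (by omega)
          · rcases Nat.lt_or_ge v 37500 with h | h
            · rcases Nat.lt_or_ge v 34500 with h | h
              · rcases Nat.lt_or_ge v 33000 with h | h
                · exact rowsRange_spec E RS 1500 31500 rows_21 v (by omega) (by omega)
                · exact rowsRange_spec E RS 1500 33000 rows_22 v (by omega) (by omega)
              · rcases Nat.lt_or_ge v 36000 with h | h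
                · exact rowsRange_spec E RS 1500 34500 rows_23 v (by omega) (by omega)
                · exact rowsRange_spec E RS 1500 36000 rows_24 v (by omega) (by omega)
            · rcases Nat.lt_or_ge v 40500 with h | h
              · rcases Nat.lt_or_ge v 39000 with h | h
                · exact rowsRange_spec E RS 1500 37500 rows_25 v (by omega) (by omega)
                · exact rowsRange_spec E RS 1500 39000 rows_26 v (by omega) (by omega)
              · rcases Nat.lt_or_ge v 42000 with h | h
                · exact rowsRange_spec E RS 1500 40500 rows_27 v (by omega) (by omega)
                · exact rowsRange_spec E RS 1500 42000 rows_28 v (by omega) (by omega)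
      · rcases Nat.lt_or_ge v 66000 with h | h
        · rcases Nat.lt_or_ge v 54000 with h | h
          · rcases Nat.lt_or_ge v 48000 with h | h
            · rcases Nat.lt_or_ge v 45000 with h | h
              · exact rowsRange_spec E RS 1500 43500 rows_29 v (by omega) (by omega)
              · rcases Nat.lt_or_ge v 46500 with h | h
                · exact rowsRange_spec E RS 1500 45000 rows_30 v (by omega) (by omega)
                · exact rowsRange_spec E RS 1500 46500 rows_31 v (by omega) (by omega)
            · rcases Nat.lt_or_ge v 51000 with h | h
              · rcases Nat.lt_or_ge v 49500 with h | h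
                · exact rowsRange_spec E RS 1500 48000 rows_32 v (by omega) (by omega)
                · exact rowsRange_spec E RS 1500 49500 rows_33 v (by omega) (by omega)
              · rcases Nat.lt_or_ge v 52500 with h | h
                · exact rowsRange_spec E RS 1500 51000 rows_34 v (by omega) (by omega)
                · exact rowsRange_spec E RS 1500 52500 rows_35 v (by omega) (by omega)
          · rcases Nat.lt_or_ge v 60000 with h | h
            · rcases Nat.lt_or_ge v 57000 with h | h
              · rcases Nat.lt_or_ge v 55500 with h | h
                · exact rowsRange_spec E RS 1500 54000 rows_36 v (by omega) (by omega)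
                · exact rowsRange_spec E RS 1500 55500 rows_37 v (by omega) (by omega)
              · rcases Nat.lt_or_ge v 58500 with h | h
                · exact rowsRange_spec E RS 1500 57000 rows_38 v (by omega) (by omega)
                · exact rowsRange_spec E RS 1500 58500 rows_39 v (by omega) (by omega)
            · rcases Nat.lt_or_ge v 63000 with h | h
              · rcases Nat.lt_or_ge v 61500 with h | h
                · exact rowsRange_spec E RS 1500 60000 rows_40 v (by omega) (by omega)
                · exact rowsRange_spec E RS 1500 61500 rows_41 v (by omega) (by omega)
              · rcases Nat.lt_or_ge v 64500 with h | h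
                · exact rowsRange_spec E RS 1500 63000 rows_42 v (by omega) (by omega)
                · exact rowsRange_spec E RS 1500 64500 rows_43 v (by omega) (by omega)
        · rcases Nat.lt_or_ge v 76500 with h | h
          · rcases Nat.lt_or_ge v 70500 with h | h
            · rcases Nat.lt_or_ge v 67500 with h | h
              · exact rowsRange_spec E RS 1500 66000 rows_44 v (by omega) (by omega)
              · rcases Nat.lt_or_ge v 69000 with h | h
                · exact rowsRange_spec E RS 1500 67500 rows_45 v (by omega) (by omega)
                · exact rowsRange_spec E RS 1500 69000 rows_46 v (by omega) (by omega)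
            · rcases Nat.lt_or_ge v 73500 with h | h
              · rcases Nat.lt_or_ge v 72000 with h | h
                · exact rowsRange_spec E RS 1500 70500 rows_47 v (by omega) (by omega)
                · exact rowsRange_spec E RS 1500 72000 rows_48 v (by omega) (by omega)
              · rcases Nat.lt_or_ge v 75000 with h | h
                · exact rowsRange_spec E RS 1500 73500 rows_49 v (by omega) (by omega)
                · exact rowsRange_spec E RS 1500 75000 rows_50 v (by omega) (by omega)
          · rcases Nat.lt_or_ge v 82500 with h | h
            · rcases Nat.lt_or_ge v 79500 with h | h
              · rcases Nat.lt_or_ge v 78000 with h | h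
                · exact rowsRange_spec E RS 1500 76500 rows_51 v (by omega) (by omega)
                · exact rowsRange_spec E RS 1500 78000 rows_52 v (by omega) (by omega)
              · rcases Nat.lt_or_ge v 81000 with h | h
                · exact rowsRange_spec E RS 1500 79500 rows_53 v (by omega) (by omega)
                · exact rowsRange_spec E RS 1500 81000 rows_54 v (by omega) (by omega)
            · rcases Nat.lt_or_ge v 85500 with h | h
              · rcases Nat.lt_or_ge v 84000 with h | h
                · exact rowsRange_spec E RS 1500 82500 rows_55 v (by omega) (by omega)
                · exact rowsRange_spec E RS 1500 84000 rows_56 v (by omega) (by omega)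
              · rcases Nat.lt_or_ge v 87000 with h | h
                · exact rowsRange_spec E RS 1500 85500 rows_57 v (by omega) (by omega)
                · exact rowsRange_spec E RS 1500 87000 rows_58 v (by omega) (by omega)
    · rcases Nat.lt_or_ge v 133500 with h | h
      · rcases Nat.lt_or_ge v 111000 with h | h
        · rcases Nat.lt_or_ge v 99000 with h | h
          · rcases Nat.lt_or_ge v 93000 with h | h
            · rcases Nat.lt_or_ge v 90000 with h | h
              · exact rowsRange_spec E RS 1500 88500 rows_59 v (by omega) (by omega)
              · rcases Nat.lt_or_ge v 91500 with h | h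
                · exact rowsRange_spec E RS 1500 90000 rows_60 v (by omega) (by omega)
                · exact rowsRange_spec E RS 1500 91500 rows_61 v (by omega) (by omega)
            · rcases Nat.lt_or_ge v 96000 with h | h
              · rcases Nat.lt_or_ge v 94500 with h | h
                · exact rowsRange_spec E RS 1500 93000 rows_62 v (by omega) (by omega)
                · exact rowsRange_spec E RS 1500 94500 rows_63 v (by omega) (by omega)
              · rcases Nat.lt_or_ge v 97500 with h | h
                · exact rowsRange_spec E RS 1500 96000 rows_64 v (by omega) (by omega)
                · exact rowsRange_spec E RS 1500 97500 rows_65 v (by omega) (by omega)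
          · rcases Nat.lt_or_ge v 105000 with h | h
            · rcases Nat.lt_or_ge v 102000 with h | h
              · rcases Nat.lt_or_ge v 100500 with h | h
                · exact rowsRange_spec E RS 1500 99000 rows_66 v (by omega) (by omega)
                · exact rowsRange_spec E RS 1500 100500 rows_67 v (by omega) (by omega)
              · rcases Nat.lt_or_ge v 103500 with h | h
                · exact rowsRange_spec E RS 1500 102000 rows_68 v (by omega) (by omega)
                · exact rowsRange_spec E RS 1500 103500 rows_69 v (by omega) (by omega)
            · rcases Nat.lt_or_ge v 108000 with h | h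
              · rcases Nat.lt_or_ge v 106500 with h | h
                · exact rowsRange_spec E RS 1500 105000 rows_70 v (by omega) (by omega)
                · exact rowsRange_spec E RS 1500 106500 rows_71 v (by omega) (by omega)
              · rcases Nat.lt_or_ge v 109500 with h | h
                · exact rowsRange_spec E RS 1500 108000 rows_72 v (by omega) (by omega)
                · exact rowsRange_spec E RS 1500 109500 rows_73 v (by omega) (by omega)
        · rcases Nat.lt_or_ge v 121500 with h | h
          · rcases Nat.lt_or_ge v 115500 with h | h
            · rcases Nat.lt_or_ge v 112500 with h | h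
              · exact rowsRange_spec E RS 1500 111000 rows_74 v (by omega) (by omega)
              · rcases Nat.lt_or_ge v 114000 with h | h
                · exact rowsRange_spec E RS 1500 112500 rows_75 v (by omega) (by omega)
                · exact rowsRange_spec E RS 1500 114000 rows_76 v (by omega) (by omega)
            · rcases Nat.lt_or_ge v 118500 with h | h
              · rcases Nat.lt_or_ge v 117000 with h | h
                · exact rowsRange_spec E RS 1500 115500 rows_77 v (by omega) (by omega)
                · exact rowsRange_spec E RS 1500 117000 rows_78 v (by omega) (by omega)
              · rcases Nat.lt_or_ge v 120000 with h | h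
                · exact rowsRange_spec E RS 1500 118500 rows_79 v (by omega) (by omega)
                · exact rowsRange_spec E RS 1500 120000 rows_80 v (by omega) (by omega)
          · rcases Nat.lt_or_ge v 127500 with h | h
            · rcases Nat.lt_or_ge v 124500 with h | h
              · rcases Nat.lt_or_ge v 123000 with h | h
                · exact rowsRange_spec E RS 1500 121500 rows_81 v (by omega) (by omega)
                · exact rowsRange_spec E RS 1500 123000 rows_82 v (by omega) (by omega)
              · rcases Nat.lt_or_ge v 126000 with h | h
                · exact rowsRange_spec E RS 1500 124500 rows_83 v (by omega) (by omega)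
                · exact rowsRange_spec E RS 1500 126000 rows_84 v (by omega) (by omega)
            · rcases Nat.lt_or_ge v 130500 with h | h
              · rcases Nat.lt_or_ge v 129000 with h | h
                · exact rowsRange_spec E RS 1500 127500 rows_85 v (by omega) (by omega)
                · exact rowsRange_spec E RS 1500 129000 rows_86 v (by omega) (by omega)
              · rcases Nat.lt_or_ge v 132000 with h | h
                · exact rowsRange_spec E RS 1500 130500 rows_87 v (by omega) (by omega)
                · exact rowsRange_spec E RS 1500 132000 rows_88 v (by omega) (by omega)
      · rcases Nat.lt_or_ge v 156000 with h | h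
        · rcases Nat.lt_or_ge v 144000 with h | h
          · rcases Nat.lt_or_ge v 138000 with h | h
            · rcases Nat.lt_or_ge v 135000 with h | h
              · exact rowsRange_spec E RS 1500 133500 rows_89 v (by omega) (by omega)
              · rcases Nat.lt_or_ge v 136500 with h | h
                · exact rowsRange_spec E RS 1500 135000 rows_90 v (by omega) (by omega)
                · exact rowsRange_spec E RS 1500 136500 rows_91 v (by omega) (by omega)
            · rcases Nat.lt_or_ge v 141000 with h | h
              · rcases Nat.lt_or_ge v 139500 with h | h
                · exact rowsRange_spec E RS 1500 138000 rows_92 v (by omega) (by omega)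
                · exact rowsRange_spec E RS 1500 139500 rows_93 v (by omega) (by omega)
              · rcases Nat.lt_or_ge v 142500 with h | h
                · exact rowsRange_spec E RS 1500 141000 rows_94 v (by omega) (by omega)
                · exact rowsRange_spec E RS 1500 142500 rows_95 v (by omega) (by omega)
          · rcases Nat.lt_or_ge v 150000 with h | h
            · rcases Nat.lt_or_ge v 147000 with h | h
              · rcases Nat.lt_or_ge v 145500 with h | h
                · exact rowsRange_spec E RS 1500 144000 rows_96 v (by omega) (by omega)
                · exact rowsRange_spec E RS 1500 145500 rows_97 v (by omega) (by omega)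
              · rcases Nat.lt_or_ge v 148500 with h | h
                · exact rowsRange_spec E RS 1500 147000 rows_98 v (by omega) (by omega)
                · exact rowsRange_spec E RS 1500 148500 rows_99 v (by omega) (by omega)
            · rcases Nat.lt_or_ge v 153000 with h | h
              · rcases Nat.lt_or_ge v 151500 with h | h
                · exact rowsRange_spec E RS 1500 150000 rows_100 v (by omega) (by omega)
                · exact rowsRange_spec E RS 1500 151500 rows_101 v (by omega) (by omega)
              · rcases Nat.lt_or_ge v 154500 with h | h
                · exact rowsRange_spec E RS 1500 153000 rows_102 v (by omega) (by omega)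
                · exact rowsRange_spec E RS 1500 154500 rows_103 v (by omega) (by omega)
        · rcases Nat.lt_or_ge v 166500 with h | h
          · rcases Nat.lt_or_ge v 160500 with h | h
            · rcases Nat.lt_or_ge v 157500 with h | h
              · exact rowsRange_spec E RS 1500 156000 rows_104 v (by omega) (by omega)
              · rcases Nat.lt_or_ge v 159000 with h | h
                · exact rowsRange_spec E RS 1500 157500 rows_105 v (by omega) (by omega)
                · exact rowsRange_spec E RS 1500 159000 rows_106 v (by omega) (by omega)
            · rcases Nat.lt_or_ge v 163500 with h | h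
              · rcases Nat.lt_or_ge v 162000 with h | h
                · exact rowsRange_spec E RS 1500 160500 rows_107 v (by omega) (by omega)
                · exact rowsRange_spec E RS 1500 162000 rows_108 v (by omega) (by omega)
              · rcases Nat.lt_or_ge v 165000 with h | h
                · exact rowsRange_spec E RS 1500 163500 rows_109 v (by omega) (by omega)
                · exact rowsRange_spec E RS 1500 165000 rows_110 v (by omega) (by omega)
          · rcases Nat.lt_or_ge v 172500 with h | h
            · rcases Nat.lt_or_ge v 169500 with h | h
              · rcases Nat.lt_or_ge v 168000 with h | h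
                · exact rowsRange_spec E RS 1500 166500 rows_111 v (by omega) (by omega)
                · exact rowsRange_spec E RS 1500 168000 rows_112 v (by omega) (by omega)
              · rcases Nat.lt_or_ge v 171000 with h | h
                · exact rowsRange_spec E RS 1500 169500 rows_113 v (by omega) (by omega)
                · exact rowsRange_spec E RS 1500 171000 rows_114 v (by omega) (by omega)
            · rcases Nat.lt_or_ge v 175500 with h | h
              · rcases Nat.lt_or_ge v 174000 with h | h
                · exact rowsRange_spec E RS 1500 172500 rows_115 v (by omega) (by omega)
                · exact rowsRange_spec E RS 1500 174000 rows_116 v (by omega) (by omega)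
              · rcases Nat.lt_or_ge v 177000 with h | h
                · exact rowsRange_spec E RS 1500 175500 rows_117 v (by omega) (by omega)
                · exact rowsRange_spec E RS 1500 177000 rows_118 v (by omega) (by omega)
  · rcases Nat.lt_or_ge v 268500 with h | h
    · rcases Nat.lt_or_ge v 223500 with h | h
      · rcases Nat.lt_or_ge v 201000 with h | h
        · rcases Nat.lt_or_ge v 189000 with h | h
          · rcases Nat.lt_or_ge v 183000 with h | h
            · rcases Nat.lt_or_ge v 180000 with h | h
              · exact rowsRange_spec E RS 1500 178500 rows_119 v (by omega) (by omega)
              · rcases Nat.lt_or_ge v 181500 with h | h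
                · exact rowsRange_spec E RS 1500 180000 rows_120 v (by omega) (by omega)
                · exact rowsRange_spec E RS 1500 181500 rows_121 v (by omega) (by omega)
            · rcases Nat.lt_or_ge v 186000 with h | h
              · rcases Nat.lt_or_ge v 184500 with h | h
                · exact rowsRange_spec E RS 1500 183000 rows_122 v (by omega) (by omega)
                · exact rowsRange_spec E RS 1500 184500 rows_123 v (by omega) (by omega)
              · rcases Nat.lt_or_ge v 187500 with h | h
                · exact rowsRange_spec E RS 1500 186000 rows_124 v (by omega) (by omega)
                · exact rowsRange_spec E RS 1500 187500 rows_125 v (by omega) (by omega)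
          · rcases Nat.lt_or_ge v 195000 with h | h
            · rcases Nat.lt_or_ge v 192000 with h | h
              · rcases Nat.lt_or_ge v 190500 with h | h
                · exact rowsRange_spec E RS 1500 189000 rows_126 v (by omega) (by omega)
                · exact rowsRange_spec E RS 1500 190500 rows_127 v (by omega) (by omega)
              · rcases Nat.lt_or_ge v 193500 with h | h
                · exact rowsRange_spec E RS 1500 192000 rows_128 v (by omega) (by omega)
                · exact rowsRange_spec E RS 1500 193500 rows_129 v (by omega) (by omega)
            · rcases Nat.lt_or_ge v 198000 with h | h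
              · rcases Nat.lt_or_ge v 196500 with h | h
                · exact rowsRange_spec E RS 1500 195000 rows_130 v (by omega) (by omega)
                · exact rowsRange_spec E RS 1500 196500 rows_131 v (by omega) (by omega)
              · rcases Nat.lt_or_ge v 199500 with h | h
                · exact rowsRange_spec E RS 1500 198000 rows_132 v (by omega) (by omega)
                · exact rowsRange_spec E RS 1500 199500 rows_133 v (by omega) (by omega)
        · rcases Nat.lt_or_ge v 211500 with h | h
          · rcases Nat.lt_or_ge v 205500 with h | h
            · rcases Nat.lt_or_ge v 202500 with h | h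
              · exact rowsRange_spec E RS 1500 201000 rows_134 v (by omega) (by omega)
              · rcases Nat.lt_or_ge v 204000 with h | h
                · exact rowsRange_spec E RS 1500 202500 rows_135 v (by omega) (by omega)
                · exact rowsRange_spec E RS 1500 204000 rows_136 v (by omega) (by omega)
            · rcases Nat.lt_or_ge v 208500 with h | h
              · rcases Nat.lt_or_ge v 207000 with h | h
                · exact rowsRange_spec E RS 1500 205500 rows_137 v (by omega) (by omega)
                · exact rowsRange_spec E RS 1500 207000 rows_138 v (by omega) (by omega)
              · rcases Nat.lt_or_ge v 210000 with h | h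
                · exact rowsRange_spec E RS 1500 208500 rows_139 v (by omega) (by omega)
                · exact rowsRange_spec E RS 1500 210000 rows_140 v (by omega) (by omega)
          · rcases Nat.lt_or_ge v 217500 with h | h
            · rcases Nat.lt_or_ge v 214500 with h | h
              · rcases Nat.lt_or_ge v 213000 with h | h
                · exact rowsRange_spec E RS 1500 211500 rows_141 v (by omega) (by omega)
                · exact rowsRange_spec E RS 1500 213000 rows_142 v (by omega) (by omega)
              · rcases Nat.lt_or_ge v 216000 with h | h
                · exact rowsRange_spec E RS 1500 214500 rows_143 v (by omega) (by omega)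
                · exact rowsRange_spec E RS 1500 216000 rows_144 v (by omega) (by omega)
            · rcases Nat.lt_or_ge v 220500 with h | h
              · rcases Nat.lt_or_ge v 219000 with h | h
                · exact rowsRange_spec E RS 1500 217500 rows_145 v (by omega) (by omega)
                · exact rowsRange_spec E RS 1500 219000 rows_146 v (by omega) (by omega)
              · rcases Nat.lt_or_ge v 222000 with h | h
                · exact rowsRange_spec E RS 1500 220500 rows_147 v (by omega) (by omega)
                · exact rowsRange_spec E RS 1500 222000 rows_148 v (by omega) (by omega)
      · rcases Nat.lt_or_ge v 246000 with h | h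
        · rcases Nat.lt_or_ge v 234000 with h | h
          · rcases Nat.lt_or_ge v 228000 with h | h
            · rcases Nat.lt_or_ge v 225000 with h | h
              · exact rowsRange_spec E RS 1500 223500 rows_149 v (by omega) (by omega)
              · rcases Nat.lt_or_ge v 226500 with h | h
                · exact rowsRange_spec E RS 1500 225000 rows_150 v (by omega) (by omega)
                · exact rowsRange_spec E RS 1500 226500 rows_151 v (by omega) (by omega)
            · rcases Nat.lt_or_ge v 231000 with h | h
              · rcases Nat.lt_or_ge v 229500 with h | h
                · exact rowsRange_spec E RS 1500 228000 rows_152 v (by omega) (by omega)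
                · exact rowsRange_spec E RS 1500 229500 rows_153 v (by omega) (by omega)
              · rcases Nat.lt_or_ge v 232500 with h | h
                · exact rowsRange_spec E RS 1500 231000 rows_154 v (by omega) (by omega)
                · exact rowsRange_spec E RS 1500 232500 rows_155 v (by omega) (by omega)
          · rcases Nat.lt_or_ge v 240000 with h | h
            · rcases Nat.lt_or_ge v 237000 with h | h
              · rcases Nat.lt_or_ge v 235500 with h | h
                · exact rowsRange_spec E RS 1500 234000 rows_156 v (by omega) (by omega)
                · exact rowsRange_spec E RS 1500 235500 rows_157 v (by omega) (by omega)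
              · rcases Nat.lt_or_ge v 238500 with h | h
                · exact rowsRange_spec E RS 1500 237000 rows_158 v (by omega) (by omega)
                · exact rowsRange_spec E RS 1500 238500 rows_159 v (by omega) (by omega)
            · rcases Nat.lt_or_ge v 243000 with h | h
              · rcases Nat.lt_or_ge v 241500 with h | h
                · exact rowsRange_spec E RS 1500 240000 rows_160 v (by omega) (by omega)
                · exact rowsRange_spec E RS 1500 241500 rows_161 v (by omega) (by omega)
              · rcases Nat.lt_or_ge v 244500 with h | h
                · exact rowsRange_spec E RS 1500 243000 rows_162 v (by omega) (by omega)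
                · exact rowsRange_spec E RS 1500 244500 rows_163 v (by omega) (by omega)
        · rcases Nat.lt_or_ge v 256500 with h | h
          · rcases Nat.lt_or_ge v 250500 with h | h
            · rcases Nat.lt_or_ge v 247500 with h | h
              · exact rowsRange_spec E RS 1500 246000 rows_164 v (by omega) (by omega)
              · rcases Nat.lt_or_ge v 249000 with h | h
                · exact rowsRange_spec E RS 1500 247500 rows_165 v (by omega) (by omega)
                · exact rowsRange_spec E RS 1500 249000 rows_166 v (by omega) (by omega)
            · rcases Nat.lt_or_ge v 253500 with h | h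
              · rcases Nat.lt_or_ge v 252000 with h | h
                · exact rowsRange_spec E RS 1500 250500 rows_167 v (by omega) (by omega)
                · exact rowsRange_spec E RS 1500 252000 rows_168 v (by omega) (by omega)
              · rcases Nat.lt_or_ge v 255000 with h | h
                · exact rowsRange_spec E RS 1500 253500 rows_169 v (by omega) (by omega)
                · exact rowsRange_spec E RS 1500 255000 rows_170 v (by omega) (by omega)
          · rcases Nat.lt_or_ge v 262500 with h | h
            · rcases Nat.lt_or_ge v 259500 with h | h
              · rcases Nat.lt_or_ge v 258000 with h | h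
                · exact rowsRange_spec E RS 1500 256500 rows_171 v (by omega) (by omega)
                · exact rowsRange_spec E RS 1500 258000 rows_172 v (by omega) (by omega)
              · rcases Nat.lt_or_ge v 261000 with h | h
                · exact rowsRange_spec E RS 1500 259500 rows_173 v (by omega) (by omega)
                · exact rowsRange_spec E RS 1500 261000 rows_174 v (by omega) (by omega)
            · rcases Nat.lt_or_ge v 265500 with h | h
              · rcases Nat.lt_or_ge v 264000 with h | h
                · exact rowsRange_spec E RS 1500 262500 rows_175 v (by omega) (by omega)
                · exact rowsRange_spec E RS 1500 264000 rows_176 v (by omega) (by omega)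
              · rcases Nat.lt_or_ge v 267000 with h | h
                · exact rowsRange_spec E RS 1500 265500 rows_177 v (by omega) (by omega)
                · exact rowsRange_spec E RS 1500 267000 rows_178 v (by omega) (by omega)
    · rcases Nat.lt_or_ge v 313500 with h | h
      · rcases Nat.lt_or_ge v 291000 with h | h
        · rcases Nat.lt_or_ge v 279000 with h | h
          · rcases Nat.lt_or_ge v 273000 with h | h
            · rcases Nat.lt_or_ge v 270000 with h | h
              · exact rowsRange_spec E RS 1500 268500 rows_179 v (by omega) (by omega)
              · rcases Nat.lt_or_ge v 271500 with h | h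
                · exact rowsRange_spec E RS 1500 270000 rows_180 v (by omega) (by omega)
                · exact rowsRange_spec E RS 1500 271500 rows_181 v (by omega) (by omega)
            · rcases Nat.lt_or_ge v 276000 with h | h
              · rcases Nat.lt_or_ge v 274500 with h | h
                · exact rowsRange_spec E RS 1500 273000 rows_182 v (by omega) (by omega)
                · exact rowsRange_spec E RS 1500 274500 rows_183 v (by omega) (by omega)
              · rcases Nat.lt_or_ge v 277500 with h | h
                · exact rowsRange_spec E RS 1500 276000 rows_184 v (by omega) (by omega)
                · exact rowsRange_spec E RS 1500 277500 rows_185 v (by omega) (by omega)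
          · rcases Nat.lt_or_ge v 285000 with h | h
            · rcases Nat.lt_or_ge v 282000 with h | h
              · rcases Nat.lt_or_ge v 280500 with h | h
                · exact rowsRange_spec E RS 1500 279000 rows_186 v (by omega) (by omega)
                · exact rowsRange_spec E RS 1500 280500 rows_187 v (by omega) (by omega)
              · rcases Nat.lt_or_ge v 283500 with h | h
                · exact rowsRange_spec E RS 1500 282000 rows_188 v (by omega) (by omega)
                · exact rowsRange_spec E RS 1500 283500 rows_189 v (by omega) (by omega)
            · rcases Nat.lt_or_ge v 288000 with h | h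
              · rcases Nat.lt_or_ge v 286500 with h | h
                · exact rowsRange_spec E RS 1500 285000 rows_190 v (by omega) (by omega)
                · exact rowsRange_spec E RS 1500 286500 rows_191 v (by omega) (by omega)
              · rcases Nat.lt_or_ge v 289500 with h | h
                · exact rowsRange_spec E RS 1500 288000 rows_192 v (by omega) (by omega)
                · exact rowsRange_spec E RS 1500 289500 rows_193 v (by omega) (by omega)
        · rcases Nat.lt_or_ge v 301500 with h | h
          · rcases Nat.lt_or_ge v 295500 with h | h
            · rcases Nat.lt_or_ge v 292500 with h | h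
              · exact rowsRange_spec E RS 1500 291000 rows_194 v (by omega) (by omega)
              · rcases Nat.lt_or_ge v 294000 with h | h
                · exact rowsRange_spec E RS 1500 292500 rows_195 v (by omega) (by omega)
                · exact rowsRange_spec E RS 1500 294000 rows_196 v (by omega) (by omega)
            · rcases Nat.lt_or_ge v 298500 with h | h
              · rcases Nat.lt_or_ge v 297000 with h | h
                · exact rowsRange_spec E RS 1500 295500 rows_197 v (by omega) (by omega)
                · exact rowsRange_spec E RS 1500 297000 rows_198 v (by omega) (by omega)
              · rcases Nat.lt_or_ge v 300000 with h | h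
                · exact rowsRange_spec E RS 1500 298500 rows_199 v (by omega) (by omega)
                · exact rowsRange_spec E RS 1500 300000 rows_200 v (by omega) (by omega)
          · rcases Nat.lt_or_ge v 307500 with h | h
            · rcases Nat.lt_or_ge v 304500 with h | h
              · rcases Nat.lt_or_ge v 303000 with h | h
                · exact rowsRange_spec E RS 1500 301500 rows_201 v (by omega) (by omega)
                · exact rowsRange_spec E RS 1500 303000 rows_202 v (by omega) (by omega)
              · rcases Nat.lt_or_ge v 306000 with h | h
                · exact rowsRange_spec E RS 1500 304500 rows_203 v (by omega) (by omega)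
                · exact rowsRange_spec E RS 1500 306000 rows_204 v (by omega) (by omega)
            · rcases Nat.lt_or_ge v 310500 with h | h
              · rcases Nat.lt_or_ge v 309000 with h | h
                · exact rowsRange_spec E RS 1500 307500 rows_205 v (by omega) (by omega)
                · exact rowsRange_spec E RS 1500 309000 rows_206 v (by omega) (by omega)
              · rcases Nat.lt_or_ge v 312000 with h | h
                · exact rowsRange_spec E RS 1500 310500 rows_207 v (by omega) (by omega)
                · exact rowsRange_spec E RS 1500 312000 rows_208 v (by omega) (by omega)
      · rcases Nat.lt_or_ge v 336000 with h | h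
        · rcases Nat.lt_or_ge v 324000 with h | h
          · rcases Nat.lt_or_ge v 318000 with h | h
            · rcases Nat.lt_or_ge v 315000 with h | h
              · exact rowsRange_spec E RS 1500 313500 rows_209 v (by omega) (by omega)
              · rcases Nat.lt_or_ge v 316500 with h | h
                · exact rowsRange_spec E RS 1500 315000 rows_210 v (by omega) (by omega)
                · exact rowsRange_spec E RS 1500 316500 rows_211 v (by omega) (by omega)
            · rcases Nat.lt_or_ge v 321000 with h | h
              · rcases Nat.lt_or_ge v 319500 with h | h
                · exact rowsRange_spec E RS 1500 318000 rows_212 v (by omega) (by omega)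
                · exact rowsRange_spec E RS 1500 319500 rows_213 v (by omega) (by omega)
              · rcases Nat.lt_or_ge v 322500 with h | h
                · exact rowsRange_spec E RS 1500 321000 rows_214 v (by omega) (by omega)
                · exact rowsRange_spec E RS 1500 322500 rows_215 v (by omega) (by omega)
          · rcases Nat.lt_or_ge v 330000 with h | h
            · rcases Nat.lt_or_ge v 327000 with h | h
              · rcases Nat.lt_or_ge v 325500 with h | h
                · exact rowsRange_spec E RS 1500 324000 rows_216 v (by omega) (by omega)
                · exact rowsRange_spec E RS 1500 325500 rows_217 v (by omega) (by omega)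
              · rcases Nat.lt_or_ge v 328500 with h | h
                · exact rowsRange_spec E RS 1500 327000 rows_218 v (by omega) (by omega)
                · exact rowsRange_spec E RS 1500 328500 rows_219 v (by omega) (by omega)
            · rcases Nat.lt_or_ge v 333000 with h | h
              · rcases Nat.lt_or_ge v 331500 with h | h
                · exact rowsRange_spec E RS 1500 330000 rows_220 v (by omega) (by omega)
                · exact rowsRange_spec E RS 1500 331500 rows_221 v (by omega) (by omega)
              · rcases Nat.lt_or_ge v 334500 with h | h
                · exact rowsRange_spec E RS 1500 333000 rows_222 v (by omega) (by omega)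
                · exact rowsRange_spec E RS 1500 334500 rows_223 v (by omega) (by omega)
        · rcases Nat.lt_or_ge v 346500 with h | h
          · rcases Nat.lt_or_ge v 340500 with h | h
            · rcases Nat.lt_or_ge v 337500 with h | h
              · exact rowsRange_spec E RS 1500 336000 rows_224 v (by omega) (by omega)
              · rcases Nat.lt_or_ge v 339000 with h | h
                · exact rowsRange_spec E RS 1500 337500 rows_225 v (by omega) (by omega)
                · exact rowsRange_spec E RS 1500 339000 rows_226 v (by omega) (by omega)
            · rcases Nat.lt_or_ge v 343500 with h | h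
              · rcases Nat.lt_or_ge v 342000 with h | h
                · exact rowsRange_spec E RS 1500 340500 rows_227 v (by omega) (by omega)
                · exact rowsRange_spec E RS 1500 342000 rows_228 v (by omega) (by omega)
              · rcases Nat.lt_or_ge v 345000 with h | h
                · exact rowsRange_spec E RS 1500 343500 rows_229 v (by omega) (by omega)
                · exact rowsRange_spec E RS 1500 345000 rows_230 v (by omega) (by omega)
          · rcases Nat.lt_or_ge v 352500 with h | h
            · rcases Nat.lt_or_ge v 349500 with h | h
              · rcases Nat.lt_or_ge v 348000 with h | h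
                · exact rowsRange_spec E RS 1500 346500 rows_231 v (by omega) (by omega)
                · exact rowsRange_spec E RS 1500 348000 rows_232 v (by omega) (by omega)
              · rcases Nat.lt_or_ge v 351000 with h | h
                · exact rowsRange_spec E RS 1500 349500 rows_233 v (by omega) (by omega)
                · exact rowsRange_spec E RS 1500 351000 rows_234 v (by omega) (by omega)
            · rcases Nat.lt_or_ge v 355500 with h | h
              · rcases Nat.lt_or_ge v 354000 with h | h
                · exact rowsRange_spec E RS 1500 352500 rows_235 v (by omega) (by omega)
                · exact rowsRange_spec E RS 1500 354000 rows_236 v (by omega) (by omega)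
              · rcases Nat.lt_or_ge v 357000 with h | h
                · exact rowsRange_spec E RS 1500 355500 rows_237 v (by omega) (by omega)
                · exact rowsRange_spec E RS 49 357000 rows_238 v (by omega) (by omega)

theorem cb_0 : cntBits RS 0 = 0 := rfl

theorem cb_1 : cntBits RS 20000 = 16314 := by
  have h := cntBits_step RS 0 20000
  rw [cb_0, cnt_0] at h
  exact h

theorem cb_2 : cntBits RS 40000 = 29572 := by
  have h := cntBits_step RS 20000 20000
  rw [cb_1, cnt_1] at h
  exact h

theorem cb_3 : cntBits RS 60000 = 40883 := by
  have h := cntBits_step RS 40000 20000
  rw [cb_2, cnt_2] at h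
  exact h

theorem cb_4 : cntBits RS 80000 = 51335 := by
  have h := cntBits_step RS 60000 20000
  rw [cb_3, cnt_3] at h
  exact h

theorem cb_5 : cntBits RS 100000 = 61422 := by
  have h := cntBits_step RS 80000 20000
  rw [cb_4, cnt_4] at h
  exact h

theorem cb_6 : cntBits RS 120000 = 72529 := by
  have h := cntBits_step RS 100000 20000
  rw [cb_5, cnt_5] at h
  exact h

theorem cb_7 : cntBits RS 140000 = 89916 := by
  have h := cntBits_step RS 120000 20000
  rw [cb_6, cnt_6] at h
  exact h

theorem cb_8 : cntBits RS 160000 = 109916 := by
  have h := cntBits_step RS 140000 20000
  rw [cb_7, cnt_7] at h
  exact h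

theorem cb_9 : cntBits RS 180000 = 129916 := by
  have h := cntBits_step RS 160000 20000
  rw [cb_8, cnt_8] at h
  exact h

theorem cb_10 : cntBits RS 200000 = 149906 := by
  have h := cntBits_step RS 180000 20000
  rw [cb_9, cnt_9] at h
  exact h

theorem cb_11 : cntBits RS 220000 = 169887 := by
  have h := cntBits_step RS 200000 20000
  rw [cb_10, cnt_10] at h
  exact h

theorem cb_12 : cntBits RS 240000 = 189887 := by
  have h := cntBits_step RS 220000 20000
  rw [cb_11, cnt_11] at h
  exact h

theorem cb_13 : cntBits RS 260000 = 209887 := by
  have h := cntBits_step RS 240000 20000
  rw [cb_12, cnt_12] at h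
  exact h

theorem cb_14 : cntBits RS 280000 = 229887 := by
  have h := cntBits_step RS 260000 20000
  rw [cb_13, cnt_13] at h
  exact h

theorem cb_15 : cntBits RS 300000 = 249887 := by
  have h := cntBits_step RS 280000 20000
  rw [cb_14, cnt_14] at h
  exact h

theorem cb_16 : cntBits RS 320000 = 269887 := by
  have h := cntBits_step RS 300000 20000
  rw [cb_15, cnt_15] at h
  exact h

theorem cb_17 : cntBits RS 340000 = 289887 := by
  have h := cntBits_step RS 320000 20000
  rw [cb_16, cnt_16] at h
  exact h

theorem cb_18 : cntBits RS 357049 = 306936 := by
  have h := cntBits_step RS 340000 17049
  rw [cb_17, cnt_17] at h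
  exact h

theorem set_ok : setOK 357049 306936 RS = true :=
  setOK_of_parts cb_18 set_zero set_lt

theorem relf_1 : ∀ v, v < 306936 → W_1 v = v := by
  intro v hv
  rcases Nat.lt_or_ge v 166665 with h | h
  · rcases Nat.lt_or_ge v 66666 with h | h
    · rcases Nat.lt_or_ge v 33333 with h | h
      · exact fixPtsF_spec W_1 33333 0 relc_1_0 v (by omega) (by omega)
      · exact fixPtsF_spec W_1 33333 33333 relc_1_1 v (by omega) (by omega)
    · rcases Nat.lt_or_ge v 99999 with h | h
      · exact fixPtsF_spec W_1 33333 66666 relc_1_2 v (by omega) (by omega)
      · rcases Nat.lt_or_ge v 133332 with h | h
        · exact fixPtsF_spec W_1 33333 99999 relc_1_3 v (by omega) (by omega)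
        · exact fixPtsF_spec W_1 33333 133332 relc_1_4 v (by omega) (by omega)
  · rcases Nat.lt_or_ge v 233331 with h | h
    · rcases Nat.lt_or_ge v 199998 with h | h
      · exact fixPtsF_spec W_1 33333 166665 relc_1_5 v (by omega) (by omega)
      · exact fixPtsF_spec W_1 33333 199998 relc_1_6 v (by omega) (by omega)
    · rcases Nat.lt_or_ge v 266664 with h | h
      · exact fixPtsF_spec W_1 33333 233331 relc_1_7 v (by omega) (by omega)
      · rcases Nat.lt_or_ge v 299997 with h | h
        · exact fixPtsF_spec W_1 33333 266664 relc_1_8 v (by omega) (by omega)
        · exact fixPtsF_spec W_1 6939 299997 relc_1_9 v (by omega) (by omega)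

set_option maxRecDepth 1000000 in
theorem walk_1 : ∀ v, walkT ctF (D.wlen 1) (D.wordP 1) v = W_1 v := by
  intro v
  simp only [W_1, forceL_eq]
  rfl

theorem relw_1 : ∀ v, v < 306936 → walkT ctF (D.wlen 1) (D.wordP 1) v = v := by
  intro v hv
  rw [walk_1]
  exact relf_1 v hv

theorem relf_2 : ∀ v, v < 306936 → W_2 v = v := by
  intro v hv
  rcases Nat.lt_or_ge v 150000 with h | h
  · rcases Nat.lt_or_ge v 50000 with h | h
    · exact fixPtsF_spec W_2 50000 0 relc_2_0 v (by omega) (by omega)
    · rcases Nat.lt_or_ge v 100000 with h | h
      · exact fixPtsF_spec W_2 50000 50000 relc_2_1 v (by omega) (by omega)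
      · exact fixPtsF_spec W_2 50000 100000 relc_2_2 v (by omega) (by omega)
  · rcases Nat.lt_or_ge v 250000 with h | h
    · rcases Nat.lt_or_ge v 200000 with h | h
      · exact fixPtsF_spec W_2 50000 150000 relc_2_3 v (by omega) (by omega)
      · exact fixPtsF_spec W_2 50000 200000 relc_2_4 v (by omega) (by omega)
    · rcases Nat.lt_or_ge v 300000 with h | h
      · exact fixPtsF_spec W_2 50000 250000 relc_2_5 v (by omega) (by omega)
      · exact fixPtsF_spec W_2 6936 300000 relc_2_6 v (by omega) (by omega)

set_option maxRecDepth 1000000 in
theorem walk_2 : ∀ v, walkT ctF (D.wlen 2) (D.wordP 2) v = W_2 v := by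
  intro v
  simp only [W_2, forceL_eq]
  rfl

theorem relw_2 : ∀ v, v < 306936 → walkT ctF (D.wlen 2) (D.wordP 2) v = v := by
  intro v hv
  rw [walk_2]
  exact relf_2 v hv

theorem relf_3 : ∀ v, v < 306936 → W_3 v = v := by
  intro v hv
  rcases Nat.lt_or_ge v 150000 with h | h
  · rcases Nat.lt_or_ge v 50000 with h | h
    · exact fixPtsF_spec W_3 50000 0 relc_3_0 v (by omega) (by omega)
    · rcases Nat.lt_or_ge v 100000 with h | h
      · exact fixPtsF_spec W_3 50000 50000 relc_3_1 v (by omega) (by omega)
      · exact fixPtsF_spec W_3 50000 100000 relc_3_2 v (by omega) (by omega)
  · rcases Nat.lt_or_ge v 250000 with h | h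
    · rcases Nat.lt_or_ge v 200000 with h | h
      · exact fixPtsF_spec W_3 50000 150000 relc_3_3 v (by omega) (by omega)
      · exact fixPtsF_spec W_3 50000 200000 relc_3_4 v (by omega) (by omega)
    · rcases Nat.lt_or_ge v 300000 with h | h
      · exact fixPtsF_spec W_3 50000 250000 relc_3_5 v (by omega) (by omega)
      · exact fixPtsF_spec W_3 6936 300000 relc_3_6 v (by omega) (by omega)

set_option maxRecDepth 1000000 in
theorem walk_3 : ∀ v, walkT ctF (D.wlen 3) (D.wordP 3) v = W_3 v := by
  intro v
  simp only [W_3, forceL_eq]
  rfl

theorem relw_3 : ∀ v, v < 306936 → walkT ctF (D.wlen 3) (D.wordP 3) v = v := by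
  intro v hv
  rw [walk_3]
  exact relf_3 v hv

theorem relf_4 : ∀ v, v < 306936 → W_4 v = v := by
  intro v hv
  rcases Nat.lt_or_ge v 150000 with h | h
  · rcases Nat.lt_or_ge v 50000 with h | h
    · exact fixPtsF_spec W_4 50000 0 relc_4_0 v (by omega) (by omega)
    · rcases Nat.lt_or_ge v 100000 with h | h
      · exact fixPtsF_spec W_4 50000 50000 relc_4_1 v (by omega) (by omega)
      · exact fixPtsF_spec W_4 50000 100000 relc_4_2 v (by omega) (by omega)
  · rcases Nat.lt_or_ge v 250000 with h | h
    · rcases Nat.lt_or_ge v 200000 with h | h
      · exact fixPtsF_spec W_4 50000 150000 relc_4_3 v (by omega) (by omega)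
      · exact fixPtsF_spec W_4 50000 200000 relc_4_4 v (by omega) (by omega)
    · rcases Nat.lt_or_ge v 300000 with h | h
      · exact fixPtsF_spec W_4 50000 250000 relc_4_5 v (by omega) (by omega)
      · exact fixPtsF_spec W_4 6936 300000 relc_4_6 v (by omega) (by omega)

set_option maxRecDepth 1000000 in
theorem walk_4 : ∀ v, walkT ctF (D.wlen 4) (D.wordP 4) v = W_4 v := by
  intro v
  simp only [W_4, forceL_eq]
  rfl

theorem relw_4 : ∀ v, v < 306936 → walkT ctF (D.wlen 4) (D.wordP 4) v = v := by
  intro v hv
  rw [walk_4]
  exact relf_4 v hv

theorem relf_5 : ∀ v, v < 306936 → W_5 v = v := by
  intro v hv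
  rcases Nat.lt_or_ge v 150000 with h | h
  · rcases Nat.lt_or_ge v 50000 with h | h
    · exact fixPtsF_spec W_5 50000 0 relc_5_0 v (by omega) (by omega)
    · rcases Nat.lt_or_ge v 100000 with h | h
      · exact fixPtsF_spec W_5 50000 50000 relc_5_1 v (by omega) (by omega)
      · exact fixPtsF_spec W_5 50000 100000 relc_5_2 v (by omega) (by omega)
  · rcases Nat.lt_or_ge v 250000 with h | h
    · rcases Nat.lt_or_ge v 200000 with h | h
      · exact fixPtsF_spec W_5 50000 150000 relc_5_3 v (by omega) (by omega)
      · exact fixPtsF_spec W_5 50000 200000 relc_5_4 v (by omega) (by omega)
    · rcases Nat.lt_or_ge v 300000 with h | h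
      · exact fixPtsF_spec W_5 50000 250000 relc_5_5 v (by omega) (by omega)
      · exact fixPtsF_spec W_5 6936 300000 relc_5_6 v (by omega) (by omega)

set_option maxRecDepth 1000000 in
theorem walk_5 : ∀ v, walkT ctF (D.wlen 5) (D.wordP 5) v = W_5 v := by
  intro v
  simp only [W_5, forceL_eq]
  rfl

theorem relw_5 : ∀ v, v < 306936 → walkT ctF (D.wlen 5) (D.wordP 5) v = v := by
  intro v hv
  rw [walk_5]
  exact relf_5 v hv

theorem relf_6 : ∀ v, v < 306936 → W_6 v = v := by
  intro v hv
  rcases Nat.lt_or_ge v 150000 with h | h
  · rcases Nat.lt_or_ge v 50000 with h | h
    · exact fixPtsF_spec W_6 50000 0 relc_6_0 v (by omega) (by omega)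
    · rcases Nat.lt_or_ge v 100000 with h | h
      · exact fixPtsF_spec W_6 50000 50000 relc_6_1 v (by omega) (by omega)
      · exact fixPtsF_spec W_6 50000 100000 relc_6_2 v (by omega) (by omega)
  · rcases Nat.lt_or_ge v 250000 with h | h
    · rcases Nat.lt_or_ge v 200000 with h | h
      · exact fixPtsF_spec W_6 50000 150000 relc_6_3 v (by omega) (by omega)
      · exact fixPtsF_spec W_6 50000 200000 relc_6_4 v (by omega) (by omega)
    · rcases Nat.lt_or_ge v 300000 with h | h
      · exact fixPtsF_spec W_6 50000 250000 relc_6_5 v (by omega) (by omega)
      · exact fixPtsF_spec W_6 6936 300000 relc_6_6 v (by omega) (by omega)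

set_option maxRecDepth 1000000 in
theorem walk_6 : ∀ v, walkT ctF (D.wlen 6) (D.wordP 6) v = W_6 v := by
  intro v
  simp only [W_6, forceL_eq]
  rfl

theorem relw_6 : ∀ v, v < 306936 → walkT ctF (D.wlen 6) (D.wordP 6) v = v := by
  intro v hv
  rw [walk_6]
  exact relf_6 v hv

theorem relf_7 : ∀ v, v < 306936 → W_7 v = v := by
  intro v hv
  rcases Nat.lt_or_ge v 150000 with h | h
  · rcases Nat.lt_or_ge v 50000 with h | h
    · exact fixPtsF_spec W_7 50000 0 relc_7_0 v (by omega) (by omega)
    · rcases Nat.lt_or_ge v 100000 with h | h
      · exact fixPtsF_spec W_7 50000 50000 relc_7_1 v (by omega) (by omega)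
      · exact fixPtsF_spec W_7 50000 100000 relc_7_2 v (by omega) (by omega)
  · rcases Nat.lt_or_ge v 250000 with h | h
    · rcases Nat.lt_or_ge v 200000 with h | h
      · exact fixPtsF_spec W_7 50000 150000 relc_7_3 v (by omega) (by omega)
      · exact fixPtsF_spec W_7 50000 200000 relc_7_4 v (by omega) (by omega)
    · rcases Nat.lt_or_ge v 300000 with h | h
      · exact fixPtsF_spec W_7 50000 250000 relc_7_5 v (by omega) (by omega)
      · exact fixPtsF_spec W_7 6936 300000 relc_7_6 v (by omega) (by omega)

set_option maxRecDepth 1000000 in
theorem walk_7 : ∀ v, walkT ctF (D.wlen 7) (D.wordP 7) v = W_7 v := by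
  intro v
  simp only [W_7, forceL_eq]
  rfl

theorem relw_7 : ∀ v, v < 306936 → walkT ctF (D.wlen 7) (D.wordP 7) v = v := by
  intro v hv
  rw [walk_7]
  exact relf_7 v hv

theorem relf_8 : ∀ v, v < 306936 → W_8 v = v := by
  intro v hv
  rcases Nat.lt_or_ge v 150000 with h | h
  · rcases Nat.lt_or_ge v 50000 with h | h
    · exact fixPtsF_spec W_8 50000 0 relc_8_0 v (by omega) (by omega)
    · rcases Nat.lt_or_ge v 100000 with h | h
      · exact fixPtsF_spec W_8 50000 50000 relc_8_1 v (by omega) (by omega)
      · exact fixPtsF_spec W_8 50000 100000 relc_8_2 v (by omega) (by omega)
  · rcases Nat.lt_or_ge v 250000 with h | h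
    · rcases Nat.lt_or_ge v 200000 with h | h
      · exact fixPtsF_spec W_8 50000 150000 relc_8_3 v (by omega) (by omega)
      · exact fixPtsF_spec W_8 50000 200000 relc_8_4 v (by omega) (by omega)
    · rcases Nat.lt_or_ge v 300000 with h | h
      · exact fixPtsF_spec W_8 50000 250000 relc_8_5 v (by omega) (by omega)
      · exact fixPtsF_spec W_8 6936 300000 relc_8_6 v (by omega) (by omega)

set_option maxRecDepth 1000000 in
theorem walk_8 : ∀ v, walkT ctF (D.wlen 8) (D.wordP 8) v = W_8 v := by
  intro v
  simp only [W_8, forceL_eq]
  rfl

theorem relw_8 : ∀ v, v < 306936 → walkT ctF (D.wlen 8) (D.wordP 8) v = v := by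
  intro v hv
  rw [walk_8]
  exact relf_8 v hv

theorem relf_9 : ∀ v, v < 306936 → W_9 v = v := by
  intro v hv
  rcases Nat.lt_or_ge v 150000 with h | h
  · rcases Nat.lt_or_ge v 50000 with h | h
    · exact fixPtsF_spec W_9 50000 0 relc_9_0 v (by omega) (by omega)
    · rcases Nat.lt_or_ge v 100000 with h | h
      · exact fixPtsF_spec W_9 50000 50000 relc_9_1 v (by omega) (by omega)
      · exact fixPtsF_spec W_9 50000 100000 relc_9_2 v (by omega) (by omega)
  · rcases Nat.lt_or_ge v 250000 with h | h
    · rcases Nat.lt_or_ge v 200000 with h | h
      · exact fixPtsF_spec W_9 50000 150000 relc_9_3 v (by omega) (by omega)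
      · exact fixPtsF_spec W_9 50000 200000 relc_9_4 v (by omega) (by omega)
    · rcases Nat.lt_or_ge v 300000 with h | h
      · exact fixPtsF_spec W_9 50000 250000 relc_9_5 v (by omega) (by omega)
      · exact fixPtsF_spec W_9 6936 300000 relc_9_6 v (by omega) (by omega)

set_option maxRecDepth 1000000 in
theorem walk_9 : ∀ v, walkT ctF (D.wlen 9) (D.wordP 9) v = W_9 v := by
  intro v
  simp only [W_9, forceL_eq]
  rfl

theorem relw_9 : ∀ v, v < 306936 → walkT ctF (D.wlen 9) (D.wordP 9) v = v := by
  intro v hv
  rw [walk_9]
  exact relf_9 v hv

theorem relf_10 : ∀ v, v < 306936 → W_10 v = v := by
  intro v hv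
  rcases Nat.lt_or_ge v 150000 with h | h
  · rcases Nat.lt_or_ge v 50000 with h | h
    · exact fixPtsF_spec W_10 50000 0 relc_10_0 v (by omega) (by omega)
    · rcases Nat.lt_or_ge v 100000 with h | h
      · exact fixPtsF_spec W_10 50000 50000 relc_10_1 v (by omega) (by omega)
      · exact fixPtsF_spec W_10 50000 100000 relc_10_2 v (by omega) (by omega)
  · rcases Nat.lt_or_ge v 250000 with h | h
    · rcases Nat.lt_or_ge v 200000 with h | h
      · exact fixPtsF_spec W_10 50000 150000 relc_10_3 v (by omega) (by omega)
      · exact fixPtsF_spec W_10 50000 200000 relc_10_4 v (by omega) (by omega)
    · rcases Nat.lt_or_ge v 300000 with h | h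
      · exact fixPtsF_spec W_10 50000 250000 relc_10_5 v (by omega) (by omega)
      · exact fixPtsF_spec W_10 6936 300000 relc_10_6 v (by omega) (by omega)

set_option maxRecDepth 1000000 in
theorem walk_10 : ∀ v, walkT ctF (D.wlen 10) (D.wordP 10) v = W_10 v := by
  intro v
  simp only [W_10, forceL_eq]
  rfl

theorem relw_10 : ∀ v, v < 306936 → walkT ctF (D.wlen 10) (D.wordP 10) v = v := by
  intro v hv
  rw [walk_10]
  exact relf_10 v hv

theorem relf_11 : ∀ v, v < 306936 → W_11 v = v := by
  intro v hv
  rcases Nat.lt_or_ge v 150000 with h | h
  · rcases Nat.lt_or_ge v 50000 with h | h
    · exact fixPtsF_spec W_11 50000 0 relc_11_0 v (by omega) (by omega)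
    · rcases Nat.lt_or_ge v 100000 with h | h
      · exact fixPtsF_spec W_11 50000 50000 relc_11_1 v (by omega) (by omega)
      · exact fixPtsF_spec W_11 50000 100000 relc_11_2 v (by omega) (by omega)
  · rcases Nat.lt_or_ge v 250000 with h | h
    · rcases Nat.lt_or_ge v 200000 with h | h
      · exact fixPtsF_spec W_11 50000 150000 relc_11_3 v (by omega) (by omega)
      · exact fixPtsF_spec W_11 50000 200000 relc_11_4 v (by omega) (by omega)
    · rcases Nat.lt_or_ge v 300000 with h | h
      · exact fixPtsF_spec W_11 50000 250000 relc_11_5 v (by omega) (by omega)
      · exact fixPtsF_spec W_11 6936 300000 relc_11_6 v (by omega) (by omega)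

set_option maxRecDepth 1000000 in
theorem walk_11 : ∀ v, walkT ctF (D.wlen 11) (D.wordP 11) v = W_11 v := by
  intro v
  simp only [W_11, forceL_eq]
  rfl

theorem relw_11 : ∀ v, v < 306936 → walkT ctF (D.wlen 11) (D.wordP 11) v = v := by
  intro v hv
  rw [walk_11]
  exact relf_11 v hv

theorem relf_14 : ∀ v, v < 306936 → W_14 v = v := by
  intro v hv
  rcases Nat.lt_or_ge v 166665 with h | h
  · rcases Nat.lt_or_ge v 66666 with h | h
    · rcases Nat.lt_or_ge v 33333 with h | h
      · exact fixPtsF_spec W_14 33333 0 relc_14_0 v (by omega) (by omega)
      · exact fixPtsF_spec W_14 33333 33333 relc_14_1 v (by omega) (by omega)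
    · rcases Nat.lt_or_ge v 99999 with h | h
      · exact fixPtsF_spec W_14 33333 66666 relc_14_2 v (by omega) (by omega)
      · rcases Nat.lt_or_ge v 133332 with h | h
        · exact fixPtsF_spec W_14 33333 99999 relc_14_3 v (by omega) (by omega)
        · exact fixPtsF_spec W_14 33333 133332 relc_14_4 v (by omega) (by omega)
  · rcases Nat.lt_or_ge v 233331 with h | h
    · rcases Nat.lt_or_ge v 199998 with h | h
      · exact fixPtsF_spec W_14 33333 166665 relc_14_5 v (by omega) (by omega)
      · exact fixPtsF_spec W_14 33333 199998 relc_14_6 v (by omega) (by omega)
    · rcases Nat.lt_or_ge v 266664 with h | h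
      · exact fixPtsF_spec W_14 33333 233331 relc_14_7 v (by omega) (by omega)
      · rcases Nat.lt_or_ge v 299997 with h | h
        · exact fixPtsF_spec W_14 33333 266664 relc_14_8 v (by omega) (by omega)
        · exact fixPtsF_spec W_14 6939 299997 relc_14_9 v (by omega) (by omega)

set_option maxRecDepth 1000000 in
theorem walk_14 : ∀ v, walkT ctF (D.wlen 14) (D.wordP 14) v = W_14 v := by
  intro v
  simp only [W_14, forceL_eq]
  rfl

theorem relw_14 : ∀ v, v < 306936 → walkT ctF (D.wlen 14) (D.wordP 14) v = v := by
  intro v hv
  rw [walk_14]
  exact relf_14 v hv

theorem relf_15 : ∀ v, v < 306936 → W_15 v = v := by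
  intro v hv
  rcases Nat.lt_or_ge v 150000 with h | h
  · rcases Nat.lt_or_ge v 50000 with h | h
    · exact fixPtsF_spec W_15 50000 0 relc_15_0 v (by omega) (by omega)
    · rcases Nat.lt_or_ge v 100000 with h | h
      · exact fixPtsF_spec W_15 50000 50000 relc_15_1 v (by omega) (by omega)
      · exact fixPtsF_spec W_15 50000 100000 relc_15_2 v (by omega) (by omega)
  · rcases Nat.lt_or_ge v 250000 with h | h
    · rcases Nat.lt_or_ge v 200000 with h | h
      · exact fixPtsF_spec W_15 50000 150000 relc_15_3 v (by omega) (by omega)
      · exact fixPtsF_spec W_15 50000 200000 relc_15_4 v (by omega) (by omega)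
    · rcases Nat.lt_or_ge v 300000 with h | h
      · exact fixPtsF_spec W_15 50000 250000 relc_15_5 v (by omega) (by omega)
      · exact fixPtsF_spec W_15 6936 300000 relc_15_6 v (by omega) (by omega)

set_option maxRecDepth 1000000 in
theorem walk_15 : ∀ v, walkT ctF (D.wlen 15) (D.wordP 15) v = W_15 v := by
  intro v
  simp only [W_15, forceL_eq]
  rfl

theorem relw_15 : ∀ v, v < 306936 → walkT ctF (D.wlen 15) (D.wordP 15) v = v := by
  intro v hv
  rw [walk_15]
  exact relf_15 v hv

theorem relf_16 : ∀ v, v < 306936 → W_16 v = v := by
  intro v hv
  rcases Nat.lt_or_ge v 150000 with h | h
  · rcases Nat.lt_or_ge v 50000 with h | h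
    · exact fixPtsF_spec W_16 50000 0 relc_16_0 v (by omega) (by omega)
    · rcases Nat.lt_or_ge v 100000 with h | h
      · exact fixPtsF_spec W_16 50000 50000 relc_16_1 v (by omega) (by omega)
      · exact fixPtsF_spec W_16 50000 100000 relc_16_2 v (by omega) (by omega)
  · rcases Nat.lt_or_ge v 250000 with h | h
    · rcases Nat.lt_or_ge v 200000 with h | h
      · exact fixPtsF_spec W_16 50000 150000 relc_16_3 v (by omega) (by omega)
      · exact fixPtsF_spec W_16 50000 200000 relc_16_4 v (by omega) (by omega)
    · rcases Nat.lt_or_ge v 300000 with h | h
      · exact fixPtsF_spec W_16 50000 250000 relc_16_5 v (by omega) (by omega)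
      · exact fixPtsF_spec W_16 6936 300000 relc_16_6 v (by omega) (by omega)

set_option maxRecDepth 1000000 in
theorem walk_16 : ∀ v, walkT ctF (D.wlen 16) (D.wordP 16) v = W_16 v := by
  intro v
  simp only [W_16, forceL_eq]
  rfl

theorem relw_16 : ∀ v, v < 306936 → walkT ctF (D.wlen 16) (D.wordP 16) v = v := by
  intro v hv
  rw [walk_16]
  exact relf_16 v hv

theorem relf_17 : ∀ v, v < 306936 → W_17 v = v := by
  intro v hv
  rcases Nat.lt_or_ge v 150000 with h | h
  · rcases Nat.lt_or_ge v 50000 with h | h
    · exact fixPtsF_spec W_17 50000 0 relc_17_0 v (by omega) (by omega)
    · rcases Nat.lt_or_ge v 100000 with h | h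
      · exact fixPtsF_spec W_17 50000 50000 relc_17_1 v (by omega) (by omega)
      · exact fixPtsF_spec W_17 50000 100000 relc_17_2 v (by omega) (by omega)
  · rcases Nat.lt_or_ge v 250000 with h | h
    · rcases Nat.lt_or_ge v 200000 with h | h
      · exact fixPtsF_spec W_17 50000 150000 relc_17_3 v (by omega) (by omega)
      · exact fixPtsF_spec W_17 50000 200000 relc_17_4 v (by omega) (by omega)
    · rcases Nat.lt_or_ge v 300000 with h | h
      · exact fixPtsF_spec W_17 50000 250000 relc_17_5 v (by omega) (by omega)
      · exact fixPtsF_spec W_17 6936 300000 relc_17_6 v (by omega) (by omega)

set_option maxRecDepth 1000000 in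
theorem walk_17 : ∀ v, walkT ctF (D.wlen 17) (D.wordP 17) v = W_17 v := by
  intro v
  simp only [W_17, forceL_eq]
  rfl

theorem relw_17 : ∀ v, v < 306936 → walkT ctF (D.wlen 17) (D.wordP 17) v = v := by
  intro v hv
  rw [walk_17]
  exact relf_17 v hv

theorem relf_18 : ∀ v, v < 306936 → W_18 v = v := by
  intro v hv
  rcases Nat.lt_or_ge v 150000 with h | h
  · rcases Nat.lt_or_ge v 50000 with h | h
    · exact fixPtsF_spec W_18 50000 0 relc_18_0 v (by omega) (by omega)
    · rcases Nat.lt_or_ge v 100000 with h | h
      · exact fixPtsF_spec W_18 50000 50000 relc_18_1 v (by omega) (by omega)
      · exact fixPtsF_spec W_18 50000 100000 relc_18_2 v (by omega) (by omega)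
  · rcases Nat.lt_or_ge v 250000 with h | h
    · rcases Nat.lt_or_ge v 200000 with h | h
      · exact fixPtsF_spec W_18 50000 150000 relc_18_3 v (by omega) (by omega)
      · exact fixPtsF_spec W_18 50000 200000 relc_18_4 v (by omega) (by omega)
    · rcases Nat.lt_or_ge v 300000 with h | h
      · exact fixPtsF_spec W_18 50000 250000 relc_18_5 v (by omega) (by omega)
      · exact fixPtsF_spec W_18 6936 300000 relc_18_6 v (by omega) (by omega)

set_option maxRecDepth 1000000 in
theorem walk_18 : ∀ v, walkT ctF (D.wlen 18) (D.wordP 18) v = W_18 v := by
  intro v
  simp only [W_18, forceL_eq]
  rfl

theorem relw_18 : ∀ v, v < 306936 → walkT ctF (D.wlen 18) (D.wordP 18) v = v := by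
  intro v hv
  rw [walk_18]
  exact relf_18 v hv

theorem relf_19 : ∀ v, v < 306936 → W_19 v = v := by
  intro v hv
  rcases Nat.lt_or_ge v 150000 with h | h
  · rcases Nat.lt_or_ge v 50000 with h | h
    · exact fixPtsF_spec W_19 50000 0 relc_19_0 v (by omega) (by omega)
    · rcases Nat.lt_or_ge v 100000 with h | h
      · exact fixPtsF_spec W_19 50000 50000 relc_19_1 v (by omega) (by omega)
      · exact fixPtsF_spec W_19 50000 100000 relc_19_2 v (by omega) (by omega)
  · rcases Nat.lt_or_ge v 250000 with h | h
    · rcases Nat.lt_or_ge v 200000 with h | h
      · exact fixPtsF_spec W_19 50000 150000 relc_19_3 v (by omega) (by omega)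
      · exact fixPtsF_spec W_19 50000 200000 relc_19_4 v (by omega) (by omega)
    · rcases Nat.lt_or_ge v 300000 with h | h
      · exact fixPtsF_spec W_19 50000 250000 relc_19_5 v (by omega) (by omega)
      · exact fixPtsF_spec W_19 6936 300000 relc_19_6 v (by omega) (by omega)

set_option maxRecDepth 1000000 in
theorem walk_19 : ∀ v, walkT ctF (D.wlen 19) (D.wordP 19) v = W_19 v := by
  intro v
  simp only [W_19, forceL_eq]
  rfl

theorem relw_19 : ∀ v, v < 306936 → walkT ctF (D.wlen 19) (D.wordP 19) v = v := by
  intro v hv
  rw [walk_19]
  exact relf_19 v hv

theorem relf_20 : ∀ v, v < 306936 → W_20 v = v := by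
  intro v hv
  rcases Nat.lt_or_ge v 150000 with h | h
  · rcases Nat.lt_or_ge v 50000 with h | h
    · exact fixPtsF_spec W_20 50000 0 relc_20_0 v (by omega) (by omega)
    · rcases Nat.lt_or_ge v 100000 with h | h
      · exact fixPtsF_spec W_20 50000 50000 relc_20_1 v (by omega) (by omega)
      · exact fixPtsF_spec W_20 50000 100000 relc_20_2 v (by omega) (by omega)
  · rcases Nat.lt_or_ge v 250000 with h | h
    · rcases Nat.lt_or_ge v 200000 with h | h
      · exact fixPtsF_spec W_20 50000 150000 relc_20_3 v (by omega) (by omega)
      · exact fixPtsF_spec W_20 50000 200000 relc_20_4 v (by omega) (by omega)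
    · rcases Nat.lt_or_ge v 300000 with h | h
      · exact fixPtsF_spec W_20 50000 250000 relc_20_5 v (by omega) (by omega)
      · exact fixPtsF_spec W_20 6936 300000 relc_20_6 v (by omega) (by omega)

set_option maxRecDepth 1000000 in
theorem walk_20 : ∀ v, walkT ctF (D.wlen 20) (D.wordP 20) v = W_20 v := by
  intro v
  simp only [W_20, forceL_eq]
  rfl

theorem relw_20 : ∀ v, v < 306936 → walkT ctF (D.wlen 20) (D.wordP 20) v = v := by
  intro v hv
  rw [walk_20]
  exact relf_20 v hv

theorem relf_21 : ∀ v, v < 306936 → W_21 v = v := by
  intro v hv
  rcases Nat.lt_or_ge v 150000 with h | h
  · rcases Nat.lt_or_ge v 50000 with h | h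
    · exact fixPtsF_spec W_21 50000 0 relc_21_0 v (by omega) (by omega)
    · rcases Nat.lt_or_ge v 100000 with h | h
      · exact fixPtsF_spec W_21 50000 50000 relc_21_1 v (by omega) (by omega)
      · exact fixPtsF_spec W_21 50000 100000 relc_21_2 v (by omega) (by omega)
  · rcases Nat.lt_or_ge v 250000 with h | h
    · rcases Nat.lt_or_ge v 200000 with h | h
      · exact fixPtsF_spec W_21 50000 150000 relc_21_3 v (by omega) (by omega)
      · exact fixPtsF_spec W_21 50000 200000 relc_21_4 v (by omega) (by omega)
    · rcases Nat.lt_or_ge v 300000 with h | h
      · exact fixPtsF_spec W_21 50000 250000 relc_21_5 v (by omega) (by omega)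
      · exact fixPtsF_spec W_21 6936 300000 relc_21_6 v (by omega) (by omega)

set_option maxRecDepth 1000000 in
theorem walk_21 : ∀ v, walkT ctF (D.wlen 21) (D.wordP 21) v = W_21 v := by
  intro v
  simp only [W_21, forceL_eq]
  rfl

theorem relw_21 : ∀ v, v < 306936 → walkT ctF (D.wlen 21) (D.wordP 21) v = v := by
  intro v hv
  rw [walk_21]
  exact relf_21 v hv

theorem relf_22 : ∀ v, v < 306936 → W_22 v = v := by
  intro v hv
  rcases Nat.lt_or_ge v 150000 with h | h
  · rcases Nat.lt_or_ge v 50000 with h | h
    · exact fixPtsF_spec W_22 50000 0 relc_22_0 v (by omega) (by omega)
    · rcases Nat.lt_or_ge v 100000 with h | h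
      · exact fixPtsF_spec W_22 50000 50000 relc_22_1 v (by omega) (by omega)
      · exact fixPtsF_spec W_22 50000 100000 relc_22_2 v (by omega) (by omega)
  · rcases Nat.lt_or_ge v 250000 with h | h
    · rcases Nat.lt_or_ge v 200000 with h | h
      · exact fixPtsF_spec W_22 50000 150000 relc_22_3 v (by omega) (by omega)
      · exact fixPtsF_spec W_22 50000 200000 relc_22_4 v (by omega) (by omega)
    · rcases Nat.lt_or_ge v 300000 with h | h
      · exact fixPtsF_spec W_22 50000 250000 relc_22_5 v (by omega) (by omega)
      · exact fixPtsF_spec W_22 6936 300000 relc_22_6 v (by omega) (by omega)

set_option maxRecDepth 1000000 in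
theorem walk_22 : ∀ v, walkT ctF (D.wlen 22) (D.wordP 22) v = W_22 v := by
  intro v
  simp only [W_22, forceL_eq]
  rfl

theorem relw_22 : ∀ v, v < 306936 → walkT ctF (D.wlen 22) (D.wordP 22) v = v := by
  intro v hv
  rw [walk_22]
  exact relf_22 v hv

theorem relf_23 : ∀ v, v < 306936 → W_23 v = v := by
  intro v hv
  rcases Nat.lt_or_ge v 150000 with h | h
  · rcases Nat.lt_or_ge v 50000 with h | h
    · exact fixPtsF_spec W_23 50000 0 relc_23_0 v (by omega) (by omega)
    · rcases Nat.lt_or_ge v 100000 with h | h
      · exact fixPtsF_spec W_23 50000 50000 relc_23_1 v (by omega) (by omega)
      · exact fixPtsF_spec W_23 50000 100000 relc_23_2 v (by omega) (by omega)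
  · rcases Nat.lt_or_ge v 250000 with h | h
    · rcases Nat.lt_or_ge v 200000 with h | h
      · exact fixPtsF_spec W_23 50000 150000 relc_23_3 v (by omega) (by omega)
      · exact fixPtsF_spec W_23 50000 200000 relc_23_4 v (by omega) (by omega)
    · rcases Nat.lt_or_ge v 300000 with h | h
      · exact fixPtsF_spec W_23 50000 250000 relc_23_5 v (by omega) (by omega)
      · exact fixPtsF_spec W_23 6936 300000 relc_23_6 v (by omega) (by omega)

set_option maxRecDepth 1000000 in
theorem walk_23 : ∀ v, walkT ctF (D.wlen 23) (D.wordP 23) v = W_23 v := by
  intro v
  simp only [W_23, forceL_eq]
  rfl

theorem relw_23 : ∀ v, v < 306936 → walkT ctF (D.wlen 23) (D.wordP 23) v = v := by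
  intro v hv
  rw [walk_23]
  exact relf_23 v hv

theorem relf_27 : ∀ v, v < 306936 → W_27 v = v := by
  intro v hv
  rcases Nat.lt_or_ge v 166665 with h | h
  · rcases Nat.lt_or_ge v 66666 with h | h
    · rcases Nat.lt_or_ge v 33333 with h | h
      · exact fixPtsF_spec W_27 33333 0 relc_27_0 v (by omega) (by omega)
      · exact fixPtsF_spec W_27 33333 33333 relc_27_1 v (by omega) (by omega)
    · rcases Nat.lt_or_ge v 99999 with h | h
      · exact fixPtsF_spec W_27 33333 66666 relc_27_2 v (by omega) (by omega)
      · rcases Nat.lt_or_ge v 133332 with h | h
        · exact fixPtsF_spec W_27 33333 99999 relc_27_3 v (by omega) (by omega)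
        · exact fixPtsF_spec W_27 33333 133332 relc_27_4 v (by omega) (by omega)
  · rcases Nat.lt_or_ge v 233331 with h | h
    · rcases Nat.lt_or_ge v 199998 with h | h
      · exact fixPtsF_spec W_27 33333 166665 relc_27_5 v (by omega) (by omega)
      · exact fixPtsF_spec W_27 33333 199998 relc_27_6 v (by omega) (by omega)
    · rcases Nat.lt_or_ge v 266664 with h | h
      · exact fixPtsF_spec W_27 33333 233331 relc_27_7 v (by omega) (by omega)
      · rcases Nat.lt_or_ge v 299997 with h | h
        · exact fixPtsF_spec W_27 33333 266664 relc_27_8 v (by omega) (by omega)
        · exact fixPtsF_spec W_27 6939 299997 relc_27_9 v (by omega) (by omega)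

set_option maxRecDepth 1000000 in
theorem walk_27 : ∀ v, walkT ctF (D.wlen 27) (D.wordP 27) v = W_27 v := by
  intro v
  simp only [W_27, forceL_eq]
  rfl

theorem relw_27 : ∀ v, v < 306936 → walkT ctF (D.wlen 27) (D.wordP 27) v = v := by
  intro v hv
  rw [walk_27]
  exact relf_27 v hv

theorem relf_28 : ∀ v, v < 306936 → W_28 v = v := by
  intro v hv
  rcases Nat.lt_or_ge v 150000 with h | h
  · rcases Nat.lt_or_ge v 50000 with h | h
    · exact fixPtsF_spec W_28 50000 0 relc_28_0 v (by omega) (by omega)
    · rcases Nat.lt_or_ge v 100000 with h | h
      · exact fixPtsF_spec W_28 50000 50000 relc_28_1 v (by omega) (by omega)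
      · exact fixPtsF_spec W_28 50000 100000 relc_28_2 v (by omega) (by omega)
  · rcases Nat.lt_or_ge v 250000 with h | h
    · rcases Nat.lt_or_ge v 200000 with h | h
      · exact fixPtsF_spec W_28 50000 150000 relc_28_3 v (by omega) (by omega)
      · exact fixPtsF_spec W_28 50000 200000 relc_28_4 v (by omega) (by omega)
    · rcases Nat.lt_or_ge v 300000 with h | h
      · exact fixPtsF_spec W_28 50000 250000 relc_28_5 v (by omega) (by omega)
      · exact fixPtsF_spec W_28 6936 300000 relc_28_6 v (by omega) (by omega)

set_option maxRecDepth 1000000 in
theorem walk_28 : ∀ v, walkT ctF (D.wlen 28) (D.wordP 28) v = W_28 v := by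
  intro v
  simp only [W_28, forceL_eq]
  rfl

theorem relw_28 : ∀ v, v < 306936 → walkT ctF (D.wlen 28) (D.wordP 28) v = v := by
  intro v hv
  rw [walk_28]
  exact relf_28 v hv

theorem relf_29 : ∀ v, v < 306936 → W_29 v = v := by
  intro v hv
  rcases Nat.lt_or_ge v 150000 with h | h
  · rcases Nat.lt_or_ge v 50000 with h | h
    · exact fixPtsF_spec W_29 50000 0 relc_29_0 v (by omega) (by omega)
    · rcases Nat.lt_or_ge v 100000 with h | h
      · exact fixPtsF_spec W_29 50000 50000 relc_29_1 v (by omega) (by omega)
      · exact fixPtsF_spec W_29 50000 100000 relc_29_2 v (by omega) (by omega)
  · rcases Nat.lt_or_ge v 250000 with h | h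
    · rcases Nat.lt_or_ge v 200000 with h | h
      · exact fixPtsF_spec W_29 50000 150000 relc_29_3 v (by omega) (by omega)
      · exact fixPtsF_spec W_29 50000 200000 relc_29_4 v (by omega) (by omega)
    · rcases Nat.lt_or_ge v 300000 with h | h
      · exact fixPtsF_spec W_29 50000 250000 relc_29_5 v (by omega) (by omega)
      · exact fixPtsF_spec W_29 6936 300000 relc_29_6 v (by omega) (by omega)

set_option maxRecDepth 1000000 in
theorem walk_29 : ∀ v, walkT ctF (D.wlen 29) (D.wordP 29) v = W_29 v := by
  intro v
  simp only [W_29, forceL_eq]
  rfl

theorem relw_29 : ∀ v, v < 306936 → walkT ctF (D.wlen 29) (D.wordP 29) v = v := by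
  intro v hv
  rw [walk_29]
  exact relf_29 v hv

theorem relf_30 : ∀ v, v < 306936 → W_30 v = v := by
  intro v hv
  rcases Nat.lt_or_ge v 150000 with h | h
  · rcases Nat.lt_or_ge v 50000 with h | h
    · exact fixPtsF_spec W_30 50000 0 relc_30_0 v (by omega) (by omega)
    · rcases Nat.lt_or_ge v 100000 with h | h
      · exact fixPtsF_spec W_30 50000 50000 relc_30_1 v (by omega) (by omega)
      · exact fixPtsF_spec W_30 50000 100000 relc_30_2 v (by omega) (by omega)
  · rcases Nat.lt_or_ge v 250000 with h | h
    · rcases Nat.lt_or_ge v 200000 with h | h
      · exact fixPtsF_spec W_30 50000 150000 relc_30_3 v (by omega) (by omega)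
      · exact fixPtsF_spec W_30 50000 200000 relc_30_4 v (by omega) (by omega)
    · rcases Nat.lt_or_ge v 300000 with h | h
      · exact fixPtsF_spec W_30 50000 250000 relc_30_5 v (by omega) (by omega)
      · exact fixPtsF_spec W_30 6936 300000 relc_30_6 v (by omega) (by omega)

set_option maxRecDepth 1000000 in
theorem walk_30 : ∀ v, walkT ctF (D.wlen 30) (D.wordP 30) v = W_30 v := by
  intro v
  simp only [W_30, forceL_eq]
  rfl

theorem relw_30 : ∀ v, v < 306936 → walkT ctF (D.wlen 30) (D.wordP 30) v = v := by
  intro v hv
  rw [walk_30]
  exact relf_30 v hv

theorem relf_31 : ∀ v, v < 306936 → W_31 v = v := by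
  intro v hv
  rcases Nat.lt_or_ge v 150000 with h | h
  · rcases Nat.lt_or_ge v 50000 with h | h
    · exact fixPtsF_spec W_31 50000 0 relc_31_0 v (by omega) (by omega)
    · rcases Nat.lt_or_ge v 100000 with h | h
      · exact fixPtsF_spec W_31 50000 50000 relc_31_1 v (by omega) (by omega)
      · exact fixPtsF_spec W_31 50000 100000 relc_31_2 v (by omega) (by omega)
  · rcases Nat.lt_or_ge v 250000 with h | h
    · rcases Nat.lt_or_ge v 200000 with h | h
      · exact fixPtsF_spec W_31 50000 150000 relc_31_3 v (by omega) (by omega)
      · exact fixPtsF_spec W_31 50000 200000 relc_31_4 v (by omega) (by omega)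
    · rcases Nat.lt_or_ge v 300000 with h | h
      · exact fixPtsF_spec W_31 50000 250000 relc_31_5 v (by omega) (by omega)
      · exact fixPtsF_spec W_31 6936 300000 relc_31_6 v (by omega) (by omega)

set_option maxRecDepth 1000000 in
theorem walk_31 : ∀ v, walkT ctF (D.wlen 31) (D.wordP 31) v = W_31 v := by
  intro v
  simp only [W_31, forceL_eq]
  rfl

theorem relw_31 : ∀ v, v < 306936 → walkT ctF (D.wlen 31) (D.wordP 31) v = v := by
  intro v hv
  rw [walk_31]
  exact relf_31 v hv

theorem relf_32 : ∀ v, v < 306936 → W_32 v = v := by
  intro v hv
  rcases Nat.lt_or_ge v 150000 with h | h
  · rcases Nat.lt_or_ge v 50000 with h | h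
    · exact fixPtsF_spec W_32 50000 0 relc_32_0 v (by omega) (by omega)
    · rcases Nat.lt_or_ge v 100000 with h | h
      · exact fixPtsF_spec W_32 50000 50000 relc_32_1 v (by omega) (by omega)
      · exact fixPtsF_spec W_32 50000 100000 relc_32_2 v (by omega) (by omega)
  · rcases Nat.lt_or_ge v 250000 with h | h
    · rcases Nat.lt_or_ge v 200000 with h | h
      · exact fixPtsF_spec W_32 50000 150000 relc_32_3 v (by omega) (by omega)
      · exact fixPtsF_spec W_32 50000 200000 relc_32_4 v (by omega) (by omega)
    · rcases Nat.lt_or_ge v 300000 with h | h
      · exact fixPtsF_spec W_32 50000 250000 relc_32_5 v (by omega) (by omega)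
      · exact fixPtsF_spec W_32 6936 300000 relc_32_6 v (by omega) (by omega)

set_option maxRecDepth 1000000 in
theorem walk_32 : ∀ v, walkT ctF (D.wlen 32) (D.wordP 32) v = W_32 v := by
  intro v
  simp only [W_32, forceL_eq]
  rfl

theorem relw_32 : ∀ v, v < 306936 → walkT ctF (D.wlen 32) (D.wordP 32) v = v := by
  intro v hv
  rw [walk_32]
  exact relf_32 v hv

theorem relf_33 : ∀ v, v < 306936 → W_33 v = v := by
  intro v hv
  rcases Nat.lt_or_ge v 150000 with h | h
  · rcases Nat.lt_or_ge v 50000 with h | h
    · exact fixPtsF_spec W_33 50000 0 relc_33_0 v (by omega) (by omega)
    · rcases Nat.lt_or_ge v 100000 with h | h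
      · exact fixPtsF_spec W_33 50000 50000 relc_33_1 v (by omega) (by omega)
      · exact fixPtsF_spec W_33 50000 100000 relc_33_2 v (by omega) (by omega)
  · rcases Nat.lt_or_ge v 250000 with h | h
    · rcases Nat.lt_or_ge v 200000 with h | h
      · exact fixPtsF_spec W_33 50000 150000 relc_33_3 v (by omega) (by omega)
      · exact fixPtsF_spec W_33 50000 200000 relc_33_4 v (by omega) (by omega)
    · rcases Nat.lt_or_ge v 300000 with h | h
      · exact fixPtsF_spec W_33 50000 250000 relc_33_5 v (by omega) (by omega)
      · exact fixPtsF_spec W_33 6936 300000 relc_33_6 v (by omega) (by omega)

set_option maxRecDepth 1000000 in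
theorem walk_33 : ∀ v, walkT ctF (D.wlen 33) (D.wordP 33) v = W_33 v := by
  intro v
  simp only [W_33, forceL_eq]
  rfl

theorem relw_33 : ∀ v, v < 306936 → walkT ctF (D.wlen 33) (D.wordP 33) v = v := by
  intro v hv
  rw [walk_33]
  exact relf_33 v hv

theorem relf_34 : ∀ v, v < 306936 → W_34 v = v := by
  intro v hv
  rcases Nat.lt_or_ge v 150000 with h | h
  · rcases Nat.lt_or_ge v 50000 with h | h
    · exact fixPtsF_spec W_34 50000 0 relc_34_0 v (by omega) (by omega)
    · rcases Nat.lt_or_ge v 100000 with h | h
      · exact fixPtsF_spec W_34 50000 50000 relc_34_1 v (by omega) (by omega)
      · exact fixPtsF_spec W_34 50000 100000 relc_34_2 v (by omega) (by omega)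
  · rcases Nat.lt_or_ge v 250000 with h | h
    · rcases Nat.lt_or_ge v 200000 with h | h
      · exact fixPtsF_spec W_34 50000 150000 relc_34_3 v (by omega) (by omega)
      · exact fixPtsF_spec W_34 50000 200000 relc_34_4 v (by omega) (by omega)
    · rcases Nat.lt_or_ge v 300000 with h | h
      · exact fixPtsF_spec W_34 50000 250000 relc_34_5 v (by omega) (by omega)
      · exact fixPtsF_spec W_34 6936 300000 relc_34_6 v (by omega) (by omega)

set_option maxRecDepth 1000000 in
theorem walk_34 : ∀ v, walkT ctF (D.wlen 34) (D.wordP 34) v = W_34 v := by
  intro v
  simp only [W_34, forceL_eq]
  rfl

theorem relw_34 : ∀ v, v < 306936 → walkT ctF (D.wlen 34) (D.wordP 34) v = v := by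
  intro v hv
  rw [walk_34]
  exact relf_34 v hv

theorem relf_35 : ∀ v, v < 306936 → W_35 v = v := by
  intro v hv
  rcases Nat.lt_or_ge v 150000 with h | h
  · rcases Nat.lt_or_ge v 50000 with h | h
    · exact fixPtsF_spec W_35 50000 0 relc_35_0 v (by omega) (by omega)
    · rcases Nat.lt_or_ge v 100000 with h | h
      · exact fixPtsF_spec W_35 50000 50000 relc_35_1 v (by omega) (by omega)
      · exact fixPtsF_spec W_35 50000 100000 relc_35_2 v (by omega) (by omega)
  · rcases Nat.lt_or_ge v 250000 with h | h
    · rcases Nat.lt_or_ge v 200000 with h | h
      · exact fixPtsF_spec W_35 50000 150000 relc_35_3 v (by omega) (by omega)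
      · exact fixPtsF_spec W_35 50000 200000 relc_35_4 v (by omega) (by omega)
    · rcases Nat.lt_or_ge v 300000 with h | h
      · exact fixPtsF_spec W_35 50000 250000 relc_35_5 v (by omega) (by omega)
      · exact fixPtsF_spec W_35 6936 300000 relc_35_6 v (by omega) (by omega)

set_option maxRecDepth 1000000 in
theorem walk_35 : ∀ v, walkT ctF (D.wlen 35) (D.wordP 35) v = W_35 v := by
  intro v
  simp only [W_35, forceL_eq]
  rfl

theorem relw_35 : ∀ v, v < 306936 → walkT ctF (D.wlen 35) (D.wordP 35) v = v := by
  intro v hv
  rw [walk_35]
  exact relf_35 v hv

theorem relf_40 : ∀ v, v < 306936 → W_40 v = v := by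
  intro v hv
  rcases Nat.lt_or_ge v 166665 with h | h
  · rcases Nat.lt_or_ge v 66666 with h | h
    · rcases Nat.lt_or_ge v 33333 with h | h
      · exact fixPtsF_spec W_40 33333 0 relc_40_0 v (by omega) (by omega)
      · exact fixPtsF_spec W_40 33333 33333 relc_40_1 v (by omega) (by omega)
    · rcases Nat.lt_or_ge v 99999 with h | h
      · exact fixPtsF_spec W_40 33333 66666 relc_40_2 v (by omega) (by omega)
      · rcases Nat.lt_or_ge v 133332 with h | h
        · exact fixPtsF_spec W_40 33333 99999 relc_40_3 v (by omega) (by omega)
        · exact fixPtsF_spec W_40 33333 133332 relc_40_4 v (by omega) (by omega)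
  · rcases Nat.lt_or_ge v 233331 with h | h
    · rcases Nat.lt_or_ge v 199998 with h | h
      · exact fixPtsF_spec W_40 33333 166665 relc_40_5 v (by omega) (by omega)
      · exact fixPtsF_spec W_40 33333 199998 relc_40_6 v (by omega) (by omega)
    · rcases Nat.lt_or_ge v 266664 with h | h
      · exact fixPtsF_spec W_40 33333 233331 relc_40_7 v (by omega) (by omega)
      · rcases Nat.lt_or_ge v 299997 with h | h
        · exact fixPtsF_spec W_40 33333 266664 relc_40_8 v (by omega) (by omega)
        · exact fixPtsF_spec W_40 6939 299997 relc_40_9 v (by omega) (by omega)

set_option maxRecDepth 1000000 in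
theorem walk_40 : ∀ v, walkT ctF (D.wlen 40) (D.wordP 40) v = W_40 v := by
  intro v
  simp only [W_40, forceL_eq]
  rfl

theorem relw_40 : ∀ v, v < 306936 → walkT ctF (D.wlen 40) (D.wordP 40) v = v := by
  intro v hv
  rw [walk_40]
  exact relf_40 v hv

theorem relf_41 : ∀ v, v < 306936 → W_41 v = v := by
  intro v hv
  rcases Nat.lt_or_ge v 150000 with h | h
  · rcases Nat.lt_or_ge v 50000 with h | h
    · exact fixPtsF_spec W_41 50000 0 relc_41_0 v (by omega) (by omega)
    · rcases Nat.lt_or_ge v 100000 with h | h
      · exact fixPtsF_spec W_41 50000 50000 relc_41_1 v (by omega) (by omega)
      · exact fixPtsF_spec W_41 50000 100000 relc_41_2 v (by omega) (by omega)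
  · rcases Nat.lt_or_ge v 250000 with h | h
    · rcases Nat.lt_or_ge v 200000 with h | h
      · exact fixPtsF_spec W_41 50000 150000 relc_41_3 v (by omega) (by omega)
      · exact fixPtsF_spec W_41 50000 200000 relc_41_4 v (by omega) (by omega)
    · rcases Nat.lt_or_ge v 300000 with h | h
      · exact fixPtsF_spec W_41 50000 250000 relc_41_5 v (by omega) (by omega)
      · exact fixPtsF_spec W_41 6936 300000 relc_41_6 v (by omega) (by omega)

set_option maxRecDepth 1000000 in
theorem walk_41 : ∀ v, walkT ctF (D.wlen 41) (D.wordP 41) v = W_41 v := by
  intro v
  simp only [W_41, forceL_eq]
  rfl

theorem relw_41 : ∀ v, v < 306936 → walkT ctF (D.wlen 41) (D.wordP 41) v = v := by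
  intro v hv
  rw [walk_41]
  exact relf_41 v hv

theorem relf_42 : ∀ v, v < 306936 → W_42 v = v := by
  intro v hv
  rcases Nat.lt_or_ge v 150000 with h | h
  · rcases Nat.lt_or_ge v 50000 with h | h
    · exact fixPtsF_spec W_42 50000 0 relc_42_0 v (by omega) (by omega)
    · rcases Nat.lt_or_ge v 100000 with h | h
      · exact fixPtsF_spec W_42 50000 50000 relc_42_1 v (by omega) (by omega)
      · exact fixPtsF_spec W_42 50000 100000 relc_42_2 v (by omega) (by omega)
  · rcases Nat.lt_or_ge v 250000 with h | h
    · rcases Nat.lt_or_ge v 200000 with h | h
      · exact fixPtsF_spec W_42 50000 150000 relc_42_3 v (by omega) (by omega)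
      · exact fixPtsF_spec W_42 50000 200000 relc_42_4 v (by omega) (by omega)
    · rcases Nat.lt_or_ge v 300000 with h | h
      · exact fixPtsF_spec W_42 50000 250000 relc_42_5 v (by omega) (by omega)
      · exact fixPtsF_spec W_42 6936 300000 relc_42_6 v (by omega) (by omega)

set_option maxRecDepth 1000000 in
theorem walk_42 : ∀ v, walkT ctF (D.wlen 42) (D.wordP 42) v = W_42 v := by
  intro v
  simp only [W_42, forceL_eq]
  rfl

theorem relw_42 : ∀ v, v < 306936 → walkT ctF (D.wlen 42) (D.wordP 42) v = v := by
  intro v hv
  rw [walk_42]
  exact relf_42 v hv

theorem relf_43 : ∀ v, v < 306936 → W_43 v = v := by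
  intro v hv
  rcases Nat.lt_or_ge v 150000 with h | h
  · rcases Nat.lt_or_ge v 50000 with h | h
    · exact fixPtsF_spec W_43 50000 0 relc_43_0 v (by omega) (by omega)
    · rcases Nat.lt_or_ge v 100000 with h | h
      · exact fixPtsF_spec W_43 50000 50000 relc_43_1 v (by omega) (by omega)
      · exact fixPtsF_spec W_43 50000 100000 relc_43_2 v (by omega) (by omega)
  · rcases Nat.lt_or_ge v 250000 with h | h
    · rcases Nat.lt_or_ge v 200000 with h | h
      · exact fixPtsF_spec W_43 50000 150000 relc_43_3 v (by omega) (by omega)
      · exact fixPtsF_spec W_43 50000 200000 relc_43_4 v (by omega) (by omega)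
    · rcases Nat.lt_or_ge v 300000 with h | h
      · exact fixPtsF_spec W_43 50000 250000 relc_43_5 v (by omega) (by omega)
      · exact fixPtsF_spec W_43 6936 300000 relc_43_6 v (by omega) (by omega)

set_option maxRecDepth 1000000 in
theorem walk_43 : ∀ v, walkT ctF (D.wlen 43) (D.wordP 43) v = W_43 v := by
  intro v
  simp only [W_43, forceL_eq]
  rfl

theorem relw_43 : ∀ v, v < 306936 → walkT ctF (D.wlen 43) (D.wordP 43) v = v := by
  intro v hv
  rw [walk_43]
  exact relf_43 v hv

theorem relf_44 : ∀ v, v < 306936 → W_44 v = v := by
  intro v hv
  rcases Nat.lt_or_ge v 150000 with h | h
  · rcases Nat.lt_or_ge v 50000 with h | h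
    · exact fixPtsF_spec W_44 50000 0 relc_44_0 v (by omega) (by omega)
    · rcases Nat.lt_or_ge v 100000 with h | h
      · exact fixPtsF_spec W_44 50000 50000 relc_44_1 v (by omega) (by omega)
      · exact fixPtsF_spec W_44 50000 100000 relc_44_2 v (by omega) (by omega)
  · rcases Nat.lt_or_ge v 250000 with h | h
    · rcases Nat.lt_or_ge v 200000 with h | h
      · exact fixPtsF_spec W_44 50000 150000 relc_44_3 v (by omega) (by omega)
      · exact fixPtsF_spec W_44 50000 200000 relc_44_4 v (by omega) (by omega)
    · rcases Nat.lt_or_ge v 300000 with h | h
      · exact fixPtsF_spec W_44 50000 250000 relc_44_5 v (by omega) (by omega)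
      · exact fixPtsF_spec W_44 6936 300000 relc_44_6 v (by omega) (by omega)

set_option maxRecDepth 1000000 in
theorem walk_44 : ∀ v, walkT ctF (D.wlen 44) (D.wordP 44) v = W_44 v := by
  intro v
  simp only [W_44, forceL_eq]
  rfl

theorem relw_44 : ∀ v, v < 306936 → walkT ctF (D.wlen 44) (D.wordP 44) v = v := by
  intro v hv
  rw [walk_44]
  exact relf_44 v hv

theorem relf_45 : ∀ v, v < 306936 → W_45 v = v := by
  intro v hv
  rcases Nat.lt_or_ge v 150000 with h | h
  · rcases Nat.lt_or_ge v 50000 with h | h
    · exact fixPtsF_spec W_45 50000 0 relc_45_0 v (by omega) (by omega)
    · rcases Nat.lt_or_ge v 100000 with h | h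
      · exact fixPtsF_spec W_45 50000 50000 relc_45_1 v (by omega) (by omega)
      · exact fixPtsF_spec W_45 50000 100000 relc_45_2 v (by omega) (by omega)
  · rcases Nat.lt_or_ge v 250000 with h | h
    · rcases Nat.lt_or_ge v 200000 with h | h
      · exact fixPtsF_spec W_45 50000 150000 relc_45_3 v (by omega) (by omega)
      · exact fixPtsF_spec W_45 50000 200000 relc_45_4 v (by omega) (by omega)
    · rcases Nat.lt_or_ge v 300000 with h | h
      · exact fixPtsF_spec W_45 50000 250000 relc_45_5 v (by omega) (by omega)
      · exact fixPtsF_spec W_45 6936 300000 relc_45_6 v (by omega) (by omega)

set_option maxRecDepth 1000000 in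
theorem walk_45 : ∀ v, walkT ctF (D.wlen 45) (D.wordP 45) v = W_45 v := by
  intro v
  simp only [W_45, forceL_eq]
  rfl

theorem relw_45 : ∀ v, v < 306936 → walkT ctF (D.wlen 45) (D.wordP 45) v = v := by
  intro v hv
  rw [walk_45]
  exact relf_45 v hv

theorem relf_46 : ∀ v, v < 306936 → W_46 v = v := by
  intro v hv
  rcases Nat.lt_or_ge v 150000 with h | h
  · rcases Nat.lt_or_ge v 50000 with h | h
    · exact fixPtsF_spec W_46 50000 0 relc_46_0 v (by omega) (by omega)
    · rcases Nat.lt_or_ge v 100000 with h | h
      · exact fixPtsF_spec W_46 50000 50000 relc_46_1 v (by omega) (by omega)
      · exact fixPtsF_spec W_46 50000 100000 relc_46_2 v (by omega) (by omega)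
  · rcases Nat.lt_or_ge v 250000 with h | h
    · rcases Nat.lt_or_ge v 200000 with h | h
      · exact fixPtsF_spec W_46 50000 150000 relc_46_3 v (by omega) (by omega)
      · exact fixPtsF_spec W_46 50000 200000 relc_46_4 v (by omega) (by omega)
    · rcases Nat.lt_or_ge v 300000 with h | h
      · exact fixPtsF_spec W_46 50000 250000 relc_46_5 v (by omega) (by omega)
      · exact fixPtsF_spec W_46 6936 300000 relc_46_6 v (by omega) (by omega)

set_option maxRecDepth 1000000 in
theorem walk_46 : ∀ v, walkT ctF (D.wlen 46) (D.wordP 46) v = W_46 v := by
  intro v
  simp only [W_46, forceL_eq]
  rfl

theorem relw_46 : ∀ v, v < 306936 → walkT ctF (D.wlen 46) (D.wordP 46) v = v := by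
  intro v hv
  rw [walk_46]
  exact relf_46 v hv

theorem relf_47 : ∀ v, v < 306936 → W_47 v = v := by
  intro v hv
  rcases Nat.lt_or_ge v 150000 with h | h
  · rcases Nat.lt_or_ge v 50000 with h | h
    · exact fixPtsF_spec W_47 50000 0 relc_47_0 v (by omega) (by omega)
    · rcases Nat.lt_or_ge v 100000 with h | h
      · exact fixPtsF_spec W_47 50000 50000 relc_47_1 v (by omega) (by omega)
      · exact fixPtsF_spec W_47 50000 100000 relc_47_2 v (by omega) (by omega)
  · rcases Nat.lt_or_ge v 250000 with h | h
    · rcases Nat.lt_or_ge v 200000 with h | h
      · exact fixPtsF_spec W_47 50000 150000 relc_47_3 v (by omega) (by omega)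
      · exact fixPtsF_spec W_47 50000 200000 relc_47_4 v (by omega) (by omega)
    · rcases Nat.lt_or_ge v 300000 with h | h
      · exact fixPtsF_spec W_47 50000 250000 relc_47_5 v (by omega) (by omega)
      · exact fixPtsF_spec W_47 6936 300000 relc_47_6 v (by omega) (by omega)

set_option maxRecDepth 1000000 in
theorem walk_47 : ∀ v, walkT ctF (D.wlen 47) (D.wordP 47) v = W_47 v := by
  intro v
  simp only [W_47, forceL_eq]
  rfl

theorem relw_47 : ∀ v, v < 306936 → walkT ctF (D.wlen 47) (D.wordP 47) v = v := by
  intro v hv
  rw [walk_47]
  exact relf_47 v hv

theorem relf_53 : ∀ v, v < 306936 → W_53 v = v := by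
  intro v hv
  rcases Nat.lt_or_ge v 166665 with h | h
  · rcases Nat.lt_or_ge v 66666 with h | h
    · rcases Nat.lt_or_ge v 33333 with h | h
      · exact fixPtsF_spec W_53 33333 0 relc_53_0 v (by omega) (by omega)
      · exact fixPtsF_spec W_53 33333 33333 relc_53_1 v (by omega) (by omega)
    · rcases Nat.lt_or_ge v 99999 with h | h
      · exact fixPtsF_spec W_53 33333 66666 relc_53_2 v (by omega) (by omega)
      · rcases Nat.lt_or_ge v 133332 with h | h
        · exact fixPtsF_spec W_53 33333 99999 relc_53_3 v (by omega) (by omega)
        · exact fixPtsF_spec W_53 33333 133332 relc_53_4 v (by omega) (by omega)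
  · rcases Nat.lt_or_ge v 233331 with h | h
    · rcases Nat.lt_or_ge v 199998 with h | h
      · exact fixPtsF_spec W_53 33333 166665 relc_53_5 v (by omega) (by omega)
      · exact fixPtsF_spec W_53 33333 199998 relc_53_6 v (by omega) (by omega)
    · rcases Nat.lt_or_ge v 266664 with h | h
      · exact fixPtsF_spec W_53 33333 233331 relc_53_7 v (by omega) (by omega)
      · rcases Nat.lt_or_ge v 299997 with h | h
        · exact fixPtsF_spec W_53 33333 266664 relc_53_8 v (by omega) (by omega)
        · exact fixPtsF_spec W_53 6939 299997 relc_53_9 v (by omega) (by omega)

set_option maxRecDepth 1000000 in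
theorem walk_53 : ∀ v, walkT ctF (D.wlen 53) (D.wordP 53) v = W_53 v := by
  intro v
  simp only [W_53, forceL_eq]
  rfl

theorem relw_53 : ∀ v, v < 306936 → walkT ctF (D.wlen 53) (D.wordP 53) v = v := by
  intro v hv
  rw [walk_53]
  exact relf_53 v hv

theorem relf_54 : ∀ v, v < 306936 → W_54 v = v := by
  intro v hv
  rcases Nat.lt_or_ge v 150000 with h | h
  · rcases Nat.lt_or_ge v 50000 with h | h
    · exact fixPtsF_spec W_54 50000 0 relc_54_0 v (by omega) (by omega)
    · rcases Nat.lt_or_ge v 100000 with h | h
      · exact fixPtsF_spec W_54 50000 50000 relc_54_1 v (by omega) (by omega)
      · exact fixPtsF_spec W_54 50000 100000 relc_54_2 v (by omega) (by omega)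
  · rcases Nat.lt_or_ge v 250000 with h | h
    · rcases Nat.lt_or_ge v 200000 with h | h
      · exact fixPtsF_spec W_54 50000 150000 relc_54_3 v (by omega) (by omega)
      · exact fixPtsF_spec W_54 50000 200000 relc_54_4 v (by omega) (by omega)
    · rcases Nat.lt_or_ge v 300000 with h | h
      · exact fixPtsF_spec W_54 50000 250000 relc_54_5 v (by omega) (by omega)
      · exact fixPtsF_spec W_54 6936 300000 relc_54_6 v (by omega) (by omega)

set_option maxRecDepth 1000000 in
theorem walk_54 : ∀ v, walkT ctF (D.wlen 54) (D.wordP 54) v = W_54 v := by
  intro v
  simp only [W_54, forceL_eq]
  rfl

theorem relw_54 : ∀ v, v < 306936 → walkT ctF (D.wlen 54) (D.wordP 54) v = v := by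
  intro v hv
  rw [walk_54]
  exact relf_54 v hv

theorem relf_55 : ∀ v, v < 306936 → W_55 v = v := by
  intro v hv
  rcases Nat.lt_or_ge v 150000 with h | h
  · rcases Nat.lt_or_ge v 50000 with h | h
    · exact fixPtsF_spec W_55 50000 0 relc_55_0 v (by omega) (by omega)
    · rcases Nat.lt_or_ge v 100000 with h | h
      · exact fixPtsF_spec W_55 50000 50000 relc_55_1 v (by omega) (by omega)
      · exact fixPtsF_spec W_55 50000 100000 relc_55_2 v (by omega) (by omega)
  · rcases Nat.lt_or_ge v 250000 with h | h
    · rcases Nat.lt_or_ge v 200000 with h | h
      · exact fixPtsF_spec W_55 50000 150000 relc_55_3 v (by omega) (by omega)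
      · exact fixPtsF_spec W_55 50000 200000 relc_55_4 v (by omega) (by omega)
    · rcases Nat.lt_or_ge v 300000 with h | h
      · exact fixPtsF_spec W_55 50000 250000 relc_55_5 v (by omega) (by omega)
      · exact fixPtsF_spec W_55 6936 300000 relc_55_6 v (by omega) (by omega)

set_option maxRecDepth 1000000 in
theorem walk_55 : ∀ v, walkT ctF (D.wlen 55) (D.wordP 55) v = W_55 v := by
  intro v
  simp only [W_55, forceL_eq]
  rfl

theorem relw_55 : ∀ v, v < 306936 → walkT ctF (D.wlen 55) (D.wordP 55) v = v := by
  intro v hv
  rw [walk_55]
  exact relf_55 v hv

theorem relf_56 : ∀ v, v < 306936 → W_56 v = v := by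
  intro v hv
  rcases Nat.lt_or_ge v 150000 with h | h
  · rcases Nat.lt_or_ge v 50000 with h | h
    · exact fixPtsF_spec W_56 50000 0 relc_56_0 v (by omega) (by omega)
    · rcases Nat.lt_or_ge v 100000 with h | h
      · exact fixPtsF_spec W_56 50000 50000 relc_56_1 v (by omega) (by omega)
      · exact fixPtsF_spec W_56 50000 100000 relc_56_2 v (by omega) (by omega)
  · rcases Nat.lt_or_ge v 250000 with h | h
    · rcases Nat.lt_or_ge v 200000 with h | h
      · exact fixPtsF_spec W_56 50000 150000 relc_56_3 v (by omega) (by omega)
      · exact fixPtsF_spec W_56 50000 200000 relc_56_4 v (by omega) (by omega)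
    · rcases Nat.lt_or_ge v 300000 with h | h
      · exact fixPtsF_spec W_56 50000 250000 relc_56_5 v (by omega) (by omega)
      · exact fixPtsF_spec W_56 6936 300000 relc_56_6 v (by omega) (by omega)

set_option maxRecDepth 1000000 in
theorem walk_56 : ∀ v, walkT ctF (D.wlen 56) (D.wordP 56) v = W_56 v := by
  intro v
  simp only [W_56, forceL_eq]
  rfl

theorem relw_56 : ∀ v, v < 306936 → walkT ctF (D.wlen 56) (D.wordP 56) v = v := by
  intro v hv
  rw [walk_56]
  exact relf_56 v hv

theorem relf_57 : ∀ v, v < 306936 → W_57 v = v := by
  intro v hv
  rcases Nat.lt_or_ge v 150000 with h | h
  · rcases Nat.lt_or_ge v 50000 with h | h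
    · exact fixPtsF_spec W_57 50000 0 relc_57_0 v (by omega) (by omega)
    · rcases Nat.lt_or_ge v 100000 with h | h
      · exact fixPtsF_spec W_57 50000 50000 relc_57_1 v (by omega) (by omega)
      · exact fixPtsF_spec W_57 50000 100000 relc_57_2 v (by omega) (by omega)
  · rcases Nat.lt_or_ge v 250000 with h | h
    · rcases Nat.lt_or_ge v 200000 with h | h
      · exact fixPtsF_spec W_57 50000 150000 relc_57_3 v (by omega) (by omega)
      · exact fixPtsF_spec W_57 50000 200000 relc_57_4 v (by omega) (by omega)
    · rcases Nat.lt_or_ge v 300000 with h | h
      · exact fixPtsF_spec W_57 50000 250000 relc_57_5 v (by omega) (by omega)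
      · exact fixPtsF_spec W_57 6936 300000 relc_57_6 v (by omega) (by omega)

set_option maxRecDepth 1000000 in
theorem walk_57 : ∀ v, walkT ctF (D.wlen 57) (D.wordP 57) v = W_57 v := by
  intro v
  simp only [W_57, forceL_eq]
  rfl

theorem relw_57 : ∀ v, v < 306936 → walkT ctF (D.wlen 57) (D.wordP 57) v = v := by
  intro v hv
  rw [walk_57]
  exact relf_57 v hv

theorem relf_58 : ∀ v, v < 306936 → W_58 v = v := by
  intro v hv
  rcases Nat.lt_or_ge v 150000 with h | h
  · rcases Nat.lt_or_ge v 50000 with h | h
    · exact fixPtsF_spec W_58 50000 0 relc_58_0 v (by omega) (by omega)
    · rcases Nat.lt_or_ge v 100000 with h | h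
      · exact fixPtsF_spec W_58 50000 50000 relc_58_1 v (by omega) (by omega)
      · exact fixPtsF_spec W_58 50000 100000 relc_58_2 v (by omega) (by omega)
  · rcases Nat.lt_or_ge v 250000 with h | h
    · rcases Nat.lt_or_ge v 200000 with h | h
      · exact fixPtsF_spec W_58 50000 150000 relc_58_3 v (by omega) (by omega)
      · exact fixPtsF_spec W_58 50000 200000 relc_58_4 v (by omega) (by omega)
    · rcases Nat.lt_or_ge v 300000 with h | h
      · exact fixPtsF_spec W_58 50000 250000 relc_58_5 v (by omega) (by omega)
      · exact fixPtsF_spec W_58 6936 300000 relc_58_6 v (by omega) (by omega)

set_option maxRecDepth 1000000 in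
theorem walk_58 : ∀ v, walkT ctF (D.wlen 58) (D.wordP 58) v = W_58 v := by
  intro v
  simp only [W_58, forceL_eq]
  rfl

theorem relw_58 : ∀ v, v < 306936 → walkT ctF (D.wlen 58) (D.wordP 58) v = v := by
  intro v hv
  rw [walk_58]
  exact relf_58 v hv

theorem relf_59 : ∀ v, v < 306936 → W_59 v = v := by
  intro v hv
  rcases Nat.lt_or_ge v 150000 with h | h
  · rcases Nat.lt_or_ge v 50000 with h | h
    · exact fixPtsF_spec W_59 50000 0 relc_59_0 v (by omega) (by omega)
    · rcases Nat.lt_or_ge v 100000 with h | h
      · exact fixPtsF_spec W_59 50000 50000 relc_59_1 v (by omega) (by omega)
      · exact fixPtsF_spec W_59 50000 100000 relc_59_2 v (by omega) (by omega)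
  · rcases Nat.lt_or_ge v 250000 with h | h
    · rcases Nat.lt_or_ge v 200000 with h | h
      · exact fixPtsF_spec W_59 50000 150000 relc_59_3 v (by omega) (by omega)
      · exact fixPtsF_spec W_59 50000 200000 relc_59_4 v (by omega) (by omega)
    · rcases Nat.lt_or_ge v 300000 with h | h
      · exact fixPtsF_spec W_59 50000 250000 relc_59_5 v (by omega) (by omega)
      · exact fixPtsF_spec W_59 6936 300000 relc_59_6 v (by omega) (by omega)

set_option maxRecDepth 1000000 in
theorem walk_59 : ∀ v, walkT ctF (D.wlen 59) (D.wordP 59) v = W_59 v := by
  intro v
  simp only [W_59, forceL_eq]
  rfl

theorem relw_59 : ∀ v, v < 306936 → walkT ctF (D.wlen 59) (D.wordP 59) v = v := by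
  intro v hv
  rw [walk_59]
  exact relf_59 v hv

theorem relf_66 : ∀ v, v < 306936 → W_66 v = v := by
  intro v hv
  rcases Nat.lt_or_ge v 166665 with h | h
  · rcases Nat.lt_or_ge v 66666 with h | h
    · rcases Nat.lt_or_ge v 33333 with h | h
      · exact fixPtsF_spec W_66 33333 0 relc_66_0 v (by omega) (by omega)
      · exact fixPtsF_spec W_66 33333 33333 relc_66_1 v (by omega) (by omega)
    · rcases Nat.lt_or_ge v 99999 with h | h
      · exact fixPtsF_spec W_66 33333 66666 relc_66_2 v (by omega) (by omega)
      · rcases Nat.lt_or_ge v 133332 with h | h
        · exact fixPtsF_spec W_66 33333 99999 relc_66_3 v (by omega) (by omega)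
        · exact fixPtsF_spec W_66 33333 133332 relc_66_4 v (by omega) (by omega)
  · rcases Nat.lt_or_ge v 233331 with h | h
    · rcases Nat.lt_or_ge v 199998 with h | h
      · exact fixPtsF_spec W_66 33333 166665 relc_66_5 v (by omega) (by omega)
      · exact fixPtsF_spec W_66 33333 199998 relc_66_6 v (by omega) (by omega)
    · rcases Nat.lt_or_ge v 266664 with h | h
      · exact fixPtsF_spec W_66 33333 233331 relc_66_7 v (by omega) (by omega)
      · rcases Nat.lt_or_ge v 299997 with h | h
        · exact fixPtsF_spec W_66 33333 266664 relc_66_8 v (by omega) (by omega)
        · exact fixPtsF_spec W_66 6939 299997 relc_66_9 v (by omega) (by omega)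

set_option maxRecDepth 1000000 in
theorem walk_66 : ∀ v, walkT ctF (D.wlen 66) (D.wordP 66) v = W_66 v := by
  intro v
  simp only [W_66, forceL_eq]
  rfl

theorem relw_66 : ∀ v, v < 306936 → walkT ctF (D.wlen 66) (D.wordP 66) v = v := by
  intro v hv
  rw [walk_66]
  exact relf_66 v hv

theorem relf_67 : ∀ v, v < 306936 → W_67 v = v := by
  intro v hv
  rcases Nat.lt_or_ge v 150000 with h | h
  · rcases Nat.lt_or_ge v 50000 with h | h
    · exact fixPtsF_spec W_67 50000 0 relc_67_0 v (by omega) (by omega)
    · rcases Nat.lt_or_ge v 100000 with h | h
      · exact fixPtsF_spec W_67 50000 50000 relc_67_1 v (by omega) (by omega)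
      · exact fixPtsF_spec W_67 50000 100000 relc_67_2 v (by omega) (by omega)
  · rcases Nat.lt_or_ge v 250000 with h | h
    · rcases Nat.lt_or_ge v 200000 with h | h
      · exact fixPtsF_spec W_67 50000 150000 relc_67_3 v (by omega) (by omega)
      · exact fixPtsF_spec W_67 50000 200000 relc_67_4 v (by omega) (by omega)
    · rcases Nat.lt_or_ge v 300000 with h | h
      · exact fixPtsF_spec W_67 50000 250000 relc_67_5 v (by omega) (by omega)
      · exact fixPtsF_spec W_67 6936 300000 relc_67_6 v (by omega) (by omega)

set_option maxRecDepth 1000000 in
theorem walk_67 : ∀ v, walkT ctF (D.wlen 67) (D.wordP 67) v = W_67 v := by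
  intro v
  simp only [W_67, forceL_eq]
  rfl

theorem relw_67 : ∀ v, v < 306936 → walkT ctF (D.wlen 67) (D.wordP 67) v = v := by
  intro v hv
  rw [walk_67]
  exact relf_67 v hv

theorem relf_68 : ∀ v, v < 306936 → W_68 v = v := by
  intro v hv
  rcases Nat.lt_or_ge v 150000 with h | h
  · rcases Nat.lt_or_ge v 50000 with h | h
    · exact fixPtsF_spec W_68 50000 0 relc_68_0 v (by omega) (by omega)
    · rcases Nat.lt_or_ge v 100000 with h | h
      · exact fixPtsF_spec W_68 50000 50000 relc_68_1 v (by omega) (by omega)
      · exact fixPtsF_spec W_68 50000 100000 relc_68_2 v (by omega) (by omega)
  · rcases Nat.lt_or_ge v 250000 with h | h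
    · rcases Nat.lt_or_ge v 200000 with h | h
      · exact fixPtsF_spec W_68 50000 150000 relc_68_3 v (by omega) (by omega)
      · exact fixPtsF_spec W_68 50000 200000 relc_68_4 v (by omega) (by omega)
    · rcases Nat.lt_or_ge v 300000 with h | h
      · exact fixPtsF_spec W_68 50000 250000 relc_68_5 v (by omega) (by omega)
      · exact fixPtsF_spec W_68 6936 300000 relc_68_6 v (by omega) (by omega)

set_option maxRecDepth 1000000 in
theorem walk_68 : ∀ v, walkT ctF (D.wlen 68) (D.wordP 68) v = W_68 v := by
  intro v
  simp only [W_68, forceL_eq]
  rfl

theorem relw_68 : ∀ v, v < 306936 → walkT ctF (D.wlen 68) (D.wordP 68) v = v := by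
  intro v hv
  rw [walk_68]
  exact relf_68 v hv

theorem relf_69 : ∀ v, v < 306936 → W_69 v = v := by
  intro v hv
  rcases Nat.lt_or_ge v 150000 with h | h
  · rcases Nat.lt_or_ge v 50000 with h | h
    · exact fixPtsF_spec W_69 50000 0 relc_69_0 v (by omega) (by omega)
    · rcases Nat.lt_or_ge v 100000 with h | h
      · exact fixPtsF_spec W_69 50000 50000 relc_69_1 v (by omega) (by omega)
      · exact fixPtsF_spec W_69 50000 100000 relc_69_2 v (by omega) (by omega)
  · rcases Nat.lt_or_ge v 250000 with h | h
    · rcases Nat.lt_or_ge v 200000 with h | h
      · exact fixPtsF_spec W_69 50000 150000 relc_69_3 v (by omega) (by omega)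
      · exact fixPtsF_spec W_69 50000 200000 relc_69_4 v (by omega) (by omega)
    · rcases Nat.lt_or_ge v 300000 with h | h
      · exact fixPtsF_spec W_69 50000 250000 relc_69_5 v (by omega) (by omega)
      · exact fixPtsF_spec W_69 6936 300000 relc_69_6 v (by omega) (by omega)

set_option maxRecDepth 1000000 in
theorem walk_69 : ∀ v, walkT ctF (D.wlen 69) (D.wordP 69) v = W_69 v := by
  intro v
  simp only [W_69, forceL_eq]
  rfl

theorem relw_69 : ∀ v, v < 306936 → walkT ctF (D.wlen 69) (D.wordP 69) v = v := by
  intro v hv
  rw [walk_69]
  exact relf_69 v hv

theorem relf_70 : ∀ v, v < 306936 → W_70 v = v := by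
  intro v hv
  rcases Nat.lt_or_ge v 166665 with h | h
  · rcases Nat.lt_or_ge v 66666 with h | h
    · rcases Nat.lt_or_ge v 33333 with h | h
      · exact fixPtsF_spec W_70 33333 0 relc_70_0 v (by omega) (by omega)
      · exact fixPtsF_spec W_70 33333 33333 relc_70_1 v (by omega) (by omega)
    · rcases Nat.lt_or_ge v 99999 with h | h
      · exact fixPtsF_spec W_70 33333 66666 relc_70_2 v (by omega) (by omega)
      · rcases Nat.lt_or_ge v 133332 with h | h
        · exact fixPtsF_spec W_70 33333 99999 relc_70_3 v (by omega) (by omega)
        · exact fixPtsF_spec W_70 33333 133332 relc_70_4 v (by omega) (by omega)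
  · rcases Nat.lt_or_ge v 233331 with h | h
    · rcases Nat.lt_or_ge v 199998 with h | h
      · exact fixPtsF_spec W_70 33333 166665 relc_70_5 v (by omega) (by omega)
      · exact fixPtsF_spec W_70 33333 199998 relc_70_6 v (by omega) (by omega)
    · rcases Nat.lt_or_ge v 266664 with h | h
      · exact fixPtsF_spec W_70 33333 233331 relc_70_7 v (by omega) (by omega)
      · rcases Nat.lt_or_ge v 299997 with h | h
        · exact fixPtsF_spec W_70 33333 266664 relc_70_8 v (by omega) (by omega)
        · exact fixPtsF_spec W_70 6939 299997 relc_70_9 v (by omega) (by omega)

set_option maxRecDepth 1000000 in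
theorem walk_70 : ∀ v, walkT ctF (D.wlen 70) (D.wordP 70) v = W_70 v := by
  intro v
  simp only [W_70, forceL_eq]
  rfl

theorem relw_70 : ∀ v, v < 306936 → walkT ctF (D.wlen 70) (D.wordP 70) v = v := by
  intro v hv
  rw [walk_70]
  exact relf_70 v hv

theorem relf_71 : ∀ v, v < 306936 → W_71 v = v := by
  intro v hv
  rcases Nat.lt_or_ge v 150000 with h | h
  · rcases Nat.lt_or_ge v 50000 with h | h
    · exact fixPtsF_spec W_71 50000 0 relc_71_0 v (by omega) (by omega)
    · rcases Nat.lt_or_ge v 100000 with h | h
      · exact fixPtsF_spec W_71 50000 50000 relc_71_1 v (by omega) (by omega)
      · exact fixPtsF_spec W_71 50000 100000 relc_71_2 v (by omega) (by omega)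
  · rcases Nat.lt_or_ge v 250000 with h | h
    · rcases Nat.lt_or_ge v 200000 with h | h
      · exact fixPtsF_spec W_71 50000 150000 relc_71_3 v (by omega) (by omega)
      · exact fixPtsF_spec W_71 50000 200000 relc_71_4 v (by omega) (by omega)
    · rcases Nat.lt_or_ge v 300000 with h | h
      · exact fixPtsF_spec W_71 50000 250000 relc_71_5 v (by omega) (by omega)
      · exact fixPtsF_spec W_71 6936 300000 relc_71_6 v (by omega) (by omega)

set_option maxRecDepth 1000000 in
theorem walk_71 : ∀ v, walkT ctF (D.wlen 71) (D.wordP 71) v = W_71 v := by
  intro v
  simp only [W_71, forceL_eq]
  rfl

theorem relw_71 : ∀ v, v < 306936 → walkT ctF (D.wlen 71) (D.wordP 71) v = v := by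
  intro v hv
  rw [walk_71]
  exact relf_71 v hv

theorem relf_79 : ∀ v, v < 306936 → W_79 v = v := by
  intro v hv
  rcases Nat.lt_or_ge v 166665 with h | h
  · rcases Nat.lt_or_ge v 66666 with h | h
    · rcases Nat.lt_or_ge v 33333 with h | h
      · exact fixPtsF_spec W_79 33333 0 relc_79_0 v (by omega) (by omega)
      · exact fixPtsF_spec W_79 33333 33333 relc_79_1 v (by omega) (by omega)
    · rcases Nat.lt_or_ge v 99999 with h | h
      · exact fixPtsF_spec W_79 33333 66666 relc_79_2 v (by omega) (by omega)
      · rcases Nat.lt_or_ge v 133332 with h | h
        · exact fixPtsF_spec W_79 33333 99999 relc_79_3 v (by omega) (by omega)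
        · exact fixPtsF_spec W_79 33333 133332 relc_79_4 v (by omega) (by omega)
  · rcases Nat.lt_or_ge v 233331 with h | h
    · rcases Nat.lt_or_ge v 199998 with h | h
      · exact fixPtsF_spec W_79 33333 166665 relc_79_5 v (by omega) (by omega)
      · exact fixPtsF_spec W_79 33333 199998 relc_79_6 v (by omega) (by omega)
    · rcases Nat.lt_or_ge v 266664 with h | h
      · exact fixPtsF_spec W_79 33333 233331 relc_79_7 v (by omega) (by omega)
      · rcases Nat.lt_or_ge v 299997 with h | h
        · exact fixPtsF_spec W_79 33333 266664 relc_79_8 v (by omega) (by omega)
        · exact fixPtsF_spec W_79 6939 299997 relc_79_9 v (by omega) (by omega)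

set_option maxRecDepth 1000000 in
theorem walk_79 : ∀ v, walkT ctF (D.wlen 79) (D.wordP 79) v = W_79 v := by
  intro v
  simp only [W_79, forceL_eq]
  rfl

theorem relw_79 : ∀ v, v < 306936 → walkT ctF (D.wlen 79) (D.wordP 79) v = v := by
  intro v hv
  rw [walk_79]
  exact relf_79 v hv

theorem relf_80 : ∀ v, v < 306936 → W_80 v = v := by
  intro v hv
  rcases Nat.lt_or_ge v 150000 with h | h
  · rcases Nat.lt_or_ge v 50000 with h | h
    · exact fixPtsF_spec W_80 50000 0 relc_80_0 v (by omega) (by omega)
    · rcases Nat.lt_or_ge v 100000 with h | h
      · exact fixPtsF_spec W_80 50000 50000 relc_80_1 v (by omega) (by omega)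
      · exact fixPtsF_spec W_80 50000 100000 relc_80_2 v (by omega) (by omega)
  · rcases Nat.lt_or_ge v 250000 with h | h
    · rcases Nat.lt_or_ge v 200000 with h | h
      · exact fixPtsF_spec W_80 50000 150000 relc_80_3 v (by omega) (by omega)
      · exact fixPtsF_spec W_80 50000 200000 relc_80_4 v (by omega) (by omega)
    · rcases Nat.lt_or_ge v 300000 with h | h
      · exact fixPtsF_spec W_80 50000 250000 relc_80_5 v (by omega) (by omega)
      · exact fixPtsF_spec W_80 6936 300000 relc_80_6 v (by omega) (by omega)

set_option maxRecDepth 1000000 in
theorem walk_80 : ∀ v, walkT ctF (D.wlen 80) (D.wordP 80) v = W_80 v := by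
  intro v
  simp only [W_80, forceL_eq]
  rfl

theorem relw_80 : ∀ v, v < 306936 → walkT ctF (D.wlen 80) (D.wordP 80) v = v := by
  intro v hv
  rw [walk_80]
  exact relf_80 v hv

theorem relf_81 : ∀ v, v < 306936 → W_81 v = v := by
  intro v hv
  rcases Nat.lt_or_ge v 150000 with h | h
  · rcases Nat.lt_or_ge v 50000 with h | h
    · exact fixPtsF_spec W_81 50000 0 relc_81_0 v (by omega) (by omega)
    · rcases Nat.lt_or_ge v 100000 with h | h
      · exact fixPtsF_spec W_81 50000 50000 relc_81_1 v (by omega) (by omega)
      · exact fixPtsF_spec W_81 50000 100000 relc_81_2 v (by omega) (by omega)
  · rcases Nat.lt_or_ge v 250000 with h | h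
    · rcases Nat.lt_or_ge v 200000 with h | h
      · exact fixPtsF_spec W_81 50000 150000 relc_81_3 v (by omega) (by omega)
      · exact fixPtsF_spec W_81 50000 200000 relc_81_4 v (by omega) (by omega)
    · rcases Nat.lt_or_ge v 300000 with h | h
      · exact fixPtsF_spec W_81 50000 250000 relc_81_5 v (by omega) (by omega)
      · exact fixPtsF_spec W_81 6936 300000 relc_81_6 v (by omega) (by omega)

set_option maxRecDepth 1000000 in
theorem walk_81 : ∀ v, walkT ctF (D.wlen 81) (D.wordP 81) v = W_81 v := by
  intro v
  simp only [W_81, forceL_eq]
  rfl

theorem relw_81 : ∀ v, v < 306936 → walkT ctF (D.wlen 81) (D.wordP 81) v = v := by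
  intro v hv
  rw [walk_81]
  exact relf_81 v hv

theorem relf_82 : ∀ v, v < 306936 → W_82 v = v := by
  intro v hv
  rcases Nat.lt_or_ge v 150000 with h | h
  · rcases Nat.lt_or_ge v 50000 with h | h
    · exact fixPtsF_spec W_82 50000 0 relc_82_0 v (by omega) (by omega)
    · rcases Nat.lt_or_ge v 100000 with h | h
      · exact fixPtsF_spec W_82 50000 50000 relc_82_1 v (by omega) (by omega)
      · exact fixPtsF_spec W_82 50000 100000 relc_82_2 v (by omega) (by omega)
  · rcases Nat.lt_or_ge v 250000 with h | h
    · rcases Nat.lt_or_ge v 200000 with h | h
      · exact fixPtsF_spec W_82 50000 150000 relc_82_3 v (by omega) (by omega)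
      · exact fixPtsF_spec W_82 50000 200000 relc_82_4 v (by omega) (by omega)
    · rcases Nat.lt_or_ge v 300000 with h | h
      · exact fixPtsF_spec W_82 50000 250000 relc_82_5 v (by omega) (by omega)
      · exact fixPtsF_spec W_82 6936 300000 relc_82_6 v (by omega) (by omega)

set_option maxRecDepth 1000000 in
theorem walk_82 : ∀ v, walkT ctF (D.wlen 82) (D.wordP 82) v = W_82 v := by
  intro v
  simp only [W_82, forceL_eq]
  rfl

theorem relw_82 : ∀ v, v < 306936 → walkT ctF (D.wlen 82) (D.wordP 82) v = v := by
  intro v hv
  rw [walk_82]
  exact relf_82 v hv

theorem relf_83 : ∀ v, v < 306936 → W_83 v = v := by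
  intro v hv
  rcases Nat.lt_or_ge v 150000 with h | h
  · rcases Nat.lt_or_ge v 50000 with h | h
    · exact fixPtsF_spec W_83 50000 0 relc_83_0 v (by omega) (by omega)
    · rcases Nat.lt_or_ge v 100000 with h | h
      · exact fixPtsF_spec W_83 50000 50000 relc_83_1 v (by omega) (by omega)
      · exact fixPtsF_spec W_83 50000 100000 relc_83_2 v (by omega) (by omega)
  · rcases Nat.lt_or_ge v 250000 with h | h
    · rcases Nat.lt_or_ge v 200000 with h | h
      · exact fixPtsF_spec W_83 50000 150000 relc_83_3 v (by omega) (by omega)
      · exact fixPtsF_spec W_83 50000 200000 relc_83_4 v (by omega) (by omega)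
    · rcases Nat.lt_or_ge v 300000 with h | h
      · exact fixPtsF_spec W_83 50000 250000 relc_83_5 v (by omega) (by omega)
      · exact fixPtsF_spec W_83 6936 300000 relc_83_6 v (by omega) (by omega)

set_option maxRecDepth 1000000 in
theorem walk_83 : ∀ v, walkT ctF (D.wlen 83) (D.wordP 83) v = W_83 v := by
  intro v
  simp only [W_83, forceL_eq]
  rfl

theorem relw_83 : ∀ v, v < 306936 → walkT ctF (D.wlen 83) (D.wordP 83) v = v := by
  intro v hv
  rw [walk_83]
  exact relf_83 v hv

theorem relf_92 : ∀ v, v < 306936 → W_92 v = v := by
  intro v hv
  rcases Nat.lt_or_ge v 166665 with h | h
  · rcases Nat.lt_or_ge v 66666 with h | h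
    · rcases Nat.lt_or_ge v 33333 with h | h
      · exact fixPtsF_spec W_92 33333 0 relc_92_0 v (by omega) (by omega)
      · exact fixPtsF_spec W_92 33333 33333 relc_92_1 v (by omega) (by omega)
    · rcases Nat.lt_or_ge v 99999 with h | h
      · exact fixPtsF_spec W_92 33333 66666 relc_92_2 v (by omega) (by omega)
      · rcases Nat.lt_or_ge v 133332 with h | h
        · exact fixPtsF_spec W_92 33333 99999 relc_92_3 v (by omega) (by omega)
        · exact fixPtsF_spec W_92 33333 133332 relc_92_4 v (by omega) (by omega)
  · rcases Nat.lt_or_ge v 233331 with h | h
    · rcases Nat.lt_or_ge v 199998 with h | h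
      · exact fixPtsF_spec W_92 33333 166665 relc_92_5 v (by omega) (by omega)
      · exact fixPtsF_spec W_92 33333 199998 relc_92_6 v (by omega) (by omega)
    · rcases Nat.lt_or_ge v 266664 with h | h
      · exact fixPtsF_spec W_92 33333 233331 relc_92_7 v (by omega) (by omega)
      · rcases Nat.lt_or_ge v 299997 with h | h
        · exact fixPtsF_spec W_92 33333 266664 relc_92_8 v (by omega) (by omega)
        · exact fixPtsF_spec W_92 6939 299997 relc_92_9 v (by omega) (by omega)

set_option maxRecDepth 1000000 in
theorem walk_92 : ∀ v, walkT ctF (D.wlen 92) (D.wordP 92) v = W_92 v := by
  intro v
  simp only [W_92, forceL_eq]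
  rfl

theorem relw_92 : ∀ v, v < 306936 → walkT ctF (D.wlen 92) (D.wordP 92) v = v := by
  intro v hv
  rw [walk_92]
  exact relf_92 v hv

theorem relf_93 : ∀ v, v < 306936 → W_93 v = v := by
  intro v hv
  rcases Nat.lt_or_ge v 150000 with h | h
  · rcases Nat.lt_or_ge v 50000 with h | h
    · exact fixPtsF_spec W_93 50000 0 relc_93_0 v (by omega) (by omega)
    · rcases Nat.lt_or_ge v 100000 with h | h
      · exact fixPtsF_spec W_93 50000 50000 relc_93_1 v (by omega) (by omega)
      · exact fixPtsF_spec W_93 50000 100000 relc_93_2 v (by omega) (by omega)
  · rcases Nat.lt_or_ge v 250000 with h | h
    · rcases Nat.lt_or_ge v 200000 with h | h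
      · exact fixPtsF_spec W_93 50000 150000 relc_93_3 v (by omega) (by omega)
      · exact fixPtsF_spec W_93 50000 200000 relc_93_4 v (by omega) (by omega)
    · rcases Nat.lt_or_ge v 300000 with h | h
      · exact fixPtsF_spec W_93 50000 250000 relc_93_5 v (by omega) (by omega)
      · exact fixPtsF_spec W_93 6936 300000 relc_93_6 v (by omega) (by omega)

set_option maxRecDepth 1000000 in
theorem walk_93 : ∀ v, walkT ctF (D.wlen 93) (D.wordP 93) v = W_93 v := by
  intro v
  simp only [W_93, forceL_eq]
  rfl

theorem relw_93 : ∀ v, v < 306936 → walkT ctF (D.wlen 93) (D.wordP 93) v = v := by
  intro v hv
  rw [walk_93]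
  exact relf_93 v hv

theorem relf_94 : ∀ v, v < 306936 → W_94 v = v := by
  intro v hv
  rcases Nat.lt_or_ge v 150000 with h | h
  · rcases Nat.lt_or_ge v 50000 with h | h
    · exact fixPtsF_spec W_94 50000 0 relc_94_0 v (by omega) (by omega)
    · rcases Nat.lt_or_ge v 100000 with h | h
      · exact fixPtsF_spec W_94 50000 50000 relc_94_1 v (by omega) (by omega)
      · exact fixPtsF_spec W_94 50000 100000 relc_94_2 v (by omega) (by omega)
  · rcases Nat.lt_or_ge v 250000 with h | h
    · rcases Nat.lt_or_ge v 200000 with h | h
      · exact fixPtsF_spec W_94 50000 150000 relc_94_3 v (by omega) (by omega)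
      · exact fixPtsF_spec W_94 50000 200000 relc_94_4 v (by omega) (by omega)
    · rcases Nat.lt_or_ge v 300000 with h | h
      · exact fixPtsF_spec W_94 50000 250000 relc_94_5 v (by omega) (by omega)
      · exact fixPtsF_spec W_94 6936 300000 relc_94_6 v (by omega) (by omega)

set_option maxRecDepth 1000000 in
theorem walk_94 : ∀ v, walkT ctF (D.wlen 94) (D.wordP 94) v = W_94 v := by
  intro v
  simp only [W_94, forceL_eq]
  rfl

theorem relw_94 : ∀ v, v < 306936 → walkT ctF (D.wlen 94) (D.wordP 94) v = v := by
  intro v hv
  rw [walk_94]
  exact relf_94 v hv

theorem relf_95 : ∀ v, v < 306936 → W_95 v = v := by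
  intro v hv
  rcases Nat.lt_or_ge v 150000 with h | h
  · rcases Nat.lt_or_ge v 50000 with h | h
    · exact fixPtsF_spec W_95 50000 0 relc_95_0 v (by omega) (by omega)
    · rcases Nat.lt_or_ge v 100000 with h | h
      · exact fixPtsF_spec W_95 50000 50000 relc_95_1 v (by omega) (by omega)
      · exact fixPtsF_spec W_95 50000 100000 relc_95_2 v (by omega) (by omega)
  · rcases Nat.lt_or_ge v 250000 with h | h
    · rcases Nat.lt_or_ge v 200000 with h | h
      · exact fixPtsF_spec W_95 50000 150000 relc_95_3 v (by omega) (by omega)
      · exact fixPtsF_spec W_95 50000 200000 relc_95_4 v (by omega) (by omega)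
    · rcases Nat.lt_or_ge v 300000 with h | h
      · exact fixPtsF_spec W_95 50000 250000 relc_95_5 v (by omega) (by omega)
      · exact fixPtsF_spec W_95 6936 300000 relc_95_6 v (by omega) (by omega)

set_option maxRecDepth 1000000 in
theorem walk_95 : ∀ v, walkT ctF (D.wlen 95) (D.wordP 95) v = W_95 v := by
  intro v
  simp only [W_95, forceL_eq]
  rfl

theorem relw_95 : ∀ v, v < 306936 → walkT ctF (D.wlen 95) (D.wordP 95) v = v := by
  intro v hv
  rw [walk_95]
  exact relf_95 v hv

theorem relf_105 : ∀ v, v < 306936 → W_105 v = v := by
  intro v hv
  rcases Nat.lt_or_ge v 166665 with h | h
  · rcases Nat.lt_or_ge v 66666 with h | h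
    · rcases Nat.lt_or_ge v 33333 with h | h
      · exact fixPtsF_spec W_105 33333 0 relc_105_0 v (by omega) (by omega)
      · exact fixPtsF_spec W_105 33333 33333 relc_105_1 v (by omega) (by omega)
    · rcases Nat.lt_or_ge v 99999 with h | h
      · exact fixPtsF_spec W_105 33333 66666 relc_105_2 v (by omega) (by omega)
      · rcases Nat.lt_or_ge v 133332 with h | h
        · exact fixPtsF_spec W_105 33333 99999 relc_105_3 v (by omega) (by omega)
        · exact fixPtsF_spec W_105 33333 133332 relc_105_4 v (by omega) (by omega)
  · rcases Nat.lt_or_ge v 233331 with h | h
    · rcases Nat.lt_or_ge v 199998 with h | h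
      · exact fixPtsF_spec W_105 33333 166665 relc_105_5 v (by omega) (by omega)
      · exact fixPtsF_spec W_105 33333 199998 relc_105_6 v (by omega) (by omega)
    · rcases Nat.lt_or_ge v 266664 with h | h
      · exact fixPtsF_spec W_105 33333 233331 relc_105_7 v (by omega) (by omega)
      · rcases Nat.lt_or_ge v 299997 with h | h
        · exact fixPtsF_spec W_105 33333 266664 relc_105_8 v (by omega) (by omega)
        · exact fixPtsF_spec W_105 6939 299997 relc_105_9 v (by omega) (by omega)

set_option maxRecDepth 1000000 in
theorem walk_105 : ∀ v, walkT ctF (D.wlen 105) (D.wordP 105) v = W_105 v := by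
  intro v
  simp only [W_105, forceL_eq]
  rfl

theorem relw_105 : ∀ v, v < 306936 → walkT ctF (D.wlen 105) (D.wordP 105) v = v := by
  intro v hv
  rw [walk_105]
  exact relf_105 v hv

theorem relf_106 : ∀ v, v < 306936 → W_106 v = v := by
  intro v hv
  rcases Nat.lt_or_ge v 150000 with h | h
  · rcases Nat.lt_or_ge v 50000 with h | h
    · exact fixPtsF_spec W_106 50000 0 relc_106_0 v (by omega) (by omega)
    · rcases Nat.lt_or_ge v 100000 with h | h
      · exact fixPtsF_spec W_106 50000 50000 relc_106_1 v (by omega) (by omega)
      · exact fixPtsF_spec W_106 50000 100000 relc_106_2 v (by omega) (by omega)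
  · rcases Nat.lt_or_ge v 250000 with h | h
    · rcases Nat.lt_or_ge v 200000 with h | h
      · exact fixPtsF_spec W_106 50000 150000 relc_106_3 v (by omega) (by omega)
      · exact fixPtsF_spec W_106 50000 200000 relc_106_4 v (by omega) (by omega)
    · rcases Nat.lt_or_ge v 300000 with h | h
      · exact fixPtsF_spec W_106 50000 250000 relc_106_5 v (by omega) (by omega)
      · exact fixPtsF_spec W_106 6936 300000 relc_106_6 v (by omega) (by omega)

set_option maxRecDepth 1000000 in
theorem walk_106 : ∀ v, walkT ctF (D.wlen 106) (D.wordP 106) v = W_106 v := by
  intro v
  simp only [W_106, forceL_eq]
  rfl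

theorem relw_106 : ∀ v, v < 306936 → walkT ctF (D.wlen 106) (D.wordP 106) v = v := by
  intro v hv
  rw [walk_106]
  exact relf_106 v hv

theorem relf_107 : ∀ v, v < 306936 → W_107 v = v := by
  intro v hv
  rcases Nat.lt_or_ge v 150000 with h | h
  · rcases Nat.lt_or_ge v 50000 with h | h
    · exact fixPtsF_spec W_107 50000 0 relc_107_0 v (by omega) (by omega)
    · rcases Nat.lt_or_ge v 100000 with h | h
      · exact fixPtsF_spec W_107 50000 50000 relc_107_1 v (by omega) (by omega)
      · exact fixPtsF_spec W_107 50000 100000 relc_107_2 v (by omega) (by omega)
  · rcases Nat.lt_or_ge v 250000 with h | h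
    · rcases Nat.lt_or_ge v 200000 with h | h
      · exact fixPtsF_spec W_107 50000 150000 relc_107_3 v (by omega) (by omega)
      · exact fixPtsF_spec W_107 50000 200000 relc_107_4 v (by omega) (by omega)
    · rcases Nat.lt_or_ge v 300000 with h | h
      · exact fixPtsF_spec W_107 50000 250000 relc_107_5 v (by omega) (by omega)
      · exact fixPtsF_spec W_107 6936 300000 relc_107_6 v (by omega) (by omega)

set_option maxRecDepth 1000000 in
theorem walk_107 : ∀ v, walkT ctF (D.wlen 107) (D.wordP 107) v = W_107 v := by
  intro v
  simp only [W_107, forceL_eq]
  rfl

theorem relw_107 : ∀ v, v < 306936 → walkT ctF (D.wlen 107) (D.wordP 107) v = v := by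
  intro v hv
  rw [walk_107]
  exact relf_107 v hv

theorem relf_118 : ∀ v, v < 306936 → W_118 v = v := by
  intro v hv
  rcases Nat.lt_or_ge v 150000 with h | h
  · rcases Nat.lt_or_ge v 50000 with h | h
    · exact fixPtsF_spec W_118 50000 0 relc_118_0 v (by omega) (by omega)
    · rcases Nat.lt_or_ge v 100000 with h | h
      · exact fixPtsF_spec W_118 50000 50000 relc_118_1 v (by omega) (by omega)
      · exact fixPtsF_spec W_118 50000 100000 relc_118_2 v (by omega) (by omega)
  · rcases Nat.lt_or_ge v 250000 with h | h
    · rcases Nat.lt_or_ge v 200000 with h | h
      · exact fixPtsF_spec W_118 50000 150000 relc_118_3 v (by omega) (by omega)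
      · exact fixPtsF_spec W_118 50000 200000 relc_118_4 v (by omega) (by omega)
    · rcases Nat.lt_or_ge v 300000 with h | h
      · exact fixPtsF_spec W_118 50000 250000 relc_118_5 v (by omega) (by omega)
      · exact fixPtsF_spec W_118 6936 300000 relc_118_6 v (by omega) (by omega)

set_option maxRecDepth 1000000 in
theorem walk_118 : ∀ v, walkT ctF (D.wlen 118) (D.wordP 118) v = W_118 v := by
  intro v
  simp only [W_118, forceL_eq]
  rfl

theorem relw_118 : ∀ v, v < 306936 → walkT ctF (D.wlen 118) (D.wordP 118) v = v := by
  intro v hv
  rw [walk_118]
  exact relf_118 v hv

theorem relf_119 : ∀ v, v < 306936 → W_119 v = v := by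
  intro v hv
  rcases Nat.lt_or_ge v 150000 with h | h
  · rcases Nat.lt_or_ge v 50000 with h | h
    · exact fixPtsF_spec W_119 50000 0 relc_119_0 v (by omega) (by omega)
    · rcases Nat.lt_or_ge v 100000 with h | h
      · exact fixPtsF_spec W_119 50000 50000 relc_119_1 v (by omega) (by omega)
      · exact fixPtsF_spec W_119 50000 100000 relc_119_2 v (by omega) (by omega)
  · rcases Nat.lt_or_ge v 250000 with h | h
    · rcases Nat.lt_or_ge v 200000 with h | h
      · exact fixPtsF_spec W_119 50000 150000 relc_119_3 v (by omega) (by omega)
      · exact fixPtsF_spec W_119 50000 200000 relc_119_4 v (by omega) (by omega)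
    · rcases Nat.lt_or_ge v 300000 with h | h
      · exact fixPtsF_spec W_119 50000 250000 relc_119_5 v (by omega) (by omega)
      · exact fixPtsF_spec W_119 6936 300000 relc_119_6 v (by omega) (by omega)

set_option maxRecDepth 1000000 in
theorem walk_119 : ∀ v, walkT ctF (D.wlen 119) (D.wordP 119) v = W_119 v := by
  intro v
  simp only [W_119, forceL_eq]
  rfl

theorem relw_119 : ∀ v, v < 306936 → walkT ctF (D.wlen 119) (D.wordP 119) v = v := by
  intro v hv
  rw [walk_119]
  exact relf_119 v hv

theorem relf_131 : ∀ v, v < 306936 → W_131 v = v := by
  intro v hv
  rcases Nat.lt_or_ge v 166665 with h | h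
  · rcases Nat.lt_or_ge v 66666 with h | h
    · rcases Nat.lt_or_ge v 33333 with h | h
      · exact fixPtsF_spec W_131 33333 0 relc_131_0 v (by omega) (by omega)
      · exact fixPtsF_spec W_131 33333 33333 relc_131_1 v (by omega) (by omega)
    · rcases Nat.lt_or_ge v 99999 with h | h
      · exact fixPtsF_spec W_131 33333 66666 relc_131_2 v (by omega) (by omega)
      · rcases Nat.lt_or_ge v 133332 with h | h
        · exact fixPtsF_spec W_131 33333 99999 relc_131_3 v (by omega) (by omega)
        · exact fixPtsF_spec W_131 33333 133332 relc_131_4 v (by omega) (by omega)
  · rcases Nat.lt_or_ge v 233331 with h | h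
    · rcases Nat.lt_or_ge v 199998 with h | h
      · exact fixPtsF_spec W_131 33333 166665 relc_131_5 v (by omega) (by omega)
      · exact fixPtsF_spec W_131 33333 199998 relc_131_6 v (by omega) (by omega)
    · rcases Nat.lt_or_ge v 266664 with h | h
      · exact fixPtsF_spec W_131 33333 233331 relc_131_7 v (by omega) (by omega)
      · rcases Nat.lt_or_ge v 299997 with h | h
        · exact fixPtsF_spec W_131 33333 266664 relc_131_8 v (by omega) (by omega)
        · exact fixPtsF_spec W_131 6939 299997 relc_131_9 v (by omega) (by omega)

set_option maxRecDepth 1000000 in
theorem walk_131 : ∀ v, walkT ctF (D.wlen 131) (D.wordP 131) v = W_131 v := by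
  intro v
  simp only [W_131, forceL_eq]
  rfl

theorem relw_131 : ∀ v, v < 306936 → walkT ctF (D.wlen 131) (D.wordP 131) v = v := by
  intro v hv
  rw [walk_131]
  exact relf_131 v hv

theorem relf_144 : ∀ v, v < 306936 → W_144 v = v := by
  intro v hv
  rcases Nat.lt_or_ge v 153125 with h | h
  · rcases Nat.lt_or_ge v 75000 with h | h
    · rcases Nat.lt_or_ge v 37500 with h | h
      · rcases Nat.lt_or_ge v 18750 with h | h
        · rcases Nat.lt_or_ge v 9375 with h | h
          · rcases Nat.lt_or_ge v 3125 with h | h
            · exact fixPtsF_spec W_144 3125 0 relc_144_0 v (by omega) (by omega)
            · rcases Nat.lt_or_ge v 6250 with h | h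
              · exact fixPtsF_spec W_144 3125 3125 relc_144_1 v (by omega) (by omega)
              · exact fixPtsF_spec W_144 3125 6250 relc_144_2 v (by omega) (by omega)
          · rcases Nat.lt_or_ge v 12500 with h | h
            · exact fixPtsF_spec W_144 3125 9375 relc_144_3 v (by omega) (by omega)
            · rcases Nat.lt_or_ge v 15625 with h | h
              · exact fixPtsF_spec W_144 3125 12500 relc_144_4 v (by omega) (by omega)
              · exact fixPtsF_spec W_144 3125 15625 relc_144_5 v (by omega) (by omega)
        · rcases Nat.lt_or_ge v 28125 with h | h
          · rcases Nat.lt_or_ge v 21875 with h | h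
            · exact fixPtsF_spec W_144 3125 18750 relc_144_6 v (by omega) (by omega)
            · rcases Nat.lt_or_ge v 25000 with h | h
              · exact fixPtsF_spec W_144 3125 21875 relc_144_7 v (by omega) (by omega)
              · exact fixPtsF_spec W_144 3125 25000 relc_144_8 v (by omega) (by omega)
          · rcases Nat.lt_or_ge v 31250 with h | h
            · exact fixPtsF_spec W_144 3125 28125 relc_144_9 v (by omega) (by omega)
            · rcases Nat.lt_or_ge v 34375 with h | h
              · exact fixPtsF_spec W_144 3125 31250 relc_144_10 v (by omega) (by omega)
              · exact fixPtsF_spec W_144 3125 34375 relc_144_11 v (by omega) (by omega)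
      · rcases Nat.lt_or_ge v 56250 with h | h
        · rcases Nat.lt_or_ge v 46875 with h | h
          · rcases Nat.lt_or_ge v 40625 with h | h
            · exact fixPtsF_spec W_144 3125 37500 relc_144_12 v (by omega) (by omega)
            · rcases Nat.lt_or_ge v 43750 with h | h
              · exact fixPtsF_spec W_144 3125 40625 relc_144_13 v (by omega) (by omega)
              · exact fixPtsF_spec W_144 3125 43750 relc_144_14 v (by omega) (by omega)
          · rcases Nat.lt_or_ge v 50000 with h | h
            · exact fixPtsF_spec W_144 3125 46875 relc_144_15 v (by omega) (by omega)
            · rcases Nat.lt_or_ge v 53125 with h | h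
              · exact fixPtsF_spec W_144 3125 50000 relc_144_16 v (by omega) (by omega)
              · exact fixPtsF_spec W_144 3125 53125 relc_144_17 v (by omega) (by omega)
        · rcases Nat.lt_or_ge v 65625 with h | h
          · rcases Nat.lt_or_ge v 59375 with h | h
            · exact fixPtsF_spec W_144 3125 56250 relc_144_18 v (by omega) (by omega)
            · rcases Nat.lt_or_ge v 62500 with h | h
              · exact fixPtsF_spec W_144 3125 59375 relc_144_19 v (by omega) (by omega)
              · exact fixPtsF_spec W_144 3125 62500 relc_144_20 v (by omega) (by omega)
          · rcases Nat.lt_or_ge v 68750 with h | h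
            · exact fixPtsF_spec W_144 3125 65625 relc_144_21 v (by omega) (by omega)
            · rcases Nat.lt_or_ge v 71875 with h | h
              · exact fixPtsF_spec W_144 3125 68750 relc_144_22 v (by omega) (by omega)
              · exact fixPtsF_spec W_144 3125 71875 relc_144_23 v (by omega) (by omega)
    · rcases Nat.lt_or_ge v 112500 with h | h
      · rcases Nat.lt_or_ge v 93750 with h | h
        · rcases Nat.lt_or_ge v 84375 with h | h
          · rcases Nat.lt_or_ge v 78125 with h | h
            · exact fixPtsF_spec W_144 3125 75000 relc_144_24 v (by omega) (by omega)
            · rcases Nat.lt_or_ge v 81250 with h | h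
              · exact fixPtsF_spec W_144 3125 78125 relc_144_25 v (by omega) (by omega)
              · exact fixPtsF_spec W_144 3125 81250 relc_144_26 v (by omega) (by omega)
          · rcases Nat.lt_or_ge v 87500 with h | h
            · exact fixPtsF_spec W_144 3125 84375 relc_144_27 v (by omega) (by omega)
            · rcases Nat.lt_or_ge v 90625 with h | h
              · exact fixPtsF_spec W_144 3125 87500 relc_144_28 v (by omega) (by omega)
              · exact fixPtsF_spec W_144 3125 90625 relc_144_29 v (by omega) (by omega)
        · rcases Nat.lt_or_ge v 103125 with h | h
          · rcases Nat.lt_or_ge v 96875 with h | h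
            · exact fixPtsF_spec W_144 3125 93750 relc_144_30 v (by omega) (by omega)
            · rcases Nat.lt_or_ge v 100000 with h | h
              · exact fixPtsF_spec W_144 3125 96875 relc_144_31 v (by omega) (by omega)
              · exact fixPtsF_spec W_144 3125 100000 relc_144_32 v (by omega) (by omega)
          · rcases Nat.lt_or_ge v 106250 with h | h
            · exact fixPtsF_spec W_144 3125 103125 relc_144_33 v (by omega) (by omega)
            · rcases Nat.lt_or_ge v 109375 with h | h
              · exact fixPtsF_spec W_144 3125 106250 relc_144_34 v (by omega) (by omega)
              · exact fixPtsF_spec W_144 3125 109375 relc_144_35 v (by omega) (by omega)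
      · rcases Nat.lt_or_ge v 131250 with h | h
        · rcases Nat.lt_or_ge v 121875 with h | h
          · rcases Nat.lt_or_ge v 115625 with h | h
            · exact fixPtsF_spec W_144 3125 112500 relc_144_36 v (by omega) (by omega)
            · rcases Nat.lt_or_ge v 118750 with h | h
              · exact fixPtsF_spec W_144 3125 115625 relc_144_37 v (by omega) (by omega)
              · exact fixPtsF_spec W_144 3125 118750 relc_144_38 v (by omega) (by omega)
          · rcases Nat.lt_or_ge v 125000 with h | h
            · exact fixPtsF_spec W_144 3125 121875 relc_144_39 v (by omega) (by omega)
            · rcases Nat.lt_or_ge v 128125 with h | h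
              · exact fixPtsF_spec W_144 3125 125000 relc_144_40 v (by omega) (by omega)
              · exact fixPtsF_spec W_144 3125 128125 relc_144_41 v (by omega) (by omega)
        · rcases Nat.lt_or_ge v 140625 with h | h
          · rcases Nat.lt_or_ge v 134375 with h | h
            · exact fixPtsF_spec W_144 3125 131250 relc_144_42 v (by omega) (by omega)
            · rcases Nat.lt_or_ge v 137500 with h | h
              · exact fixPtsF_spec W_144 3125 134375 relc_144_43 v (by omega) (by omega)
              · exact fixPtsF_spec W_144 3125 137500 relc_144_44 v (by omega) (by omega)
          · rcases Nat.lt_or_ge v 146875 with h | h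
            · rcases Nat.lt_or_ge v 143750 with h | h
              · exact fixPtsF_spec W_144 3125 140625 relc_144_45 v (by omega) (by omega)
              · exact fixPtsF_spec W_144 3125 143750 relc_144_46 v (by omega) (by omega)
            · rcases Nat.lt_or_ge v 150000 with h | h
              · exact fixPtsF_spec W_144 3125 146875 relc_144_47 v (by omega) (by omega)
              · exact fixPtsF_spec W_144 3125 150000 relc_144_48 v (by omega) (by omega)
  · rcases Nat.lt_or_ge v 231250 with h | h
    · rcases Nat.lt_or_ge v 190625 with h | h
      · rcases Nat.lt_or_ge v 171875 with h | h
        · rcases Nat.lt_or_ge v 162500 with h | h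
          · rcases Nat.lt_or_ge v 156250 with h | h
            · exact fixPtsF_spec W_144 3125 153125 relc_144_49 v (by omega) (by omega)
            · rcases Nat.lt_or_ge v 159375 with h | h
              · exact fixPtsF_spec W_144 3125 156250 relc_144_50 v (by omega) (by omega)
              · exact fixPtsF_spec W_144 3125 159375 relc_144_51 v (by omega) (by omega)
          · rcases Nat.lt_or_ge v 165625 with h | h
            · exact fixPtsF_spec W_144 3125 162500 relc_144_52 v (by omega) (by omega)
            · rcases Nat.lt_or_ge v 168750 with h | h
              · exact fixPtsF_spec W_144 3125 165625 relc_144_53 v (by omega) (by omega)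
              · exact fixPtsF_spec W_144 3125 168750 relc_144_54 v (by omega) (by omega)
        · rcases Nat.lt_or_ge v 181250 with h | h
          · rcases Nat.lt_or_ge v 175000 with h | h
            · exact fixPtsF_spec W_144 3125 171875 relc_144_55 v (by omega) (by omega)
            · rcases Nat.lt_or_ge v 178125 with h | h
              · exact fixPtsF_spec W_144 3125 175000 relc_144_56 v (by omega) (by omega)
              · exact fixPtsF_spec W_144 3125 178125 relc_144_57 v (by omega) (by omega)
          · rcases Nat.lt_or_ge v 184375 with h | h
            · exact fixPtsF_spec W_144 3125 181250 relc_144_58 v (by omega) (by omega)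
            · rcases Nat.lt_or_ge v 187500 with h | h
              · exact fixPtsF_spec W_144 3125 184375 relc_144_59 v (by omega) (by omega)
              · exact fixPtsF_spec W_144 3125 187500 relc_144_60 v (by omega) (by omega)
      · rcases Nat.lt_or_ge v 209375 with h | h
        · rcases Nat.lt_or_ge v 200000 with h | h
          · rcases Nat.lt_or_ge v 193750 with h | h
            · exact fixPtsF_spec W_144 3125 190625 relc_144_61 v (by omega) (by omega)
            · rcases Nat.lt_or_ge v 196875 with h | h
              · exact fixPtsF_spec W_144 3125 193750 relc_144_62 v (by omega) (by omega)
              · exact fixPtsF_spec W_144 3125 196875 relc_144_63 v (by omega) (by omega)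
          · rcases Nat.lt_or_ge v 203125 with h | h
            · exact fixPtsF_spec W_144 3125 200000 relc_144_64 v (by omega) (by omega)
            · rcases Nat.lt_or_ge v 206250 with h | h
              · exact fixPtsF_spec W_144 3125 203125 relc_144_65 v (by omega) (by omega)
              · exact fixPtsF_spec W_144 3125 206250 relc_144_66 v (by omega) (by omega)
        · rcases Nat.lt_or_ge v 218750 with h | h
          · rcases Nat.lt_or_ge v 212500 with h | h
            · exact fixPtsF_spec W_144 3125 209375 relc_144_67 v (by omega) (by omega)
            · rcases Nat.lt_or_ge v 215625 with h | h
              · exact fixPtsF_spec W_144 3125 212500 relc_144_68 v (by omega) (by omega)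
              · exact fixPtsF_spec W_144 3125 215625 relc_144_69 v (by omega) (by omega)
          · rcases Nat.lt_or_ge v 225000 with h | h
            · rcases Nat.lt_or_ge v 221875 with h | h
              · exact fixPtsF_spec W_144 3125 218750 relc_144_70 v (by omega) (by omega)
              · exact fixPtsF_spec W_144 3125 221875 relc_144_71 v (by omega) (by omega)
            · rcases Nat.lt_or_ge v 228125 with h | h
              · exact fixPtsF_spec W_144 3125 225000 relc_144_72 v (by omega) (by omega)
              · exact fixPtsF_spec W_144 3125 228125 relc_144_73 v (by omega) (by omega)
    · rcases Nat.lt_or_ge v 268750 with h | h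
      · rcases Nat.lt_or_ge v 250000 with h | h
        · rcases Nat.lt_or_ge v 240625 with h | h
          · rcases Nat.lt_or_ge v 234375 with h | h
            · exact fixPtsF_spec W_144 3125 231250 relc_144_74 v (by omega) (by omega)
            · rcases Nat.lt_or_ge v 237500 with h | h
              · exact fixPtsF_spec W_144 3125 234375 relc_144_75 v (by omega) (by omega)
              · exact fixPtsF_spec W_144 3125 237500 relc_144_76 v (by omega) (by omega)
          · rcases Nat.lt_or_ge v 243750 with h | h
            · exact fixPtsF_spec W_144 3125 240625 relc_144_77 v (by omega) (by omega)
            · rcases Nat.lt_or_ge v 246875 with h | h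
              · exact fixPtsF_spec W_144 3125 243750 relc_144_78 v (by omega) (by omega)
              · exact fixPtsF_spec W_144 3125 246875 relc_144_79 v (by omega) (by omega)
        · rcases Nat.lt_or_ge v 259375 with h | h
          · rcases Nat.lt_or_ge v 253125 with h | h
            · exact fixPtsF_spec W_144 3125 250000 relc_144_80 v (by omega) (by omega)
            · rcases Nat.lt_or_ge v 256250 with h | h
              · exact fixPtsF_spec W_144 3125 253125 relc_144_81 v (by omega) (by omega)
              · exact fixPtsF_spec W_144 3125 256250 relc_144_82 v (by omega) (by omega)
          · rcases Nat.lt_or_ge v 262500 with h | h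
            · exact fixPtsF_spec W_144 3125 259375 relc_144_83 v (by omega) (by omega)
            · rcases Nat.lt_or_ge v 265625 with h | h
              · exact fixPtsF_spec W_144 3125 262500 relc_144_84 v (by omega) (by omega)
              · exact fixPtsF_spec W_144 3125 265625 relc_144_85 v (by omega) (by omega)
      · rcases Nat.lt_or_ge v 287500 with h | h
        · rcases Nat.lt_or_ge v 278125 with h | h
          · rcases Nat.lt_or_ge v 271875 with h | h
            · exact fixPtsF_spec W_144 3125 268750 relc_144_86 v (by omega) (by omega)
            · rcases Nat.lt_or_ge v 275000 with h | h
              · exact fixPtsF_spec W_144 3125 271875 relc_144_87 v (by omega) (by omega)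
              · exact fixPtsF_spec W_144 3125 275000 relc_144_88 v (by omega) (by omega)
          · rcases Nat.lt_or_ge v 281250 with h | h
            · exact fixPtsF_spec W_144 3125 278125 relc_144_89 v (by omega) (by omega)
            · rcases Nat.lt_or_ge v 284375 with h | h
              · exact fixPtsF_spec W_144 3125 281250 relc_144_90 v (by omega) (by omega)
              · exact fixPtsF_spec W_144 3125 284375 relc_144_91 v (by omega) (by omega)
        · rcases Nat.lt_or_ge v 296875 with h | h
          · rcases Nat.lt_or_ge v 290625 with h | h
            · exact fixPtsF_spec W_144 3125 287500 relc_144_92 v (by omega) (by omega)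
            · rcases Nat.lt_or_ge v 293750 with h | h
              · exact fixPtsF_spec W_144 3125 290625 relc_144_93 v (by omega) (by omega)
              · exact fixPtsF_spec W_144 3125 293750 relc_144_94 v (by omega) (by omega)
          · rcases Nat.lt_or_ge v 303125 with h | h
            · rcases Nat.lt_or_ge v 300000 with h | h
              · exact fixPtsF_spec W_144 3125 296875 relc_144_95 v (by omega) (by omega)
              · exact fixPtsF_spec W_144 3125 300000 relc_144_96 v (by omega) (by omega)
            · rcases Nat.lt_or_ge v 306250 with h | h
              · exact fixPtsF_spec W_144 3125 303125 relc_144_97 v (by omega) (by omega)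
              · exact fixPtsF_spec W_144 686 306250 relc_144_98 v (by omega) (by omega)

set_option maxRecDepth 1000000 in
theorem walk_144 : ∀ v, walkT ctF (D.wlen 144) (D.wordP 144) v = W_144 v := by
  intro v
  simp only [W_144, forceL_eq]
  rfl

theorem relw_144 : ∀ v, v < 306936 → walkT ctF (D.wlen 144) (D.wordP 144) v = v := by
  intro v hv
  rw [walk_144]
  exact relf_144 v hv

theorem relf_145 : ∀ v, v < 306936 → W_145 v = v := by
  intro v hv
  rcases Nat.lt_or_ge v 153720 with h | h
  · rcases Nat.lt_or_ge v 76440 with h | h
    · rcases Nat.lt_or_ge v 37800 with h | h
      · rcases Nat.lt_or_ge v 18480 with h | h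
        · rcases Nat.lt_or_ge v 9240 with h | h
          · rcases Nat.lt_or_ge v 4200 with h | h
            · rcases Nat.lt_or_ge v 1680 with h | h
              · rcases Nat.lt_or_ge v 840 with h | h
                · exact fixPtsF_spec W_145 840 0 relc_145_0 v (by omega) (by omega)
                · exact fixPtsF_spec W_145 840 840 relc_145_1 v (by omega) (by omega)
              · rcases Nat.lt_or_ge v 2520 with h | h
                · exact fixPtsF_spec W_145 840 1680 relc_145_2 v (by omega) (by omega)
                · rcases Nat.lt_or_ge v 3360 with h | h
                  · exact fixPtsF_spec W_145 840 2520 relc_145_3 v (by omega) (by omega)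
                  · exact fixPtsF_spec W_145 840 3360 relc_145_4 v (by omega) (by omega)
            · rcases Nat.lt_or_ge v 6720 with h | h
              · rcases Nat.lt_or_ge v 5040 with h | h
                · exact fixPtsF_spec W_145 840 4200 relc_145_5 v (by omega) (by omega)
                · rcases Nat.lt_or_ge v 5880 with h | h
                  · exact fixPtsF_spec W_145 840 5040 relc_145_6 v (by omega) (by omega)
                  · exact fixPtsF_spec W_145 840 5880 relc_145_7 v (by omega) (by omega)
              · rcases Nat.lt_or_ge v 7560 with h | h
                · exact fixPtsF_spec W_145 840 6720 relc_145_8 v (by omega) (by omega)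
                · rcases Nat.lt_or_ge v 8400 with h | h
                  · exact fixPtsF_spec W_145 840 7560 relc_145_9 v (by omega) (by omega)
                  · exact fixPtsF_spec W_145 840 8400 relc_145_10 v (by omega) (by omega)
          · rcases Nat.lt_or_ge v 13440 with h | h
            · rcases Nat.lt_or_ge v 10920 with h | h
              · rcases Nat.lt_or_ge v 10080 with h | h
                · exact fixPtsF_spec W_145 840 9240 relc_145_11 v (by omega) (by omega)
                · exact fixPtsF_spec W_145 840 10080 relc_145_12 v (by omega) (by omega)
              · rcases Nat.lt_or_ge v 11760 with h | h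
                · exact fixPtsF_spec W_145 840 10920 relc_145_13 v (by omega) (by omega)
                · rcases Nat.lt_or_ge v 12600 with h | h
                  · exact fixPtsF_spec W_145 840 11760 relc_145_14 v (by omega) (by omega)
                  · exact fixPtsF_spec W_145 840 12600 relc_145_15 v (by omega) (by omega)
            · rcases Nat.lt_or_ge v 15960 with h | h
              · rcases Nat.lt_or_ge v 14280 with h | h
                · exact fixPtsF_spec W_145 840 13440 relc_145_16 v (by omega) (by omega)
                · rcases Nat.lt_or_ge v 15120 with h | h
                  · exact fixPtsF_spec W_145 840 14280 relc_145_17 v (by omega) (by omega)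
                  · exact fixPtsF_spec W_145 840 15120 relc_145_18 v (by omega) (by omega)
              · rcases Nat.lt_or_ge v 16800 with h | h
                · exact fixPtsF_spec W_145 840 15960 relc_145_19 v (by omega) (by omega)
                · rcases Nat.lt_or_ge v 17640 with h | h
                  · exact fixPtsF_spec W_145 840 16800 relc_145_20 v (by omega) (by omega)
                  · exact fixPtsF_spec W_145 840 17640 relc_145_21 v (by omega) (by omega)
        · rcases Nat.lt_or_ge v 27720 with h | h
          · rcases Nat.lt_or_ge v 22680 with h | h
            · rcases Nat.lt_or_ge v 20160 with h | h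
              · rcases Nat.lt_or_ge v 19320 with h | h
                · exact fixPtsF_spec W_145 840 18480 relc_145_22 v (by omega) (by omega)
                · exact fixPtsF_spec W_145 840 19320 relc_145_23 v (by omega) (by omega)
              · rcases Nat.lt_or_ge v 21000 with h | h
                · exact fixPtsF_spec W_145 840 20160 relc_145_24 v (by omega) (by omega)
                · rcases Nat.lt_or_ge v 21840 with h | h
                  · exact fixPtsF_spec W_145 840 21000 relc_145_25 v (by omega) (by omega)
                  · exact fixPtsF_spec W_145 840 21840 relc_145_26 v (by omega) (by omega)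
            · rcases Nat.lt_or_ge v 25200 with h | h
              · rcases Nat.lt_or_ge v 23520 with h | h
                · exact fixPtsF_spec W_145 840 22680 relc_145_27 v (by omega) (by omega)
                · rcases Nat.lt_or_ge v 24360 with h | h
                  · exact fixPtsF_spec W_145 840 23520 relc_145_28 v (by omega) (by omega)
                  · exact fixPtsF_spec W_145 840 24360 relc_145_29 v (by omega) (by omega)
              · rcases Nat.lt_or_ge v 26040 with h | h
                · exact fixPtsF_spec W_145 840 25200 relc_145_30 v (by omega) (by omega)
                · rcases Nat.lt_or_ge v 26880 with h | h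
                  · exact fixPtsF_spec W_145 840 26040 relc_145_31 v (by omega) (by omega)
                  · exact fixPtsF_spec W_145 840 26880 relc_145_32 v (by omega) (by omega)
          · rcases Nat.lt_or_ge v 32760 with h | h
            · rcases Nat.lt_or_ge v 30240 with h | h
              · rcases Nat.lt_or_ge v 28560 with h | h
                · exact fixPtsF_spec W_145 840 27720 relc_145_33 v (by omega) (by omega)
                · rcases Nat.lt_or_ge v 29400 with h | h
                  · exact fixPtsF_spec W_145 840 28560 relc_145_34 v (by omega) (by omega)
                  · exact fixPtsF_spec W_145 840 29400 relc_145_35 v (by omega) (by omega)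
              · rcases Nat.lt_or_ge v 31080 with h | h
                · exact fixPtsF_spec W_145 840 30240 relc_145_36 v (by omega) (by omega)
                · rcases Nat.lt_or_ge v 31920 with h | h
                  · exact fixPtsF_spec W_145 840 31080 relc_145_37 v (by omega) (by omega)
                  · exact fixPtsF_spec W_145 840 31920 relc_145_38 v (by omega) (by omega)
            · rcases Nat.lt_or_ge v 35280 with h | h
              · rcases Nat.lt_or_ge v 33600 with h | h
                · exact fixPtsF_spec W_145 840 32760 relc_145_39 v (by omega) (by omega)
                · rcases Nat.lt_or_ge v 34440 with h | h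
                  · exact fixPtsF_spec W_145 840 33600 relc_145_40 v (by omega) (by omega)
                  · exact fixPtsF_spec W_145 840 34440 relc_145_41 v (by omega) (by omega)
              · rcases Nat.lt_or_ge v 36120 with h | h
                · exact fixPtsF_spec W_145 840 35280 relc_145_42 v (by omega) (by omega)
                · rcases Nat.lt_or_ge v 36960 with h | h
                  · exact fixPtsF_spec W_145 840 36120 relc_145_43 v (by omega) (by omega)
                  · exact fixPtsF_spec W_145 840 36960 relc_145_44 v (by omega) (by omega)
      · rcases Nat.lt_or_ge v 57120 with h | h
        · rcases Nat.lt_or_ge v 47040 with h | h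
          · rcases Nat.lt_or_ge v 42000 with h | h
            · rcases Nat.lt_or_ge v 39480 with h | h
              · rcases Nat.lt_or_ge v 38640 with h | h
                · exact fixPtsF_spec W_145 840 37800 relc_145_45 v (by omega) (by omega)
                · exact fixPtsF_spec W_145 840 38640 relc_145_46 v (by omega) (by omega)
              · rcases Nat.lt_or_ge v 40320 with h | h
                · exact fixPtsF_spec W_145 840 39480 relc_145_47 v (by omega) (by omega)
                · rcases Nat.lt_or_ge v 41160 with h | h
                  · exact fixPtsF_spec W_145 840 40320 relc_145_48 v (by omega) (by omega)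
                  · exact fixPtsF_spec W_145 840 41160 relc_145_49 v (by omega) (by omega)
            · rcases Nat.lt_or_ge v 44520 with h | h
              · rcases Nat.lt_or_ge v 42840 with h | h
                · exact fixPtsF_spec W_145 840 42000 relc_145_50 v (by omega) (by omega)
                · rcases Nat.lt_or_ge v 43680 with h | h
                  · exact fixPtsF_spec W_145 840 42840 relc_145_51 v (by omega) (by omega)
                  · exact fixPtsF_spec W_145 840 43680 relc_145_52 v (by omega) (by omega)
              · rcases Nat.lt_or_ge v 45360 with h | h
                · exact fixPtsF_spec W_145 840 44520 relc_145_53 v (by omega) (by omega)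
                · rcases Nat.lt_or_ge v 46200 with h | h
                  · exact fixPtsF_spec W_145 840 45360 relc_145_54 v (by omega) (by omega)
                  · exact fixPtsF_spec W_145 840 46200 relc_145_55 v (by omega) (by omega)
          · rcases Nat.lt_or_ge v 52080 with h | h
            · rcases Nat.lt_or_ge v 49560 with h | h
              · rcases Nat.lt_or_ge v 47880 with h | h
                · exact fixPtsF_spec W_145 840 47040 relc_145_56 v (by omega) (by omega)
                · rcases Nat.lt_or_ge v 48720 with h | h
                  · exact fixPtsF_spec W_145 840 47880 relc_145_57 v (by omega) (by omega)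
                  · exact fixPtsF_spec W_145 840 48720 relc_145_58 v (by omega) (by omega)
              · rcases Nat.lt_or_ge v 50400 with h | h
                · exact fixPtsF_spec W_145 840 49560 relc_145_59 v (by omega) (by omega)
                · rcases Nat.lt_or_ge v 51240 with h | h
                  · exact fixPtsF_spec W_145 840 50400 relc_145_60 v (by omega) (by omega)
                  · exact fixPtsF_spec W_145 840 51240 relc_145_61 v (by omega) (by omega)
            · rcases Nat.lt_or_ge v 54600 with h | h
              · rcases Nat.lt_or_ge v 52920 with h | h
                · exact fixPtsF_spec W_145 840 52080 relc_145_62 v (by omega) (by omega)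
                · rcases Nat.lt_or_ge v 53760 with h | h
                  · exact fixPtsF_spec W_145 840 52920 relc_145_63 v (by omega) (by omega)
                  · exact fixPtsF_spec W_145 840 53760 relc_145_64 v (by omega) (by omega)
              · rcases Nat.lt_or_ge v 55440 with h | h
                · exact fixPtsF_spec W_145 840 54600 relc_145_65 v (by omega) (by omega)
                · rcases Nat.lt_or_ge v 56280 with h | h
                  · exact fixPtsF_spec W_145 840 55440 relc_145_66 v (by omega) (by omega)
                  · exact fixPtsF_spec W_145 840 56280 relc_145_67 v (by omega) (by omega)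
        · rcases Nat.lt_or_ge v 66360 with h | h
          · rcases Nat.lt_or_ge v 61320 with h | h
            · rcases Nat.lt_or_ge v 58800 with h | h
              · rcases Nat.lt_or_ge v 57960 with h | h
                · exact fixPtsF_spec W_145 840 57120 relc_145_68 v (by omega) (by omega)
                · exact fixPtsF_spec W_145 840 57960 relc_145_69 v (by omega) (by omega)
              · rcases Nat.lt_or_ge v 59640 with h | h
                · exact fixPtsF_spec W_145 840 58800 relc_145_70 v (by omega) (by omega)
                · rcases Nat.lt_or_ge v 60480 with h | h
                  · exact fixPtsF_spec W_145 840 59640 relc_145_71 v (by omega) (by omega)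
                  · exact fixPtsF_spec W_145 840 60480 relc_145_72 v (by omega) (by omega)
            · rcases Nat.lt_or_ge v 63840 with h | h
              · rcases Nat.lt_or_ge v 62160 with h | h
                · exact fixPtsF_spec W_145 840 61320 relc_145_73 v (by omega) (by omega)
                · rcases Nat.lt_or_ge v 63000 with h | h
                  · exact fixPtsF_spec W_145 840 62160 relc_145_74 v (by omega) (by omega)
                  · exact fixPtsF_spec W_145 840 63000 relc_145_75 v (by omega) (by omega)
              · rcases Nat.lt_or_ge v 64680 with h | h
                · exact fixPtsF_spec W_145 840 63840 relc_145_76 v (by omega) (by omega)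
                · rcases Nat.lt_or_ge v 65520 with h | h
                  · exact fixPtsF_spec W_145 840 64680 relc_145_77 v (by omega) (by omega)
                  · exact fixPtsF_spec W_145 840 65520 relc_145_78 v (by omega) (by omega)
          · rcases Nat.lt_or_ge v 71400 with h | h
            · rcases Nat.lt_or_ge v 68880 with h | h
              · rcases Nat.lt_or_ge v 67200 with h | h
                · exact fixPtsF_spec W_145 840 66360 relc_145_79 v (by omega) (by omega)
                · rcases Nat.lt_or_ge v 68040 with h | h
                  · exact fixPtsF_spec W_145 840 67200 relc_145_80 v (by omega) (by omega)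
                  · exact fixPtsF_spec W_145 840 68040 relc_145_81 v (by omega) (by omega)
              · rcases Nat.lt_or_ge v 69720 with h | h
                · exact fixPtsF_spec W_145 840 68880 relc_145_82 v (by omega) (by omega)
                · rcases Nat.lt_or_ge v 70560 with h | h
                  · exact fixPtsF_spec W_145 840 69720 relc_145_83 v (by omega) (by omega)
                  · exact fixPtsF_spec W_145 840 70560 relc_145_84 v (by omega) (by omega)
            · rcases Nat.lt_or_ge v 73920 with h | h
              · rcases Nat.lt_or_ge v 72240 with h | h
                · exact fixPtsF_spec W_145 840 71400 relc_145_85 v (by omega) (by omega)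
                · rcases Nat.lt_or_ge v 73080 with h | h
                  · exact fixPtsF_spec W_145 840 72240 relc_145_86 v (by omega) (by omega)
                  · exact fixPtsF_spec W_145 840 73080 relc_145_87 v (by omega) (by omega)
              · rcases Nat.lt_or_ge v 74760 with h | h
                · exact fixPtsF_spec W_145 840 73920 relc_145_88 v (by omega) (by omega)
                · rcases Nat.lt_or_ge v 75600 with h | h
                  · exact fixPtsF_spec W_145 840 74760 relc_145_89 v (by omega) (by omega)
                  · exact fixPtsF_spec W_145 840 75600 relc_145_90 v (by omega) (by omega)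
    · rcases Nat.lt_or_ge v 115080 with h | h
      · rcases Nat.lt_or_ge v 95760 with h | h
        · rcases Nat.lt_or_ge v 85680 with h | h
          · rcases Nat.lt_or_ge v 80640 with h | h
            · rcases Nat.lt_or_ge v 78120 with h | h
              · rcases Nat.lt_or_ge v 77280 with h | h
                · exact fixPtsF_spec W_145 840 76440 relc_145_91 v (by omega) (by omega)
                · exact fixPtsF_spec W_145 840 77280 relc_145_92 v (by omega) (by omega)
              · rcases Nat.lt_or_ge v 78960 with h | h
                · exact fixPtsF_spec W_145 840 78120 relc_145_93 v (by omega) (by omega)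
                · rcases Nat.lt_or_ge v 79800 with h | h
                  · exact fixPtsF_spec W_145 840 78960 relc_145_94 v (by omega) (by omega)
                  · exact fixPtsF_spec W_145 840 79800 relc_145_95 v (by omega) (by omega)
            · rcases Nat.lt_or_ge v 83160 with h | h
              · rcases Nat.lt_or_ge v 81480 with h | h
                · exact fixPtsF_spec W_145 840 80640 relc_145_96 v (by omega) (by omega)
                · rcases Nat.lt_or_ge v 82320 with h | h
                  · exact fixPtsF_spec W_145 840 81480 relc_145_97 v (by omega) (by omega)
                  · exact fixPtsF_spec W_145 840 82320 relc_145_98 v (by omega) (by omega)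
              · rcases Nat.lt_or_ge v 84000 with h | h
                · exact fixPtsF_spec W_145 840 83160 relc_145_99 v (by omega) (by omega)
                · rcases Nat.lt_or_ge v 84840 with h | h
                  · exact fixPtsF_spec W_145 840 84000 relc_145_100 v (by omega) (by omega)
                  · exact fixPtsF_spec W_145 840 84840 relc_145_101 v (by omega) (by omega)
          · rcases Nat.lt_or_ge v 90720 with h | h
            · rcases Nat.lt_or_ge v 88200 with h | h
              · rcases Nat.lt_or_ge v 86520 with h | h
                · exact fixPtsF_spec W_145 840 85680 relc_145_102 v (by omega) (by omega)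
                · rcases Nat.lt_or_ge v 87360 with h | h
                  · exact fixPtsF_spec W_145 840 86520 relc_145_103 v (by omega) (by omega)
                  · exact fixPtsF_spec W_145 840 87360 relc_145_104 v (by omega) (by omega)
              · rcases Nat.lt_or_ge v 89040 with h | h
                · exact fixPtsF_spec W_145 840 88200 relc_145_105 v (by omega) (by omega)
                · rcases Nat.lt_or_ge v 89880 with h | h
                  · exact fixPtsF_spec W_145 840 89040 relc_145_106 v (by omega) (by omega)
                  · exact fixPtsF_spec W_145 840 89880 relc_145_107 v (by omega) (by omega)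
            · rcases Nat.lt_or_ge v 93240 with h | h
              · rcases Nat.lt_or_ge v 91560 with h | h
                · exact fixPtsF_spec W_145 840 90720 relc_145_108 v (by omega) (by omega)
                · rcases Nat.lt_or_ge v 92400 with h | h
                  · exact fixPtsF_spec W_145 840 91560 relc_145_109 v (by omega) (by omega)
                  · exact fixPtsF_spec W_145 840 92400 relc_145_110 v (by omega) (by omega)
              · rcases Nat.lt_or_ge v 94080 with h | h
                · exact fixPtsF_spec W_145 840 93240 relc_145_111 v (by omega) (by omega)
                · rcases Nat.lt_or_ge v 94920 with h | h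
                  · exact fixPtsF_spec W_145 840 94080 relc_145_112 v (by omega) (by omega)
                  · exact fixPtsF_spec W_145 840 94920 relc_145_113 v (by omega) (by omega)
        · rcases Nat.lt_or_ge v 105000 with h | h
          · rcases Nat.lt_or_ge v 99960 with h | h
            · rcases Nat.lt_or_ge v 97440 with h | h
              · rcases Nat.lt_or_ge v 96600 with h | h
                · exact fixPtsF_spec W_145 840 95760 relc_145_114 v (by omega) (by omega)
                · exact fixPtsF_spec W_145 840 96600 relc_145_115 v (by omega) (by omega)
              · rcases Nat.lt_or_ge v 98280 with h | h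
                · exact fixPtsF_spec W_145 840 97440 relc_145_116 v (by omega) (by omega)
                · rcases Nat.lt_or_ge v 99120 with h | h
                  · exact fixPtsF_spec W_145 840 98280 relc_145_117 v (by omega) (by omega)
                  · exact fixPtsF_spec W_145 840 99120 relc_145_118 v (by omega) (by omega)
            · rcases Nat.lt_or_ge v 102480 with h | h
              · rcases Nat.lt_or_ge v 100800 with h | h
                · exact fixPtsF_spec W_145 840 99960 relc_145_119 v (by omega) (by omega)
                · rcases Nat.lt_or_ge v 101640 with h | h
                  · exact fixPtsF_spec W_145 840 100800 relc_145_120 v (by omega) (by omega)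
                  · exact fixPtsF_spec W_145 840 101640 relc_145_121 v (by omega) (by omega)
              · rcases Nat.lt_or_ge v 103320 with h | h
                · exact fixPtsF_spec W_145 840 102480 relc_145_122 v (by omega) (by omega)
                · rcases Nat.lt_or_ge v 104160 with h | h
                  · exact fixPtsF_spec W_145 840 103320 relc_145_123 v (by omega) (by omega)
                  · exact fixPtsF_spec W_145 840 104160 relc_145_124 v (by omega) (by omega)
          · rcases Nat.lt_or_ge v 110040 with h | h
            · rcases Nat.lt_or_ge v 107520 with h | h
              · rcases Nat.lt_or_ge v 105840 with h | h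
                · exact fixPtsF_spec W_145 840 105000 relc_145_125 v (by omega) (by omega)
                · rcases Nat.lt_or_ge v 106680 with h | h
                  · exact fixPtsF_spec W_145 840 105840 relc_145_126 v (by omega) (by omega)
                  · exact fixPtsF_spec W_145 840 106680 relc_145_127 v (by omega) (by omega)
              · rcases Nat.lt_or_ge v 108360 with h | h
                · exact fixPtsF_spec W_145 840 107520 relc_145_128 v (by omega) (by omega)
                · rcases Nat.lt_or_ge v 109200 with h | h
                  · exact fixPtsF_spec W_145 840 108360 relc_145_129 v (by omega) (by omega)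
                  · exact fixPtsF_spec W_145 840 109200 relc_145_130 v (by omega) (by omega)
            · rcases Nat.lt_or_ge v 112560 with h | h
              · rcases Nat.lt_or_ge v 110880 with h | h
                · exact fixPtsF_spec W_145 840 110040 relc_145_131 v (by omega) (by omega)
                · rcases Nat.lt_or_ge v 111720 with h | h
                  · exact fixPtsF_spec W_145 840 110880 relc_145_132 v (by omega) (by omega)
                  · exact fixPtsF_spec W_145 840 111720 relc_145_133 v (by omega) (by omega)
              · rcases Nat.lt_or_ge v 113400 with h | h
                · exact fixPtsF_spec W_145 840 112560 relc_145_134 v (by omega) (by omega)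
                · rcases Nat.lt_or_ge v 114240 with h | h
                  · exact fixPtsF_spec W_145 840 113400 relc_145_135 v (by omega) (by omega)
                  · exact fixPtsF_spec W_145 840 114240 relc_145_136 v (by omega) (by omega)
      · rcases Nat.lt_or_ge v 134400 with h | h
        · rcases Nat.lt_or_ge v 124320 with h | h
          · rcases Nat.lt_or_ge v 119280 with h | h
            · rcases Nat.lt_or_ge v 116760 with h | h
              · rcases Nat.lt_or_ge v 115920 with h | h
                · exact fixPtsF_spec W_145 840 115080 relc_145_137 v (by omega) (by omega)
                · exact fixPtsF_spec W_145 840 115920 relc_145_138 v (by omega) (by omega)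
              · rcases Nat.lt_or_ge v 117600 with h | h
                · exact fixPtsF_spec W_145 840 116760 relc_145_139 v (by omega) (by omega)
                · rcases Nat.lt_or_ge v 118440 with h | h
                  · exact fixPtsF_spec W_145 840 117600 relc_145_140 v (by omega) (by omega)
                  · exact fixPtsF_spec W_145 840 118440 relc_145_141 v (by omega) (by omega)
            · rcases Nat.lt_or_ge v 121800 with h | h
              · rcases Nat.lt_or_ge v 120120 with h | h
                · exact fixPtsF_spec W_145 840 119280 relc_145_142 v (by omega) (by omega)
                · rcases Nat.lt_or_ge v 120960 with h | h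
                  · exact fixPtsF_spec W_145 840 120120 relc_145_143 v (by omega) (by omega)
                  · exact fixPtsF_spec W_145 840 120960 relc_145_144 v (by omega) (by omega)
              · rcases Nat.lt_or_ge v 122640 with h | h
                · exact fixPtsF_spec W_145 840 121800 relc_145_145 v (by omega) (by omega)
                · rcases Nat.lt_or_ge v 123480 with h | h
                  · exact fixPtsF_spec W_145 840 122640 relc_145_146 v (by omega) (by omega)
                  · exact fixPtsF_spec W_145 840 123480 relc_145_147 v (by omega) (by omega)
          · rcases Nat.lt_or_ge v 129360 with h | h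
            · rcases Nat.lt_or_ge v 126840 with h | h
              · rcases Nat.lt_or_ge v 125160 with h | h
                · exact fixPtsF_spec W_145 840 124320 relc_145_148 v (by omega) (by omega)
                · rcases Nat.lt_or_ge v 126000 with h | h
                  · exact fixPtsF_spec W_145 840 125160 relc_145_149 v (by omega) (by omega)
                  · exact fixPtsF_spec W_145 840 126000 relc_145_150 v (by omega) (by omega)
              · rcases Nat.lt_or_ge v 127680 with h | h
                · exact fixPtsF_spec W_145 840 126840 relc_145_151 v (by omega) (by omega)
                · rcases Nat.lt_or_ge v 128520 with h | h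
                  · exact fixPtsF_spec W_145 840 127680 relc_145_152 v (by omega) (by omega)
                  · exact fixPtsF_spec W_145 840 128520 relc_145_153 v (by omega) (by omega)
            · rcases Nat.lt_or_ge v 131880 with h | h
              · rcases Nat.lt_or_ge v 130200 with h | h
                · exact fixPtsF_spec W_145 840 129360 relc_145_154 v (by omega) (by omega)
                · rcases Nat.lt_or_ge v 131040 with h | h
                  · exact fixPtsF_spec W_145 840 130200 relc_145_155 v (by omega) (by omega)
                  · exact fixPtsF_spec W_145 840 131040 relc_145_156 v (by omega) (by omega)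
              · rcases Nat.lt_or_ge v 132720 with h | h
                · exact fixPtsF_spec W_145 840 131880 relc_145_157 v (by omega) (by omega)
                · rcases Nat.lt_or_ge v 133560 with h | h
                  · exact fixPtsF_spec W_145 840 132720 relc_145_158 v (by omega) (by omega)
                  · exact fixPtsF_spec W_145 840 133560 relc_145_159 v (by omega) (by omega)
        · rcases Nat.lt_or_ge v 143640 with h | h
          · rcases Nat.lt_or_ge v 138600 with h | h
            · rcases Nat.lt_or_ge v 136080 with h | h
              · rcases Nat.lt_or_ge v 135240 with h | h
                · exact fixPtsF_spec W_145 840 134400 relc_145_160 v (by omega) (by omega)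
                · exact fixPtsF_spec W_145 840 135240 relc_145_161 v (by omega) (by omega)
              · rcases Nat.lt_or_ge v 136920 with h | h
                · exact fixPtsF_spec W_145 840 136080 relc_145_162 v (by omega) (by omega)
                · rcases Nat.lt_or_ge v 137760 with h | h
                  · exact fixPtsF_spec W_145 840 136920 relc_145_163 v (by omega) (by omega)
                  · exact fixPtsF_spec W_145 840 137760 relc_145_164 v (by omega) (by omega)
            · rcases Nat.lt_or_ge v 141120 with h | h
              · rcases Nat.lt_or_ge v 139440 with h | h
                · exact fixPtsF_spec W_145 840 138600 relc_145_165 v (by omega) (by omega)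
                · rcases Nat.lt_or_ge v 140280 with h | h
                  · exact fixPtsF_spec W_145 840 139440 relc_145_166 v (by omega) (by omega)
                  · exact fixPtsF_spec W_145 840 140280 relc_145_167 v (by omega) (by omega)
              · rcases Nat.lt_or_ge v 141960 with h | h
                · exact fixPtsF_spec W_145 840 141120 relc_145_168 v (by omega) (by omega)
                · rcases Nat.lt_or_ge v 142800 with h | h
                  · exact fixPtsF_spec W_145 840 141960 relc_145_169 v (by omega) (by omega)
                  · exact fixPtsF_spec W_145 840 142800 relc_145_170 v (by omega) (by omega)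
          · rcases Nat.lt_or_ge v 148680 with h | h
            · rcases Nat.lt_or_ge v 146160 with h | h
              · rcases Nat.lt_or_ge v 144480 with h | h
                · exact fixPtsF_spec W_145 840 143640 relc_145_171 v (by omega) (by omega)
                · rcases Nat.lt_or_ge v 145320 with h | h
                  · exact fixPtsF_spec W_145 840 144480 relc_145_172 v (by omega) (by omega)
                  · exact fixPtsF_spec W_145 840 145320 relc_145_173 v (by omega) (by omega)
              · rcases Nat.lt_or_ge v 147000 with h | h
                · exact fixPtsF_spec W_145 840 146160 relc_145_174 v (by omega) (by omega)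
                · rcases Nat.lt_or_ge v 147840 with h | h
                  · exact fixPtsF_spec W_145 840 147000 relc_145_175 v (by omega) (by omega)
                  · exact fixPtsF_spec W_145 840 147840 relc_145_176 v (by omega) (by omega)
            · rcases Nat.lt_or_ge v 151200 with h | h
              · rcases Nat.lt_or_ge v 149520 with h | h
                · exact fixPtsF_spec W_145 840 148680 relc_145_177 v (by omega) (by omega)
                · rcases Nat.lt_or_ge v 150360 with h | h
                  · exact fixPtsF_spec W_145 840 149520 relc_145_178 v (by omega) (by omega)
                  · exact fixPtsF_spec W_145 840 150360 relc_145_179 v (by omega) (by omega)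
              · rcases Nat.lt_or_ge v 152040 with h | h
                · exact fixPtsF_spec W_145 840 151200 relc_145_180 v (by omega) (by omega)
                · rcases Nat.lt_or_ge v 152880 with h | h
                  · exact fixPtsF_spec W_145 840 152040 relc_145_181 v (by omega) (by omega)
                  · exact fixPtsF_spec W_145 840 152880 relc_145_182 v (by omega) (by omega)
  · rcases Nat.lt_or_ge v 230160 with h | h
    · rcases Nat.lt_or_ge v 191520 with h | h
      · rcases Nat.lt_or_ge v 172200 with h | h
        · rcases Nat.lt_or_ge v 162960 with h | h
          · rcases Nat.lt_or_ge v 157920 with h | h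
            · rcases Nat.lt_or_ge v 155400 with h | h
              · rcases Nat.lt_or_ge v 154560 with h | h
                · exact fixPtsF_spec W_145 840 153720 relc_145_183 v (by omega) (by omega)
                · exact fixPtsF_spec W_145 840 154560 relc_145_184 v (by omega) (by omega)
              · rcases Nat.lt_or_ge v 156240 with h | h
                · exact fixPtsF_spec W_145 840 155400 relc_145_185 v (by omega) (by omega)
                · rcases Nat.lt_or_ge v 157080 with h | h
                  · exact fixPtsF_spec W_145 840 156240 relc_145_186 v (by omega) (by omega)
                  · exact fixPtsF_spec W_145 840 157080 relc_145_187 v (by omega) (by omega)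
            · rcases Nat.lt_or_ge v 160440 with h | h
              · rcases Nat.lt_or_ge v 158760 with h | h
                · exact fixPtsF_spec W_145 840 157920 relc_145_188 v (by omega) (by omega)
                · rcases Nat.lt_or_ge v 159600 with h | h
                  · exact fixPtsF_spec W_145 840 158760 relc_145_189 v (by omega) (by omega)
                  · exact fixPtsF_spec W_145 840 159600 relc_145_190 v (by omega) (by omega)
              · rcases Nat.lt_or_ge v 161280 with h | h
                · exact fixPtsF_spec W_145 840 160440 relc_145_191 v (by omega) (by omega)
                · rcases Nat.lt_or_ge v 162120 with h | h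
                  · exact fixPtsF_spec W_145 840 161280 relc_145_192 v (by omega) (by omega)
                  · exact fixPtsF_spec W_145 840 162120 relc_145_193 v (by omega) (by omega)
          · rcases Nat.lt_or_ge v 167160 with h | h
            · rcases Nat.lt_or_ge v 164640 with h | h
              · rcases Nat.lt_or_ge v 163800 with h | h
                · exact fixPtsF_spec W_145 840 162960 relc_145_194 v (by omega) (by omega)
                · exact fixPtsF_spec W_145 840 163800 relc_145_195 v (by omega) (by omega)
              · rcases Nat.lt_or_ge v 165480 with h | h
                · exact fixPtsF_spec W_145 840 164640 relc_145_196 v (by omega) (by omega)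
                · rcases Nat.lt_or_ge v 166320 with h | h
                  · exact fixPtsF_spec W_145 840 165480 relc_145_197 v (by omega) (by omega)
                  · exact fixPtsF_spec W_145 840 166320 relc_145_198 v (by omega) (by omega)
            · rcases Nat.lt_or_ge v 169680 with h | h
              · rcases Nat.lt_or_ge v 168000 with h | h
                · exact fixPtsF_spec W_145 840 167160 relc_145_199 v (by omega) (by omega)
                · rcases Nat.lt_or_ge v 168840 with h | h
                  · exact fixPtsF_spec W_145 840 168000 relc_145_200 v (by omega) (by omega)
                  · exact fixPtsF_spec W_145 840 168840 relc_145_201 v (by omega) (by omega)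
              · rcases Nat.lt_or_ge v 170520 with h | h
                · exact fixPtsF_spec W_145 840 169680 relc_145_202 v (by omega) (by omega)
                · rcases Nat.lt_or_ge v 171360 with h | h
                  · exact fixPtsF_spec W_145 840 170520 relc_145_203 v (by omega) (by omega)
                  · exact fixPtsF_spec W_145 840 171360 relc_145_204 v (by omega) (by omega)
        · rcases Nat.lt_or_ge v 181440 with h | h
          · rcases Nat.lt_or_ge v 176400 with h | h
            · rcases Nat.lt_or_ge v 173880 with h | h
              · rcases Nat.lt_or_ge v 173040 with h | h
                · exact fixPtsF_spec W_145 840 172200 relc_145_205 v (by omega) (by omega)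
                · exact fixPtsF_spec W_145 840 173040 relc_145_206 v (by omega) (by omega)
              · rcases Nat.lt_or_ge v 174720 with h | h
                · exact fixPtsF_spec W_145 840 173880 relc_145_207 v (by omega) (by omega)
                · rcases Nat.lt_or_ge v 175560 with h | h
                  · exact fixPtsF_spec W_145 840 174720 relc_145_208 v (by omega) (by omega)
                  · exact fixPtsF_spec W_145 840 175560 relc_145_209 v (by omega) (by omega)
            · rcases Nat.lt_or_ge v 178920 with h | h
              · rcases Nat.lt_or_ge v 177240 with h | h
                · exact fixPtsF_spec W_145 840 176400 relc_145_210 v (by omega) (by omega)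
                · rcases Nat.lt_or_ge v 178080 with h | h
                  · exact fixPtsF_spec W_145 840 177240 relc_145_211 v (by omega) (by omega)
                  · exact fixPtsF_spec W_145 840 178080 relc_145_212 v (by omega) (by omega)
              · rcases Nat.lt_or_ge v 179760 with h | h
                · exact fixPtsF_spec W_145 840 178920 relc_145_213 v (by omega) (by omega)
                · rcases Nat.lt_or_ge v 180600 with h | h
                  · exact fixPtsF_spec W_145 840 179760 relc_145_214 v (by omega) (by omega)
                  · exact fixPtsF_spec W_145 840 180600 relc_145_215 v (by omega) (by omega)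
          · rcases Nat.lt_or_ge v 186480 with h | h
            · rcases Nat.lt_or_ge v 183960 with h | h
              · rcases Nat.lt_or_ge v 182280 with h | h
                · exact fixPtsF_spec W_145 840 181440 relc_145_216 v (by omega) (by omega)
                · rcases Nat.lt_or_ge v 183120 with h | h
                  · exact fixPtsF_spec W_145 840 182280 relc_145_217 v (by omega) (by omega)
                  · exact fixPtsF_spec W_145 840 183120 relc_145_218 v (by omega) (by omega)
              · rcases Nat.lt_or_ge v 184800 with h | h
                · exact fixPtsF_spec W_145 840 183960 relc_145_219 v (by omega) (by omega)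
                · rcases Nat.lt_or_ge v 185640 with h | h
                  · exact fixPtsF_spec W_145 840 184800 relc_145_220 v (by omega) (by omega)
                  · exact fixPtsF_spec W_145 840 185640 relc_145_221 v (by omega) (by omega)
            · rcases Nat.lt_or_ge v 189000 with h | h
              · rcases Nat.lt_or_ge v 187320 with h | h
                · exact fixPtsF_spec W_145 840 186480 relc_145_222 v (by omega) (by omega)
                · rcases Nat.lt_or_ge v 188160 with h | h
                  · exact fixPtsF_spec W_145 840 187320 relc_145_223 v (by omega) (by omega)
                  · exact fixPtsF_spec W_145 840 188160 relc_145_224 v (by omega) (by omega)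
              · rcases Nat.lt_or_ge v 189840 with h | h
                · exact fixPtsF_spec W_145 840 189000 relc_145_225 v (by omega) (by omega)
                · rcases Nat.lt_or_ge v 190680 with h | h
                  · exact fixPtsF_spec W_145 840 189840 relc_145_226 v (by omega) (by omega)
                  · exact fixPtsF_spec W_145 840 190680 relc_145_227 v (by omega) (by omega)
      · rcases Nat.lt_or_ge v 210840 with h | h
        · rcases Nat.lt_or_ge v 200760 with h | h
          · rcases Nat.lt_or_ge v 195720 with h | h
            · rcases Nat.lt_or_ge v 193200 with h | h
              · rcases Nat.lt_or_ge v 192360 with h | h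
                · exact fixPtsF_spec W_145 840 191520 relc_145_228 v (by omega) (by omega)
                · exact fixPtsF_spec W_145 840 192360 relc_145_229 v (by omega) (by omega)
              · rcases Nat.lt_or_ge v 194040 with h | h
                · exact fixPtsF_spec W_145 840 193200 relc_145_230 v (by omega) (by omega)
                · rcases Nat.lt_or_ge v 194880 with h | h
                  · exact fixPtsF_spec W_145 840 194040 relc_145_231 v (by omega) (by omega)
                  · exact fixPtsF_spec W_145 840 194880 relc_145_232 v (by omega) (by omega)
            · rcases Nat.lt_or_ge v 198240 with h | h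
              · rcases Nat.lt_or_ge v 196560 with h | h
                · exact fixPtsF_spec W_145 840 195720 relc_145_233 v (by omega) (by omega)
                · rcases Nat.lt_or_ge v 197400 with h | h
                  · exact fixPtsF_spec W_145 840 196560 relc_145_234 v (by omega) (by omega)
                  · exact fixPtsF_spec W_145 840 197400 relc_145_235 v (by omega) (by omega)
              · rcases Nat.lt_or_ge v 199080 with h | h
                · exact fixPtsF_spec W_145 840 198240 relc_145_236 v (by omega) (by omega)
                · rcases Nat.lt_or_ge v 199920 with h | h
                  · exact fixPtsF_spec W_145 840 199080 relc_145_237 v (by omega) (by omega)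
                  · exact fixPtsF_spec W_145 840 199920 relc_145_238 v (by omega) (by omega)
          · rcases Nat.lt_or_ge v 205800 with h | h
            · rcases Nat.lt_or_ge v 203280 with h | h
              · rcases Nat.lt_or_ge v 201600 with h | h
                · exact fixPtsF_spec W_145 840 200760 relc_145_239 v (by omega) (by omega)
                · rcases Nat.lt_or_ge v 202440 with h | h
                  · exact fixPtsF_spec W_145 840 201600 relc_145_240 v (by omega) (by omega)
                  · exact fixPtsF_spec W_145 840 202440 relc_145_241 v (by omega) (by omega)
              · rcases Nat.lt_or_ge v 204120 with h | h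
                · exact fixPtsF_spec W_145 840 203280 relc_145_242 v (by omega) (by omega)
                · rcases Nat.lt_or_ge v 204960 with h | h
                  · exact fixPtsF_spec W_145 840 204120 relc_145_243 v (by omega) (by omega)
                  · exact fixPtsF_spec W_145 840 204960 relc_145_244 v (by omega) (by omega)
            · rcases Nat.lt_or_ge v 208320 with h | h
              · rcases Nat.lt_or_ge v 206640 with h | h
                · exact fixPtsF_spec W_145 840 205800 relc_145_245 v (by omega) (by omega)
                · rcases Nat.lt_or_ge v 207480 with h | h
                  · exact fixPtsF_spec W_145 840 206640 relc_145_246 v (by omega) (by omega)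
                  · exact fixPtsF_spec W_145 840 207480 relc_145_247 v (by omega) (by omega)
              · rcases Nat.lt_or_ge v 209160 with h | h
                · exact fixPtsF_spec W_145 840 208320 relc_145_248 v (by omega) (by omega)
                · rcases Nat.lt_or_ge v 210000 with h | h
                  · exact fixPtsF_spec W_145 840 209160 relc_145_249 v (by omega) (by omega)
                  · exact fixPtsF_spec W_145 840 210000 relc_145_250 v (by omega) (by omega)
        · rcases Nat.lt_or_ge v 220080 with h | h
          · rcases Nat.lt_or_ge v 215040 with h | h
            · rcases Nat.lt_or_ge v 212520 with h | h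
              · rcases Nat.lt_or_ge v 211680 with h | h
                · exact fixPtsF_spec W_145 840 210840 relc_145_251 v (by omega) (by omega)
                · exact fixPtsF_spec W_145 840 211680 relc_145_252 v (by omega) (by omega)
              · rcases Nat.lt_or_ge v 213360 with h | h
                · exact fixPtsF_spec W_145 840 212520 relc_145_253 v (by omega) (by omega)
                · rcases Nat.lt_or_ge v 214200 with h | h
                  · exact fixPtsF_spec W_145 840 213360 relc_145_254 v (by omega) (by omega)
                  · exact fixPtsF_spec W_145 840 214200 relc_145_255 v (by omega) (by omega)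
            · rcases Nat.lt_or_ge v 217560 with h | h
              · rcases Nat.lt_or_ge v 215880 with h | h
                · exact fixPtsF_spec W_145 840 215040 relc_145_256 v (by omega) (by omega)
                · rcases Nat.lt_or_ge v 216720 with h | h
                  · exact fixPtsF_spec W_145 840 215880 relc_145_257 v (by omega) (by omega)
                  · exact fixPtsF_spec W_145 840 216720 relc_145_258 v (by omega) (by omega)
              · rcases Nat.lt_or_ge v 218400 with h | h
                · exact fixPtsF_spec W_145 840 217560 relc_145_259 v (by omega) (by omega)
                · rcases Nat.lt_or_ge v 219240 with h | h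
                  · exact fixPtsF_spec W_145 840 218400 relc_145_260 v (by omega) (by omega)
                  · exact fixPtsF_spec W_145 840 219240 relc_145_261 v (by omega) (by omega)
          · rcases Nat.lt_or_ge v 225120 with h | h
            · rcases Nat.lt_or_ge v 222600 with h | h
              · rcases Nat.lt_or_ge v 220920 with h | h
                · exact fixPtsF_spec W_145 840 220080 relc_145_262 v (by omega) (by omega)
                · rcases Nat.lt_or_ge v 221760 with h | h
                  · exact fixPtsF_spec W_145 840 220920 relc_145_263 v (by omega) (by omega)
                  · exact fixPtsF_spec W_145 840 221760 relc_145_264 v (by omega) (by omega)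
              · rcases Nat.lt_or_ge v 223440 with h | h
                · exact fixPtsF_spec W_145 840 222600 relc_145_265 v (by omega) (by omega)
                · rcases Nat.lt_or_ge v 224280 with h | h
                  · exact fixPtsF_spec W_145 840 223440 relc_145_266 v (by omega) (by omega)
                  · exact fixPtsF_spec W_145 840 224280 relc_145_267 v (by omega) (by omega)
            · rcases Nat.lt_or_ge v 227640 with h | h
              · rcases Nat.lt_or_ge v 225960 with h | h
                · exact fixPtsF_spec W_145 840 225120 relc_145_268 v (by omega) (by omega)
                · rcases Nat.lt_or_ge v 226800 with h | h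
                  · exact fixPtsF_spec W_145 840 225960 relc_145_269 v (by omega) (by omega)
                  · exact fixPtsF_spec W_145 840 226800 relc_145_270 v (by omega) (by omega)
              · rcases Nat.lt_or_ge v 228480 with h | h
                · exact fixPtsF_spec W_145 840 227640 relc_145_271 v (by omega) (by omega)
                · rcases Nat.lt_or_ge v 229320 with h | h
                  · exact fixPtsF_spec W_145 840 228480 relc_145_272 v (by omega) (by omega)
                  · exact fixPtsF_spec W_145 840 229320 relc_145_273 v (by omega) (by omega)
    · rcases Nat.lt_or_ge v 268800 with h | h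
      · rcases Nat.lt_or_ge v 249480 with h | h
        · rcases Nat.lt_or_ge v 239400 with h | h
          · rcases Nat.lt_or_ge v 234360 with h | h
            · rcases Nat.lt_or_ge v 231840 with h | h
              · rcases Nat.lt_or_ge v 231000 with h | h
                · exact fixPtsF_spec W_145 840 230160 relc_145_274 v (by omega) (by omega)
                · exact fixPtsF_spec W_145 840 231000 relc_145_275 v (by omega) (by omega)
              · rcases Nat.lt_or_ge v 232680 with h | h
                · exact fixPtsF_spec W_145 840 231840 relc_145_276 v (by omega) (by omega)
                · rcases Nat.lt_or_ge v 233520 with h | h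
                  · exact fixPtsF_spec W_145 840 232680 relc_145_277 v (by omega) (by omega)
                  · exact fixPtsF_spec W_145 840 233520 relc_145_278 v (by omega) (by omega)
            · rcases Nat.lt_or_ge v 236880 with h | h
              · rcases Nat.lt_or_ge v 235200 with h | h
                · exact fixPtsF_spec W_145 840 234360 relc_145_279 v (by omega) (by omega)
                · rcases Nat.lt_or_ge v 236040 with h | h
                  · exact fixPtsF_spec W_145 840 235200 relc_145_280 v (by omega) (by omega)
                  · exact fixPtsF_spec W_145 840 236040 relc_145_281 v (by omega) (by omega)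
              · rcases Nat.lt_or_ge v 237720 with h | h
                · exact fixPtsF_spec W_145 840 236880 relc_145_282 v (by omega) (by omega)
                · rcases Nat.lt_or_ge v 238560 with h | h
                  · exact fixPtsF_spec W_145 840 237720 relc_145_283 v (by omega) (by omega)
                  · exact fixPtsF_spec W_145 840 238560 relc_145_284 v (by omega) (by omega)
          · rcases Nat.lt_or_ge v 244440 with h | h
            · rcases Nat.lt_or_ge v 241920 with h | h
              · rcases Nat.lt_or_ge v 240240 with h | h
                · exact fixPtsF_spec W_145 840 239400 relc_145_285 v (by omega) (by omega)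
                · rcases Nat.lt_or_ge v 241080 with h | h
                  · exact fixPtsF_spec W_145 840 240240 relc_145_286 v (by omega) (by omega)
                  · exact fixPtsF_spec W_145 840 241080 relc_145_287 v (by omega) (by omega)
              · rcases Nat.lt_or_ge v 242760 with h | h
                · exact fixPtsF_spec W_145 840 241920 relc_145_288 v (by omega) (by omega)
                · rcases Nat.lt_or_ge v 243600 with h | h
                  · exact fixPtsF_spec W_145 840 242760 relc_145_289 v (by omega) (by omega)
                  · exact fixPtsF_spec W_145 840 243600 relc_145_290 v (by omega) (by omega)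
            · rcases Nat.lt_or_ge v 246960 with h | h
              · rcases Nat.lt_or_ge v 245280 with h | h
                · exact fixPtsF_spec W_145 840 244440 relc_145_291 v (by omega) (by omega)
                · rcases Nat.lt_or_ge v 246120 with h | h
                  · exact fixPtsF_spec W_145 840 245280 relc_145_292 v (by omega) (by omega)
                  · exact fixPtsF_spec W_145 840 246120 relc_145_293 v (by omega) (by omega)
              · rcases Nat.lt_or_ge v 247800 with h | h
                · exact fixPtsF_spec W_145 840 246960 relc_145_294 v (by omega) (by omega)
                · rcases Nat.lt_or_ge v 248640 with h | h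
                  · exact fixPtsF_spec W_145 840 247800 relc_145_295 v (by omega) (by omega)
                  · exact fixPtsF_spec W_145 840 248640 relc_145_296 v (by omega) (by omega)
        · rcases Nat.lt_or_ge v 258720 with h | h
          · rcases Nat.lt_or_ge v 253680 with h | h
            · rcases Nat.lt_or_ge v 251160 with h | h
              · rcases Nat.lt_or_ge v 250320 with h | h
                · exact fixPtsF_spec W_145 840 249480 relc_145_297 v (by omega) (by omega)
                · exact fixPtsF_spec W_145 840 250320 relc_145_298 v (by omega) (by omega)
              · rcases Nat.lt_or_ge v 252000 with h | h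
                · exact fixPtsF_spec W_145 840 251160 relc_145_299 v (by omega) (by omega)
                · rcases Nat.lt_or_ge v 252840 with h | h
                  · exact fixPtsF_spec W_145 840 252000 relc_145_300 v (by omega) (by omega)
                  · exact fixPtsF_spec W_145 840 252840 relc_145_301 v (by omega) (by omega)
            · rcases Nat.lt_or_ge v 256200 with h | h
              · rcases Nat.lt_or_ge v 254520 with h | h
                · exact fixPtsF_spec W_145 840 253680 relc_145_302 v (by omega) (by omega)
                · rcases Nat.lt_or_ge v 255360 with h | h
                  · exact fixPtsF_spec W_145 840 254520 relc_145_303 v (by omega) (by omega)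
                  · exact fixPtsF_spec W_145 840 255360 relc_145_304 v (by omega) (by omega)
              · rcases Nat.lt_or_ge v 257040 with h | h
                · exact fixPtsF_spec W_145 840 256200 relc_145_305 v (by omega) (by omega)
                · rcases Nat.lt_or_ge v 257880 with h | h
                  · exact fixPtsF_spec W_145 840 257040 relc_145_306 v (by omega) (by omega)
                  · exact fixPtsF_spec W_145 840 257880 relc_145_307 v (by omega) (by omega)
          · rcases Nat.lt_or_ge v 263760 with h | h
            · rcases Nat.lt_or_ge v 261240 with h | h
              · rcases Nat.lt_or_ge v 259560 with h | h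
                · exact fixPtsF_spec W_145 840 258720 relc_145_308 v (by omega) (by omega)
                · rcases Nat.lt_or_ge v 260400 with h | h
                  · exact fixPtsF_spec W_145 840 259560 relc_145_309 v (by omega) (by omega)
                  · exact fixPtsF_spec W_145 840 260400 relc_145_310 v (by omega) (by omega)
              · rcases Nat.lt_or_ge v 262080 with h | h
                · exact fixPtsF_spec W_145 840 261240 relc_145_311 v (by omega) (by omega)
                · rcases Nat.lt_or_ge v 262920 with h | h
                  · exact fixPtsF_spec W_145 840 262080 relc_145_312 v (by omega) (by omega)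
                  · exact fixPtsF_spec W_145 840 262920 relc_145_313 v (by omega) (by omega)
            · rcases Nat.lt_or_ge v 266280 with h | h
              · rcases Nat.lt_or_ge v 264600 with h | h
                · exact fixPtsF_spec W_145 840 263760 relc_145_314 v (by omega) (by omega)
                · rcases Nat.lt_or_ge v 265440 with h | h
                  · exact fixPtsF_spec W_145 840 264600 relc_145_315 v (by omega) (by omega)
                  · exact fixPtsF_spec W_145 840 265440 relc_145_316 v (by omega) (by omega)
              · rcases Nat.lt_or_ge v 267120 with h | h
                · exact fixPtsF_spec W_145 840 266280 relc_145_317 v (by omega) (by omega)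
                · rcases Nat.lt_or_ge v 267960 with h | h
                  · exact fixPtsF_spec W_145 840 267120 relc_145_318 v (by omega) (by omega)
                  · exact fixPtsF_spec W_145 840 267960 relc_145_319 v (by omega) (by omega)
      · rcases Nat.lt_or_ge v 288120 with h | h
        · rcases Nat.lt_or_ge v 278040 with h | h
          · rcases Nat.lt_or_ge v 273000 with h | h
            · rcases Nat.lt_or_ge v 270480 with h | h
              · rcases Nat.lt_or_ge v 269640 with h | h
                · exact fixPtsF_spec W_145 840 268800 relc_145_320 v (by omega) (by omega)
                · exact fixPtsF_spec W_145 840 269640 relc_145_321 v (by omega) (by omega)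
              · rcases Nat.lt_or_ge v 271320 with h | h
                · exact fixPtsF_spec W_145 840 270480 relc_145_322 v (by omega) (by omega)
                · rcases Nat.lt_or_ge v 272160 with h | h
                  · exact fixPtsF_spec W_145 840 271320 relc_145_323 v (by omega) (by omega)
                  · exact fixPtsF_spec W_145 840 272160 relc_145_324 v (by omega) (by omega)
            · rcases Nat.lt_or_ge v 275520 with h | h
              · rcases Nat.lt_or_ge v 273840 with h | h
                · exact fixPtsF_spec W_145 840 273000 relc_145_325 v (by omega) (by omega)
                · rcases Nat.lt_or_ge v 274680 with h | h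
                  · exact fixPtsF_spec W_145 840 273840 relc_145_326 v (by omega) (by omega)
                  · exact fixPtsF_spec W_145 840 274680 relc_145_327 v (by omega) (by omega)
              · rcases Nat.lt_or_ge v 276360 with h | h
                · exact fixPtsF_spec W_145 840 275520 relc_145_328 v (by omega) (by omega)
                · rcases Nat.lt_or_ge v 277200 with h | h
                  · exact fixPtsF_spec W_145 840 276360 relc_145_329 v (by omega) (by omega)
                  · exact fixPtsF_spec W_145 840 277200 relc_145_330 v (by omega) (by omega)
          · rcases Nat.lt_or_ge v 283080 with h | h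
            · rcases Nat.lt_or_ge v 280560 with h | h
              · rcases Nat.lt_or_ge v 278880 with h | h
                · exact fixPtsF_spec W_145 840 278040 relc_145_331 v (by omega) (by omega)
                · rcases Nat.lt_or_ge v 279720 with h | h
                  · exact fixPtsF_spec W_145 840 278880 relc_145_332 v (by omega) (by omega)
                  · exact fixPtsF_spec W_145 840 279720 relc_145_333 v (by omega) (by omega)
              · rcases Nat.lt_or_ge v 281400 with h | h
                · exact fixPtsF_spec W_145 840 280560 relc_145_334 v (by omega) (by omega)
                · rcases Nat.lt_or_ge v 282240 with h | h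
                  · exact fixPtsF_spec W_145 840 281400 relc_145_335 v (by omega) (by omega)
                  · exact fixPtsF_spec W_145 840 282240 relc_145_336 v (by omega) (by omega)
            · rcases Nat.lt_or_ge v 285600 with h | h
              · rcases Nat.lt_or_ge v 283920 with h | h
                · exact fixPtsF_spec W_145 840 283080 relc_145_337 v (by omega) (by omega)
                · rcases Nat.lt_or_ge v 284760 with h | h
                  · exact fixPtsF_spec W_145 840 283920 relc_145_338 v (by omega) (by omega)
                  · exact fixPtsF_spec W_145 840 284760 relc_145_339 v (by omega) (by omega)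
              · rcases Nat.lt_or_ge v 286440 with h | h
                · exact fixPtsF_spec W_145 840 285600 relc_145_340 v (by omega) (by omega)
                · rcases Nat.lt_or_ge v 287280 with h | h
                  · exact fixPtsF_spec W_145 840 286440 relc_145_341 v (by omega) (by omega)
                  · exact fixPtsF_spec W_145 840 287280 relc_145_342 v (by omega) (by omega)
        · rcases Nat.lt_or_ge v 297360 with h | h
          · rcases Nat.lt_or_ge v 292320 with h | h
            · rcases Nat.lt_or_ge v 289800 with h | h
              · rcases Nat.lt_or_ge v 288960 with h | h
                · exact fixPtsF_spec W_145 840 288120 relc_145_343 v (by omega) (by omega)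
                · exact fixPtsF_spec W_145 840 288960 relc_145_344 v (by omega) (by omega)
              · rcases Nat.lt_or_ge v 290640 with h | h
                · exact fixPtsF_spec W_145 840 289800 relc_145_345 v (by omega) (by omega)
                · rcases Nat.lt_or_ge v 291480 with h | h
                  · exact fixPtsF_spec W_145 840 290640 relc_145_346 v (by omega) (by omega)
                  · exact fixPtsF_spec W_145 840 291480 relc_145_347 v (by omega) (by omega)
            · rcases Nat.lt_or_ge v 294840 with h | h
              · rcases Nat.lt_or_ge v 293160 with h | h
                · exact fixPtsF_spec W_145 840 292320 relc_145_348 v (by omega) (by omega)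
                · rcases Nat.lt_or_ge v 294000 with h | h
                  · exact fixPtsF_spec W_145 840 293160 relc_145_349 v (by omega) (by omega)
                  · exact fixPtsF_spec W_145 840 294000 relc_145_350 v (by omega) (by omega)
              · rcases Nat.lt_or_ge v 295680 with h | h
                · exact fixPtsF_spec W_145 840 294840 relc_145_351 v (by omega) (by omega)
                · rcases Nat.lt_or_ge v 296520 with h | h
                  · exact fixPtsF_spec W_145 840 295680 relc_145_352 v (by omega) (by omega)
                  · exact fixPtsF_spec W_145 840 296520 relc_145_353 v (by omega) (by omega)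
          · rcases Nat.lt_or_ge v 302400 with h | h
            · rcases Nat.lt_or_ge v 299880 with h | h
              · rcases Nat.lt_or_ge v 298200 with h | h
                · exact fixPtsF_spec W_145 840 297360 relc_145_354 v (by omega) (by omega)
                · rcases Nat.lt_or_ge v 299040 with h | h
                  · exact fixPtsF_spec W_145 840 298200 relc_145_355 v (by omega) (by omega)
                  · exact fixPtsF_spec W_145 840 299040 relc_145_356 v (by omega) (by omega)
              · rcases Nat.lt_or_ge v 300720 with h | h
                · exact fixPtsF_spec W_145 840 299880 relc_145_357 v (by omega) (by omega)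
                · rcases Nat.lt_or_ge v 301560 with h | h
                  · exact fixPtsF_spec W_145 840 300720 relc_145_358 v (by omega) (by omega)
                  · exact fixPtsF_spec W_145 840 301560 relc_145_359 v (by omega) (by omega)
            · rcases Nat.lt_or_ge v 304920 with h | h
              · rcases Nat.lt_or_ge v 303240 with h | h
                · exact fixPtsF_spec W_145 840 302400 relc_145_360 v (by omega) (by omega)
                · rcases Nat.lt_or_ge v 304080 with h | h
                  · exact fixPtsF_spec W_145 840 303240 relc_145_361 v (by omega) (by omega)
                  · exact fixPtsF_spec W_145 840 304080 relc_145_362 v (by omega) (by omega)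
              · rcases Nat.lt_or_ge v 305760 with h | h
                · exact fixPtsF_spec W_145 840 304920 relc_145_363 v (by omega) (by omega)
                · rcases Nat.lt_or_ge v 306600 with h | h
                  · exact fixPtsF_spec W_145 840 305760 relc_145_364 v (by omega) (by omega)
                  · exact fixPtsF_spec W_145 336 306600 relc_145_365 v (by omega) (by omega)

set_option maxRecDepth 1000000 in
theorem walk_145 : ∀ v, walkT ctF (D.wlen 145) (D.wordP 145) v = W_145 v := by
  intro v
  simp only [W_145, forceL_eq]
  rfl

theorem relw_145 : ∀ v, v < 306936 → walkT ctF (D.wlen 145) (D.wordP 145) v = v := by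
  intro v hv
  rw [walk_145]
  exact relf_145 v hv

theorem invx_0 : ∀ v, v < 306936 → ctF 0 v < 306936 ∧ ctF 0 (ctF 0 v) = v := by
  intro v hv
  rcases Nat.lt_or_ge v 150000 with h | h
  · rcases Nat.lt_or_ge v 50000 with h | h
    · exact invRowF_spec ctF 306936 0 50000 0 inv_0_0 v (by omega) (by omega)
    · rcases Nat.lt_or_ge v 100000 with h | h
      · exact invRowF_spec ctF 306936 0 50000 50000 inv_0_1 v (by omega) (by omega)
      · exact invRowF_spec ctF 306936 0 50000 100000 inv_0_2 v (by omega) (by omega)
  · rcases Nat.lt_or_ge v 250000 with h | h
    · rcases Nat.lt_or_ge v 200000 with h | h
      · exact invRowF_spec ctF 306936 0 50000 150000 inv_0_3 v (by omega) (by omega)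
      · exact invRowF_spec ctF 306936 0 50000 200000 inv_0_4 v (by omega) (by omega)
    · rcases Nat.lt_or_ge v 300000 with h | h
      · exact invRowF_spec ctF 306936 0 50000 250000 inv_0_5 v (by omega) (by omega)
      · exact invRowF_spec ctF 306936 0 6936 300000 inv_0_6 v (by omega) (by omega)

theorem invx_1 : ∀ v, v < 306936 → ctF 1 v < 306936 ∧ ctF 1 (ctF 1 v) = v := by
  intro v hv
  rcases Nat.lt_or_ge v 150000 with h | h
  · rcases Nat.lt_or_ge v 50000 with h | h
    · exact invRowF_spec ctF 306936 1 50000 0 inv_1_0 v (by omega) (by omega)
    · rcases Nat.lt_or_ge v 100000 with h | h
      · exact invRowF_spec ctF 306936 1 50000 50000 inv_1_1 v (by omega) (by omega)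
      · exact invRowF_spec ctF 306936 1 50000 100000 inv_1_2 v (by omega) (by omega)
  · rcases Nat.lt_or_ge v 250000 with h | h
    · rcases Nat.lt_or_ge v 200000 with h | h
      · exact invRowF_spec ctF 306936 1 50000 150000 inv_1_3 v (by omega) (by omega)
      · exact invRowF_spec ctF 306936 1 50000 200000 inv_1_4 v (by omega) (by omega)
    · rcases Nat.lt_or_ge v 300000 with h | h
      · exact invRowF_spec ctF 306936 1 50000 250000 inv_1_5 v (by omega) (by omega)
      · exact invRowF_spec ctF 306936 1 6936 300000 inv_1_6 v (by omega) (by omega)

theorem invx_2 : ∀ v, v < 306936 → ctF 2 v < 306936 ∧ ctF 2 (ctF 2 v) = v := by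
  intro v hv
  rcases Nat.lt_or_ge v 150000 with h | h
  · rcases Nat.lt_or_ge v 50000 with h | h
    · exact invRowF_spec ctF 306936 2 50000 0 inv_2_0 v (by omega) (by omega)
    · rcases Nat.lt_or_ge v 100000 with h | h
      · exact invRowF_spec ctF 306936 2 50000 50000 inv_2_1 v (by omega) (by omega)
      · exact invRowF_spec ctF 306936 2 50000 100000 inv_2_2 v (by omega) (by omega)
  · rcases Nat.lt_or_ge v 250000 with h | h
    · rcases Nat.lt_or_ge v 200000 with h | h
      · exact invRowF_spec ctF 306936 2 50000 150000 inv_2_3 v (by omega) (by omega)
      · exact invRowF_spec ctF 306936 2 50000 200000 inv_2_4 v (by omega) (by omega)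
    · rcases Nat.lt_or_ge v 300000 with h | h
      · exact invRowF_spec ctF 306936 2 50000 250000 inv_2_5 v (by omega) (by omega)
      · exact invRowF_spec ctF 306936 2 6936 300000 inv_2_6 v (by omega) (by omega)

theorem invx_3 : ∀ v, v < 306936 → ctF 3 v < 306936 ∧ ctF 3 (ctF 3 v) = v := by
  intro v hv
  rcases Nat.lt_or_ge v 150000 with h | h
  · rcases Nat.lt_or_ge v 50000 with h | h
    · exact invRowF_spec ctF 306936 3 50000 0 inv_3_0 v (by omega) (by omega)
    · rcases Nat.lt_or_ge v 100000 with h | h
      · exact invRowF_spec ctF 306936 3 50000 50000 inv_3_1 v (by omega) (by omega)
      · exact invRowF_spec ctF 306936 3 50000 100000 inv_3_2 v (by omega) (by omega)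
  · rcases Nat.lt_or_ge v 250000 with h | h
    · rcases Nat.lt_or_ge v 200000 with h | h
      · exact invRowF_spec ctF 306936 3 50000 150000 inv_3_3 v (by omega) (by omega)
      · exact invRowF_spec ctF 306936 3 50000 200000 inv_3_4 v (by omega) (by omega)
    · rcases Nat.lt_or_ge v 300000 with h | h
      · exact invRowF_spec ctF 306936 3 50000 250000 inv_3_5 v (by omega) (by omega)
      · exact invRowF_spec ctF 306936 3 6936 300000 inv_3_6 v (by omega) (by omega)

theorem invx_4 : ∀ v, v < 306936 → ctF 4 v < 306936 ∧ ctF 4 (ctF 4 v) = v := by
  intro v hv
  rcases Nat.lt_or_ge v 150000 with h | h
  · rcases Nat.lt_or_ge v 50000 with h | h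
    · exact invRowF_spec ctF 306936 4 50000 0 inv_4_0 v (by omega) (by omega)
    · rcases Nat.lt_or_ge v 100000 with h | h
      · exact invRowF_spec ctF 306936 4 50000 50000 inv_4_1 v (by omega) (by omega)
      · exact invRowF_spec ctF 306936 4 50000 100000 inv_4_2 v (by omega) (by omega)
  · rcases Nat.lt_or_ge v 250000 with h | h
    · rcases Nat.lt_or_ge v 200000 with h | h
      · exact invRowF_spec ctF 306936 4 50000 150000 inv_4_3 v (by omega) (by omega)
      · exact invRowF_spec ctF 306936 4 50000 200000 inv_4_4 v (by omega) (by omega)
    · rcases Nat.lt_or_ge v 300000 with h | h
      · exact invRowF_spec ctF 306936 4 50000 250000 inv_4_5 v (by omega) (by omega)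
      · exact invRowF_spec ctF 306936 4 6936 300000 inv_4_6 v (by omega) (by omega)

theorem invx_5 : ∀ v, v < 306936 → ctF 5 v < 306936 ∧ ctF 5 (ctF 5 v) = v := by
  intro v hv
  rcases Nat.lt_or_ge v 150000 with h | h
  · rcases Nat.lt_or_ge v 50000 with h | h
    · exact invRowF_spec ctF 306936 5 50000 0 inv_5_0 v (by omega) (by omega)
    · rcases Nat.lt_or_ge v 100000 with h | h
      · exact invRowF_spec ctF 306936 5 50000 50000 inv_5_1 v (by omega) (by omega)
      · exact invRowF_spec ctF 306936 5 50000 100000 inv_5_2 v (by omega) (by omega)
  · rcases Nat.lt_or_ge v 250000 with h | h
    · rcases Nat.lt_or_ge v 200000 with h | h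
      · exact invRowF_spec ctF 306936 5 50000 150000 inv_5_3 v (by omega) (by omega)
      · exact invRowF_spec ctF 306936 5 50000 200000 inv_5_4 v (by omega) (by omega)
    · rcases Nat.lt_or_ge v 300000 with h | h
      · exact invRowF_spec ctF 306936 5 50000 250000 inv_5_5 v (by omega) (by omega)
      · exact invRowF_spec ctF 306936 5 6936 300000 inv_5_6 v (by omega) (by omega)

theorem invx_6 : ∀ v, v < 306936 → ctF 6 v < 306936 ∧ ctF 6 (ctF 6 v) = v := by
  intro v hv
  rcases Nat.lt_or_ge v 150000 with h | h
  · rcases Nat.lt_or_ge v 50000 with h | h
    · exact invRowF_spec ctF 306936 6 50000 0 inv_6_0 v (by omega) (by omega)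
    · rcases Nat.lt_or_ge v 100000 with h | h
      · exact invRowF_spec ctF 306936 6 50000 50000 inv_6_1 v (by omega) (by omega)
      · exact invRowF_spec ctF 306936 6 50000 100000 inv_6_2 v (by omega) (by omega)
  · rcases Nat.lt_or_ge v 250000 with h | h
    · rcases Nat.lt_or_ge v 200000 with h | h
      · exact invRowF_spec ctF 306936 6 50000 150000 inv_6_3 v (by omega) (by omega)
      · exact invRowF_spec ctF 306936 6 50000 200000 inv_6_4 v (by omega) (by omega)
    · rcases Nat.lt_or_ge v 300000 with h | h
      · exact invRowF_spec ctF 306936 6 50000 250000 inv_6_5 v (by omega) (by omega)
      · exact invRowF_spec ctF 306936 6 6936 300000 inv_6_6 v (by omega) (by omega)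

theorem invx_7 : ∀ v, v < 306936 → ctF 7 v < 306936 ∧ ctF 7 (ctF 7 v) = v := by
  intro v hv
  rcases Nat.lt_or_ge v 150000 with h | h
  · rcases Nat.lt_or_ge v 50000 with h | h
    · exact invRowF_spec ctF 306936 7 50000 0 inv_7_0 v (by omega) (by omega)
    · rcases Nat.lt_or_ge v 100000 with h | h
      · exact invRowF_spec ctF 306936 7 50000 50000 inv_7_1 v (by omega) (by omega)
      · exact invRowF_spec ctF 306936 7 50000 100000 inv_7_2 v (by omega) (by omega)
  · rcases Nat.lt_or_ge v 250000 with h | h
    · rcases Nat.lt_or_ge v 200000 with h | h
      · exact invRowF_spec ctF 306936 7 50000 150000 inv_7_3 v (by omega) (by omega)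
      · exact invRowF_spec ctF 306936 7 50000 200000 inv_7_4 v (by omega) (by omega)
    · rcases Nat.lt_or_ge v 300000 with h | h
      · exact invRowF_spec ctF 306936 7 50000 250000 inv_7_5 v (by omega) (by omega)
      · exact invRowF_spec ctF 306936 7 6936 300000 inv_7_6 v (by omega) (by omega)

theorem invx_8 : ∀ v, v < 306936 → ctF 8 v < 306936 ∧ ctF 8 (ctF 8 v) = v := by
  intro v hv
  rcases Nat.lt_or_ge v 150000 with h | h
  · rcases Nat.lt_or_ge v 50000 with h | h
    · exact invRowF_spec ctF 306936 8 50000 0 inv_8_0 v (by omega) (by omega)
    · rcases Nat.lt_or_ge v 100000 with h | h
      · exact invRowF_spec ctF 306936 8 50000 50000 inv_8_1 v (by omega) (by omega)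
      · exact invRowF_spec ctF 306936 8 50000 100000 inv_8_2 v (by omega) (by omega)
  · rcases Nat.lt_or_ge v 250000 with h | h
    · rcases Nat.lt_or_ge v 200000 with h | h
      · exact invRowF_spec ctF 306936 8 50000 150000 inv_8_3 v (by omega) (by omega)
      · exact invRowF_spec ctF 306936 8 50000 200000 inv_8_4 v (by omega) (by omega)
    · rcases Nat.lt_or_ge v 300000 with h | h
      · exact invRowF_spec ctF 306936 8 50000 250000 inv_8_5 v (by omega) (by omega)
      · exact invRowF_spec ctF 306936 8 6936 300000 inv_8_6 v (by omega) (by omega)

theorem invx_9 : ∀ v, v < 306936 → ctF 9 v < 306936 ∧ ctF 9 (ctF 9 v) = v := by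
  intro v hv
  rcases Nat.lt_or_ge v 150000 with h | h
  · rcases Nat.lt_or_ge v 50000 with h | h
    · exact invRowF_spec ctF 306936 9 50000 0 inv_9_0 v (by omega) (by omega)
    · rcases Nat.lt_or_ge v 100000 with h | h
      · exact invRowF_spec ctF 306936 9 50000 50000 inv_9_1 v (by omega) (by omega)
      · exact invRowF_spec ctF 306936 9 50000 100000 inv_9_2 v (by omega) (by omega)
  · rcases Nat.lt_or_ge v 250000 with h | h
    · rcases Nat.lt_or_ge v 200000 with h | h
      · exact invRowF_spec ctF 306936 9 50000 150000 inv_9_3 v (by omega) (by omega)
      · exact invRowF_spec ctF 306936 9 50000 200000 inv_9_4 v (by omega) (by omega)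
    · rcases Nat.lt_or_ge v 300000 with h | h
      · exact invRowF_spec ctF 306936 9 50000 250000 inv_9_5 v (by omega) (by omega)
      · exact invRowF_spec ctF 306936 9 6936 300000 inv_9_6 v (by omega) (by omega)

theorem invx_10 : ∀ v, v < 306936 → ctF 10 v < 306936 ∧ ctF 10 (ctF 10 v) = v := by
  intro v hv
  rcases Nat.lt_or_ge v 150000 with h | h
  · rcases Nat.lt_or_ge v 50000 with h | h
    · exact invRowF_spec ctF 306936 10 50000 0 inv_10_0 v (by omega) (by omega)
    · rcases Nat.lt_or_ge v 100000 with h | h
      · exact invRowF_spec ctF 306936 10 50000 50000 inv_10_1 v (by omega) (by omega)
      · exact invRowF_spec ctF 306936 10 50000 100000 inv_10_2 v (by omega) (by omega)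
  · rcases Nat.lt_or_ge v 250000 with h | h
    · rcases Nat.lt_or_ge v 200000 with h | h
      · exact invRowF_spec ctF 306936 10 50000 150000 inv_10_3 v (by omega) (by omega)
      · exact invRowF_spec ctF 306936 10 50000 200000 inv_10_4 v (by omega) (by omega)
    · rcases Nat.lt_or_ge v 300000 with h | h
      · exact invRowF_spec ctF 306936 10 50000 250000 inv_10_5 v (by omega) (by omega)
      · exact invRowF_spec ctF 306936 10 6936 300000 inv_10_6 v (by omega) (by omega)

theorem invx_11 : ∀ v, v < 306936 → ctF 11 v < 306936 ∧ ctF 11 (ctF 11 v) = v := by
  intro v hv
  rcases Nat.lt_or_ge v 150000 with h | h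
  · rcases Nat.lt_or_ge v 50000 with h | h
    · exact invRowF_spec ctF 306936 11 50000 0 inv_11_0 v (by omega) (by omega)
    · rcases Nat.lt_or_ge v 100000 with h | h
      · exact invRowF_spec ctF 306936 11 50000 50000 inv_11_1 v (by omega) (by omega)
      · exact invRowF_spec ctF 306936 11 50000 100000 inv_11_2 v (by omega) (by omega)
  · rcases Nat.lt_or_ge v 250000 with h | h
    · rcases Nat.lt_or_ge v 200000 with h | h
      · exact invRowF_spec ctF 306936 11 50000 150000 inv_11_3 v (by omega) (by omega)
      · exact invRowF_spec ctF 306936 11 50000 200000 inv_11_4 v (by omega) (by omega)
    · rcases Nat.lt_or_ge v 300000 with h | h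
      · exact invRowF_spec ctF 306936 11 50000 250000 inv_11_5 v (by omega) (by omega)
      · exact invRowF_spec ctF 306936 11 6936 300000 inv_11_6 v (by omega) (by omega)

theorem hconn : ∀ v, v < 306936 → v ≠ 0 → ∃ x, x < E.D.k ∧ ctF x v < v := by
  intro v hv
  rcases Nat.lt_or_ge v 150000 with h | h
  · rcases Nat.lt_or_ge v 50000 with h | h
    · exact connF_spec ctF 12 50000 0 conn_0 v (by omega) (by omega)
    · rcases Nat.lt_or_ge v 100000 with h | h
      · exact connF_spec ctF 12 50000 50000 conn_1 v (by omega) (by omega)
      · exact connF_spec ctF 12 50000 100000 conn_2 v (by omega) (by omega)
  · rcases Nat.lt_or_ge v 250000 with h | h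
    · rcases Nat.lt_or_ge v 200000 with h | h
      · exact connF_spec ctF 12 50000 150000 conn_3 v (by omega) (by omega)
      · exact connF_spec ctF 12 50000 200000 conn_4 v (by omega) (by omega)
    · rcases Nat.lt_or_ge v 300000 with h | h
      · exact connF_spec ctF 12 50000 250000 conn_5 v (by omega) (by omega)
      · exact connF_spec ctF 12 6936 300000 conn_6 v (by omega) (by omega)

theorem hE : ∀ v, v < E.M → ∀ x, x < E.D.k → edgeOK E x v = true := by
  intro v hv x hx
  have hv' : v < 357049 := hv
  have hx' : x < 12 := hx
  interval_cases x
  · exact edgesx_0 v hv'
  · exact edgesx_1 v hv'
  · exact edgesx_2 v hv'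
  · exact edgesx_3 v hv'
  · exact edgesx_4 v hv'
  · exact edgesx_5 v hv'
  · exact edgesx_6 v hv'
  · exact edgesx_7 v hv'
  · exact edgesx_8 v hv'
  · exact edgesx_9 v hv'
  · exact edgesx_10 v hv'
  · exact edgesx_11 v hv'

theorem hA : ∀ v, v < E.M → aliasOK E v = true := fun v hv => hA0 v hv

theorem hrows : ∀ v, v < E.M → tb RS v = true → rowOK2 E RS v E.D.k = true := fun v hv => hrows0 v hv

theorem hT : ∀ x, x < E.D.k → ∀ v, v < 306936 → ctF x v < 306936 ∧ ctF x (ctF x v) = v := by
  intro x hx
  have hx' : x < 12 := hx
  interval_cases x
  · exact invx_0
  · exact invx_1
  · exact invx_2
  · exact invx_3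
  · exact invx_4
  · exact invx_5
  · exact invx_6
  · exact invx_7
  · exact invx_8
  · exact invx_9
  · exact invx_10
  · exact invx_11

theorem hltr : ∀ j, j < E.D.nw → lettersOK E.D.k (E.D.wlen j) (E.D.wordP j) = true :=
  wordsOK_spec D D.nw words_ok

theorem hrelC : ∀ x y, x < y → y < E.D.k → ∀ v, v < 306936 →
    walkT ctF (E.D.wlen (x * E.D.k + y)) (E.D.wordP (x * E.D.k + y)) v = v := by
  intro x y hxy hy
  have hy' : y < 12 := hy
  interval_cases y <;> interval_cases x
  · exact relw_1
  · exact relw_2
  · exact relw_14
  · exact relw_3
  · exact relw_15
  · exact relw_27
  · exact relw_4
  · exact relw_16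
  · exact relw_28
  · exact relw_40
  · exact relw_5
  · exact relw_17
  · exact relw_29
  · exact relw_41
  · exact relw_53
  · exact relw_6
  · exact relw_18
  · exact relw_30
  · exact relw_42
  · exact relw_54
  · exact relw_66
  · exact relw_7
  · exact relw_19
  · exact relw_31
  · exact relw_43
  · exact relw_55
  · exact relw_67
  · exact relw_79
  · exact relw_8
  · exact relw_20
  · exact relw_32
  · exact relw_44
  · exact relw_56
  · exact relw_68
  · exact relw_80
  · exact relw_92
  · exact relw_9
  · exact relw_21
  · exact relw_33
  · exact relw_45
  · exact relw_57
  · exact relw_69
  · exact relw_81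
  · exact relw_93
  · exact relw_105
  · exact relw_10
  · exact relw_22
  · exact relw_34
  · exact relw_46
  · exact relw_58
  · exact relw_70
  · exact relw_82
  · exact relw_94
  · exact relw_106
  · exact relw_118
  · exact relw_11
  · exact relw_23
  · exact relw_35
  · exact relw_47
  · exact relw_59
  · exact relw_71
  · exact relw_83
  · exact relw_95
  · exact relw_107
  · exact relw_119
  · exact relw_131

theorem hrelX : ∀ i, i < 2 → ∀ v, v < 306936 →
    walkT ctF (E.D.wlen (E.D.k * E.D.k + i)) (E.D.wordP (E.D.k * E.D.k + i)) v = v := by
  intro i hi
  interval_cases i
  · exact relw_144
  · exact relw_145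

theorem hsubT : ∀ wi, wi < E.D.nw → E.D.nrel ≤ wi →
    walkT ctF (E.D.wlen wi) (E.D.wordP wi) 0 = 0 :=
  subAll_spec ctF D D.nw sub_ok

end Cfsg.Agent.Helper5.Fi24TC
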