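import Mathlib
import Cfsg.Prelude.Def_Sporadic
import Cfsg.Prelude.Def_SporadicB
import Cfsg.Agent.Helper5.LPO
import Cfsg.Agent.Helper5.Fi24Base

/-!
# The class of 306936 3-transpositions of the list-presented group `Fi₂₄`

The letter `l` of `Fi24LP.R12` is an involution whose centraliser is the stabiliser of the point `0`
in the primitive action on `306936` points; its conjugates form a class of 3-transpositions
generating the group.  The centraliser contains a copy of the presented group `Fi₂₃` (generated by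
the letters `c * l`, `c < 10`).
-/

set_option autoImplicit false

namespace Cfsg.Agent.Helper5.LP

section
variable {G : Type*} [Group G] {k N : ℕ} {T : ℕ → ℕ → ℕ}

/-- an element which is not central and whose centraliser contains the stabiliser of `0`, in a
group acting primitively, has the stabiliser of `0` as its centraliser. -/
theorem comm_iff_fix_nc {ρ : G →* Equiv.Perm (Fin N)} {e : List ℕ → G} (hA : ActsOn ρ e k T)
    {Hgens : List (List ℕ)} {prim : PrimData}
    (h : primOK T k N Hgens prim = true) (h0 : 0 < N) (d : G)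
    (hnc : ∃ x : G, x * d ≠ d * x)
    (hfix : ∀ g : G, ρ g ⟨0, h0⟩ = ⟨0, h0⟩ → g * d = d * g) (g : G) :
    g * d = d * g ↔ ρ g ⟨0, h0⟩ = ⟨0, h0⟩ := by
  constructor
  · intro hg
    by_contra hmv
    have htop : Subgroup.centralizer ({d} : Set G) = ⊤ := by
      apply prim_maximal hA h h0
      · intro g' hg'
        rw [Subgroup.mem_centralizer_iff]
        intro y hy
        rw [Set.mem_singleton_iff.mp hy]
        exact (hfix g' hg').symm
      · refine ⟨g, ?_, hmv⟩
        rw [Subgroup.mem_centralizer_iff]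
        intro y hy
        rw [Set.mem_singleton_iff.mp hy]
        exact hg.symm
    obtain ⟨x, hx⟩ := hnc
    apply hx
    have hx' : x ∈ Subgroup.centralizer ({d} : Set G) := by rw [htop]; exact Subgroup.mem_top x
    rw [Subgroup.mem_centralizer_iff] at hx'
    exact (hx' d (Set.mem_singleton d)).symm
  · exact hfix g

/-- a class of 3-transpositions from a primitive coset table, for a group generated by the
conjugates of the transposition (no simplicity). -/
theorem three_transposition_class_gen {ρ : G →* Equiv.Perm (Fin N)} {e : List ℕ → G}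
    (hA : ActsOn ρ e k T) {Hgens : List (List ℕ)} {prim : PrimData}
    (h : primOK T k N Hgens prim = true) (h0 : 0 < N) (d : G)
    (hgen : Subgroup.normalClosure ({d} : Set G) = ⊤)
    (hd2 : orderOf d = 2)
    (hcent : ∀ g : G, g * d = d * g ↔ ρ g ⟨0, h0⟩ = ⟨0, h0⟩)
    (h3 : ∀ p ∈ prim, (d * (e p.2.1 * d * (e p.2.1)⁻¹)) ^ 2 = 1 ∨
      (d * (e p.2.1 * d * (e p.2.1)⁻¹)) ^ 3 = 1) :
    Cfsg.IsThreeTranspositionClass (conjugatesOf d) ∧ Nat.card (conjugatesOf d) = N := by
  set z : Fin N := ⟨0, h0⟩ with hz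
  have hdd : d * d = 1 := by
    have := pow_orderOf_eq_one d
    rwa [hd2, pow_two] at this
  have hd1 : d ≠ 1 := by
    intro h1
    rw [h1, orderOf_one] at hd2
    omega
  -- the basic case
  have hbase : ∀ a : G, (d * (a * d * a⁻¹)) ^ 2 = 1 ∨ (d * (a * d * a⁻¹)) ^ 3 = 1 := by
    intro a
    obtain ⟨s, hs, hu | ⟨p, hp, -, hu⟩⟩ := prim_points hA h h0 (ρ a z)
    · have ha : a * d = d * a := (hcent a).mpr (hu.symm.trans hs)
      left
      have : a * d * a⁻¹ = d := by rw [ha, mul_inv_cancel_right]
      rw [this, hdd, one_pow]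
    · have hsc : s * d = d * s := (hcent s).mpr hs
      set t := e p.2.1 with ht
      -- `c = (s t)⁻¹ a` commutes with `d`
      have hc : ((s * t)⁻¹ * a) * d = d * ((s * t)⁻¹ * a) := by
        apply (hcent _).mpr
        rw [map_mul, Equiv.Perm.mul_apply, ← hu, ← Equiv.Perm.mul_apply, ← map_mul,
          inv_mul_cancel, map_one, Equiv.Perm.one_apply]
      have hconj : a * d * a⁻¹ = s * (t * d * t⁻¹) * s⁻¹ := by
        have ha : a = (s * t) * ((s * t)⁻¹ * a) := by group
        have h1 : ((s * t)⁻¹ * a) * d * ((s * t)⁻¹ * a)⁻¹ = d := by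
          rw [hc, mul_inv_cancel_right]
        calc a * d * a⁻¹
            = (s * t) * (((s * t)⁻¹ * a) * d * ((s * t)⁻¹ * a)⁻¹) * (s * t)⁻¹ := by group
          _ = (s * t) * d * (s * t)⁻¹ := by rw [h1]
          _ = s * (t * d * t⁻¹) * s⁻¹ := by group
      rw [hconj, conj_mul_conj hsc]
      rcases h3 p hp with h2 | h2
      · left; exact conj_pow_eq_one h2
      · right; exact conj_pow_eq_one h2
  refine ⟨⟨⟨?_, ?_⟩, ⟨d, mem_conjugatesOf_self, rfl⟩, ?_⟩, ?_⟩
  · -- orders
    intro x hx
    obtain ⟨c, rfl⟩ := isConj_iff.mp hx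
    have := (MulAut.conj c).orderOf_eq d
    rw [MulAut.conj_apply] at this
    rw [this, hd2]
  · -- products
    intro x hx y hy
    obtain ⟨c, rfl⟩ := isConj_iff.mp hx
    obtain ⟨c', rfl⟩ := isConj_iff.mp hy
    have : c * d * c⁻¹ * (c' * d * c'⁻¹) = c * (d * ((c⁻¹ * c') * d * (c⁻¹ * c')⁻¹)) * c⁻¹ := by
      group
    rw [this]
    rcases hbase (c⁻¹ * c') with h2 | h2
    · left; exact conj_pow_eq_one h2
    · right; exact conj_pow_eq_one h2
  · -- generation
    have hncl : Subgroup.closure (conjugatesOf d) = Subgroup.normalClosure {d} := by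
      unfold Subgroup.normalClosure
      congr 1
      ext x
      rw [Group.mem_conjugatesOfSet_iff]
      constructor
      · intro hx
        exact ⟨d, Set.mem_singleton d, hx⟩
      · rintro ⟨a, ha, hx⟩
        rw [Set.mem_singleton_iff.mp ha] at hx
        exact hx
    rw [hncl]
    exact hgen
  · -- the number of conjugates
    have hex : ∀ u : Fin N, ∃ a : G, ρ a z = u := prim_transitive hA h h0
    choose a ha using hex
    let f : Fin N → conjugatesOf d := fun u => ⟨a u * d * (a u)⁻¹, isConj_iff.mpr ⟨a u, rfl⟩⟩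
    have hconj_eq : ∀ g g' : G, g * d * g⁻¹ = g' * d * g'⁻¹ ↔ ρ g z = ρ g' z := by
      intro g g'
      have h1 : g * d * g⁻¹ = g' * d * g'⁻¹ ↔ (g'⁻¹ * g) * d = d * (g'⁻¹ * g) := by
        constructor
        · intro hh
          have : g'⁻¹ * (g * d * g⁻¹) * g = g'⁻¹ * (g' * d * g'⁻¹) * g := by rw [hh]
          calc g'⁻¹ * g * d = g'⁻¹ * (g * d * g⁻¹) * g := by group
            _ = g'⁻¹ * (g' * d * g'⁻¹) * g := this
            _ = d * (g'⁻¹ * g) := by group
        · intro hh
          calc g * d * g⁻¹ = g' * ((g'⁻¹ * g) * d) * g⁻¹ := by group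
            _ = g' * (d * (g'⁻¹ * g)) * g⁻¹ := by rw [hh]
            _ = g' * d * g'⁻¹ := by group
      rw [h1, hcent, map_mul, Equiv.Perm.mul_apply, map_inv, Equiv.Perm.inv_eq_iff_eq]
    have hbij : Function.Bijective f := by
      constructor
      · intro u u' huu
        have := (hconj_eq (a u) (a u')).mp (congrArg Subtype.val huu)
        rw [ha, ha] at this
        exact this
      · rintro ⟨x, hx⟩
        obtain ⟨c, rfl⟩ := isConj_iff.mp hx
        refine ⟨ρ c z, Subtype.ext ?_⟩
        exact (hconj_eq _ _).mpr (ha _)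
    rw [← Nat.card_congr (Equiv.ofBijective f hbij), Nat.card_fin]


/-- the normal closure of a non-central involution outside a simple normal subgroup of index `2`
is the whole group. -/
theorem normalClosure_eq_top_of_index_two (f : G →* ℤˣ) (hs : IsSimpleGroup f.ker)
    (d : G) (hfd : f d = -1) (hdd : d * d = 1) (hnc : ∃ x : G, x * d ≠ d * x) :
    Subgroup.normalClosure ({d} : Set G) = ⊤ := by
  set Nd : Subgroup G := Subgroup.normalClosure ({d} : Set G) with hNd
  have hdN : d ∈ Nd := Subgroup.subset_normalClosure (Set.mem_singleton d)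
  have hnorm : (Nd.subgroupOf f.ker).Normal := inferInstance
  rcases Subgroup.Normal.eq_bot_or_eq_top hnorm with hb | ht
  · -- `Nd` meets the kernel trivially, so `Nd = {1, d}` and `d` is central
    exfalso
    have hsmall : ∀ x ∈ Nd, x = 1 ∨ x = d := by
      intro x hx
      have hmem : ∀ y ∈ Nd, f y = 1 → y = 1 := by
        intro y hy hfy
        have : (⟨y, MonoidHom.mem_ker.mpr hfy⟩ : f.ker) ∈ Nd.subgroupOf f.ker :=
          Subgroup.mem_subgroupOf.mpr hy
        rw [hb, Subgroup.mem_bot] at this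
        exact congrArg Subtype.val this
      rcases Int.units_eq_one_or (f x) with h1 | h1
      · left; exact hmem x hx h1
      · right
        have h2 : f (x * d) = 1 := by rw [map_mul, h1, hfd]; rfl
        have h3 := hmem (x * d) (Nd.mul_mem hx hdN) h2
        calc x = x * (d * d) := by rw [hdd, mul_one]
          _ = (x * d) * d := by rw [mul_assoc]
          _ = d := by rw [h3, one_mul]
    obtain ⟨x, hx⟩ := hnc
    apply hx
    have hconj : x * d * x⁻¹ ∈ Nd :=
      (inferInstance : Nd.Normal).conj_mem d hdN x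
    rcases hsmall _ hconj with h1 | h1
    · exfalso
      have : d = 1 := by
        have := congrArg (fun y => x⁻¹ * y * x) h1
        simpa [mul_assoc] using this
      rw [this, map_one] at hfd
      exact absurd hfd (by decide)
    · calc x * d = (x * d * x⁻¹) * x := by group
        _ = d * x := by rw [h1]
  · -- `Nd` contains the kernel and `d`
    have hle : f.ker ≤ Nd := by
      intro y hy
      have : (⟨y, hy⟩ : f.ker) ∈ Nd.subgroupOf f.ker := by rw [ht]; exact Subgroup.mem_top _
      exact Subgroup.mem_subgroupOf.mp this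
    rw [eq_top_iff]
    intro y _
    rcases Int.units_eq_one_or (f y) with h1 | h1
    · exact hle (MonoidHom.mem_ker.mpr h1)
    · have h2 : f (y * d) = 1 := by rw [map_mul, h1, hfd]; rfl
      have h3 : y * d ∈ Nd := hle (MonoidHom.mem_ker.mpr h2)
      have : y = (y * d) * d := by rw [mul_assoc, hdd, mul_one]
      rw [this]
      exact Nd.mul_mem h3 hdN

/-- a simple subgroup with more than two elements lies in every kernel of a homomorphism to `ℤˣ`. -/
theorem simple_le_ker (f : G →* ℤˣ) (K : Subgroup G) [IsSimpleGroup K] (hK : 2 < Nat.card K) :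
    K ≤ f.ker := by
  set fK : K →* ℤˣ := f.comp K.subtype with hfK
  rcases Subgroup.Normal.eq_bot_or_eq_top (inferInstance : fK.ker.Normal) with hb | ht
  · exfalso
    have hinj : Function.Injective fK := (MonoidHom.ker_eq_bot_iff fK).mp hb
    have h1 := Nat.card_le_card_of_injective fK hinj
    have h2 : Nat.card ℤˣ = 2 := by
      rw [Nat.card_eq_fintype_card]; rfl
    omega
  · intro x hx
    have : (⟨x, hx⟩ : K) ∈ fK.ker := by rw [ht]; exact Subgroup.mem_top _
    exact MonoidHom.mem_ker.mpr (MonoidHom.mem_ker.mp this)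

end

end Cfsg.Agent.Helper5.LP

namespace Cfsg.Agent.Helper5.Fi24LP

open Cfsg.Agent.Helper5.TC Cfsg.Agent.Helper5.TCI Cfsg.Agent.Helper5.LP

/-- the list-presented `Fi₂₄`. -/
abbrev G12 : Type := LPG 12 R12

/-- the transposition `l`. -/
noncomputable def d0 : G12 := ev 12 R12 [10]

theorem d0_sq : d0 * d0 = 1 := ev_sq invol12 10

theorem d0_inv : d0⁻¹ = d0 := inv_eq_of_mul_eq_one_left d0_sq

theorem h0 : 0 < 306936 := by norm_num

theorem sgn_d0 : sgn d0 = -1 := by
  unfold d0
  rw [sgn_ev [10] (by decide)]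
  rfl

theorem d0_ne : d0 ≠ 1 := by
  intro h
  have := sgn_d0
  rw [h, map_one] at this
  exact absurd this (by decide)

theorem d0_order : orderOf d0 = 2 := by
  haveI : Fact (Nat.Prime 2) := ⟨Nat.prime_two⟩
  exact orderOf_eq_prime (by rw [pow_two]; exact d0_sq) d0_ne

/-! ### small word identities, by tracing the base -/

theorem comm_words : ∀ c, c < 11 → baseFixB [c, 10, c, 10] = true := by decide +kernel

theorem letter_comm (c : ℕ) (hc : c < 11) : ev 12 R12 [c] * d0 = d0 * ev 12 R12 [c] := by
  have h1 := word_eq_one _ (comm_words c hc)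
  have h2 : ev 12 R12 [c, 10, c, 10] = ev 12 R12 [c] * d0 * (ev 12 R12 [c] * d0) := by
    rw [show [c, 10, c, 10] = [c] ++ [10] ++ ([c] ++ [10]) from rfl, ev_append, ev_append]
    rfl
  rw [h2] at h1
  have h3 := ev_sq invol12 c
  have h4 : (ev 12 R12 [c] * d0)⁻¹ = d0 * ev 12 R12 [c] := by
    rw [mul_inv_rev, d0_inv, inv_eq_of_mul_eq_one_left h3]
  rw [← h4]
  exact (inv_eq_of_mul_eq_one_left h1).symm

theorem kl_move : actL FiZATC.ctF [11, 10] 0 ≠ actL FiZATC.ctF [10, 11] 0 := by decide +kernel

theorem d0_nc : ∃ x : G12, x * d0 ≠ d0 * x := by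
  refine ⟨ev 12 R12 [11], ?_⟩
  intro h
  have h1 : ev 12 R12 [11, 10] = ev 12 R12 [10, 11] := by
    rw [show [11, 10] = [11] ++ [10] from rfl, show [10, 11] = [10] ++ [11] from rfl, ev_append,
      ev_append]
    exact h
  have h2 := actsA.act [11, 10] (by decide) ⟨0, h0⟩
  have h3 := actsA.act [10, 11] (by decide) ⟨0, h0⟩
  rw [h1, h3] at h2
  exact kl_move h2.symm

/-! ### the centraliser of the transposition -/

theorem para_fix : ∀ g ∈ para 12 R12 11, rho g ⟨0, h0⟩ = ⟨0, h0⟩ := by
  intro g hg
  unfold para at hg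
  induction hg using Subgroup.closure_induction with
  | mem x hx =>
    obtain ⟨s, hs, rfl⟩ := hx
    obtain ⟨c, hc, rfl⟩ := mem_letterWords.mp hs
    apply Fin.ext
    rw [actsA.act [c] (by intro c' hc'; rw [List.mem_singleton.mp hc']; omega)]
    exact letters_fix c hc
  | one => rw [map_one]; rfl
  | mul x y _ _ hx hy => rw [map_mul, Equiv.Perm.mul_apply, hy, hx]
  | inv x _ hx =>
    rw [map_inv, Equiv.Perm.inv_eq_iff_eq]
    exact hx.symm

theorem stab_mem : ∀ g : G12, rho g ⟨0, h0⟩ = ⟨0, h0⟩ → g ∈ para 12 R12 11 :=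
  mem_of_fix_zero actsA prim_ok h0 (para 12 R12 11) para_fix idxA

theorem para_comm : ∀ g ∈ para 12 R12 11, g * d0 = d0 * g := by
  intro g hg
  unfold para at hg
  induction hg using Subgroup.closure_induction with
  | mem x hx =>
    obtain ⟨s, hs, rfl⟩ := hx
    obtain ⟨c, hc, rfl⟩ := mem_letterWords.mp hs
    exact letter_comm c hc
  | one => simp
  | mul x y _ _ hx hy => rw [mul_assoc, hy, ← mul_assoc, hx, mul_assoc]
  | inv x _ hx =>
    have : x⁻¹ * d0 = x⁻¹ * (d0 * x) * x⁻¹ := by group
    rw [this, ← hx]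
    group

theorem d0_cent (g : G12) : g * d0 = d0 * g ↔ rho g ⟨0, h0⟩ = ⟨0, h0⟩ :=
  comm_iff_fix_nc actsA prim_ok h0 d0 d0_nc (fun g hg => para_comm g (stab_mem g hg)) g

theorem cent_d0 : Subgroup.centralizer ({d0} : Set G12) = para 12 R12 11 := by
  ext g
  rw [Subgroup.mem_centralizer_iff]
  constructor
  · intro hg
    have h1 : g * d0 = d0 * g := (hg d0 (Set.mem_singleton d0)).symm
    exact stab_mem g ((d0_cent g).mp h1)
  · intro hg y hy
    rw [Set.mem_singleton_iff.mp hy]
    exact (para_comm g hg).symm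

theorem card_cent_d0 : Nat.card (Subgroup.centralizer ({d0} : Set G12)) = 2 * 4089470473293004800 := by
  rw [cent_d0, ← range_phi]
  exact card_range

/-! ### the class of 3-transpositions -/

theorem gen_d0 : Subgroup.normalClosure ({d0} : Set G12) = ⊤ :=
  normalClosure_eq_top_of_index_two sgn simple_ker d0 sgn_d0 d0_sq d0_nc

theorem conj_word (t : List ℕ) :
    d0 * (ev 12 R12 t * d0 * (ev 12 R12 t)⁻¹) = ev 12 R12 ([10] ++ (t ++ [10] ++ t.reverse)) := by
  rw [ev_append, ev_append, ev_append, ev_reverse invol12]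
  rfl

set_option maxRecDepth 100000 in
theorem prim_w0 : baseFixB (List.replicate 3 ([10] ++ ([11] ++ [10] ++ [11].reverse))).flatten = true := by
  decide +kernel

set_option maxRecDepth 100000 in
theorem prim_w1 : baseFixB (List.replicate 2
    ([10] ++ ([11, 10, 8, 11] ++ [10] ++ [11, 10, 8, 11].reverse))).flatten = true := by
  decide +kernel

theorem tt_prim : ∀ p ∈ prim, (d0 * (ev 12 R12 p.2.1 * d0 * (ev 12 R12 p.2.1)⁻¹)) ^ 2 = 1 ∨
    (d0 * (ev 12 R12 p.2.1 * d0 * (ev 12 R12 p.2.1)⁻¹)) ^ 3 = 1 := by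
  intro p hp
  simp only [prim, List.mem_cons, List.not_mem_nil, or_false] at hp
  rcases hp with rfl | rfl
  · right
    show (d0 * (ev 12 R12 [11] * d0 * (ev 12 R12 [11])⁻¹)) ^ 3 = 1
    rw [conj_word, ev_pow]
    exact word_eq_one _ prim_w0
  · left
    show (d0 * (ev 12 R12 [11, 10, 8, 11] * d0 * (ev 12 R12 [11, 10, 8, 11])⁻¹)) ^ 2 = 1
    rw [conj_word, ev_pow]
    exact word_eq_one _ prim_w1

/-- **The class of 3-transpositions.** -/
theorem tt_class : Cfsg.IsThreeTranspositionClass (conjugatesOf d0) ∧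
    Nat.card (conjugatesOf d0) = 306936 :=
  three_transposition_class_gen actsA prim_ok h0 d0 gen_d0 d0_order d0_cent tt_prim

/-! ### a copy of `Fi₂₃` in the centraliser -/

/-- a word in the ten letters of `Fi₂₃`, every letter multiplied by `l`. -/
def sub23 : List ℕ → List ℕ
  | [] => []
  | c :: l => [c, 10] ++ sub23 l

set_option maxRecDepth 100000 in
theorem rels23_ok : Fi23LP.R10.all (fun l => baseFixB (sub23 l)) = true := by decide +kernel

/-- the images of the ten generators. -/
noncomputable def f23 (c : ℕ) : G12 := ev 12 R12 [c, 10]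

theorem prod_map_f23 : ∀ l : List ℕ, (l.map f23).prod = ev 12 R12 (sub23 l)
  | [] => by
    rw [List.map_nil, List.prod_nil, sub23, ev_nil]
  | c :: l => by
    rw [List.map_cons, List.prod_cons, prod_map_f23 l, sub23, ev_append]
    rfl

/-- the homomorphism from the list-presented `Fi₂₃`. -/
noncomputable def hom23 : LPG 10 Fi23LP.R10 →* G12 :=
  LP.lift f23 letters23 (fun l hl => by
    rw [prod_map_f23]
    exact word_eq_one _ (List.all_eq_true.mp rels23_ok l hl))

theorem hom23_letter (c : ℕ) (hc : c < 10) : hom23 (ev 10 Fi23LP.R10 [c]) = ev 12 R12 [c, 10] := by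
  unfold hom23
  rw [lift_ev f23 letters23 _ [c] (by intro c' hc'; rw [List.mem_singleton.mp hc']; exact hc)]
  rw [List.map_cons, List.map_nil, List.prod_cons, List.prod_nil, mul_one]
  rfl

theorem bl_move : actL FiZATC.ctF [0, 10] 34 ≠ 34 := by decide +kernel

theorem ev_bl_ne : ev 12 R12 [0, 10] ≠ 1 := by
  intro h
  have h2 := actsA.act [0, 10] (by decide) ⟨34, by norm_num⟩
  rw [h, map_one, Equiv.Perm.one_apply] at h2
  exact bl_move h2.symm

instance simple23 : IsSimpleGroup (LPG 10 Fi23LP.R10) := Fi23LP.simple_card.1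

theorem hom23_inj : Function.Injective hom23 := by
  rw [← MonoidHom.ker_eq_bot_iff]
  rcases Subgroup.Normal.eq_bot_or_eq_top (inferInstance : hom23.ker.Normal) with h | h
  · exact h
  · exfalso
    have : ev 10 Fi23LP.R10 [0] ∈ hom23.ker := by rw [h]; exact Subgroup.mem_top _
    rw [MonoidHom.mem_ker, hom23_letter 0 (by norm_num)] at this
    exact ev_bl_ne this

/-- the copy of `Fi₂₃`. -/
noncomputable def K23 : Subgroup G12 := hom23.range

theorem isFi23_K23 : Cfsg.IsFi23 K23 := by
  refine ⟨?_, ?_⟩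
  · exact (MonoidHom.ofInjective hom23_inj).symm.isSimpleGroup
  · show Nat.card hom23.range = _
    rw [← Nat.card_congr (MonoidHom.ofInjective hom23_inj).toEquiv]
    exact Fi23LP.simple_card.2

theorem K23_le : K23 ≤ Subgroup.centralizer ({d0} : Set G12) := by
  rw [cent_d0]
  unfold K23
  rw [MonoidHom.range_eq_map, ← closure_gens (k := 10) (R := Fi23LP.R10), MonoidHom.map_closure,
    Subgroup.closure_le]
  rintro _ ⟨_, ⟨c, hc, rfl⟩, rfl⟩
  rw [hom23_letter c hc]
  have h1 : ev 12 R12 [c, 10] = ev 12 R12 [c] * ev 12 R12 [10] := by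
    rw [show [c, 10] = [c] ++ [10] from rfl, ev_append]
  rw [h1]
  unfold para
  apply Subgroup.mul_mem
  · exact Subgroup.subset_closure ⟨[c], mem_letterWords.mpr ⟨c, by omega, rfl⟩, rfl⟩
  · exact Subgroup.subset_closure ⟨[10], mem_letterWords.mpr ⟨10, by omega, rfl⟩, rfl⟩

end Cfsg.Agent.Helper5.Fi24LP
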