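import Cfsg.Agent.Helper5.FiXATCDatD
import Cfsg.Agent.Helper5.TCIB

/-! kernel checks of edges, aliases, rows: FiXATC -/

set_option autoImplicit false
set_option Elab.async false

namespace Cfsg.Agent.Helper5.FiXATC
open Cfsg.Agent.Helper5.TC Cfsg.Agent.Helper5.TCI

set_option maxRecDepth 1000000 in
theorem cnt_0 : cntFrom RS 16838 0 0 = 14080 := by decide +kernel

set_option maxRecDepth 1000000 in
theorem edges_0_6 : edgesRangeI iota E 0 1792 14257 = true := by decide +kernel

set_option maxRecDepth 1000000 in
theorem edges_8_5 : edgesRangeI iota E 8 1858 13179 = true := by decide +kernel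

set_option maxRecDepth 1000000 in
theorem edges_2_6 : edgesRangeI iota E 2 1807 13440 = true := by decide +kernel

set_option maxRecDepth 1000000 in
theorem edges_3_7 : edgesRangeI iota E 3 1788 14667 = true := by decide +kernel

set_option maxRecDepth 1000000 in
theorem edges_5_7 : edgesRangeI iota E 5 1842 14946 = true := by decide +kernel

set_option maxRecDepth 1000000 in
theorem edges_7_1 : edgesRangeI iota E 7 2243 2265 = true := by decide +kernel

set_option maxRecDepth 1000000 in
theorem edges_0_4 : edgesRangeI iota E 0 1985 10494 = true := by decide +kernel

set_option maxRecDepth 1000000 in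
theorem edges_2_0 : edgesRangeI iota E 2 2428 0 = true := by decide +kernel

set_option maxRecDepth 1000000 in
theorem edges_4_1 : edgesRangeI iota E 4 2801 2399 = true := by decide +kernel

set_option maxRecDepth 1000000 in
theorem edges_5_2 : edgesRangeI iota E 5 2381 4916 = true := by decide +kernel

set_option maxRecDepth 1000000 in
theorem edges_6_6 : edgesRangeI iota E 6 2646 12662 = true := by decide +kernel

set_option maxRecDepth 1000000 in
theorem aliases_0 : aliasRange E 3855 0 = true := by decide +kernel

set_option maxRecDepth 1000000 in
theorem edges_2_3 : edgesRangeI iota E 2 1933 7231 = true := by decide +kernel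

set_option maxRecDepth 1000000 in
theorem edges_3_1 : edgesRangeI iota E 3 2633 2500 = true := by decide +kernel

set_option maxRecDepth 1000000 in
theorem edges_3_5 : edgesRangeI iota E 3 1860 10808 = true := by decide +kernel

set_option maxRecDepth 1000000 in
theorem edges_5_0 : edgesRangeI iota E 5 2175 0 = true := by decide +kernel

set_option maxRecDepth 1000000 in
theorem edges_7_5 : edgesRangeI iota E 7 1811 10284 = true := by decide +kernel

set_option maxRecDepth 1000000 in
theorem edges_0_5 : edgesRangeI iota E 0 1778 12479 = true := by decide +kernel

set_option maxRecDepth 1000000 in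
theorem edges_2_5 : edgesRangeI iota E 2 2193 11247 = true := by decide +kernel

set_option maxRecDepth 1000000 in
theorem edges_4_3 : edgesRangeI iota E 4 1967 7284 = true := by decide +kernel

set_option maxRecDepth 1000000 in
theorem edges_6_3 : edgesRangeI iota E 6 1903 7001 = true := by decide +kernel

set_option maxRecDepth 1000000 in
theorem edges_8_1 : edgesRangeI iota E 8 3467 3685 = true := by decide +kernel

set_option maxRecDepth 1000000 in
theorem edges_0_0 : edgesRangeI iota E 0 2427 0 = true := by decide +kernel

set_option maxRecDepth 1000000 in
theorem edges_0_2 : edgesRangeI iota E 0 2557 5739 = true := by decide +kernel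

set_option maxRecDepth 1000000 in
theorem edges_1_1 : edgesRangeI iota E 1 2842 2370 = true := by decide +kernel

set_option maxRecDepth 1000000 in
theorem edges_2_2 : edgesRangeI iota E 2 2082 5149 = true := by decide +kernel

set_option maxRecDepth 1000000 in
theorem edges_4_4 : edgesRangeI iota E 4 1977 9251 = true := by decide +kernel

set_option maxRecDepth 1000000 in
theorem edges_5_1 : edgesRangeI iota E 5 2741 2175 = true := by decide +kernel

set_option maxRecDepth 1000000 in
theorem edges_6_0 : edgesRangeI iota E 6 2383 0 = true := by decide +kernel

set_option maxRecDepth 1000000 in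
theorem edges_6_2 : edgesRangeI iota E 6 2191 4810 = true := by decide +kernel

set_option maxRecDepth 1000000 in
theorem edges_7_2 : edgesRangeI iota E 7 2074 4508 = true := by decide +kernel

set_option maxRecDepth 1000000 in
theorem edges_8_4 : edgesRangeI iota E 8 1769 11410 = true := by decide +kernel

set_option maxRecDepth 1000000 in
theorem aliases_2 : aliasRange E 8000 7725 = true := by decide +kernel

set_option maxRecDepth 1000000 in
theorem edges_7_7 : edgesRangeI iota E 7 2877 13961 = true := by decide +kernel

set_option maxRecDepth 1000000 in
theorem edges_4_7 : edgesRangeI iota E 4 1354 15484 = true := by decide +kernel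

set_option maxRecDepth 1000000 in
theorem rows_0 : rowsRange E RS 1500 0 = true := by decide +kernel

set_option maxRecDepth 1000000 in
theorem rows_2 : rowsRange E RS 1500 3000 = true := by decide +kernel

set_option maxRecDepth 1000000 in
theorem rows_4 : rowsRange E RS 1500 6000 = true := by decide +kernel

set_option maxRecDepth 1000000 in
theorem rows_6 : rowsRange E RS 1500 9000 = true := by decide +kernel

set_option maxRecDepth 1000000 in
theorem rows_8 : rowsRange E RS 1500 12000 = true := by decide +kernel

set_option maxRecDepth 1000000 in
theorem rows_10 : rowsRange E RS 1500 15000 = true := by decide +kernel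

set_option maxRecDepth 1000000 in
theorem edges_1_7 : edgesRangeI iota E 1 1175 15663 = true := by decide +kernel

set_option maxRecDepth 1000000 in
theorem rows_11 : rowsRange E RS 338 16500 = true := by decide +kernel

set_option maxRecDepth 1000000 in
theorem edges_5_8 : edgesRangeI iota E 5 50 16788 = true := by decide +kernel

end Cfsg.Agent.Helper5.FiXATC
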