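import Cfsg.Agent.Helper5.TC2A

/-! generated coset table (generator 0): FiXBTC -/

set_option autoImplicit false
set_option Elab.async false

namespace Cfsg.Agent.Helper5.FiXBTC
open Cfsg.Agent.Helper5.TC

def ct0_0 : ℕ := 0x16b00016700016800016900016a00016600015f00015e00016300016100016200016000016500016400015d00015100015500015000014f00015800015400015600015b00015700014000015200015c00015a00015900014e00013900013800013f00013700013600013500014700014600013e00014400014300014100014200015300014b00014500012000012200013b00013a00014d00014c00014a00014900014800013400011900012400011800011700011600011f00011500011400012b00012a00012900012800012700012600012100013200010400013c00012500013d00012e0000fe00010100010000011b00011a00013300013100013000012f00012d00012c0000f80000f70001030000f60000f50000f40000f300010c00010b00010a0001090000e80000ff0001050001060001230001110000e000011d00011c00010700011e0000e20000df0000de0000fa0000f900011300011200011000010f00010e00010d0000d80000e50000d70000d60000d50000d40000d30000eb0000ea0000e30001080000c50000e10000f10000c10000e90000fd0000e60001020000fc0000fb0000c00000bf0000be0000bd0000d90000f20000f00000ef0000ee0000ed0000ec0000b60000b50000b40000b30000b20000cd0000cb0000cc0000c40000ab0000a50000c70000c60000e70000ca0000c20000c30000e40000dd0000dc0000db0000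da0000a10000a000009f00009e0000b80000b70000d20000d10000d00000cf0000ce0000980000970000960000ae0000aa0000a20000c90000ad00008e00008d00008a0000a60000c80000a40000a30000ac0000bc0000bb0000ba0000b900008400008300008200009a0000990000b10000b00000af00007d00007c00008500009200009100008f0000900000a90000a80000750000740000a700008900008800008700008600009300009d00009c00009b00006d00006c00007f00007e00009500009400006800007600007900007800007700007a00008c00008b00006000005f00007100007000006f00006e00008100008000005900006a00006900007b00006600006700005300006400006300006200006100007300007200004d00005d00005c00005b00005a00006b00005800005700004400004600004500006500004000005100005000004f00004e00005e00004c00004b00004a00004900004800004700005500005400005600003300003500003400005200003f00003e00003d00003c00003b00003a00003900003800003700003600004200004100004300002800002700002600002f00002e00002d00002c00002b00002a00002900003200003100003000001e00001d00001c00002200002100002000001f00002500002400002300001600001500001400001800001700001b00001a00001900001000000f00001100001300001200000c00000b00000e00000d00000800000900000a000005000006000007000004000003000002000001000000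
def ctSel0 (c : ℕ) : ℕ := ct0_0
def ct0F (v : ℕ) : ℕ := Nat.rec (motive := fun _ => ℕ) 0 (fun c _ => Nat.mod (Nat.shiftRight (ctSel0 c) (Nat.mul 24 (Nat.mod v 682))) 16777216) (Nat.add (Nat.div v 682) 1)

end Cfsg.Agent.Helper5.FiXBTC
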