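import Cfsg.Agent.Helper5.TC2A

/-! generated coset table (generator 0): FiXCTC -/

set_option autoImplicit false
set_option Elab.async false

namespace Cfsg.Agent.Helper5.FiXCTC
open Cfsg.Agent.Helper5.TC

def ct0_0 : ℕ := 0xef0000f00000f10000f20000ee0000e30000e60000e10000ea0000e90000e80000e70000ec0000d60000e40000ed0000d70000eb0000d30000d90000d10000d00000dc0000db0000da0000df0000c40000e20000e50000c30000d40000e00000c50000de0000dd0000bd0000c70000bb0000ba0000b90000ca0000c90000b00000ce0000ae0000d20000d80000d50000ad0000ac0000c00000bf0000b30000cf0000af0000cd0000cc0000cb0000a40000a30000a20000a10000b40000be00009c0000980000c80000bc0000c60000c20000c10000960000950000940000a80000a700009d0000a50000b80000b70000b60000b500008c00008b00008a0000a60000b20000850000840000810000b10000970000ab0000aa0000a900007e00007d00007c00009000008700008e00008d0000a000009f00009e00007300007200008f00006e00009b00009a00006b00006a00009900008000007f00009300009200009100006400006300006100007800007000007600007500007400008900008800005c00007700005b00008600005900006c00008300008200005500005400006700006600006500007b00007a00004f00007900006000005f00005e00005d00007100006f00004a00006d00004700005700005600006900006800004200005200005100005000006200004e00004d00004c00004b00005a00003a00003b00005800003700004500004400004300005300004100004000003f00003e00003d00003c00004800004900002d00002e00004600003600003500003400003300003200003100003000002f00003800003900002400002300002a00002900002800002700002600002500002c00002b00001c00001b00002000001f00001e00001d00002200002100001500001400001300001700001600001a00001900001800000f00000e00001000001200001100000b00000a00000d00000c000007000008000009000004000005000006000003000002000001000000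
def ctSel0 (c : ℕ) : ℕ := ct0_0
def ct0F (v : ℕ) : ℕ := Nat.rec (motive := fun _ => ℕ) 0 (fun c _ => Nat.mod (Nat.shiftRight (ctSel0 c) (Nat.mul 24 (Nat.mod v 682))) 16777216) (Nat.add (Nat.div v 682) 1)

end Cfsg.Agent.Helper5.FiXCTC
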