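import Cfsg.Agent.Helper5.TC2A

/-! generated certificate data (events 0): FiXDTC -/

set_option autoImplicit false
set_option Elab.async false

namespace Cfsg.Agent.Helper5.FiXDTC
open Cfsg.Agent.Helper5.TC

def ev_0 : ℕ := 0x64081500000064081100000064080d0000006408090000006008050000006008290000006008250000006008210000005c081d0000005c08390000005408350000005808310000005c04090000004c084d00000054044100000054042500000054041100000044084d0000005004350000005004250000005004110000004c04450000004c04390000004c04290000004c041500000044043900000044042900000044041500000044084100000044043100000044042100000044040d0000003c044d0000003c04450000003c04290000003c04150000003008350000003c041d0000003c040900000034044d0000003404450000003404390000003404150000003004410000003004250000003004110000002c044d0000002c04450000002c04390000002c042900000028044100000028043500000028041100000028082900000028082100000020081d0000002804050000002404410000002404350000002404250000002008390000001808310000002004090000001c08390000001008310000001c041d00000018084500000018084100000018042100000018040d0000001008450000001008410000001004210000001008150000001008110000001008090000000c08050000000c08450000000c08410000000c04310000000c040d0000000c08290000000c082500000008081d00000008083900000004083500000008040900000000084d00000004044100000004042500000004041100000000044500000000043900000000042900000000041500000000006500000000006100000000005d000000000059000000000055000000000000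
def evSel0 (c : ℕ) : ℕ := ev_0

end Cfsg.Agent.Helper5.FiXDTC
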