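import Cfsg.Agent.Helper5.TC2A

/-! generated certificate data (events 0): FiXETC -/

set_option autoImplicit false
set_option Elab.async false

namespace Cfsg.Agent.Helper5.FiXETC
open Cfsg.Agent.Helper5.TC

def ev_0 : ℕ := 0x38083500000038042900000038041d00000038040d0000002c082d0000003404190000003404090000002c04350000002c04210000002c041100000024043500000024042d00000024041100000024081d0000001c081900000024040500000020043500000020042d0000002004210000001408290000001c04090000000c082900000018041900000014083500000014041d00000014040d0000000c08350000000c041d0000000c08110000000c080900000008080500000008083500000008042900000008040d00000008082100000004081900000000082d00000004040900000000043500000000042100000000041100000000004900000000004500000000004100000000003d000000000000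
def evSel0 (c : ℕ) : ℕ := ev_0

end Cfsg.Agent.Helper5.FiXETC
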