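import Cfsg.Agent.Helper5.FiXKTCDatD
import Cfsg.Agent.Helper5.TCIB

/-! kernel checks of edges, aliases, rows: FiXKTC -/

set_option autoImplicit false
set_option Elab.async false

namespace Cfsg.Agent.Helper5.FiXKTC
open Cfsg.Agent.Helper5.TC Cfsg.Agent.Helper5.TCI

set_option maxRecDepth 1000000 in
theorem edges_4_0 : edgesRangeI iota E 4 4037 0 = true := by decide +kernel

set_option maxRecDepth 1000000 in
theorem aliases_1 : aliasRange E 3008 3895 = true := by decide +kernel

set_option maxRecDepth 1000000 in
theorem edges_4_1 : edgesRangeI iota E 4 4132 4037 = true := by decide +kernel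

set_option maxRecDepth 1000000 in
theorem edges_2_0 : edgesRangeI iota E 2 5186 0 = true := by decide +kernel

set_option maxRecDepth 1000000 in
theorem edges_5_1 : edgesRangeI iota E 5 3810 3412 = true := by decide +kernel

set_option maxRecDepth 1000000 in
theorem edges_0_0 : edgesRangeI iota E 0 5241 0 = true := by decide +kernel

set_option maxRecDepth 1000000 in
theorem edges_1_0 : edgesRangeI iota E 1 5697 0 = true := by decide +kernel

set_option maxRecDepth 1000000 in
theorem edges_3_0 : edgesRangeI iota E 3 5004 0 = true := by decide +kernel

set_option maxRecDepth 1000000 in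
theorem edges_5_0 : edgesRangeI iota E 5 3412 0 = true := by decide +kernel

set_option maxRecDepth 1000000 in
theorem edges_6_0 : edgesRangeI iota E 6 4200 0 = true := by decide +kernel

set_option maxRecDepth 1000000 in
theorem edges_6_1 : edgesRangeI iota E 6 4021 4200 = true := by decide +kernel

set_option maxRecDepth 1000000 in
theorem edges_7_0 : edgesRangeI iota E 7 3806 0 = true := by decide +kernel

set_option maxRecDepth 1000000 in
theorem edges_7_1 : edgesRangeI iota E 7 3381 3806 = true := by decide +kernel

set_option maxRecDepth 1000000 in
theorem edges_8_0 : edgesRangeI iota E 8 6576 0 = true := by decide +kernel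

set_option maxRecDepth 1000000 in
theorem aliases_0 : aliasRange E 3895 0 = true := by decide +kernel

set_option maxRecDepth 1000000 in
theorem aliases_2 : aliasRange E 1566 6903 = true := by decide +kernel

set_option maxRecDepth 1000000 in
theorem rows_0 : rowsRange E RS 1500 0 = true := by decide +kernel

set_option maxRecDepth 1000000 in
theorem rows_1 : rowsRange E RS 1500 1500 = true := by decide +kernel

set_option maxRecDepth 1000000 in
theorem rows_2 : rowsRange E RS 1500 3000 = true := by decide +kernel

set_option maxRecDepth 1000000 in
theorem rows_3 : rowsRange E RS 1500 4500 = true := by decide +kernel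

set_option maxRecDepth 1000000 in
theorem rows_4 : rowsRange E RS 1500 6000 = true := by decide +kernel

set_option maxRecDepth 1000000 in
theorem edges_3_1 : edgesRangeI iota E 3 3465 5004 = true := by decide +kernel

set_option maxRecDepth 1000000 in
theorem edges_2_1 : edgesRangeI iota E 2 3283 5186 = true := by decide +kernel

set_option maxRecDepth 1000000 in
theorem cnt_0 : cntFrom RS 8469 0 0 = 1 := by decide +kernel

set_option maxRecDepth 1000000 in
theorem edges_0_1 : edgesRangeI iota E 0 3228 5241 = true := by decide +kernel

set_option maxRecDepth 1000000 in
theorem rows_5 : rowsRange E RS 969 7500 = true := by decide +kernel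

set_option maxRecDepth 1000000 in
theorem edges_7_2 : edgesRangeI iota E 7 1282 7187 = true := by decide +kernel

set_option maxRecDepth 1000000 in
theorem edges_1_1 : edgesRangeI iota E 1 2772 5697 = true := by decide +kernel

set_option maxRecDepth 1000000 in
theorem edges_5_2 : edgesRangeI iota E 5 1247 7222 = true := by decide +kernel

set_option maxRecDepth 1000000 in
theorem edges_8_1 : edgesRangeI iota E 8 1893 6576 = true := by decide +kernel

set_option maxRecDepth 1000000 in
theorem edges_4_2 : edgesRangeI iota E 4 300 8169 = true := by decide +kernel

set_option maxRecDepth 1000000 in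
theorem edges_6_2 : edgesRangeI iota E 6 248 8221 = true := by decide +kernel

end Cfsg.Agent.Helper5.FiXKTC
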