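import Cfsg.Agent.Helper5.TC2A

/-! generated certificate data (A): FiXLTC -/

set_option autoImplicit false
set_option Elab.async false

namespace Cfsg.Agent.Helper5.FiXLTC
open Cfsg.Agent.Helper5.TC

def par_0 : ℕ := 0x2900002900002900002900002800002800002600002400002300002300002200002200002100002000001f00001f00001f00001d00001c00001b00001a00001a00001a00001a00001700001600001500001500001400001400001400001100001100001000001000000d00000c00000b00000b000009000009000009000009000009000009000008000007000007000006000006000006000005000005000005000005000004000004000004000004000004000003000003000003000003000003000002000002000002000002000001000001000001000001000001000001000001000000000000000000000000000000000000000000000000000000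
def parSel (c : ℕ) : ℕ := par_0
def parF (v : ℕ) : ℕ := Nat.rec (motive := fun _ => ℕ) 0 (fun c _ => Nat.mod (Nat.shiftRight (parSel c) (Nat.mul 24 (Nat.mod v 682))) 16777216) (Nat.add (Nat.div v 682) 1)
def gen_0 : ℕ := 0x7000600050003000700060006000600070003000700060006000300070006000400060003000700070006000500020006000200050004000500040003000700060007000600060006000500040007000600050004000200000006000700030007000600040007000600050002000700060005000400020006000500040003000100070006000400000007000600050004000300020001000700060005000400030002000100000000
def genSel (c : ℕ) : ℕ := gen_0
def genF (v : ℕ) : ℕ := Nat.rec (motive := fun _ => ℕ) 0 (fun c _ => Nat.mod (Nat.shiftRight (genSel c) (Nat.mul 16 (Nat.mod v 1024))) 65536) (Nat.add (Nat.div v 1024) 1)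

end Cfsg.Agent.Helper5.FiXLTC
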