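import Cfsg.Agent.Helper5.TC2A

/-! generated certificate data (events 0): FiXLTC -/

set_option autoImplicit false
set_option Elab.async false

namespace Cfsg.Agent.Helper5.FiXLTC
open Cfsg.Agent.Helper5.TC

def ev_0 : ℕ := 0x182600000028080200000000184600000004082200000024083e00000010184200000058083e00000000fc96000000ac085600000014083e0000005c0822000000b8087a000000c40003000000e80003000000e8087a000000e4086a000000540822000000dc0003000000e0087a000000dc086a000000d808560000003808020000003808220000000c088600000060087a000000140886000000f0083e000000c0080200000080085600000100086a0000001c085600000070085600000074088600000024083e000000a4088e000000a408860000014c085600000114086a000000c408020000008c08860000005c083e00000018186e000000ac083e00000068087a000000a4085600000150000300000150083e000000b40802000001400822000000cc08020000004c086a00000124000300000018086a0000007c088e00000114088e00000118087a000000d408220000008008560000010808860000011c086a00000094087a00000128086a0000010408560000008c088e00000144086a00000130087a00000000088e00000020088600000000009a000001241089000001440c75000001440065000000201099000000a40451000000a4044d00000118007d00000144005d000000181099000000a40449000000a00439000000a0041d000000a00435000000a004190000001c088900000090047d0000008c04810000001c085d0000008804750000008804710000008404710000001c08590000007c04810000007c047d0000001008610000006c04810000006c046500000068047500000068046500000068045d0000005c047d0000005c044d00000054045d00000054045900000050043100000050042d00000050042900000044047500000044043900000044047100000044043500000040041d00000040041900000034047d0000003404190000003004190000002c041100000024043900000024043500000024043100000024042d00000004080500000018048100000018047d00000014047500000014047100000010045d0000001004590000000c044900000008042d00000004041d00000004041900000004041500000004041100000004040d000000040409000000000000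
def evSel0 (c : ℕ) : ℕ := ev_0

end Cfsg.Agent.Helper5.FiXLTC
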