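import Cfsg.Agent.Helper5.TC2A

/-! generated certificate data (targets of generator 2): FiXLTC -/

set_option autoImplicit false
set_option Elab.async false

namespace Cfsg.Agent.Helper5.FiXLTC
open Cfsg.Agent.Helper5.TC

def tg2_0 : ℕ := 0x2d00002c00002b00000000000000000000000000000000000000000000000000000000000000000000000000000000000000000000000000000000000000000000000000001a00002300001600000000000000000000000000000000000000000000000000001200000000000000000000000000005400005300005200005200000900000000000000000000000000000000003c00000000000000000000000000000500000000000000000000003d00000400000700000600003b00000000000000000000000000000000000000000000000000000000000000000000000100002900000000001800001700001e00001900000000000000000a000003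
def tgSel2 (c : ℕ) : ℕ := tg2_0
def tg2F (v : ℕ) : ℕ := Nat.rec (motive := fun _ => ℕ) 0 (fun c _ => Nat.mod (Nat.shiftRight (tgSel2 c) (Nat.mul 24 (Nat.mod v 682))) 16777216) (Nat.add (Nat.div v 682) 1)

end Cfsg.Agent.Helper5.FiXLTC
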