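import Cfsg.Agent.Helper5.TC2A

/-! generated certificate data (targets of generator 3): FiXLTC -/

set_option autoImplicit false
set_option Elab.async false

namespace Cfsg.Agent.Helper5.FiXLTC
open Cfsg.Agent.Helper5.TC

def tg3_0 : ℕ := 0x4900004900004800002900000000000000000000000000000000002300000000005400005200002000000000005400000000000000001c00002400002100000000001f00000000000000000000001700001600000000000000001400000000000000000000000000000000000000000d00000c00000000000000001700001600005100000000000000000000000700004100004b00000000004000004700003e00000000000800004200000600000500000000000000003a00003900000300003600000000000000000000000000000000000000002f00002e00000100000000000000001d00002500001b00001a00000000001500000000000b000004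
def tgSel3 (c : ℕ) : ℕ := tg3_0
def tg3F (v : ℕ) : ℕ := Nat.rec (motive := fun _ => ℕ) 0 (fun c _ => Nat.mod (Nat.shiftRight (tgSel3 c) (Nat.mul 24 (Nat.mod v 682))) 16777216) (Nat.add (Nat.div v 682) 1)

end Cfsg.Agent.Helper5.FiXLTC
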