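import Cfsg.Agent.Helper5.TC2A

/-! generated certificate data (targets of generator 4): FiXLTC -/

set_option autoImplicit false
set_option Elab.async false

namespace Cfsg.Agent.Helper5.FiXLTC
open Cfsg.Agent.Helper5.TC

def tg4_0 : ℕ := 0x4b00004b00000000004c00000000000000000000002600005100005400002400002300002700002500000000002300001f00000000000000005400001d00001c00001b00000000000000001e00000000001500000000001400000000001300001200000000000000000000000e00000000000b00000000000000000000000900000000000000004800000000004700004a00004900000600000800000700004400003b00004000003f00000000000400000000000000000000000300003900003700003500003400000200000000000000003000000000000100002e00000000002a00002100002000002200000000001a00001600001100000c000005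
def tgSel4 (c : ℕ) : ℕ := tg4_0
def tg4F (v : ℕ) : ℕ := Nat.rec (motive := fun _ => ℕ) 0 (fun c _ => Nat.mod (Nat.shiftRight (tgSel4 c) (Nat.mul 24 (Nat.mod v 682))) 16777216) (Nat.add (Nat.div v 682) 1)

end Cfsg.Agent.Helper5.FiXLTC
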