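import Cfsg.Agent.Helper5.TC2A

/-! generated certificate data (targets of generator 5): FiXLTC -/

set_option autoImplicit false
set_option Elab.async false

namespace Cfsg.Agent.Helper5.FiXLTC
open Cfsg.Agent.Helper5.TC

def tg5_0 : ℕ := 0x2900004800000000000000000000002700002600002500000000000000005100000000002100002000002200000000000000001d00000000000000001a00000000001800000000001500000000001400000000000000000000000000000000000000000e00000000000b00000e00000000000000000900000900005200000000004d00004c00004b00000800000700004400004600004500000500000000004100000000000400003e00000000003c00000300000000003a00003800000000000000000000000000000000003100000100000000002f00000000002b00002400002300000000001f00001b00001700000000000d000006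
def tgSel5 (c : ℕ) : ℕ := tg5_0
def tg5F (v : ℕ) : ℕ := Nat.rec (motive := fun _ => ℕ) 0 (fun c _ => Nat.mod (Nat.shiftRight (tgSel5 c) (Nat.mul 24 (Nat.mod v 682))) 16777216) (Nat.add (Nat.div v 682) 1)

end Cfsg.Agent.Helper5.FiXLTC
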