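import Cfsg.Agent.Helper5.TC2A

/-! generated certificate data (targets of generator 6): FiXLTC -/

set_option autoImplicit false
set_option Elab.async false

namespace Cfsg.Agent.Helper5.FiXLTC
open Cfsg.Agent.Helper5.TC

def tg6_0 : ℕ := 0x2900000000004600000000002800002600002400000000000000001f00002200002100000000005100001f00000000001d00002500000000000000001a00000000000000001700000000000000000000000000000000000000000000001100000000001000000d00000c00000000000c00000000000900001700001600005300004f00000800004e00004200004d00000600004900004800000500004500000000004300000400000000003f00000000000300003c00000000000000000000000000000200003400003200000000000100003100003000000000000000002c00002700000000002300002000001c00001800001200000e000007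
def tgSel6 (c : ℕ) : ℕ := tg6_0
def tg6F (v : ℕ) : ℕ := Nat.rec (motive := fun _ => ℕ) 0 (fun c _ => Nat.mod (Nat.shiftRight (tgSel6 c) (Nat.mul 24 (Nat.mod v 682))) 16777216) (Nat.add (Nat.div v 682) 1)

end Cfsg.Agent.Helper5.FiXLTC
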