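import Cfsg.Agent.Helper5.TC2A

/-! generated certificate data (targets of generator 7): FiXLTC -/

set_option autoImplicit false
set_option Elab.async false

namespace Cfsg.Agent.Helper5.FiXLTC
open Cfsg.Agent.Helper5.TC

def tg7_0 : ℕ := 0x2900002900000000004900002800002800002700000000002300000000002200005100000000000000001f00002200000000000000000000001b00001a00000000000000000000001700000000000000000000000000000000000000001100001100001000001000000d00000c00000000000c00000900000900001700001600005400005000004e00000700000000000600004c00004a00000500000000004600000000000400000000004100004000000000000000000000000000000000000000000200000000003500003300000100000000000000000000000000000000002d00000000002600002400002100001d00000000001300000f000008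
def tgSel7 (c : ℕ) : ℕ := tg7_0
def tg7F (v : ℕ) : ℕ := Nat.rec (motive := fun _ => ℕ) 0 (fun c _ => Nat.mod (Nat.shiftRight (tgSel7 c) (Nat.mul 24 (Nat.mod v 682))) 16777216) (Nat.add (Nat.div v 682) 1)

end Cfsg.Agent.Helper5.FiXLTC
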