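import Cfsg.Agent.Helper5.TC2A

/-! generated certificate data (targets of generator 0): FiXLTC -/

set_option autoImplicit false
set_option Elab.async false

namespace Cfsg.Agent.Helper5.FiXLTC
open Cfsg.Agent.Helper5.TC

def tg0_0 : ℕ := 0x2d00002c00000000000000000000000000000000000000000000000000000000000000000000000000000000000000000000000000000000000000000000000000000000000000000000000000000000000000000000001300001200002300002000001b00001a00005000004f00000000000000000000000900000000000000000000000000003100000000000000003000000000000000000000000000002f00002e00000000000000000000000000000000000000003300003200000000000200000800000700000600000500000400000300002800000f00000e00000d00000c00000b00000a000010000000000001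
def tgSel0 (c : ℕ) : ℕ := tg0_0
def tg0F (v : ℕ) : ℕ := Nat.rec (motive := fun _ => ℕ) 0 (fun c _ => Nat.mod (Nat.shiftRight (tgSel0 c) (Nat.mul 24 (Nat.mod v 682))) 16777216) (Nat.add (Nat.div v 682) 1)

end Cfsg.Agent.Helper5.FiXLTC
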