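import Cfsg.Agent.Helper5.FiYATCDatD
import Cfsg.Agent.Helper5.TCIB

/-! kernel checks of edges, aliases, rows: FiYATC -/

set_option autoImplicit false
set_option Elab.async false

namespace Cfsg.Agent.Helper5.FiYATC
open Cfsg.Agent.Helper5.TC Cfsg.Agent.Helper5.TCI

set_option maxRecDepth 1000000 in
theorem cnt_0 : cntFrom RS 20000 0 0 = 8825 := by decide +kernel

set_option maxRecDepth 1000000 in
theorem edges_4_20 : edgesRangeI iota E 4 1845 48043 = true := by decide +kernel

set_option maxRecDepth 1000000 in
theorem edges_1_10 : edgesRangeI iota E 1 3239 28199 = true := by decide +kernel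

set_option maxRecDepth 1000000 in
theorem edges_2_5 : edgesRangeI iota E 2 2982 12603 = true := by decide +kernel

set_option maxRecDepth 1000000 in
theorem edges_4_19 : edgesRangeI iota E 4 1920 46123 = true := by decide +kernel

set_option maxRecDepth 1000000 in
theorem edges_6_1 : edgesRangeI iota E 6 2159 1909 = true := by decide +kernel

set_option maxRecDepth 1000000 in
theorem edges_8_8 : edgesRangeI iota E 8 2700 19885 = true := by decide +kernel

set_option maxRecDepth 1000000 in
theorem edges_8_20 : edgesRangeI iota E 8 2429 46219 = true := by decide +kernel

set_option maxRecDepth 1000000 in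
theorem edges_2_20 : edgesRangeI iota E 2 1920 47709 = true := by decide +kernel

set_option maxRecDepth 1000000 in
theorem edges_4_5 : edgesRangeI iota E 4 3174 12189 = true := by decide +kernel

set_option maxRecDepth 1000000 in
theorem edges_6_15 : edgesRangeI iota E 6 1945 41073 = true := by decide +kernel

set_option maxRecDepth 1000000 in
theorem edges_8_15 : edgesRangeI iota E 8 1922 36454 = true := by decide +kernel

set_option maxRecDepth 1000000 in
theorem edges_0_15 : edgesRangeI iota E 0 1706 38093 = true := by decide +kernel

set_option maxRecDepth 1000000 in
theorem edges_3_13 : edgesRangeI iota E 3 1957 35119 = true := by decide +kernel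

set_option maxRecDepth 1000000 in
theorem edges_4_11 : edgesRangeI iota E 4 2598 30607 = true := by decide +kernel

set_option maxRecDepth 1000000 in
theorem edges_5_21 : edgesRangeI iota E 5 1868 49101 = true := by decide +kernel

set_option maxRecDepth 1000000 in
theorem edges_8_5 : edgesRangeI iota E 8 2540 12151 = true := by decide +kernel

set_option maxRecDepth 1000000 in
theorem edges_9_13 : edgesRangeI iota E 9 2052 47386 = true := by decide +kernel

set_option maxRecDepth 1000000 in
theorem edges_0_5 : edgesRangeI iota E 0 2906 12569 = true := by decide +kernel

set_option maxRecDepth 1000000 in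
theorem edges_1_2 : edgesRangeI iota E 1 2630 4225 = true := by decide +kernel

set_option maxRecDepth 1000000 in
theorem edges_1_12 : edgesRangeI iota E 1 1749 33498 = true := by decide +kernel

set_option maxRecDepth 1000000 in
theorem edges_2_3 : edgesRangeI iota E 2 2817 6777 = true := by decide +kernel

set_option maxRecDepth 1000000 in
theorem edges_2_18 : edgesRangeI iota E 2 1819 44092 = true := by decide +kernel

set_option maxRecDepth 1000000 in
theorem edges_4_15 : edgesRangeI iota E 4 1785 38713 = true := by decide +kernel

set_option maxRecDepth 1000000 in
theorem edges_5_3 : edgesRangeI iota E 5 2602 6144 = true := by decide +kernel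

set_option maxRecDepth 1000000 in
theorem edges_6_0 : edgesRangeI iota E 6 1909 0 = true := by decide +kernel

set_option maxRecDepth 1000000 in
theorem edges_7_1 : edgesRangeI iota E 7 2350 1940 = true := by decide +kernel

set_option maxRecDepth 1000000 in
theorem edges_8_10 : edgesRangeI iota E 8 2456 25270 = true := by decide +kernel

set_option maxRecDepth 1000000 in
theorem edges_0_3 : edgesRangeI iota E 0 2691 7014 = true := by decide +kernel

set_option maxRecDepth 1000000 in
theorem edges_1_13 : edgesRangeI iota E 1 1689 35247 = true := by decide +kernel

set_option maxRecDepth 1000000 in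
theorem edges_2_15 : edgesRangeI iota E 2 1871 38431 = true := by decide +kernel

set_option maxRecDepth 1000000 in
theorem edges_4_1 : edgesRangeI iota E 4 2135 1829 = true := by decide +kernel

set_option maxRecDepth 1000000 in
theorem edges_5_8 : edgesRangeI iota E 5 3273 20906 = true := by decide +kernel

set_option maxRecDepth 1000000 in
theorem edges_6_4 : edgesRangeI iota E 6 3084 9388 = true := by decide +kernel

set_option maxRecDepth 1000000 in
theorem edges_8_3 : edgesRangeI iota E 8 2501 7239 = true := by decide +kernel

set_option maxRecDepth 1000000 in
theorem edges_9_9 : edgesRangeI iota E 9 2824 36971 = true := by decide +kernel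

set_option maxRecDepth 1000000 in
theorem edges_0_16 : edgesRangeI iota E 0 1700 39799 = true := by decide +kernel

set_option maxRecDepth 1000000 in
theorem edges_0_20 : edgesRangeI iota E 0 1776 47020 = true := by decide +kernel

set_option maxRecDepth 1000000 in
theorem edges_1_7 : edgesRangeI iota E 1 3016 19073 = true := by decide +kernel

set_option maxRecDepth 1000000 in
theorem edges_2_6 : edgesRangeI iota E 2 3302 15585 = true := by decide +kernel

set_option maxRecDepth 1000000 in
theorem edges_3_2 : edgesRangeI iota E 3 2492 4087 = true := by decide +kernel

set_option maxRecDepth 1000000 in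
theorem edges_3_7 : edgesRangeI iota E 3 2823 18502 = true := by decide +kernel

set_option maxRecDepth 1000000 in
theorem edges_3_17 : edgesRangeI iota E 3 1835 42631 = true := by decide +kernel

set_option maxRecDepth 1000000 in
theorem edges_4_7 : edgesRangeI iota E 4 3009 18540 = true := by decide +kernel

set_option maxRecDepth 1000000 in
theorem edges_4_17 : edgesRangeI iota E 4 1826 42256 = true := by decide +kernel

set_option maxRecDepth 1000000 in
theorem edges_6_9 : edgesRangeI iota E 6 3292 26684 = true := by decide +kernel

set_option maxRecDepth 1000000 in
theorem edges_7_3 : edgesRangeI iota E 7 2830 6899 = true := by decide +kernel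

set_option maxRecDepth 1000000 in
theorem edges_7_9 : edgesRangeI iota E 7 3926 27404 = true := by decide +kernel

set_option maxRecDepth 1000000 in
theorem edges_7_16 : edgesRangeI iota E 7 2187 46373 = true := by decide +kernel

set_option maxRecDepth 1000000 in
theorem edges_8_6 : edgesRangeI iota E 8 2571 14691 = true := by decide +kernel

set_option maxRecDepth 1000000 in
theorem edges_9_2 : edgesRangeI iota E 9 4653 6684 = true := by decide +kernel

set_option maxRecDepth 1000000 in
theorem edges_9_10 : edgesRangeI iota E 9 2718 39795 = true := by decide +kernel

set_option maxRecDepth 1000000 in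
theorem aliases_7 : aliasRange E 2296 23488 = true := by decide +kernel

set_option maxRecDepth 1000000 in
theorem aliases_12 : aliasRange E 8000 41306 = true := by decide +kernel

set_option maxRecDepth 1000000 in
theorem edges_2_21 : edgesRangeI iota E 2 1427 49629 = true := by decide +kernel

set_option maxRecDepth 1000000 in
theorem rows_2 : rowsRange E RS 1500 3000 = true := by decide +kernel

set_option maxRecDepth 1000000 in
theorem rows_6 : rowsRange E RS 1500 9000 = true := by decide +kernel

set_option maxRecDepth 1000000 in
theorem rows_10 : rowsRange E RS 1500 15000 = true := by decide +kernel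

set_option maxRecDepth 1000000 in
theorem rows_14 : rowsRange E RS 1500 21000 = true := by decide +kernel

set_option maxRecDepth 1000000 in
theorem rows_18 : rowsRange E RS 1500 27000 = true := by decide +kernel

set_option maxRecDepth 1000000 in
theorem rows_22 : rowsRange E RS 1500 33000 = true := by decide +kernel

set_option maxRecDepth 1000000 in
theorem rows_26 : rowsRange E RS 1500 39000 = true := by decide +kernel

set_option maxRecDepth 1000000 in
theorem rows_30 : rowsRange E RS 1500 45000 = true := by decide +kernel

set_option maxRecDepth 1000000 in
theorem cnt_2 : cntFrom RS 11056 40000 0 = 11056 := by decide +kernel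

set_option maxRecDepth 1000000 in
theorem aliases_13 : aliasRange E 1750 49306 = true := by decide +kernel

set_option maxRecDepth 1000000 in
theorem edges_5_22 : edgesRangeI iota E 5 87 50969 = true := by decide +kernel

end Cfsg.Agent.Helper5.FiYATC
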