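import Cfsg.Agent.Helper5.FiYBTCDatD
import Cfsg.Agent.Helper5.TCIB

/-! kernel checks of edges, aliases, rows: FiYBTC -/

set_option autoImplicit false
set_option Elab.async false

namespace Cfsg.Agent.Helper5.FiYBTC
open Cfsg.Agent.Helper5.TC Cfsg.Agent.Helper5.TCI

set_option maxRecDepth 1000000 in
theorem cnt_0 : cntFrom RS 17351 0 0 = 14080 := by decide +kernel

set_option maxRecDepth 1000000 in
theorem edges_1_1 : edgesRangeI iota E 1 2831 2370 = true := by decide +kernel

set_option maxRecDepth 1000000 in
theorem edges_3_5 : edgesRangeI iota E 3 1850 11056 = true := by decide +kernel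

set_option maxRecDepth 1000000 in
theorem edges_6_5 : edgesRangeI iota E 6 1897 11062 = true := by decide +kernel

set_option maxRecDepth 1000000 in
theorem edges_8_0 : edgesRangeI iota E 8 3683 0 = true := by decide +kernel

set_option maxRecDepth 1000000 in
theorem edges_2_7 : edgesRangeI iota E 2 1729 15587 = true := by decide +kernel

set_option maxRecDepth 1000000 in
theorem edges_3_6 : edgesRangeI iota E 3 2005 12906 = true := by decide +kernel

set_option maxRecDepth 1000000 in
theorem edges_0_6 : edgesRangeI iota E 0 1803 14574 = true := by decide +kernel

set_option maxRecDepth 1000000 in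
theorem edges_7_1 : edgesRangeI iota E 7 2236 2264 = true := by decide +kernel

set_option maxRecDepth 1000000 in
theorem edges_0_3 : edgesRangeI iota E 0 2270 8562 = true := by decide +kernel

set_option maxRecDepth 1000000 in
theorem edges_1_3 : edgesRangeI iota E 1 2341 7666 = true := by decide +kernel

set_option maxRecDepth 1000000 in
theorem edges_2_1 : edgesRangeI iota E 2 2724 2428 = true := by decide +kernel

set_option maxRecDepth 1000000 in
theorem edges_3_4 : edgesRangeI iota E 3 1846 9210 = true := by decide +kernel

set_option maxRecDepth 1000000 in
theorem edges_4_2 : edgesRangeI iota E 4 2228 5216 = true := by decide +kernel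

set_option maxRecDepth 1000000 in
theorem edges_4_5 : edgesRangeI iota E 4 2155 11510 = true := by decide +kernel

set_option maxRecDepth 1000000 in
theorem edges_5_0 : edgesRangeI iota E 5 2175 0 = true := by decide +kernel

set_option maxRecDepth 1000000 in
theorem edges_5_3 : edgesRangeI iota E 5 1973 7480 = true := by decide +kernel

set_option maxRecDepth 1000000 in
theorem edges_6_4 : edgesRangeI iota E 6 1870 9192 = true := by decide +kernel

set_option maxRecDepth 1000000 in
theorem edges_7_4 : edgesRangeI iota E 7 1821 8695 = true := by decide +kernel

set_option maxRecDepth 1000000 in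
theorem edges_8_6 : edgesRangeI iota E 8 1904 15389 = true := by decide +kernel

set_option maxRecDepth 1000000 in
theorem edges_2_0 : edgesRangeI iota E 2 2428 0 = true := by decide +kernel

set_option maxRecDepth 1000000 in
theorem edges_3_2 : edgesRangeI iota E 3 2168 5147 = true := by decide +kernel

set_option maxRecDepth 1000000 in
theorem edges_6_2 : edgesRangeI iota E 6 2326 4811 = true := by decide +kernel

set_option maxRecDepth 1000000 in
theorem aliases_1 : aliasRange E 3151 3852 = true := by decide +kernel

set_option maxRecDepth 1000000 in
theorem edges_0_1 : edgesRangeI iota E 0 3321 2423 = true := by decide +kernel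

set_option maxRecDepth 1000000 in
theorem edges_1_0 : edgesRangeI iota E 1 2370 0 = true := by decide +kernel

set_option maxRecDepth 1000000 in
theorem edges_1_5 : edgesRangeI iota E 1 1928 12261 = true := by decide +kernel

set_option maxRecDepth 1000000 in
theorem edges_3_3 : edgesRangeI iota E 3 1895 7315 = true := by decide +kernel

set_option maxRecDepth 1000000 in
theorem edges_4_3 : edgesRangeI iota E 4 2066 7444 = true := by decide +kernel

set_option maxRecDepth 1000000 in
theorem edges_5_5 : edgesRangeI iota E 5 1856 11202 = true := by decide +kernel

set_option maxRecDepth 1000000 in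
theorem edges_5_7 : edgesRangeI iota E 5 1908 15199 = true := by decide +kernel

set_option maxRecDepth 1000000 in
theorem edges_7_0 : edgesRangeI iota E 7 2264 0 = true := by decide +kernel

set_option maxRecDepth 1000000 in
theorem edges_7_5 : edgesRangeI iota E 7 1843 10516 = true := by decide +kernel

set_option maxRecDepth 1000000 in
theorem edges_7_7 : edgesRangeI iota E 7 3039 14187 = true := by decide +kernel

set_option maxRecDepth 1000000 in
theorem aliases_0 : aliasRange E 3852 0 = true := by decide +kernel

set_option maxRecDepth 1000000 in
theorem edges_4_7 : edgesRangeI iota E 4 1546 15805 = true := by decide +kernel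

set_option maxRecDepth 1000000 in
theorem edges_6_7 : edgesRangeI iota E 6 1826 15525 = true := by decide +kernel

set_option maxRecDepth 1000000 in
theorem rows_1 : rowsRange E RS 1500 1500 = true := by decide +kernel

set_option maxRecDepth 1000000 in
theorem rows_3 : rowsRange E RS 1500 4500 = true := by decide +kernel

set_option maxRecDepth 1000000 in
theorem rows_5 : rowsRange E RS 1500 7500 = true := by decide +kernel

set_option maxRecDepth 1000000 in
theorem rows_7 : rowsRange E RS 1500 10500 = true := by decide +kernel

set_option maxRecDepth 1000000 in
theorem rows_9 : rowsRange E RS 1500 13500 = true := by decide +kernel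

set_option maxRecDepth 1000000 in
theorem edges_0_7 : edgesRangeI iota E 0 974 16377 = true := by decide +kernel

set_option maxRecDepth 1000000 in
theorem rows_11 : rowsRange E RS 851 16500 = true := by decide +kernel

set_option maxRecDepth 1000000 in
theorem edges_3_8 : edgesRangeI iota E 3 698 16653 = true := by decide +kernel

set_option maxRecDepth 1000000 in
theorem edges_8_7 : edgesRangeI iota E 8 58 17293 = true := by decide +kernel

end Cfsg.Agent.Helper5.FiYBTC
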