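import Cfsg.Agent.Helper5.FiYCTCTg0
import Cfsg.Agent.Helper5.FiYCTCTg1
import Cfsg.Agent.Helper5.FiYCTCTg2
import Cfsg.Agent.Helper5.FiYCTCTg3
import Cfsg.Agent.Helper5.FiYCTCTg4
import Cfsg.Agent.Helper5.FiYCTCTg5
import Cfsg.Agent.Helper5.FiYCTCTg6
import Cfsg.Agent.Helper5.FiYCTCTg7
import Cfsg.Agent.Helper5.FiYCTCRk0
import Cfsg.Agent.Helper5.FiYCTCRk1
import Cfsg.Agent.Helper5.FiYCTCRk2
import Cfsg.Agent.Helper5.FiYCTCRk3
import Cfsg.Agent.Helper5.FiYCTCRk4
import Cfsg.Agent.Helper5.FiYCTCRk5
import Cfsg.Agent.Helper5.FiYCTCRk6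
import Cfsg.Agent.Helper5.FiYCTCRk7
import Cfsg.Agent.Helper5.FiYCTCEv0
import Cfsg.Agent.Helper5.FiYCTCDatA
import Cfsg.Agent.Helper5.FiYCTCDatB

/-! generated certificate data (D): FiYCTC -/

set_option autoImplicit false
set_option Elab.async false

namespace Cfsg.Agent.Helper5.FiYCTC
open Cfsg.Agent.Helper5.TC

def tgF (x v : ℕ) : ℕ := (Bool.rec (motive := fun _ => ℕ) (Bool.rec (motive := fun _ => ℕ) (Bool.rec (motive := fun _ => ℕ) (tg0F v) (tg1F v) (Nat.ble 1 x)) (Bool.rec (motive := fun _ => ℕ) (tg2F v) (tg3F v) (Nat.ble 3 x)) (Nat.ble 2 x)) (Bool.rec (motive := fun _ => ℕ) (Bool.rec (motive := fun _ => ℕ) (tg4F v) (tg5F v) (Nat.ble 5 x)) (Bool.rec (motive := fun _ => ℕ) (tg6F v) (tg7F v) (Nat.ble 7 x)) (Nat.ble 6 x)) (Nat.ble 4 x))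
def rkF (x v : ℕ) : ℕ := (Bool.rec (motive := fun _ => ℕ) (Bool.rec (motive := fun _ => ℕ) (Bool.rec (motive := fun _ => ℕ) (rk0F v) (rk1F v) (Nat.ble 1 x)) (Bool.rec (motive := fun _ => ℕ) (rk2F v) (rk3F v) (Nat.ble 3 x)) (Nat.ble 2 x)) (Bool.rec (motive := fun _ => ℕ) (Bool.rec (motive := fun _ => ℕ) (rk4F v) (rk5F v) (Nat.ble 5 x)) (Bool.rec (motive := fun _ => ℕ) (rk6F v) (rk7F v) (Nat.ble 7 x)) (Nat.ble 6 x)) (Nat.ble 4 x))
def evSel (c : ℕ) : ℕ := (evSel0 c)
def evF (v : ℕ) : ℕ := Nat.rec (motive := fun _ => ℕ) 0 (fun c _ => Nat.mod (Nat.shiftRight (evSel c) (Nat.mul 48 (Nat.mod v 341))) 281474976710656) (Nat.add (Nat.div v 341) 1)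
def iota (x : ℕ) : ℕ := x
def D : Dat where
  k := 8
  tgt := tgF
  par := parF
  gen := genF
  ali := aliF
  wordP := fun wi => Nat.mod (Nat.shiftRight wtT (Nat.mul 1024 wi)) 179769313486231590772930519078902473361797697894230657273430081157732675805500963132708477322407536021120113879871393357658789768814416622492847430639474124377767893424865485276302219601246094119453082952085005768838150682342462881473913110540827237163350510684586298239947245938479716304835356329624224137216
  wordR := fun wi => Nat.mod (Nat.shiftRight wrT (Nat.mul 1024 wi)) 179769313486231590772930519078902473361797697894230657273430081157732675805500963132708477322407536021120113879871393357658789768814416622492847430639474124377767893424865485276302219601246094119453082952085005768838150682342462881473913110540827237163350510684586298239947245938479716304835356329624224137216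
  wlen := fun wi => Nat.mod (Nat.shiftRight wlT (Nat.mul 8 wi)) 256
  nrel := 37
  nw := 44
  fuel := 5

def E : Dat2 where
  D := D
  rank := rkF
  arank := arkF
  ev := evF
  M := 5137

def RS : ℕ := 0x2000000000000000000000000000000000000000000000000000000000000000000000000000000000000000000000000000000000000000000000000000000000000000000000002000000000000000000000000000000000000000000000000000000000000000000000000000000000000000000000000000000200000400000000000000000004620000000000000000000000000000000000000000000000000000000000000000000000000000000000000001400010000400000000000010001080d300000000000000000000004000000000000000000000000000000000000a00000000000280000500020010000000000054420365a40000000000000000008000000000000000000000000000140005005000002800280301400000000001586cb4b48000000000004020000000000000000000050002803414000500d061240000010000bed2d2d40000000804080000000000c014000a00d069401a0d3b6800002800007f6969b6000804188000000c0181401a0d3f41a7ff8020050040fed36b780419b000c0181c341a7fa7ffc02016810ffb5bfc19fe0181c39a7ffff80a0da19ffbff9ff03873ffffe81a1be7ffffffe1cffffd0d9ffffffff3fffd9ffffffffffffffffffffffffffffffffffffffffffffffffff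

end Cfsg.Agent.Helper5.FiYCTC
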