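import Cfsg.Agent.Helper5.TC2A

/-! generated certificate data (targets of generator 0): FiYETC -/

set_option autoImplicit false
set_option Elab.async false

namespace Cfsg.Agent.Helper5.FiYETC
open Cfsg.Agent.Helper5.TC

def tg0_0 : ℕ := 0x1900001a00001800001700001600001500001400001300001200001100000e00000f00001000000b00000c00000d00000900000a000007000008000004000005000006000003000002000001000000
def tgSel0 (c : ℕ) : ℕ := tg0_0
def tg0F (v : ℕ) : ℕ := Nat.rec (motive := fun _ => ℕ) 0 (fun c _ => Nat.mod (Nat.shiftRight (tgSel0 c) (Nat.mul 24 (Nat.mod v 682))) 16777216) (Nat.add (Nat.div v 682) 1)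

end Cfsg.Agent.Helper5.FiYETC
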