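import Cfsg.Agent.Helper5.TC2A

/-! generated certificate data (ranks of generator 0): FiYKTC -/

set_option autoImplicit false
set_option Elab.async false

namespace Cfsg.Agent.Helper5.FiYKTC
open Cfsg.Agent.Helper5.TC

def rk0_0 : ℕ := 0xffffffffffffffffffffffffffffffffffffffffffffffffffffffffffffffffffffffffffffffffffffffffffffffffffffffffffffffffffffffffffffffffffffffffffffffffffffffffffffffffffffffffffffffffffff0002e6ffffffffffff0002e0ffffffffffffffffffffffffffffffffffffffffffffffff0002ceffffffffffffffffff0002c60002c2ffffff0002c00000000002bc0002baffffffffffffffffffffffff0002acffffff0000000002a4ffffffffffffffffffffffffffffff000000ffffffffffff00028effffff000000ffffffffffff00027cffffff000276ffffffffffff00026cffffffffffff000266ffffffffffff000000000260ffffffffffff000258ffffffffffff00024effffffffffffffffff000244ffffff00023cffffffffffffffffff000232ffffffffffffffffffffffffffffffffffffffffff0002bd0002bb0002adffffff0002a5ffffff000214ffffffffffff000000ffffff00028fffffff00034e00027dffffffffffffffffffffffffffffffffffff000277ffffff0001f200026d000000ffffffffffff000267ffffffffffff000261ffffff000259ffffffffffff00024fffffff000245ffffffffffff00023dffffffffffffffffff0002e7ffffffffffff0002e1ffff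ffffffffffffffffffffffffffffffffffffffffffffffffffffffffffffffffffffffffffffffffffffffffffffffffffffffffffffffffffffffffffffffffffffffffffffffffffffffffffffff0002cfffffffffffffffffff0002c70002c3ffffffffffffffffffffffffffffff000186ffffffffffffffffff000184ffffffffffffffffffffffffffffff00017effffff00017affffffffffffffffffffffff000176000174000172ffffff0002c1000170000000000000ffffff00016affffff000166000164ffffffffffffffffff000000ffffffffffffffffff00015cffffff000000000154ffffffffffffffffffffffff000000ffffffffffff000000ffffff000144000140ffffff000000ffffff000134000130ffffff000000000126ffffffffffffffffff00012000011effffff000000000118000116000112000110ffffffffffff00010effffff00010affffff000233ffffffffffffffffff0000feffffffffffffffffffffffffffffffffffff00016bffffffffffffffffffffffffffffffffffffffffffffffffffffff000167000165ffffff00015dffffffffffff000155ffffff000215000000ffffffffffffffffffffffffffffffffffff000000ffffff000145000141ffffff000135ffffffffffffffffffffffff0001310001f3000000000127000000ffffffffffff000121ffffff00011fffffffffffff000119000117000113000111ffffffffffff00010fffffff00010bffffff000187ffffffffffffffffff000185ffffffffffffffffffffffffffffffffffffffffffffffffffffffffffffffffff00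017fffffff00017bffffffffffffffffffffffff00017700017500017300008affffff000088ffffff00008600008400008200017100000000008000000000007c000078000076ffffff00007200007000006e000000000068000066000064ffffff000062000000ffffffffffff00005c00005800005400000000004e00004a000048000046000044ffffffffffff0000ff000000000083ffffff000081ffffff00007d000079000077ffffff000073ffffffffffffffffff00007100006f000069000067000065000063000000ffffffffffff00005d000059ffffff00005500000000004f00004b000049000047000045ffffff00008bffffff000089ffffffffffff00008700008500000000000e00000000000c00000a00000800000600000400000200000000000fffffff00000d00000b000009000007000005000003000000000000000000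
def rkSel0 (c : ℕ) : ℕ := rk0_0
def rk0F (v : ℕ) : ℕ := Nat.rec (motive := fun _ => ℕ) 0 (fun c _ => Nat.mod (Nat.shiftRight (rkSel0 c) (Nat.mul 24 (Nat.mod v 682))) 16777216) (Nat.add (Nat.div v 682) 1)

end Cfsg.Agent.Helper5.FiYKTC
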