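import Cfsg.Agent.Helper5.TC2A

/-! generated certificate data (ranks of generator 1): FiYKTC -/

set_option autoImplicit false
set_option Elab.async false

namespace Cfsg.Agent.Helper5.FiYKTC
open Cfsg.Agent.Helper5.TC

def rk1_0 : ℕ := 0x32cffffffffffffffffffffffffffffff00031cffffffffffffffffffffffffffffffffffffffffff000308ffffffffffffffffffffffffffffffffffffffffffffffffffffffffffffffffffffffffffffffffffffffffffffffffffffffffffffffffffffffffffffffffffffffffffffffffffffffffffffffffffffffffffffffffffffffffffffffffffffffffffffffffffffffffffffffffffffffffffffffffffffffffffffffffffffffffffffffffffffffffffffffffffffffffffffffffffffffffffffffffffffffffffffffffffffffffffffffffffffffffffffffffffffffffffffffffffffffffffffffffffffffffffffffffffffffffffffffffffffffffffffffffffffffffffffffffffffffffffffffffffffffffffffffffffffffff00023a000238000236000234ffffff000464ffffffffffffffffffffffffffffffffffffffffffffffffffffffffffffffffffffffffffffffffffffffffff00032dffffffffffffffffff00031dffffffffffffffffffffffffffffff0001fafffffffffffffffffffffffffffffffffffffffffffffffffffffffffffffffffffffffffffffffffffffffffffffffffffffffffffffffffffffffffffffff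fffffffffff0000000001ce0001ccffffffffffffffffffffffff0001c4ffffff0001c0ffffff0001be0001ba0001b6ffffffffffff0001aeffffff0001a8ffffffffffffffffffffffff000309000000ffffffffffffffffffffffffffffffffffffffffffffffffffffffffffffffffffffffffffffffffffffffffffffffffffffffffffffffffffffffffffffffffffffffffffffffffffffff000235ffffffffffffffffffffffffffffffffffffffffffffffffffffffffffffffffffffffffffffffffffffffffffffffffffffff00023bffffffffffffffffffffffffffffffffffffffffffffffffffffffffffffffffffffffffffffffffffffffffffffffffffffffffffff000239ffffffffffff000237ffffffffffffffffffffffffffffffffffffffffffffffffffffffffffffffffffffffffffffffffffffffffffffffffffffffffffffffffffffffffffffffffffffffffffffffffffffffffffffffffffffffff000108ffffff000106ffffff0001020001000001cfffffffffffffffffffffffff0001cdffffffffffffffffffffffffffffffffffffffffffffffffffffffffffffffffffffffffffffffffffffffffffffffffffffffffffff0001c5ffffffffffffffffffffffff0001c1ffffffffffff0001bf0001bb0001b7ffffff0001af0001a9ffffffffffff0001fb000000ffffffffffffffffffffffffffffffffffffffffffffffffffffffffffffffffffffffffffffffffffffffffffffffffffffffffffffffffffffffffffffff0000000000a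affffff0000a8ffffffffffffffffff0000a4ffffffffffff0000a0ffffffffffff00009e00009cffffff000098000096000092000000ffffffffffffffffffffffffffffffffffffffffffffffffffffffffffffffffff000101ffffffffffffffffffffffffffffffffffffffffff000109ffffffffffffffffffffffffffffffffffffffffffffffffffffffffffffffffff000107ffffff000103ffffffffffffffffffffffffffffffffffffffffffffffffffffff00004200004000003e00003c0000abffffffffffffffffffffffff0000a9ffffffffffffffffffffffffffffff0000a5ffffffffffffffffff0000a1ffffff00009f00009dffffff000099000097000093000000ffffffffffffffffffffffffffffffffffffffffff00000000001a000018000016000014000012000010ffffff00003dffffffffffff000043000041ffffffffffff00003fffffff00000000001bffffff000019000017000015000013000011000000000000000000000000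
def rkSel1 (c : ℕ) : ℕ := rk1_0
def rk1F (v : ℕ) : ℕ := Nat.rec (motive := fun _ => ℕ) 0 (fun c _ => Nat.mod (Nat.shiftRight (rkSel1 c) (Nat.mul 24 (Nat.mod v 682))) 16777216) (Nat.add (Nat.div v 682) 1)

end Cfsg.Agent.Helper5.FiYKTC
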