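import Cfsg.Agent.Helper5.TC2A

/-! generated certificate data (ranks of generator 2): FiYKTC -/

set_option autoImplicit false
set_option Elab.async false

namespace Cfsg.Agent.Helper5.FiYKTC
open Cfsg.Agent.Helper5.TC

def rk2_0 : ℕ := 0x335ffffffffffffffffff000350ffffffffffffffffff000318ffffff000312000310ffffff00030c00030a000306ffffff0003020002fe0002fc0002f8ffffffffffffffffffffffffffffffffffffffffffffffff0002e8ffffffffffffffffffffffffffffffffffffffffffffffffffffff0004560002d40002d0ffffffffffffffffffffffffffffffffffffffffffffffffffffffffffffffffff0002b8ffffffffffffffffffffffff000334ffffffffffff0002a20002a000029c00029affffffffffffffffffffffffffffffffffffffffffffffffffffffffffffffffffffffffffffff000270ffffff00026a000268ffffff000351ffffffffffffffffffffffffffffffffffff000254ffffff000250ffffffffffffffffffffffffffffffffffffffffffffffffffffffffffffffffffffffffffffffffffffffffffffffffffffffffffffffffffffffffffffffffffffffffffffffffffffffffffffffffffffffffffffffffffffffffffffffffffffff000200ffffff0001feffffff00030b0001f80001f4ffffffffffffffffff0001ec0001eaffffffffffffffffffffffffffffffffffff0001e00001defffffffffffffffffffffffffffffffffff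fffffff0001d00005140003070003030002ff0002fd0002f9ffffff000319ffffff00031300031100030dffffffffffffffffffffffffffffffffffffffffffffffff0001a6ffffff0001a40001a20001a000019effffffffffffffffff00019a000196000194ffffff00019000018effffffffffffffffffffffffffffff0002e9ffffff000000ffffffffffffffffff0002d1ffffffffffffffffff0002d5ffffffffffffffffffffffff000000ffffffffffffffffff000178ffffffffffffffffffffffffffffff000271ffffffffffff00026b000269ffffff0002b9ffffff0000000002a30002a1ffffffffffffffffffffffffffffff00029d00029bffffff00015200015000014effffffffffffffffffffffffffffffffffffffffffffffffffffffffffffffffffffffff000132ffffff00012a000128ffffff000124000122ffffffffffff000255ffffff000251ffffff000000ffffffffffffffffffffffffffffffffffffffffffffffffffffffffffffffffffffffff0001f90001f5ffffffffffffffffff0001ed0001ebffffffffffffffffffffffffffffffffffffffffffffffffffffffffffffffffffffffffffffffffffffffffffffffffffffffffffffffffff000201ffffffffffffffffff0001ffffffffffffffffffffffffffffffffffffffffffff0000ce0000cc0000ca0001a10000c80000c4ffffff0000c20000be0000ba0000b8ffffff0000b6ffffff0001e10001dfffffffffffff000000ffffffffffff0001d1ffffffffffffffffff0000000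0019fffffff00019b00019700019500019100018fffffffffffffffffffffffff000000ffffff0001a7ffffff0001a50001a3ffffff000000000090ffffffffffff00008e00008cffffff000000ffffffffffff000179ffffff000000000000000133ffffff00012b000129ffffffffffff000125000123ffffffffffff000000000153000151ffffffffffff00014f000000ffffffffffffffffffffffffffffffffffff00005600005200005000004cffffff000000ffffffffffffffffffffffffffffff0000c90000c50000c30000bfffffff0000bb0000b9ffffff0000b7ffffffffffffffffffffffffffffffffffffffffffffffffffffffffffff0000cf0000cd0000cbffffff00000000002400002200002000001e00001c000000000000ffffff000091ffffff00008f00008d00000000000000000000000000005700005300005100004dffffff000000ffffff000000ffffff00002500002300002100001f00001dffffff000000000000000000000000000000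
def rkSel2 (c : ℕ) : ℕ := rk2_0
def rk2F (v : ℕ) : ℕ := Nat.rec (motive := fun _ => ℕ) 0 (fun c _ => Nat.mod (Nat.shiftRight (rkSel2 c) (Nat.mul 24 (Nat.mod v 682))) 16777216) (Nat.add (Nat.div v 682) 1)

end Cfsg.Agent.Helper5.FiYKTC
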