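import Cfsg.Agent.Helper5.TC2A

/-! generated certificate data (ranks of generator 4): FiYKTC -/

set_option autoImplicit false
set_option Elab.async false

namespace Cfsg.Agent.Helper5.FiYKTC
open Cfsg.Agent.Helper5.TC

def rk4_0 : ℕ := 0xffffffffffff000328ffffff000322000320ffffffffffffffffffffffffffffffffffffffffffffffffffffffffffffffffffffffffffffffffffffffffffffffff0002f40002f2ffffffffffff0002ee0002ecffffffffffffffffffffffffffffffffffffffffffffffffffffffffffff0002d6ffffffffffffffffffffffffffffffffffff0002c8ffffffffffffffffffffffffffffffffffffffffffffffff0002b4ffffff0002aeffffffffffffffffffffffffffffffffffffffffffffffffffffffffffffffffffffffffffffff00028a000288ffffffffffffffffff000353ffffffffffffffffffffffffffffffffffffffffffffffffffffff000262ffffff00025cffffffffffff000256000252ffffffffffffffffffffffffffffffffffff00023effffffffffffffffffffffffffffffffffffffffffffffffffffffffffffffffff00021e00021c00021affffffffffffffffffffffffffffffffffffffffffffffffffffff000206ffffffffffff000000ffffffffffffffffffffffffffffffffffffffffffffffffffffffffffffffffffffffffffffffffffffffffffffffffffffffffffffffffffffffffffffffffffffffffffffffffffffffffffff000352ff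ffffffffffffffffffffffffffffffffffffffff0001c8ffffff000329000323000321ffffffffffffffffffffffffffffff0001b20001acffffffffffffffffffffffffffffffffffffffffffffffffffffffffffffffffffffffffffffffffffffffffff0002f50002f300000000018cffffffffffff0002ef0002ed000000ffffffffffffffffffffffffffffffffffffffffff000182ffffffffffff0002d7ffffff000000ffffff0002c9ffffffffffffffffffffffff000000ffffffffffff0002b5ffffffffffff0002afffffffffffffffffffffffffffffffffffffffffff000160ffffffffffffffffff00015effffffffffffffffffffffff000257000253ffffff00028b000289ffffffffffffffffffffffffffffff00000000013e00013affffffffffffffffffffffff000263ffffff00025dffffffffffffffffffffffffffffff00011c00011affffff00011400023fffffffffffffffffffffffff000000ffffffffffffffffffffffffffffffffffffffffffffffffffffffffffffffffffffffffffffffffffff00021b00021fffffffffffffffffff00021dffffffffffff0000ee0000ecffffff0000e8ffffffffffffffffffffffffffffffffffffffffffffffffffffffffffffffffff000207ffffffffffffffffff000000ffffff000000ffffffffffffffffffffffffffffffffffffffffffffffffffffffffffffffffffffffffffffffffffff0000b2ffffffffffffffffffffffffffffffffffffffffffffffffffffff000000ffffffffffffffffffffffff0001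c9ffffffffffffffffffffffffffffff0000a2ffffffffffffffffffffffff0001b30001adffffff000000ffffffffffffffffff00018dffffff000000000000000000ffffffffffff000183000000000000000000ffffff000161ffffffffffffffffff00015fffffffffffffffffffffffff000000ffffff00006c00006affffffffffff00011500013f00013bffffffffffff000000000000ffffff00011d00011bffffffffffff000000000000ffffffffffffffffffffffffffffffffffffffffffffffffffffffffffffffffff0000e90000efffffff0000edffffff000000000034000032000030ffffffffffffffffffffffffffffff000000000000ffffff0000b3ffffffffffffffffffffffff000000000000ffffffffffffffffff0000a3ffffff000000000000000000000000ffffff00006d00006bffffff000000000000000000000000ffffff000035ffffff000033000031000000000000000000000000000000000000000000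
def rkSel4 (c : ℕ) : ℕ := rk4_0
def rk4F (v : ℕ) : ℕ := Nat.rec (motive := fun _ => ℕ) 0 (fun c _ => Nat.mod (Nat.shiftRight (rkSel4 c) (Nat.mul 24 (Nat.mod v 682))) 16777216) (Nat.add (Nat.div v 682) 1)

end Cfsg.Agent.Helper5.FiYKTC
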