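import Cfsg.Agent.Helper5.TC2A

/-! generated certificate data (ranks of generator 5): FiYKTC -/

set_option autoImplicit false
set_option Elab.async false

namespace Cfsg.Agent.Helper5.FiYKTC
open Cfsg.Agent.Helper5.TC

def rk5_0 : ℕ := 0x32effffffffffffffffffffffffffffff00031e00031affffffffffffffffffffffff00030effffff000000ffffffffffffffffffffffffffffff0002faffffffffffffffffff0004b2ffffffffffffffffffffffffffffffffffffffffffffffffffffffffffffffffffffffffffffffffffffffffffffffffffffffffffff0002cc0002caffffffffffffffffffffffffffffffffffffffffffffffffffffffffffffffffffffffffffffff0002aa0002a80002a6000336ffffff00029effffffffffff000294000292000290ffffffffffffffffffffffffffffff00028000027affffffffffffffffffffffffffffffffffffffffffffffffffffffffffffffffffffffff00025affffffffffffffffffffffffffffffffffffffffffffffff000242ffffffffffffffffffffffffffffffffffffffffffffffff000228ffffff000222ffffffffffffffffffffffffffffffffffffffffffffffffffffff00020effffff00020affffffffffffffffffffffff000202ffffffffffffffffff0001fc000000ffffffffffffffffffffffffffffffffffffffffffffffffffffffffffffffffffffffff0001e2ffffffffffffffffffffffffffffff0001d80001d6ffffff000000ffff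ffffffffffffffffffffffffffffffff0001caffffffffffffffffff00032fffffffffffff0001bc0001b800031fffffff00031bffffff00000000030fffffffffffffffffff000000000000ffffffffffffffffff0002fbffffffffffffffffffffffff000192ffffffffffffffffffffffffffffffffffffffffffffffffffffffffffffffffffffffffffffffffffffffffffffffffffffffffffffffffff000000ffffffffffffffffff0002cd0002cbffffff000000ffffffffffffffffffffffffffffffffffffffffffffffffffffffffffffffffffffffffffffff0002abffffff0002a90002a7ffffffffffffffffff00015a00015800015600029fffffff000000ffffff00029500029300029100014a000148000146ffffff00028100027bffffff000000ffffffffffffffffffffffffffffffffffffffffffffffffffffff00025bffffffffffff000000ffffffffffffffffff000243ffffff000000ffffffffffffffffffffffffffffffffffffffffffffffff000229ffffff000223ffffffffffffffffffffffffffffffffffff0000f2ffffff0000f0ffffffffffffffffffffffffffffffffffffffffffffffffffffff0000e6ffffff00020fffffffffffffffffffffffff00020bffffffffffff0000da0000d60000d4000203ffffff0000000001fdffffff000000000000ffffffffffffffffffffffffffffffffffffffffffffffffffffff0000b4ffffffffffff0001e3000000ffffffffffff0001d9ffffff0001d7000000000000ffffffffffff0001cbfffffffffff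fffffff0000a6ffffffffffffffffffffffff000000ffffffffffffffffff0001bd0001b9000000000000000000ffffffffffff000193ffffff000000ffffffffffffffffffffffffffffffffffff000000000000ffffffffffffffffffffffffffffffffffffffffffffffffffffff000074ffffff00015b000159000157ffffff000000000000ffffff00014b000149000147000000000000ffffffffffffffffffffffff000000000000000000ffffffffffffffffffffffffffffff0000f3ffffff0000f1ffffffffffffffffffffffffffffff000038000036ffffffffffffffffff0000e7ffffff000000ffffff0000db0000d70000d5000000000000000000ffffffffffff0000b5ffffff000000000000000000ffffffffffff0000a7ffffff000000000000000000000000ffffff000075ffffffffffffffffff000000000000000000000000ffffffffffff000039000037ffffff000000000000000000000000000000000000000000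
def rkSel5 (c : ℕ) : ℕ := rk5_0
def rk5F (v : ℕ) : ℕ := Nat.rec (motive := fun _ => ℕ) 0 (fun c _ => Nat.mod (Nat.shiftRight (rkSel5 c) (Nat.mul 24 (Nat.mod v 682))) 16777216) (Nat.add (Nat.div v 682) 1)

end Cfsg.Agent.Helper5.FiYKTC
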