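import Cfsg.Agent.Helper5.TC2A

/-! generated certificate data (ranks of generator 6): FiYKTC -/

set_option autoImplicit false
set_option Elab.async false

namespace Cfsg.Agent.Helper5.FiYKTC
open Cfsg.Agent.Helper5.TC

def rk6_0 : ℕ := 0x330ffffffffffff000326000324ffffffffffffffffffffffff000316000314ffffffffffff00033cffffff000000ffffffffffff000300ffffffffffff0002f6ffffff000000ffffff0002f0ffffff000000ffffff000000000000ffffff0002e2ffffff0000000002dcffffffffffffffffff000000ffffff0002d2ffffffffffffffffffffffffffffffffffffffffffffffff0002beffffff000000ffffffffffffffffff0002b0ffffff00033dffffffffffffffffffffffffffffffffffff000298ffffffffffffffffffffffffffffffffffff000284000282ffffffffffff000000ffffffffffffffffffffffffffffffffffffffffffffffffffffffffffffffffffffffffffffffffffffffffffffffffffffff00024a000248000246ffffffffffffffffffffffffffffffffffff000000000000ffffffffffff0003c6ffffffffffffffffff000000ffffffffffffffffffffffffffffffffffffffffffffffffffffff000208ffffffffffffffffffffffffffffffffffffffffffffffffffffff000000ffffffffffff000426ffffffffffffffffffffffffffffffffffffffffffffffffffffffffffffffffffffffffffffff0001daffffff000000ffffffffffffffffffffffff0000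00ffffffffffffffffffffffffffffffffffffffffffffffffffffff000331ffffff000000000327000325ffffff000000ffffff000317000315ffffff000000ffffffffffff000000000301ffffffffffffffffff000198ffffff0002f7ffffff000000000000ffffff0002f1ffffffffffff0000000000000000000000000002e3000000ffffff0000000002dd000000ffffffffffffffffffffffff000000ffffff0002d3ffffffffffff000000ffffffffffffffffff000000ffffffffffff0002bf00016cffffffffffff000000ffffff000000ffffffffffffffffffffffffffffff0002b1000000000283ffffffffffffffffffffffffffffffffffff000299ffffffffffff00014cffffffffffff000000ffffff000285ffffff000000ffffff000000ffffffffffffffffffffffffffffffffffff000247ffffffffffffffffffffffffffffffffffff00024b000249ffffff000000ffffffffffffffffffffffffffffffffffff000000ffffff000000000000000000ffffff0000f8ffffffffffff000000ffffffffffffffffffffffffffffff000000ffffff000209ffffff0000000000eaffffffffffffffffffffffffffffffffffffffffffffffffffffff0000deffffffffffffffffffffffffffffff000000ffffffffffffffffffffffff000000ffffffffffff000000ffffffffffffffffffffffff0000bcffffff0001dbffffffffffffffffffffffffffffffffffffffffffffffffffffffffffff000000000000ffffffffffff000000ffffffffffffffffffffffffffffff000000fffff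fffffff000000ffffffffffffffffffffffffffffff000000000000000000000000ffffff000199ffffff000000000000ffffff000000ffffff000000000000000000ffffff000000000000ffffffffffffffffff00016d00000000007a000000ffffffffffffffffffffffffffffff000000000000ffffffffffffffffff00014dffffff000000000000000000ffffffffffffffffff000000ffffffffffff000000ffffff000000000000ffffff000000ffffff0000f9ffffff000000ffffff000000ffffffffffffffffff000000000000ffffff0000ebffffff000000ffffff0000dfffffffffffff000000000000ffffff0000000000bdffffffffffff000000ffffffffffff000000ffffffffffffffffff00000000000000000000000000000000000000007bffffff000000000000ffffff000000000000000000000000ffffffffffff000000000000000000000000000000000000000000000000000000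
def rkSel6 (c : ℕ) : ℕ := rk6_0
def rk6F (v : ℕ) : ℕ := Nat.rec (motive := fun _ => ℕ) 0 (fun c _ => Nat.mod (Nat.shiftRight (rkSel6 c) (Nat.mul 24 (Nat.mod v 682))) 16777216) (Nat.add (Nat.div v 682) 1)

end Cfsg.Agent.Helper5.FiYKTC
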