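import Cfsg.Agent.Helper5.TC2A

/-! generated certificate data (ranks of generator 7): FiYKTC -/

set_option autoImplicit false
set_option Elab.async false

namespace Cfsg.Agent.Helper5.FiYKTC
open Cfsg.Agent.Helper5.TC

def rk7_0 : ℕ := 0x33200000000032affffff00034b000000ffffff000000ffffffffffffffffff000000ffffffffffffffffffffffff000000000000ffffffffffffffffffffffff000000ffffffffffffffffff000000ffffff000000ffffffffffff000000ffffffffffff0002deffffffffffff0002d8000000ffffffffffffffffffffffffffffff000000ffffff000000ffffff000000000000ffffff000000ffffffffffff000000ffffffffffffffffff000000ffffffffffff000000ffffff000333ffffffffffffffffffffffffffffffffffffffffffffffffffffffffffffffffffffffffffffff000000ffffff000000000000ffffffffffff000000ffffffffffffffffff00025effffff00000000034affffff000000ffffffffffffffffffffffff000000ffffff000000ffffffffffffffffffffffffffffff000000000000000000ffffff000000000000ffffffffffffffffffffffff000216ffffff000000ffffffffffffffffffffffffffffffffffffffffffffffffffffff00056a000000000000ffffffffffff000000ffffff0000000001ee000000ffffffffffff000000ffffffffffff0001e4000000ffffffffffff0000000001dcffffffffffffffffffffffffffffff000000ffffffffffff000000ffffffffffffffffffffffffffffffffffff00033a000000ffffff00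0000000000ffffff00032b000000000000000000ffffffffffff000000000000ffffffffffff000000ffffff00000000019c000000ffffff000000ffffff000000ffffff000000000000ffffffffffff000000ffffff0000000000000000000000000002dfffffff000000ffffffffffffffffff0002d9000000ffffff000000ffffffffffffffffff000000ffffff000000000000000000ffffff00000000000000016effffff000000ffffff000168000000000000ffffff000000000000ffffffffffffffffffffffffffffff000000ffffff000000000000ffffffffffffffffffffffffffffffffffffffffff000000ffffffffffffffffffffffffffffffffffff000000000000ffffff000000ffffff000000000000ffffff00000000000000025f000000000000000000ffffffffffff000000ffffff000000ffffff000000ffffffffffff000000ffffffffffffffffff000000000000ffffffffffff0000000000000000f6ffffff000000000000000000ffffffffffff000000000000000000000000ffffffffffffffffff000217000000000000ffffffffffff0000000000e0ffffffffffff000000ffffffffffff000000ffffffffffff000000ffffff000000000000000000ffffff0000000000000001ef0000000000c0000000000000000000ffffff000000ffffff0001e5000000000000000000ffffff0001dd000000ffffffffffffffffff000000000000ffffff000000ffffff000000000000ffffffffffff000000ffffffffffffffffffffffffffffff00000000000000000000000000000000000000019d000000000000000000000000000000000000000000000000ffffff00000000000000000000000000016fffffff00007e000169000000000000ffffffffffff000000000000ffffff000000ffffff000000ffffffffffffffffff000000ffffff000000ffffff000000ffffff000000000000000000000000000000000000ffffff000000ffffff000000000000000000ffffff0000f7000000000000ffffff000000ffffff000000000000000000ffffff000000ffffff0000000000000000e10000000000000000000000000000000000000000c1000000000000000000000000000000ffffff00000000000000000000000000000000000000000000000000000000007f000000000000ffffff000000000000000000000000000000ffffff000000000000000000000000000000000000000000000000000000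
def rkSel7 (c : ℕ) : ℕ := rk7_0
def rk7F (v : ℕ) : ℕ := Nat.rec (motive := fun _ => ℕ) 0 (fun c _ => Nat.mod (Nat.shiftRight (rkSel7 c) (Nat.mul 24 (Nat.mod v 682))) 16777216) (Nat.add (Nat.div v 682) 1)

end Cfsg.Agent.Helper5.FiYKTC
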