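import Cfsg.Agent.Helper5.TC2A

/-! generated certificate data (ranks of generator 8): FiYKTC -/

set_option autoImplicit false
set_option Elab.async false

namespace Cfsg.Agent.Helper5.FiYKTC
open Cfsg.Agent.Helper5.TC

def rk8_0 : ℕ := 0x339000000ffffff000000ffffffffffffffffffffffffffffff000000ffffffffffff000000ffffffffffffffffffffffffffffffffffff000000ffffffffffffffffff000000ffffffffffffffffffffffffffffffffffffffffffffffffffffffffffff0000000002da000000ffffffffffffffffffffffffffffff000000ffffffffffffffffffffffffffffffffffffffffffffffffffffffffffff0002b60002b2000000ffffffffffffffffffffffffffffffffffff000338000000ffffff000296000000000000ffffff00028cffffffffffffffffffffffff000000ffffff000274000272ffffffffffffffffffffffffffffff000264ffffffffffff000000ffffffffffffffffff000000ffffff00024cffffff000000ffffffffffffffffffffffffffffff000000ffffff000230ffffffffffff00022affffff000224ffffffffffffffffffffffff000218ffffff000000ffffffffffff000210000297000000ffffffffffff000000ffffffffffffffffffffffffffffffffffffffffffffffff0001f6000273ffffffffffffffffffffffffffffffffffff0001e6ffffff000000ffffffffffff000000ffffff000000ffffff000000ffffffffffffffffffffffffffffffffffffffffffffffffffffff0000000000000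001c6000000000000ffffff000000ffffff000000ffffff000000000000000000ffffffffffff000000ffffff000000000000ffffffffffffffffffffffff000000ffffff000000ffffffffffff000000ffffffffffffffffffffffff000000000000ffffffffffffffffffffffffffffffffffffffffffffffff0000000000000002db000000000000ffffffffffffffffffffffff000000ffffffffffff000000ffffffffffffffffffffffffffffffffffff000000ffffffffffffffffffffffffffffffffffff0002b7000162ffffff0002b3000000000000ffffffffffff000000ffffffffffff000000000000ffffffffffff000000000000000000000000000000ffffff00028d000000ffffff00000000027500012e00012cffffff000000ffffffffffffffffffffffff000265000000000000ffffff00000000024d000000ffffff000000ffffffffffffffffffffffff000000ffffff000000ffffff0002310000fcffffffffffffffffffffffffffffffffffffffffff00022b0000f4000225000000ffffffffffffffffffffffffffffffffffffffffff000219000000000000ffffffffffffffffffffffff000000ffffff000000ffffff000211000000ffffff000000000000ffffffffffffffffffffffffffffffffffff0001f70000c600012dffffff000000ffffffffffffffffffffffffffffff0001e7000000000000ffffff000000ffffff000000000000ffffff000000ffffffffffffffffff000000ffffff000000ffffff000000ffffff000000ffffff000000ffffffffffff0001c700000000000000000000000000000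0000000ffffff000000000000000000ffffffffffff000000ffffffffffffffffff000000000000000000ffffffffffffffffffffffff000000000000ffffffffffffffffffffffffffffff000163000000000000ffffff000000000000ffffff00000000000000000000000000000000012f000000000000ffffffffffff000000000000ffffffffffff000000ffffff0000fd00003affffff000000ffffffffffffffffffffffff0000f5000000000000ffffffffffffffffffffffffffffff000000ffffff000000000000000000000000ffffffffffff0000c7000000000000ffffffffffff000000000000ffffffffffff000000000000ffffff000000000000000000ffffffffffff000000000000ffffffffffff000000000000000000ffffff00003b000000000000ffffff000000ffffff000000000000ffffff000000000000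
def rkSel8 (c : ℕ) : ℕ := rk8_0
def rk8F (v : ℕ) : ℕ := Nat.rec (motive := fun _ => ℕ) 0 (fun c _ => Nat.mod (Nat.shiftRight (rkSel8 c) (Nat.mul 24 (Nat.mod v 682))) 16777216) (Nat.add (Nat.div v 682) 1)

end Cfsg.Agent.Helper5.FiYKTC
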