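import Cfsg.Agent.Helper5.TC2A

/-! generated certificate data (ranks of generator 9): FiYKTC -/

set_option autoImplicit false
set_option Elab.async false

namespace Cfsg.Agent.Helper5.FiYKTC
open Cfsg.Agent.Helper5.TC

def rk9_0 : ℕ := 0xffffffffffffffffff000000ffffff00034d000000ffffff000000000000ffffffffffff000000ffffffffffffffffff000304ffffff000000000000ffffff000000ffffffffffffffffff000000ffffffffffffffffffffffffffffff0002e4000000000000ffffffffffff000000ffffffffffffffffff000000000000000000ffffffffffff000000ffffff000000ffffffffffffffffffffffffffffff000000ffffff000000ffffff000000ffffffffffff000000ffffff000000000000ffffff000000ffffffffffffffffffffffff000000ffffff000000ffffff000000ffffffffffffffffff00000000026effffff000000000000ffffff000000ffffff000000ffffff000000ffffff00000000034cffffff000000000000ffffffffffffffffff000000ffffff000000ffffff000000ffffff00022e00022cffffff000226000000ffffffffffffffffff000000000000000000ffffff000000000212000000ffffffffffffffffff000000ffffff000000ffffff000000000000ffffffffffffffffffffffffffffff0000000001f0ffffffffffff000000000000ffffff000000000000ffffffffffff000000ffffffffffffffffffffffffffffffffffff000000ffffffffffffffffffffffffffffff000000000000ffffffffffff000000ffffffffffff000348ffffffffffffffffff000000ffffffffffff00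0000000000000000000000ffffff000000000000ffffff000305000000000000ffffff000000000000000000000000ffffff000000ffffffffffff000000ffffffffffff000000ffffffffffff0002e5000000000000000000000000ffffffffffff000000000000ffffffffffffffffff000000000000ffffffffffff000000000000000000000000ffffffffffff000000ffffffffffffffffff000000ffffff000000ffffff000000ffffff000000ffffff000000000000ffffff000000000000ffffff000000000000000000000000000000ffffffffffff000000ffffffffffffffffffffffff00000000000000000000000000026f000000000000000000ffffff000000000000000000ffffff000000000000000000000000000000000000000000ffffff000000ffffff000000000000000000000000ffffffffffff00000000022fffffff0000fa00000000000000022d000000ffffff000000000227000000000000000000ffffffffffffffffff000000ffffff000000000000000000000000000000000213000000000000000000ffffff000000ffffffffffff000000000000ffffffffffff000000ffffff000000000000000000ffffffffffff0001f1000000000000000000ffffff000000000000000000000000ffffff000000000000000000ffffff000000000000ffffffffffffffffffffffff000000ffffffffffffffffff000000000000000000ffffffffffffffffffffffffffffffffffffffffff000000000000ffffffffffffffffff000000000000000000000000000000000000000000ffffff000000000000000000000000ffffff000000000000ffffff000000000000000000ffffffffffff000000000000ffffff000000000000000000000000000000ffffff000000000000000000000000ffffffffffffffffff000000000000000000000000000000ffffff000000000000ffffff000000000000ffffff0000fb000000000000000000000000000000000000000000000000000000000000ffffff000000000000ffffff000000000000000000000000000000000000000000ffffffffffff000000000000000000000000000000000000000000ffffff000000ffffff000000ffffffffffff000000000000000000000000000000000000000000000000000000000000000000ffffff000000000000000000000000000000000000000000000000000000000000000000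
def rkSel9 (c : ℕ) : ℕ := rk9_0
def rk9F (v : ℕ) : ℕ := Nat.rec (motive := fun _ => ℕ) 0 (fun c _ => Nat.mod (Nat.shiftRight (rkSel9 c) (Nat.mul 24 (Nat.mod v 682))) 16777216) (Nat.add (Nat.div v 682) 1)

end Cfsg.Agent.Helper5.FiYKTC
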