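import Cfsg.Agent.Helper5.TC2A

/-! generated certificate data (targets of generator 1): FiYKTC -/

set_option autoImplicit false
set_option Elab.async false

namespace Cfsg.Agent.Helper5.FiYKTC
open Cfsg.Agent.Helper5.TC

def tg1_0 : ℕ := 0x15c0000000000000000000000000000000001580000000000000000000000000000000000000000000001230000000000000000000000000000000000000000000000000000000000000000000000000000000000000000000000000000000000000000000000000000000000000000000000000000000000000000000000000000000000000000000000000000000000000000000000000000000000000000000000000000000000000000000000000000000000000000000000000000000000000000000000000000000000000000000000000000000000000000000000000000000000000000000000000000000000000000000000000000000000000000000000000000000000000000000000000000000000000000000000000000000000000000000000000000f60000e30000e000010800000000015800000000000000000000000000000000000000000000000000000000000000000000000000000000000000006d0001d40000000000000000000001ce0000000000000000000000000000000000950000000000000000000000000000000000000000000000000000000000000000000000000000000000000000000000000000000000000000000000000001ce00000000000000007e0000bd0000b80000000000b70000b10000000000a50000a20000a000009f00009d00009c00009b0000000000000000990000000000980000000000000000000000000001c600006b00000000000000000000000000000000000000000000000000000000000000000000000000000000000000000000000000000000000000000000000000000000000000000000000000000000016e0000000000000000000000000000000000000000000000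0000000000000000000000000000000000000000000000000000000000017100000000000000000000000000000000000000000000000000000000000000000000000000000000000000000000000000000000000000017000000000000000016f00000000000000000000000000000000000000000000000000000000000000000000000000000000000000000000000000000000000000000000000000000000000000000000000000000000000000000000000000005700004c00004b00004a00004900005f00013900000000000000000000000000013800013600000000000000000000000000000000013500000000000000000000000000000000000000000000000000000000000000000000013300000000000000013200000000013100013000000000012f00012e00012d00000000012a00012800000000000000015200002400000000000000000000000000000000000000000000000000000000000000000000000000000000000000000000000000000000000000000000000000000000013a00003b00003800003600000000003500003100003000000000002d00002c00002b00000000002a0000290000280000270000260000250001220000000000000000000000000000000000000000000000000000000000000000000000be0000000000000000000000000000000000000000000000c30000000000000000000000000000000000000000000000000000000000000000c20000c10000c00000bf00000000000000000000000000000000000000000000000000000000001100001000000d00001400007d00000000000000007c00000000007b00007900000000000000000000007800007700000000000000007500007400007300007100007000006f00006e00006d00006c00009400000000000000000000000000000000000000000000000300000a00000800000700000600000500000400000000003c00000000000000003f00003e00000000000000003d00000000000100001b00000000001a00001900001800001700001600001c00000000000b000002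
def tgSel1 (c : ℕ) : ℕ := tg1_0
def tg1F (v : ℕ) : ℕ := Nat.rec (motive := fun _ => ℕ) 0 (fun c _ => Nat.mod (Nat.shiftRight (tgSel1 c) (Nat.mul 24 (Nat.mod v 682))) 16777216) (Nat.add (Nat.div v 682) 1)

end Cfsg.Agent.Helper5.FiYKTC
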