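import Cfsg.Agent.Helper5.TC2A

/-! generated certificate data (targets of generator 2): FiYKTC -/

set_option autoImplicit false
set_option Elab.async false

namespace Cfsg.Agent.Helper5.FiYKTC
open Cfsg.Agent.Helper5.TC

def tg2_0 : ℕ := 0x19a00000000000000000000018100018000000000000000013300000000013100013000000000012f00015200013900000000013800013700013600013500000000000000000000013500000000000000000000011300011200000000000000000000000000000000000000000000000000000000018100010800010c0000000000000000000000000000000000000001350000000000000000000000000000f30000000000000000000000000001d40000000000000000f00000ef0000e90000e80000000000000000000000000000000000000000000000000000000000000000000000fb0000fa0000f90000000000f60000f50000000001d00001cf0000000000000000000000000000000000ce0000cd0000cc00000000000000000000000000000000000000000000000000000000000000012f0000000000000000000000000000000000000000000000000000000000000000000000000000000000000000000000000000000000000000000000000000000000000000a30000a100009f00009c0001c60000bd0000bc0000000000bb0000000000b80000b70000000000000000000000000000000000000000890000880000870000000000000000000000000000000000000000820001c60001c50001c30001c20001c10001c00000000001cc0000000001ca0001c90001c700000000000000000000000000000000000000000000007100007000006f00006e00006d00009400007d00000000000000007c00007b00007a0000790000000000780000770000000000000000000000000001b80001b70000000000640000000000000000000001ab000000000000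0000000001ac00000000000000000000000000005f00006300000000006200006100000000000000000000018800018700018600000000000000018400018300000000019f00000000005300019700019600000000000000000000000000000000019500019400000000005200005100004e00000000000000000000000000000000000000000000000000000000000000000000000000005d00005c00005b00005a00005900005700005600000000000000017a00017900017800000000004100000000000000000000000000000000000000000000000000000000000000000000000000015100015000014e00000000000000014c00014b00000000000000000000000000000000000000000000000000000000000000000000000000000000000000000000000000000000000000000000015600000000015500000000015400000000000000015300000000000000000000000000002800002700002600012200003b00003a00000000003900003800003600003500000000003300003100014400014300014200000000001e00000000000000013b00000000000000000000001d00012100011e00011d00011c00011b00011900011800000000000000000000000000001700012700012600012500012400012300000000001600001b00000000001a0000190000180000000001100001020001000000ff0000000001030000140000d70000d60000d50000d40000d30000000000d20000d10000000000000000f10000e60000e50000000000000000e400000e00000000000000000000000000000000000000001300001200001100001000000f0000ca00000000000000000000000000000000009300009200009000008f00000000008e00008d00000000008b00000000008a00000000000000000000000000000000000000000000000000009700009600009500000000000400000a00000900000800000700000600008500007e00000000006a00006800006700006600007200006b00000200005e00004600004500004400004300004200004d00000000000100000000002300002200002100002000001f00000000002400000000001500000c000003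
def tgSel2 (c : ℕ) : ℕ := tg2_0
def tg2F (v : ℕ) : ℕ := Nat.rec (motive := fun _ => ℕ) 0 (fun c _ => Nat.mod (Nat.shiftRight (tgSel2 c) (Nat.mul 24 (Nat.mod v 682))) 16777216) (Nat.add (Nat.div v 682) 1)

end Cfsg.Agent.Helper5.FiYKTC
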