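import Cfsg.Agent.Helper5.TC2A

/-! generated certificate data (targets of generator 3): FiYKTC -/

set_option autoImplicit false
set_option Elab.async false

namespace Cfsg.Agent.Helper5.FiYKTC
open Cfsg.Agent.Helper5.TC

def tg3_0 : ℕ := 0x11e0000000001160000000001250000000000000000000000000000000000000000000000000000000000000000000000000000000000000000000000000000000000000001020001000000000000000000000000000000000000000000000000000000000000000000000000000000000000000000000000000000000000000000000000000000dd0000ef0000ee0000000000d90000e90000e80000000000000000000000000000000000000000d20000000000000000000000000000000000000000000000000000000000000000d60000000000000000c60000cf0000ce0000000000000000000000000000000000000000000000000000000000000000af0000000000000000ab0000000000000000000000000000bb0000b300000000000000009b0000ad0000000000a90000000000000000000000000000000000000000000000000000000000bb00000000000000000000008e00008d00000000000000000000000000000000000000000000008f00008100000000000000008900008600009700009400000000000000000000000000009700000000000000007c0000000000000000000000780000000000000000760000750000000000730000000000000001b80000000000000000000000000000000000000001bc0000000000000000000000000000000000000000000001ba00006a00006900006800000000006500006b0000000000000000000000000000000000000000000000630000000000620000000000600000000001a50000000001a400000000000000000000005e00000000000000000000000000000000000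000000000000000000000000000000000000000018e00018d00000000000000000000004f00018a00018900000000000000000000000000005c00005b00005900000000000000000000018f00005300005200005100018b00004e00000000017700000000000000000000018200000000004300017300017200000000000000000000000000004600004500004400017400004200004100000000000000000000003f00000000003c00000000000000015f00000000000000000000000000000000003600000000015e00000000000000000000016700003000015a00000000016400002c00015800000000000000003b00003a00000000003900003800000000000000000000003300003200003100015b00002f00002d00002b00013b00000000000000013a00000000000000000000000000014100014a00014900002000000000000000013d00000000000000013c00000000002300002200002100014000001f00001e00002400000000013200000000000000000000012e00000000012b00012a00000000012800000000001b00000000001a0000000000180000170001100001150001140001130000000000000001110000150001080001060000000001040000140000fc0000000000e30000e20000000000e10000000000000000000000100000000000dc0000db0000da0000000000ea0000d800000000001300001200001100000000000f00000e0000c90000c80000c70000d00000c50000c400000c0000c000000000000b0000be0000a60000a50000a30000a20000000000b500000000000700009e00009d00009c0000ae00009a0000000000990000aa00009800000a00000900000800000000000600000500007e00008400008300008200008c00008000007f00000300000000007100006f00000000006d00006c00000200006400005f00004c00004b00004a00005500004800004700000100004000003d00002a00002900002800003400002600002500000000001d00001600000d000004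
def tgSel3 (c : ℕ) : ℕ := tg3_0
def tg3F (v : ℕ) : ℕ := Nat.rec (motive := fun _ => ℕ) 0 (fun c _ => Nat.mod (Nat.shiftRight (tgSel3 c) (Nat.mul 24 (Nat.mod v 682))) 16777216) (Nat.add (Nat.div v 682) 1)

end Cfsg.Agent.Helper5.FiYKTC
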