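import Cfsg.Agent.Helper5.TC2A

/-! generated certificate data (targets of generator 4): FiYKTC -/

set_option autoImplicit false
set_option Elab.async false

namespace Cfsg.Agent.Helper5.FiYKTC
open Cfsg.Agent.Helper5.TC

def tg4_0 : ℕ := 0x1320000000001310001300000000000000000000000000000000000000000000000000000000000000000000000000000000000000000000000000001190001180000000000000001130001120000000000000000000000000000000000000000000000000000000000000001060000000000000000000000000000000000000001020001000000000000000000000000000000000000000000000000fa0000000000f70000000000000000000000000000000000000000000000000000000000000000000000000000000000e30000e200000000000000000000013c0000000000000000000000000000000000f50000000000d70000d60000d50000d40000d30000000000000000e60000e50000000000000000000000000000000000000000c90000000000000000000000000000000000000000000000000000000000000000000000b40000b00000b500000000000000000000000000000000000000000000000000000000009e00009d0000000000980000000000000000000000000000000000000000000000000000000000000000000000b70000b500000000009200009000008f00000000000000000000000000000000000000000000000000008400018900000000000000000000000000000000000000000000007a0000000001d20001d00001cf00000000000000000000007100007000006f00006e0000000000000000000000000000000000000000000000000000000000000000000000000000000000000000000001be0001bd0000660000680000000000000001ba0001b9000064000000000000000000000000000000000000000000000061000000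0000000001ae00000000005f0000000001a70000000001a600000000000000005e00000000000000019e00000000000000019c00000000000000000000005400000000000000005d00005c00005b00005a00005900005800005500000000000000000000017a00017900000000018e00018d00000000000000000000000000000000004800004c00004b00004900000000018100018000017f00017e00017d00000000000000000000000000004600004500004400000000004d00017200000000000000000000000000004000000000000000000000000000000000000000000000000000000000000000000000000000000000000000016400016600000000000000000000016500000000000000003300003100003600003400000000000000000000000000000000000000000000000000000000000000000000015a00015900000000000000002600002800015700000000000000000000000000000000014800000000014700014600000000000000000000000000000000002300002200002100000000000000013d00000000000000000000000000001d00000000000000000000000000013400000000000000000000000000001a00001900000000000000012c00012b00012a0001290000000000160000000000000000000001160000000001170000150001110000000000000001090000140001040000fd0000f00000ef0000ee0000ed0000ec0000eb0000000000000000ea0000f300000f0000130000120000110000100000000000ca0000db0000da0000000000d90000dc00000d0000ce0000cd0000cc00000000000000000c0000c40000000000000000000000000000000000000000000000000000000000ab0000000000aa0000ad0000000000ac00000000000600000a00000800000700000000000000000000009900000000009a00000400000000008900008800008700000000000000000300007f00000000000000007500007400000000000200006c00006500006000005200005100005000004f00005300000100004700004100000000002e00000000002d00002c00002f00000000002500001e00001700000e000005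
def tgSel4 (c : ℕ) : ℕ := tg4_0
def tg4F (v : ℕ) : ℕ := Nat.rec (motive := fun _ => ℕ) 0 (fun c _ => Nat.mod (Nat.shiftRight (tgSel4 c) (Nat.mul 24 (Nat.mod v 682))) 16777216) (Nat.add (Nat.div v 682) 1)

end Cfsg.Agent.Helper5.FiYKTC
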