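import Cfsg.Agent.Helper5.TC2A

/-! generated certificate data (targets of generator 5): FiYKTC -/

set_option autoImplicit false
set_option Elab.async false

namespace Cfsg.Agent.Helper5.FiYKTC
open Cfsg.Agent.Helper5.TC

def tg5_0 : ℕ := 0x13100013000000000000000000000000000012c00012a00000000000000019a00000000012700012600012200000000000000000000000000000000011e00011d00000000000000011e00011d0000000000000000000000000000000000000000000000000000000000000000000000000000000000000000000000000001020001010001000000000000000001020001000000000000000000000000000000000000000000000000000000000000f00000ee0000ed0001d40000000000e60000e50000000000e20000e10000e00000000000000000000000000000000000db0000da0000000000000000000000000000000000f50000000000000000000000000000ed0000000000ce0000cc0000000000000000000000000000000000000000000000c70000000000000000000000000000000001260001270000000000bc0000bb0000ba0000000000000000000000000000000000000000000000000000000000a50000a40000a000000000000000000000000000009a0000000000000000000000970000940000000000000000000000bb0000000000000000b700000000000000000000000000000000008700000000000000000000000000000000008300008100000000007f00009700009400000000000000000000000000007c0000000000000000000001d40001d300007000006f00006e0001ce0000000001cd00000000006c0001c80001c700000000000000006b0001c60000000000000000000001c00001bf00000000000000006a0000680000670000000000000000000000000000000000000000000000000000000000000000000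0000000000000000000000000000000000000000000005f0000000000000001aa0001a90001a800000000005e00000000000000000000000000000000000000000000000000000000000000000000000000000000019a00000000019900019800000000000000000000005200005100005000019500019400004d00000000019200019100019000004b00004a00004900000000018a00018900000000004700000000000000000000000000000000000000000000000000004400017c00000000017b00004100000000000000000000017300000000004000000000000000000000000000000000000000000000000000016a00016900016800000000000000000000000000000000003b00003a00003900003800003700003500003400000000000000000000000000002e00000000002d00000000015e00015d00000000000000000000015c00000000002a00002900002800002700015700000000002500015300000000002400015200000000000000000000000000000000000000000000000000002300002100000000000000014500001e00000000000000013f00000000013e00001d00013c00000000000000013500000000000000000000001a00001900000000000000000000001700000000000000012f00012e00012d00001600012800012300011a0000000001190001180000150000000000000000000000000000000000000001050000fe0000000000000000000000000000000000000000000000000000000000130000000000e90000e80000e700000000000e0000e40000000000df0000de0000dd00000d0000d80000000000000000cf00000000000c0000cb0000c50000000000000000000000000000b40000b30000b20000b10000b00000000000af0000ae00000a0000090000080000070000000000a90000a700000000000500009e00009d00009c00009b00000400009800009500008b00000000008a00000000000300008600008000000000000000007800007700000200007300006d00006600000000005400000000000000000000000100004e00004800004200000000003300003200003100003000000000002b00002600001f00001800000f000006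
def tgSel5 (c : ℕ) : ℕ := tg5_0
def tg5F (v : ℕ) : ℕ := Nat.rec (motive := fun _ => ℕ) 0 (fun c _ => Nat.mod (Nat.shiftRight (tgSel5 c) (Nat.mul 24 (Nat.mod v 682))) 16777216) (Nat.add (Nat.div v 682) 1)

end Cfsg.Agent.Helper5.FiYKTC
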