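import Cfsg.Agent.Helper5.TC2A

/-! generated certificate data (targets of generator 6): FiYKTC -/

set_option autoImplicit false
set_option Elab.async false

namespace Cfsg.Agent.Helper5.FiYKTC
open Cfsg.Agent.Helper5.TC

def tg6_0 : ℕ := 0x12f00000000000000012c00012b00000000000000000000000000012700012600000000000000019a00000000012100000000000000012000000000000000011a00000000011700000000011500000000011100000000011000010f00000000010e00000000010b00010a0000000000000000000001040000000001020000000000000000000000000000000000000000000000000000f80000000000f20000000000000000000000ec0000000001c70000000000000000000000000000000000000000e30000000000000000df0000000000000000000000db0000ea0000000000000000d70000000000000000000000000000000000000000000000000000000000000000000000000000000000000000000000000000000000c90000c80000d00000000000000000000000000000c10000000000bc0000bb0000000000000001270000000000000000000000ac00000000000000000000000000000000000000000000000000009d0000ae00000000000000000000000000000000000000000000000000000000009300000000000000012700000000000000000000000000000000000000000000000000000000000000000000000000000000008c00000000008000000000000000000000012100007d0000000000000000000000000000760000000000000000700000000001d400000000006d0001d10001d000000000006c0000000001cb0001ca00000000006b0000000000000001c50001c200000000000000006a0000690000000001bf0000000000660001bd0000000001bb0000000000000000640001b90001b70001b60001b400006200006300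01b20001b10000600000000000000000000000000001ad0000000001ab00000000000000005e00000000000000000000005d0000000000000001a20000590000000000000000560000000001a000000000000000000000000000000000019c00005000018b00000000000000000000000000000000000000019300000000000000004b00019000000000004800000000018c00000000004700000000018800000000000000000000000000004600000000017400000000000000000000000000000000000000017600017500000000004000000000000000000000000000016f00000000003d00000000003b00016d00016c00000000003900000000000000003500000000000000000000000000000000003100000000015b00000000016500002e00000000000000000000000000000000000000000000000000000000002a00002900000000000000015c00000000002600000000000000000000000000002400000000000000015100000000000000000000000000002300000000014000000000000000000000000000000000000000000000000000000000000000001d00013e00000000000000013900000000001b00000000000000000000001800013400000000001700000000000000000000013100000000001600012d00012900012400011d00011c00000000001500011800000000011200010c00010d0000140001090000000000ff0000fb0000000000000000000000f70000110000130000f40000000000000000000000000000000000eb00000e0000000000000000000000e000000000000d0000dd0000d90000d200000000000000000c0000000000000000c600000000000b0000bf0000000000bd0000000000b900000000000800000a0000b60000000000000000000000b00000060000000000ab0000000000050000000000a10000a000000000000400009b00000000009600008e00000000000000000300000000000000008100000000007b00000000000200007700007400006e00006700006100005700000000005800000100000000004f00004900004300003e00003600000000003700000000003000002c000027000020000019000010000007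
def tgSel6 (c : ℕ) : ℕ := tg6_0
def tg6F (v : ℕ) : ℕ := Nat.rec (motive := fun _ => ℕ) 0 (fun c _ => Nat.mod (Nat.shiftRight (tgSel6 c) (Nat.mul 24 (Nat.mod v 682))) 16777216) (Nat.add (Nat.div v 682) 1)

end Cfsg.Agent.Helper5.FiYKTC
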