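import Cfsg.Agent.Helper5.TC2A

/-! generated certificate data (targets of generator 7): FiYKTC -/

set_option autoImplicit false
set_option Elab.async false

namespace Cfsg.Agent.Helper5.FiYKTC
open Cfsg.Agent.Helper5.TC

def tg7_0 : ℕ := 0x19500012d00012b00000000017a00012900000000012800000000000000000000012400000000000000000000000000011f00011d00000000000000000000000000011700000000011400000000011100000000011000000000000000010e00000000000000010d0000000000000001070001040000000000000000000000000000000000fe0000000000fd0000000000fc0000f90000000000f30000000000000000ef0000000000000000000000e90000000000000000e60000000001d40000000000000000000000df0000000000000000000000000000000000000000000000000000000000d60000000000d40000d20000000000000000ce0000000000000000000000cd0000000000cb0001d00000000000ca0000000000000000000000000000c50000000000c30000000000000000000000000000000000b70000b30000b20000000000ae0000ad0000000000000000000000000000a80000000000a300000000000000000000000000000000000000000000000000000000011f00009600009500000000000000009200000000009000009100008e00000000000000008c00000000000000008800008600000000000000008500008300000000000000000000000000000000007e00000000000000007b0000000000000000000000000000000000700000e600006e00000000006d0001d30000000001d200006c0001cf0001cd00000000000000006b0001c900000000000000006a0000000001c40000690001c30000000000670000000000660000000001be0000650000000001bc0000640000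000001ba0001b80000630001b50001b20000000000610000000000000000000001af00005f0000000001ae00000000000000000000005e0000000001a80001a60001a400000000005c0001a300005b0000000000570000000000580001a100005300000000005200019e00000000000000005100000000000000019a00000000004e00019700000000000000000000000000004b00000000019100004800000000000000000000000000000000000000004600018700000000018500004500018400004300000000004200018100017d00004100017b00017800000000000000004000000000017300000000017100000000000000003d00000000000000000000003a00003900000000000000003600016b00003700000000003300016a00016900003200000000003000016700016600002f00000000000000000000016100002b00002a00000000000000015f00002900000000000000002700000000000000002600000000000000002500000000002400015400015300000000002300015000014d00014e00002200014c00002000014900000000001f00000000014600001e00014500014200000000014100001d00000000000000000000013b00001b00000000013800000000001900001800000000000000001700000000000000000000000000013200001600013000012e00012a00012500012100011e00001500011b00011900011600011300010f00001400010b0000000001060001000000130000fa0000f80000000000120000f40000f60000100000000000000000f20000f00000ec00000e0000000000e70000000000000000e100000d0000000000de0000000000d70000d300000c0000d10000cf0000cc0000c700000b0000000000c000000000000a0000bc0000bb0000090000b60000b80000070000000000b40000b10000060000af0000ac0000000000050000000000a70000a60000a200000400009f00009c00009900009700009300008f00000300008d00008a00008700008200000000007d00000200007900007800007500006f00006800006200005d00005900000100005600000000005000004a00004400003f00003b00003800000000003500003100002d00002800002100001a000011000008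
def tgSel7 (c : ℕ) : ℕ := tg7_0
def tg7F (v : ℕ) : ℕ := Nat.rec (motive := fun _ => ℕ) 0 (fun c _ => Nat.mod (Nat.shiftRight (tgSel7 c) (Nat.mul 24 (Nat.mod v 682))) 16777216) (Nat.add (Nat.div v 682) 1)

end Cfsg.Agent.Helper5.FiYKTC
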