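import Cfsg.Agent.Helper5.TC2A

/-! generated certificate data (targets of generator 8): FiYKTC -/

set_option autoImplicit false
set_option Elab.async false

namespace Cfsg.Agent.Helper5.FiYKTC
open Cfsg.Agent.Helper5.TC

def tg8_0 : ℕ := 0x12d00019500012a00000000012900017a00000000000000012700000000012400000000000000012300000000000000000000000000011d00000000011900000000000000000000011300000000000000000000000000000000000000000000000000000000000000010900010800010600012a00000000012700011d0000000000fe0000000000000000000001150001190000000000000000000000000000000000f00000ed0000eb0000000000000000000000000000000000e60001d30000e400000000015d0000de0000dd0000000000db0000000000000000000000000000d80000000000d700014f0000000000000000000000000000000000ce0000000000000000cc0000000000000001cf0000ca0000000000c90000000000c60000000000000000000000000000c20000bf0000000000bd0000000000000000b40000000000b20000000000000000000000000000a90000000000a700000000000000009e00019200009b00000000000000009a00000000000000000000000000000000000000000000000000009300018600000000000000000000000000000000000000008900000000008700000000018600008500000000008200000000008000000000000000000000000000000000000000000000007b00000000007800007400007100006f00006e0000e600006d0000000001d400000000006c0001d20001d00000000001cc00006b0000000001ca0001c700000000000000006a0000000000680001c20000670000000000000001c00000000000000000000000000000640001bc0000000000000000000000000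000000000000000000000000000600001b10001b000005f0001af00000000000000000000000000005e0000000000000001a900000000000000000000005d00000000000000005800000000000000000000000000000000000000019e00005200000000019d00005000019c00000000000000004e00000000019600004d00019400004c0000a400004a00004900004800019100019000000000018e00004700000000018900018700004600009100000000004400000000000000000000000000018000004100017d00000000017900017700004000000000017500000000000000000000017000003d00000000016f00000000016d00003b00000000003900000000000000000000000000000000016a00003300016800003100000000000000000000000000000000000000000000016300002b00016100000000002a0000e200000000002800000000002700000000015e00002600000000015c0001590000000000000000000000000000000000000001500000230000d500000000002100000000000000000000000000000000014800001e00014600000000014300000000001d00014100000000013f00000000000000000000001a00013700001900000000013500000000001700000000013400000000000000013300001600013200013100012f00012b00012600012000001500011e00011c00000000000000011400000000000000000000010a0001070001010000fa0000130000000000000000110000f70000000000000000000000000000000000ef00000e0000ec0000000000e80000e50000e300000d0000e10000e00000df0000da0000d600000c0000d30000000000000000cd0000c80000000000000000c10000000000bc00000a0000ba0000080000000000000000000000000000b30000060000b10000000000000000000000000000000000a80000a50000040000a20000a000009d00000000000000009200000300008f00000000000000008800008300000000000000007c00007a00000000007600007000006900000000005c00000100005900000000000000005100004b00004500000000003a000000000038000000000032000000000029000022000000000012000009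
def tgSel8 (c : ℕ) : ℕ := tg8_0
def tg8F (v : ℕ) : ℕ := Nat.rec (motive := fun _ => ℕ) 0 (fun c _ => Nat.mod (Nat.shiftRight (tgSel8 c) (Nat.mul 24 (Nat.mod v 682))) 16777216) (Nat.add (Nat.div v 682) 1)

end Cfsg.Agent.Helper5.FiYKTC
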