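import Cfsg.Agent.Helper5.TC2A

/-! generated certificate data (targets of generator 9): FiYKTC -/

set_option autoImplicit false
set_option Elab.async false

namespace Cfsg.Agent.Helper5.FiYKTC
open Cfsg.Agent.Helper5.TC

def tg9_0 : ℕ := 0x19400000000012900000000017900012800000000012600012400000000000000012300000000000000000000012100000000011c00011b00000000011800000000000000000000011200000000000000000000000000000000010f00010d00010b0000000000000001070000000000000000000001030000ff0000fe0000000000000000fd0000000000fc0000000000000000000000000000000000f10000000000ec0000000000ea0000000000000000e70000000000e50000e40001d30000e00000000000000000000000000000da0000000000d90000000000d80000000000000000000000d50000d70000000000d10000d00000000000cd0000000000cc0000000000cb0000000000ca0001cf0000000000c80000c60000000000000000000000c40000000000c10000000000be0000000000bd0000b80000000000b40000b10000000000000000000000aa0000a80000a70000000000a40000a600009d00000000000000000000009a00000000009800000000009700009600000000000000000000000000000000009100009300000000000000008d00008c00000000008800008700000000000000008500000000000000000000000000000000000000007f00000000000000000000000000000000007a0000790000000000000000700000000000000000e500000000000000000000006c0000000000000001d10001ce00006b0001cc0000000001cb0001c80000000001c40000690000680000000000670001c20001c10000660000000001bf0000000000000000640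000000000000001bb0000000000000001b50000620001b40000610001b300000000000000005f0001b00000000000000000000001ac00005e0000000000000001ab0001aa0001a70001a500000000000000005b00000000000000000000005600000000005300000000019f00000000005100000000005000019d00000000019b00004e00000000019800004d00019600019500004b00000000000000019300000000000000000000000000004700018e00018c00018a00018500004500018600004400000000004300018300018200000000004100018000017e00017c00017a00004000017700000000017600000000017200003e00003d00017000000000000000016e00016c00000000003b00003800003700016b00003500000000003400016900003200003100016800000000000000000000002f00000000002c00016400002b00016300016200015f00002900016000002800000000002700000000000000002600015e00000000000000015a00000000015800015600015500000000000000014e00002200014f00002100000000002000014b00014a00001f00000000001e00014800014700000000014400001d00000000000000000000000000013d00000000000000000000001900013700013600000000000000000000000000000000000000000000001600013300000000000000000000012c00012700001500012000011f00011d00011a00000000011500001400010e00010c0000000001080001020000000000120000f90000110000000000000000100000f500000000000f0000f300000e0000ef0000ed0000000000e90000e600000d0000e30000000000000000000000db00000c0000d60000d40000d20000000000ce0000c90000000000c30000c20000000000bb0000090000080000ba0000b90000070000b70000b50000060000b30000b20000000000ad0000050000000000ab0000a90000040000a50000a30000a100009e00000000000000000300009200009000008e00008b00008900008400000000000200000000007b00000000000000007100006a00006300000100005c00005a00005700005400005200004c00004600000000000000003a00003900003600003300002e00002a00002300001b00001300000a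
def tgSel9 (c : ℕ) : ℕ := tg9_0
def tg9F (v : ℕ) : ℕ := Nat.rec (motive := fun _ => ℕ) 0 (fun c _ => Nat.mod (Nat.shiftRight (tgSel9 c) (Nat.mul 24 (Nat.mod v 682))) 16777216) (Nat.add (Nat.div v 682) 1)

end Cfsg.Agent.Helper5.FiYKTC
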