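import Cfsg.Agent.Helper5.FiYKTCTg0
import Cfsg.Agent.Helper5.FiYKTCTg1
import Cfsg.Agent.Helper5.FiYKTCTg2
import Cfsg.Agent.Helper5.FiYKTCTg3
import Cfsg.Agent.Helper5.FiYKTCTg4
import Cfsg.Agent.Helper5.FiYKTCTg5
import Cfsg.Agent.Helper5.FiYKTCTg6
import Cfsg.Agent.Helper5.FiYKTCTg7
import Cfsg.Agent.Helper5.FiYKTCTg8
import Cfsg.Agent.Helper5.FiYKTCTg9
import Cfsg.Agent.Helper5.FiYKTCRk0
import Cfsg.Agent.Helper5.FiYKTCRk1
import Cfsg.Agent.Helper5.FiYKTCRk2
import Cfsg.Agent.Helper5.FiYKTCRk3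
import Cfsg.Agent.Helper5.FiYKTCRk4
import Cfsg.Agent.Helper5.FiYKTCRk5
import Cfsg.Agent.Helper5.FiYKTCRk6
import Cfsg.Agent.Helper5.FiYKTCRk7
import Cfsg.Agent.Helper5.FiYKTCRk8
import Cfsg.Agent.Helper5.FiYKTCRk9
import Cfsg.Agent.Helper5.FiYKTCEv0
import Cfsg.Agent.Helper5.FiYKTCDatA
import Cfsg.Agent.Helper5.FiYKTCDatB

/-! generated certificate data (D): FiYKTC -/

set_option autoImplicit false
set_option Elab.async false

namespace Cfsg.Agent.Helper5.FiYKTC
open Cfsg.Agent.Helper5.TC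

def tgF (x v : ℕ) : ℕ := (Bool.rec (motive := fun _ => ℕ) (Bool.rec (motive := fun _ => ℕ) (Bool.rec (motive := fun _ => ℕ) (tg0F v) (tg1F v) (Nat.ble 1 x)) (Bool.rec (motive := fun _ => ℕ) (tg2F v) (Bool.rec (motive := fun _ => ℕ) (tg3F v) (tg4F v) (Nat.ble 4 x)) (Nat.ble 3 x)) (Nat.ble 2 x)) (Bool.rec (motive := fun _ => ℕ) (Bool.rec (motive := fun _ => ℕ) (tg5F v) (tg6F v) (Nat.ble 6 x)) (Bool.rec (motive := fun _ => ℕ) (tg7F v) (Bool.rec (motive := fun _ => ℕ) (tg8F v) (tg9F v) (Nat.ble 9 x)) (Nat.ble 8 x)) (Nat.ble 7 x)) (Nat.ble 5 x))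
def rkF (x v : ℕ) : ℕ := (Bool.rec (motive := fun _ => ℕ) (Bool.rec (motive := fun _ => ℕ) (Bool.rec (motive := fun _ => ℕ) (rk0F v) (rk1F v) (Nat.ble 1 x)) (Bool.rec (motive := fun _ => ℕ) (rk2F v) (Bool.rec (motive := fun _ => ℕ) (rk3F v) (rk4F v) (Nat.ble 4 x)) (Nat.ble 3 x)) (Nat.ble 2 x)) (Bool.rec (motive := fun _ => ℕ) (Bool.rec (motive := fun _ => ℕ) (rk5F v) (rk6F v) (Nat.ble 6 x)) (Bool.rec (motive := fun _ => ℕ) (rk7F v) (Bool.rec (motive := fun _ => ℕ) (rk8F v) (rk9F v) (Nat.ble 9 x)) (Nat.ble 8 x)) (Nat.ble 7 x)) (Nat.ble 5 x))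
def evSel (c : ℕ) : ℕ := (evSel0 c)
def evF (v : ℕ) : ℕ := Nat.rec (motive := fun _ => ℕ) 0 (fun c _ => Nat.mod (Nat.shiftRight (evSel c) (Nat.mul 48 (Nat.mod v 341))) 281474976710656) (Nat.add (Nat.div v 341) 1)
def iota (x : ℕ) : ℕ := x
def D : Dat where
  k := 10
  tgt := tgF
  par := parF
  gen := genF
  ali := aliF
  wordP := fun wi => Nat.mod (Nat.shiftRight wtT (Nat.mul 1024 wi)) 179769313486231590772930519078902473361797697894230657273430081157732675805500963132708477322407536021120113879871393357658789768814416622492847430639474124377767893424865485276302219601246094119453082952085005768838150682342462881473913110540827237163350510684586298239947245938479716304835356329624224137216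
  wordR := fun wi => Nat.mod (Nat.shiftRight wrT (Nat.mul 1024 wi)) 179769313486231590772930519078902473361797697894230657273430081157732675805500963132708477322407536021120113879871393357658789768814416622492847430639474124377767893424865485276302219601246094119453082952085005768838150682342462881473913110540827237163350510684586298239947245938479716304835356329624224137216
  wlen := fun wi => Nat.mod (Nat.shiftRight wlT (Nat.mul 8 wi)) 256
  nrel := 58
  nw := 58
  fuel := 10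

def E : Dat2 where
  D := D
  rank := rkF
  arank := arkF
  ev := evF
  M := 469

def RS : ℕ := 0x1

end Cfsg.Agent.Helper5.FiYKTC
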