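import Cfsg.Agent.Helper5.TC2A

/-! generated certificate data (ranks of generator 3): FiYKTC -/

set_option autoImplicit false
set_option Elab.async false

namespace Cfsg.Agent.Helper5.FiYKTC
open Cfsg.Agent.Helper5.TC

def rk3_0 : ℕ := 0xffffffffffffffffffffffffffffffffffffffffffffffffffffffffffffffffffffffffffffffffffffffffffffffffffffffffffffffffffffffffffffffffffffffffffffffffffffffffffffffffffffffff0002eaffffffffffffffffffffffffffffffffffffffffffffffffffffffffffffffffffffffffffffffffffffffffffffffffffffffffffff0002c4ffffffffffffffffffffffffffffffffffffffffffffffffffffffffffffffffffffffffffffffffffffffffffffffffffffffffffffffffffffffffffffff000000ffffff000286ffffff00000000027e000278ffffffffffffffffffffffffffffffffffffffffffffffffffffffffffffffffffffffffffffffffffffffffffffffffffffffffffffffffffffffff000000000240ffffffffffffffffffffffffffffffffffffffffffffffffffffffffffffffffff000220ffffffffffffffffffffffffffffffffffffffffffffffff00020cffffffffffff000000ffffffffffff000204ffffffffffffffffffffffffffffffffffffffffffffffffffffffffffffffffffffffffffffffffffff0001e8ffffffffffffffffffffffffffffffffffffffffffffffff000000ffffffffffff0001d40001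d2ffffffffffffffffffffffffffffffffffffffffffffffffffffff0001c2ffffffffffffffffffffffffffffffffffff0001b40001b0ffffff0001aaffffffffffff0002ebffffffffffffffffffffffffffffffffffffffffffffffffffffffffffffffffffffffffffffffffffffffffffffffff00018affffffffffffffffff000188ffffffffffffffffffffffffffffffffffffffffffffffffffffff000180ffffff00017cffffff0002c5ffffffffffffffffffffffffffffff000000ffffffffffffffffffffffffffffffffffffffffffffffffffffffffffffffffffffffffffffff000287ffffffffffffffffff00000000027f000279ffffffffffffffffffffffffffffffffffffffffffffffffffffffffffff00000000014200013c000138000000000136ffffffffffffffffffffffffffffffffffffffffff000000000241ffffffffffffffffffffffffffffffffffffffffffffffff00000000010cffffffffffffffffffffffff000104ffffff000000ffffffffffffffffffffffffffffffffffffffffffffffffffffffffffff00020dffffffffffffffffff000221000000ffffffffffffffffff000000000205ffffffffffff0000e40000e2ffffffffffffffffffffffffffffffffffff0000dc0000d8ffffff000000ffffff0000d20000d0ffffffffffffffffffffffffffffffffffffffffffffffffffffffffffff0001e9000000ffffffffffff0001d5ffffffffffff0001d3ffffff0000b0ffffff0000ae000000ffffff0000acffffffffffff0001c3ff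ffffffffffffffffffffffffffff0001b50001b1ffffff0001abffffffffffffffffff00009affffffffffff000094000189ffffff00018bffffffffffffffffffffffff000000ffffff000181ffffff00017d000000000000ffffffffffffffffffffffffffffffffffffffffffffffff000000ffffff00014300013d000139ffffff000000000137ffffffffffffffffff000060ffffff00005e00005affffffffffffffffff00000000010dffffff000000000105ffffff0000000000000000e50000e3ffffffffffffffffffffffffffffff0000000000dd0000d9ffffff000000ffffffffffff0000d30000000000d100002e00002c00002affffff000028000026ffffff0000b1ffffff0000af000000ffffff0000ad000000ffffffffffff00009bffffffffffff000095000000000000000000ffffffffffff00006100000000005f00005b00000000000000000000002f00002d00002b000000000029000027000000000000000000000000000000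
def rkSel3 (c : ℕ) : ℕ := rk3_0
def rk3F (v : ℕ) : ℕ := Nat.rec (motive := fun _ => ℕ) 0 (fun c _ => Nat.mod (Nat.shiftRight (rkSel3 c) (Nat.mul 24 (Nat.mod v 682))) 16777216) (Nat.add (Nat.div v 682) 1)

end Cfsg.Agent.Helper5.FiYKTC
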