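import Cfsg.Agent.Helper5.TC2A

/-! generated certificate data (targets of generator 0): FiYKTC -/

set_option autoImplicit false
set_option Elab.async false

namespace Cfsg.Agent.Helper5.FiYKTC
open Cfsg.Agent.Helper5.TC

def tg0_0 : ℕ := 0x13900000000000000013600000000000000000000000000012a00012900012700011d00011a0000000001190000000001160001150001130000fa0000f70001660001650000000000000000000000000001640000000000e80001620000000000000000000000000000000000df00000000000000015b0000000000da0000000000000001580000000001510000000000d600014e00014c00014b00014a0000000000000000cd00014700000000000000014500014400000000014200000000000000000000014000000000013d0000000000000000000000c20000000000000000000000000000000000000000000001a10001a000019b0000000001980000000000a500000000000000009d00000000018f00000000000400018a00000000000000000000000000000000000000018800000000009200018500008f00018400018300018200000000000000017e00000000017b00017a0000000001780000000001740000000000000001720000000000000000000001b60000000000000001b30000000000000000000000000000000000000000000000000000000000000000000001ae0001ad0000000001ac0000000000000000000000000000000000000000000000000000000001ab0000000000000001aa0001a80000000000000001a60001a50000000001a400000000000000000000007d00000000000000007b00007900000000007400007100000000006f00006d00006c00006b00006a0000000000680000670000660000650000640000bd0001a300005c000059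0001a20000b80000b70000b60000ad0000ac0000000000000000000000510000000000000000000000aa0000a90001990000a700000000000000000000000000004b00000000000000019200009c00009b00009a00000000018d00000000009800009300018600004500009000000000008e00008d00008c00008a00008900017f00008700008600008500008400000000008200008100008000007f00000000016e00000000000000000000003d0000fb0000000000000000000000000000f60000f50000f40000000000000000000000000000000000000000000000000000f30000f20000000000ea0000e90000000000e700000000016000002900000000000000000000000000000000000000015d0000de0000dd0000dc0000000000d80000000000000000000000000000d700014f0000220000d400014d0000d20000d10000d00000000000cf0000ce0000000000cc0000cb0000ca0000c90000000000c70000c60000c50000c400000000010f00000000010c00000000010b0000000000000000000000000001090000000000000001080000000001060000000001050001040001030001020000000001000000ff0000fe0000fd0000fc00001b00001a00001900001700001600001500003b0000f90000120000390000f800003700003600003500003400003300002f00002e0000ee00002d00002c00002b00000000002a0000e20000280000270000260000250000230000d500002100002000001f00001e00001d0000000000000000be00000b00005d00000000005a00000000005800005700005600005500005400000000000000000000005300005200005000004f00004e00004c0000a400004a00004900004800004700000000004600009100004400004300004200004100004000000000006300006200006100000000006000005f00005e00000200000a00005b00000800000700000600000500000400000300003c00001300000000001100001000000f00000e00000d00000c000014000000000001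
def tgSel0 (c : ℕ) : ℕ := tg0_0
def tg0F (v : ℕ) : ℕ := Nat.rec (motive := fun _ => ℕ) 0 (fun c _ => Nat.mod (Nat.shiftRight (tgSel0 c) (Nat.mul 24 (Nat.mod v 682))) 16777216) (Nat.add (Nat.div v 682) 1)

end Cfsg.Agent.Helper5.FiYKTC
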