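import Cfsg.Agent.Helper5.FiYPTCDatD
import Cfsg.Agent.Helper5.FiYPTCDatT
import Cfsg.Agent.Helper5.TCIB

/-! kernel checks of the coset table: FiYPTC -/

set_option autoImplicit false
set_option Elab.async false

namespace Cfsg.Agent.Helper5.FiYPTC
open Cfsg.Agent.Helper5.TC Cfsg.Agent.Helper5.TCI

set_option maxRecDepth 1000000 in
theorem relc_45_0 : fixPtsF W_45 1 0 = true := by decide +kernel

set_option maxRecDepth 1000000 in
theorem relc_46_0 : fixPtsF W_46 1 0 = true := by decide +kernel

set_option maxRecDepth 1000000 in
theorem relc_1_0 : fixPtsF W_1 1 0 = true := by decide +kernel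

set_option maxRecDepth 1000000 in
theorem relc_8_0 : fixPtsF W_8 1 0 = true := by decide +kernel

set_option maxRecDepth 1000000 in
theorem relc_10_0 : fixPtsF W_10 1 0 = true := by decide +kernel

set_option maxRecDepth 1000000 in
theorem relc_18_0 : fixPtsF W_18 1 0 = true := by decide +kernel

set_option maxRecDepth 1000000 in
theorem relc_19_0 : fixPtsF W_19 1 0 = true := by decide +kernel

set_option maxRecDepth 1000000 in
theorem relc_27_0 : fixPtsF W_27 1 0 = true := by decide +kernel

set_option maxRecDepth 1000000 in
theorem relc_31_0 : fixPtsF W_31 1 0 = true := by decide +kernel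

set_option maxRecDepth 1000000 in
theorem relc_40_0 : fixPtsF W_40 1 0 = true := by decide +kernel

set_option maxRecDepth 1000000 in
theorem relc_2_0 : fixPtsF W_2 1 0 = true := by decide +kernel

set_option maxRecDepth 1000000 in
theorem relc_3_0 : fixPtsF W_3 1 0 = true := by decide +kernel

set_option maxRecDepth 1000000 in
theorem relc_4_0 : fixPtsF W_4 1 0 = true := by decide +kernel

set_option maxRecDepth 1000000 in
theorem relc_5_0 : fixPtsF W_5 1 0 = true := by decide +kernel

set_option maxRecDepth 1000000 in
theorem relc_6_0 : fixPtsF W_6 1 0 = true := by decide +kernel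

set_option maxRecDepth 1000000 in
theorem relc_7_0 : fixPtsF W_7 1 0 = true := by decide +kernel

set_option maxRecDepth 1000000 in
theorem relc_11_0 : fixPtsF W_11 1 0 = true := by decide +kernel

set_option maxRecDepth 1000000 in
theorem relc_12_0 : fixPtsF W_12 1 0 = true := by decide +kernel

set_option maxRecDepth 1000000 in
theorem relc_13_0 : fixPtsF W_13 1 0 = true := by decide +kernel

set_option maxRecDepth 1000000 in
theorem relc_14_0 : fixPtsF W_14 1 0 = true := by decide +kernel

set_option maxRecDepth 1000000 in
theorem relc_15_0 : fixPtsF W_15 1 0 = true := by decide +kernel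

set_option maxRecDepth 1000000 in
theorem relc_16_0 : fixPtsF W_16 1 0 = true := by decide +kernel

set_option maxRecDepth 1000000 in
theorem relc_20_0 : fixPtsF W_20 1 0 = true := by decide +kernel

set_option maxRecDepth 1000000 in
theorem relc_21_0 : fixPtsF W_21 1 0 = true := by decide +kernel

set_option maxRecDepth 1000000 in
theorem relc_22_0 : fixPtsF W_22 1 0 = true := by decide +kernel

set_option maxRecDepth 1000000 in
theorem relc_23_0 : fixPtsF W_23 1 0 = true := by decide +kernel

set_option maxRecDepth 1000000 in
theorem relc_25_0 : fixPtsF W_25 1 0 = true := by decide +kernel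

set_option maxRecDepth 1000000 in
theorem relc_26_0 : fixPtsF W_26 1 0 = true := by decide +kernel

set_option maxRecDepth 1000000 in
theorem relc_28_0 : fixPtsF W_28 1 0 = true := by decide +kernel

set_option maxRecDepth 1000000 in
theorem relc_29_0 : fixPtsF W_29 1 0 = true := by decide +kernel

set_option maxRecDepth 1000000 in
theorem relc_32_0 : fixPtsF W_32 1 0 = true := by decide +kernel

set_option maxRecDepth 1000000 in
theorem relc_33_0 : fixPtsF W_33 1 0 = true := by decide +kernel

set_option maxRecDepth 1000000 in
theorem relc_34_0 : fixPtsF W_34 1 0 = true := by decide +kernel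

set_option maxRecDepth 1000000 in
theorem relc_36_0 : fixPtsF W_36 1 0 = true := by decide +kernel

set_option maxRecDepth 1000000 in
theorem relc_37_0 : fixPtsF W_37 1 0 = true := by decide +kernel

set_option maxRecDepth 1000000 in
theorem relc_38_0 : fixPtsF W_38 1 0 = true := by decide +kernel

set_option maxRecDepth 1000000 in
theorem relc_41_0 : fixPtsF W_41 1 0 = true := by decide +kernel

set_option maxRecDepth 1000000 in
theorem relc_43_0 : fixPtsF W_43 1 0 = true := by decide +kernel

set_option maxRecDepth 1000000 in
theorem relc_47_0 : fixPtsF W_47 1 0 = true := by decide +kernel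

set_option maxRecDepth 1000000 in
theorem relc_48_0 : fixPtsF W_48 1 0 = true := by decide +kernel

set_option maxRecDepth 1000000 in
theorem relc_49_0 : fixPtsF W_49 1 0 = true := by decide +kernel

set_option maxRecDepth 1000000 in
theorem relc_50_0 : fixPtsF W_50 1 0 = true := by decide +kernel

set_option maxRecDepth 1000000 in
theorem relc_51_0 : fixPtsF W_51 1 0 = true := by decide +kernel

set_option maxRecDepth 1000000 in
theorem relc_52_0 : fixPtsF W_52 1 0 = true := by decide +kernel

set_option maxRecDepth 1000000 in
theorem relc_53_0 : fixPtsF W_53 1 0 = true := by decide +kernel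

set_option maxRecDepth 1000000 in
theorem relc_54_0 : fixPtsF W_54 1 0 = true := by decide +kernel

set_option maxRecDepth 1000000 in
theorem relc_55_0 : fixPtsF W_55 1 0 = true := by decide +kernel

set_option maxRecDepth 1000000 in
theorem relc_56_0 : fixPtsF W_56 1 0 = true := by decide +kernel

set_option maxRecDepth 1000000 in
theorem relc_57_0 : fixPtsF W_57 1 0 = true := by decide +kernel

set_option maxRecDepth 1000000 in
theorem relc_58_0 : fixPtsF W_58 1 0 = true := by decide +kernel

set_option maxRecDepth 1000000 in
theorem relc_59_0 : fixPtsF W_59 1 0 = true := by decide +kernel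

set_option maxRecDepth 1000000 in
theorem relc_60_0 : fixPtsF W_60 1 0 = true := by decide +kernel

set_option maxRecDepth 1000000 in
theorem relc_61_0 : fixPtsF W_61 1 0 = true := by decide +kernel

set_option maxRecDepth 1000000 in
theorem relc_62_0 : fixPtsF W_62 1 0 = true := by decide +kernel

set_option maxRecDepth 1000000 in
theorem relc_63_0 : fixPtsF W_63 1 0 = true := by decide +kernel

set_option maxRecDepth 1000000 in
theorem relc_64_0 : fixPtsF W_64 1 0 = true := by decide +kernel

set_option maxRecDepth 1000000 in
theorem relc_65_0 : fixPtsF W_65 1 0 = true := by decide +kernel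

set_option maxRecDepth 1000000 in
theorem relc_66_0 : fixPtsF W_66 1 0 = true := by decide +kernel

set_option maxRecDepth 1000000 in
theorem relc_67_0 : fixPtsF W_67 1 0 = true := by decide +kernel

set_option maxRecDepth 1000000 in
theorem relc_68_0 : fixPtsF W_68 1 0 = true := by decide +kernel

set_option maxRecDepth 1000000 in
theorem relc_69_0 : fixPtsF W_69 1 0 = true := by decide +kernel

set_option maxRecDepth 1000000 in
theorem relc_70_0 : fixPtsF W_70 1 0 = true := by decide +kernel

set_option maxRecDepth 1000000 in
theorem relc_71_0 : fixPtsF W_71 1 0 = true := by decide +kernel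

set_option maxRecDepth 1000000 in
theorem relc_72_0 : fixPtsF W_72 1 0 = true := by decide +kernel

set_option maxRecDepth 1000000 in
theorem relc_73_0 : fixPtsF W_73 1 0 = true := by decide +kernel

set_option maxRecDepth 1000000 in
theorem relc_74_0 : fixPtsF W_74 1 0 = true := by decide +kernel

set_option maxRecDepth 1000000 in
theorem relc_75_0 : fixPtsF W_75 1 0 = true := by decide +kernel

set_option maxRecDepth 1000000 in
theorem relc_76_0 : fixPtsF W_76 1 0 = true := by decide +kernel

set_option maxRecDepth 1000000 in
theorem relc_77_0 : fixPtsF W_77 1 0 = true := by decide +kernel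

set_option maxRecDepth 1000000 in
theorem relc_78_0 : fixPtsF W_78 1 0 = true := by decide +kernel

set_option maxRecDepth 1000000 in
theorem relc_79_0 : fixPtsF W_79 1 0 = true := by decide +kernel

set_option maxRecDepth 1000000 in
theorem relc_80_0 : fixPtsF W_80 1 0 = true := by decide +kernel

set_option maxRecDepth 1000000 in
theorem relc_81_0 : fixPtsF W_81 1 0 = true := by decide +kernel

set_option maxRecDepth 1000000 in
theorem relc_82_0 : fixPtsF W_82 1 0 = true := by decide +kernel

set_option maxRecDepth 1000000 in
theorem relc_83_0 : fixPtsF W_83 1 0 = true := by decide +kernel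

set_option maxRecDepth 1000000 in
theorem relc_84_0 : fixPtsF W_84 1 0 = true := by decide +kernel

set_option maxRecDepth 1000000 in
theorem relc_85_0 : fixPtsF W_85 1 0 = true := by decide +kernel

set_option maxRecDepth 1000000 in
theorem relc_86_0 : fixPtsF W_86 1 0 = true := by decide +kernel

set_option maxRecDepth 1000000 in
theorem relc_87_0 : fixPtsF W_87 1 0 = true := by decide +kernel

set_option maxRecDepth 1000000 in
theorem relc_88_0 : fixPtsF W_88 1 0 = true := by decide +kernel

set_option maxRecDepth 1000000 in
theorem relc_89_0 : fixPtsF W_89 1 0 = true := by decide +kernel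

set_option maxRecDepth 1000000 in
theorem relc_90_0 : fixPtsF W_90 1 0 = true := by decide +kernel

set_option maxRecDepth 1000000 in
theorem relc_91_0 : fixPtsF W_91 1 0 = true := by decide +kernel

set_option maxRecDepth 1000000 in
theorem relc_92_0 : fixPtsF W_92 1 0 = true := by decide +kernel

set_option maxRecDepth 1000000 in
theorem relc_93_0 : fixPtsF W_93 1 0 = true := by decide +kernel

set_option maxRecDepth 1000000 in
theorem relc_94_0 : fixPtsF W_94 1 0 = true := by decide +kernel

set_option maxRecDepth 1000000 in
theorem relc_95_0 : fixPtsF W_95 1 0 = true := by decide +kernel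

set_option maxRecDepth 1000000 in
theorem relc_96_0 : fixPtsF W_96 1 0 = true := by decide +kernel

set_option maxRecDepth 1000000 in
theorem relc_97_0 : fixPtsF W_97 1 0 = true := by decide +kernel

set_option maxRecDepth 1000000 in
theorem relc_98_0 : fixPtsF W_98 1 0 = true := by decide +kernel

set_option maxRecDepth 1000000 in
theorem relc_99_0 : fixPtsF W_99 1 0 = true := by decide +kernel

set_option maxRecDepth 1000000 in
theorem relc_100_0 : fixPtsF W_100 1 0 = true := by decide +kernel

set_option maxRecDepth 1000000 in
theorem relc_101_0 : fixPtsF W_101 1 0 = true := by decide +kernel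

set_option maxRecDepth 1000000 in
theorem relc_102_0 : fixPtsF W_102 1 0 = true := by decide +kernel

set_option maxRecDepth 1000000 in
theorem relc_103_0 : fixPtsF W_103 1 0 = true := by decide +kernel

set_option maxRecDepth 1000000 in
theorem relc_104_0 : fixPtsF W_104 1 0 = true := by decide +kernel

set_option maxRecDepth 1000000 in
theorem relc_105_0 : fixPtsF W_105 1 0 = true := by decide +kernel

set_option maxRecDepth 1000000 in
theorem relc_106_0 : fixPtsF W_106 1 0 = true := by decide +kernel

set_option maxRecDepth 1000000 in
theorem relc_107_0 : fixPtsF W_107 1 0 = true := by decide +kernel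

set_option maxRecDepth 1000000 in
theorem relc_108_0 : fixPtsF W_108 1 0 = true := by decide +kernel

set_option maxRecDepth 1000000 in
theorem relc_109_0 : fixPtsF W_109 1 0 = true := by decide +kernel

set_option maxRecDepth 1000000 in
theorem relc_110_0 : fixPtsF W_110 1 0 = true := by decide +kernel

set_option maxRecDepth 1000000 in
theorem relc_111_0 : fixPtsF W_111 1 0 = true := by decide +kernel

set_option maxRecDepth 1000000 in
theorem relc_112_0 : fixPtsF W_112 1 0 = true := by decide +kernel

set_option maxRecDepth 1000000 in
theorem relc_113_0 : fixPtsF W_113 1 0 = true := by decide +kernel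

set_option maxRecDepth 1000000 in
theorem relc_114_0 : fixPtsF W_114 1 0 = true := by decide +kernel

set_option maxRecDepth 1000000 in
theorem relc_115_0 : fixPtsF W_115 1 0 = true := by decide +kernel

set_option maxRecDepth 1000000 in
theorem relc_116_0 : fixPtsF W_116 1 0 = true := by decide +kernel

set_option maxRecDepth 1000000 in
theorem relc_117_0 : fixPtsF W_117 1 0 = true := by decide +kernel

set_option maxRecDepth 1000000 in
theorem relc_118_0 : fixPtsF W_118 1 0 = true := by decide +kernel

set_option maxRecDepth 1000000 in
theorem relc_119_0 : fixPtsF W_119 1 0 = true := by decide +kernel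

set_option maxRecDepth 1000000 in
theorem relc_120_0 : fixPtsF W_120 1 0 = true := by decide +kernel

set_option maxRecDepth 1000000 in
theorem relc_121_0 : fixPtsF W_121 1 0 = true := by decide +kernel

set_option maxRecDepth 1000000 in
theorem relc_122_0 : fixPtsF W_122 1 0 = true := by decide +kernel

set_option maxRecDepth 1000000 in
theorem relc_123_0 : fixPtsF W_123 1 0 = true := by decide +kernel

set_option maxRecDepth 1000000 in
theorem relc_124_0 : fixPtsF W_124 1 0 = true := by decide +kernel

set_option maxRecDepth 1000000 in
theorem relc_125_0 : fixPtsF W_125 1 0 = true := by decide +kernel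

set_option maxRecDepth 1000000 in
theorem relc_126_0 : fixPtsF W_126 1 0 = true := by decide +kernel

set_option maxRecDepth 1000000 in
theorem relc_127_0 : fixPtsF W_127 1 0 = true := by decide +kernel

set_option maxRecDepth 1000000 in
theorem relc_0_0 : fixPtsF W_0 1 0 = true := by decide +kernel

set_option maxRecDepth 1000000 in
theorem relc_9_0 : fixPtsF W_9 1 0 = true := by decide +kernel

set_option maxRecDepth 1000000 in
theorem relc_17_0 : fixPtsF W_17 1 0 = true := by decide +kernel

set_option maxRecDepth 1000000 in
theorem relc_24_0 : fixPtsF W_24 1 0 = true := by decide +kernel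

set_option maxRecDepth 1000000 in
theorem relc_30_0 : fixPtsF W_30 1 0 = true := by decide +kernel

set_option maxRecDepth 1000000 in
theorem relc_35_0 : fixPtsF W_35 1 0 = true := by decide +kernel

set_option maxRecDepth 1000000 in
theorem relc_39_0 : fixPtsF W_39 1 0 = true := by decide +kernel

set_option maxRecDepth 1000000 in
theorem relc_42_0 : fixPtsF W_42 1 0 = true := by decide +kernel

set_option maxRecDepth 1000000 in
theorem relc_44_0 : fixPtsF W_44 1 0 = true := by decide +kernel

set_option maxRecDepth 1000000 in
theorem inv_0_0 : invRowFI ctF 1 0 0 1 0 = true := by decide +kernel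

set_option maxRecDepth 1000000 in
theorem inv_1_0 : invRowFI ctF 1 1 1 1 0 = true := by decide +kernel

set_option maxRecDepth 1000000 in
theorem inv_2_0 : invRowFI ctF 1 2 2 1 0 = true := by decide +kernel

set_option maxRecDepth 1000000 in
theorem inv_3_0 : invRowFI ctF 1 3 3 1 0 = true := by decide +kernel

set_option maxRecDepth 1000000 in
theorem inv_4_0 : invRowFI ctF 1 4 4 1 0 = true := by decide +kernel

set_option maxRecDepth 1000000 in
theorem inv_5_0 : invRowFI ctF 1 5 5 1 0 = true := by decide +kernel

set_option maxRecDepth 1000000 in
theorem inv_6_0 : invRowFI ctF 1 6 6 1 0 = true := by decide +kernel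

set_option maxRecDepth 1000000 in
theorem inv_7_0 : invRowFI ctF 1 7 7 1 0 = true := by decide +kernel

set_option maxRecDepth 1000000 in
theorem inv_8_0 : invRowFI ctF 1 8 8 1 0 = true := by decide +kernel

set_option maxRecDepth 1000000 in
theorem conn_0 : connF ctF 9 1 0 = true := by decide +kernel

end Cfsg.Agent.Helper5.FiYPTC
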