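import Cfsg.Agent.Helper5.TC2A

/-! generated certificate data (events 0): FiYPTC -/

set_option autoImplicit false
set_option Elab.async false

namespace Cfsg.Agent.Helper5.FiYPTC
open Cfsg.Agent.Helper5.TC

def ev_0 : ℕ := 0x182200000024080200000004fcba0000000404dd0000000404a500000004048900000004047500000004045d0000000404410000002018a20000000405b10000003c08020000001c186e00000004054100000004041900000018187e00000004056100000034080200000014184e00000004051500000004041100000030080200000010184a00000004051100000004040d0000002c08020000000c182a0000000404e90000000404090000002808020000000818060000000404c1000000000000
def evSel0 (c : ℕ) : ℕ := ev_0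

end Cfsg.Agent.Helper5.FiYPTC
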