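import Cfsg.Agent.Helper5.TC2A

/-! generated certificate data (ranks of generator 8): FiYPTC -/

set_option autoImplicit false
set_option Elab.async false

namespace Cfsg.Agent.Helper5.FiYPTC
open Cfsg.Agent.Helper5.TC

def rk8_0 : ℕ := 0xffffffffffffffffffffffffffffffffffffffffff000000ffffffffffffffffffffffffffffffffffffffffff000000000000
def rkSel8 (c : ℕ) : ℕ := rk8_0
def rk8F (v : ℕ) : ℕ := Nat.rec (motive := fun _ => ℕ) 0 (fun c _ => Nat.mod (Nat.shiftRight (rkSel8 c) (Nat.mul 24 (Nat.mod v 682))) 16777216) (Nat.add (Nat.div v 682) 1)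

end Cfsg.Agent.Helper5.FiYPTC
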