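import Cfsg.Agent.Helper5.FiYPTCChkE0
import Cfsg.Agent.Helper5.FiYPTCChkR0
import Cfsg.Agent.Helper5.FiYPTCChkA
import Cfsg.Agent.Helper5.TCIB

/-! summary of the kernel checks: FiYPTC -/

set_option autoImplicit false
set_option Elab.async false

namespace Cfsg.Agent.Helper5.FiYPTC
open Cfsg.Agent.Helper5.TC Cfsg.Agent.Helper5.TCI

theorem edgesx_0 : ∀ v, v < 18 → edgeOKI iota E 0 v = true := by
  intro v hv
  exact edgesRangeI_spec iota E 0 18 0 edges_0_0 v (by omega) (by omega)

theorem edgesx_1 : ∀ v, v < 18 → edgeOKI iota E 1 v = true := by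
  intro v hv
  exact edgesRangeI_spec iota E 1 18 0 edges_1_0 v (by omega) (by omega)

theorem edgesx_2 : ∀ v, v < 18 → edgeOKI iota E 2 v = true := by
  intro v hv
  exact edgesRangeI_spec iota E 2 18 0 edges_2_0 v (by omega) (by omega)

theorem edgesx_3 : ∀ v, v < 18 → edgeOKI iota E 3 v = true := by
  intro v hv
  exact edgesRangeI_spec iota E 3 18 0 edges_3_0 v (by omega) (by omega)

theorem edgesx_4 : ∀ v, v < 18 → edgeOKI iota E 4 v = true := by
  intro v hv
  exact edgesRangeI_spec iota E 4 18 0 edges_4_0 v (by omega) (by omega)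

theorem edgesx_5 : ∀ v, v < 18 → edgeOKI iota E 5 v = true := by
  intro v hv
  exact edgesRangeI_spec iota E 5 18 0 edges_5_0 v (by omega) (by omega)

theorem edgesx_6 : ∀ v, v < 18 → edgeOKI iota E 6 v = true := by
  intro v hv
  exact edgesRangeI_spec iota E 6 18 0 edges_6_0 v (by omega) (by omega)

theorem edgesx_7 : ∀ v, v < 18 → edgeOKI iota E 7 v = true := by
  intro v hv
  exact edgesRangeI_spec iota E 7 18 0 edges_7_0 v (by omega) (by omega)

theorem edgesx_8 : ∀ v, v < 18 → edgeOKI iota E 8 v = true := by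
  intro v hv
  exact edgesRangeI_spec iota E 8 18 0 edges_8_0 v (by omega) (by omega)

theorem hA0 : ∀ v, v < 18 → aliasOK E v = true := by
  intro v hv
  exact aliasRange_spec E 18 0 aliases_0 v (by omega) (by omega)

theorem hrows0 : ∀ v, v < 18 → tb RS v = true → rowOK2 E RS v E.D.k = true := by
  intro v hv
  exact rowsRange_spec E RS 18 0 rows_0 v (by omega) (by omega)

theorem cb_0 : cntBits RS 0 = 0 := rfl

theorem cb_1 : cntBits RS 18 = 1 := by
  have h := cntBits_step RS 0 18
  rw [cb_0, cnt_0] at h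
  exact h

theorem set_ok : setOK 18 1 RS = true :=
  setOK_of_parts cb_1 set_zero set_lt

theorem relf_0 : ∀ v, v < 1 → W_0 v = v := by
  intro v hv
  exact fixPtsF_spec W_0 1 0 relc_0_0 v (by omega) (by omega)

set_option maxRecDepth 1000000 in
theorem walk_0 : ∀ v, walkT ctF (D.wlen 0) (D.wordP 0) v = W_0 v := by
  intro v
  simp only [W_0, forceL_eq]
  rfl

theorem relw_0 : ∀ v, v < 1 → walkT ctF (D.wlen 0) (D.wordP 0) v = v := by
  intro v hv
  rw [walk_0]
  exact relf_0 v hv

theorem relf_1 : ∀ v, v < 1 → W_1 v = v := by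
  intro v hv
  exact fixPtsF_spec W_1 1 0 relc_1_0 v (by omega) (by omega)

set_option maxRecDepth 1000000 in
theorem walk_1 : ∀ v, walkT ctF (D.wlen 1) (D.wordP 1) v = W_1 v := by
  intro v
  simp only [W_1, forceL_eq]
  rfl

theorem relw_1 : ∀ v, v < 1 → walkT ctF (D.wlen 1) (D.wordP 1) v = v := by
  intro v hv
  rw [walk_1]
  exact relf_1 v hv

theorem relf_2 : ∀ v, v < 1 → W_2 v = v := by
  intro v hv
  exact fixPtsF_spec W_2 1 0 relc_2_0 v (by omega) (by omega)

set_option maxRecDepth 1000000 in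
theorem walk_2 : ∀ v, walkT ctF (D.wlen 2) (D.wordP 2) v = W_2 v := by
  intro v
  simp only [W_2, forceL_eq]
  rfl

theorem relw_2 : ∀ v, v < 1 → walkT ctF (D.wlen 2) (D.wordP 2) v = v := by
  intro v hv
  rw [walk_2]
  exact relf_2 v hv

theorem relf_3 : ∀ v, v < 1 → W_3 v = v := by
  intro v hv
  exact fixPtsF_spec W_3 1 0 relc_3_0 v (by omega) (by omega)

set_option maxRecDepth 1000000 in
theorem walk_3 : ∀ v, walkT ctF (D.wlen 3) (D.wordP 3) v = W_3 v := by
  intro v
  simp only [W_3, forceL_eq]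
  rfl

theorem relw_3 : ∀ v, v < 1 → walkT ctF (D.wlen 3) (D.wordP 3) v = v := by
  intro v hv
  rw [walk_3]
  exact relf_3 v hv

theorem relf_4 : ∀ v, v < 1 → W_4 v = v := by
  intro v hv
  exact fixPtsF_spec W_4 1 0 relc_4_0 v (by omega) (by omega)

set_option maxRecDepth 1000000 in
theorem walk_4 : ∀ v, walkT ctF (D.wlen 4) (D.wordP 4) v = W_4 v := by
  intro v
  simp only [W_4, forceL_eq]
  rfl

theorem relw_4 : ∀ v, v < 1 → walkT ctF (D.wlen 4) (D.wordP 4) v = v := by
  intro v hv
  rw [walk_4]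
  exact relf_4 v hv

theorem relf_5 : ∀ v, v < 1 → W_5 v = v := by
  intro v hv
  exact fixPtsF_spec W_5 1 0 relc_5_0 v (by omega) (by omega)

set_option maxRecDepth 1000000 in
theorem walk_5 : ∀ v, walkT ctF (D.wlen 5) (D.wordP 5) v = W_5 v := by
  intro v
  simp only [W_5, forceL_eq]
  rfl

theorem relw_5 : ∀ v, v < 1 → walkT ctF (D.wlen 5) (D.wordP 5) v = v := by
  intro v hv
  rw [walk_5]
  exact relf_5 v hv

theorem relf_6 : ∀ v, v < 1 → W_6 v = v := by
  intro v hv
  exact fixPtsF_spec W_6 1 0 relc_6_0 v (by omega) (by omega)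

set_option maxRecDepth 1000000 in
theorem walk_6 : ∀ v, walkT ctF (D.wlen 6) (D.wordP 6) v = W_6 v := by
  intro v
  simp only [W_6, forceL_eq]
  rfl

theorem relw_6 : ∀ v, v < 1 → walkT ctF (D.wlen 6) (D.wordP 6) v = v := by
  intro v hv
  rw [walk_6]
  exact relf_6 v hv

theorem relf_7 : ∀ v, v < 1 → W_7 v = v := by
  intro v hv
  exact fixPtsF_spec W_7 1 0 relc_7_0 v (by omega) (by omega)

set_option maxRecDepth 1000000 in
theorem walk_7 : ∀ v, walkT ctF (D.wlen 7) (D.wordP 7) v = W_7 v := by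
  intro v
  simp only [W_7, forceL_eq]
  rfl

theorem relw_7 : ∀ v, v < 1 → walkT ctF (D.wlen 7) (D.wordP 7) v = v := by
  intro v hv
  rw [walk_7]
  exact relf_7 v hv

theorem relf_8 : ∀ v, v < 1 → W_8 v = v := by
  intro v hv
  exact fixPtsF_spec W_8 1 0 relc_8_0 v (by omega) (by omega)

set_option maxRecDepth 1000000 in
theorem walk_8 : ∀ v, walkT ctF (D.wlen 8) (D.wordP 8) v = W_8 v := by
  intro v
  simp only [W_8, forceL_eq]
  rfl

theorem relw_8 : ∀ v, v < 1 → walkT ctF (D.wlen 8) (D.wordP 8) v = v := by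
  intro v hv
  rw [walk_8]
  exact relf_8 v hv

theorem relf_9 : ∀ v, v < 1 → W_9 v = v := by
  intro v hv
  exact fixPtsF_spec W_9 1 0 relc_9_0 v (by omega) (by omega)

set_option maxRecDepth 1000000 in
theorem walk_9 : ∀ v, walkT ctF (D.wlen 9) (D.wordP 9) v = W_9 v := by
  intro v
  simp only [W_9, forceL_eq]
  rfl

theorem relw_9 : ∀ v, v < 1 → walkT ctF (D.wlen 9) (D.wordP 9) v = v := by
  intro v hv
  rw [walk_9]
  exact relf_9 v hv

theorem relf_10 : ∀ v, v < 1 → W_10 v = v := by
  intro v hv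
  exact fixPtsF_spec W_10 1 0 relc_10_0 v (by omega) (by omega)

set_option maxRecDepth 1000000 in
theorem walk_10 : ∀ v, walkT ctF (D.wlen 10) (D.wordP 10) v = W_10 v := by
  intro v
  simp only [W_10, forceL_eq]
  rfl

theorem relw_10 : ∀ v, v < 1 → walkT ctF (D.wlen 10) (D.wordP 10) v = v := by
  intro v hv
  rw [walk_10]
  exact relf_10 v hv

theorem relf_11 : ∀ v, v < 1 → W_11 v = v := by
  intro v hv
  exact fixPtsF_spec W_11 1 0 relc_11_0 v (by omega) (by omega)

set_option maxRecDepth 1000000 in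
theorem walk_11 : ∀ v, walkT ctF (D.wlen 11) (D.wordP 11) v = W_11 v := by
  intro v
  simp only [W_11, forceL_eq]
  rfl

theorem relw_11 : ∀ v, v < 1 → walkT ctF (D.wlen 11) (D.wordP 11) v = v := by
  intro v hv
  rw [walk_11]
  exact relf_11 v hv

theorem relf_12 : ∀ v, v < 1 → W_12 v = v := by
  intro v hv
  exact fixPtsF_spec W_12 1 0 relc_12_0 v (by omega) (by omega)

set_option maxRecDepth 1000000 in
theorem walk_12 : ∀ v, walkT ctF (D.wlen 12) (D.wordP 12) v = W_12 v := by
  intro v
  simp only [W_12, forceL_eq]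
  rfl

theorem relw_12 : ∀ v, v < 1 → walkT ctF (D.wlen 12) (D.wordP 12) v = v := by
  intro v hv
  rw [walk_12]
  exact relf_12 v hv

theorem relf_13 : ∀ v, v < 1 → W_13 v = v := by
  intro v hv
  exact fixPtsF_spec W_13 1 0 relc_13_0 v (by omega) (by omega)

set_option maxRecDepth 1000000 in
theorem walk_13 : ∀ v, walkT ctF (D.wlen 13) (D.wordP 13) v = W_13 v := by
  intro v
  simp only [W_13, forceL_eq]
  rfl

theorem relw_13 : ∀ v, v < 1 → walkT ctF (D.wlen 13) (D.wordP 13) v = v := by
  intro v hv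
  rw [walk_13]
  exact relf_13 v hv

theorem relf_14 : ∀ v, v < 1 → W_14 v = v := by
  intro v hv
  exact fixPtsF_spec W_14 1 0 relc_14_0 v (by omega) (by omega)

set_option maxRecDepth 1000000 in
theorem walk_14 : ∀ v, walkT ctF (D.wlen 14) (D.wordP 14) v = W_14 v := by
  intro v
  simp only [W_14, forceL_eq]
  rfl

theorem relw_14 : ∀ v, v < 1 → walkT ctF (D.wlen 14) (D.wordP 14) v = v := by
  intro v hv
  rw [walk_14]
  exact relf_14 v hv

theorem relf_15 : ∀ v, v < 1 → W_15 v = v := by
  intro v hv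
  exact fixPtsF_spec W_15 1 0 relc_15_0 v (by omega) (by omega)

set_option maxRecDepth 1000000 in
theorem walk_15 : ∀ v, walkT ctF (D.wlen 15) (D.wordP 15) v = W_15 v := by
  intro v
  simp only [W_15, forceL_eq]
  rfl

theorem relw_15 : ∀ v, v < 1 → walkT ctF (D.wlen 15) (D.wordP 15) v = v := by
  intro v hv
  rw [walk_15]
  exact relf_15 v hv

theorem relf_16 : ∀ v, v < 1 → W_16 v = v := by
  intro v hv
  exact fixPtsF_spec W_16 1 0 relc_16_0 v (by omega) (by omega)

set_option maxRecDepth 1000000 in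
theorem walk_16 : ∀ v, walkT ctF (D.wlen 16) (D.wordP 16) v = W_16 v := by
  intro v
  simp only [W_16, forceL_eq]
  rfl

theorem relw_16 : ∀ v, v < 1 → walkT ctF (D.wlen 16) (D.wordP 16) v = v := by
  intro v hv
  rw [walk_16]
  exact relf_16 v hv

theorem relf_17 : ∀ v, v < 1 → W_17 v = v := by
  intro v hv
  exact fixPtsF_spec W_17 1 0 relc_17_0 v (by omega) (by omega)

set_option maxRecDepth 1000000 in
theorem walk_17 : ∀ v, walkT ctF (D.wlen 17) (D.wordP 17) v = W_17 v := by
  intro v
  simp only [W_17, forceL_eq]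
  rfl

theorem relw_17 : ∀ v, v < 1 → walkT ctF (D.wlen 17) (D.wordP 17) v = v := by
  intro v hv
  rw [walk_17]
  exact relf_17 v hv

theorem relf_18 : ∀ v, v < 1 → W_18 v = v := by
  intro v hv
  exact fixPtsF_spec W_18 1 0 relc_18_0 v (by omega) (by omega)

set_option maxRecDepth 1000000 in
theorem walk_18 : ∀ v, walkT ctF (D.wlen 18) (D.wordP 18) v = W_18 v := by
  intro v
  simp only [W_18, forceL_eq]
  rfl

theorem relw_18 : ∀ v, v < 1 → walkT ctF (D.wlen 18) (D.wordP 18) v = v := by
  intro v hv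
  rw [walk_18]
  exact relf_18 v hv

theorem relf_19 : ∀ v, v < 1 → W_19 v = v := by
  intro v hv
  exact fixPtsF_spec W_19 1 0 relc_19_0 v (by omega) (by omega)

set_option maxRecDepth 1000000 in
theorem walk_19 : ∀ v, walkT ctF (D.wlen 19) (D.wordP 19) v = W_19 v := by
  intro v
  simp only [W_19, forceL_eq]
  rfl

theorem relw_19 : ∀ v, v < 1 → walkT ctF (D.wlen 19) (D.wordP 19) v = v := by
  intro v hv
  rw [walk_19]
  exact relf_19 v hv

theorem relf_20 : ∀ v, v < 1 → W_20 v = v := by
  intro v hv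
  exact fixPtsF_spec W_20 1 0 relc_20_0 v (by omega) (by omega)

set_option maxRecDepth 1000000 in
theorem walk_20 : ∀ v, walkT ctF (D.wlen 20) (D.wordP 20) v = W_20 v := by
  intro v
  simp only [W_20, forceL_eq]
  rfl

theorem relw_20 : ∀ v, v < 1 → walkT ctF (D.wlen 20) (D.wordP 20) v = v := by
  intro v hv
  rw [walk_20]
  exact relf_20 v hv

theorem relf_21 : ∀ v, v < 1 → W_21 v = v := by
  intro v hv
  exact fixPtsF_spec W_21 1 0 relc_21_0 v (by omega) (by omega)

set_option maxRecDepth 1000000 in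
theorem walk_21 : ∀ v, walkT ctF (D.wlen 21) (D.wordP 21) v = W_21 v := by
  intro v
  simp only [W_21, forceL_eq]
  rfl

theorem relw_21 : ∀ v, v < 1 → walkT ctF (D.wlen 21) (D.wordP 21) v = v := by
  intro v hv
  rw [walk_21]
  exact relf_21 v hv

theorem relf_22 : ∀ v, v < 1 → W_22 v = v := by
  intro v hv
  exact fixPtsF_spec W_22 1 0 relc_22_0 v (by omega) (by omega)

set_option maxRecDepth 1000000 in
theorem walk_22 : ∀ v, walkT ctF (D.wlen 22) (D.wordP 22) v = W_22 v := by
  intro v
  simp only [W_22, forceL_eq]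
  rfl

theorem relw_22 : ∀ v, v < 1 → walkT ctF (D.wlen 22) (D.wordP 22) v = v := by
  intro v hv
  rw [walk_22]
  exact relf_22 v hv

theorem relf_23 : ∀ v, v < 1 → W_23 v = v := by
  intro v hv
  exact fixPtsF_spec W_23 1 0 relc_23_0 v (by omega) (by omega)

set_option maxRecDepth 1000000 in
theorem walk_23 : ∀ v, walkT ctF (D.wlen 23) (D.wordP 23) v = W_23 v := by
  intro v
  simp only [W_23, forceL_eq]
  rfl

theorem relw_23 : ∀ v, v < 1 → walkT ctF (D.wlen 23) (D.wordP 23) v = v := by
  intro v hv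
  rw [walk_23]
  exact relf_23 v hv

theorem relf_24 : ∀ v, v < 1 → W_24 v = v := by
  intro v hv
  exact fixPtsF_spec W_24 1 0 relc_24_0 v (by omega) (by omega)

set_option maxRecDepth 1000000 in
theorem walk_24 : ∀ v, walkT ctF (D.wlen 24) (D.wordP 24) v = W_24 v := by
  intro v
  simp only [W_24, forceL_eq]
  rfl

theorem relw_24 : ∀ v, v < 1 → walkT ctF (D.wlen 24) (D.wordP 24) v = v := by
  intro v hv
  rw [walk_24]
  exact relf_24 v hv

theorem relf_25 : ∀ v, v < 1 → W_25 v = v := by
  intro v hv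
  exact fixPtsF_spec W_25 1 0 relc_25_0 v (by omega) (by omega)

set_option maxRecDepth 1000000 in
theorem walk_25 : ∀ v, walkT ctF (D.wlen 25) (D.wordP 25) v = W_25 v := by
  intro v
  simp only [W_25, forceL_eq]
  rfl

theorem relw_25 : ∀ v, v < 1 → walkT ctF (D.wlen 25) (D.wordP 25) v = v := by
  intro v hv
  rw [walk_25]
  exact relf_25 v hv

theorem relf_26 : ∀ v, v < 1 → W_26 v = v := by
  intro v hv
  exact fixPtsF_spec W_26 1 0 relc_26_0 v (by omega) (by omega)

set_option maxRecDepth 1000000 in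
theorem walk_26 : ∀ v, walkT ctF (D.wlen 26) (D.wordP 26) v = W_26 v := by
  intro v
  simp only [W_26, forceL_eq]
  rfl

theorem relw_26 : ∀ v, v < 1 → walkT ctF (D.wlen 26) (D.wordP 26) v = v := by
  intro v hv
  rw [walk_26]
  exact relf_26 v hv

theorem relf_27 : ∀ v, v < 1 → W_27 v = v := by
  intro v hv
  exact fixPtsF_spec W_27 1 0 relc_27_0 v (by omega) (by omega)

set_option maxRecDepth 1000000 in
theorem walk_27 : ∀ v, walkT ctF (D.wlen 27) (D.wordP 27) v = W_27 v := by
  intro v
  simp only [W_27, forceL_eq]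
  rfl

theorem relw_27 : ∀ v, v < 1 → walkT ctF (D.wlen 27) (D.wordP 27) v = v := by
  intro v hv
  rw [walk_27]
  exact relf_27 v hv

theorem relf_28 : ∀ v, v < 1 → W_28 v = v := by
  intro v hv
  exact fixPtsF_spec W_28 1 0 relc_28_0 v (by omega) (by omega)

set_option maxRecDepth 1000000 in
theorem walk_28 : ∀ v, walkT ctF (D.wlen 28) (D.wordP 28) v = W_28 v := by
  intro v
  simp only [W_28, forceL_eq]
  rfl

theorem relw_28 : ∀ v, v < 1 → walkT ctF (D.wlen 28) (D.wordP 28) v = v := by
  intro v hv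
  rw [walk_28]
  exact relf_28 v hv

theorem relf_29 : ∀ v, v < 1 → W_29 v = v := by
  intro v hv
  exact fixPtsF_spec W_29 1 0 relc_29_0 v (by omega) (by omega)

set_option maxRecDepth 1000000 in
theorem walk_29 : ∀ v, walkT ctF (D.wlen 29) (D.wordP 29) v = W_29 v := by
  intro v
  simp only [W_29, forceL_eq]
  rfl

theorem relw_29 : ∀ v, v < 1 → walkT ctF (D.wlen 29) (D.wordP 29) v = v := by
  intro v hv
  rw [walk_29]
  exact relf_29 v hv

theorem relf_30 : ∀ v, v < 1 → W_30 v = v := by
  intro v hv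
  exact fixPtsF_spec W_30 1 0 relc_30_0 v (by omega) (by omega)

set_option maxRecDepth 1000000 in
theorem walk_30 : ∀ v, walkT ctF (D.wlen 30) (D.wordP 30) v = W_30 v := by
  intro v
  simp only [W_30, forceL_eq]
  rfl

theorem relw_30 : ∀ v, v < 1 → walkT ctF (D.wlen 30) (D.wordP 30) v = v := by
  intro v hv
  rw [walk_30]
  exact relf_30 v hv

theorem relf_31 : ∀ v, v < 1 → W_31 v = v := by
  intro v hv
  exact fixPtsF_spec W_31 1 0 relc_31_0 v (by omega) (by omega)

set_option maxRecDepth 1000000 in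
theorem walk_31 : ∀ v, walkT ctF (D.wlen 31) (D.wordP 31) v = W_31 v := by
  intro v
  simp only [W_31, forceL_eq]
  rfl

theorem relw_31 : ∀ v, v < 1 → walkT ctF (D.wlen 31) (D.wordP 31) v = v := by
  intro v hv
  rw [walk_31]
  exact relf_31 v hv

theorem relf_32 : ∀ v, v < 1 → W_32 v = v := by
  intro v hv
  exact fixPtsF_spec W_32 1 0 relc_32_0 v (by omega) (by omega)

set_option maxRecDepth 1000000 in
theorem walk_32 : ∀ v, walkT ctF (D.wlen 32) (D.wordP 32) v = W_32 v := by
  intro v
  simp only [W_32, forceL_eq]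
  rfl

theorem relw_32 : ∀ v, v < 1 → walkT ctF (D.wlen 32) (D.wordP 32) v = v := by
  intro v hv
  rw [walk_32]
  exact relf_32 v hv

theorem relf_33 : ∀ v, v < 1 → W_33 v = v := by
  intro v hv
  exact fixPtsF_spec W_33 1 0 relc_33_0 v (by omega) (by omega)

set_option maxRecDepth 1000000 in
theorem walk_33 : ∀ v, walkT ctF (D.wlen 33) (D.wordP 33) v = W_33 v := by
  intro v
  simp only [W_33, forceL_eq]
  rfl

theorem relw_33 : ∀ v, v < 1 → walkT ctF (D.wlen 33) (D.wordP 33) v = v := by
  intro v hv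
  rw [walk_33]
  exact relf_33 v hv

theorem relf_34 : ∀ v, v < 1 → W_34 v = v := by
  intro v hv
  exact fixPtsF_spec W_34 1 0 relc_34_0 v (by omega) (by omega)

set_option maxRecDepth 1000000 in
theorem walk_34 : ∀ v, walkT ctF (D.wlen 34) (D.wordP 34) v = W_34 v := by
  intro v
  simp only [W_34, forceL_eq]
  rfl

theorem relw_34 : ∀ v, v < 1 → walkT ctF (D.wlen 34) (D.wordP 34) v = v := by
  intro v hv
  rw [walk_34]
  exact relf_34 v hv

theorem relf_35 : ∀ v, v < 1 → W_35 v = v := by
  intro v hv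
  exact fixPtsF_spec W_35 1 0 relc_35_0 v (by omega) (by omega)

set_option maxRecDepth 1000000 in
theorem walk_35 : ∀ v, walkT ctF (D.wlen 35) (D.wordP 35) v = W_35 v := by
  intro v
  simp only [W_35, forceL_eq]
  rfl

theorem relw_35 : ∀ v, v < 1 → walkT ctF (D.wlen 35) (D.wordP 35) v = v := by
  intro v hv
  rw [walk_35]
  exact relf_35 v hv

theorem relf_36 : ∀ v, v < 1 → W_36 v = v := by
  intro v hv
  exact fixPtsF_spec W_36 1 0 relc_36_0 v (by omega) (by omega)

set_option maxRecDepth 1000000 in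
theorem walk_36 : ∀ v, walkT ctF (D.wlen 36) (D.wordP 36) v = W_36 v := by
  intro v
  simp only [W_36, forceL_eq]
  rfl

theorem relw_36 : ∀ v, v < 1 → walkT ctF (D.wlen 36) (D.wordP 36) v = v := by
  intro v hv
  rw [walk_36]
  exact relf_36 v hv

theorem relf_37 : ∀ v, v < 1 → W_37 v = v := by
  intro v hv
  exact fixPtsF_spec W_37 1 0 relc_37_0 v (by omega) (by omega)

set_option maxRecDepth 1000000 in
theorem walk_37 : ∀ v, walkT ctF (D.wlen 37) (D.wordP 37) v = W_37 v := by
  intro v
  simp only [W_37, forceL_eq]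
  rfl

theorem relw_37 : ∀ v, v < 1 → walkT ctF (D.wlen 37) (D.wordP 37) v = v := by
  intro v hv
  rw [walk_37]
  exact relf_37 v hv

theorem relf_38 : ∀ v, v < 1 → W_38 v = v := by
  intro v hv
  exact fixPtsF_spec W_38 1 0 relc_38_0 v (by omega) (by omega)

set_option maxRecDepth 1000000 in
theorem walk_38 : ∀ v, walkT ctF (D.wlen 38) (D.wordP 38) v = W_38 v := by
  intro v
  simp only [W_38, forceL_eq]
  rfl

theorem relw_38 : ∀ v, v < 1 → walkT ctF (D.wlen 38) (D.wordP 38) v = v := by
  intro v hv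
  rw [walk_38]
  exact relf_38 v hv

theorem relf_39 : ∀ v, v < 1 → W_39 v = v := by
  intro v hv
  exact fixPtsF_spec W_39 1 0 relc_39_0 v (by omega) (by omega)

set_option maxRecDepth 1000000 in
theorem walk_39 : ∀ v, walkT ctF (D.wlen 39) (D.wordP 39) v = W_39 v := by
  intro v
  simp only [W_39, forceL_eq]
  rfl

theorem relw_39 : ∀ v, v < 1 → walkT ctF (D.wlen 39) (D.wordP 39) v = v := by
  intro v hv
  rw [walk_39]
  exact relf_39 v hv

theorem relf_40 : ∀ v, v < 1 → W_40 v = v := by
  intro v hv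
  exact fixPtsF_spec W_40 1 0 relc_40_0 v (by omega) (by omega)

set_option maxRecDepth 1000000 in
theorem walk_40 : ∀ v, walkT ctF (D.wlen 40) (D.wordP 40) v = W_40 v := by
  intro v
  simp only [W_40, forceL_eq]
  rfl

theorem relw_40 : ∀ v, v < 1 → walkT ctF (D.wlen 40) (D.wordP 40) v = v := by
  intro v hv
  rw [walk_40]
  exact relf_40 v hv

theorem relf_41 : ∀ v, v < 1 → W_41 v = v := by
  intro v hv
  exact fixPtsF_spec W_41 1 0 relc_41_0 v (by omega) (by omega)

set_option maxRecDepth 1000000 in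
theorem walk_41 : ∀ v, walkT ctF (D.wlen 41) (D.wordP 41) v = W_41 v := by
  intro v
  simp only [W_41, forceL_eq]
  rfl

theorem relw_41 : ∀ v, v < 1 → walkT ctF (D.wlen 41) (D.wordP 41) v = v := by
  intro v hv
  rw [walk_41]
  exact relf_41 v hv

theorem relf_42 : ∀ v, v < 1 → W_42 v = v := by
  intro v hv
  exact fixPtsF_spec W_42 1 0 relc_42_0 v (by omega) (by omega)

set_option maxRecDepth 1000000 in
theorem walk_42 : ∀ v, walkT ctF (D.wlen 42) (D.wordP 42) v = W_42 v := by
  intro v
  simp only [W_42, forceL_eq]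
  rfl

theorem relw_42 : ∀ v, v < 1 → walkT ctF (D.wlen 42) (D.wordP 42) v = v := by
  intro v hv
  rw [walk_42]
  exact relf_42 v hv

theorem relf_43 : ∀ v, v < 1 → W_43 v = v := by
  intro v hv
  exact fixPtsF_spec W_43 1 0 relc_43_0 v (by omega) (by omega)

set_option maxRecDepth 1000000 in
theorem walk_43 : ∀ v, walkT ctF (D.wlen 43) (D.wordP 43) v = W_43 v := by
  intro v
  simp only [W_43, forceL_eq]
  rfl

theorem relw_43 : ∀ v, v < 1 → walkT ctF (D.wlen 43) (D.wordP 43) v = v := by
  intro v hv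
  rw [walk_43]
  exact relf_43 v hv

theorem relf_44 : ∀ v, v < 1 → W_44 v = v := by
  intro v hv
  exact fixPtsF_spec W_44 1 0 relc_44_0 v (by omega) (by omega)

set_option maxRecDepth 1000000 in
theorem walk_44 : ∀ v, walkT ctF (D.wlen 44) (D.wordP 44) v = W_44 v := by
  intro v
  simp only [W_44, forceL_eq]
  rfl

theorem relw_44 : ∀ v, v < 1 → walkT ctF (D.wlen 44) (D.wordP 44) v = v := by
  intro v hv
  rw [walk_44]
  exact relf_44 v hv

theorem relf_45 : ∀ v, v < 1 → W_45 v = v := by
  intro v hv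
  exact fixPtsF_spec W_45 1 0 relc_45_0 v (by omega) (by omega)

set_option maxRecDepth 1000000 in
theorem walk_45 : ∀ v, walkT ctF (D.wlen 45) (D.wordP 45) v = W_45 v := by
  intro v
  simp only [W_45, forceL_eq]
  rfl

theorem relw_45 : ∀ v, v < 1 → walkT ctF (D.wlen 45) (D.wordP 45) v = v := by
  intro v hv
  rw [walk_45]
  exact relf_45 v hv

theorem relf_46 : ∀ v, v < 1 → W_46 v = v := by
  intro v hv
  exact fixPtsF_spec W_46 1 0 relc_46_0 v (by omega) (by omega)

set_option maxRecDepth 1000000 in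
theorem walk_46 : ∀ v, walkT ctF (D.wlen 46) (D.wordP 46) v = W_46 v := by
  intro v
  simp only [W_46, forceL_eq]
  rfl

theorem relw_46 : ∀ v, v < 1 → walkT ctF (D.wlen 46) (D.wordP 46) v = v := by
  intro v hv
  rw [walk_46]
  exact relf_46 v hv

theorem relf_47 : ∀ v, v < 1 → W_47 v = v := by
  intro v hv
  exact fixPtsF_spec W_47 1 0 relc_47_0 v (by omega) (by omega)

set_option maxRecDepth 1000000 in
theorem walk_47 : ∀ v, walkT ctF (D.wlen 47) (D.wordP 47) v = W_47 v := by
  intro v
  simp only [W_47, forceL_eq]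
  rfl

theorem relw_47 : ∀ v, v < 1 → walkT ctF (D.wlen 47) (D.wordP 47) v = v := by
  intro v hv
  rw [walk_47]
  exact relf_47 v hv

theorem relf_48 : ∀ v, v < 1 → W_48 v = v := by
  intro v hv
  exact fixPtsF_spec W_48 1 0 relc_48_0 v (by omega) (by omega)

set_option maxRecDepth 1000000 in
theorem walk_48 : ∀ v, walkT ctF (D.wlen 48) (D.wordP 48) v = W_48 v := by
  intro v
  simp only [W_48, forceL_eq]
  rfl

theorem relw_48 : ∀ v, v < 1 → walkT ctF (D.wlen 48) (D.wordP 48) v = v := by
  intro v hv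
  rw [walk_48]
  exact relf_48 v hv

theorem relf_49 : ∀ v, v < 1 → W_49 v = v := by
  intro v hv
  exact fixPtsF_spec W_49 1 0 relc_49_0 v (by omega) (by omega)

set_option maxRecDepth 1000000 in
theorem walk_49 : ∀ v, walkT ctF (D.wlen 49) (D.wordP 49) v = W_49 v := by
  intro v
  simp only [W_49, forceL_eq]
  rfl

theorem relw_49 : ∀ v, v < 1 → walkT ctF (D.wlen 49) (D.wordP 49) v = v := by
  intro v hv
  rw [walk_49]
  exact relf_49 v hv

theorem relf_50 : ∀ v, v < 1 → W_50 v = v := by
  intro v hv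
  exact fixPtsF_spec W_50 1 0 relc_50_0 v (by omega) (by omega)

set_option maxRecDepth 1000000 in
theorem walk_50 : ∀ v, walkT ctF (D.wlen 50) (D.wordP 50) v = W_50 v := by
  intro v
  simp only [W_50, forceL_eq]
  rfl

theorem relw_50 : ∀ v, v < 1 → walkT ctF (D.wlen 50) (D.wordP 50) v = v := by
  intro v hv
  rw [walk_50]
  exact relf_50 v hv

theorem relf_51 : ∀ v, v < 1 → W_51 v = v := by
  intro v hv
  exact fixPtsF_spec W_51 1 0 relc_51_0 v (by omega) (by omega)

set_option maxRecDepth 1000000 in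
theorem walk_51 : ∀ v, walkT ctF (D.wlen 51) (D.wordP 51) v = W_51 v := by
  intro v
  simp only [W_51, forceL_eq]
  rfl

theorem relw_51 : ∀ v, v < 1 → walkT ctF (D.wlen 51) (D.wordP 51) v = v := by
  intro v hv
  rw [walk_51]
  exact relf_51 v hv

theorem relf_52 : ∀ v, v < 1 → W_52 v = v := by
  intro v hv
  exact fixPtsF_spec W_52 1 0 relc_52_0 v (by omega) (by omega)

set_option maxRecDepth 1000000 in
theorem walk_52 : ∀ v, walkT ctF (D.wlen 52) (D.wordP 52) v = W_52 v := by
  intro v
  simp only [W_52, forceL_eq]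
  rfl

theorem relw_52 : ∀ v, v < 1 → walkT ctF (D.wlen 52) (D.wordP 52) v = v := by
  intro v hv
  rw [walk_52]
  exact relf_52 v hv

theorem relf_53 : ∀ v, v < 1 → W_53 v = v := by
  intro v hv
  exact fixPtsF_spec W_53 1 0 relc_53_0 v (by omega) (by omega)

set_option maxRecDepth 1000000 in
theorem walk_53 : ∀ v, walkT ctF (D.wlen 53) (D.wordP 53) v = W_53 v := by
  intro v
  simp only [W_53, forceL_eq]
  rfl

theorem relw_53 : ∀ v, v < 1 → walkT ctF (D.wlen 53) (D.wordP 53) v = v := by
  intro v hv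
  rw [walk_53]
  exact relf_53 v hv

theorem relf_54 : ∀ v, v < 1 → W_54 v = v := by
  intro v hv
  exact fixPtsF_spec W_54 1 0 relc_54_0 v (by omega) (by omega)

set_option maxRecDepth 1000000 in
theorem walk_54 : ∀ v, walkT ctF (D.wlen 54) (D.wordP 54) v = W_54 v := by
  intro v
  simp only [W_54, forceL_eq]
  rfl

theorem relw_54 : ∀ v, v < 1 → walkT ctF (D.wlen 54) (D.wordP 54) v = v := by
  intro v hv
  rw [walk_54]
  exact relf_54 v hv

theorem relf_55 : ∀ v, v < 1 → W_55 v = v := by
  intro v hv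
  exact fixPtsF_spec W_55 1 0 relc_55_0 v (by omega) (by omega)

set_option maxRecDepth 1000000 in
theorem walk_55 : ∀ v, walkT ctF (D.wlen 55) (D.wordP 55) v = W_55 v := by
  intro v
  simp only [W_55, forceL_eq]
  rfl

theorem relw_55 : ∀ v, v < 1 → walkT ctF (D.wlen 55) (D.wordP 55) v = v := by
  intro v hv
  rw [walk_55]
  exact relf_55 v hv

theorem relf_56 : ∀ v, v < 1 → W_56 v = v := by
  intro v hv
  exact fixPtsF_spec W_56 1 0 relc_56_0 v (by omega) (by omega)

set_option maxRecDepth 1000000 in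
theorem walk_56 : ∀ v, walkT ctF (D.wlen 56) (D.wordP 56) v = W_56 v := by
  intro v
  simp only [W_56, forceL_eq]
  rfl

theorem relw_56 : ∀ v, v < 1 → walkT ctF (D.wlen 56) (D.wordP 56) v = v := by
  intro v hv
  rw [walk_56]
  exact relf_56 v hv

theorem relf_57 : ∀ v, v < 1 → W_57 v = v := by
  intro v hv
  exact fixPtsF_spec W_57 1 0 relc_57_0 v (by omega) (by omega)

set_option maxRecDepth 1000000 in
theorem walk_57 : ∀ v, walkT ctF (D.wlen 57) (D.wordP 57) v = W_57 v := by
  intro v
  simp only [W_57, forceL_eq]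
  rfl

theorem relw_57 : ∀ v, v < 1 → walkT ctF (D.wlen 57) (D.wordP 57) v = v := by
  intro v hv
  rw [walk_57]
  exact relf_57 v hv

theorem relf_58 : ∀ v, v < 1 → W_58 v = v := by
  intro v hv
  exact fixPtsF_spec W_58 1 0 relc_58_0 v (by omega) (by omega)

set_option maxRecDepth 1000000 in
theorem walk_58 : ∀ v, walkT ctF (D.wlen 58) (D.wordP 58) v = W_58 v := by
  intro v
  simp only [W_58, forceL_eq]
  rfl

theorem relw_58 : ∀ v, v < 1 → walkT ctF (D.wlen 58) (D.wordP 58) v = v := by
  intro v hv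
  rw [walk_58]
  exact relf_58 v hv

theorem relf_59 : ∀ v, v < 1 → W_59 v = v := by
  intro v hv
  exact fixPtsF_spec W_59 1 0 relc_59_0 v (by omega) (by omega)

set_option maxRecDepth 1000000 in
theorem walk_59 : ∀ v, walkT ctF (D.wlen 59) (D.wordP 59) v = W_59 v := by
  intro v
  simp only [W_59, forceL_eq]
  rfl

theorem relw_59 : ∀ v, v < 1 → walkT ctF (D.wlen 59) (D.wordP 59) v = v := by
  intro v hv
  rw [walk_59]
  exact relf_59 v hv

theorem relf_60 : ∀ v, v < 1 → W_60 v = v := by
  intro v hv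
  exact fixPtsF_spec W_60 1 0 relc_60_0 v (by omega) (by omega)

set_option maxRecDepth 1000000 in
theorem walk_60 : ∀ v, walkT ctF (D.wlen 60) (D.wordP 60) v = W_60 v := by
  intro v
  simp only [W_60, forceL_eq]
  rfl

theorem relw_60 : ∀ v, v < 1 → walkT ctF (D.wlen 60) (D.wordP 60) v = v := by
  intro v hv
  rw [walk_60]
  exact relf_60 v hv

theorem relf_61 : ∀ v, v < 1 → W_61 v = v := by
  intro v hv
  exact fixPtsF_spec W_61 1 0 relc_61_0 v (by omega) (by omega)

set_option maxRecDepth 1000000 in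
theorem walk_61 : ∀ v, walkT ctF (D.wlen 61) (D.wordP 61) v = W_61 v := by
  intro v
  simp only [W_61, forceL_eq]
  rfl

theorem relw_61 : ∀ v, v < 1 → walkT ctF (D.wlen 61) (D.wordP 61) v = v := by
  intro v hv
  rw [walk_61]
  exact relf_61 v hv

theorem relf_62 : ∀ v, v < 1 → W_62 v = v := by
  intro v hv
  exact fixPtsF_spec W_62 1 0 relc_62_0 v (by omega) (by omega)

set_option maxRecDepth 1000000 in
theorem walk_62 : ∀ v, walkT ctF (D.wlen 62) (D.wordP 62) v = W_62 v := by
  intro v
  simp only [W_62, forceL_eq]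
  rfl

theorem relw_62 : ∀ v, v < 1 → walkT ctF (D.wlen 62) (D.wordP 62) v = v := by
  intro v hv
  rw [walk_62]
  exact relf_62 v hv

theorem relf_63 : ∀ v, v < 1 → W_63 v = v := by
  intro v hv
  exact fixPtsF_spec W_63 1 0 relc_63_0 v (by omega) (by omega)

set_option maxRecDepth 1000000 in
theorem walk_63 : ∀ v, walkT ctF (D.wlen 63) (D.wordP 63) v = W_63 v := by
  intro v
  simp only [W_63, forceL_eq]
  rfl

theorem relw_63 : ∀ v, v < 1 → walkT ctF (D.wlen 63) (D.wordP 63) v = v := by
  intro v hv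
  rw [walk_63]
  exact relf_63 v hv

theorem relf_64 : ∀ v, v < 1 → W_64 v = v := by
  intro v hv
  exact fixPtsF_spec W_64 1 0 relc_64_0 v (by omega) (by omega)

set_option maxRecDepth 1000000 in
theorem walk_64 : ∀ v, walkT ctF (D.wlen 64) (D.wordP 64) v = W_64 v := by
  intro v
  simp only [W_64, forceL_eq]
  rfl

theorem relw_64 : ∀ v, v < 1 → walkT ctF (D.wlen 64) (D.wordP 64) v = v := by
  intro v hv
  rw [walk_64]
  exact relf_64 v hv

theorem relf_65 : ∀ v, v < 1 → W_65 v = v := by
  intro v hv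
  exact fixPtsF_spec W_65 1 0 relc_65_0 v (by omega) (by omega)

set_option maxRecDepth 1000000 in
theorem walk_65 : ∀ v, walkT ctF (D.wlen 65) (D.wordP 65) v = W_65 v := by
  intro v
  simp only [W_65, forceL_eq]
  rfl

theorem relw_65 : ∀ v, v < 1 → walkT ctF (D.wlen 65) (D.wordP 65) v = v := by
  intro v hv
  rw [walk_65]
  exact relf_65 v hv

theorem relf_66 : ∀ v, v < 1 → W_66 v = v := by
  intro v hv
  exact fixPtsF_spec W_66 1 0 relc_66_0 v (by omega) (by omega)

set_option maxRecDepth 1000000 in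
theorem walk_66 : ∀ v, walkT ctF (D.wlen 66) (D.wordP 66) v = W_66 v := by
  intro v
  simp only [W_66, forceL_eq]
  rfl

theorem relw_66 : ∀ v, v < 1 → walkT ctF (D.wlen 66) (D.wordP 66) v = v := by
  intro v hv
  rw [walk_66]
  exact relf_66 v hv

theorem relf_67 : ∀ v, v < 1 → W_67 v = v := by
  intro v hv
  exact fixPtsF_spec W_67 1 0 relc_67_0 v (by omega) (by omega)

set_option maxRecDepth 1000000 in
theorem walk_67 : ∀ v, walkT ctF (D.wlen 67) (D.wordP 67) v = W_67 v := by
  intro v
  simp only [W_67, forceL_eq]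
  rfl

theorem relw_67 : ∀ v, v < 1 → walkT ctF (D.wlen 67) (D.wordP 67) v = v := by
  intro v hv
  rw [walk_67]
  exact relf_67 v hv

theorem relf_68 : ∀ v, v < 1 → W_68 v = v := by
  intro v hv
  exact fixPtsF_spec W_68 1 0 relc_68_0 v (by omega) (by omega)

set_option maxRecDepth 1000000 in
theorem walk_68 : ∀ v, walkT ctF (D.wlen 68) (D.wordP 68) v = W_68 v := by
  intro v
  simp only [W_68, forceL_eq]
  rfl

theorem relw_68 : ∀ v, v < 1 → walkT ctF (D.wlen 68) (D.wordP 68) v = v := by
  intro v hv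
  rw [walk_68]
  exact relf_68 v hv

theorem relf_69 : ∀ v, v < 1 → W_69 v = v := by
  intro v hv
  exact fixPtsF_spec W_69 1 0 relc_69_0 v (by omega) (by omega)

set_option maxRecDepth 1000000 in
theorem walk_69 : ∀ v, walkT ctF (D.wlen 69) (D.wordP 69) v = W_69 v := by
  intro v
  simp only [W_69, forceL_eq]
  rfl

theorem relw_69 : ∀ v, v < 1 → walkT ctF (D.wlen 69) (D.wordP 69) v = v := by
  intro v hv
  rw [walk_69]
  exact relf_69 v hv

theorem relf_70 : ∀ v, v < 1 → W_70 v = v := by
  intro v hv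
  exact fixPtsF_spec W_70 1 0 relc_70_0 v (by omega) (by omega)

set_option maxRecDepth 1000000 in
theorem walk_70 : ∀ v, walkT ctF (D.wlen 70) (D.wordP 70) v = W_70 v := by
  intro v
  simp only [W_70, forceL_eq]
  rfl

theorem relw_70 : ∀ v, v < 1 → walkT ctF (D.wlen 70) (D.wordP 70) v = v := by
  intro v hv
  rw [walk_70]
  exact relf_70 v hv

theorem relf_71 : ∀ v, v < 1 → W_71 v = v := by
  intro v hv
  exact fixPtsF_spec W_71 1 0 relc_71_0 v (by omega) (by omega)

set_option maxRecDepth 1000000 in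
theorem walk_71 : ∀ v, walkT ctF (D.wlen 71) (D.wordP 71) v = W_71 v := by
  intro v
  simp only [W_71, forceL_eq]
  rfl

theorem relw_71 : ∀ v, v < 1 → walkT ctF (D.wlen 71) (D.wordP 71) v = v := by
  intro v hv
  rw [walk_71]
  exact relf_71 v hv

theorem relf_72 : ∀ v, v < 1 → W_72 v = v := by
  intro v hv
  exact fixPtsF_spec W_72 1 0 relc_72_0 v (by omega) (by omega)

set_option maxRecDepth 1000000 in
theorem walk_72 : ∀ v, walkT ctF (D.wlen 72) (D.wordP 72) v = W_72 v := by
  intro v
  simp only [W_72, forceL_eq]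
  rfl

theorem relw_72 : ∀ v, v < 1 → walkT ctF (D.wlen 72) (D.wordP 72) v = v := by
  intro v hv
  rw [walk_72]
  exact relf_72 v hv

theorem relf_73 : ∀ v, v < 1 → W_73 v = v := by
  intro v hv
  exact fixPtsF_spec W_73 1 0 relc_73_0 v (by omega) (by omega)

set_option maxRecDepth 1000000 in
theorem walk_73 : ∀ v, walkT ctF (D.wlen 73) (D.wordP 73) v = W_73 v := by
  intro v
  simp only [W_73, forceL_eq]
  rfl

theorem relw_73 : ∀ v, v < 1 → walkT ctF (D.wlen 73) (D.wordP 73) v = v := by
  intro v hv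
  rw [walk_73]
  exact relf_73 v hv

theorem relf_74 : ∀ v, v < 1 → W_74 v = v := by
  intro v hv
  exact fixPtsF_spec W_74 1 0 relc_74_0 v (by omega) (by omega)

set_option maxRecDepth 1000000 in
theorem walk_74 : ∀ v, walkT ctF (D.wlen 74) (D.wordP 74) v = W_74 v := by
  intro v
  simp only [W_74, forceL_eq]
  rfl

theorem relw_74 : ∀ v, v < 1 → walkT ctF (D.wlen 74) (D.wordP 74) v = v := by
  intro v hv
  rw [walk_74]
  exact relf_74 v hv

theorem relf_75 : ∀ v, v < 1 → W_75 v = v := by
  intro v hv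
  exact fixPtsF_spec W_75 1 0 relc_75_0 v (by omega) (by omega)

set_option maxRecDepth 1000000 in
theorem walk_75 : ∀ v, walkT ctF (D.wlen 75) (D.wordP 75) v = W_75 v := by
  intro v
  simp only [W_75, forceL_eq]
  rfl

theorem relw_75 : ∀ v, v < 1 → walkT ctF (D.wlen 75) (D.wordP 75) v = v := by
  intro v hv
  rw [walk_75]
  exact relf_75 v hv

theorem relf_76 : ∀ v, v < 1 → W_76 v = v := by
  intro v hv
  exact fixPtsF_spec W_76 1 0 relc_76_0 v (by omega) (by omega)

set_option maxRecDepth 1000000 in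
theorem walk_76 : ∀ v, walkT ctF (D.wlen 76) (D.wordP 76) v = W_76 v := by
  intro v
  simp only [W_76, forceL_eq]
  rfl

theorem relw_76 : ∀ v, v < 1 → walkT ctF (D.wlen 76) (D.wordP 76) v = v := by
  intro v hv
  rw [walk_76]
  exact relf_76 v hv

theorem relf_77 : ∀ v, v < 1 → W_77 v = v := by
  intro v hv
  exact fixPtsF_spec W_77 1 0 relc_77_0 v (by omega) (by omega)

set_option maxRecDepth 1000000 in
theorem walk_77 : ∀ v, walkT ctF (D.wlen 77) (D.wordP 77) v = W_77 v := by
  intro v
  simp only [W_77, forceL_eq]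
  rfl

theorem relw_77 : ∀ v, v < 1 → walkT ctF (D.wlen 77) (D.wordP 77) v = v := by
  intro v hv
  rw [walk_77]
  exact relf_77 v hv

theorem relf_78 : ∀ v, v < 1 → W_78 v = v := by
  intro v hv
  exact fixPtsF_spec W_78 1 0 relc_78_0 v (by omega) (by omega)

set_option maxRecDepth 1000000 in
theorem walk_78 : ∀ v, walkT ctF (D.wlen 78) (D.wordP 78) v = W_78 v := by
  intro v
  simp only [W_78, forceL_eq]
  rfl

theorem relw_78 : ∀ v, v < 1 → walkT ctF (D.wlen 78) (D.wordP 78) v = v := by
  intro v hv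
  rw [walk_78]
  exact relf_78 v hv

theorem relf_79 : ∀ v, v < 1 → W_79 v = v := by
  intro v hv
  exact fixPtsF_spec W_79 1 0 relc_79_0 v (by omega) (by omega)

set_option maxRecDepth 1000000 in
theorem walk_79 : ∀ v, walkT ctF (D.wlen 79) (D.wordP 79) v = W_79 v := by
  intro v
  simp only [W_79, forceL_eq]
  rfl

theorem relw_79 : ∀ v, v < 1 → walkT ctF (D.wlen 79) (D.wordP 79) v = v := by
  intro v hv
  rw [walk_79]
  exact relf_79 v hv

theorem relf_80 : ∀ v, v < 1 → W_80 v = v := by
  intro v hv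
  exact fixPtsF_spec W_80 1 0 relc_80_0 v (by omega) (by omega)

set_option maxRecDepth 1000000 in
theorem walk_80 : ∀ v, walkT ctF (D.wlen 80) (D.wordP 80) v = W_80 v := by
  intro v
  simp only [W_80, forceL_eq]
  rfl

theorem relw_80 : ∀ v, v < 1 → walkT ctF (D.wlen 80) (D.wordP 80) v = v := by
  intro v hv
  rw [walk_80]
  exact relf_80 v hv

theorem relf_81 : ∀ v, v < 1 → W_81 v = v := by
  intro v hv
  exact fixPtsF_spec W_81 1 0 relc_81_0 v (by omega) (by omega)

set_option maxRecDepth 1000000 in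
theorem walk_81 : ∀ v, walkT ctF (D.wlen 81) (D.wordP 81) v = W_81 v := by
  intro v
  simp only [W_81, forceL_eq]
  rfl

theorem relw_81 : ∀ v, v < 1 → walkT ctF (D.wlen 81) (D.wordP 81) v = v := by
  intro v hv
  rw [walk_81]
  exact relf_81 v hv

theorem relf_82 : ∀ v, v < 1 → W_82 v = v := by
  intro v hv
  exact fixPtsF_spec W_82 1 0 relc_82_0 v (by omega) (by omega)

set_option maxRecDepth 1000000 in
theorem walk_82 : ∀ v, walkT ctF (D.wlen 82) (D.wordP 82) v = W_82 v := by
  intro v
  simp only [W_82, forceL_eq]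
  rfl

theorem relw_82 : ∀ v, v < 1 → walkT ctF (D.wlen 82) (D.wordP 82) v = v := by
  intro v hv
  rw [walk_82]
  exact relf_82 v hv

theorem relf_83 : ∀ v, v < 1 → W_83 v = v := by
  intro v hv
  exact fixPtsF_spec W_83 1 0 relc_83_0 v (by omega) (by omega)

set_option maxRecDepth 1000000 in
theorem walk_83 : ∀ v, walkT ctF (D.wlen 83) (D.wordP 83) v = W_83 v := by
  intro v
  simp only [W_83, forceL_eq]
  rfl

theorem relw_83 : ∀ v, v < 1 → walkT ctF (D.wlen 83) (D.wordP 83) v = v := by
  intro v hv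
  rw [walk_83]
  exact relf_83 v hv

theorem relf_84 : ∀ v, v < 1 → W_84 v = v := by
  intro v hv
  exact fixPtsF_spec W_84 1 0 relc_84_0 v (by omega) (by omega)

set_option maxRecDepth 1000000 in
theorem walk_84 : ∀ v, walkT ctF (D.wlen 84) (D.wordP 84) v = W_84 v := by
  intro v
  simp only [W_84, forceL_eq]
  rfl

theorem relw_84 : ∀ v, v < 1 → walkT ctF (D.wlen 84) (D.wordP 84) v = v := by
  intro v hv
  rw [walk_84]
  exact relf_84 v hv

theorem relf_85 : ∀ v, v < 1 → W_85 v = v := by
  intro v hv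
  exact fixPtsF_spec W_85 1 0 relc_85_0 v (by omega) (by omega)

set_option maxRecDepth 1000000 in
theorem walk_85 : ∀ v, walkT ctF (D.wlen 85) (D.wordP 85) v = W_85 v := by
  intro v
  simp only [W_85, forceL_eq]
  rfl

theorem relw_85 : ∀ v, v < 1 → walkT ctF (D.wlen 85) (D.wordP 85) v = v := by
  intro v hv
  rw [walk_85]
  exact relf_85 v hv

theorem relf_86 : ∀ v, v < 1 → W_86 v = v := by
  intro v hv
  exact fixPtsF_spec W_86 1 0 relc_86_0 v (by omega) (by omega)

set_option maxRecDepth 1000000 in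
theorem walk_86 : ∀ v, walkT ctF (D.wlen 86) (D.wordP 86) v = W_86 v := by
  intro v
  simp only [W_86, forceL_eq]
  rfl

theorem relw_86 : ∀ v, v < 1 → walkT ctF (D.wlen 86) (D.wordP 86) v = v := by
  intro v hv
  rw [walk_86]
  exact relf_86 v hv

theorem relf_87 : ∀ v, v < 1 → W_87 v = v := by
  intro v hv
  exact fixPtsF_spec W_87 1 0 relc_87_0 v (by omega) (by omega)

set_option maxRecDepth 1000000 in
theorem walk_87 : ∀ v, walkT ctF (D.wlen 87) (D.wordP 87) v = W_87 v := by
  intro v
  simp only [W_87, forceL_eq]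
  rfl

theorem relw_87 : ∀ v, v < 1 → walkT ctF (D.wlen 87) (D.wordP 87) v = v := by
  intro v hv
  rw [walk_87]
  exact relf_87 v hv

theorem relf_88 : ∀ v, v < 1 → W_88 v = v := by
  intro v hv
  exact fixPtsF_spec W_88 1 0 relc_88_0 v (by omega) (by omega)

set_option maxRecDepth 1000000 in
theorem walk_88 : ∀ v, walkT ctF (D.wlen 88) (D.wordP 88) v = W_88 v := by
  intro v
  simp only [W_88, forceL_eq]
  rfl

theorem relw_88 : ∀ v, v < 1 → walkT ctF (D.wlen 88) (D.wordP 88) v = v := by
  intro v hv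
  rw [walk_88]
  exact relf_88 v hv

theorem relf_89 : ∀ v, v < 1 → W_89 v = v := by
  intro v hv
  exact fixPtsF_spec W_89 1 0 relc_89_0 v (by omega) (by omega)

set_option maxRecDepth 1000000 in
theorem walk_89 : ∀ v, walkT ctF (D.wlen 89) (D.wordP 89) v = W_89 v := by
  intro v
  simp only [W_89, forceL_eq]
  rfl

theorem relw_89 : ∀ v, v < 1 → walkT ctF (D.wlen 89) (D.wordP 89) v = v := by
  intro v hv
  rw [walk_89]
  exact relf_89 v hv

theorem relf_90 : ∀ v, v < 1 → W_90 v = v := by
  intro v hv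
  exact fixPtsF_spec W_90 1 0 relc_90_0 v (by omega) (by omega)

set_option maxRecDepth 1000000 in
theorem walk_90 : ∀ v, walkT ctF (D.wlen 90) (D.wordP 90) v = W_90 v := by
  intro v
  simp only [W_90, forceL_eq]
  rfl

theorem relw_90 : ∀ v, v < 1 → walkT ctF (D.wlen 90) (D.wordP 90) v = v := by
  intro v hv
  rw [walk_90]
  exact relf_90 v hv

theorem relf_91 : ∀ v, v < 1 → W_91 v = v := by
  intro v hv
  exact fixPtsF_spec W_91 1 0 relc_91_0 v (by omega) (by omega)

set_option maxRecDepth 1000000 in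
theorem walk_91 : ∀ v, walkT ctF (D.wlen 91) (D.wordP 91) v = W_91 v := by
  intro v
  simp only [W_91, forceL_eq]
  rfl

theorem relw_91 : ∀ v, v < 1 → walkT ctF (D.wlen 91) (D.wordP 91) v = v := by
  intro v hv
  rw [walk_91]
  exact relf_91 v hv

theorem relf_92 : ∀ v, v < 1 → W_92 v = v := by
  intro v hv
  exact fixPtsF_spec W_92 1 0 relc_92_0 v (by omega) (by omega)

set_option maxRecDepth 1000000 in
theorem walk_92 : ∀ v, walkT ctF (D.wlen 92) (D.wordP 92) v = W_92 v := by
  intro v
  simp only [W_92, forceL_eq]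
  rfl

theorem relw_92 : ∀ v, v < 1 → walkT ctF (D.wlen 92) (D.wordP 92) v = v := by
  intro v hv
  rw [walk_92]
  exact relf_92 v hv

theorem relf_93 : ∀ v, v < 1 → W_93 v = v := by
  intro v hv
  exact fixPtsF_spec W_93 1 0 relc_93_0 v (by omega) (by omega)

set_option maxRecDepth 1000000 in
theorem walk_93 : ∀ v, walkT ctF (D.wlen 93) (D.wordP 93) v = W_93 v := by
  intro v
  simp only [W_93, forceL_eq]
  rfl

theorem relw_93 : ∀ v, v < 1 → walkT ctF (D.wlen 93) (D.wordP 93) v = v := by
  intro v hv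
  rw [walk_93]
  exact relf_93 v hv

theorem relf_94 : ∀ v, v < 1 → W_94 v = v := by
  intro v hv
  exact fixPtsF_spec W_94 1 0 relc_94_0 v (by omega) (by omega)

set_option maxRecDepth 1000000 in
theorem walk_94 : ∀ v, walkT ctF (D.wlen 94) (D.wordP 94) v = W_94 v := by
  intro v
  simp only [W_94, forceL_eq]
  rfl

theorem relw_94 : ∀ v, v < 1 → walkT ctF (D.wlen 94) (D.wordP 94) v = v := by
  intro v hv
  rw [walk_94]
  exact relf_94 v hv

theorem relf_95 : ∀ v, v < 1 → W_95 v = v := by
  intro v hv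
  exact fixPtsF_spec W_95 1 0 relc_95_0 v (by omega) (by omega)

set_option maxRecDepth 1000000 in
theorem walk_95 : ∀ v, walkT ctF (D.wlen 95) (D.wordP 95) v = W_95 v := by
  intro v
  simp only [W_95, forceL_eq]
  rfl

theorem relw_95 : ∀ v, v < 1 → walkT ctF (D.wlen 95) (D.wordP 95) v = v := by
  intro v hv
  rw [walk_95]
  exact relf_95 v hv

theorem relf_96 : ∀ v, v < 1 → W_96 v = v := by
  intro v hv
  exact fixPtsF_spec W_96 1 0 relc_96_0 v (by omega) (by omega)

set_option maxRecDepth 1000000 in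
theorem walk_96 : ∀ v, walkT ctF (D.wlen 96) (D.wordP 96) v = W_96 v := by
  intro v
  simp only [W_96, forceL_eq]
  rfl

theorem relw_96 : ∀ v, v < 1 → walkT ctF (D.wlen 96) (D.wordP 96) v = v := by
  intro v hv
  rw [walk_96]
  exact relf_96 v hv

theorem relf_97 : ∀ v, v < 1 → W_97 v = v := by
  intro v hv
  exact fixPtsF_spec W_97 1 0 relc_97_0 v (by omega) (by omega)

set_option maxRecDepth 1000000 in
theorem walk_97 : ∀ v, walkT ctF (D.wlen 97) (D.wordP 97) v = W_97 v := by
  intro v
  simp only [W_97, forceL_eq]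
  rfl

theorem relw_97 : ∀ v, v < 1 → walkT ctF (D.wlen 97) (D.wordP 97) v = v := by
  intro v hv
  rw [walk_97]
  exact relf_97 v hv

theorem relf_98 : ∀ v, v < 1 → W_98 v = v := by
  intro v hv
  exact fixPtsF_spec W_98 1 0 relc_98_0 v (by omega) (by omega)

set_option maxRecDepth 1000000 in
theorem walk_98 : ∀ v, walkT ctF (D.wlen 98) (D.wordP 98) v = W_98 v := by
  intro v
  simp only [W_98, forceL_eq]
  rfl

theorem relw_98 : ∀ v, v < 1 → walkT ctF (D.wlen 98) (D.wordP 98) v = v := by
  intro v hv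
  rw [walk_98]
  exact relf_98 v hv

theorem relf_99 : ∀ v, v < 1 → W_99 v = v := by
  intro v hv
  exact fixPtsF_spec W_99 1 0 relc_99_0 v (by omega) (by omega)

set_option maxRecDepth 1000000 in
theorem walk_99 : ∀ v, walkT ctF (D.wlen 99) (D.wordP 99) v = W_99 v := by
  intro v
  simp only [W_99, forceL_eq]
  rfl

theorem relw_99 : ∀ v, v < 1 → walkT ctF (D.wlen 99) (D.wordP 99) v = v := by
  intro v hv
  rw [walk_99]
  exact relf_99 v hv

theorem relf_100 : ∀ v, v < 1 → W_100 v = v := by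
  intro v hv
  exact fixPtsF_spec W_100 1 0 relc_100_0 v (by omega) (by omega)

set_option maxRecDepth 1000000 in
theorem walk_100 : ∀ v, walkT ctF (D.wlen 100) (D.wordP 100) v = W_100 v := by
  intro v
  simp only [W_100, forceL_eq]
  rfl

theorem relw_100 : ∀ v, v < 1 → walkT ctF (D.wlen 100) (D.wordP 100) v = v := by
  intro v hv
  rw [walk_100]
  exact relf_100 v hv

theorem relf_101 : ∀ v, v < 1 → W_101 v = v := by
  intro v hv
  exact fixPtsF_spec W_101 1 0 relc_101_0 v (by omega) (by omega)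

set_option maxRecDepth 1000000 in
theorem walk_101 : ∀ v, walkT ctF (D.wlen 101) (D.wordP 101) v = W_101 v := by
  intro v
  simp only [W_101, forceL_eq]
  rfl

theorem relw_101 : ∀ v, v < 1 → walkT ctF (D.wlen 101) (D.wordP 101) v = v := by
  intro v hv
  rw [walk_101]
  exact relf_101 v hv

theorem relf_102 : ∀ v, v < 1 → W_102 v = v := by
  intro v hv
  exact fixPtsF_spec W_102 1 0 relc_102_0 v (by omega) (by omega)

set_option maxRecDepth 1000000 in
theorem walk_102 : ∀ v, walkT ctF (D.wlen 102) (D.wordP 102) v = W_102 v := by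
  intro v
  simp only [W_102, forceL_eq]
  rfl

theorem relw_102 : ∀ v, v < 1 → walkT ctF (D.wlen 102) (D.wordP 102) v = v := by
  intro v hv
  rw [walk_102]
  exact relf_102 v hv

theorem relf_103 : ∀ v, v < 1 → W_103 v = v := by
  intro v hv
  exact fixPtsF_spec W_103 1 0 relc_103_0 v (by omega) (by omega)

set_option maxRecDepth 1000000 in
theorem walk_103 : ∀ v, walkT ctF (D.wlen 103) (D.wordP 103) v = W_103 v := by
  intro v
  simp only [W_103, forceL_eq]
  rfl

theorem relw_103 : ∀ v, v < 1 → walkT ctF (D.wlen 103) (D.wordP 103) v = v := by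
  intro v hv
  rw [walk_103]
  exact relf_103 v hv

theorem relf_104 : ∀ v, v < 1 → W_104 v = v := by
  intro v hv
  exact fixPtsF_spec W_104 1 0 relc_104_0 v (by omega) (by omega)

set_option maxRecDepth 1000000 in
theorem walk_104 : ∀ v, walkT ctF (D.wlen 104) (D.wordP 104) v = W_104 v := by
  intro v
  simp only [W_104, forceL_eq]
  rfl

theorem relw_104 : ∀ v, v < 1 → walkT ctF (D.wlen 104) (D.wordP 104) v = v := by
  intro v hv
  rw [walk_104]
  exact relf_104 v hv

theorem relf_105 : ∀ v, v < 1 → W_105 v = v := by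
  intro v hv
  exact fixPtsF_spec W_105 1 0 relc_105_0 v (by omega) (by omega)

set_option maxRecDepth 1000000 in
theorem walk_105 : ∀ v, walkT ctF (D.wlen 105) (D.wordP 105) v = W_105 v := by
  intro v
  simp only [W_105, forceL_eq]
  rfl

theorem relw_105 : ∀ v, v < 1 → walkT ctF (D.wlen 105) (D.wordP 105) v = v := by
  intro v hv
  rw [walk_105]
  exact relf_105 v hv

theorem relf_106 : ∀ v, v < 1 → W_106 v = v := by
  intro v hv
  exact fixPtsF_spec W_106 1 0 relc_106_0 v (by omega) (by omega)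

set_option maxRecDepth 1000000 in
theorem walk_106 : ∀ v, walkT ctF (D.wlen 106) (D.wordP 106) v = W_106 v := by
  intro v
  simp only [W_106, forceL_eq]
  rfl

theorem relw_106 : ∀ v, v < 1 → walkT ctF (D.wlen 106) (D.wordP 106) v = v := by
  intro v hv
  rw [walk_106]
  exact relf_106 v hv

theorem relf_107 : ∀ v, v < 1 → W_107 v = v := by
  intro v hv
  exact fixPtsF_spec W_107 1 0 relc_107_0 v (by omega) (by omega)

set_option maxRecDepth 1000000 in
theorem walk_107 : ∀ v, walkT ctF (D.wlen 107) (D.wordP 107) v = W_107 v := by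
  intro v
  simp only [W_107, forceL_eq]
  rfl

theorem relw_107 : ∀ v, v < 1 → walkT ctF (D.wlen 107) (D.wordP 107) v = v := by
  intro v hv
  rw [walk_107]
  exact relf_107 v hv

theorem relf_108 : ∀ v, v < 1 → W_108 v = v := by
  intro v hv
  exact fixPtsF_spec W_108 1 0 relc_108_0 v (by omega) (by omega)

set_option maxRecDepth 1000000 in
theorem walk_108 : ∀ v, walkT ctF (D.wlen 108) (D.wordP 108) v = W_108 v := by
  intro v
  simp only [W_108, forceL_eq]
  rfl

theorem relw_108 : ∀ v, v < 1 → walkT ctF (D.wlen 108) (D.wordP 108) v = v := by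
  intro v hv
  rw [walk_108]
  exact relf_108 v hv

theorem relf_109 : ∀ v, v < 1 → W_109 v = v := by
  intro v hv
  exact fixPtsF_spec W_109 1 0 relc_109_0 v (by omega) (by omega)

set_option maxRecDepth 1000000 in
theorem walk_109 : ∀ v, walkT ctF (D.wlen 109) (D.wordP 109) v = W_109 v := by
  intro v
  simp only [W_109, forceL_eq]
  rfl

theorem relw_109 : ∀ v, v < 1 → walkT ctF (D.wlen 109) (D.wordP 109) v = v := by
  intro v hv
  rw [walk_109]
  exact relf_109 v hv

theorem relf_110 : ∀ v, v < 1 → W_110 v = v := by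
  intro v hv
  exact fixPtsF_spec W_110 1 0 relc_110_0 v (by omega) (by omega)

set_option maxRecDepth 1000000 in
theorem walk_110 : ∀ v, walkT ctF (D.wlen 110) (D.wordP 110) v = W_110 v := by
  intro v
  simp only [W_110, forceL_eq]
  rfl

theorem relw_110 : ∀ v, v < 1 → walkT ctF (D.wlen 110) (D.wordP 110) v = v := by
  intro v hv
  rw [walk_110]
  exact relf_110 v hv

theorem relf_111 : ∀ v, v < 1 → W_111 v = v := by
  intro v hv
  exact fixPtsF_spec W_111 1 0 relc_111_0 v (by omega) (by omega)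

set_option maxRecDepth 1000000 in
theorem walk_111 : ∀ v, walkT ctF (D.wlen 111) (D.wordP 111) v = W_111 v := by
  intro v
  simp only [W_111, forceL_eq]
  rfl

theorem relw_111 : ∀ v, v < 1 → walkT ctF (D.wlen 111) (D.wordP 111) v = v := by
  intro v hv
  rw [walk_111]
  exact relf_111 v hv

theorem relf_112 : ∀ v, v < 1 → W_112 v = v := by
  intro v hv
  exact fixPtsF_spec W_112 1 0 relc_112_0 v (by omega) (by omega)

set_option maxRecDepth 1000000 in
theorem walk_112 : ∀ v, walkT ctF (D.wlen 112) (D.wordP 112) v = W_112 v := by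
  intro v
  simp only [W_112, forceL_eq]
  rfl

theorem relw_112 : ∀ v, v < 1 → walkT ctF (D.wlen 112) (D.wordP 112) v = v := by
  intro v hv
  rw [walk_112]
  exact relf_112 v hv

theorem relf_113 : ∀ v, v < 1 → W_113 v = v := by
  intro v hv
  exact fixPtsF_spec W_113 1 0 relc_113_0 v (by omega) (by omega)

set_option maxRecDepth 1000000 in
theorem walk_113 : ∀ v, walkT ctF (D.wlen 113) (D.wordP 113) v = W_113 v := by
  intro v
  simp only [W_113, forceL_eq]
  rfl

theorem relw_113 : ∀ v, v < 1 → walkT ctF (D.wlen 113) (D.wordP 113) v = v := by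
  intro v hv
  rw [walk_113]
  exact relf_113 v hv

theorem relf_114 : ∀ v, v < 1 → W_114 v = v := by
  intro v hv
  exact fixPtsF_spec W_114 1 0 relc_114_0 v (by omega) (by omega)

set_option maxRecDepth 1000000 in
theorem walk_114 : ∀ v, walkT ctF (D.wlen 114) (D.wordP 114) v = W_114 v := by
  intro v
  simp only [W_114, forceL_eq]
  rfl

theorem relw_114 : ∀ v, v < 1 → walkT ctF (D.wlen 114) (D.wordP 114) v = v := by
  intro v hv
  rw [walk_114]
  exact relf_114 v hv

theorem relf_115 : ∀ v, v < 1 → W_115 v = v := by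
  intro v hv
  exact fixPtsF_spec W_115 1 0 relc_115_0 v (by omega) (by omega)

set_option maxRecDepth 1000000 in
theorem walk_115 : ∀ v, walkT ctF (D.wlen 115) (D.wordP 115) v = W_115 v := by
  intro v
  simp only [W_115, forceL_eq]
  rfl

theorem relw_115 : ∀ v, v < 1 → walkT ctF (D.wlen 115) (D.wordP 115) v = v := by
  intro v hv
  rw [walk_115]
  exact relf_115 v hv

theorem relf_116 : ∀ v, v < 1 → W_116 v = v := by
  intro v hv
  exact fixPtsF_spec W_116 1 0 relc_116_0 v (by omega) (by omega)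

set_option maxRecDepth 1000000 in
theorem walk_116 : ∀ v, walkT ctF (D.wlen 116) (D.wordP 116) v = W_116 v := by
  intro v
  simp only [W_116, forceL_eq]
  rfl

theorem relw_116 : ∀ v, v < 1 → walkT ctF (D.wlen 116) (D.wordP 116) v = v := by
  intro v hv
  rw [walk_116]
  exact relf_116 v hv

theorem relf_117 : ∀ v, v < 1 → W_117 v = v := by
  intro v hv
  exact fixPtsF_spec W_117 1 0 relc_117_0 v (by omega) (by omega)

set_option maxRecDepth 1000000 in
theorem walk_117 : ∀ v, walkT ctF (D.wlen 117) (D.wordP 117) v = W_117 v := by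
  intro v
  simp only [W_117, forceL_eq]
  rfl

theorem relw_117 : ∀ v, v < 1 → walkT ctF (D.wlen 117) (D.wordP 117) v = v := by
  intro v hv
  rw [walk_117]
  exact relf_117 v hv

theorem relf_118 : ∀ v, v < 1 → W_118 v = v := by
  intro v hv
  exact fixPtsF_spec W_118 1 0 relc_118_0 v (by omega) (by omega)

set_option maxRecDepth 1000000 in
theorem walk_118 : ∀ v, walkT ctF (D.wlen 118) (D.wordP 118) v = W_118 v := by
  intro v
  simp only [W_118, forceL_eq]
  rfl

theorem relw_118 : ∀ v, v < 1 → walkT ctF (D.wlen 118) (D.wordP 118) v = v := by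
  intro v hv
  rw [walk_118]
  exact relf_118 v hv

theorem relf_119 : ∀ v, v < 1 → W_119 v = v := by
  intro v hv
  exact fixPtsF_spec W_119 1 0 relc_119_0 v (by omega) (by omega)

set_option maxRecDepth 1000000 in
theorem walk_119 : ∀ v, walkT ctF (D.wlen 119) (D.wordP 119) v = W_119 v := by
  intro v
  simp only [W_119, forceL_eq]
  rfl

theorem relw_119 : ∀ v, v < 1 → walkT ctF (D.wlen 119) (D.wordP 119) v = v := by
  intro v hv
  rw [walk_119]
  exact relf_119 v hv

theorem relf_120 : ∀ v, v < 1 → W_120 v = v := by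
  intro v hv
  exact fixPtsF_spec W_120 1 0 relc_120_0 v (by omega) (by omega)

set_option maxRecDepth 1000000 in
theorem walk_120 : ∀ v, walkT ctF (D.wlen 120) (D.wordP 120) v = W_120 v := by
  intro v
  simp only [W_120, forceL_eq]
  rfl

theorem relw_120 : ∀ v, v < 1 → walkT ctF (D.wlen 120) (D.wordP 120) v = v := by
  intro v hv
  rw [walk_120]
  exact relf_120 v hv

theorem relf_121 : ∀ v, v < 1 → W_121 v = v := by
  intro v hv
  exact fixPtsF_spec W_121 1 0 relc_121_0 v (by omega) (by omega)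

set_option maxRecDepth 1000000 in
theorem walk_121 : ∀ v, walkT ctF (D.wlen 121) (D.wordP 121) v = W_121 v := by
  intro v
  simp only [W_121, forceL_eq]
  rfl

theorem relw_121 : ∀ v, v < 1 → walkT ctF (D.wlen 121) (D.wordP 121) v = v := by
  intro v hv
  rw [walk_121]
  exact relf_121 v hv

theorem relf_122 : ∀ v, v < 1 → W_122 v = v := by
  intro v hv
  exact fixPtsF_spec W_122 1 0 relc_122_0 v (by omega) (by omega)

set_option maxRecDepth 1000000 in
theorem walk_122 : ∀ v, walkT ctF (D.wlen 122) (D.wordP 122) v = W_122 v := by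
  intro v
  simp only [W_122, forceL_eq]
  rfl

theorem relw_122 : ∀ v, v < 1 → walkT ctF (D.wlen 122) (D.wordP 122) v = v := by
  intro v hv
  rw [walk_122]
  exact relf_122 v hv

theorem relf_123 : ∀ v, v < 1 → W_123 v = v := by
  intro v hv
  exact fixPtsF_spec W_123 1 0 relc_123_0 v (by omega) (by omega)

set_option maxRecDepth 1000000 in
theorem walk_123 : ∀ v, walkT ctF (D.wlen 123) (D.wordP 123) v = W_123 v := by
  intro v
  simp only [W_123, forceL_eq]
  rfl

theorem relw_123 : ∀ v, v < 1 → walkT ctF (D.wlen 123) (D.wordP 123) v = v := by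
  intro v hv
  rw [walk_123]
  exact relf_123 v hv

theorem relf_124 : ∀ v, v < 1 → W_124 v = v := by
  intro v hv
  exact fixPtsF_spec W_124 1 0 relc_124_0 v (by omega) (by omega)

set_option maxRecDepth 1000000 in
theorem walk_124 : ∀ v, walkT ctF (D.wlen 124) (D.wordP 124) v = W_124 v := by
  intro v
  simp only [W_124, forceL_eq]
  rfl

theorem relw_124 : ∀ v, v < 1 → walkT ctF (D.wlen 124) (D.wordP 124) v = v := by
  intro v hv
  rw [walk_124]
  exact relf_124 v hv

theorem relf_125 : ∀ v, v < 1 → W_125 v = v := by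
  intro v hv
  exact fixPtsF_spec W_125 1 0 relc_125_0 v (by omega) (by omega)

set_option maxRecDepth 1000000 in
theorem walk_125 : ∀ v, walkT ctF (D.wlen 125) (D.wordP 125) v = W_125 v := by
  intro v
  simp only [W_125, forceL_eq]
  rfl

theorem relw_125 : ∀ v, v < 1 → walkT ctF (D.wlen 125) (D.wordP 125) v = v := by
  intro v hv
  rw [walk_125]
  exact relf_125 v hv

theorem relf_126 : ∀ v, v < 1 → W_126 v = v := by
  intro v hv
  exact fixPtsF_spec W_126 1 0 relc_126_0 v (by omega) (by omega)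

set_option maxRecDepth 1000000 in
theorem walk_126 : ∀ v, walkT ctF (D.wlen 126) (D.wordP 126) v = W_126 v := by
  intro v
  simp only [W_126, forceL_eq]
  rfl

theorem relw_126 : ∀ v, v < 1 → walkT ctF (D.wlen 126) (D.wordP 126) v = v := by
  intro v hv
  rw [walk_126]
  exact relf_126 v hv

theorem relf_127 : ∀ v, v < 1 → W_127 v = v := by
  intro v hv
  exact fixPtsF_spec W_127 1 0 relc_127_0 v (by omega) (by omega)

set_option maxRecDepth 1000000 in
theorem walk_127 : ∀ v, walkT ctF (D.wlen 127) (D.wordP 127) v = W_127 v := by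
  intro v
  simp only [W_127, forceL_eq]
  rfl

theorem relw_127 : ∀ v, v < 1 → walkT ctF (D.wlen 127) (D.wordP 127) v = v := by
  intro v hv
  rw [walk_127]
  exact relf_127 v hv

theorem invx_0 : ∀ v, v < 1 → ctF 0 v < 1 ∧ ctF 0 (ctF 0 v) = v := by
  intro v hv
  exact invRowFI_spec ctF 1 0 0 1 0 inv_0_0 v (by omega) (by omega)

theorem invx_1 : ∀ v, v < 1 → ctF 1 v < 1 ∧ ctF 1 (ctF 1 v) = v := by
  intro v hv
  exact invRowFI_spec ctF 1 1 1 1 0 inv_1_0 v (by omega) (by omega)

theorem invx_2 : ∀ v, v < 1 → ctF 2 v < 1 ∧ ctF 2 (ctF 2 v) = v := by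
  intro v hv
  exact invRowFI_spec ctF 1 2 2 1 0 inv_2_0 v (by omega) (by omega)

theorem invx_3 : ∀ v, v < 1 → ctF 3 v < 1 ∧ ctF 3 (ctF 3 v) = v := by
  intro v hv
  exact invRowFI_spec ctF 1 3 3 1 0 inv_3_0 v (by omega) (by omega)

theorem invx_4 : ∀ v, v < 1 → ctF 4 v < 1 ∧ ctF 4 (ctF 4 v) = v := by
  intro v hv
  exact invRowFI_spec ctF 1 4 4 1 0 inv_4_0 v (by omega) (by omega)

theorem invx_5 : ∀ v, v < 1 → ctF 5 v < 1 ∧ ctF 5 (ctF 5 v) = v := by
  intro v hv
  exact invRowFI_spec ctF 1 5 5 1 0 inv_5_0 v (by omega) (by omega)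

theorem invx_6 : ∀ v, v < 1 → ctF 6 v < 1 ∧ ctF 6 (ctF 6 v) = v := by
  intro v hv
  exact invRowFI_spec ctF 1 6 6 1 0 inv_6_0 v (by omega) (by omega)

theorem invx_7 : ∀ v, v < 1 → ctF 7 v < 1 ∧ ctF 7 (ctF 7 v) = v := by
  intro v hv
  exact invRowFI_spec ctF 1 7 7 1 0 inv_7_0 v (by omega) (by omega)

theorem invx_8 : ∀ v, v < 1 → ctF 8 v < 1 ∧ ctF 8 (ctF 8 v) = v := by
  intro v hv
  exact invRowFI_spec ctF 1 8 8 1 0 inv_8_0 v (by omega) (by omega)

theorem hconn : ∀ v, v < 1 → v ≠ 0 → ∃ x, x < E.D.k ∧ ctF x v < v := by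
  intro v hv
  exact connF_spec ctF 9 1 0 conn_0 v (by omega) (by omega)

theorem hE : ∀ v, v < E.M → ∀ x, x < E.D.k → edgeOKI iota E x v = true := by
  intro v hv x hx
  have hv' : v < 18 := hv
  have hx' : x < 9 := hx
  interval_cases x
  · exact edgesx_0 v hv'
  · exact edgesx_1 v hv'
  · exact edgesx_2 v hv'
  · exact edgesx_3 v hv'
  · exact edgesx_4 v hv'
  · exact edgesx_5 v hv'
  · exact edgesx_6 v hv'
  · exact edgesx_7 v hv'
  · exact edgesx_8 v hv'

theorem hA : ∀ v, v < E.M → aliasOK E v = true := fun v hv => hA0 v hv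

theorem hrows : ∀ v, v < E.M → tb RS v = true → rowOK2 E RS v E.D.k = true := fun v hv => hrows0 v hv

theorem hT : ∀ x, x < E.D.k → ∀ v, v < 1 → ctF x v < 1 ∧ ctF (iota x) (ctF x v) = v := by
  intro x hx
  have hx' : x < 9 := hx
  interval_cases x
  · exact invx_0
  · exact invx_1
  · exact invx_2
  · exact invx_3
  · exact invx_4
  · exact invx_5
  · exact invx_6
  · exact invx_7
  · exact invx_8

theorem hltr : ∀ j, j < E.D.nw → lettersOK E.D.k (E.D.wlen j) (E.D.wordP j) = true :=
  wordsOK_spec D D.nw words_ok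

theorem hrelT : ∀ wi, wi < E.D.nrel → ∀ v, v < 1 →
    walkT ctF (E.D.wlen wi) (E.D.wordP wi) v = v := by
  intro wi hwi
  have hwi' : wi < 128 := hwi
  interval_cases wi
  · exact relw_0
  · exact relw_1
  · exact relw_2
  · exact relw_3
  · exact relw_4
  · exact relw_5
  · exact relw_6
  · exact relw_7
  · exact relw_8
  · exact relw_9
  · exact relw_10
  · exact relw_11
  · exact relw_12
  · exact relw_13
  · exact relw_14
  · exact relw_15
  · exact relw_16
  · exact relw_17
  · exact relw_18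
  · exact relw_19
  · exact relw_20
  · exact relw_21
  · exact relw_22
  · exact relw_23
  · exact relw_24
  · exact relw_25
  · exact relw_26
  · exact relw_27
  · exact relw_28
  · exact relw_29
  · exact relw_30
  · exact relw_31
  · exact relw_32
  · exact relw_33
  · exact relw_34
  · exact relw_35
  · exact relw_36
  · exact relw_37
  · exact relw_38
  · exact relw_39
  · exact relw_40
  · exact relw_41
  · exact relw_42
  · exact relw_43
  · exact relw_44
  · exact relw_45
  · exact relw_46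
  · exact relw_47
  · exact relw_48
  · exact relw_49
  · exact relw_50
  · exact relw_51
  · exact relw_52
  · exact relw_53
  · exact relw_54
  · exact relw_55
  · exact relw_56
  · exact relw_57
  · exact relw_58
  · exact relw_59
  · exact relw_60
  · exact relw_61
  · exact relw_62
  · exact relw_63
  · exact relw_64
  · exact relw_65
  · exact relw_66
  · exact relw_67
  · exact relw_68
  · exact relw_69
  · exact relw_70
  · exact relw_71
  · exact relw_72
  · exact relw_73
  · exact relw_74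
  · exact relw_75
  · exact relw_76
  · exact relw_77
  · exact relw_78
  · exact relw_79
  · exact relw_80
  · exact relw_81
  · exact relw_82
  · exact relw_83
  · exact relw_84
  · exact relw_85
  · exact relw_86
  · exact relw_87
  · exact relw_88
  · exact relw_89
  · exact relw_90
  · exact relw_91
  · exact relw_92
  · exact relw_93
  · exact relw_94
  · exact relw_95
  · exact relw_96
  · exact relw_97
  · exact relw_98
  · exact relw_99
  · exact relw_100
  · exact relw_101
  · exact relw_102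
  · exact relw_103
  · exact relw_104
  · exact relw_105
  · exact relw_106
  · exact relw_107
  · exact relw_108
  · exact relw_109
  · exact relw_110
  · exact relw_111
  · exact relw_112
  · exact relw_113
  · exact relw_114
  · exact relw_115
  · exact relw_116
  · exact relw_117
  · exact relw_118
  · exact relw_119
  · exact relw_120
  · exact relw_121
  · exact relw_122
  · exact relw_123
  · exact relw_124
  · exact relw_125
  · exact relw_126
  · exact relw_127

theorem hsubT : ∀ wi, wi < E.D.nw → E.D.nrel ≤ wi →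
    walkT ctF (E.D.wlen wi) (E.D.wordP wi) 0 = 0 :=
  subAll_spec ctF D D.nw sub_ok

end Cfsg.Agent.Helper5.FiYPTC
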