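import Cfsg.Agent.Helper5.FiZATCDatD
import Cfsg.Agent.Helper5.TCIB

/-! kernel checks of edges, aliases, rows: FiZATC -/

set_option autoImplicit false
set_option Elab.async false

namespace Cfsg.Agent.Helper5.FiZATC
open Cfsg.Agent.Helper5.TC Cfsg.Agent.Helper5.TCI

set_option maxRecDepth 1000000 in
theorem cnt_0 : cntFrom RS 20000 0 0 = 19362 := by decide +kernel

set_option maxRecDepth 1000000 in
theorem edges_0_46 : edgesRangeI iota E 0 1973 83353 = true := by decide +kernel

set_option maxRecDepth 1000000 in
theorem edges_2_57 : edgesRangeI iota E 2 1921 105981 = true := by decide +kernel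

set_option maxRecDepth 1000000 in
theorem edges_4_147 : edgesRangeI iota E 4 1607 276941 = true := by decide +kernel

set_option maxRecDepth 1000000 in
theorem edges_7_51 : edgesRangeI iota E 7 2145 98693 = true := by decide +kernel

set_option maxRecDepth 1000000 in
theorem edges_9_118 : edgesRangeI iota E 9 1691 220724 = true := by decide +kernel

set_option maxRecDepth 1000000 in
theorem edges_1_10 : edgesRangeI iota E 1 1825 17793 = true := by decide +kernel

set_option maxRecDepth 1000000 in
theorem edges_3_16 : edgesRangeI iota E 3 1789 29652 = true := by decide +kernel

set_option maxRecDepth 1000000 in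
theorem edges_5_144 : edgesRangeI iota E 5 1748 269672 = true := by decide +kernel

set_option maxRecDepth 1000000 in
theorem edges_7_160 : edgesRangeI iota E 7 1806 294095 = true := by decide +kernel

set_option maxRecDepth 1000000 in
theorem edges_11_28 : edgesRangeI iota E 11 2742 74408 = true := by decide +kernel

set_option maxRecDepth 1000000 in
theorem edges_2_167 : edgesRangeI iota E 2 1431 303833 = true := by decide +kernel

set_option maxRecDepth 1000000 in
theorem edges_4_158 : edgesRangeI iota E 4 1753 294867 = true := by decide +kernel

set_option maxRecDepth 1000000 in
theorem edges_7_137 : edgesRangeI iota E 7 1800 254239 = true := by decide +kernel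

set_option maxRecDepth 1000000 in
theorem edges_10_99 : edgesRangeI iota E 10 2541 238523 = true := by decide +kernel

set_option maxRecDepth 1000000 in
theorem edges_0_156 : edgesRangeI iota E 0 1736 280276 = true := by decide +kernel

set_option maxRecDepth 1000000 in
theorem edges_2_49 : edgesRangeI iota E 2 1793 90906 = true := by decide +kernel

set_option maxRecDepth 1000000 in
theorem edges_3_105 : edgesRangeI iota E 3 1767 198220 = true := by decide +kernel

set_option maxRecDepth 1000000 in
theorem edges_5_47 : edgesRangeI iota E 5 1847 85316 = true := by decide +kernel

set_option maxRecDepth 1000000 in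
theorem edges_6_127 : edgesRangeI iota E 6 1940 237921 = true := by decide +kernel

set_option maxRecDepth 1000000 in
theorem edges_8_71 : edgesRangeI iota E 8 2097 137209 = true := by decide +kernel

set_option maxRecDepth 1000000 in
theorem edges_9_159 : edgesRangeI iota E 9 1490 291322 = true := by decide +kernel

set_option maxRecDepth 1000000 in
theorem edges_0_12 : edgesRangeI iota E 0 1729 21583 = true := by decide +kernel

set_option maxRecDepth 1000000 in
theorem edges_1_17 : edgesRangeI iota E 1 1848 30356 = true := by decide +kernel

set_option maxRecDepth 1000000 in
theorem edges_2_50 : edgesRangeI iota E 2 1900 92699 = true := by decide +kernel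

set_option maxRecDepth 1000000 in
theorem edges_3_144 : edgesRangeI iota E 3 1745 267120 = true := by decide +kernel

set_option maxRecDepth 1000000 in
theorem edges_5_0 : edgesRangeI iota E 5 1756 0 = true := by decide +kernel

set_option maxRecDepth 1000000 in
theorem edges_6_29 : edgesRangeI iota E 6 1867 55841 = true := by decide +kernel

set_option maxRecDepth 1000000 in
theorem edges_7_110 : edgesRangeI iota E 7 1615 206244 = true := by decide +kernel

set_option maxRecDepth 1000000 in
theorem edges_9_59 : edgesRangeI iota E 9 1646 113432 = true := by decide +kernel

set_option maxRecDepth 1000000 in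
theorem edges_10_84 : edgesRangeI iota E 10 2740 203540 = true := by decide +kernel

set_option maxRecDepth 1000000 in
theorem edges_0_64 : edgesRangeI iota E 0 1823 115744 = true := by decide +kernel

set_option maxRecDepth 1000000 in
theorem edges_1_137 : edgesRangeI iota E 1 1686 249721 = true := by decide +kernel

set_option maxRecDepth 1000000 in
theorem edges_3_35 : edgesRangeI iota E 3 1996 65544 = true := by decide +kernel

set_option maxRecDepth 1000000 in
theorem edges_4_90 : edgesRangeI iota E 4 1979 171942 = true := by decide +kernel

set_option maxRecDepth 1000000 in
theorem edges_5_152 : edgesRangeI iota E 5 1996 283406 = true := by decide +kernel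

set_option maxRecDepth 1000000 in
theorem edges_7_2 : edgesRangeI iota E 7 1884 4040 = true := by decide +kernel

set_option maxRecDepth 1000000 in
theorem edges_8_43 : edgesRangeI iota E 8 2069 82958 = true := by decide +kernel

set_option maxRecDepth 1000000 in
theorem edges_9_109 : edgesRangeI iota E 9 1709 203828 = true := by decide +kernel

set_option maxRecDepth 1000000 in
theorem edges_10_106 : edgesRangeI iota E 10 2357 254490 = true := by decide +kernel

set_option maxRecDepth 1000000 in
theorem aliases_9 : aliasRange E 7964 69518 = true := by decide +kernel

set_option maxRecDepth 1000000 in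
theorem rows_16 : rowsRange E RS 1500 24000 = true := by decide +kernel

set_option maxRecDepth 1000000 in
theorem rows_48 : rowsRange E RS 1500 72000 = true := by decide +kernel

set_option maxRecDepth 1000000 in
theorem rows_96 : rowsRange E RS 1500 144000 = true := by decide +kernel

set_option maxRecDepth 1000000 in
theorem rows_144 : rowsRange E RS 1500 216000 = true := by decide +kernel

set_option maxRecDepth 1000000 in
theorem rows_192 : rowsRange E RS 1500 288000 = true := by decide +kernel

end Cfsg.Agent.Helper5.FiZATC
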