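import Cfsg.Agent.Helper5.FiZATCDatD
import Cfsg.Agent.Helper5.TCIB

/-! kernel checks of edges, aliases, rows: FiZATC -/

set_option autoImplicit false
set_option Elab.async false

namespace Cfsg.Agent.Helper5.FiZATC
open Cfsg.Agent.Helper5.TC Cfsg.Agent.Helper5.TCI

set_option maxRecDepth 1000000 in
theorem edges_11_74 : edgesRangeI iota E 11 2275 198284 = true := by decide +kernel

set_option maxRecDepth 1000000 in
theorem edges_0_42 : edgesRangeI iota E 0 1797 76054 = true := by decide +kernel

set_option maxRecDepth 1000000 in
theorem edges_2_42 : edgesRangeI iota E 2 1902 77674 = true := by decide +kernel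

set_option maxRecDepth 1000000 in
theorem edges_4_139 : edgesRangeI iota E 4 1766 263534 = true := by decide +kernel

set_option maxRecDepth 1000000 in
theorem edges_7_31 : edgesRangeI iota E 7 1735 61180 = true := by decide +kernel

set_option maxRecDepth 1000000 in
theorem edges_9_65 : edgesRangeI iota E 9 1394 125122 = true := by decide +kernel

set_option maxRecDepth 1000000 in
theorem edges_0_169 : edgesRangeI iota E 0 1625 301448 = true := by decide +kernel

set_option maxRecDepth 1000000 in
theorem edges_3_11 : edgesRangeI iota E 3 1932 20050 = true := by decide +kernel

set_option maxRecDepth 1000000 in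
theorem edges_5_142 : edgesRangeI iota E 5 2050 265644 = true := by decide +kernel

set_option maxRecDepth 1000000 in
theorem edges_7_159 : edgesRangeI iota E 7 1654 292441 = true := by decide +kernel

set_option maxRecDepth 1000000 in
theorem edges_11_22 : edgesRangeI iota E 11 2466 58456 = true := by decide +kernel

set_option maxRecDepth 1000000 in
theorem edges_2_72 : edgesRangeI iota E 2 1827 134246 = true := by decide +kernel

set_option maxRecDepth 1000000 in
theorem edges_4_77 : edgesRangeI iota E 4 1878 146298 = true := by decide +kernel

set_option maxRecDepth 1000000 in
theorem edges_7_54 : edgesRangeI iota E 7 2280 104234 = true := by decide +kernel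

set_option maxRecDepth 1000000 in
theorem edges_9_107 : edgesRangeI iota E 9 1617 200309 = true := by decide +kernel

set_option maxRecDepth 1000000 in
theorem edges_0_107 : edgesRangeI iota E 0 1805 194103 = true := by decide +kernel

set_option maxRecDepth 1000000 in
theorem edges_1_147 : edgesRangeI iota E 1 1806 266626 = true := by decide +kernel

set_option maxRecDepth 1000000 in
theorem edges_3_47 : edgesRangeI iota E 3 1810 88378 = true := by decide +kernel

set_option maxRecDepth 1000000 in
theorem edges_4_162 : edgesRangeI iota E 4 1657 301067 = true := by decide +kernel

set_option maxRecDepth 1000000 in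
theorem edges_6_94 : edgesRangeI iota E 6 1808 177813 = true := by decide +kernel

set_option maxRecDepth 1000000 in
theorem edges_8_7 : edgesRangeI iota E 8 1943 14041 = true := by decide +kernel

set_option maxRecDepth 1000000 in
theorem edges_9_103 : edgesRangeI iota E 9 1461 194130 = true := by decide +kernel

set_option maxRecDepth 1000000 in
theorem edges_11_76 : edgesRangeI iota E 11 2368 203120 = true := by decide +kernel

set_option maxRecDepth 1000000 in
theorem edges_1_3 : edgesRangeI iota E 1 1722 5461 = true := by decide +kernel

set_option maxRecDepth 1000000 in
theorem edges_2_31 : edgesRangeI iota E 2 1951 56897 = true := by decide +kernel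

set_option maxRecDepth 1000000 in
theorem edges_3_121 : edgesRangeI iota E 3 1677 227078 = true := by decide +kernel

set_option maxRecDepth 1000000 in
theorem edges_4_153 : edgesRangeI iota E 4 1484 287013 = true := by decide +kernel

set_option maxRecDepth 1000000 in
theorem edges_6_16 : edgesRangeI iota E 6 1956 30335 = true := by decide +kernel

set_option maxRecDepth 1000000 in
theorem edges_7_94 : edgesRangeI iota E 7 1851 177020 = true := by decide +kernel

set_option maxRecDepth 1000000 in
theorem edges_9_50 : edgesRangeI iota E 9 1698 96734 = true := by decide +kernel

set_option maxRecDepth 1000000 in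
theorem edges_10_75 : edgesRangeI iota E 10 1490 182768 = true := by decide +kernel

set_option maxRecDepth 1000000 in
theorem edges_0_50 : edgesRangeI iota E 0 1784 90564 = true := by decide +kernel

set_option maxRecDepth 1000000 in
theorem edges_1_124 : edgesRangeI iota E 1 1722 227002 = true := by decide +kernel

set_option maxRecDepth 1000000 in
theorem edges_3_6 : edgesRangeI iota E 3 1802 10902 = true := by decide +kernel

set_option maxRecDepth 1000000 in
theorem edges_4_78 : edgesRangeI iota E 4 2039 148176 = true := by decide +kernel

set_option maxRecDepth 1000000 in
theorem edges_5_121 : edgesRangeI iota E 5 1835 226055 = true := by decide +kernel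

set_option maxRecDepth 1000000 in
theorem edges_6_163 : edgesRangeI iota E 6 1735 300841 = true := by decide +kernel

set_option maxRecDepth 1000000 in
theorem edges_8_32 : edgesRangeI iota E 8 1759 61990 = true := by decide +kernel

set_option maxRecDepth 1000000 in
theorem edges_9_93 : edgesRangeI iota E 9 1669 175047 = true := by decide +kernel

set_option maxRecDepth 1000000 in
theorem edges_10_86 : edgesRangeI iota E 10 1666 208672 = true := by decide +kernel

set_option maxRecDepth 1000000 in
theorem aliases_6 : aliasRange E 8000 45518 = true := by decide +kernel

set_option maxRecDepth 1000000 in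
theorem rows_13 : rowsRange E RS 1500 19500 = true := by decide +kernel

set_option maxRecDepth 1000000 in
theorem rows_44 : rowsRange E RS 1500 66000 = true := by decide +kernel

set_option maxRecDepth 1000000 in
theorem rows_92 : rowsRange E RS 1500 138000 = true := by decide +kernel

set_option maxRecDepth 1000000 in
theorem rows_140 : rowsRange E RS 1500 210000 = true := by decide +kernel

set_option maxRecDepth 1000000 in
theorem rows_188 : rowsRange E RS 1500 282000 = true := by decide +kernel

end Cfsg.Agent.Helper5.FiZATC
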