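import Cfsg.Agent.Helper5.FiZATCDatD
import Cfsg.Agent.Helper5.TCIB

/-! kernel checks of edges, aliases, rows: FiZATC -/

set_option autoImplicit false
set_option Elab.async false

namespace Cfsg.Agent.Helper5.FiZATC
open Cfsg.Agent.Helper5.TC Cfsg.Agent.Helper5.TCI

set_option maxRecDepth 1000000 in
theorem edges_2_15 : edgesRangeI iota E 2 1859 26890 = true := by decide +kernel

set_option maxRecDepth 1000000 in
theorem edges_0_134 : edgesRangeI iota E 0 1883 242489 = true := by decide +kernel

set_option maxRecDepth 1000000 in
theorem edges_0_127 : edgesRangeI iota E 0 1742 229825 = true := by decide +kernel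

set_option maxRecDepth 1000000 in
theorem edges_2_151 : edgesRangeI iota E 2 1619 278433 = true := by decide +kernel

set_option maxRecDepth 1000000 in
theorem edges_5_93 : edgesRangeI iota E 5 1909 171683 = true := by decide +kernel

set_option maxRecDepth 1000000 in
theorem edges_7_166 : edgesRangeI iota E 7 1615 303888 = true := by decide +kernel

set_option maxRecDepth 1000000 in
theorem edges_10_53 : edgesRangeI iota E 10 3009 129176 = true := by decide +kernel

set_option maxRecDepth 1000000 in
theorem edges_1_148 : edgesRangeI iota E 1 1575 268432 = true := by decide +kernel

set_option maxRecDepth 1000000 in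
theorem edges_4_1 : edgesRangeI iota E 4 1853 1792 = true := by decide +kernel

set_option maxRecDepth 1000000 in
theorem edges_6_88 : edgesRangeI iota E 6 1961 166902 = true := by decide +kernel

set_option maxRecDepth 1000000 in
theorem edges_8_153 : edgesRangeI iota E 8 1924 300144 = true := by decide +kernel

set_option maxRecDepth 1000000 in
theorem edges_0_151 : edgesRangeI iota E 0 1761 271952 = true := by decide +kernel

set_option maxRecDepth 1000000 in
theorem edges_3_70 : edgesRangeI iota E 3 1903 131991 = true := by decide +kernel

set_option maxRecDepth 1000000 in
theorem edges_5_61 : edgesRangeI iota E 5 1933 110830 = true := by decide +kernel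

set_option maxRecDepth 1000000 in
theorem edges_8_38 : edgesRangeI iota E 8 1797 73468 = true := by decide +kernel

set_option maxRecDepth 1000000 in
theorem edges_11_29 : edgesRangeI iota E 11 2762 77150 = true := by decide +kernel

set_option maxRecDepth 1000000 in
theorem edges_1_42 : edgesRangeI iota E 1 1705 76036 = true := by decide +kernel

set_option maxRecDepth 1000000 in
theorem edges_2_125 : edgesRangeI iota E 2 1883 233981 = true := by decide +kernel

set_option maxRecDepth 1000000 in
theorem edges_4_38 : edgesRangeI iota E 4 1925 69714 = true := by decide +kernel

set_option maxRecDepth 1000000 in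
theorem edges_5_119 : edgesRangeI iota E 5 1885 222452 = true := by decide +kernel

set_option maxRecDepth 1000000 in
theorem edges_7_20 : edgesRangeI iota E 7 2069 39573 = true := by decide +kernel

set_option maxRecDepth 1000000 in
theorem edges_9_28 : edgesRangeI iota E 9 1456 56470 = true := by decide +kernel

set_option maxRecDepth 1000000 in
theorem edges_10_88 : edgesRangeI iota E 10 2646 212898 = true := by decide +kernel

set_option maxRecDepth 1000000 in
theorem edges_0_60 : edgesRangeI iota E 0 1744 108702 = true := by decide +kernel

set_option maxRecDepth 1000000 in
theorem edges_1_121 : edgesRangeI iota E 1 1754 221737 = true := by decide +kernel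

set_option maxRecDepth 1000000 in
theorem edges_3_9 : edgesRangeI iota E 3 1862 16359 = true := by decide +kernel

set_option maxRecDepth 1000000 in
theorem edges_4_55 : edgesRangeI iota E 4 1984 102783 = true := by decide +kernel

set_option maxRecDepth 1000000 in
theorem edges_5_71 : edgesRangeI iota E 5 1760 129435 = true := by decide +kernel

set_option maxRecDepth 1000000 in
theorem edges_6_138 : edgesRangeI iota E 6 1751 257634 = true := by decide +kernel

set_option maxRecDepth 1000000 in
theorem edges_8_78 : edgesRangeI iota E 8 1897 151435 = true := by decide +kernel

set_option maxRecDepth 1000000 in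
theorem edges_9_143 : edgesRangeI iota E 9 2413 263932 = true := by decide +kernel

set_option maxRecDepth 1000000 in
theorem edges_11_68 : edgesRangeI iota E 11 2693 182064 = true := by decide +kernel

set_option maxRecDepth 1000000 in
theorem edges_1_26 : edgesRangeI iota E 1 1704 46682 = true := by decide +kernel

set_option maxRecDepth 1000000 in
theorem edges_2_82 : edgesRangeI iota E 2 1940 153258 = true := by decide +kernel

set_option maxRecDepth 1000000 in
theorem edges_3_129 : edgesRangeI iota E 3 1783 241117 = true := by decide +kernel

set_option maxRecDepth 1000000 in
theorem edges_5_14 : edgesRangeI iota E 5 1841 25222 = true := by decide +kernel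

set_option maxRecDepth 1000000 in
theorem edges_6_64 : edgesRangeI iota E 6 1897 122512 = true := by decide +kernel

set_option maxRecDepth 1000000 in
theorem edges_7_99 : edgesRangeI iota E 7 1971 186050 = true := by decide +kernel

set_option maxRecDepth 1000000 in
theorem edges_8_125 : edgesRangeI iota E 8 1671 247692 = true := by decide +kernel

set_option maxRecDepth 1000000 in
theorem edges_10_28 : edgesRangeI iota E 10 2699 70000 = true := by decide +kernel

set_option maxRecDepth 1000000 in
theorem edges_11_60 : edgesRangeI iota E 11 2711 160567 = true := by decide +kernel

set_option maxRecDepth 1000000 in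
theorem aliases_32 : aliasRange E 8000 253434 = true := by decide +kernel

set_option maxRecDepth 1000000 in
theorem rows_71 : rowsRange E RS 1500 106500 = true := by decide +kernel

set_option maxRecDepth 1000000 in
theorem rows_119 : rowsRange E RS 1500 178500 = true := by decide +kernel

set_option maxRecDepth 1000000 in
theorem rows_167 : rowsRange E RS 1500 250500 = true := by decide +kernel

set_option maxRecDepth 1000000 in
theorem rows_205 : rowsRange E RS 104 307500 = true := by decide +kernel

end Cfsg.Agent.Helper5.FiZATC
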