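import Cfsg.Agent.Helper5.FiZATCDatD
import Cfsg.Agent.Helper5.TCIB

/-! kernel checks of edges, aliases, rows: FiZATC -/

set_option autoImplicit false
set_option Elab.async false

namespace Cfsg.Agent.Helper5.FiZATC
open Cfsg.Agent.Helper5.TC Cfsg.Agent.Helper5.TCI

set_option maxRecDepth 1000000 in
theorem edges_11_92 : edgesRangeI iota E 11 2822 243778 = true := by decide +kernel

set_option maxRecDepth 1000000 in
theorem edges_8_104 : edgesRangeI iota E 8 2120 204219 = true := by decide +kernel

set_option maxRecDepth 1000000 in
theorem edges_1_64 : edgesRangeI iota E 1 2001 116975 = true := by decide +kernel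

set_option maxRecDepth 1000000 in
theorem edges_3_152 : edgesRangeI iota E 3 1718 280252 = true := by decide +kernel

set_option maxRecDepth 1000000 in
theorem edges_6_74 : edgesRangeI iota E 6 1910 140867 = true := by decide +kernel

set_option maxRecDepth 1000000 in
theorem edges_8_111 : edgesRangeI iota E 8 2164 219259 = true := by decide +kernel

set_option maxRecDepth 1000000 in
theorem edges_11_121 : edgesRangeI iota E 11 1441 302627 = true := by decide +kernel

set_option maxRecDepth 1000000 in
theorem edges_2_111 : edgesRangeI iota E 2 1933 208110 = true := by decide +kernel

set_option maxRecDepth 1000000 in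
theorem edges_5_22 : edgesRangeI iota E 5 1880 39893 = true := by decide +kernel

set_option maxRecDepth 1000000 in
theorem edges_7_58 : edgesRangeI iota E 7 1813 111814 = true := by decide +kernel

set_option maxRecDepth 1000000 in
theorem edges_9_155 : edgesRangeI iota E 9 1587 284960 = true := by decide +kernel

set_option maxRecDepth 1000000 in
theorem edges_1_114 : edgesRangeI iota E 1 1807 209001 = true := by decide +kernel

set_option maxRecDepth 1000000 in
theorem edges_3_158 : edgesRangeI iota E 3 1662 290005 = true := by decide +kernel

set_option maxRecDepth 1000000 in
theorem edges_6_86 : edgesRangeI iota E 6 1847 163061 = true := by decide +kernel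

set_option maxRecDepth 1000000 in
theorem edges_9_1 : edgesRangeI iota E 9 2304 2155 = true := by decide +kernel

set_option maxRecDepth 1000000 in
theorem edges_0_20 : edgesRangeI iota E 0 1756 36046 = true := by decide +kernel

set_option maxRecDepth 1000000 in
theorem edges_1_24 : edgesRangeI iota E 1 1748 43113 = true := by decide +kernel

set_option maxRecDepth 1000000 in
theorem edges_2_90 : edgesRangeI iota E 2 1796 168812 = true := by decide +kernel

set_option maxRecDepth 1000000 in
theorem edges_4_4 : edgesRangeI iota E 4 1696 7250 = true := by decide +kernel

set_option maxRecDepth 1000000 in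
theorem edges_5_104 : edgesRangeI iota E 5 2009 193041 = true := by decide +kernel

set_option maxRecDepth 1000000 in
theorem edges_7_7 : edgesRangeI iota E 7 2069 13760 = true := by decide +kernel

set_option maxRecDepth 1000000 in
theorem edges_9_11 : edgesRangeI iota E 9 1976 22894 = true := by decide +kernel

set_option maxRecDepth 1000000 in
theorem edges_10_68 : edgesRangeI iota E 10 2679 165825 = true := by decide +kernel

set_option maxRecDepth 1000000 in
theorem edges_0_49 : edgesRangeI iota E 0 1739 88825 = true := by decide +kernel

set_option maxRecDepth 1000000 in
theorem edges_1_103 : edgesRangeI iota E 1 1874 189187 = true := by decide +kernel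

set_option maxRecDepth 1000000 in
theorem edges_2_139 : edgesRangeI iota E 2 1724 258621 = true := by decide +kernel

set_option maxRecDepth 1000000 in
theorem edges_4_41 : edgesRangeI iota E 4 1912 75461 = true := by decide +kernel

set_option maxRecDepth 1000000 in
theorem edges_5_57 : edgesRangeI iota E 5 1856 103581 = true := by decide +kernel

set_option maxRecDepth 1000000 in
theorem edges_6_107 : edgesRangeI iota E 6 1716 201713 = true := by decide +kernel

set_option maxRecDepth 1000000 in
theorem edges_8_46 : edgesRangeI iota E 8 1742 88843 = true := by decide +kernel

set_option maxRecDepth 1000000 in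
theorem edges_9_129 : edgesRangeI iota E 9 2489 239017 = true := by decide +kernel

set_option maxRecDepth 1000000 in
theorem edges_11_52 : edgesRangeI iota E 11 3033 138928 = true := by decide +kernel

set_option maxRecDepth 1000000 in
theorem edges_0_153 : edgesRangeI iota E 0 1699 275319 = true := by decide +kernel

set_option maxRecDepth 1000000 in
theorem edges_2_52 : edgesRangeI iota E 2 1952 96454 = true := by decide +kernel

set_option maxRecDepth 1000000 in
theorem edges_3_97 : edgesRangeI iota E 3 1858 183153 = true := by decide +kernel

set_option maxRecDepth 1000000 in
theorem edges_4_155 : edgesRangeI iota E 4 1570 290058 = true := by decide +kernel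

set_option maxRecDepth 1000000 in
theorem edges_6_48 : edgesRangeI iota E 6 1967 92317 = true := by decide +kernel

set_option maxRecDepth 1000000 in
theorem edges_7_70 : edgesRangeI iota E 7 1539 133794 = true := by decide +kernel

set_option maxRecDepth 1000000 in
theorem edges_8_109 : edgesRangeI iota E 8 2330 214737 = true := by decide +kernel

set_option maxRecDepth 1000000 in
theorem edges_10_9 : edgesRangeI iota E 10 2515 23124 = true := by decide +kernel

set_option maxRecDepth 1000000 in
theorem edges_11_34 : edgesRangeI iota E 11 2684 90615 = true := by decide +kernel

set_option maxRecDepth 1000000 in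
theorem aliases_27 : aliasRange E 8000 213434 = true := by decide +kernel

set_option maxRecDepth 1000000 in
theorem rows_66 : rowsRange E RS 1500 99000 = true := by decide +kernel

set_option maxRecDepth 1000000 in
theorem rows_114 : rowsRange E RS 1500 171000 = true := by decide +kernel

set_option maxRecDepth 1000000 in
theorem rows_162 : rowsRange E RS 1500 243000 = true := by decide +kernel

set_option maxRecDepth 1000000 in
theorem edges_5_166 : edgesRangeI iota E 5 611 306993 = true := by decide +kernel

end Cfsg.Agent.Helper5.FiZATC
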