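import Cfsg.Agent.Helper5.FiZATCDatD
import Cfsg.Agent.Helper5.FiZATCDatT
import Cfsg.Agent.Helper5.TCIB

/-! kernel checks of the coset table: FiZATC -/

set_option autoImplicit false
set_option Elab.async false

namespace Cfsg.Agent.Helper5.FiZATC
open Cfsg.Agent.Helper5.TC Cfsg.Agent.Helper5.TCI

set_option maxRecDepth 1000000 in
theorem relc_50_0 : fixPtsF W_50 100000 0 = true := by decide +kernel

set_option maxRecDepth 1000000 in
theorem relc_2_3 : fixPtsF W_2 50000 150000 = true := by decide +kernel

set_option maxRecDepth 1000000 in
theorem relc_4_3 : fixPtsF W_4 50000 150000 = true := by decide +kernel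

set_option maxRecDepth 1000000 in
theorem relc_9_3 : fixPtsF W_9 50000 150000 = true := by decide +kernel

set_option maxRecDepth 1000000 in
theorem relc_15_3 : fixPtsF W_15 50000 150000 = true := by decide +kernel

set_option maxRecDepth 1000000 in
theorem relc_19_3 : fixPtsF W_19 50000 150000 = true := by decide +kernel

set_option maxRecDepth 1000000 in
theorem relc_26_3 : fixPtsF W_26 50000 150000 = true := by decide +kernel

set_option maxRecDepth 1000000 in
theorem relc_30_3 : fixPtsF W_30 50000 150000 = true := by decide +kernel

set_option maxRecDepth 1000000 in
theorem relc_35_3 : fixPtsF W_35 50000 150000 = true := by decide +kernel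

set_option maxRecDepth 1000000 in
theorem relc_40_3 : fixPtsF W_40 50000 150000 = true := by decide +kernel

set_option maxRecDepth 1000000 in
theorem relc_46_3 : fixPtsF W_46 50000 150000 = true := by decide +kernel

set_option maxRecDepth 1000000 in
theorem relc_51_3 : fixPtsF W_51 50000 150000 = true := by decide +kernel

set_option maxRecDepth 1000000 in
theorem relc_55_3 : fixPtsF W_55 50000 150000 = true := by decide +kernel

set_option maxRecDepth 1000000 in
theorem relc_61_3 : fixPtsF W_61 50000 150000 = true := by decide +kernel

set_option maxRecDepth 1000000 in
theorem relc_67_3 : fixPtsF W_67 50000 150000 = true := by decide +kernel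

set_option maxRecDepth 1000000 in
theorem relc_74_3 : fixPtsF W_74 50000 150000 = true := by decide +kernel

set_option maxRecDepth 1000000 in
theorem relc_24_0 : fixPtsF W_24 33333 0 = true := by decide +kernel

set_option maxRecDepth 1000000 in
theorem relc_36_6 : fixPtsF W_36 33333 199998 = true := by decide +kernel

set_option maxRecDepth 1000000 in
theorem relc_65_3 : fixPtsF W_65 33333 99999 = true := by decide +kernel

set_option maxRecDepth 1000000 in
theorem relc_78_0 : fixPtsF W_78 3125 0 = true := by decide +kernel

set_option maxRecDepth 1000000 in
theorem relc_78_15 : fixPtsF W_78 3125 46875 = true := by decide +kernel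

set_option maxRecDepth 1000000 in
theorem relc_78_39 : fixPtsF W_78 3125 121875 = true := by decide +kernel

set_option maxRecDepth 1000000 in
theorem relc_78_63 : fixPtsF W_78 3125 196875 = true := by decide +kernel

set_option maxRecDepth 1000000 in
theorem relc_78_87 : fixPtsF W_78 3125 271875 = true := by decide +kernel

set_option maxRecDepth 1000000 in
theorem relc_80_13 : fixPtsF W_80 2222 28886 = true := by decide +kernel

set_option maxRecDepth 1000000 in
theorem relc_80_37 : fixPtsF W_80 2222 82214 = true := by decide +kernel

set_option maxRecDepth 1000000 in
theorem relc_80_61 : fixPtsF W_80 2222 135542 = true := by decide +kernel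

set_option maxRecDepth 1000000 in
theorem relc_80_85 : fixPtsF W_80 2222 188870 = true := by decide +kernel

set_option maxRecDepth 1000000 in
theorem relc_80_109 : fixPtsF W_80 2222 242198 = true := by decide +kernel

set_option maxRecDepth 1000000 in
theorem relc_80_133 : fixPtsF W_80 2222 295526 = true := by decide +kernel

set_option maxRecDepth 1000000 in
theorem relc_79_19 : fixPtsF W_79 840 15960 = true := by decide +kernel

set_option maxRecDepth 1000000 in
theorem relc_79_43 : fixPtsF W_79 840 36120 = true := by decide +kernel

set_option maxRecDepth 1000000 in
theorem relc_79_67 : fixPtsF W_79 840 56280 = true := by decide +kernel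

set_option maxRecDepth 1000000 in
theorem relc_79_91 : fixPtsF W_79 840 76440 = true := by decide +kernel

set_option maxRecDepth 1000000 in
theorem relc_79_115 : fixPtsF W_79 840 96600 = true := by decide +kernel

set_option maxRecDepth 1000000 in
theorem relc_79_139 : fixPtsF W_79 840 116760 = true := by decide +kernel

set_option maxRecDepth 1000000 in
theorem relc_79_163 : fixPtsF W_79 840 136920 = true := by decide +kernel

set_option maxRecDepth 1000000 in
theorem relc_79_187 : fixPtsF W_79 840 157080 = true := by decide +kernel

set_option maxRecDepth 1000000 in
theorem relc_79_211 : fixPtsF W_79 840 177240 = true := by decide +kernel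

set_option maxRecDepth 1000000 in
theorem relc_79_235 : fixPtsF W_79 840 197400 = true := by decide +kernel

set_option maxRecDepth 1000000 in
theorem relc_79_259 : fixPtsF W_79 840 217560 = true := by decide +kernel

set_option maxRecDepth 1000000 in
theorem relc_79_283 : fixPtsF W_79 840 237720 = true := by decide +kernel

set_option maxRecDepth 1000000 in
theorem relc_79_307 : fixPtsF W_79 840 257880 = true := by decide +kernel

set_option maxRecDepth 1000000 in
theorem relc_79_331 : fixPtsF W_79 840 278040 = true := by decide +kernel

set_option maxRecDepth 1000000 in
theorem relc_79_355 : fixPtsF W_79 840 298200 = true := by decide +kernel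

set_option maxRecDepth 1000000 in
theorem inv_2_2 : invRowFI ctF 306936 2 2 50000 100000 = true := by decide +kernel

set_option maxRecDepth 1000000 in
theorem inv_6_2 : invRowFI ctF 306936 6 6 50000 100000 = true := by decide +kernel

set_option maxRecDepth 1000000 in
theorem inv_10_2 : invRowFI ctF 306936 10 10 50000 100000 = true := by decide +kernel

set_option maxRecDepth 1000000 in
theorem relc_15_6 : fixPtsF W_15 6936 300000 = true := by decide +kernel

set_option maxRecDepth 1000000 in
theorem relc_46_6 : fixPtsF W_46 6936 300000 = true := by decide +kernel

set_option maxRecDepth 1000000 in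
theorem relc_23_3 : fixPtsF W_23 6936 300000 = true := by decide +kernel

set_option maxRecDepth 1000000 in
theorem inv_3_6 : invRowFI ctF 306936 3 3 6936 300000 = true := by decide +kernel

end Cfsg.Agent.Helper5.FiZATC
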