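import Mathlib
import Cfsg.Agent.Helper3.CosetCert

set_option autoImplicit false

/-!
The group `⟨a, b, d | a² = b² = d² = (ab)³ = (ad)³ = (bd)³ = (a·dbd)³ = 1⟩` of order 54, through a
verified coset table: equal walks give equal words in any group satisfying the relations.
-/

namespace Cfsg.Agent.Helper5.Fischer54

open Cfsg.Agent.Helper3.CosetCert

def actTab : List (List ℕ) :=
  [[1, 2, 3],
   [0, 4, 7],
   [6, 0, 10],
   [9, 12, 0],
   [5, 1, 19],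
   [4, 6, 35],
   [2, 5, 20],
   [8, 13, 1],
   [7, 31, 9],
   [3, 29, 8],
   [22, 11, 2],
   [18, 10, 12],
   [28, 3, 11],
   [41, 7, 14],
   [15, 19, 13],
   [14, 48, 16],
   [40, 17, 15],
   [27, 16, 18],
   [11, 47, 17],
   [37, 14, 4],
   [21, 23, 6],
   [20, 34, 22],
   [10, 46, 21],
   [38, 20, 24],
   [25, 35, 23],
   [24, 52, 26],
   [39, 27, 25],
   [17, 26, 28],
   [12, 30, 27],
   [30, 9, 43],
   [29, 28, 52],
   [42, 8, 32],
   [33, 43, 31],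
   [32, 51, 34],
   [50, 21, 33],
   [36, 24, 5],
   [35, 45, 37],
   [19, 49, 36],
   [23, 50, 39],
   [26, 40, 38],
   [16, 39, 41],
   [13, 42, 40],
   [31, 41, 50],
   [44, 32, 29],
   [43, 53, 45],
   [52, 36, 44],
   [47, 22, 51],
   [46, 18, 48],
   [49, 15, 47],
   [48, 37, 53],
   [34, 38, 42],
   [53, 33, 46],
   [45, 25, 30],
   [51, 44, 49]]

def wordTab : List (List (Fin 3)) :=
  [[],
   [0],
   [1],
   [2],
   [0, 1],
   [0, 1, 0],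
   [1, 0],
   [0, 2],
   [0, 2, 0],
   [2, 0],
   [1, 2],
   [1, 2, 1],
   [2, 1],
   [0, 2, 1],
   [0, 1, 2, 1],
   [0, 1, 2, 1, 0],
   [0, 1, 2, 1, 0, 2],
   [1, 2, 1, 0, 2],
   [1, 2, 1, 0],
   [0, 1, 2],
   [1, 0, 2],
   [1, 0, 2, 0],
   [1, 2, 0],
   [1, 0, 2, 1],
   [0, 1, 0, 2, 1],
   [0, 1, 0, 2, 1, 0],
   [2, 1, 0, 2, 1],
   [2, 1, 0, 2],
   [2, 1, 0],
   [2, 0, 1],
   [2, 0, 1, 0],
   [0, 2, 0, 1],
   [0, 2, 0, 1, 2],
   [0, 2, 0, 1, 2, 0],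
   [1, 0, 2, 0, 1],
   [0, 1, 0, 2],
   [0, 1, 0, 2, 0],
   [0, 1, 2, 0],
   [1, 0, 2, 1, 0],
   [0, 2, 1, 0, 2, 1],
   [0, 2, 1, 0, 2],
   [0, 2, 1, 0],
   [0, 2, 0, 1, 0],
   [2, 0, 1, 2],
   [2, 0, 1, 2, 0],
   [0, 1, 0, 2, 0, 1],
   [1, 2, 0, 1],
   [1, 2, 0, 1, 0],
   [0, 1, 2, 0, 1, 0],
   [0, 1, 2, 0, 1],
   [0, 2, 0, 1, 0, 2],
   [1, 2, 0, 1, 2],
   [2, 0, 1, 0, 2],
   [0, 1, 2, 0, 1, 2]]

def cert : List (Fin 54 × List (Fin 3) × Fin 3 × List (Fin 3)) :=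
  [(0, [0], 0, []),
   (0, [1], 1, []),
   (0, [2], 2, []),
   (1, [1], 1, []),
   (1, [2], 2, []),
   (2, [0], 0, []),
   (2, [2], 2, []),
   (3, [0], 0, []),
   (3, [1], 1, []),
   (4, [0], 0, []),
   (4, [2], 2, []),
   (4, [0], 1, [0, 1, 0, 1]),
   (5, [1], 1, []),
   (5, [2], 2, []),
   (6, [2], 2, []),
   (7, [0], 0, []),
   (7, [1], 1, []),
   (7, [0], 2, [0, 2, 0, 2]),
   (8, [1], 1, []),
   (8, [2], 2, []),
   (9, [1], 1, []),
   (10, [0], 0, []),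
   (10, [1], 1, []),
   (10, [1], 2, [1, 2, 1, 2]),
   (11, [0], 0, []),
   (11, [2], 2, []),
   (12, [0], 0, []),
   (13, [0], 0, []),
   (13, [1, 2, 1, 2, 1], 2, []),
   (14, [0], 0, []),
   (14, [], 1, [1]),
   (14, [2], 2, []),
   (15, [2], 2, []),
   (15, [0, 1, 0, 1, 0], 1, []),
   (15, [0, 2, 0, 2], 0, [2]),
   (15, [0, 2, 1, 2, 0, 2, 1, 2, 0, 2], 1, [2]),
   (16, [], 0, [0]),
   (16, [], 1, [1]),
   (16, [0], 2, [0, 2, 0, 2]),
   (17, [], 2, [2]),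
   (18, [0, 1, 0, 1, 0], 1, []),
   (18, [0, 2, 0, 2], 0, [2]),
   (19, [0], 0, []),
   (20, [0], 0, []),
   (20, [1], 1, []),
   (20, [0], 2, [0, 2, 0, 2]),
   (21, [1], 1, []),
   (21, [2], 2, []),
   (22, [1], 1, []),
   (22, [0, 2, 1, 2, 0, 2, 1, 2, 0], 2, [1, 2]),
   (23, [0], 0, []),
   (23, [1, 2, 1, 2, 1], 2, []),
   (24, [0], 0, []),
   (24, [], 1, [1]),
   (24, [2], 2, []),
   (25, [0, 2, 1, 2, 0, 2, 1, 2, 0, 2, 1], 2, []),
   (26, [], 1, [1]),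
   (26, [2], 2, []),
   (27, [0], 0, []),
   (27, [], 2, [2]),
   (27, [0, 1, 0, 1], 0, [1]),
   (28, [0, 1, 0, 1, 0], 1, []),
   (29, [0], 0, []),
   (29, [2], 2, []),
   (29, [1, 2, 1, 2], 1, [2]),
   (30, [1], 1, []),
   (30, [2], 2, []),
   (30, [1, 2, 1, 2], 1, [2]),
   (31, [0], 0, []),
   (31, [2], 2, []),
   (31, [0], 1, [0, 1, 0, 1]),
   (31, [1, 2, 1, 2], 1, [2]),
   (32, [0], 0, []),
   (33, [2], 2, []),
   (33, [0, 2, 0, 2], 0, [2]),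
   (34, [], 0, [0]),
   (34, [0], 1, [0, 1, 0, 1]),
   (34, [0], 2, [0, 2, 0, 2]),
   (34, [1, 2, 1, 2], 1, [2]),
   (35, [0], 0, []),
   (35, [0], 2, [0, 2, 0, 2]),
   (36, [1], 1, []),
   (36, [2], 2, []),
   (36, [0, 1, 0, 1], 0, [1]),
   (37, [1], 1, []),
   (37, [0, 2, 1, 2, 0, 2, 1, 2, 0], 2, [1, 2]),
   (38, [], 1, [1]),
   (38, [1, 2, 1, 2, 1], 2, []),
   (39, [0], 0, []),
   (39, [], 1, [1]),
   (39, [2], 2, []),
   (39, [1, 2], 1, [2, 1, 2]),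
   (42, [0, 2, 1, 2, 0, 2], 1, [2, 0, 2, 1, 2]),
   (43, [0], 0, []),
   (43, [0, 2], 0, [2, 0, 2]),
   (44, [2], 2, []),
   (45, [1, 2, 1, 2], 1, [2]),
   (46, [0], 0, []),
   (46, [2], 2, []),
   (46, [1, 2, 1, 2], 1, [2]),
   (46, [0], 2, [1, 2, 0, 2, 1, 2, 0, 2, 1, 2]),
   (47, [1], 1, []),
   (47, [2], 2, []),
   (47, [1, 2, 1, 2], 1, [2]),
   (48, [], 0, [0]),
   (48, [0, 2], 0, [2, 0, 2]),
   (49, [2], 2, []),
   (49, [0, 2, 0, 2], 0, [2]),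
   (49, [1, 2, 1, 2], 1, [2])]

/-- The table as a function. -/
def act : Fin 54 → Fin 3 → Fin 54 := fun ω s =>
  ⟨((actTab.getD ω.val []).getD s.val 0) % 54, Nat.mod_lt _ (by norm_num)⟩

/-- The spanning tree words. -/
def word : Fin 54 → List (Fin 3) := fun ω => wordTab.getD ω.val []

/-- The relators as words. -/
def R : List (List (Fin 3)) :=
  [[0, 0], [1, 1], [2, 2], [0, 1, 0, 1, 0, 1], [0, 2, 0, 2, 0, 2], [1, 2, 1, 2, 1, 2],
    [0, 2, 1, 2, 0, 2, 1, 2, 0, 2, 1, 2]]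

set_option maxRecDepth 100000 in
theorem cert_ok : ∀ e : Fin 54 × Fin 3, e ∈ run act R (treeEdges act word) cert := by
  decide +kernel

theorem word_root : word 0 = [] := by decide

universe u
variable {G : Type u} [Group G]

/-- all edges are good for the evaluation by tree words -/
theorem all_good (gens : Fin 3 → G) (hR : ∀ r ∈ R, prodL gens r = 1) (e : Fin 54 × Fin 3) :
    Good gens act (fun ω => prodL gens (word ω)) e :=
  run_good gens act _ R hR cert _ (treeEdges_good gens act word) e (cert_ok e)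

/-- the product of a word is the tree word of the end of its walk -/
theorem prodL_eq_walk (gens : Fin 3 → G) (hR : ∀ r ∈ R, prodL gens r = 1) (l : List (Fin 3)) :
    prodL gens l = prodL gens (word (walk act 0 l)) := by
  have h := ev_walk gens act (fun ω => prodL gens (word ω)) 0 l
    (fun e _ => all_good gens hR e)
  rw [h, word_root, prodL_nil, one_mul]

/-- words with the same walk are equal -/
theorem word_eq (gens : Fin 3 → G) (hR : ∀ r ∈ R, prodL gens r = 1) {u v : List (Fin 3)}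
    (h : walk act 0 u = walk act 0 v) : prodL gens u = prodL gens v := by
  rw [prodL_eq_walk gens hR u, prodL_eq_walk gens hR v, h]

end Cfsg.Agent.Helper5.Fischer54
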