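import Mathlib
import Cfsg.Agent.Helper5.Fischer54A

set_option autoImplicit false

namespace Cfsg.Agent.Helper5.Fischer54

open Cfsg.Agent.Helper3.CosetCert

/-- words of the nine reflections, indexed by `3 i + j` -/
def wtTab : List (List (Fin 3)) :=
  [[0], [2], [2, 0, 2], [1], [0, 2, 1, 2, 0], [2, 1, 0, 1, 2], [1, 0, 1], [1, 2, 0, 2, 1], [2, 1, 2]]

def ctTab : List (List (Fin 3)) :=
  [[], [], [2], [], [0, 2], [2, 1], [1], [1, 2], [2]]

def stTab : List (Fin 3) := [0, 2, 0, 1, 1, 0, 0, 0, 1]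

def wt (i j : ZMod 3) : List (Fin 3) := wtTab.getD (3 * i.val + j.val) []
def ct (i j : ZMod 3) : List (Fin 3) := ctTab.getD (3 * i.val + j.val) []
def st (i j : ZMod 3) : Fin 3 := stTab.getD (3 * i.val + j.val) 0

theorem wt_form : ∀ i j : ZMod 3, wt i j = ct i j ++ [st i j] ++ (ct i j).reverse := by
  decide

set_option maxRecDepth 100000 in
theorem wt_third : ∀ i j k l : ZMod 3,
    walk act 0 (wt k l ++ wt i j ++ wt k l) = walk act 0 (wt (-(i + k)) (-(j + l))) := by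
  decide +kernel

/-- the tree words -/
def words54 : List (List (Fin 3)) := (List.finRange 54).map word

/-- reference pairs -/
def refs : List ((ZMod 3 × ZMod 3) × (ZMod 3 × ZMod 3)) :=
  [((0, 0), (1, 0)), ((0, 0), (0, 1)), ((1, 0), (0, 1)), ((0, 0), (2, 2))]

set_option maxRecDepth 100000 in
theorem wt_move : ∀ i j k l : ZMod 3, (i ≠ k ∨ j ≠ l) → ∃ c ∈ words54, ∃ r ∈ refs,
    (walk act 0 (c ++ wt i j ++ c.reverse) = walk act 0 (wt r.1.1 r.1.2) ∧
      walk act 0 (c ++ wt k l ++ c.reverse) = walk act 0 (wt r.2.1 r.2.2)) ∨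
    (walk act 0 (c ++ wt i j ++ c.reverse) = walk act 0 (wt r.2.1 r.2.2) ∧
      walk act 0 (c ++ wt k l ++ c.reverse) = walk act 0 (wt r.1.1 r.1.2)) := by
  decide +kernel

end Cfsg.Agent.Helper5.Fischer54
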