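import Mathlib
import Cfsg.Agent.Helper5.Fischer54B

set_option autoImplicit false

namespace Cfsg.Agent.Helper5.Fischer54

open Cfsg.Agent.Helper3.CosetCert

universe u
variable {G : Type u} [Group G]

theorem prodL_reverse (gens : Fin 3 → G) (hsq : ∀ i, gens i * gens i = 1) (l : List (Fin 3)) :
    prodL gens l.reverse = (prodL gens l)⁻¹ := by
  induction l with
  | nil => simp [prodL]
  | cons s l ih =>
    rw [List.reverse_cons, prodL_append, ih, prodL_cons, prodL_cons, prodL_nil, mul_one,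
      mul_inv_rev, inv_eq_of_mul_eq_one_left (hsq s)]

/-- the nine points -/
def q (gens : Fin 3 → G) (v : Fin 2 → ZMod 3) : G := prodL gens (wt (v 0) (v 1))

theorem q_form (gens : Fin 3 → G) (hsq : ∀ i, gens i * gens i = 1) (v : Fin 2 → ZMod 3) :
    q gens v = prodL gens (ct (v 0) (v 1)) * gens (st (v 0) (v 1)) *
      (prodL gens (ct (v 0) (v 1)))⁻¹ := by
  unfold q
  rw [wt_form, prodL_append, prodL_append, prodL_reverse gens hsq, prodL_cons, prodL_nil, mul_one]

theorem q_sq (gens : Fin 3 → G) (hsq : ∀ i, gens i * gens i = 1) (v : Fin 2 → ZMod 3) :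
    q gens v * q gens v = 1 := by
  rw [q_form gens hsq]
  set c := prodL gens (ct (v 0) (v 1))
  set s := gens (st (v 0) (v 1)) with hs
  calc c * s * c⁻¹ * (c * s * c⁻¹) = c * (s * s) * c⁻¹ := by group
    _ = 1 := by rw [hs, hsq]; group

theorem q_inv (gens : Fin 3 → G) (hsq : ∀ i, gens i * gens i = 1) (v : Fin 2 → ZMod 3) :
    (q gens v)⁻¹ = q gens v := inv_eq_of_mul_eq_one_left (q_sq gens hsq v)

theorem q_third (gens : Fin 3 → G) (hsq : ∀ i, gens i * gens i = 1)
    (hR : ∀ r ∈ R, prodL gens r = 1) (v w : Fin 2 → ZMod 3) :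
    q gens w * q gens v * (q gens w)⁻¹ = q gens (-(v + w)) := by
  rw [q_inv gens hsq]
  unfold q
  rw [← prodL_append, ← prodL_append]
  apply word_eq gens hR
  have := wt_third (v 0) (v 1) (w 0) (w 1)
  simpa using this

theorem q_ne (gens : Fin 3 → G) (hsq : ∀ i, gens i * gens i = 1)
    (hR : ∀ r ∈ R, prodL gens r = 1)
    (href : ∀ r ∈ refs, prodL gens (wt r.1.1 r.1.2) ≠ prodL gens (wt r.2.1 r.2.2))
    {v w : Fin 2 → ZMod 3} (hvw : v ≠ w) : q gens v ≠ q gens w := by
  intro heq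
  have hne : v 0 ≠ w 0 ∨ v 1 ≠ w 1 := by
    by_contra hcon
    push Not at hcon
    apply hvw
    funext i
    fin_cases i
    · exact hcon.1
    · exact hcon.2
  obtain ⟨c, _, r, hr, h | h⟩ := wt_move (v 0) (v 1) (w 0) (w 1) hne
  · have e1 := word_eq gens hR h.1
    have e2 := word_eq gens hR h.2
    rw [prodL_append, prodL_append] at e1 e2
    apply href r hr
    rw [← e1, ← e2]
    unfold q at heq
    rw [heq]
  · have e1 := word_eq gens hR h.1
    have e2 := word_eq gens hR h.2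
    rw [prodL_append, prodL_append] at e1 e2
    apply href r hr
    rw [← e1, ← e2]
    unfold q at heq
    rw [heq]

theorem q_not_commute (gens : Fin 3 → G) (hsq : ∀ i, gens i * gens i = 1)
    (hR : ∀ r ∈ R, prodL gens r = 1)
    (href : ∀ r ∈ refs, prodL gens (wt r.1.1 r.1.2) ≠ prodL gens (wt r.2.1 r.2.2))
    {v w : Fin 2 → ZMod 3} (hvw : v ≠ w) : ¬ Commute (q gens v) (q gens w) := by
  intro hc
  have h3 := q_third gens hsq hR v w
  have : q gens w * q gens v * (q gens w)⁻¹ = q gens v := by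
    rw [mul_inv_eq_iff_eq_mul]; exact hc.eq.symm
  rw [this] at h3
  have hne : v ≠ -(v + w) := by
    intro h
    apply hvw
    funext i
    have := congrFun h i
    simp only [Pi.neg_apply, Pi.add_apply] at this
    have key : ∀ x y : ZMod 3, x = -(x + y) → x = y := by decide
    exact key _ _ this
  exact q_ne gens hsq hR href hne h3

theorem wt_vals : wt 0 0 = [0] ∧ wt 1 0 = [1] ∧ wt 0 1 = [2] ∧ wt 2 0 = [1, 0, 1] ∧
    wt 0 2 = [2, 0, 2] ∧ wt 2 2 = [2, 1, 2] ∧ wt 1 1 = [0, 2, 1, 2, 0] ∧ wt 1 2 = [2, 1, 0, 1, 2] ∧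
    wt 2 1 = [1, 2, 0, 2, 1] := by decide

theorem q_vals (gens : Fin 3 → G) :
    q gens ![0, 0] = gens 0 ∧ q gens ![1, 0] = gens 1 ∧ q gens ![0, 1] = gens 2 ∧
    q gens ![2, 0] = gens 1 * gens 0 * gens 1 ∧ q gens ![0, 2] = gens 2 * gens 0 * gens 2 ∧
    q gens ![2, 2] = gens 2 * gens 1 * gens 2 := by
  obtain ⟨w00, w10, w01, w20, w02, w22, _, _, _⟩ := wt_vals
  refine ⟨?_, ?_, ?_, ?_, ?_, ?_⟩
  · show prodL gens (wt 0 0) = _
    rw [w00]; simp [prodL]
  · show prodL gens (wt 1 0) = _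
    rw [w10]; simp [prodL]
  · show prodL gens (wt 0 1) = _
    rw [w01]; simp [prodL]
  · show prodL gens (wt 2 0) = _
    rw [w20]; simp [prodL, mul_assoc]
  · show prodL gens (wt 0 2) = _
    rw [w02]; simp [prodL, mul_assoc]
  · show prodL gens (wt 2 2) = _
    rw [w22]; simp [prodL, mul_assoc]

end Cfsg.Agent.Helper5.Fischer54
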