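import Mathlib
import Cfsg.Prelude.Def_FischerSpaces

set_option autoImplicit false
open Cfsg Cfsg.LineSystem

namespace Cfsg.Agent.Helper5.FischerInv

variable {X : Type*} {Y : Type*}

/-- third point relation -/
def IsThird (L : Set (Set X)) (x y z : X) : Prop :=
  z ≠ x ∧ z ≠ y ∧ x ≠ y ∧ ({x, y, z} : Set X) ∈ L

/-- unique third points -/
def UT (L : Set (Set X)) : Prop :=
  ∀ x y z z', IsThird L x y z → IsThird L x y z' → z = z'

lemma ut_of_pl {L : Set (Set X)} (hpl : IsPartialLinear L) : UT L := by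
  intro x y z z' h h'
  have := hpl _ h.2.2.2 _ h'.2.2.2 x y h.2.2.1 (by simp) (by simp) (by simp) (by simp)
  have hz : z ∈ ({x,y,z'} : Set X) := by rw [← this]; simp
  simp only [Set.mem_insert_iff, Set.mem_singleton_iff] at hz
  rcases hz with h1 | h1 | h1
  · exact absurd h1 h.1
  · exact absurd h1 h.2.1
  · exact h1

lemma lineMap_eq_of_third {L : Set (Set X)} (hut : UT L) {x y z : X} (h : IsThird L x y z) :
    lineMap L x y = z := by
  have hex : ∃ z : X, z ≠ x ∧ z ≠ y ∧ x ≠ y ∧ ({x, y, z} : Set X) ∈ L := ⟨z, h⟩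
  unfold lineMap
  simp only [dif_pos hex]
  exact hut _ _ _ _ hex.choose_spec h

lemma lineMap_eq_self {L : Set (Set X)} {x y : X} (h : ¬ ∃ z, IsThird L x y z) :
    lineMap L x y = y := by
  have hex : ¬ ∃ z : X, z ≠ x ∧ z ≠ y ∧ x ≠ y ∧ ({x, y, z} : Set X) ∈ L := h
  unfold lineMap
  simp only [dif_neg hex]

lemma third_swap23 {L : Set (Set X)} {x y z : X} (h : IsThird L x y z) : IsThird L x z y := by
  refine ⟨h.2.2.1.symm, h.2.1.symm, h.1.symm, ?_⟩
  have : ({x, z, y} : Set X) = {x, y, z} := by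
    ext p; simp only [Set.mem_insert_iff, Set.mem_singleton_iff]; tauto
  rw [this]; exact h.2.2.2

lemma third_swap12 {L : Set (Set X)} {x y z : X} (h : IsThird L x y z) : IsThird L y x z := by
  refine ⟨h.2.1, h.1, h.2.2.1.symm, ?_⟩
  have : ({y, x, z} : Set X) = {x, y, z} := by
    ext p; simp only [Set.mem_insert_iff, Set.mem_singleton_iff]; tauto
  rw [this]; exact h.2.2.2

lemma lineMap_self {L : Set (Set X)} (x : X) : lineMap L x x = x := by
  apply lineMap_eq_self
  rintro ⟨z, hz⟩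
  exact hz.2.2.1 rfl

lemma lineMap_invol {L : Set (Set X)} (hut : UT L) (x : X) :
    Function.Involutive (lineMap L x) := by
  intro y
  by_cases h : ∃ z, IsThird L x y z
  · obtain ⟨z, hz⟩ := h
    rw [lineMap_eq_of_third hut hz, lineMap_eq_of_third hut (third_swap23 hz)]
  · rw [lineMap_eq_self h, lineMap_eq_self h]

/-- on a three point line, two different points have a third one -/
lemma exists_third_of_line {L : Set (Set X)} {l : Set X} (hl : l ∈ L) (h3 : l.ncard = 3)
    {x y : X} (hx : x ∈ l) (hy : y ∈ l) (hxy : x ≠ y) :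
    ∃ z, IsThird L x y z ∧ l = {x, y, z} := by
  obtain ⟨a, b, c, hab, hac, hbc, hlabc⟩ := Set.ncard_eq_three.mp h3
  have habc : IsThird L a b c := ⟨hac.symm, hbc.symm, hab, hlabc ▸ hl⟩
  have hacb := third_swap23 habc
  have hcab := third_swap12 hacb
  have hcba := third_swap23 hcab
  have hbca := third_swap12 hcba
  have hbac := third_swap23 hbca
  rw [hlabc] at hx hy
  simp only [Set.mem_insert_iff, Set.mem_singleton_iff] at hx hy
  rcases hx with hx | hx | hx <;> rcases hy with hy | hy | hy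
  · exact absurd (hx.trans hy.symm) hxy
  · rw [hx, hy]; exact ⟨c, habc, hlabc⟩
  · rw [hx, hy]; refine ⟨b, hacb, ?_⟩
    rw [hlabc]; ext p; simp only [Set.mem_insert_iff, Set.mem_singleton_iff]; tauto
  · rw [hx, hy]; refine ⟨c, hbac, ?_⟩
    rw [hlabc]; ext p; simp only [Set.mem_insert_iff, Set.mem_singleton_iff]; tauto
  · exact absurd (hx.trans hy.symm) hxy
  · rw [hx, hy]; refine ⟨a, hbca, ?_⟩
    rw [hlabc]; ext p; simp only [Set.mem_insert_iff, Set.mem_singleton_iff]; tauto
  · rw [hx, hy]; refine ⟨b, hcab, ?_⟩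
    rw [hlabc]; ext p; simp only [Set.mem_insert_iff, Set.mem_singleton_iff]; tauto
  · rw [hx, hy]; refine ⟨a, hcba, ?_⟩
    rw [hlabc]; ext p; simp only [Set.mem_insert_iff, Set.mem_singleton_iff]; tauto
  · exact absurd (hx.trans hy.symm) hxy

/-- membership of a triple in the restricted line system -/
lemma mem_restrict_triple {L : Set (Set X)} {S : Set X} (a b c : S) :
    ({a, b, c} : Set S) ∈ restrict L S ↔ ({(a : X), (b : X), (c : X)} : Set X) ∈ L := by
  constructor
  · rintro ⟨l, hl, hlS, hm⟩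
    have : l = {(a : X), (b : X), (c : X)} := by
      ext p
      constructor
      · intro hp
        have h1 : (⟨p, hlS hp⟩ : S) ∈ ({a, b, c} : Set S) := by rw [hm]; exact hp
        simp only [Set.mem_insert_iff, Set.mem_singleton_iff] at h1 ⊢
        rcases h1 with h1 | h1 | h1
        · left; exact congrArg Subtype.val h1
        · right; left; exact congrArg Subtype.val h1
        · right; right; exact congrArg Subtype.val h1
      · intro hp
        have ha : a ∈ ({a, b, c} : Set S) := by simp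
        have hb : b ∈ ({a, b, c} : Set S) := by simp
        have hc : c ∈ ({a, b, c} : Set S) := by simp
        rw [hm] at ha hb hc
        simp only [Set.mem_insert_iff, Set.mem_singleton_iff] at hp
        rcases hp with rfl | rfl | rfl
        · exact ha
        · exact hb
        · exact hc
    rw [← this]; exact hl
  · intro h
    refine ⟨_, h, ?_, ?_⟩
    · intro p hp
      simp only [Set.mem_insert_iff, Set.mem_singleton_iff] at hp
      rcases hp with rfl | rfl | rfl
      · exact a.2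
      · exact b.2
      · exact c.2
    · ext s
      simp only [Set.mem_insert_iff, Set.mem_singleton_iff, Set.mem_ofPred_eq, Subtype.ext_iff]

lemma third_iff_of_iso {L : Set (Set X)} {S : Set X} {M : Set (Set Y)} (e : S ≃ Y)
    (he : IsIso (restrict L S) M e) (a b c : S) :
    IsThird L (a : X) (b : X) (c : X) ↔ IsThird M (e a) (e b) (e c) := by
  have h1 : ({(a : X), (b : X), (c : X)} : Set X) ∈ L ↔ ({e a, e b, e c} : Set Y) ∈ M := by
    rw [← mem_restrict_triple, he]
    have : (e : S → Y) '' ({a, b, c} : Set S) = {e a, e b, e c} := by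
      rw [Set.image_insert_eq, Set.image_insert_eq, Set.image_singleton]
    rw [this]
  unfold IsThird
  rw [h1]
  have i1 : ((c : X) ≠ (a : X)) ↔ e c ≠ e a := by
    rw [Ne, Ne, ← Subtype.ext_iff, e.apply_eq_iff_eq]
  have i2 : ((c : X) ≠ (b : X)) ↔ e c ≠ e b := by
    rw [Ne, Ne, ← Subtype.ext_iff, e.apply_eq_iff_eq]
  have i3 : ((a : X) ≠ (b : X)) ↔ e a ≠ e b := by
    rw [Ne, Ne, ← Subtype.ext_iff, e.apply_eq_iff_eq]
  rw [i1, i2, i3]

lemma ut_of_iso {L : Set (Set X)} (hut : UT L) {S : Set X} {M : Set (Set Y)} (e : S ≃ Y)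
    (he : IsIso (restrict L S) M e) : UT M := by
  intro p q r r' h h'
  obtain ⟨a, rfl⟩ := e.surjective p
  obtain ⟨b, rfl⟩ := e.surjective q
  obtain ⟨c, rfl⟩ := e.surjective r
  obtain ⟨c', rfl⟩ := e.surjective r'
  have h1 := (third_iff_of_iso e he a b c).2 h
  have h2 := (third_iff_of_iso e he a b c').2 h'
  have := hut _ _ _ _ h1 h2
  rw [Subtype.ext this]

lemma lineMap_transfer {L : Set (Set X)} (hut : UT L) {S : Set X} (hS : IsSubspace L S)
    {M : Set (Set Y)} (e : S ≃ Y) (he : IsIso (restrict L S) M e) (a b : S) :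
    ∃ h : lineMap L (a : X) (b : X) ∈ S, e ⟨lineMap L (a : X) (b : X), h⟩ = lineMap M (e a) (e b) := by
  have hutM := ut_of_iso hut e he
  by_cases h : ∃ z, IsThird L (a : X) (b : X) z
  · obtain ⟨z, hz⟩ := h
    have hzS : z ∈ S :=
      hS _ hz.2.2.2 a a.2 b b.2 hz.2.2.1 (by simp) (by simp) (by simp)
    have h1 : lineMap L (a : X) (b : X) = z := lineMap_eq_of_third hut hz
    have h2 : IsThird M (e a) (e b) (e ⟨z, hzS⟩) := (third_iff_of_iso e he a b ⟨z, hzS⟩).1 hz
    have h3 := lineMap_eq_of_third hutM h2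
    refine ⟨by rw [h1]; exact hzS, ?_⟩
    rw [h3]
    congr 1
    exact Subtype.ext h1
  · have h1 : lineMap L (a : X) (b : X) = b := lineMap_eq_self h
    have h2 : ¬ ∃ r, IsThird M (e a) (e b) r := by
      rintro ⟨r, hr⟩
      obtain ⟨c, rfl⟩ := e.surjective r
      exact h ⟨c, (third_iff_of_iso e he a b c).2 hr⟩
    have h3 := lineMap_eq_self h2
    refine ⟨by rw [h1]; exact b.2, ?_⟩
    rw [h3]
    congr 1
    exact Subtype.ext h1

/-- transfer of the automorphism property from a model to a plane -/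
lemma image_line_of_model {L : Set (Set X)} (hut : UT L) {S : Set X} (hS : IsSubspace L S)
    {M : Set (Set Y)} (e : S ≃ Y) (he : IsIso (restrict L S) M e)
    (hM : ∀ p, ∀ k ∈ M, lineMap M p '' k ∈ M) {x : X} (hx : x ∈ S) {l : Set X} (hl : l ∈ L)
    (hlS : l ⊆ S) : lineMap L x '' l ∈ L := by
  set l' : Set S := {s : S | (s : X) ∈ l} with hl'
  have h1 : l' ∈ restrict L S := ⟨l, hl, hlS, rfl⟩
  have h2 : (e : S → Y) '' l' ∈ M := (he l').1 h1
  have h3 := hM (e ⟨x, hx⟩) _ h2
  let τ : S → S := fun s => ⟨lineMap L x s, (lineMap_transfer hut hS e he ⟨x, hx⟩ s).choose⟩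
  have hτ : ∀ s, e (τ s) = lineMap M (e ⟨x, hx⟩) (e s) := fun s =>
    (lineMap_transfer hut hS e he ⟨x, hx⟩ s).choose_spec
  have h4 : lineMap M (e ⟨x, hx⟩) '' ((e : S → Y) '' l') = (e : S → Y) '' (τ '' l') := by
    ext y
    simp only [Set.mem_image]
    constructor
    · rintro ⟨_, ⟨s, hs, rfl⟩, rfl⟩
      exact ⟨τ s, ⟨s, hs, rfl⟩, hτ s⟩
    · rintro ⟨_, ⟨s, hs, rfl⟩, rfl⟩
      exact ⟨e s, ⟨s, hs, rfl⟩, (hτ s).symm⟩
  rw [h4] at h3
  obtain ⟨l₂, hl₂, hl₂S, hm⟩ := (he _).2 h3
  have : lineMap L x '' l = l₂ := by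
    ext q
    constructor
    · rintro ⟨p, hp, rfl⟩
      have : τ ⟨p, hlS hp⟩ ∈ τ '' l' := ⟨⟨p, hlS hp⟩, hp, rfl⟩
      rw [hm] at this
      exact this
    · intro hq
      have : (⟨q, hl₂S hq⟩ : S) ∈ τ '' l' := by rw [hm]; exact hq
      obtain ⟨s, hs, hs'⟩ := this
      exact ⟨s, hs, congrArg Subtype.val hs'⟩
  rw [this]; exact hl₂

end Cfsg.Agent.Helper5.FischerInv
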