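import Mathlib
import Cfsg.Prelude.Def_FischerSpaces
import Cfsg.Agent.Helper5.FischerInvA

set_option autoImplicit false
open Cfsg Cfsg.LineSystem

namespace Cfsg.Agent.Helper5.FischerInv

/-! ### the dual affine plane of order two -/

/-- explicit third-point map on the dual affine plane -/
def dualF (p q : DualAffinePoint) : DualAffinePoint :=
  if h : (symmDiff p.1 q.1).card = 2 then ⟨symmDiff p.1 q.1, h⟩ else q

set_option maxRecDepth 100000 in
lemma dual_c1 : ∀ (i : Fin 4) (p q z : DualAffinePoint), z ≠ p → z ≠ q → p ≠ q →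
    i ∉ p.1 → i ∉ q.1 → i ∉ z.1 → z = dualF p q := by
  decide

set_option maxRecDepth 100000 in
lemma dual_c2 : ∀ (p q : DualAffinePoint), dualF p q ≠ q →
    (dualF p q ≠ p ∧ p ≠ q ∧ ∃ i : Fin 4, ∀ s : DualAffinePoint,
      (s = p ∨ s = q ∨ s = dualF p q) ↔ i ∉ s.1) := by
  decide

set_option maxRecDepth 100000 in
lemma dual_c3 : ∀ (p : DualAffinePoint) (i : Fin 4), ∃ j : Fin 4, ∀ s : DualAffinePoint,
    (∃ s' : DualAffinePoint, i ∉ s'.1 ∧ dualF p s' = s) ↔ j ∉ s.1 := by
  decide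

lemma dual_third {p q z : DualAffinePoint} (h : IsThird dualAffinePlaneTwo p q z) :
    z = dualF p q := by
  obtain ⟨hzp, hzq, hpq, i, hi⟩ := h
  have hp : p ∈ ({p, q, z} : Set DualAffinePoint) := by simp
  have hq : q ∈ ({p, q, z} : Set DualAffinePoint) := by simp
  have hz : z ∈ ({p, q, z} : Set DualAffinePoint) := by simp
  rw [hi] at hp hq hz
  exact dual_c1 i p q z hzp hzq hpq hp hq hz

lemma dual_lineMap (p q : DualAffinePoint) : lineMap dualAffinePlaneTwo p q = dualF p q := by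
  have hut : UT dualAffinePlaneTwo := by
    intro x y z z' h h'
    rw [dual_third h, dual_third h']
  by_cases h : ∃ z, IsThird dualAffinePlaneTwo p q z
  · obtain ⟨z, hz⟩ := h
    rw [lineMap_eq_of_third hut hz, dual_third hz]
  · rw [lineMap_eq_self h]
    by_contra hne
    have hne' : dualF p q ≠ q := fun h' => hne h'.symm
    obtain ⟨h1, h2, i, hi⟩ := dual_c2 p q hne'
    apply h
    refine ⟨dualF p q, h1, hne', h2, i, ?_⟩
    ext s
    simp only [Set.mem_insert_iff, Set.mem_singleton_iff, Set.mem_ofPred_eq]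
    exact hi s

lemma dual_model : ∀ p, ∀ k ∈ dualAffinePlaneTwo, lineMap dualAffinePlaneTwo p '' k ∈ dualAffinePlaneTwo := by
  rintro p k ⟨i, rfl⟩
  obtain ⟨j, hj⟩ := dual_c3 p i
  refine ⟨j, ?_⟩
  ext s
  simp only [Set.mem_image, Set.mem_ofPred_eq]
  rw [← hj s]
  constructor
  · rintro ⟨s', hs', rfl⟩
    exact ⟨s', hs', (dual_lineMap p s').symm⟩
  · rintro ⟨s', hs', rfl⟩
    exact ⟨s', hs', dual_lineMap p s'⟩

/-! ### the affine plane of order three -/

lemma zmod3_sum : ∀ c₁ c₂ c₃ : ZMod 3, c₁ ≠ c₂ → c₁ ≠ c₃ → c₂ ≠ c₃ → c₁ + c₂ + c₃ = 0 := by decide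

lemma affine_third {p q z : Fin 2 → ZMod 3} (h : IsThird affinePlaneThree p q z) :
    z = -(p + q) := by
  obtain ⟨hzp, hzq, hpq, v, w, hw, hl⟩ := h
  have hp : p ∈ ({p, q, z} : Set (Fin 2 → ZMod 3)) := by simp
  have hq : q ∈ ({p, q, z} : Set (Fin 2 → ZMod 3)) := by simp
  have hz : z ∈ ({p, q, z} : Set (Fin 2 → ZMod 3)) := by simp
  rw [hl] at hp hq hz
  obtain ⟨c₁, rfl⟩ := hp
  obtain ⟨c₂, rfl⟩ := hq
  obtain ⟨c₃, rfl⟩ := hz
  have h12 : c₁ ≠ c₂ := by rintro rfl; exact hpq rfl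
  have h13 : c₁ ≠ c₃ := by rintro rfl; exact hzp rfl
  have h23 : c₂ ≠ c₃ := by rintro rfl; exact hzq rfl
  have hs := zmod3_sum c₁ c₂ c₃ h12 h13 h23
  have h3 : (3 : ZMod 3) = 0 := by decide
  have : (v + c₁ • w) + (v + c₂ • w) + (v + c₃ • w) = 0 := by
    have : (v + c₁ • w) + (v + c₂ • w) + (v + c₃ • w) = (3 : ZMod 3) • v + (c₁ + c₂ + c₃) • w := by
      module
    rw [this, hs, h3, zero_smul, zero_smul, add_zero]
  rw [eq_neg_iff_add_eq_zero, ← this]
  abel

lemma zmod3_a : ∀ a b : ZMod 3, -(a + b) = a → a = b := by decide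
lemma zmod3_b : ∀ a b : ZMod 3, -(a + b) = b → a = b := by decide
lemma zmod3_c : ∀ a b : ZMod 3, -(a + b) = a + 2 * (b - a) := by decide
lemma zmod3_d : ∀ a : ZMod 3, -(a + a) = a := by decide

lemma affine_third_exists {p q : Fin 2 → ZMod 3} (hpq : p ≠ q) :
    IsThird affinePlaneThree p q (-(p + q)) := by
  refine ⟨?_, ?_, hpq, p, q - p, sub_ne_zero.mpr hpq.symm, ?_⟩
  · intro h
    apply hpq
    funext i
    have := congrFun h i
    simp only [Pi.neg_apply, Pi.add_apply] at this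
    exact zmod3_a _ _ this
  · intro h
    apply hpq
    funext i
    have := congrFun h i
    simp only [Pi.neg_apply, Pi.add_apply] at this
    exact zmod3_b _ _ this
  · ext x
    simp only [Set.mem_insert_iff, Set.mem_singleton_iff, Set.mem_ofPred_eq]
    constructor
    · rintro (rfl | rfl | rfl)
      · exact ⟨0, by simp⟩
      · exact ⟨1, by simp⟩
      · refine ⟨2, ?_⟩
        funext i
        simp only [Pi.neg_apply, Pi.add_apply, Pi.smul_apply, Pi.sub_apply, smul_eq_mul]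
        exact zmod3_c _ _
    · rintro ⟨c, rfl⟩
      have hc : c = 0 ∨ c = 1 ∨ c = 2 := by
        revert c; decide
      rcases hc with rfl | rfl | rfl
      · left; simp
      · right; left; simp
      · right; right
        funext i
        simp only [Pi.neg_apply, Pi.add_apply, Pi.smul_apply, Pi.sub_apply, smul_eq_mul]
        exact (zmod3_c _ _).symm

lemma affine_lineMap (p q : Fin 2 → ZMod 3) : lineMap affinePlaneThree p q = -(p + q) := by
  have hut : UT affinePlaneThree := by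
    intro x y z z' h h'
    rw [affine_third h, affine_third h']
  by_cases hpq : p = q
  · subst hpq
    rw [lineMap_self]
    funext i
    simp only [Pi.neg_apply, Pi.add_apply]
    exact (zmod3_d _).symm
  · exact lineMap_eq_of_third hut (affine_third_exists hpq)

lemma affine_model : ∀ p, ∀ k ∈ affinePlaneThree, lineMap affinePlaneThree p '' k ∈ affinePlaneThree := by
  rintro p k ⟨v, w, hw, rfl⟩
  refine ⟨-(p + v), w, hw, ?_⟩
  ext y
  simp only [Set.mem_image, Set.mem_ofPred_eq]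
  constructor
  · rintro ⟨_, ⟨c, rfl⟩, rfl⟩
    refine ⟨-c, ?_⟩
    rw [affine_lineMap]
    module
  · rintro ⟨c, rfl⟩
    refine ⟨v + (-c) • w, ⟨-c, rfl⟩, ?_⟩
    rw [affine_lineMap]
    module

end Cfsg.Agent.Helper5.FischerInv
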