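import Mathlib
import Cfsg.Prelude.Def_FischerSpaces
import Cfsg.Agent.Helper5.FischerInvA
import Cfsg.Agent.Helper5.FischerInvB

set_option autoImplicit false
open Cfsg Cfsg.LineSystem

namespace Cfsg.Agent.Helper5.FischerInv

variable {X : Type*}

lemma span_isSubspace (L : Set (Set X)) (S : Set X) : IsSubspace L (span L S) := by
  intro l hl x hx y hy hxy hxl hyl p hp
  simp only [span, Set.mem_sInter, Set.mem_ofPred_eq] at hx hy ⊢
  intro T hT
  exact hT.2 l hl x (hx T hT) y (hy T hT) hxy hxl hyl hp

lemma subset_span' (L : Set (Set X)) (S : Set X) : S ⊆ span L S := by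
  intro x hx
  simp only [span, Set.mem_sInter, Set.mem_ofPred_eq]
  intro T hT
  exact hT.1 hx

/-- t(x) maps lines to lines in a Fischer space -/
lemma image_line {L : Set (Set X)} (hL : IsFischerSpace L) (x : X) {l : Set X} (hl : l ∈ L) :
    lineMap L x '' l ∈ L := by
  obtain ⟨hpl, h3, hplane⟩ := hL
  have hut := ut_of_pl hpl
  by_cases hxl : x ∈ l
  · -- x on the line
    have hne : ∃ y ∈ l, y ≠ x := by
      by_contra hcon
      push Not at hcon
      have : l ⊆ {x} := fun y hy => hcon y hy
      have h1 : l.ncard ≤ ({x} : Set X).ncard := Set.ncard_le_ncard this (Set.finite_singleton x)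
      rw [h3 l hl, Set.ncard_singleton] at h1
      omega
    obtain ⟨y, hyl, hyx⟩ := hne
    obtain ⟨z, hz, hlz⟩ := exists_third_of_line hl (h3 l hl) hxl hyl hyx.symm
    have e1 : lineMap L x x = x := lineMap_self x
    have e2 : lineMap L x y = z := lineMap_eq_of_third hut hz
    have e3 : lineMap L x z = y := lineMap_eq_of_third hut (third_swap23 hz)
    have : lineMap L x '' l = l := by
      rw [hlz, Set.image_insert_eq, Set.image_insert_eq, Set.image_singleton, e1, e2, e3]
      ext p; simp only [Set.mem_insert_iff, Set.mem_singleton_iff]; tauto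
    rw [this]; exact hl
  · by_cases hcol : ∃ y ∈ l, ∃ z, IsThird L x y z
    · obtain ⟨y, hyl, z, hz⟩ := hcol
      set m : Set X := {x, y, z} with hm
      have hmL : m ∈ L := hz.2.2.2
      have hlm : l ≠ m := by
        intro h; apply hxl; rw [h]; simp [hm]
      have hne : (l ∩ m).Nonempty := ⟨y, hyl, by simp [hm]⟩
      have hS := span_isSubspace L (l ∪ m)
      have hsub := subset_span' L (l ∪ m)
      have hxS : x ∈ span L (l ∪ m) := hsub (Or.inr (by simp [hm]))
      have hlS : l ⊆ span L (l ∪ m) := fun p hp => hsub (Or.inl hp)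
      rcases hplane l hl m hmL hlm hne with ⟨e, he⟩ | ⟨e, he⟩
      · exact image_line_of_model hut hS e he dual_model hxS hl hlS
      · exact image_line_of_model hut hS e he affine_model hxS hl hlS
    · -- no point of l collinear with x: fixed pointwise
      have : lineMap L x '' l = l := by
        ext p
        constructor
        · rintro ⟨q, hq, rfl⟩
          have : lineMap L x q = q := lineMap_eq_self (fun h => hcol ⟨q, hq, h⟩)
          rw [this]; exact hq
        · intro hp
          exact ⟨p, hp, lineMap_eq_self (fun h => hcol ⟨p, hp, h⟩)⟩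
      rw [this]; exact hl

/-- the permutation t(x) -/
noncomputable def tPerm {L : Set (Set X)} (hut : UT L) (x : X) : Equiv.Perm X :=
  Function.Involutive.toPerm (lineMap L x) (lineMap_invol hut x)

lemma tPerm_coe {L : Set (Set X)} (hut : UT L) (x : X) : ⇑(tPerm hut x) = lineMap L x := rfl

lemma tPerm_sq {L : Set (Set X)} (hut : UT L) (x : X) : tPerm hut x * tPerm hut x = 1 := by
  ext y
  simp only [Equiv.Perm.coe_mul, Function.comp_apply, Equiv.Perm.coe_one, id_eq]
  rw [tPerm_coe]
  exact lineMap_invol hut x y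

lemma tPerm_iso {L : Set (Set X)} (hL : IsFischerSpace L) (x : X) :
    IsIso L L (tPerm (ut_of_pl hL.1) x) := by
  intro l
  constructor
  · intro hl
    exact image_line hL x hl
  · intro hl
    have := image_line hL x hl
    rw [tPerm_coe, ← Set.image_comp] at this
    have h2 : lineMap L x ∘ lineMap L x = id := by
      funext y; exact lineMap_invol (ut_of_pl hL.1) x y
    rw [h2, Set.image_id] at this
    exact this

/-- automorphisms commute with the maps t(x) -/
lemma lineMap_conj {L : Set (Set X)} (hut : UT L) (g : Equiv.Perm X) (hg : IsIso L L g) (x y : X) :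
    lineMap L (g x) (g y) = g (lineMap L x y) := by
  have key : ∀ a b c : X, IsThird L a b c ↔ IsThird L (g a) (g b) (g c) := by
    intro a b c
    unfold IsThird
    have : (g : X → X) '' ({a, b, c} : Set X) = {g a, g b, g c} := by
      rw [Set.image_insert_eq, Set.image_insert_eq, Set.image_singleton]
    rw [hg {a, b, c}, this, Ne, Ne, Ne, Ne, Ne, Ne, g.apply_eq_iff_eq, g.apply_eq_iff_eq,
      g.apply_eq_iff_eq]
  by_cases h : ∃ z, IsThird L x y z
  · obtain ⟨z, hz⟩ := h
    rw [lineMap_eq_of_third hut hz, lineMap_eq_of_third hut ((key x y z).1 hz)]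
  · have h' : ¬ ∃ w, IsThird L (g x) (g y) w := by
      rintro ⟨w, hw⟩
      apply h
      refine ⟨g.symm w, (key x y (g.symm w)).2 ?_⟩
      rw [Equiv.apply_symm_apply]; exact hw
    rw [lineMap_eq_self h, lineMap_eq_self h']

lemma tPerm_conj {L : Set (Set X)} (hL : IsFischerSpace L) (x y : X) :
    tPerm (ut_of_pl hL.1) x * tPerm (ut_of_pl hL.1) y * tPerm (ut_of_pl hL.1) x
      = tPerm (ut_of_pl hL.1) (lineMap L x y) := by
  have hut := ut_of_pl hL.1
  ext p
  simp only [Equiv.Perm.coe_mul, Function.comp_apply]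
  rw [tPerm_coe, tPerm_coe, tPerm_coe]
  have h1 := lineMap_conj hut (tPerm hut x) (tPerm_iso hL x) y (lineMap L x p)
  rw [tPerm_coe] at h1
  rw [lineMap_invol hut x p] at h1
  exact h1.symm

theorem main {L : Set (Set X)} (hL : IsFischerSpace L) (hnd : IsNondegenerate L) :
    (∀ x : X, ∃ σ : Equiv.Perm X, ⇑σ = lineMap L x ∧ orderOf σ = 2 ∧ IsIso L L σ) ∧
      IsThreeTranspositionSet {σ : Equiv.Perm X | ∃ x : X, ⇑σ = lineMap L x} := by
  have hut := ut_of_pl hL.1
  have hord : ∀ x : X, orderOf (tPerm hut x) = 2 := by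
    intro x
    apply orderOf_eq_prime
    · rw [pow_two]; exact tPerm_sq hut x
    · intro h1
      obtain ⟨l, hl, hxl⟩ := hnd x
      have hne : ∃ y ∈ l, y ≠ x := by
        by_contra hcon
        push Not at hcon
        have : l ⊆ {x} := fun y hy => hcon y hy
        have h1 : l.ncard ≤ ({x} : Set X).ncard := Set.ncard_le_ncard this (Set.finite_singleton x)
        rw [hL.2.1 l hl, Set.ncard_singleton] at h1
        omega
      obtain ⟨y, hyl, hyx⟩ := hne
      obtain ⟨z, hz, _⟩ := exists_third_of_line hl (hL.2.1 l hl) hxl hyl hyx.symm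
      have e2 : lineMap L x y = z := lineMap_eq_of_third hut hz
      have : tPerm hut x y = y := by rw [h1]; rfl
      rw [tPerm_coe, e2] at this
      exact hz.2.1 this
  have huniq : ∀ (σ : Equiv.Perm X) (x : X), ⇑σ = lineMap L x → σ = tPerm hut x := by
    intro σ x h
    ext p
    rw [h, tPerm_coe]
  refine ⟨fun x => ⟨tPerm hut x, tPerm_coe hut x, hord x, tPerm_iso hL x⟩, ?_, ?_⟩
  · rintro σ ⟨x, hx⟩
    rw [huniq σ x hx]; exact hord x
  · rintro σ ⟨x, hx⟩ τ ⟨y, hy⟩
    rw [huniq σ x hx, huniq τ y hy]
    by_cases h : ∃ z, IsThird L x y z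
    · right
      obtain ⟨z, hz⟩ := h
      have e1 : lineMap L x y = z := lineMap_eq_of_third hut hz
      have e2 : lineMap L y x = z := lineMap_eq_of_third hut (third_swap12 hz)
      have c1 := tPerm_conj hL x y
      have c2 := tPerm_conj hL y x
      rw [e1] at c1
      rw [e2] at c2
      have : (tPerm hut x * tPerm hut y) ^ 3 =
          (tPerm hut x * tPerm hut y * tPerm hut x) * (tPerm hut y * tPerm hut x * tPerm hut y) := by
        simp only [pow_succ, pow_zero, one_mul, mul_assoc]
      rw [this, c1, c2]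
      exact tPerm_sq hut z
    · left
      have e1 : lineMap L x y = y := lineMap_eq_self h
      have c1 := tPerm_conj hL x y
      rw [e1] at c1
      have : (tPerm hut x * tPerm hut y) ^ 2 =
          (tPerm hut x * tPerm hut y * tPerm hut x) * tPerm hut y := by
        simp only [pow_succ, pow_zero, one_mul, mul_assoc]
      rw [this, c1]
      exact tPerm_sq hut y

end Cfsg.Agent.Helper5.FischerInv
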