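import Mathlib
import Cfsg.Prelude.Def_FischerSpaces
import Cfsg.Agent.Helper5.FischerInvA
import Cfsg.Agent.Helper5.FischerInvC
import Cfsg.Agent.Helper5.ThreeTransA

set_option autoImplicit false
open Cfsg Cfsg.LineSystem Cfsg.Agent.Helper5.FischerInv Cfsg.Agent.Helper5.ThreeTrans

namespace Cfsg.Agent.Helper5.FischerLines

variable {G : Type*} [Group G] {D : Set G}

section S3

variable {x y : G}

lemma braid (hxx : x * x = 1) (hyy : y * y = 1) (h3 : (x * y) ^ 3 = 1) :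
    x * y * x = y * x * y := by
  have hxi : x⁻¹ = x := inv_eq_of_mul_eq_one_left hxx
  have hyi : y⁻¹ = y := inv_eq_of_mul_eq_one_left hyy
  have h1 : x * y * x * (y * x * y) = 1 := by
    have : (x * y) ^ 3 = x * y * x * (y * x * y) := by
      simp only [pow_succ, pow_zero, one_mul, mul_assoc]
    rw [← this]; exact h3
  have h2 := eq_inv_of_mul_eq_one_left h1
  rw [h2, mul_inv_rev, mul_inv_rev, hxi, hyi, mul_assoc]

lemma s3_i1 (hxx : x * x = 1) (hyy : y * y = 1) (h3 : (x * y) ^ 3 = 1) :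
    x * y * x⁻¹ = y * x * y⁻¹ := by
  rw [inv_eq_of_mul_eq_one_left hxx, inv_eq_of_mul_eq_one_left hyy]
  exact braid hxx hyy h3

lemma s3_i3 (hxx : x * x = 1) (hyy : y * y = 1) (h3 : (x * y) ^ 3 = 1) :
    x * (y * x * y⁻¹) * x⁻¹ = y := by
  rw [← s3_i1 hxx hyy h3]
  have hxi : x⁻¹ = x := inv_eq_of_mul_eq_one_left hxx
  rw [hxi]
  calc x * (x * y * x) * x = (x * x) * y * (x * x) := by group
    _ = y := by rw [hxx, one_mul, mul_one]

lemma s3_i5 : y * (y * x * y⁻¹) * y⁻¹ = y * y * x * (y * y)⁻¹ := by group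

lemma s3_i2 (hxx : x * x = 1) (hyy : y * y = 1) (h3 : (x * y) ^ 3 = 1) :
    (y * x * y⁻¹) * x * (y * x * y⁻¹)⁻¹ = y := by
  -- z x z⁻¹ = y  ⟸  x z x⁻¹ = y and braid for (x, z)
  have hb := braid hxx hyy h3
  have hxi : x⁻¹ = x := inv_eq_of_mul_eq_one_left hxx
  have hyi : y⁻¹ = y := inv_eq_of_mul_eq_one_left hyy
  rw [mul_inv_rev, mul_inv_rev, inv_inv, hxi, hyi]
  calc y * x * y * x * (y * (x * y)) = y * (x * y * x) * (y * x * y) := by group
    _ = y * (y * x * y) * (y * x * y) := by rw [hb]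
    _ = (y * y) * x * (y * y) * x * y := by group
    _ = y := by rw [hyy, one_mul, mul_one, hxx, one_mul]

lemma s3_i4 (hxx : x * x = 1) (hyy : y * y = 1) (h3 : (x * y) ^ 3 = 1) :
    (y * x * y⁻¹) * y * (y * x * y⁻¹)⁻¹ = x := by
  have hb := braid hxx hyy h3
  have hxi : x⁻¹ = x := inv_eq_of_mul_eq_one_left hxx
  have hyi : y⁻¹ = y := inv_eq_of_mul_eq_one_left hyy
  rw [mul_inv_rev, mul_inv_rev, inv_inv, hxi, hyi]
  calc y * x * y * y * (y * (x * y)) = y * x * (y * y) * y * x * y := by group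
    _ = y * (x * y * x) * y := by rw [hyy, mul_one]; group
    _ = y * (y * x * y) * y := by rw [hb]
    _ = (y * y) * x * (y * y) := by group
    _ = x := by rw [hyy, one_mul, mul_one]

end S3

/-- the line system of `D` -/
abbrev TL (D : Set G) : Set (Set D) := threeTranspositionLines D

/-- the pair lemma: two different points of a line determine the third by conjugation -/
lemma pair_lemma (hT : TT D) {x' y' : G} (hx' : x' ∈ D) (hy' : y' ∈ D) (hnc : ¬ Commute x' y')
    {u v : G} (hu : u = x' ∨ u = y' ∨ u = y' * x' * y'⁻¹)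
    (hv : v = x' ∨ v = y' ∨ v = y' * x' * y'⁻¹) (huv : u ≠ v) :
    ¬ Commute u v ∧ (v * u * v⁻¹ = x' ∨ v * u * v⁻¹ = y' ∨ v * u * v⁻¹ = y' * x' * y'⁻¹) ∧
      ∀ w, (w = x' ∨ w = y' ∨ w = y' * x' * y'⁻¹) → w ≠ u → w ≠ v → w = v * u * v⁻¹ := by
  have hxx := hT.sq x' hx'
  have hyy := hT.sq y' hy'
  have h3 := hT.cube x' hx' y' hy' hnc
  have i1 := s3_i1 hxx hyy h3
  have i2 := s3_i2 hxx hyy h3
  have i3 := s3_i3 hxx hyy h3
  have i4 := s3_i4 hxx hyy h3
  have i5 : y' * (y' * x' * y'⁻¹) * y'⁻¹ = x' := by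
    rw [s3_i5, hyy, one_mul, inv_one, mul_one]
  -- the conjugate v u v⁻¹ in each case
  have key : ∀ t, v * u * v⁻¹ = t → t ≠ u → ¬ Commute u v := by
    intro t ht htu hc
    apply htu
    rw [← ht, mul_inv_eq_iff_eq_mul]
    exact hc.eq.symm
  have hxy : x' ≠ y' := by rintro rfl; exact hnc (Commute.refl _)
  have hxz : x' ≠ y' * x' * y'⁻¹ := by
    intro h
    apply hnc
    have : x' * y' = y' * x' := eq_mul_inv_iff_mul_eq.mp h
    exact this
  have hyz : y' ≠ y' * x' * y'⁻¹ := by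
    intro h
    apply hxy
    have : y' * x' = y' * y' := by
      rw [eq_mul_inv_iff_mul_eq] at h; exact h.symm
    exact (mul_left_cancel this)
  rcases hu with rfl | rfl | rfl <;> rcases hv with rfl | rfl | rfl
  · exact absurd rfl huv
  · refine ⟨key _ rfl hxz.symm, Or.inr (Or.inr rfl), ?_⟩
    rintro w (rfl | rfl | rfl) h1 h2
    · exact absurd rfl h1
    · exact absurd rfl h2
    · rfl
  · refine ⟨key _ i2 hxy.symm, Or.inr (Or.inl i2), ?_⟩
    rintro w (rfl | rfl | rfl) h1 h2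
    · exact absurd rfl h1
    · exact i2.symm
    · exact absurd rfl h2
  · refine ⟨key _ i1 hyz.symm, Or.inr (Or.inr i1), ?_⟩
    rintro w (rfl | rfl | rfl) h1 h2
    · exact absurd rfl h2
    · exact absurd rfl h1
    · exact i1.symm
  · exact absurd rfl huv
  · refine ⟨key _ i4 hxy, Or.inl i4, ?_⟩
    rintro w (rfl | rfl | rfl) h1 h2
    · exact i4.symm
    · exact absurd rfl h1
    · exact absurd rfl h2
  · refine ⟨key _ i3 hyz, Or.inr (Or.inl i3), ?_⟩
    rintro w (rfl | rfl | rfl) h1 h2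
    · exact absurd rfl h2
    · exact i3.symm
    · exact absurd rfl h1
  · refine ⟨key _ i5 hxz, Or.inl i5, ?_⟩
    rintro w (rfl | rfl | rfl) h1 h2
    · exact i5.symm
    · exact absurd rfl h2
    · exact absurd rfl h1
  · exact absurd rfl huv

end Cfsg.Agent.Helper5.FischerLines
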