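import Mathlib
import Cfsg.Prelude.Def_FischerSpaces
import Cfsg.Agent.Helper5.FischerLinesA

set_option autoImplicit false
open Cfsg Cfsg.LineSystem Cfsg.Agent.Helper5.FischerInv Cfsg.Agent.Helper5.ThreeTrans

namespace Cfsg.Agent.Helper5.FischerLines

variable {G : Type*} [Group G] {D : Set G}

/-- characterisation of the third point relation of the line system of `D` -/
lemma third_iff (hT : TT D) (x y z : D) :
    IsThird (TL D) x y z ↔ ¬ Commute (x : G) (y : G) ∧ (z : G) = (y : G) * (x : G) * (y : G)⁻¹ := by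
  constructor
  · rintro ⟨hzx, hzy, hxy, x', y', hnc, hset⟩
    have hx : x ∈ ({x, y, z} : Set D) := by simp
    have hy : y ∈ ({x, y, z} : Set D) := by simp
    have hz : z ∈ ({x, y, z} : Set D) := by simp
    rw [hset] at hx hy hz
    simp only [Set.mem_ofPred_eq] at hx hy hz
    have hxy' : (x : G) ≠ (y : G) := fun h => hxy (Subtype.ext h)
    obtain ⟨h1, _, h3⟩ := pair_lemma hT x'.2 y'.2 hnc hx hy hxy'
    refine ⟨h1, h3 _ hz (fun h => hzx (Subtype.ext h)) (fun h => hzy (Subtype.ext h))⟩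
  · rintro ⟨hnc, hz⟩
    have hxy : (x : G) ≠ (y : G) := by
      intro h; apply hnc; rw [h]
    have hzx : (z : G) ≠ (x : G) := by
      intro h
      apply hnc
      rw [hz] at h
      have : (y : G) * (x : G) = (x : G) * (y : G) := mul_inv_eq_iff_eq_mul.mp h
      exact this.symm
    have hzy : (z : G) ≠ (y : G) := by
      intro h
      apply hxy
      rw [hz] at h
      have : (y : G) * (x : G) = (y : G) * (y : G) := mul_inv_eq_iff_eq_mul.mp h
      exact mul_left_cancel this
    refine ⟨fun h => hzx (congrArg Subtype.val h), fun h => hzy (congrArg Subtype.val h),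
      fun h => hxy (congrArg Subtype.val h), x, y, hnc, ?_⟩
    ext w
    simp only [Set.mem_insert_iff, Set.mem_singleton_iff, Set.mem_ofPred_eq, Subtype.ext_iff, hz]

/-- every line is a triple -/
lemma line_triple (hT : TT D) {l : Set D} (hl : l ∈ TL D) :
    ∃ a b c : D, IsThird (TL D) a b c ∧ l = {a, b, c} := by
  obtain ⟨x, y, hnc, hset⟩ := hl
  let z : D := ⟨(y : G) * (x : G) * (y : G)⁻¹, hT.conj _ _ x.2⟩
  refine ⟨x, y, z, (third_iff hT x y z).2 ⟨hnc, rfl⟩, ?_⟩
  rw [hset]
  ext w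
  simp only [Set.mem_insert_iff, Set.mem_singleton_iff, Set.mem_ofPred_eq, Subtype.ext_iff, z]

lemma ut_TL (hT : TT D) : UT (TL D) := by
  intro x y z z' h h'
  have h1 := ((third_iff hT x y z).1 h).2
  have h2 := ((third_iff hT x y z').1 h').2
  exact Subtype.ext (h1.trans h2.symm)

lemma ncard_line (hT : TT D) {l : Set D} (hl : l ∈ TL D) : l.ncard = 3 := by
  obtain ⟨a, b, c, h, rfl⟩ := line_triple hT hl
  rw [Set.ncard_eq_three]
  exact ⟨a, b, c, h.2.2.1, h.1.symm, h.2.1.symm, rfl⟩

lemma line_eq_of_two (hT : TT D) {l : Set D} (hl : l ∈ TL D) {x y : D} (hx : x ∈ l) (hy : y ∈ l)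
    (hxy : x ≠ y) : l = {w : D | (w : G) = x ∨ (w : G) = y ∨ (w : G) = (y : G) * (x : G) * (y : G)⁻¹} := by
  obtain ⟨z, hz, hlz⟩ := exists_third_of_line hl (ncard_line hT hl) hx hy hxy
  have := ((third_iff hT x y z).1 hz).2
  rw [hlz]
  ext w
  simp only [Set.mem_insert_iff, Set.mem_singleton_iff, Set.mem_ofPred_eq, Subtype.ext_iff, this]

lemma partialLinear_TL (hT : TT D) : IsPartialLinear (TL D) := by
  intro l hl m hm x y hxy hxl hyl hxm hym
  rw [line_eq_of_two hT hl hxl hyl hxy, line_eq_of_two hT hm hxm hym hxy]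

/-- an isomorphism criterion through the third point relations -/
lemma iso_of_third {X : Type*} {Y : Type*} {L : Set (Set X)} {M : Set (Set Y)} {S : Set X}
    (e : S ≃ Y)
    (hL3 : ∀ l ∈ L, ∃ a b c, IsThird L a b c ∧ l = {a, b, c})
    (hM3 : ∀ k ∈ M, ∃ u v w, IsThird M u v w ∧ k = {u, v, w})
    (h : ∀ a b c : S, IsThird L (a : X) (b : X) (c : X) ↔ IsThird M (e a) (e b) (e c)) :
    IsIso (restrict L S) M e := by
  intro k
  constructor
  · rintro ⟨l, hl, hlS, rfl⟩
    obtain ⟨a, b, c, habc, rfl⟩ := hL3 l hl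
    have haS : a ∈ S := hlS (by simp)
    have hbS : b ∈ S := hlS (by simp)
    have hcS : c ∈ S := hlS (by simp)
    have h1 := (h ⟨a, haS⟩ ⟨b, hbS⟩ ⟨c, hcS⟩).1 habc
    have : (e : S → Y) '' {x : S | (x : X) ∈ ({a, b, c} : Set X)} =
        {e ⟨a, haS⟩, e ⟨b, hbS⟩, e ⟨c, hcS⟩} := by
      have : {x : S | (x : X) ∈ ({a, b, c} : Set X)} =
          ({⟨a, haS⟩, ⟨b, hbS⟩, ⟨c, hcS⟩} : Set S) := by
        ext x
        simp only [Set.mem_insert_iff, Set.mem_singleton_iff, Set.mem_ofPred_eq, Subtype.ext_iff]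
      rw [this, Set.image_insert_eq, Set.image_insert_eq, Set.image_singleton]
    rw [this]
    exact h1.2.2.2
  · intro hk
    obtain ⟨u, v, w, huvw, hk'⟩ := hM3 _ hk
    have h1 : IsThird L ((e.symm u : S) : X) ((e.symm v : S) : X) ((e.symm w : S) : X) := by
      rw [h]
      simp only [Equiv.apply_symm_apply]
      exact huvw
    have hkk : k = {e.symm u, e.symm v, e.symm w} := by
      have : k = (e.symm : Y → S) '' ((e : S → Y) '' k) := by
        rw [← Set.image_comp]
        simp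
      rw [this, hk', Set.image_insert_eq, Set.image_insert_eq, Set.image_singleton]
    rw [hkk, mem_restrict_triple]
    exact h1.2.2.2

/-- the plane spanned by a set of points parametrised by a model -/
theorem plane_iso (hT : TT D) {Y : Type*} (M : Set (Set Y)) (p : Y → G) (hp0 : ∀ u, p u ∈ D)
    (hp1 : Function.Injective p)
    (hM3 : ∀ k ∈ M, ∃ u v w, IsThird M u v w ∧ k = {u, v, w})
    (hthird : ∀ u v w, IsThird M u v w ↔
      (¬ Commute (p u) (p v) ∧ p w = p v * p u * (p v)⁻¹))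
    (hclosed : ∀ u v, ¬ Commute (p u) (p v) → ∃ w, p w = p v * p u * (p v)⁻¹)
    (S₀ : Set D) (hS₀ : ∀ x ∈ S₀, ∃ u, p u = (x : G))
    (hgen : ∀ u, (⟨p u, hp0 u⟩ : D) ∈ span (TL D) S₀) :
    Isomorphic (restrict (TL D) (span (TL D) S₀)) M := by
  set T : Set D := {x : D | ∃ u, p u = (x : G)} with hTdef
  have hTsub : IsSubspace (TL D) T := by
    intro l hl x hx y hy hxy hxl hyl
    obtain ⟨z, hz, hlz⟩ := exists_third_of_line hl (ncard_line hT hl) hxl hyl hxy
    obtain ⟨hnc, hzz⟩ := (third_iff hT x y z).1 hz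
    obtain ⟨u, hu⟩ := hx
    obtain ⟨v, hv⟩ := hy
    rw [← hu, ← hv] at hnc hzz
    obtain ⟨w, hw⟩ := hclosed u v hnc
    rw [hlz]
    intro q hq
    simp only [Set.mem_insert_iff, Set.mem_singleton_iff] at hq
    rcases hq with rfl | rfl | rfl
    · exact ⟨u, hu⟩
    · exact ⟨v, hv⟩
    · exact ⟨w, hw.trans hzz.symm⟩
  have hspan : span (TL D) S₀ = T := by
    apply Set.Subset.antisymm
    · intro x hx
      simp only [span, Set.mem_sInter, Set.mem_ofPred_eq] at hx
      exact hx T ⟨fun y hy => hS₀ y hy, hTsub⟩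
    · rintro x ⟨u, hu⟩
      have := hgen u
      have e : (⟨p u, hp0 u⟩ : D) = x := Subtype.ext hu
      rw [e] at this
      exact this
  -- the bijection
  have hex : ∀ x : ↥(span (TL D) S₀), ∃ u, p u = ((x : D) : G) := by
    intro x
    have : (x : D) ∈ T := by rw [← hspan]; exact x.2
    exact this
  let e : ↥(span (TL D) S₀) ≃ Y :=
    { toFun := fun x => (hex x).choose
      invFun := fun u => ⟨⟨p u, hp0 u⟩, hgen u⟩
      left_inv := by
        intro x
        apply Subtype.ext
        apply Subtype.ext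
        exact (hex x).choose_spec
      right_inv := by
        intro u
        apply hp1
        exact (hex ⟨⟨p u, hp0 u⟩, hgen u⟩).choose_spec }
  have he : ∀ x : ↥(span (TL D) S₀), p (e x) = ((x : D) : G) := fun x => (hex x).choose_spec
  refine ⟨e, iso_of_third e (fun l hl => line_triple hT hl) hM3 ?_⟩
  intro a b c
  rw [third_iff hT, hthird, he a, he b, he c]

end Cfsg.Agent.Helper5.FischerLines
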