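import Mathlib
import Cfsg.Prelude.Def_FischerSpaces
import Cfsg.Agent.Helper5.FischerLinesB
import Cfsg.Agent.Helper5.FischerInvB

set_option autoImplicit false
open Cfsg Cfsg.LineSystem Cfsg.Agent.Helper5.FischerInv Cfsg.Agent.Helper5.ThreeTrans

namespace Cfsg.Agent.Helper5.FischerLines

variable {G : Type*} [Group G] {D : Set G}

/-- the transposition attached to a 2-subset of `Fin 4` -/
def rho (s : DualAffinePoint) : Equiv.Perm (Fin 4) :=
  if (0 : Fin 4) ∈ s.1 ∧ (1 : Fin 4) ∈ s.1 then Equiv.swap 0 1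
  else if (0 : Fin 4) ∈ s.1 ∧ (2 : Fin 4) ∈ s.1 then Equiv.swap 0 2
  else if (0 : Fin 4) ∈ s.1 ∧ (3 : Fin 4) ∈ s.1 then Equiv.swap 0 3
  else if (1 : Fin 4) ∈ s.1 ∧ (2 : Fin 4) ∈ s.1 then Equiv.swap 1 2
  else if (1 : Fin 4) ∈ s.1 ∧ (3 : Fin 4) ∈ s.1 then Equiv.swap 1 3
  else Equiv.swap 2 3

/-- the six points -/
def pt (i j : Fin 4) (h : ({i, j} : Finset (Fin 4)).card = 2) : DualAffinePoint := ⟨{i, j}, h⟩

def s01 : DualAffinePoint := pt 0 1 (by decide)
def s02 : DualAffinePoint := pt 0 2 (by decide)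
def s03 : DualAffinePoint := pt 0 3 (by decide)
def s12 : DualAffinePoint := pt 1 2 (by decide)
def s13 : DualAffinePoint := pt 1 3 (by decide)
def s23 : DualAffinePoint := pt 2 3 (by decide)

set_option maxRecDepth 100000 in
lemma all_six : ∀ s : DualAffinePoint, s = s01 ∨ s = s02 ∨ s = s03 ∨ s = s12 ∨ s = s13 ∨ s = s23 := by
  decide

set_option maxRecDepth 100000 in
lemma rho_vals : rho s01 = Equiv.swap 0 1 ∧ rho s12 = Equiv.swap 1 2 ∧ rho s23 = Equiv.swap 2 3 ∧
    rho s02 = Equiv.swap 0 1 * Equiv.swap 1 2 * (Equiv.swap (0 : Fin 4) 1)⁻¹ ∧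
    rho s13 = Equiv.swap 2 3 * Equiv.swap 1 2 * (Equiv.swap (2 : Fin 4) 3)⁻¹ ∧
    rho s03 = rho s02 * rho s23 * (rho s02)⁻¹ ∧ rho s23 * rho s02 ≠ rho s02 * rho s23 := by
  decide

set_option maxRecDepth 100000 in
lemma rho_inj : ∀ s t : DualAffinePoint, rho s = rho t → s = t := by decide

set_option maxRecDepth 100000 in
lemma rho_conj : ∀ s : DualAffinePoint, ∃ σ : Equiv.Perm (Fin 4),
    rho s = σ * Equiv.swap 0 1 * σ⁻¹ := by
  decide

set_option maxRecDepth 100000 in
lemma rho_third : ∀ u v w : DualAffinePoint, (w = dualF u v ∧ dualF u v ≠ v) ↔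
    (rho u * rho v ≠ rho v * rho u ∧ rho w = rho v * rho u * (rho v)⁻¹) := by
  decide

set_option maxRecDepth 100000 in
lemma rho_closed : ∀ u v : DualAffinePoint, rho u * rho v ≠ rho v * rho u →
    ∃ w, rho w = rho v * rho u * (rho v)⁻¹ := by
  decide

set_option maxRecDepth 100000 in
lemma dual_line_triple : ∀ i : Fin 4, ∃ u v w : DualAffinePoint, w ≠ u ∧ w ≠ v ∧ u ≠ v ∧
    ∀ s : DualAffinePoint, (s = u ∨ s = v ∨ s = w) ↔ i ∉ s.1 := by
  intro i
  fin_cases i
  · exact ⟨s12, s13, s23, by decide⟩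
  · exact ⟨s02, s03, s23, by decide⟩
  · exact ⟨s01, s03, s13, by decide⟩
  · exact ⟨s01, s02, s12, by decide⟩

lemma dual_hM3 : ∀ k ∈ dualAffinePlaneTwo, ∃ u v w, IsThird dualAffinePlaneTwo u v w ∧ k = {u, v, w} := by
  rintro k ⟨i, rfl⟩
  obtain ⟨u, v, w, h1, h2, h3, h4⟩ := dual_line_triple i
  have hset : ({u, v, w} : Set DualAffinePoint) = {s | i ∉ s.val} := by
    ext s
    simp only [Set.mem_insert_iff, Set.mem_singleton_iff, Set.mem_ofPred_eq]
    exact h4 s
  exact ⟨u, v, w, ⟨h1, h2, h3, i, hset⟩, hset.symm⟩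

lemma dual_third_iff (u v w : DualAffinePoint) :
    IsThird dualAffinePlaneTwo u v w ↔ (w = dualF u v ∧ dualF u v ≠ v) := by
  constructor
  · intro h
    have := dual_third h
    exact ⟨this, this ▸ h.2.1⟩
  · rintro ⟨rfl, hne⟩
    obtain ⟨h1, h2, i, hi⟩ := dual_c2 u v hne
    refine ⟨h1, hne, h2, i, ?_⟩
    ext s
    simp only [Set.mem_insert_iff, Set.mem_singleton_iff, Set.mem_ofPred_eq]
    exact hi s

lemma third_mem_span {X : Type*} (L : Set (Set X)) (S : Set X) {x y z : X}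
    (hx : x ∈ span L S) (hy : y ∈ span L S) (h : IsThird L x y z) : z ∈ span L S :=
  span_isSubspace L S _ h.2.2.2 x hx y hy h.2.2.1 (by simp) (by simp) (by simp)

theorem dual_case (hT : TT D) (a b c d e : D) (hl : IsThird (TL D) a b c)
    (hm : IsThird (TL D) a d e) (hbd : Commute (b : G) (d : G)) (hne : b ≠ d) :
    Isomorphic (restrict (TL D) (span (TL D) ({a, b, c} ∪ {a, d, e}))) dualAffinePlaneTwo := by
  obtain ⟨hab, hc⟩ := (third_iff hT a b c).1 hl
  obtain ⟨had, he⟩ := (third_iff hT a d e).1 hm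
  have hba : ¬ Commute (b : G) (a : G) := fun h => hab h.symm
  obtain ⟨φ, h0, h1, h2⟩ := exists_s4 hT b.2 a.2 d.2 hbd hba had
  have hinj : Function.Injective φ := by
    apply Cfsg.Agent.Helper3.S4Pres.injective_of_ne_one
    rw [map_mul, h0, h2]
    intro h
    apply hne
    apply Subtype.ext
    rw [mul_eq_one_iff_eq_inv.mp h, hT.inv d.2]
  obtain ⟨r01, r12, r23, r02, r13, r03, rnc⟩ := rho_vals
  have comm_iff : ∀ x y : Equiv.Perm (Fin 4), Commute (φ x) (φ y) ↔ x * y = y * x := by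
    intro x y
    constructor
    · intro h
      apply hinj
      rw [map_mul, map_mul]; exact h.eq
    · intro h
      have : Commute x y := h
      exact this.map φ
  have hp0 : ∀ s, φ (rho s) ∈ D := by
    intro s
    obtain ⟨σ, hσ⟩ := rho_conj s
    rw [hσ, map_mul, map_mul, map_inv, h0]
    exact hT.conj _ _ b.2
  have pa : φ (rho s12) = (a : G) := by rw [r12, h1]
  have pb : φ (rho s01) = (b : G) := by rw [r01, h0]
  have pd : φ (rho s23) = (d : G) := by rw [r23, h2]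
  have pc : φ (rho s02) = (c : G) := by
    rw [r02, map_mul, map_mul, map_inv, h0, h1, hc]
  have pe : φ (rho s13) = (e : G) := by
    rw [r13, map_mul, map_mul, map_inv, h2, h1, he]
  apply plane_iso hT dualAffinePlaneTwo (fun s => φ (rho s)) hp0
  · intro s t hst
    exact rho_inj s t (hinj hst)
  · exact dual_hM3
  · intro u v w
    rw [dual_third_iff, rho_third, comm_iff]
    constructor
    · rintro ⟨h1, h2⟩
      exact ⟨h1, by rw [h2, map_mul, map_mul, map_inv]⟩
    · rintro ⟨h1, h2⟩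
      refine ⟨h1, hinj ?_⟩
      rw [h2, map_mul, map_mul, map_inv]
  · intro u v huv
    rw [comm_iff] at huv
    obtain ⟨w, hw⟩ := rho_closed u v huv
    exact ⟨w, by rw [hw, map_mul, map_mul, map_inv]⟩
  · intro x hx
    simp only [Set.mem_union, Set.mem_insert_iff, Set.mem_singleton_iff] at hx
    rcases hx with (rfl | rfl | rfl) | (rfl | rfl | rfl)
    · exact ⟨s12, pa⟩
    · exact ⟨s01, pb⟩
    · exact ⟨s02, pc⟩
    · exact ⟨s12, pa⟩
    · exact ⟨s23, pd⟩
    · exact ⟨s13, pe⟩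
  · intro s
    set S₀ : Set D := {a, b, c} ∪ {a, d, e} with hS₀
    have hsub := subset_span' (TL D) S₀
    have ma : (⟨φ (rho s12), hp0 s12⟩ : D) ∈ span (TL D) S₀ := by
      have : (⟨φ (rho s12), hp0 s12⟩ : D) = a := Subtype.ext pa
      rw [this]; exact hsub (by simp [hS₀])
    have mb : (⟨φ (rho s01), hp0 s01⟩ : D) ∈ span (TL D) S₀ := by
      have : (⟨φ (rho s01), hp0 s01⟩ : D) = b := Subtype.ext pb
      rw [this]; exact hsub (by simp [hS₀])
    have mc : (⟨φ (rho s02), hp0 s02⟩ : D) ∈ span (TL D) S₀ := by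
      have : (⟨φ (rho s02), hp0 s02⟩ : D) = c := Subtype.ext pc
      rw [this]; exact hsub (by simp [hS₀])
    have md : (⟨φ (rho s23), hp0 s23⟩ : D) ∈ span (TL D) S₀ := by
      have : (⟨φ (rho s23), hp0 s23⟩ : D) = d := Subtype.ext pd
      rw [this]; exact hsub (by simp [hS₀])
    have me : (⟨φ (rho s13), hp0 s13⟩ : D) ∈ span (TL D) S₀ := by
      have : (⟨φ (rho s13), hp0 s13⟩ : D) = e := Subtype.ext pe
      rw [this]; exact hsub (by simp [hS₀])
    have mf : (⟨φ (rho s03), hp0 s03⟩ : D) ∈ span (TL D) S₀ := by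
      apply third_mem_span (TL D) S₀ md mc
      rw [third_iff hT]
      refine ⟨?_, ?_⟩
      · rw [comm_iff]; exact rnc
      · change φ (rho s03) = φ (rho s02) * φ (rho s23) * (φ (rho s02))⁻¹
        rw [r03, map_mul, map_mul, map_inv]
    rcases all_six s with rfl | rfl | rfl | rfl | rfl | rfl
    · exact mb
    · exact mc
    · exact mf
    · exact ma
    · exact me
    · exact md

end Cfsg.Agent.Helper5.FischerLines
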