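import Mathlib
import Cfsg.Prelude.Def_FischerSpaces
import Cfsg.Agent.Helper5.FischerLinesB
import Cfsg.Agent.Helper5.FischerInvB
import Cfsg.Agent.Helper5.FischerDual
import Cfsg.Agent.Helper5.Fischer54C

set_option autoImplicit false
open Cfsg Cfsg.LineSystem Cfsg.Agent.Helper5.FischerInv Cfsg.Agent.Helper5.ThreeTrans
open Cfsg.Agent.Helper3.CosetCert Cfsg.Agent.Helper5.Fischer54

namespace Cfsg.Agent.Helper5.FischerLines

universe u
variable {G : Type u} [Group G] {D : Set G}

lemma affine_third_iff (u v w : Fin 2 → ZMod 3) :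
    IsThird affinePlaneThree u v w ↔ (u ≠ v ∧ w = -(u + v)) := by
  constructor
  · intro h
    exact ⟨h.2.2.1, affine_third h⟩
  · rintro ⟨h, rfl⟩
    exact affine_third_exists h

lemma affine_line_eq {p q : Fin 2 → ZMod 3} :
    ({p, q, -(p + q)} : Set (Fin 2 → ZMod 3)) = {x | ∃ c : ZMod 3, x = p + c • (q - p)} := by
  ext x
  simp only [Set.mem_insert_iff, Set.mem_singleton_iff, Set.mem_ofPred_eq]
  constructor
  · rintro (rfl | rfl | rfl)
    · exact ⟨0, by simp⟩
    · exact ⟨1, by simp⟩
    · refine ⟨2, ?_⟩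
      funext i
      simp only [Pi.neg_apply, Pi.add_apply, Pi.smul_apply, Pi.sub_apply, smul_eq_mul]
      exact zmod3_c _ _
  · rintro ⟨c, rfl⟩
    have hc : c = 0 ∨ c = 1 ∨ c = 2 := by
      revert c; decide
    rcases hc with rfl | rfl | rfl
    · left; simp
    · right; left; simp
    · right; right
      funext i
      simp only [Pi.neg_apply, Pi.add_apply, Pi.smul_apply, Pi.sub_apply, smul_eq_mul]
      exact (zmod3_c _ _).symm

lemma affine_hM3 : ∀ k ∈ affinePlaneThree, ∃ u v w, IsThird affinePlaneThree u v w ∧ k = {u, v, w} := by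
  rintro k ⟨v, w, hw, rfl⟩
  have hne : v ≠ v + w := by
    intro h
    apply hw
    have : v + 0 = v + w := by rw [add_zero]; exact h
    exact (add_left_cancel this).symm
  refine ⟨v, v + w, -(v + (v + w)), affine_third_exists hne, ?_⟩
  rw [affine_line_eq, add_sub_cancel_left]

set_option maxRecDepth 100000 in
lemma s4_id4 : Equiv.swap (1 : Fin 4) 2 *
    ((Equiv.swap (2 : Fin 4) 3 * Equiv.swap 1 2 * (Equiv.swap (2 : Fin 4) 3)⁻¹) * Equiv.swap 0 1 *
      (Equiv.swap (2 : Fin 4) 3 * Equiv.swap 1 2 * (Equiv.swap (2 : Fin 4) 3)⁻¹)⁻¹) =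
    ((Equiv.swap (2 : Fin 4) 3 * Equiv.swap 1 2 * (Equiv.swap (2 : Fin 4) 3)⁻¹) * Equiv.swap 0 1 *
      (Equiv.swap (2 : Fin 4) 3 * Equiv.swap 1 2 * (Equiv.swap (2 : Fin 4) 3)⁻¹)⁻¹) *
      Equiv.swap (1 : Fin 4) 2 := by
  decide

/-- in the affine case `a` does not commute with the third point of `b, d` -/
lemma not_commute_third (hT : TT D) {a b d : G} (ha : a ∈ D) (hb : b ∈ D) (hd : d ∈ D)
    (hab : ¬ Commute a b) (hbd : ¬ Commute b d) (hbe : ¬ Commute b (d * a * d⁻¹)) :
    ¬ Commute a (d * b * d⁻¹) := by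
  intro hcomm
  have hdd := hT.sq d hd
  have hdi : d⁻¹ = d := hT.inv hd
  have hg : d * b * d⁻¹ ∈ D := hT.conj d b hb
  by_cases hag : a = d * b * d⁻¹
  · apply hbe
    have : d * a * d⁻¹ = b := by
      rw [hag]
      calc d * (d * b * d⁻¹) * d⁻¹ = (d * d) * b * (d * d)⁻¹ := by group
        _ = b := by rw [hdd, one_mul, inv_one, mul_one]
    rw [this]
  · have hbg_ne : b ≠ d * b * d⁻¹ := by
      intro h
      apply hbd
      have : b * d = d * b := eq_mul_inv_iff_mul_eq.mp h
      exact this
    have hdb_ne : d ≠ b := by rintro rfl; exact hbd (Commute.refl _)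
    have hdg_ne : d ≠ d * b * d⁻¹ := by
      intro h
      apply hdb_ne
      have h1 : d * d = d * b := eq_mul_inv_iff_mul_eq.mp h
      exact mul_left_cancel h1
    obtain ⟨hbg, _, h3⟩ := pair_lemma hT hb hd hbd (u := b) (v := d * b * d⁻¹) (Or.inl rfl)
      (Or.inr (Or.inr rfl)) hbg_ne
    have hdd' : d = (d * b * d⁻¹) * b * (d * b * d⁻¹)⁻¹ :=
      h3 d (Or.inr (Or.inl rfl)) hdb_ne hdg_ne
    obtain ⟨φ, h0, h1, h2⟩ := exists_s4 hT ha hb hg hcomm hab hbg
    have e4 := congrArg φ s4_id4
    simp only [map_mul, map_inv, h0, h1, h2] at e4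
    rw [← hdd'] at e4
    exact hbe e4

theorem affine_case (hT : TT D) (a b c d e : D) (hl : IsThird (TL D) a b c)
    (hm : IsThird (TL D) a d e) (hbd : ¬ Commute (b : G) (d : G)) (hbe : ¬ Commute (b : G) (e : G)) :
    Isomorphic (restrict (TL D) (span (TL D) ({a, b, c} ∪ {a, d, e}))) affinePlaneThree := by
  obtain ⟨hab, hc⟩ := (third_iff hT a b c).1 hl
  obtain ⟨had, he⟩ := (third_iff hT a d e).1 hm
  have hag : ¬ Commute (a : G) ((d : G) * (b : G) * (d : G)⁻¹) :=
    not_commute_third hT a.2 b.2 d.2 hab hbd (he ▸ hbe)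
  have hbi : (b : G)⁻¹ = b := hT.inv b.2
  have hdi : (d : G)⁻¹ = d := hT.inv d.2
  set gens : Fin 3 → G := ![(a : G), (b : G), (d : G)] with hgens
  have g0 : gens 0 = a := rfl
  have g1 : gens 1 = b := rfl
  have g2 : gens 2 = d := rfl
  have hgD : ∀ i, gens i ∈ D := by
    intro i
    fin_cases i
    · exact a.2
    · exact b.2
    · exact d.2
  have hsq : ∀ i, gens i * gens i = 1 := fun i => hT.sq _ (hgD i)
  have hR : ∀ r ∈ R, prodL gens r = 1 := by
    intro r hr
    simp only [R, List.mem_cons, List.not_mem_nil, or_false] at hr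
    rcases hr with rfl | rfl | rfl | rfl | rfl | rfl | rfl
    · simp only [prodL, List.map_cons, List.map_nil, List.prod_cons, List.prod_nil, mul_one]
      exact hsq 0
    · simp only [prodL, List.map_cons, List.map_nil, List.prod_cons, List.prod_nil, mul_one]
      exact hsq 1
    · simp only [prodL, List.map_cons, List.map_nil, List.prod_cons, List.prod_nil, mul_one]
      exact hsq 2
    · have := hT.cube a a.2 b b.2 hab
      simp only [pow_succ, pow_zero, one_mul, mul_assoc] at this
      simp only [prodL, List.map_cons, List.map_nil, List.prod_cons, List.prod_nil, mul_one, g0, g1]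
      exact this
    · have := hT.cube a a.2 d d.2 had
      simp only [pow_succ, pow_zero, one_mul, mul_assoc] at this
      simp only [prodL, List.map_cons, List.map_nil, List.prod_cons, List.prod_nil, mul_one, g0, g2]
      exact this
    · have := hT.cube b b.2 d d.2 hbd
      simp only [pow_succ, pow_zero, one_mul, mul_assoc] at this
      simp only [prodL, List.map_cons, List.map_nil, List.prod_cons, List.prod_nil, mul_one, g1, g2]
      exact this
    · have := hT.cube a a.2 _ (hT.conj d b b.2) hag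
      rw [hdi] at this
      simp only [pow_succ, pow_zero, one_mul, mul_assoc] at this
      simp only [prodL, List.map_cons, List.map_nil, List.prod_cons, List.prod_nil, mul_one, g0, g1,
        g2]
      exact this
  obtain ⟨w00, w10, w01, w20, w02, w22, _, _, _⟩ := wt_vals
  have hne_of : ∀ x y : G, ¬ Commute x y → x ≠ y := by
    rintro x y h rfl; exact h (Commute.refl _)
  have href : ∀ r ∈ refs, prodL gens (wt r.1.1 r.1.2) ≠ prodL gens (wt r.2.1 r.2.2) := by
    intro r hr
    simp only [refs, List.mem_cons, List.not_mem_nil, or_false] at hr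
    rcases hr with rfl | rfl | rfl | rfl
    · simp only [w00, w10, prodL, List.map_cons, List.map_nil, List.prod_cons, List.prod_nil,
        mul_one, g0, g1]
      exact hne_of _ _ hab
    · simp only [w00, w01, prodL, List.map_cons, List.map_nil, List.prod_cons, List.prod_nil,
        mul_one, g0, g2]
      exact hne_of _ _ had
    · simp only [w10, w01, prodL, List.map_cons, List.map_nil, List.prod_cons, List.prod_nil,
        mul_one, g1, g2]
      exact hne_of _ _ hbd
    · simp only [w00, w22, prodL, List.map_cons, List.map_nil, List.prod_cons, List.prod_nil,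
        mul_one, g0, g1, g2]
      have := hne_of _ _ hag
      rw [hdi, mul_assoc] at this
      exact this
  obtain ⟨q00, q10, q01, q20, q02, q22⟩ := q_vals gens
  have hp0 : ∀ v, q gens v ∈ D := by
    intro v
    rw [q_form gens hsq]
    exact hT.conj _ _ (hgD _)
  have pa : q gens ![0, 0] = (a : G) := q00
  have pb : q gens ![1, 0] = (b : G) := q10
  have pd : q gens ![0, 1] = (d : G) := q01
  have pc : q gens ![2, 0] = (c : G) := by rw [q20, hc, hbi, g0, g1]
  have pe : q gens ![0, 2] = (e : G) := by rw [q02, he, hdi, g0, g2]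
  apply plane_iso hT affinePlaneThree (q gens) hp0
  · intro v w hvw
    by_contra hne
    exact q_ne gens hsq hR href hne hvw
  · exact affine_hM3
  · intro u v w
    rw [affine_third_iff]
    constructor
    · rintro ⟨huv, rfl⟩
      exact ⟨q_not_commute gens hsq hR href huv, (q_third gens hsq hR u v).symm⟩
    · rintro ⟨hnc, hw⟩
      have huv : u ≠ v := by rintro rfl; exact hnc (Commute.refl _)
      refine ⟨huv, ?_⟩
      rw [q_third gens hsq hR u v] at hw
      by_contra hne
      exact q_ne gens hsq hR href hne hw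
  · intro u v _
    exact ⟨-(u + v), (q_third gens hsq hR u v).symm⟩
  · intro x hx
    simp only [Set.mem_union, Set.mem_insert_iff, Set.mem_singleton_iff] at hx
    rcases hx with (rfl | rfl | rfl) | (rfl | rfl | rfl)
    · exact ⟨_, pa⟩
    · exact ⟨_, pb⟩
    · exact ⟨_, pc⟩
    · exact ⟨_, pa⟩
    · exact ⟨_, pd⟩
    · exact ⟨_, pe⟩
  · set S₀ : Set D := {a, b, c} ∪ {a, d, e} with hS₀
    have hsub := subset_span' (TL D) S₀
    have base : ∀ (v : Fin 2 → ZMod 3) (x : D), q gens v = (x : G) → x ∈ S₀ →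
        (⟨q gens v, hp0 v⟩ : D) ∈ span (TL D) S₀ := by
      intro v x hv hx
      have : (⟨q gens v, hp0 v⟩ : D) = x := Subtype.ext hv
      rw [this]; exact hsub hx
    have step : ∀ v w t : Fin 2 → ZMod 3, v ≠ w → t = -(v + w) →
        (⟨q gens v, hp0 v⟩ : D) ∈ span (TL D) S₀ → (⟨q gens w, hp0 w⟩ : D) ∈ span (TL D) S₀ →
        (⟨q gens t, hp0 t⟩ : D) ∈ span (TL D) S₀ := by
      intro v w t hvw ht hv hw
      apply third_mem_span (TL D) S₀ hv hw
      rw [third_iff hT]
      refine ⟨q_not_commute gens hsq hR href hvw, ?_⟩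
      change q gens t = q gens w * q gens v * (q gens w)⁻¹
      rw [ht, q_third gens hsq hR v w]
    have m00 := base ![0, 0] a pa (by simp [hS₀])
    have m10 := base ![1, 0] b pb (by simp [hS₀])
    have m20 := base ![2, 0] c pc (by simp [hS₀])
    have m01 := base ![0, 1] d pd (by simp [hS₀])
    have m02 := base ![0, 2] e pe (by simp [hS₀])
    have m22 := step ![1, 0] ![0, 1] ![2, 2] (by decide) (by decide) m10 m01
    have m11 := step ![0, 0] ![2, 2] ![1, 1] (by decide) (by decide) m00 m22
    have m12 := step ![2, 0] ![0, 1] ![1, 2] (by decide) (by decide) m20 m01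
    have m21 := step ![0, 2] ![1, 0] ![2, 1] (by decide) (by decide) m02 m10
    intro u
    have hall : ∀ u : Fin 2 → ZMod 3, u = ![0, 0] ∨ u = ![1, 0] ∨ u = ![2, 0] ∨ u = ![0, 1] ∨
        u = ![0, 2] ∨ u = ![2, 2] ∨ u = ![1, 1] ∨ u = ![1, 2] ∨ u = ![2, 1] := by decide
    rcases hall u with rfl | rfl | rfl | rfl | rfl | rfl | rfl | rfl | rfl
    · exact m00
    · exact m10
    · exact m20
    · exact m01
    · exact m02
    · exact m22
    · exact m11
    · exact m12
    · exact m21

end Cfsg.Agent.Helper5.FischerLines
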