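import Mathlib
import Cfsg.Prelude.Def_FischerSpaces
import Cfsg.Agent.Helper5.FischerAffine

set_option autoImplicit false
open Cfsg Cfsg.LineSystem Cfsg.Agent.Helper5.FischerInv Cfsg.Agent.Helper5.ThreeTrans

namespace Cfsg.Agent.Helper5.FischerLines

universe u
variable {G : Type u} [Group G] {D : Set G}

lemma exists_other (hT : TT D) {l : Set D} (hl : l ∈ TL D) {a : D} (ha : a ∈ l) :
    ∃ b ∈ l, b ≠ a := by
  obtain ⟨x, y, z, h, rfl⟩ := line_triple hT hl
  by_cases hxa : x = a
  · exact ⟨y, by simp, fun h' => h.2.2.1 (hxa.trans h'.symm)⟩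
  · exact ⟨x, by simp, hxa⟩

theorem main_S5367 (hD : IsThreeTranspositionGroup D) :
    IsFischerSpace (threeTranspositionLines D) := by
  have hT : TT D := tt_of_set hD.1 hD.2.1
  refine ⟨partialLinear_TL hT, fun l hl => ncard_line hT hl, ?_⟩
  intro l hl m hm hlm hne
  obtain ⟨a, hal, ham⟩ := hne
  obtain ⟨b, hbl, hba⟩ := exists_other hT hl hal
  obtain ⟨d, hdm, hda⟩ := exists_other hT hm ham
  obtain ⟨c, hc, hlc⟩ := exists_third_of_line hl (ncard_line hT hl) hal hbl hba.symm
  obtain ⟨e, he, hme⟩ := exists_third_of_line hm (ncard_line hT hm) ham hdm hda.symm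
  have hem : e ∈ m := by rw [hme]; simp
  have hbd : b ≠ d := by
    rintro rfl
    exact hlm (partialLinear_TL hT l hl m hm a b hba.symm hal hbl ham hdm)
  have hbe : b ≠ e := by
    rintro rfl
    exact hlm (partialLinear_TL hT l hl m hm a b hba.symm hal hbl ham hem)
  rw [hlc, hme]
  by_cases h1 : Commute (b : G) (d : G)
  · left
    exact dual_case hT a b c d e hc he h1 hbd
  · by_cases h2 : Commute (b : G) (e : G)
    · left
      have : ({a, d, e} : Set D) = {a, e, d} := by
        ext p; simp only [Set.mem_insert_iff, Set.mem_singleton_iff]; tauto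
      rw [this]
      exact dual_case hT a b c e d hc (third_swap23 he) h2 hbe
    · right
      exact affine_case hT a b c d e hc he h1 h2

end Cfsg.Agent.Helper5.FischerLines
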