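import Mathlib

set_option autoImplicit false

/-!
# S2933, part A: the abstract configuration

`T` a `2`-group with automorphisms `τ` (of order `≤ 2`) and `ρ` (with `x * ρ x * ρ² x = 1`,
`x * ρ x = ρ x * x`), `V = C_T(τ)` a four-group permuted transitively by `ρ`.
-/

namespace Cfsg.Agent.Helper5.FourT

variable {T : Type*} [Group T]

/-- the configuration, without centrality of `V` -/
structure Pre (V : Subgroup T) (τ ρ : MulAut T) : Prop where
  two : ∀ x : T, ∃ k : ℕ, x ^ (2 ^ k) = 1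
  tt : ∀ x : T, τ (τ x) = x
  tr : ∀ x : T, τ (ρ x) = ρ (τ x)
  p3 : ∀ x : T, x * ρ x * ρ (ρ x) = 1
  cm : ∀ x : T, x * ρ x = ρ x * x
  fix : ∀ x : T, τ x = x ↔ x ∈ V
  sq : ∀ v ∈ V, v * v = 1
  four : ∃ v ∈ V, v ≠ 1 ∧ ∀ w ∈ V, w = 1 ∨ w = v ∨ w = ρ v ∨ w = ρ (ρ v)

/-- the configuration -/
structure Cfg (V : Subgroup T) (τ ρ : MulAut T) : Prop where
  pre : Pre V τ ρ
  cen : ∀ v ∈ V, ∀ x : T, v * x = x * v

variable {V : Subgroup T} {τ ρ : MulAut T}

theorem Pre.rr (c : Pre V τ ρ) (x : T) : ρ (ρ x) = (x * ρ x)⁻¹ :=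
  eq_inv_of_mul_eq_one_right (c.p3 x)

theorem Pre.rho3 (c : Pre V τ ρ) (x : T) : ρ (ρ (ρ x)) = x := by
  have h2 := c.p3 (ρ x)
  have h3 : ρ x * ρ (ρ x) = x⁻¹ := by
    have h1 : x * (ρ x * ρ (ρ x)) = 1 := by rw [← mul_assoc]; exact c.p3 x
    exact eq_inv_of_mul_eq_one_right h1
  rw [h3] at h2
  exact (inv_mul_eq_one.mp h2).symm

theorem Pre.fpf (c : Pre V τ ρ) {x : T} (h : ρ x = x) : x = 1 := by
  have h3 : x ^ 3 = 1 := by
    have h1 := c.p3 x
    rw [h, h] at h1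
    rw [pow_succ, pow_two]; exact h1
  obtain ⟨k, hk⟩ := c.two x
  have d1 := orderOf_dvd_of_pow_eq_one h3
  have d2 := orderOf_dvd_of_pow_eq_one hk
  have hd : orderOf x ∣ Nat.gcd 3 (2 ^ k) := Nat.dvd_gcd d1 d2
  have hg : Nat.gcd 3 (2 ^ k) = 1 := Nat.Coprime.pow_right k (by norm_num)
  rw [hg] at hd
  exact orderOf_eq_one_iff.mp (Nat.dvd_one.mp hd)

theorem Pre.rho_mem (c : Pre V τ ρ) {v : T} (hv : v ∈ V) : ρ v ∈ V :=
  (c.fix _).mp (by rw [c.tr, (c.fix v).mpr hv])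

theorem Pre.rho_inj (_c : Pre V τ ρ) {x y : T} (h : ρ x = ρ y) : x = y := ρ.injective h

/-- `x⁻¹ τ(x)` is inverted by `τ` -/
theorem tau_phi (htt : ∀ x : T, τ (τ x) = x) (x : T) :
    τ (x⁻¹ * τ x) = (x⁻¹ * τ x)⁻¹ := by
  rw [map_mul, map_inv, htt, mul_inv_rev, inv_inv]

theorem Pre.fib (c : Pre V τ ρ) {x x' : T} (h : x⁻¹ * τ x = x'⁻¹ * τ x') : x' * x⁻¹ ∈ V := by
  apply (c.fix _).mp
  have h1 : τ x = x * (x'⁻¹ * τ x') := by rw [← h]; group
  rw [map_mul, map_inv, h1]; group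

theorem Pre.four_of (c : Pre V τ ρ) {y : T} (hy : y ∈ V) (hy1 : y ≠ 1) :
    ∀ w ∈ V, w = 1 ∨ w = y ∨ w = ρ y ∨ w = ρ (ρ y) := by
  obtain ⟨v, _, _, hall⟩ := c.four
  rcases hall y hy with h | h | h | h
  · exact absurd h hy1
  · subst h; exact hall
  · intro w hw
    have e1 : ρ (ρ y) = v := by rw [h, c.rho3]
    rcases hall w hw with h' | h' | h' | h'
    · exact Or.inl h'
    · exact Or.inr (Or.inr (Or.inr (by rw [e1, h'])))
    · exact Or.inr (Or.inl (by rw [h, h']))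
    · exact Or.inr (Or.inr (Or.inl (by rw [h, h'])))
  · intro w hw
    have e1 : ρ y = v := by rw [h, c.rho3]
    rcases hall w hw with h' | h' | h' | h'
    · exact Or.inl h'
    · exact Or.inr (Or.inr (Or.inl (by rw [e1, h'])))
    · exact Or.inr (Or.inr (Or.inr (by rw [e1, h'])))
    · exact Or.inr (Or.inl (by rw [h, h']))

/-- the descent lemma: from an element outside `S` one gets one outside `S` whose
`τ`-commutator is inside. -/
theorem lemS_raw {τ : MulAut T} (h2 : ∀ x : T, ∃ k : ℕ, x ^ (2 ^ k) = 1)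
    (htt : ∀ x : T, τ (τ x) = x) (S : Set T) (h1 : (1 : T) ∈ S) {x : T} (hx : x ∉ S) :
    ∃ x' : T, x' ∉ S ∧ x'⁻¹ * τ x' ∈ S ∧
      (x' = x ∨ x' ∈ Subgroup.zpowers (x⁻¹ * τ x)) := by
  classical
  have hτz : τ (x⁻¹ * τ x) = (x⁻¹ * τ x)⁻¹ := tau_phi htt x
  obtain ⟨z, hz⟩ : ∃ z : T, z = x⁻¹ * τ x := ⟨_, rfl⟩
  rw [← hz] at hτz ⊢
  by_cases hzS : z ∈ S
  · exact ⟨x, hx, by rw [← hz]; exact hzS, Or.inl rfl⟩
  · obtain ⟨k, hk⟩ := h2 z
    have hP : ∃ n : ℕ, z ^ ((-2 : ℤ) ^ n) ∈ S := by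
      refine ⟨k, ?_⟩
      have e : ((-2 : ℤ)) ^ k = ((2 ^ k : ℕ) : ℤ) * (-1) ^ k := by
        rw [show (-2 : ℤ) = 2 * (-1) by norm_num, mul_pow]; push_cast; ring
      have : z ^ ((-2 : ℤ) ^ k) = 1 := by
        rw [e, zpow_mul, zpow_natCast, hk, one_zpow]
      rw [this]; exact h1
    have hm : z ^ ((-2 : ℤ) ^ (Nat.find hP)) ∈ S := Nat.find_spec hP
    have hm0 : Nat.find hP ≠ 0 := by
      intro h0
      rw [h0, pow_zero, zpow_one] at hm
      exact hzS hm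
    obtain ⟨m', hm'⟩ := Nat.exists_eq_succ_of_ne_zero hm0
    have hlt : ¬ z ^ ((-2 : ℤ) ^ m') ∈ S := Nat.find_min hP (by omega)
    refine ⟨z ^ ((-2 : ℤ) ^ m'), hlt, ?_, Or.inr (Subgroup.zpow_mem_zpowers _ _)⟩
    have hτw : τ (z ^ ((-2 : ℤ) ^ m')) = (z ^ ((-2 : ℤ) ^ m'))⁻¹ := by
      rw [map_zpow, hτz, inv_zpow]
    rw [hτw]
    have e2 : (z ^ ((-2 : ℤ) ^ m'))⁻¹ * (z ^ ((-2 : ℤ) ^ m'))⁻¹
        = z ^ ((-2 : ℤ) ^ (Nat.find hP)) := by
      rw [hm', pow_succ, zpow_mul, zpow_neg, zpow_two, mul_inv_rev]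
    rw [e2]; exact hm

theorem Pre.lemS (c : Pre V τ ρ) (S : Set T) (h1 : (1 : T) ∈ S) {x : T} (hx : x ∉ S) :
    ∃ x' : T, x' ∉ S ∧ x'⁻¹ * τ x' ∈ S ∧
      (x' = x ∨ x' ∈ Subgroup.zpowers (x⁻¹ * τ x)) :=
  lemS_raw c.two c.tt S h1 hx

theorem conj_rho (ρ : MulAut T) (g x : T) :
    ρ (MulAut.conj g x) = MulAut.conj (ρ g) (ρ x) := by
  simp [MulAut.conj_apply]

/-- the product of two involutions has order dividing `4`. -/
theorem Pre.inv_mul_pow4 (c : Pre V τ ρ) {a b : T} (ha : a * a = 1) (hb : b * b = 1) :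
    (a * b) ^ 4 = 1 := by
  have hai : a⁻¹ = a := inv_eq_of_mul_eq_one_right ha
  have hbi : b⁻¹ = b := inv_eq_of_mul_eq_one_right hb
  have h11 : ρ a * ρ a = 1 := by rw [← map_mul, ha, map_one]
  have h1i : (ρ a)⁻¹ = ρ a := inv_eq_of_mul_eq_one_right h11
  have F1 : ρ (ρ a) = ρ a * a := by rw [c.rr a, mul_inv_rev, hai, h1i]
  have F2 : ρ (ρ a * a) = a := by rw [← F1, c.rho3]
  have F3 : MulAut.conj a (a * b) = (a * b)⁻¹ := by
    rw [MulAut.conj_apply, hai, mul_inv_rev, hai, hbi, ← mul_assoc, ha, one_mul]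
  obtain ⟨y, hy⟩ : ∃ y : T, y = a * b := ⟨_, rfl⟩
  rw [← hy] at F3 ⊢
  obtain ⟨u, hu⟩ : ∃ u : T, u = MulAut.conj (ρ a) y := ⟨_, rfl⟩
  obtain ⟨U, hU⟩ : ∃ U : T, U = ρ u := ⟨_, rfl⟩
  have F4 : MulAut.conj (ρ a * a) y = u⁻¹ := by
    rw [map_mul MulAut.conj, MulAut.mul_apply, F3, map_inv, ← hu]
  have F5 : U = MulAut.conj (ρ a * a) (ρ y) := by
    rw [hU, hu, conj_rho, F1]
  have F6 : MulAut.conj a (ρ y) = U⁻¹ := by
    have h := congrArg ρ F4
    rw [conj_rho, F2, map_inv, ← hU] at h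
    exact h
  have F7 : MulAut.conj a (ρ (ρ y)) = ρ U := by
    rw [F5, conj_rho, F2]
  have R1' : y⁻¹ * U⁻¹ * ρ U = 1 := by
    have h := congrArg (MulAut.conj a) (c.p3 y)
    rw [map_mul, map_mul, F3, F6, F7, map_one] at h
    exact h
  have P3u : u * U * ρ U = 1 := by rw [hU]; exact c.p3 u
  have hc : Commute u U := by rw [hU]; exact c.cm u
  have F8 : MulAut.conj (ρ a) u = y := by
    rw [hu, ← MulAut.mul_apply, ← map_mul, h11, map_one, MulAut.one_apply]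
  have F9 : MulAut.conj (ρ a) U = U⁻¹ := by
    have h : MulAut.conj (ρ a) (MulAut.conj (ρ a * a) (ρ y)) = MulAut.conj a (ρ y) := by
      rw [← MulAut.mul_apply, ← map_mul, ← mul_assoc, h11, one_mul]
    rw [← F6, ← h, ← F5]
  have hρU : ρ U = U * y := by
    have h := eq_inv_of_mul_eq_one_right R1'
    rw [h]; group
  have X : u * U * U * y = 1 := by
    have h := P3u
    rw [hρU] at h
    rw [← h]; group
  have Y : y * U⁻¹ * U⁻¹ * u = 1 := by
    have h := congrArg (MulAut.conj (ρ a)) X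
    rw [map_mul, map_mul, map_mul, F8, F9, ← hu, map_one] at h
    exact h
  have h1 : y = (u * U * U)⁻¹ := eq_inv_of_mul_eq_one_right X
  have h2 : y = (U⁻¹ * U⁻¹ * u)⁻¹ := by
    apply eq_inv_of_mul_eq_one_left
    rw [← Y]; group
  have e : u * U * U = U⁻¹ * U⁻¹ * u := inv_injective (h1.symm.trans h2)
  have hcc : u * (U * U) = (U * U) * u := (hc.mul_right hc).eq
  have hU4 : U * U * (U * U) = 1 := by
    have h : u * (U * U * (U * U)) = u * 1 := by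
      calc u * (U * U * (U * U)) = (u * (U * U)) * (U * U) := by group
        _ = ((U * U) * u) * (U * U) := by rw [hcc]
        _ = (U * U) * (u * U * U) := by group
        _ = (U * U) * (U⁻¹ * U⁻¹ * u) := by rw [e]
        _ = u * 1 := by group
    exact mul_left_cancel h
  have hu4 : u ^ 4 = 1 := by
    apply ρ.injective
    rw [map_pow, map_one, ← hU]
    rw [show (4 : ℕ) = 2 + 2 by norm_num, pow_add, pow_two]; exact hU4
  have h4 : MulAut.conj (ρ a) (y ^ 4) = MulAut.conj (ρ a) 1 := by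
    rw [map_pow, map_one, ← hu]; exact hu4
  exact (MulAut.conj (ρ a)).injective h4

theorem Pre.card_V (c : Pre V τ ρ) : Nat.card V = 4 := by
  obtain ⟨v, hv, hv1, hall⟩ := c.four
  have hρv1 : ρ v ≠ 1 := fun h => hv1 (ρ.injective (by rw [h, map_one]))
  have hρρv1 : ρ (ρ v) ≠ 1 := fun h => hρv1 (ρ.injective (by rw [h, map_one]))
  have h01 : v ≠ ρ v := fun h => hv1 (c.fpf h.symm)
  have h12 : ρ v ≠ ρ (ρ v) := fun h => h01 (ρ.injective h)
  have h02 : v ≠ ρ (ρ v) := fun h => h01 (by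
    have h' := congrArg ρ h
    rw [c.rho3] at h'
    exact h'.symm)
  have hset : (V : Set T) = {1, v, ρ v, ρ (ρ v)} := by
    ext w
    simp only [SetLike.mem_coe, Set.mem_insert_iff, Set.mem_singleton_iff]
    constructor
    · intro hw; exact hall w hw
    · rintro (h | h | h | h) <;> rw [h]
      · exact V.one_mem
      · exact hv
      · exact c.rho_mem hv
      · exact c.rho_mem (c.rho_mem hv)
  show Nat.card (V : Set T) = 4
  rw [Nat.card_coe_set_eq, hset, Set.ncard_insert_of_notMem, Set.ncard_insert_of_notMem,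
    Set.ncard_pair h12]
  · simp only [Set.mem_insert_iff, Set.mem_singleton_iff, not_or]
    exact ⟨h01, h02⟩
  · simp only [Set.mem_insert_iff, Set.mem_singleton_iff, not_or]
    exact ⟨hv1.symm, hρv1.symm, hρρv1.symm⟩

theorem Pre.card_mod3 (c : Pre V τ ρ) [Finite T] : Nat.card T % 3 = 1 := by
  classical
  have : Fintype T := Fintype.ofFinite T
  have : Fact (Nat.Prime 3) := ⟨by norm_num⟩
  let f : Function.End T := fun y => ρ y
  have hf : f ^ 3 ^ 1 = 1 := by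
    funext y
    show ρ (ρ (ρ y)) = y
    exact c.rho3 y
  have key := Equiv.Perm.card_fixedPoints_modEq (p := 3) (n := 1) hf
  have hfix : Fintype.card (Function.fixedPoints f) = 1 := by
    rw [Fintype.card_eq_one_iff]
    refine ⟨⟨1, map_one ρ⟩, ?_⟩
    rintro ⟨y, hy⟩
    apply Subtype.ext
    exact c.fpf hy
  rw [hfix] at key
  rw [Nat.card_eq_fintype_card]
  exact key

end Cfsg.Agent.Helper5.FourT
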