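import Cfsg.Agent.Helper5.FourTA

set_option autoImplicit false

/-!
# S2933, part B: an involution `a ∉ V` with `a * τ a ∈ V` forces `T` elementary of order 16
-/

namespace Cfsg.Agent.Helper5.FourT

variable {T : Type*} [Group T] {V : Subgroup T} {τ ρ : MulAut T}

theorem Pre.phi_rho (c : Pre V τ ρ) (x : T) : ρ (x⁻¹ * τ x) = (ρ x)⁻¹ * τ (ρ x) := by
  rw [map_mul, map_inv, c.tr]

/-- the covering of `T` by the four cosets -/
theorem case_one_cover (c : Cfg V τ ρ) {a : T} (haV : a ∉ V) (ha : a * a = 1)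
    (hy : a * τ a ∈ V) :
    ∀ x : T, ∃ w ∈ V, x = w ∨ x = a * w ∨ x = ρ a * w ∨ x = ρ (ρ a) * w := by
  have p := c.pre
  have hai : a⁻¹ = a := inv_eq_of_mul_eq_one_right ha
  have h11 : ρ a * ρ a = 1 := by rw [← map_mul, ha, map_one]
  have h22 : ρ (ρ a) * ρ (ρ a) = 1 := by rw [← map_mul, h11, map_one]
  by_contra hcon
  push Not at hcon
  obtain ⟨x, hx⟩ := hcon
  let S : Set T := {x | ∃ w ∈ V, x = w ∨ x = a * w ∨ x = ρ a * w ∨ x = ρ (ρ a) * w}
  have h1S : (1 : T) ∈ S := ⟨1, V.one_mem, Or.inl rfl⟩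
  have hxS : x ∉ S := by
    rintro ⟨w, hw, h⟩
    obtain ⟨n1, n2, n3, n4⟩ := hx w hw
    rcases h with h | h | h | h
    · exact n1 h
    · exact n2 h
    · exact n3 h
    · exact n4 h
  obtain ⟨x', hx'S, hz, -⟩ := p.lemS S h1S hxS
  -- squares of elements of S
  have hsq : ∀ z ∈ S, z * z = 1 := by
    rintro z ⟨w, hw, h | h | h | h⟩
    · rw [h]; exact p.sq w hw
    · rw [h]
      calc a * w * (a * w) = a * (w * a) * w := by group
        _ = a * (a * w) * w := by rw [c.cen w hw a]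
        _ = (a * a) * (w * w) := by group
        _ = 1 := by rw [ha, p.sq w hw, one_mul]
    · rw [h]
      calc ρ a * w * (ρ a * w) = ρ a * (w * ρ a) * w := by group
        _ = ρ a * (ρ a * w) * w := by rw [c.cen w hw (ρ a)]
        _ = (ρ a * ρ a) * (w * w) := by group
        _ = 1 := by rw [h11, p.sq w hw, one_mul]
    · rw [h]
      calc ρ (ρ a) * w * (ρ (ρ a) * w) = ρ (ρ a) * (w * ρ (ρ a)) * w := by group
        _ = ρ (ρ a) * (ρ (ρ a) * w) * w := by rw [c.cen w hw (ρ (ρ a))]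
        _ = (ρ (ρ a) * ρ (ρ a)) * (w * w) := by group
        _ = 1 := by rw [h22, p.sq w hw, one_mul]
  have hzz := hsq _ hz
  have hzV : x'⁻¹ * τ x' ∈ V := by
    apply (p.fix _).mp
    rw [tau_phi p.tt]
    exact inv_eq_of_mul_eq_one_right hzz
  -- y = a⁻¹ * τ a
  have hyV : a⁻¹ * τ a ∈ V := by rw [hai]; exact hy
  have hy1 : a⁻¹ * τ a ≠ 1 := by
    intro h
    apply haV
    apply (p.fix _).mp
    exact (inv_mul_eq_one.mp h).symm
  -- general step
  have step : ∀ g : T, g ∈ S → (∀ w ∈ V, g * w ∈ S) → x'⁻¹ * τ x' = g⁻¹ * τ g → False := by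
    intro g _ hgS h
    have hw := p.fib h.symm
    apply hx'S
    have e : x' = g * (g⁻¹ * (x' * g⁻¹) * g) := by group
    have e2 : g⁻¹ * (x' * g⁻¹) * g = x' * g⁻¹ := by
      rw [mul_assoc, c.cen _ hw g]; group
    rw [e, e2]
    exact hgS _ hw
  rcases p.four_of hyV hy1 _ hzV with h | h | h | h
  · apply hx'S
    refine ⟨x', (p.fix _).mp ?_, Or.inl rfl⟩
    exact (inv_mul_eq_one.mp h).symm
  · exact step a ⟨1, V.one_mem, Or.inr (Or.inl (mul_one a).symm)⟩
      (fun w hw => ⟨w, hw, Or.inr (Or.inl rfl)⟩) h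
  · rw [p.phi_rho] at h
    exact step (ρ a) ⟨1, V.one_mem, Or.inr (Or.inr (Or.inl (mul_one _).symm))⟩
      (fun w hw => ⟨w, hw, Or.inr (Or.inr (Or.inl rfl))⟩) h
  · rw [p.phi_rho, p.phi_rho] at h
    exact step (ρ (ρ a)) ⟨1, V.one_mem, Or.inr (Or.inr (Or.inr (mul_one _).symm))⟩
      (fun w hw => ⟨w, hw, Or.inr (Or.inr (Or.inr rfl))⟩) h

theorem case_one_sq (c : Cfg V τ ρ) {a : T} (haV : a ∉ V) (ha : a * a = 1)
    (hy : a * τ a ∈ V) (x : T) : x * x = 1 := by
  have p := c.pre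
  have h11 : ρ a * ρ a = 1 := by rw [← map_mul, ha, map_one]
  have h22 : ρ (ρ a) * ρ (ρ a) = 1 := by rw [← map_mul, h11, map_one]
  have key : ∀ g : T, g * g = 1 → ∀ w ∈ V, g * w * (g * w) = 1 := by
    intro g hg w hw
    calc g * w * (g * w) = g * (w * g) * w := by group
      _ = g * (g * w) * w := by rw [c.cen w hw g]
      _ = (g * g) * (w * w) := by group
      _ = 1 := by rw [hg, p.sq w hw, one_mul]
  obtain ⟨w, hw, h | h | h | h⟩ := case_one_cover c haV ha hy x
  · rw [h]; exact p.sq w hw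
  · rw [h]; exact key a ha w hw
  · rw [h]; exact key _ h11 w hw
  · rw [h]; exact key _ h22 w hw

theorem case_one_card (c : Cfg V τ ρ) [Finite T] {a : T} (haV : a ∉ V) (ha : a * a = 1)
    (hy : a * τ a ∈ V) : Nat.card T = 16 := by
  have p := c.pre
  have hcov := case_one_cover c haV ha hy
  -- index ≤ 4
  have hidx : V.index ≤ 4 := by
    let f : Fin 4 → T ⧸ V := ![((1 : T) : T ⧸ V), (a : T ⧸ V), ((ρ a : T) : T ⧸ V),
      ((ρ (ρ a) : T) : T ⧸ V)]
    have hf : Function.Surjective f := by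
      intro q
      induction q using Quotient.inductionOn' with
      | h x =>
        have hmk : ∀ g w : T, w ∈ V → x = g * w →
            (Quotient.mk'' x : T ⧸ V) = ((g : T) : T ⧸ V) := by
          intro g w hw e
          rw [e]
          apply (QuotientGroup.eq).mpr
          have : (g * w)⁻¹ * g = w⁻¹ := by group
          rw [this]; exact V.inv_mem hw
        obtain ⟨w, hw, h | h | h | h⟩ := hcov x
        · exact ⟨0, (hmk 1 w hw (by rw [one_mul]; exact h)).symm⟩
        · exact ⟨1, (hmk a w hw h).symm⟩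
        · exact ⟨2, (hmk _ w hw h).symm⟩
        · exact ⟨3, (hmk _ w hw h).symm⟩
    have := Nat.card_le_card_of_surjective f hf
    simpa [Subgroup.index] using this
  have hmul := V.index_mul_card
  rw [p.card_V] at hmul
  have hmod := p.card_mod3
  have hidx1 : V.index ≠ 1 := by
    intro h
    rw [Subgroup.index_eq_one] at h
    apply haV; rw [h]; exact Subgroup.mem_top a
  have hidx0 : V.index ≠ 0 := Subgroup.index_ne_zero_of_finite
  have : V.index = 4 := by
    have h3 : (V.index * 4) % 3 = 1 := by rw [hmul]; exact hmod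
    interval_cases h : V.index <;> simp_all
  rw [← hmul, this]

end Cfsg.Agent.Helper5.FourT
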