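import Cfsg.Agent.Helper5.FourTB

set_option autoImplicit false

/-!
# S2933, part C: the quotient by `V`, and an involution `a ∉ V` with `a * τ a ∉ V`
forces `|T| = 64`.
-/

namespace Cfsg.Agent.Helper5.FourT

variable {T : Type*} [Group T] {V : Subgroup T} {τ ρ : MulAut T}

theorem Cfg.normal (c : Cfg V τ ρ) : V.Normal :=
  ⟨fun v hv g => by rw [← c.cen v hv g, mul_inv_cancel_right]; exact hv⟩

theorem Pre.map_tau (c : Pre V τ ρ) : V.map (τ : T →* T) = V := by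
  ext w
  constructor
  · rintro ⟨v, hv, rfl⟩
    show τ v ∈ V
    rw [(c.fix v).mpr hv]; exact hv
  · intro hw
    exact ⟨w, hw, (c.fix w).mpr hw⟩

theorem Pre.map_rho (c : Pre V τ ρ) : V.map (ρ : T →* T) = V := by
  ext w
  constructor
  · rintro ⟨v, hv, rfl⟩
    exact c.rho_mem hv
  · intro hw
    exact ⟨ρ (ρ w), c.rho_mem (c.rho_mem hw), c.rho3 w⟩

/-- fixed subgroup of an automorphism -/
def fixSub {Q : Type*} [Group Q] (σ : MulAut Q) : Subgroup Q where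
  carrier := {q | σ q = q}
  one_mem' := map_one σ
  mul_mem' := by
    intro a b ha hb
    simp only [Set.mem_ofPred_eq] at *
    rw [map_mul, ha, hb]
  inv_mem' := by
    intro a ha
    simp only [Set.mem_ofPred_eq] at *
    rw [map_inv, ha]

theorem mem_fixSub {Q : Type*} [Group Q] (σ : MulAut Q) (q : Q) :
    q ∈ fixSub σ ↔ σ q = q := Iff.rfl

theorem aut_center {Q : Type*} [Group Q] (σ : MulAut Q) {g : Q}
    (hg : g ∈ Subgroup.center Q) : σ g ∈ Subgroup.center Q := by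
  rw [Subgroup.mem_center_iff] at hg ⊢
  intro h
  have h1 := congrArg σ (hg (σ.symm h))
  rw [map_mul, map_mul, MulEquiv.apply_symm_apply] at h1
  exact h1

/-- facts on `y = a * τ a` when it is not in `V` -/
theorem case_two_key (c : Cfg V τ ρ) {a : T} (ha : a * a = 1) (hy : a * τ a ∉ V) :
    (a * τ a) * (a * τ a) ∈ V ∧ τ (a * τ a) = (a * τ a)⁻¹ ∧
    ∀ x : T, x⁻¹ * τ x ∈ V → ∃ w ∈ V, x = w ∨ x = (a * τ a) * w ∨ x = ρ (a * τ a) * w ∨
      x = ρ (ρ (a * τ a)) * w := by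
  have p := c.pre
  have hai : a⁻¹ = a := inv_eq_of_mul_eq_one_right ha
  have hτa : τ a * τ a = 1 := by rw [← map_mul, ha, map_one]
  have hτai : (τ a)⁻¹ = τ a := inv_eq_of_mul_eq_one_right hτa
  have y4 : (a * τ a) ^ 4 = 1 := p.inv_mul_pow4 ha hτa
  have hτy : τ (a * τ a) = (a * τ a)⁻¹ := by
    rw [map_mul, p.tt, mul_inv_rev, hai, hτai]
  obtain ⟨y, hyd⟩ : ∃ y : T, y = a * τ a := ⟨_, rfl⟩
  rw [← hyd] at hy y4 hτy ⊢
  have hvv : (y * y) * (y * y) = 1 := by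
    rw [← y4, show (4 : ℕ) = 2 + 2 by norm_num, pow_add, pow_two]
  have hvi : y⁻¹ * y⁻¹ = y * y := by
    have h := inv_eq_of_mul_eq_one_right hvv
    rw [← h]; group
  have hvV : y * y ∈ V := by
    apply (p.fix _).mp
    rw [map_mul, hτy, hvi]
  have hv1 : y * y ≠ 1 := by
    intro h
    apply hy
    apply (p.fix _).mp
    rw [hτy]; exact inv_eq_of_mul_eq_one_right h
  have hphi : y⁻¹ * τ y = y * y := by rw [hτy, hvi]
  refine ⟨hvV, hτy, ?_⟩
  intro x hx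
  have step : ∀ g : T, x⁻¹ * τ x = g⁻¹ * τ g → ∃ w ∈ V, x = g * w := by
    intro g h
    have hw := p.fib h.symm
    refine ⟨x * g⁻¹, hw, ?_⟩
    rw [← c.cen _ hw g]; group
  rcases p.four_of hvV hv1 _ hx with h | h | h | h
  · refine ⟨x, (p.fix _).mp ?_, Or.inl rfl⟩
    exact (inv_mul_eq_one.mp h).symm
  · rw [← hphi] at h
    obtain ⟨w, hw, e⟩ := step y h
    exact ⟨w, hw, Or.inr (Or.inl e)⟩
  · rw [← hphi, p.phi_rho] at h
    obtain ⟨w, hw, e⟩ := step _ h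
    exact ⟨w, hw, Or.inr (Or.inr (Or.inl e))⟩
  · rw [← hphi, p.phi_rho, p.phi_rho] at h
    obtain ⟨w, hw, e⟩ := step _ h
    exact ⟨w, hw, Or.inr (Or.inr (Or.inr e))⟩

section quot

variable [hN : V.Normal]

/-- induced automorphism of the quotient -/
noncomputable def qa (σ : MulAut T) (hσ : V.map (σ : T →* T) = V) : MulAut (T ⧸ V) :=
  QuotientGroup.congr V V σ hσ

theorem qa_mk (σ : MulAut T) (hσ : V.map (σ : T →* T) = V) (x : T) :
    qa σ hσ (x : T ⧸ V) = ((σ x : T) : T ⧸ V) := rfl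

omit hN in
theorem mk_mul_mem (g w : T) (hw : w ∈ V) : ((g * w : T) : T ⧸ V) = (g : T ⧸ V) := by
  apply (QuotientGroup.eq).mpr
  have : (g * w)⁻¹ * g = w⁻¹ := by group
  rw [this]; exact V.inv_mem hw

theorem quot_pre (c : Cfg V τ ρ) {a : T} (ha : a * a = 1) (hy : a * τ a ∉ V) :
    Pre (fixSub (qa τ c.pre.map_tau)) (qa τ c.pre.map_tau) (qa ρ c.pre.map_rho) := by
  have p := c.pre
  obtain ⟨hvV, hτy, hkey⟩ := case_two_key c ha hy
  obtain ⟨y, hyd⟩ : ∃ y : T, y = a * τ a := ⟨_, rfl⟩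
  rw [← hyd] at hy hvV hτy hkey
  have hyfix : ((y : T) : T ⧸ V) ∈ fixSub (qa τ p.map_tau) := by
    rw [mem_fixSub, qa_mk]
    apply (QuotientGroup.eq).mpr
    rw [hτy, inv_inv]; exact hvV
  have hy1 : ((y : T) : T ⧸ V) ≠ 1 := fun h => hy ((QuotientGroup.eq_one_iff _).mp h)
  have hfour : ∀ q ∈ fixSub (qa τ p.map_tau), q = 1 ∨ q = ((y : T) : T ⧸ V) ∨
      q = qa ρ p.map_rho ((y : T) : T ⧸ V) ∨
      q = qa ρ p.map_rho (qa ρ p.map_rho ((y : T) : T ⧸ V)) := by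
    intro q hq
    obtain ⟨x, rfl⟩ := QuotientGroup.mk_surjective q
    rw [mem_fixSub, qa_mk] at hq
    have h1 := (QuotientGroup.eq).mp hq
    have h2 : x⁻¹ * τ x ∈ V := by
      have e : x⁻¹ * τ x = ((τ x)⁻¹ * x)⁻¹ := by group
      rw [e]; exact V.inv_mem h1
    obtain ⟨w, hw, h | h | h | h⟩ := hkey x h2
    · left
      rw [h]; exact (QuotientGroup.eq_one_iff _).mpr hw
    · right; left
      rw [h]; exact mk_mul_mem _ _ hw
    · right; right; left
      rw [h, qa_mk]; exact mk_mul_mem _ _ hw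
    · right; right; right
      rw [h, qa_mk, qa_mk]; exact mk_mul_mem _ _ hw
  have hyy : ((y : T) : T ⧸ V) * ((y : T) : T ⧸ V) = 1 := by
    rw [← QuotientGroup.mk_mul]; exact (QuotientGroup.eq_one_iff _).mpr hvV
  refine ⟨?_, ?_, ?_, ?_, ?_, fun _ => Iff.rfl, ?_, ?_⟩
  · intro q
    obtain ⟨x, rfl⟩ := QuotientGroup.mk_surjective q
    obtain ⟨k, hk⟩ := p.two x
    exact ⟨k, by rw [← QuotientGroup.mk_pow, hk, QuotientGroup.mk_one]⟩
  · intro q
    obtain ⟨x, rfl⟩ := QuotientGroup.mk_surjective q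
    rw [qa_mk, qa_mk, p.tt]
  · intro q
    obtain ⟨x, rfl⟩ := QuotientGroup.mk_surjective q
    rw [qa_mk, qa_mk, qa_mk, qa_mk, p.tr]
  · intro q
    obtain ⟨x, rfl⟩ := QuotientGroup.mk_surjective q
    rw [qa_mk, qa_mk, ← QuotientGroup.mk_mul, ← QuotientGroup.mk_mul, p.p3, QuotientGroup.mk_one]
  · intro q
    obtain ⟨x, rfl⟩ := QuotientGroup.mk_surjective q
    rw [qa_mk, ← QuotientGroup.mk_mul, ← QuotientGroup.mk_mul, p.cm]
  · intro q hq
    rcases hfour q hq with h | h | h | h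
    · rw [h, one_mul]
    · rw [h]; exact hyy
    · rw [h, ← map_mul, hyy, map_one]
    · rw [h, ← map_mul, ← map_mul, hyy, map_one, map_one]
  · exact ⟨_, hyfix, hy1, hfour⟩

theorem quot_cfg (c : Cfg V τ ρ) [Finite T] {a : T} (ha : a * a = 1) (hy : a * τ a ∉ V) :
    Cfg (fixSub (qa τ c.pre.map_tau)) (qa τ c.pre.map_tau) (qa ρ c.pre.map_rho) := by
  have q := quot_pre c ha hy
  refine ⟨q, ?_⟩
  have hP : IsPGroup 2 (T ⧸ V) := fun x => q.two x
  have : Fact (Nat.Prime 2) := ⟨Nat.prime_two⟩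
  have : Nontrivial (T ⧸ V) :=
    ⟨⟨((a * τ a : T) : T ⧸ V), 1, fun h => hy ((QuotientGroup.eq_one_iff _).mp h)⟩⟩
  have hZ := hP.center_nontrivial
  obtain ⟨z, hz, hz1⟩ := (Subgroup.nontrivial_iff_exists_ne_one _).mp hZ
  obtain ⟨x', hx'1, hx'fix, hx'⟩ := q.lemS {1} rfl (show z ∉ ({1} : Set (T ⧸ V)) from hz1)
  have hx'Z : x' ∈ Subgroup.center (T ⧸ V) := by
    rcases hx' with h | h
    · rw [h]; exact hz
    · have hm : z⁻¹ * (qa τ c.pre.map_tau) z ∈ Subgroup.center (T ⧸ V) :=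
        Subgroup.mul_mem _ (Subgroup.inv_mem _ hz) (aut_center _ hz)
      exact (Subgroup.zpowers_le.mpr hm) h
  have hx'V : x' ∈ fixSub (qa τ c.pre.map_tau) := by
    rw [mem_fixSub]
    have h : x'⁻¹ * qa τ c.pre.map_tau x' = 1 := hx'fix
    exact (inv_mul_eq_one.mp h).symm
  have hx'ne : x' ≠ 1 := hx'1
  intro v hv g
  rcases q.four_of hx'V hx'ne v hv with h | h | h | h
  · rw [h, one_mul, mul_one]
  · rw [h]; exact ((Subgroup.mem_center_iff.mp hx'Z) g).symm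
  · rw [h]; exact ((Subgroup.mem_center_iff.mp (aut_center _ hx'Z)) g).symm
  · rw [h]; exact ((Subgroup.mem_center_iff.mp (aut_center _ (aut_center _ hx'Z))) g).symm

end quot

theorem case_two (c : Cfg V τ ρ) [Finite T] {a : T} (ha : a * a = 1) (hy : a * τ a ∉ V) :
    Nat.card T = 64 ∧ a ∉ Subgroup.center T := by
  have p := c.pre
  have := c.normal
  have qc := quot_cfg c ha hy
  have hai : a⁻¹ = a := inv_eq_of_mul_eq_one_right ha
  obtain ⟨hvV, hτy, -⟩ := case_two_key c ha hy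
  have haV : ((a : T) : T ⧸ V) ∉ fixSub (qa τ p.map_tau) := by
    rw [mem_fixSub, qa_mk]
    intro h
    have h1 := (QuotientGroup.eq).mp h
    apply hy
    have e : a * τ a = ((τ a)⁻¹ * a)⁻¹ := by rw [mul_inv_rev, inv_inv, hai]
    rw [e]; exact V.inv_mem h1
  have haa : ((a : T) : T ⧸ V) * (a : T ⧸ V) = 1 := by
    rw [← QuotientGroup.mk_mul, ha, QuotientGroup.mk_one]
  have hyy : ((a : T) : T ⧸ V) * qa τ p.map_tau (a : T ⧸ V) ∈ fixSub (qa τ p.map_tau) := by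
    rw [qa_mk, ← QuotientGroup.mk_mul, mem_fixSub, qa_mk]
    apply (QuotientGroup.eq).mpr
    rw [hτy, inv_inv]; exact hvV
  have h16 : Nat.card (T ⧸ V) = 16 := case_one_card qc haV haa hyy
  have hmul := V.index_mul_card
  rw [p.card_V] at hmul
  have hidx : V.index = 16 := h16
  refine ⟨by rw [← hmul, hidx], ?_⟩
  intro hZ
  have hcomm : τ a * a = a * τ a := (Subgroup.mem_center_iff.mp hZ) (τ a)
  have hτa : τ a * τ a = 1 := by rw [← map_mul, ha, map_one]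
  have hyy1 : (a * τ a) * (a * τ a) = 1 := by
    calc (a * τ a) * (a * τ a) = a * (τ a * a) * τ a := by group
      _ = a * (a * τ a) * τ a := by rw [hcomm]
      _ = (a * a) * (τ a * τ a) := by group
      _ = 1 := by rw [ha, hτa, one_mul]
  apply hy
  apply (p.fix _).mp
  rw [hτy]; exact inv_eq_of_mul_eq_one_right hyy1

/-- the abstract trichotomy -/
theorem main_abs (c : Cfg V τ ρ) [Finite T] :
    (∀ x : T, x * x = 1 → x ∈ V) ∨ (Nat.card T = 16 ∧ ∀ x : T, x * x = 1) ∨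
      (Nat.card T = 64 ∧ ∃ a : T, a * a = 1 ∧ a ∉ Subgroup.center T) := by
  by_cases h : ∀ x : T, x * x = 1 → x ∈ V
  · exact Or.inl h
  · push Not at h
    obtain ⟨a, ha, haV⟩ := h
    by_cases hy : a * τ a ∈ V
    · exact Or.inr (Or.inl ⟨case_one_card c haV ha hy, case_one_sq c haV ha hy⟩)
    · obtain ⟨h64, hZ⟩ := case_two c ha hy
      exact Or.inr (Or.inr ⟨h64, a, ha, hZ⟩)

end Cfsg.Agent.Helper5.FourT
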