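import Cfsg.Agent.Helper5.FourTC

set_option autoImplicit false

/-!
# S2933, part D: from the raw hypotheses to the configuration
-/

namespace Cfsg.Agent.Helper5.FourT

variable {T : Type*} [Group T] {V : Subgroup T} {τ ρ : MulAut T}

/-- the raw hypotheses -/
structure Raw (V : Subgroup T) (τ ρ : MulAut T) : Prop where
  two : ∀ x : T, ∃ k : ℕ, x ^ (2 ^ k) = 1
  tt : ∀ x : T, τ (τ x) = x
  r3 : ∀ x : T, ρ (ρ (ρ x)) = x
  tr : ∀ x : T, τ (ρ x) = ρ (τ x)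
  fix : ∀ x : T, τ x = x ↔ x ∈ V
  sq : ∀ v ∈ V, v * v = 1
  cen : ∀ v ∈ V, ∀ x : T, v * x = x * v
  card : Nat.card V = 4
  nt : ∃ v ∈ V, ρ v ≠ v

theorem Raw.rho_mem (r : Raw V τ ρ) {v : T} (hv : v ∈ V) : ρ v ∈ V :=
  (r.fix _).mp (by rw [r.tr, (r.fix v).mpr hv])

theorem Raw.four (r : Raw V τ ρ) : ∃ v ∈ V, v ≠ 1 ∧ ρ v ≠ v ∧
    ∀ w ∈ V, w = 1 ∨ w = v ∨ w = ρ v ∨ w = ρ (ρ v) := by
  obtain ⟨v, hv, hne⟩ := r.nt
  have hv1 : v ≠ 1 := by
    rintro rfl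
    exact hne (map_one ρ)
  have hρv1 : ρ v ≠ 1 := fun h => hv1 (ρ.injective (by rw [h, map_one]))
  have hρρv1 : ρ (ρ v) ≠ 1 := fun h => hρv1 (ρ.injective (by rw [h, map_one]))
  have h01 : v ≠ ρ v := fun h => hne h.symm
  have h12 : ρ v ≠ ρ (ρ v) := fun h => h01 (ρ.injective h)
  have h02 : v ≠ ρ (ρ v) := fun h => h01 (by
    have h' := congrArg ρ h
    rw [r.r3] at h'
    exact h'.symm)
  have hsub : ({1, v, ρ v, ρ (ρ v)} : Set T) ⊆ (V : Set T) := by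
    intro w hw
    simp only [Set.mem_insert_iff, Set.mem_singleton_iff] at hw
    rcases hw with h | h | h | h <;> rw [h]
    exacts [V.one_mem, hv, r.rho_mem hv, r.rho_mem (r.rho_mem hv)]
  have hcard : ({1, v, ρ v, ρ (ρ v)} : Set T).ncard = 4 := by
    rw [Set.ncard_insert_of_notMem, Set.ncard_insert_of_notMem, Set.ncard_pair h12]
    · simp only [Set.mem_insert_iff, Set.mem_singleton_iff, not_or]
      exact ⟨h01, h02⟩
    · simp only [Set.mem_insert_iff, Set.mem_singleton_iff, not_or]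
      exact ⟨hv1.symm, hρv1.symm, hρρv1.symm⟩
  have hVfin : (V : Set T).Finite := by
    have : Finite V := Nat.finite_of_card_ne_zero (by rw [r.card]; norm_num)
    exact Set.toFinite _
  have hVcard : (V : Set T).ncard = 4 := by
    rw [← Nat.card_coe_set_eq]; exact r.card
  have heq : ({1, v, ρ v, ρ (ρ v)} : Set T) = (V : Set T) :=
    Set.eq_of_subset_of_ncard_le hsub (by rw [hcard, hVcard]) hVfin
  refine ⟨v, hv, hv1, hne, ?_⟩
  intro w hw
  have hw' : w ∈ ({1, v, ρ v, ρ (ρ v)} : Set T) := by rw [heq]; exact hw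
  simpa only [Set.mem_insert_iff, Set.mem_singleton_iff] using hw'

theorem Raw.fpfV (r : Raw V τ ρ) {w : T} (hw : w ∈ V) (h : ρ w = w) : w = 1 := by
  obtain ⟨v, _, _, hne, hall⟩ := r.four
  rcases hall w hw with e | e | e | e
  · exact e
  · rw [e] at h; exact absurd h hne
  · rw [e] at h; exact absurd (ρ.injective h) hne
  · rw [e] at h; exact absurd (ρ.injective (ρ.injective h)) hne

theorem Raw.fpf (r : Raw V τ ρ) {x : T} (h : ρ x = x) : x = 1 := by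
  by_contra hx1
  obtain ⟨x', hx'1, hx'fix, hx'⟩ :=
    lemS_raw r.two r.tt {1} rfl (show x ∉ ({1} : Set T) from hx1)
  have hx'V : x' ∈ V := by
    apply (r.fix _).mp
    have h' : x'⁻¹ * τ x' = 1 := hx'fix
    exact (inv_mul_eq_one.mp h').symm
  have hρx' : ρ x' = x' := by
    rcases hx' with e | e
    · rw [e]; exact h
    · obtain ⟨n, rfl⟩ := Subgroup.mem_zpowers_iff.mp e
      rw [map_zpow, map_mul, map_inv, h, ← r.tr, h]
  exact hx'1 (r.fpfV hx'V hρx')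

theorem Raw.inj_aux (r : Raw V τ ρ) {y w : T} (e : y⁻¹ * ρ y = w⁻¹ * ρ w) : y = w := by
  have h1 : ρ y = y * (w⁻¹ * ρ w) := by rw [← e]; group
  have h2 : ρ (y * w⁻¹) = y * w⁻¹ := by
    rw [map_mul, map_inv, h1]; group
  exact mul_inv_eq_one.mp (r.fpf h2)

theorem Raw.p3 (r : Raw V τ ρ) [Finite T] (y : T) : y * ρ y * ρ (ρ y) = 1 := by
  have hs : Function.Surjective (fun w : T => w⁻¹ * ρ w) :=
    Finite.injective_iff_surjective.mp (fun a b e => r.inj_aux e)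
  obtain ⟨w, rfl⟩ := hs y
  simp only [map_mul, map_inv, r.r3]
  group

theorem Raw.cm (r : Raw V τ ρ) [Finite T] (y : T) : y * ρ y = ρ y * y := by
  have h1 : ρ (ρ y) = (y * ρ y)⁻¹ := eq_inv_of_mul_eq_one_right (r.p3 y)
  have h2 := r.p3 y⁻¹
  simp only [map_inv] at h2
  have h3 : ρ (ρ y) = (ρ y * y)⁻¹ := by
    have h4 : (ρ (ρ y))⁻¹ = ρ y * y := by
      calc (ρ (ρ y))⁻¹ = (y⁻¹ * (ρ y)⁻¹)⁻¹ * (y⁻¹ * (ρ y)⁻¹ * (ρ (ρ y))⁻¹) := by group
        _ = ρ y * y := by rw [h2]; group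
    rw [← h4, inv_inv]
  rw [h1] at h3
  exact inv_injective h3

theorem Raw.cfg (r : Raw V τ ρ) [Finite T] : Cfg V τ ρ := by
  obtain ⟨v, hv, hv1, -, hall⟩ := r.four
  exact ⟨⟨r.two, r.tt, r.tr, r.p3, r.cm, r.fix, r.sq, v, hv, hv1, hall⟩, r.cen⟩

end Cfsg.Agent.Helper5.FourT
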