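import Cfsg.Agent.Helper5.FourTD

set_option autoImplicit false

/-!
# S2933, part E: the concrete situation inside a group `G`
-/

namespace Cfsg.Agent.Helper5.FourT

variable {G : Type*} [Group G]

/-- conjugation by an element of the normalizer, as an automorphism -/
def cAut (K : Subgroup G) (g : G) (hg : g ∈ Subgroup.normalizer (K : Set G)) : MulAut K where
  toFun k := ⟨g * k * g⁻¹, (Subgroup.mem_normalizer_iff.1 hg k).1 k.2⟩
  invFun k := ⟨g⁻¹ * k * g, by
    have := (Subgroup.mem_normalizer_iff.1 (inv_mem hg) k).1 k.2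
    simpa using this⟩
  left_inv k := by ext; simp [mul_assoc]
  right_inv k := by ext; simp [mul_assoc]
  map_mul' x y := by ext; simp [mul_assoc]

theorem cAut_coe (K : Subgroup G) (g : G) (hg : g ∈ Subgroup.normalizer (K : Set G))
    (k : K) : ((cAut K g hg k : K) : G) = g * k * g⁻¹ := rfl

theorem raw_of (T V : Subgroup G) (hT : IsPGroup 2 ↥T)
    (hVT : V ≤ T ⊓ Subgroup.centralizer (T : Set G))
    (hV : Nat.card ↥V = 4 ∧ ∀ v ∈ V, v ^ 2 = 1) (t ρ : G) (ht : orderOf t = 2)
    (hρ : orderOf ρ = 3)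
    (htn : t ∈ Subgroup.normalizer (T : Set G))
    (hρn : ρ ∈ Subgroup.normalizer (T : Set G))
    (htρ : t * ρ = ρ * t)
    (hVρ : ⁅V, Subgroup.zpowers ρ⁆ = V)
    (hCt : T ⊓ Subgroup.centralizer ({t} : Set G) = V) :
    Raw (V.subgroupOf T) (cAut T t htn) (cAut T ρ hρn) := by
  have ht2 : t * t = 1 := by
    have := pow_orderOf_eq_one t
    rw [ht, pow_two] at this; exact this
  have hρ3 : ρ * ρ * ρ = 1 := by
    have := pow_orderOf_eq_one ρ
    rw [hρ, pow_succ, pow_two] at this; exact this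
  have hfix : ∀ x : T, cAut T t htn x = x ↔ x ∈ V.subgroupOf T := by
    intro x
    rw [Subgroup.mem_subgroupOf, ← hCt, Subgroup.mem_inf, Subgroup.mem_centralizer_iff]
    constructor
    · intro h
      have h1 : t * (x : G) * t⁻¹ = x := by
        have := congrArg Subtype.val h
        rwa [cAut_coe] at this
      refine ⟨x.2, ?_⟩
      intro g hg
      rw [Set.mem_singleton_iff] at hg
      rw [hg]
      exact mul_inv_eq_iff_eq_mul.mp h1
    · rintro ⟨_, h⟩
      apply Subtype.ext
      rw [cAut_coe]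
      exact mul_inv_eq_iff_eq_mul.mpr (h t rfl)
  refine ⟨hT, ?_, ?_, ?_, hfix, ?_, ?_, ?_, ?_⟩
  · intro x
    apply Subtype.ext
    rw [cAut_coe, cAut_coe]
    calc t * (t * (x : G) * t⁻¹) * t⁻¹ = (t * t) * x * (t * t)⁻¹ := by group
      _ = x := by rw [ht2]; group
  · intro x
    apply Subtype.ext
    rw [cAut_coe, cAut_coe, cAut_coe]
    calc ρ * (ρ * (ρ * (x : G) * ρ⁻¹) * ρ⁻¹) * ρ⁻¹ = (ρ * ρ * ρ) * x * (ρ * ρ * ρ)⁻¹ := by group
      _ = x := by rw [hρ3]; group
  · intro x
    apply Subtype.ext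
    rw [cAut_coe, cAut_coe, cAut_coe, cAut_coe]
    calc t * (ρ * (x : G) * ρ⁻¹) * t⁻¹ = (t * ρ) * x * (t * ρ)⁻¹ := by group
      _ = (ρ * t) * x * (ρ * t)⁻¹ := by rw [htρ]
      _ = ρ * (t * (x : G) * t⁻¹) * ρ⁻¹ := by group
  · intro v hv
    rw [Subgroup.mem_subgroupOf] at hv
    apply Subtype.ext
    have := hV.2 _ hv
    rw [pow_two] at this
    exact this
  · intro v hv x
    rw [Subgroup.mem_subgroupOf] at hv
    have h1 : (v : G) ∈ Subgroup.centralizer (T : Set G) := (Subgroup.mem_inf.mp (hVT hv)).2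
    rw [Subgroup.mem_centralizer_iff] at h1
    apply Subtype.ext
    exact (h1 x x.2).symm
  · rw [← hV.1]
    exact Nat.card_congr (Subgroup.subgroupOfEquivOfLe (fun v hv => (hVT hv).1)).toEquiv
  · by_contra hcon
    push Not at hcon
    have hle : V ≤ Subgroup.centralizer ((Subgroup.zpowers ρ : Subgroup G) : Set G) := by
      intro v hv
      have hvT : v ∈ T := (hVT hv).1
      have h1 := hcon ⟨v, hvT⟩ (by rw [Subgroup.mem_subgroupOf]; exact hv)
      have h2 : ρ * v * ρ⁻¹ = v := by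
        have := congrArg Subtype.val h1
        rwa [cAut_coe] at this
      have h3 : Commute ρ v := mul_inv_eq_iff_eq_mul.mp h2
      rw [Subgroup.mem_centralizer_iff]
      intro h hh
      obtain ⟨k, rfl⟩ := Subgroup.mem_zpowers_iff.mp hh
      exact (h3.zpow_left k).eq
    have hbot := Subgroup.commutator_eq_bot_iff_le_centralizer.mpr hle
    rw [hVρ] at hbot
    have := hV.1
    rw [hbot, Subgroup.card_bot] at this
    norm_num at this

end Cfsg.Agent.Helper5.FourT
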