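import Cfsg.Agent.Helper5.TC2A

/-! generated coset table (generator 2): U33TTC -/

set_option autoImplicit false
set_option Elab.async false

namespace Cfsg.Agent.Helper5.U33TTC
open Cfsg.Agent.Helper5.TC

def ct2_0 : ℕ := 0x1b00001500001a00001200001000001300000f00001800001900000d00001700000b00001600001400000800001100000600000700000400000e00000900000c00000a000001000002000000000005000003
def ctSel2 (c : ℕ) : ℕ := ct2_0
def ct2F (v : ℕ) : ℕ := Nat.rec (motive := fun _ => ℕ) 0 (fun c _ => Nat.mod (Nat.shiftRight (ctSel2 c) (Nat.mul 24 (Nat.mod v 682))) 16777216) (Nat.add (Nat.div v 682) 1)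

end Cfsg.Agent.Helper5.U33TTC
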