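import Mathlib
import Cfsg.Agent.Helper5.U33LPA
import Cfsg.Agent.Helper5.U33LPB
import Cfsg.Agent.Helper5.U33LPC
import Cfsg.Agent.Helper5.LPI

/-! generated: the U33 presentation, as a list-presented group, defines a simple group of order
6048 -/

set_option autoImplicit false

namespace Cfsg.Agent.Helper5.U33LP

open Cfsg.Agent.Helper5.TC Cfsg.Agent.Helper5.TCI Cfsg.Agent.Helper5.LP

/-- the permutation of `xw`, packed. -/
def pxBlocks : List ℕ := [0x1700001900000e00001a00000d00000900001400001300001000001800000b00001b00001200000400001500000200001600000500000300001100000a00000c00000000000f000001000007000008000006]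

/-- the permutation of `xw`. -/
def px (v : ℕ) : ℕ := pLook 682 pxBlocks v

set_option maxRecDepth 1000000 in
theorem px_agree : agreeRangeF U33TTC.ctF xw px 28 0 = true := by decide +kernel

set_option maxRecDepth 1000000 in
theorem px_pow : iterFixRangeF px (7 ^ 1) 28 0 = true := by decide +kernel

theorem tableI : TableOKI 3 28 iot U33TTC.ctF := tableOKI_of_cert rfl U33TTC.hT

theorem xw_pow : fixRange U33TTC.ctF (List.replicate (7 ^ 1) xw).flatten 28 0 = true :=
  fixRange_pow_of_tableI tableI xw (by decide)
    px (7 ^ 1) px_agree px_pow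

theorem xw_move : actL U33TTC.ctF xw 0 ≠ 0 := by decide +kernel

theorem lettersA : LettersLt 3 R3 := by decide +kernel

/-- **The presentation defines a simple group of order 6048.** -/
theorem simple_card : IsSimpleGroup (LPG 3 R3) ∧ Nat.card (LPG 3 R3) = 6048 :=
  lp_simple_acts lettersA (tableHomI iot_iot iot_lt lettersA tableI (relsFix_of_cert subsT rfl wordsT U33TTC.hrelT))
    (actsOn_tableHomI iot_iot iot_lt lettersA tableI (relsFix_of_cert subsT rfl wordsT U33TTC.hrelT)) 6048 ubB.1
    (le_trans ubB.2 (by norm_num)) levels chain_ok chain_prod Hgens prim prim_ok 7 1 1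
    (by norm_num) (by norm_num) (by norm_num) xw (by decide) xw_pow killed (by norm_num)

end Cfsg.Agent.Helper5.U33LP
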