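import Mathlib
import Cfsg.Agent.Helper5.G22Mat

/-!
# Word certificates for `G₂(2)′`

generated: every root element `x_r(1)` of `G₂(2)`, or its product with the short root element
`x_2(1)`, is a word in the three matrices `MM`, and so are the conjugates of these matrices by
`x_2(1)`.  Hence the group generated by `MM` has index at most 2 in `G₂(2)`.
-/

set_option autoImplicit false

namespace Cfsg.Agent.Helper5.G22

open Cfsg.Agent.Helper5.LP Cfsg.Agent.Helper5.TC Cfsg.Agent.Helper5.TCI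

/-- whether the root element lies in the group generated by `MM`. -/
def inD : ℕ → Bool
  | 0 => true
  | 1 => true
  | 2 => false
  | 3 => false
  | 4 => false
  | 5 => true
  | 6 => true
  | 7 => false
  | 8 => false
  | 9 => false
  | 10 => true
  | 11 => true
  | _ => true

/-- the root element, or its product with `x_2(1)`, as a word in `MM`. -/
def mword : ℕ → List ℕ
  | 0 => [1, 1, 1]
  | 1 => [0, 1, 1, 1, 0, 1, 1, 1]
  | 2 => []
  | 3 => [0, 2, 0, 2, 0, 1, 0, 1, 0, 1, 0, 2, 0, 2, 0, 2]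
  | 4 => [0, 2, 0, 1, 0, 1, 0, 1, 1, 0, 1, 0, 1, 0, 2]
  | 5 => [1, 1, 0, 1, 1, 1, 0, 1]
  | 6 => [0]
  | 7 => [0, 1, 0, 1, 0, 1, 1, 0, 1, 0, 1, 0, 2, 0, 1, 1, 1]
  | 8 => [0, 1, 1, 0, 1, 0, 2, 2, 0, 1, 0, 1, 1]
  | 9 => [2, 2, 0, 2, 0, 2, 2, 0, 1, 0, 1, 1]
  | 10 => [1, 1, 0, 2, 2]
  | 11 => [0, 1, 1, 0, 2, 2, 0, 1, 1, 0, 2, 2]
  | _ => []

/-- the conjugate of a letter by `x_2(1)` as a word in `MM`. -/
def cword : ℕ → List ℕ
  | 0 => [0]
  | 1 => [2, 0, 1, 1, 1, 0, 2, 0, 1, 1, 1, 0]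
  | 2 => [0, 2, 2, 2, 0, 1, 0, 2, 2, 2, 0, 1]
  | _ => []

set_option maxRecDepth 100000 in
theorem XX_cert : ∀ r, r < 12 →
    (bif inD r then XX r else XX r * XX 2) = ((mword r).map MM).prod := by decide +kernel

set_option maxRecDepth 100000 in
theorem conj_cert : ∀ c, c < 3 → XX 2 * MM c * XX 2 = ((cword c).map MM).prod := by
  decide +kernel

theorem mword_lt : ∀ r, r < 12 → ∀ c ∈ mword r, c < 3 := by decide +kernel

theorem cword_lt : ∀ c, c < 3 → ∀ d ∈ cword c, d < 3 := by decide +kernel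

end Cfsg.Agent.Helper5.G22
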