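import Mathlib
import Cfsg.Prelude.Def_ChevG2
import Cfsg.Prelude.Def_Classical
import Cfsg.Agent.Helper5.G22MatB
import Cfsg.Agent.Helper5.U33Mat
import Cfsg.Agent.Helper5.SUMap
import Cfsg.Agent.Helper5.SimpleHom
import Cfsg.Agent.Helper5.ChevEquiv
import Cfsg.Agent.Helper8.GUOrder

/-!
# `G₂(2)′ ≅ PSU₃(3)`

The group presented by `a² = b⁶ = (ab)⁷ = (ab²)³(ab⁻²)³ = (abab⁻²)³ab(ab⁻¹)² = 1` is simple of
order 6048 (`U33LPD`).  It embeds into `G₂(2)` with image of index at most 2, which is therefore the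
commutator subgroup, and it is isomorphic to `PSU₃(3)` by the order of the latter.
-/

set_option autoImplicit false

namespace Cfsg.Agent.Helper5.G22

open Cfsg.Agent.Helper5.LP Cfsg.Agent.Helper5.TC Cfsg.Agent.Helper5.TCI
open Cfsg.Agent.Helper5.U33LP (R3 lettersA)
open Cfsg.Agent.Helper5.SimpleHom
open scoped commutatorElement

theorem not_prime_card : ¬ (Nat.card (LPG 3 R3)).Prime := by
  rw [U33LP.simple_card.2]
  norm_num

/-- a simple group whose order is not a prime is perfect. -/
theorem commutator_eq_top_of_simple {G : Type*} [Group G] [IsSimpleGroup G]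
    (hnp : ¬ (Nat.card G).Prime) : commutator G = ⊤ := by
  rcases (inferInstance : (commutator G).Normal).eq_bot_or_eq_top with h | h
  · exfalso
    have hc : ∀ a b : G, a * b = b * a := by
      intro a b
      have h1 : ⁅a, b⁆ ∈ commutator G := by
        rw [commutator_def]
        exact Subgroup.commutator_mem_commutator (Subgroup.mem_top a) (Subgroup.mem_top b)
      rw [h, Subgroup.mem_bot, commutatorElement_eq_one_iff_mul_comm] at h1
      exact h1
    let _ : CommGroup G := { (inferInstance : Group G) with mul_comm := hc }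
    exact hnp IsSimpleGroup.prime_card
  · exact h

/-! ### the homomorphism to `G₂(2)` -/

theorem MM_ge (c : ℕ) (hc : 3 ≤ c) : MM c = 1 := by
  match c, hc with
  | c + 3, _ => rfl

theorem MMi_ge (c : ℕ) (hc : 3 ≤ c) : MMi c = 1 := by
  match c, hc with
  | c + 3, _ => rfl

theorem MM_inv (c : ℕ) : MM c * MMi c = 1 ∧ MMi c * MM c = 1 := by
  rcases Nat.lt_or_ge c 3 with h | h
  · exact MM_inv_lt c h
  · rw [MM_ge c h, MMi_ge c h, mul_one]
    exact ⟨rfl, rfl⟩

/-- the images of the letters as units. -/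
def UU (c : ℕ) : (Matrix (Fin 14) (Fin 14) F2)ˣ := ⟨MM c, MMi c, (MM_inv c).1, (MM_inv c).2⟩

theorem UU_rels : ∀ l ∈ R3, (l.map UU).prod = 1 := by
  intro l hl
  apply Units.ext
  rw [Units.val_one, ← Units.coeHom_apply, map_list_prod, List.map_map]
  exact MM_rels l hl

theorem UU_prod_val (l : List ℕ) : ((l.map UU).prod : (Matrix (Fin 14) (Fin 14) F2)ˣ).val
    = (l.map MM).prod := by
  rw [← Units.coeHom_apply, map_list_prod, List.map_map]
  rfl

/-- the root elements as units. -/
def XU (r : ℕ) (hr : r < 12) : (Matrix (Fin 14) (Fin 14) F2)ˣ :=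
  ⟨XX r, XX r, XX_sq r hr, XX_sq r hr⟩

/-- transport of invertible matrices along the numbering of the coordinates. -/
def reGL : (Matrix (Fin 14) (Fin 14) F2)ˣ ≃* Matrix.GeneralLinearGroup I14 F2 :=
  Units.mapEquiv (Matrix.reindexAlgEquiv F2 F2 e14).toMulEquiv

theorem reGL_val (g : (Matrix (Fin 14) (Fin 14) F2)ˣ) :
    ((reGL g : Matrix.GeneralLinearGroup I14 F2) : Matrix I14 I14 F2)
      = (g : Matrix (Fin 14) (Fin 14) F2).submatrix e14.symm e14.symm := rfl

/-- the Chevalley group of type `G₂` over the field with two elements. -/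
abbrev GG : Subgroup (Matrix.GeneralLinearGroup I14 F2) := Cfsg.Lie.chevG2.group F2

theorem reGL_XU_mem (r : ℕ) (hr : r < 12) : reGL (XU r hr) ∈ GG := by
  apply Subgroup.subset_closure
  refine ⟨⟨r, hr⟩, 1, ?_⟩
  rw [xMat_eq ⟨r, hr⟩, reGL_val]
  rfl

theorem reGL_mem_of_prod : ∀ (l : List ℕ), (∀ r ∈ l, r < 12) →
    ∀ g : (Matrix (Fin 14) (Fin 14) F2)ˣ, g.val = (l.map XX).prod → reGL g ∈ GG
  | [], _, g, hg => by
    have : g = 1 := Units.ext (by rw [hg]; rfl)
    rw [this, map_one]
    exact one_mem _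
  | p :: l, hl, g, hg => by
    have hp := hl p List.mem_cons_self
    have hg' : ((XU p hp)⁻¹ * g).val = (l.map XX).prod := by
      rw [Units.val_mul, hg, List.map_cons, List.prod_cons, ← mul_assoc]
      show XX p * XX p * _ = _
      rw [XX_sq p hp, one_mul]
    have h1 := reGL_mem_of_prod l (fun q hq => hl q (List.mem_cons_of_mem _ hq)) _ hg'
    have h2 := reGL_XU_mem p hp
    have : g = XU p hp * ((XU p hp)⁻¹ * g) := by
      rw [mul_inv_cancel_left]
    rw [this, map_mul]
    exact mul_mem h2 h1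

/-- the homomorphism to the general linear group. -/
def phi0 : LPG 3 R3 →* Matrix.GeneralLinearGroup I14 F2 :=
  reGL.toMonoidHom.comp (lift UU lettersA UU_rels)

set_option maxHeartbeats 2000000 in
theorem phi0_ev (l : List ℕ) (hl : ∀ c ∈ l, c < 3) :
    phi0 (ev 3 R3 l) = reGL ((l.map UU).prod) := by
  have h := lift_ev UU lettersA UU_rels l hl
  unfold phi0
  rw [MonoidHom.comp_apply, h]
  rfl

theorem phi0_mem (x : LPG 3 R3) : phi0 x ∈ GG := by
  have h : (⊤ : Subgroup (LPG 3 R3)) ≤ GG.comap phi0 := by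
    rw [← closure_gens, Subgroup.closure_le]
    rintro _ ⟨c, hc, rfl⟩
    show phi0 (ev 3 R3 [c]) ∈ GG
    rw [phi0_ev [c] (by simpa using hc)]
    apply reGL_mem_of_prod (xword c) (xword_lt c hc)
    rw [UU_prod_val]
    simpa using MM_eq c hc
  exact h (Subgroup.mem_top x)

/-- the homomorphism to the Chevalley group. -/
def phi : LPG 3 R3 →* GG := phi0.codRestrict _ phi0_mem

theorem phi_injective : Function.Injective phi := by
  have := U33LP.simple_card.1
  apply injective_of_simple phi (ev 3 R3 [0])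
  intro h0
  have h1 : phi0 (ev 3 R3 [0]) = 1 := congrArg Subtype.val h0
  rw [phi0_ev [0] (by simp)] at h1
  have h2 : ([0].map UU).prod = 1 := by
    apply reGL.injective
    rw [h1, map_one]
  have h3 := congrArg Units.val h2
  rw [UU_prod_val] at h3
  exact MM_ne (by simpa using h3)

/-! ### the image has index at most 2 -/

/-- the image, as a subgroup of the general linear group. -/
abbrev H0 : Subgroup (Matrix.GeneralLinearGroup I14 F2) := phi0.range

/-- the short root element `x_2(1)`. -/
def X0 : Matrix.GeneralLinearGroup I14 F2 := reGL (XU 2 (by norm_num))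

theorem X0_mem : X0 ∈ GG := reGL_XU_mem 2 (by norm_num)

theorem X0_sq : X0 * X0 = 1 := by
  unfold X0
  rw [← map_mul]
  have : XU 2 (by norm_num) * XU 2 (by norm_num) = 1 :=
    Units.ext (XX_sq 2 (by norm_num))
  rw [this, map_one]

theorem X0_inv : X0⁻¹ = X0 := inv_eq_of_mul_eq_one_left X0_sq

theorem mem_H0_of_val (g : (Matrix (Fin 14) (Fin 14) F2)ˣ) (l : List ℕ) (hl : ∀ c ∈ l, c < 3)
    (hg : g.val = (l.map MM).prod) : reGL g ∈ H0 := by
  refine ⟨ev 3 R3 l, ?_⟩
  rw [phi0_ev l hl]
  congr 1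
  apply Units.ext
  rw [UU_prod_val, hg]

theorem conj_gen_mem (c : ℕ) (hc : c < 3) : X0 * phi0 (ev 3 R3 [c]) * X0 ∈ H0 := by
  rw [phi0_ev [c] (by simpa using hc)]
  unfold X0
  rw [← map_mul, ← map_mul]
  apply mem_H0_of_val _ (cword c) (cword_lt c hc)
  rw [Units.val_mul, Units.val_mul, UU_prod_val]
  show XX 2 * ([c].map MM).prod * XX 2 = _
  simpa using conj_cert c hc

theorem conj_mem {h : Matrix.GeneralLinearGroup I14 F2} (hh : h ∈ H0) : X0 * h * X0 ∈ H0 := by
  obtain ⟨y, rfl⟩ := hh
  have hle : (⊤ : Subgroup (LPG 3 R3)) ≤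
      H0.comap ((MulAut.conj X0).toMonoidHom.comp phi0) := by
    rw [← closure_gens, Subgroup.closure_le]
    rintro _ ⟨c, hc, rfl⟩
    show X0 * phi0 (ev 3 R3 [c]) * X0⁻¹ ∈ H0
    rw [X0_inv]
    exact conj_gen_mem c hc
  have := hle (Subgroup.mem_top y)
  have h2 : X0 * phi0 y * X0⁻¹ ∈ H0 := this
  rwa [X0_inv] at h2

theorem gen_dich (r : Fin Cfsg.Lie.chevG2.nroots) (t : F2)
    (g : Matrix.GeneralLinearGroup I14 F2)
    (hg : (g : Matrix I14 I14 F2) = Cfsg.Lie.chevG2.xMat F2 r t) : g ∈ H0 ∨ g * X0 ∈ H0 := by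
  have ht : ∀ t : F2, t = 0 ∨ t = 1 := by decide
  rcases ht t with rfl | rfl
  · left
    have : g = 1 := by
      apply Units.ext
      rw [hg, xMat_zero r]
      rfl
    rw [this]
    exact one_mem _
  · have hr : r.val < 12 := r.isLt
    have hgr : g = reGL (XU r.val hr) := by
      apply Units.ext
      rw [hg, xMat_eq r, reGL_val]
      rfl
    have hc := XX_cert r.val hr
    cases hd : inD r.val
    · right
      rw [hd, cond_false] at hc
      rw [hgr]
      unfold X0
      rw [← map_mul]
      apply mem_H0_of_val _ (mword r.val) (mword_lt r.val hr)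
      rw [Units.val_mul]
      exact hc
    · left
      rw [hd, cond_true] at hc
      rw [hgr]
      exact mem_H0_of_val _ (mword r.val) (mword_lt r.val hr) hc

theorem dich : ∀ g ∈ GG, g ∈ H0 ∨ g * X0 ∈ H0 := by
  intro g hg
  induction hg using Subgroup.closure_induction with
  | mem x hx =>
    obtain ⟨r, t, hxr⟩ := hx
    exact gen_dich r t x hxr
  | one => left; exact one_mem _
  | mul x y _ _ hx hy =>
    rcases hx with hx | hx <;> rcases hy with hy | hy
    · left; exact mul_mem hx hy
    · right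
      rw [mul_assoc]
      exact mul_mem hx hy
    · right
      have h1 := conj_mem hy
      have h2 : x * y * X0 = (x * X0) * (X0 * y * X0) := by
        simp only [mul_assoc]
        rw [← mul_assoc X0 X0 (y * X0), X0_sq, one_mul]
      rw [h2]
      exact mul_mem hx h1
    · left
      have h1 := conj_mem hy
      have h2 : x * y = (x * X0) * (X0 * (y * X0) * X0) := by
        simp only [mul_assoc]
        rw [X0_sq, mul_one, ← mul_assoc X0 X0 y, X0_sq, one_mul]
      rw [h2]
      exact mul_mem hx h1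
  | inv x _ hx =>
    rcases hx with hx | hx
    · left; exact inv_mem hx
    · right
      have h1 := conj_mem (inv_mem hx)
      have h2 : x⁻¹ * X0 = X0 * (x * X0)⁻¹ * X0 := by
        rw [mul_inv_rev, X0_inv, ← mul_assoc X0 X0 x⁻¹, X0_sq, one_mul]
      rw [h2]
      exact h1

/-! ### the image is the commutator subgroup -/

/-- the image, as a subgroup of the Chevalley group. -/
abbrev HH : Subgroup GG := phi.range

theorem mem_HH_iff (g : GG) : g ∈ HH ↔ (g : Matrix.GeneralLinearGroup I14 F2) ∈ H0 := by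
  constructor
  · rintro ⟨y, rfl⟩
    exact ⟨y, rfl⟩
  · rintro ⟨y, hy⟩
    exact ⟨y, Subtype.ext hy⟩

/-- the short root element in the Chevalley group. -/
def x0 : GG := ⟨X0, X0_mem⟩

theorem x0_sq : x0 * x0 = 1 := Subtype.ext X0_sq

theorem x0_inv : x0⁻¹ = x0 := inv_eq_of_mul_eq_one_left x0_sq

theorem dich' (g : GG) : g ∈ HH ∨ g * x0 ∈ HH := by
  rcases dich g.1 g.2 with h | h
  · left; exact (mem_HH_iff g).mpr h
  · right; exact (mem_HH_iff (g * x0)).mpr h

theorem conj_mem' {h : GG} (hh : h ∈ HH) : x0 * h * x0 ∈ HH :=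
  (mem_HH_iff _).mpr (conj_mem ((mem_HH_iff h).mp hh))

instance HH_normal : HH.Normal := by
  constructor
  intro h hh g
  rcases dich' g with hg | hg
  · exact mul_mem (mul_mem hg hh) (inv_mem hg)
  · have h1 : g * h * g⁻¹ = (g * x0) * (x0 * h * x0) * (g * x0)⁻¹ := by
      rw [mul_inv_rev, x0_inv]
      simp only [mul_assoc]
      rw [← mul_assoc x0 x0, x0_sq, one_mul, ← mul_assoc x0 x0, x0_sq, one_mul]
    rw [h1]
    exact mul_mem (mul_mem hg (conj_mem' hh)) (inv_mem hg)

theorem mk_eq (g : GG) : (QuotientGroup.mk g : GG ⧸ HH) = 1 ∨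
    (QuotientGroup.mk g : GG ⧸ HH) = QuotientGroup.mk x0 := by
  rcases dich' g with hg | hg
  · left
    exact (QuotientGroup.eq_one_iff g).mpr hg
  · right
    have h1 : (QuotientGroup.mk (g * x0) : GG ⧸ HH) = 1 := (QuotientGroup.eq_one_iff _).mpr hg
    rw [QuotientGroup.mk_mul] at h1
    have h2 : (QuotientGroup.mk g : GG ⧸ HH) = (QuotientGroup.mk x0 : GG ⧸ HH)⁻¹ :=
      eq_inv_of_mul_eq_one_left h1
    rw [h2, ← QuotientGroup.mk_inv, x0_inv]

theorem quot_comm (p q : GG ⧸ HH) : p * q = q * p := by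
  induction p using QuotientGroup.induction_on with
  | H g1 =>
    induction q using QuotientGroup.induction_on with
    | H g2 =>
      rcases mk_eq g1 with h1 | h1 <;> rcases mk_eq g2 with h2 | h2 <;> rw [h1, h2]
      · rw [one_mul, mul_one]
      · rw [one_mul, mul_one]

theorem commutator_le : commutator GG ≤ HH := by
  let _ : CommGroup (GG ⧸ HH) := { (inferInstance : Group (GG ⧸ HH)) with mul_comm := quot_comm }
  have h := Abelianization.commutator_subset_ker (QuotientGroup.mk' HH)
  rwa [QuotientGroup.ker_mk'] at h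

theorem le_commutator : HH ≤ commutator GG := by
  have := U33LP.simple_card.1
  rintro _ ⟨y, rfl⟩
  have hy : y ∈ commutator (LPG 3 R3) := by
    rw [commutator_eq_top_of_simple not_prime_card]; exact Subgroup.mem_top y
  have h1 : (commutator (LPG 3 R3)).map phi ≤ commutator GG := by
    rw [commutator_def, Subgroup.map_commutator, commutator_def]
    exact Subgroup.commutator_mono le_top le_top
  exact h1 (Subgroup.mem_map_of_mem phi hy)

theorem commutator_eq : commutator GG = HH := le_antisymm commutator_le le_commutator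

/-- **The presented group is `G₂(2)′`.** -/
noncomputable def lpEquiv2 : LPG 3 R3 ≃* commutator GG :=
  (MonoidHom.ofInjective phi_injective).trans (MulEquiv.subgroupCongr commutator_eq.symm)

end Cfsg.Agent.Helper5.G22
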