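import Mathlib
import Cfsg.Agent.Helper5.G22Iso

/-!
# `G₂(2)′ ≅ PSU₃(3)` over arbitrary fields with two and nine elements
-/

set_option autoImplicit false

namespace Cfsg.Agent.Helper5.G22

open Cfsg.Agent.Helper5.LP Cfsg.Agent.Helper5.TC Cfsg.Agent.Helper5.TCI
open Cfsg.Agent.Helper5.U33LP (R3 lettersA)
open Cfsg.Agent.Helper5.GF9 Cfsg.Agent.Helper5.SUMap Cfsg.Agent.Helper5.SimpleHom
open Cfsg.Agent.Helper5.ChevEquiv

/-! ### the unitary side -/

theorem hK9 : Fintype.card F9 = 3 ^ 2 := by decide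

/-- the images of the letters in `SU₃(3)` over the model field. -/
def V9 (c : ℕ) : Cfsg.SU 3 F9 3 :=
  Cfsg.Agent.Helper8.SUCenter.mkSU hK9 (U33.U9 c) (U33.U9_unitary c) (U33.U9_det c)

theorem V9_rels : ∀ l ∈ R3, (l.map V9).prod = 1 := by
  intro l hl
  apply Subtype.ext
  apply Subtype.ext
  rw [sub_list_prod, List.map_map]
  exact U33.U9_rels l hl

/-- the homomorphism to `SU₃(3)` over the model field. -/
def theta9 : LPG 3 R3 →* Cfsg.SU 3 F9 3 := lift V9 lettersA V9_rels

theorem theta9_injective : Function.Injective theta9 := by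
  have := U33LP.simple_card.1
  apply injective_of_simple theta9 (ev 3 R3 [0])
  unfold theta9
  rw [lift_ev V9 lettersA V9_rels [0] (by simp)]
  intro h
  have h1 : V9 0 = 1 := by simpa using h
  have h2 := congrArg (fun z : Cfsg.SU 3 F9 3 =>
    ((z : Matrix.SpecialLinearGroup (Fin 3) F9) : Matrix (Fin 3) (Fin 3) F9)) h1
  exact U33.U9_ne h2

theorem card_quotient_le {G : Type*} [Group G] [Finite G] (N : Subgroup G) [N.Normal] :
    Nat.card (G ⧸ N) ≤ Nat.card G := by
  rw [Subgroup.card_eq_card_quotient_mul_card_subgroup N]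
  exact Nat.le_mul_of_pos_right _ Nat.card_pos

section
variable {K : Type*} [Field K] [Fintype K]

/-- the model field is the given field with nine elements. -/
noncomputable def e9 (hK : Fintype.card K = 9) : F9 ≃+* K :=
  FiniteField.ringEquivOfCardEq (by rw [F9.card_eq, hK])

/-- the homomorphism to `SU₃(3)`. -/
noncomputable def theta (hK : Fintype.card K = 9) : LPG 3 R3 →* Cfsg.SU 3 K 3 :=
  (suMap hK9 (by rw [hK]; norm_num) ((e9 hK : F9 ≃+* K) : F9 →+* K)).comp theta9

theorem theta_injective (hK : Fintype.card K = 9) : Function.Injective (theta hK) :=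
  (suMap_injective hK9 (by rw [hK]; norm_num) _).comp theta9_injective

/-- the homomorphism to `PSU₃(3)`. -/
noncomputable def psi (hK : Fintype.card K = 9) : LPG 3 R3 →* Cfsg.PSU 3 K 3 :=
  (QuotientGroup.mk' (Subgroup.center (Cfsg.SU 3 K 3))).comp (theta hK)

theorem psi_injective (hK : Fintype.card K = 9) : Function.Injective (psi hK) := by
  have := U33LP.simple_card.1
  exact injective_mk_center not_prime_card (theta hK) (theta_injective hK)

theorem card_SU3 (hK : Fintype.card K = 9) : Nat.card (Cfsg.SU 3 K 3) = 6048 := by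
  have hK' : Fintype.card K = 3 ^ 2 := by rw [hK]; norm_num
  have h1 := Cfsg.Agent.Helper8.GUOrder.card_SU (n := 3) hK' (by norm_num)
  rw [Cfsg.Agent.Helper8.GUOrder.card_GU hK' 3] at h1
  have h2 : (3 : ℕ) ^ (3 * (3 - 1) / 2) *
      ∏ i ∈ Finset.range 3, (if Even i then 3 ^ (i + 1) + 1 else 3 ^ (i + 1) - 1)
      = (3 + 1) * 6048 := by
    simp [Finset.prod_range_succ]
  rw [h2] at h1
  exact Nat.eq_of_mul_eq_mul_left (by norm_num) h1

/-- **The presented group is `PSU₃(3)`.** -/
noncomputable def psiEquiv (hK : Fintype.card K = 9) : LPG 3 R3 ≃* Cfsg.PSU 3 K 3 :=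
  MulEquiv.ofBijective (psi hK) ((psi_injective hK).bijective_of_nat_card_le (by
    rw [U33LP.simple_card.2, ← card_SU3 hK]
    exact card_quotient_le _))

end

/-! ### the Chevalley side -/

section
variable {F : Type*} [Field F] [Fintype F]

/-- the prime field is the given field with two elements. -/
noncomputable def e2 (hF : Fintype.card F = 2) : F2 ≃+* F :=
  FiniteField.ringEquivOfCardEq (by rw [ZMod.card, hF])

/-- the commutator subgroups of `G₂` over the two fields. -/
noncomputable def gEquiv (hF : Fintype.card F = 2) :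
    ↥(commutator ↥(Cfsg.Lie.chevG2.group F2)) ≃* ↥(commutator ↥(Cfsg.Lie.chevG2.group F)) :=
  commutatorEquiv (chevEquiv Cfsg.Lie.chevG2 (e2 hF))

end

/-- **`G₂(2)′ ≅ PSU₃(3)`.** -/
theorem main {F K : Type*} [Field F] [Fintype F] [Field K] [Fintype K]
    (hF : Fintype.card F = 2) (hK : Fintype.card K = 9) :
    Nonempty (↥(commutator ↥(Cfsg.Lie.chevG2.group F)) ≃* Cfsg.PSU 3 K 3) :=
  ⟨(gEquiv hF).symm.trans (lpEquiv2.symm.trans (psiEquiv hK))⟩

end Cfsg.Agent.Helper5.G22
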