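import Cfsg.Agent.Helper5.TC3A
import Cfsg.Agent.Helper5.TCIB
import Cfsg.Agent.Helper5.LPI
import Cfsg.Agent.Helper5.StemPB

/-! generated permutation model of a central extension: G23MD -/

set_option autoImplicit false
set_option Elab.async false

namespace Cfsg.Agent.Helper5.G23MD
open Cfsg.Agent.Helper5.TC Cfsg.Agent.Helper5.TCI Cfsg.Agent.Helper5.LP

def mc0_0 : ℕ := 0x2bd07df0512051504ab029f07ec02b5017101a1050807cc02b2053f0734022d0125011e011803ff06d6045707c804b102a60265055f00e5068c01ff050300f20206081300d60162073e04c2029800cf02a501bd00d0029100bd054500e8028a03f704b90824068d015804c80751068b03a5028300a10269025c028207f2062b009c00b501c406ca027a027907570275065d027302720271008c06360209026f046f026b026a008a03a1053b0268009e0264027c050b07ae0349009a0578025f076a0560080f025d02550712018105170278052a057403d002bc03ef0237024f025207bb0689043806a401ad02460077042e046a075c02b4024205f5018c03e4029003ec023c046e0837051f07980461023d006e048d056805e80368074a022f04a4022e022503ea022a04d0022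80825055904d402240221005a0749075e060a021e021b033d01df021a021904ba05db0214005402ad021307b002110738005206e3049c0679020b035607b10218056e004a01be03ba016f02af072305f60200047707830524003e00690296010104cc01f603ae01f407ba019201f106e508330730019301ea00ac018f01e9076e01e706ac033601e4082d079c06e60217072f01a6024101dc01e3013f071e01c904c601d6049f01d4002d073701d1007d03930507079101cc01cb012101c7043a082807bf01c5023b01c301c005f101c8056901630055019a04ce01ba06a307a201b50317071701b7002a046c029a065e026007b20229041e019401aa01a9053e0565014c0023024702b905350033042906770390019d0453073205b3013e04ef02b8049605b5041b054903fe0525063b018d077606d701c600310767067103f6018705c402b3036b06620182041c001e06ea017e017d011305f2001901f5015c05ec017607cf017401730172060900f401bf050204f1037f011f045505940178019f016603aa0201017504230781070d06fb009305bb0759020c044301590067014605190155015403c301520323015002560153013b04aa014b049701490202014706c607de01440143014201a506e406b905b90350013a015f0688013c01360135000b042a0134079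b0132011c0299012f016d012d0240012901840491081002ae03d5032d01240123047f04db027b079e0495012b011a000a05f8081804e5017901160115011400d103ac029e068a03a2052c0238010a0109010801070106000900460764010401560100029200fe0361042202a0080a077500fa00f900f8000e02e50102000800e0055300f1071a00ef02a300eb054605a201a002a400d407da029d00ff077a0605071800ed00de00dd00dc00db00da000707a700d900d800d705fd0800019007fb07cd014d037704c1080800cb00ca00c900c800c7000608050720003800c4016100c2067f00c0059000bc01f7025a037900b800b700b60774028f028d07e9018300b200b100b0030f027e000d013700be00a800a700a6000500a402740286028500a2072b00a000880391009d062f009b0649009707c70095018905a106c10041012000910090008f025800a5037207b506950099008600850084008300820004031f024e00800133007e061b064a007b05ae0332024806a606990448072e00730072023a0697077906c4006b006a01ef05a00230006802dd0066062700640045022c074e005e005d005c022300600707048e031100580057005602ea020f020d0625004f004e004d004c004b000201880384004900430047001006cd00440444004200e900290381003c003b003a07140666018e01f0004000360035003401e501da03190030002f002e01ca02c1002b064105de01ab01a806cb067301770021002000010094001d001c001b0180000f017b05e9002200170016015702e600130012001102ca0596035400f303210122010b00f600df00cc00ae00870071005000150000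
def msel0 (c : ℕ) : ℕ := mc0_0
def mc0 (v : ℕ) : ℕ := forceL (Nat.mod v 702) fun n => forceL (Nat.rec (motive := fun _ => ℕ) 0 (fun c _ => Nat.mod (Nat.shiftRight (msel0 c) (Nat.mul 16 (Nat.mod n 1024))) 65536) (Nat.add (Nat.div n 1024) 1)) fun e => Nat.add (Nat.mod e 702) (Nat.mul 702 (Nat.mod (Nat.add (Nat.div v 702) (Nat.div e 702)) 3))

def mc1_0 : ℕ := 0x2bd025104f707db01a2019604ac07cf02b60242018402b104a007820201012602130484073a07ae04e40549072202a5029500e800ed07d8081f00fc02b8011000e503d607a101b0012f0297055a01f8066d03e5051901000292023d00b503b900b4038b070e028e03840667080c00a300a2039202840280082c0723039000ad07e40264011f027902780255071d053d027600a40274027302720575026e0689037107d0026c026b02820267070c077702a40265057a040207b401ae025e03a4025a028106d100bb07d2008d0836014e025908370432024d038f0570024e008007df05650355082f0749007701a30247081b06e90483024101dc012b050a04b00235023b01c300700348010c024f046b04c604cf06e8052007130068022e022c02ae00610397022901ac022706930475022b022300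5c03dc0222049f03f0021d069c04f5021c02190218020701df07a0048a0215021207a402100736005307720052015a020a0804026f075204ba029d041e0814064a0147016301fe02a003a1032c07930808044b03b8037400bc01f5017801f3082204a501f00037006a051b083506c7044701eb01e803c201e607a9003201e301da04dd07500501021a0788041901db0535003106c50711069901d5054501d306a4031e01d005d507af04ed04de01cb01ca002c01d701bf01c8018b01c4027b01c20557069d01c1016e0204029404cd048f01b90779056d01b3045801b604ab049c033107e907b6035e072d024807c0002701a901a8002604be01dd0140038307b2049602b400e9016603ad019c039f047201bb082402f806e50516071701aa01ec01f1041d00d301e90038018e023f031805f00095004a018605be06d5012900b201810257001b041c017d017c0743001907c60116016700230175016201730172017102b507c10202043c012d06b0071b049e04ad03fd04cb016506dd067901bd029a00c20727013a06fc070f0177044a0567015802890014010201540153014d01510302014f02e3053800d001a5014a04030148032b0146015603510143014201410826070d01d9019803fc0138014c013b0809070300ab013701360133007e013107cc04a3012e07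b8012c07a6011c0334012a0507047607ba02ad01230122000a01c90091016a02ac03330130032d011b034702ab06a1011501140113017b07ce0548055f054403cd050903f70009010b010a01090108010706ce0103037e00f401f7010100e400ff04c9077f045c00f900f800f702e200080446016f000c029e00f0077000ee068d00e006e000ec02f70040028f0801044002a2068a07e5046d053300f2000700df00de00dd00dc00db00d800d700d6029b074a00e70619071901120293029603390357000600cc00cb00ca00c900c805c502e700c305ba00c106e700bf044d00aa029100bd0636052e064b00b900b800b7027c0607035900b100b000af053c000506ff01ea032207ac030f00a900a800a7008c00a5067a00a10283009f033a0266009c027d009a026000880785009805890096001f015d06b80090008f008e04dc042e027107dd026a03a0009e0004008700860085008400830393007f0797007d01cf03d7007a04bd04fe076002460438047e05f4007200710003043406a0023402d604ef006c006b01f900670157006506cc0063058702e605fd005b04d4005f005e005d05ac0221073100570056005501bc021405d4020e062a00020050004f004e004d004c02050048044300460105006200430047004100920036041a01fa03fb003d003c003b045200c4045700350034003301a00337018a002f002e002d01d205d0002a01b2003f058f067103a80352032701a400170022002105e2017f001e001d001c02cc01790426001600150001037c0012001100100045001a00f600ac058b0135011a010600f300da00c700a6008205a7004b00200000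
def msel1 (c : ℕ) : ℕ := mc1_0
def mc1 (v : ℕ) : ℕ := forceL (Nat.mod v 702) fun n => forceL (Nat.rec (motive := fun _ => ℕ) 0 (fun c _ => Nat.mod (Nat.shiftRight (msel1 c) (Nat.mul 16 (Nat.mod n 1024))) 65536) (Nat.add (Nat.div n 1024) 1)) fun e => Nat.add (Nat.mod e 702) (Nat.mul 702 (Nat.mod (Nat.add (Nat.div v 702) (Nat.div e 702)) 3))

def mc2_0 : ℕ := 0x2bd057307c9028d01e705620787053a01af05690552076102ad02bc04ea078304f8077d04e1010906ea01490796010b03aa02a50401010700de029f077707ff026800d8043400d50706076e0219040c03b901a1028c080d07fa0567019002b0028e00dd069101f304b400a504600657076a081106ed07e2028200a007f201a4025d0515046e038702a3055e07cb0258023907e606580782027506d00270052d026e042202aa026d03af0269052f027f02640263026200870786026101fe0278025e04020084062f07fd025907f606fe043202530082039007d10080048101e30510007e029d04cd024a0791017e0249051e02420072043804e8072e043a02280071074d056a023b04000344023e02370418023606de07ef04c0013b007704860299022d0397022b01ac0229069303d8005d022607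22076904890729029800d602200711021f03e20502075e01c101e402b2021702140577021206a602100445013502b10537020902a1078d029b00c8041507ab03f7036c0788008505510648029c022e027d06b201e90579023101f706cc035902b60433017f045d042900da0813070a0179037b036401ef03ed079d01e6074804bb01d4029a0792003001b6017d01dd016c01db0328049f024e01d7022501d501de0122008f06e9075c01cf01ce01cd07c401d0002d025001c601c501df04fa01c401a3019a01c201be01bd01bc01bb002b0163049a01bf016a01b701b901b3002a01b5081e079a0836017203d9023405be02e5030901800362002f02f4043903950315023304cb0724052303c6056405d2019b00b20197002108340571019301920020032204c1004d0177018f02af018c018b01f0018906920367018601ca0188027204540183018d04fb024004e20104022205cc00b10178054e034c041107db02b7017004f00194082a024c060c078a031601680167001703b7019907190539021c0160015f015e015d0016016105ef015b05e7040902db003b0284053200b8003502f501510158072307e803f5014c030c006604240148004f014a07d0072a03560296013f013e013d000f0350013c0114046f000b02fa02d6013a01ba02470133023f0784013002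04012e04980246012b0131082303e60127012601250501012c0120011f011e011d011c000a05450129077c03170118003401f90156078100ef0110010f010e010d010c000901190801011200df054d064305500105062402a801020665026b015500fe00fd00fc03f6067604af01aa010300f40008010005f700f200ff00f0014d043f00ed009d02d100ea077b00e800e700e400e300e200e100e0000700ee024500e6029e06ef00eb01230752073006b0074504b600d400d307fc00d100d000cd00b90647080200cf054804f6034100c500c40767036d00c3028b0096028901ab00be00c1058200bb00ba08040682051900b600b500b4019104100714062c00bf00ac00ab00aa000503d1046704b800bc025100a300a206bd038800a1025c0686009e0633009c071a02670099009f03b507ac009500940093077801d2027705d1008c008b008a008900880004009a0256007a025a04b20097009100810442007f06ae00ce024b019c03eb0079007802350076007500740241007d006f006e005f006c059807210069006800f5059e00670672059106420065057f0061006004d6005e0227005c005b005a05aa021d04d1021b0053083005c00052006304170051004c06740062004906bc036b0048016f014500450033004301650046057e003f003e0012071c01f5003a00390038001101ec01e801ea01c700320031005401d3002c01d801b801c0037e00290028016900260025001e03bf03800040058c001f018505b90623001b001a00190024015c004105880014014f01460001030802e1000e03b1040501210111075500e5033a05c3008d032e006d000d0000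
def msel2 (c : ℕ) : ℕ := mc2_0
def mc2 (v : ℕ) : ℕ := forceL (Nat.mod v 702) fun n => forceL (Nat.rec (motive := fun _ => ℕ) 0 (fun c _ => Nat.mod (Nat.shiftRight (msel2 c) (Nat.mul 16 (Nat.mod n 1024))) 65536) (Nat.add (Nat.div n 1024) 1)) fun e => Nat.add (Nat.mod e 702) (Nat.mul 702 (Nat.mod (Nat.add (Nat.div v 702) (Nat.div e 702)) 3))

def mc3_0 : ℕ := 0x2bd02b00774046d078e0454017201f30838031107110215020c028e018c042c02b107b70830026b080c010203e6071802a408340279046f020907f402a000dc024b01fd020701e1022d021f04ab01410542082f077b0681055006f20683028d02ba029300c1064500bf03760697038903c80155055c02810517038f0266054f01fb083206df05150787025e008f053d027106d004f0018207e3026f07ea026d026a040b00ff05320268029d00990540071a026502640263026007c10431025d027d009f063200840258027607f80086050f0402025407c900a501c8053501d70579016d007b0249024604890133012b00de0795069f02440072017d0131023706fa0740023a08290275064402360234007601ac01a106ec01f7035304c201fc022c082b022a07bd0228023e005c022401d506f808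27017a04a4021d021b046e0057016200550565029705da0214049e0506021305d2021104c6020f07c60429071c04bf0575051f020a03ee056c053003d1012e070c07ad056a03d703a6025f075f034f055d06230115065001f60805003a05ff028a05560674018901e8054304e000350382003301f9003402b901e505700216024e04d60754048d01c501d301dc073501da06a802c6002c01d6039601d401e2002e009004fa01ca01ce01cd01cc04a2079d0184039307aa003201c701c601c307cb01c00217002a01b801bf01be01bd01bc013401b5002b01b601de01b2039501b404fe06b507f702b5040104de022900be00f70624045d040c04e10329027e01c20803029402f9076c03580422007a019a01c10165036e019806fd04da016f0194019300b2028f018d04aa017f018b018a055701880183078a0185001d05fb01800514066901a801f1024701dd07bb072007be01eb0177018e0817076e07d1039901ae0541017100460567048e01db076b01b700260169016806c4004107e801ba04f1015c01610160015f015e0016015a07b105cb014f0781011400fe052e06f0062d015004b30012081200ee014b06d4014502a8014705870011004507d8081f07b5036003070140013f013e013b02300135077f067606c804b8020d03940132033b0129012f076301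2d05f50122012a04ce011a06a3012601250124079600d901d2000a01210120011f011e011d072907a2010b011704e504450549013a06250109000901110110010f010e010d02a6035c02aa071902a203750104017b00f60101059e00f300f000fd00fc00fb081103b706e2030a06120323006800f5058800f107e500ef011200df00ec082100da00e903be00e700e600dd000700e500e400e300e200e1010802a1028c0531054401ee07a7029c071f021e029a00d300d207ce00d000cf00ca007c00ce04bc038a061d07f6020603c4032100c600c500c2059d00bc05a500ae00bd076600a600ba00b900cd0153035a00b500b400b3051801990178036d063f077e05c400ad00ac00ab070203c102d907650288072300a400a300a002800097009d00eb009b07700087009806be008200c000940093009206b80081042a01d106f10004008d008c008b008a0089026207b40200025b0643025300800250007e024c0071058203b0008500780077022f00750074007304190243023d057f0070006f0002006d04170755006a0069006601490062070d0050004b0060005f006e005d0225005b005a0059069406e6071e0459034c002f00540051004e0437014606c6018f004d0725058b004a004702c30040004403100042046900150020003e003d02da06b3015600390038003706cd07210152011600430031003001df01a6031601c9002d01bb01b3002800270726002500240017058a032501970192001e002306d3032a001a0019001806b20167015d032200130666003c003602dd013d000d000102d20138011c010c00f400e0037900aa0088031f02fd00100000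
def msel3 (c : ℕ) : ℕ := mc3_0
def mc3 (v : ℕ) : ℕ := forceL (Nat.mod v 702) fun n => forceL (Nat.rec (motive := fun _ => ℕ) 0 (fun c _ => Nat.mod (Nat.shiftRight (msel3 c) (Nat.mul 16 (Nat.mod n 1024))) 65536) (Nat.add (Nat.div n 1024) 1)) fun e => Nat.add (Nat.mod e 702) (Nat.mul 702 (Nat.mod (Nat.add (Nat.div v 702) (Nat.div e 702)) 3))

def mc4_0 : ℕ := 0x26e0280022a01bd020d023001b4075a053f0169015b073406f10156079a0211079f056c020b069b00fe073200f10484073a026d07e5068b0757075600e4029d0535026b04e9051900d204b402960649029400c400be03d5024a00b6029904f9014800ab053700a9067507fb00a4073c06f7028f00ba04e704b5081d00f7009c07250090027a0727074002a80112041707710139067f0648037f0713066c0563025004a606ff074806cb01bc0176009b03ef04cd0653052503520391015f0247079c04050432040a035f040700830647008e03dc0839029a008000f806a10494007f0110050c01180545063c011d07d40244007c034d008407cd0085023e0071055c015d017704e30238006f028b01dd006e05260232006a0069063504f301140219028305de07b3025602a90239041c06ab01b502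5f065d00e30259005e06ac0275074c01f1021002660365073300540355024300ad04e504db01e9014a025701860224019a07b2006c02070055004a05530203004806bc014108300042004101fc01fb00400826003d01f30070064a025504b7003c003906f4036e01e601ed003502700145067d041107700301042607f0013f03f4003101e0003000e9032106f8037a01e303ac002f057307e001fd04df02780654039a03b001dc013a042400ca0037070900fb0200029b07670488045605cb02a606a901d806cc00f60307019b05ee04b607b8041200bb02bc071902860228061c01cf002901af01ae01ad01ac0028040400f4025e00af002701a5002c056d01a201a101a0019f019e019c0480002206d801990372077d047d01610033082d07c503150190001f06260497031b065e028d018904d1029700b706d605e70181003806b7001c010c01ee03a803c7017906a00019020e068300780800002d04a5036302e20231004605c9016d016c016b016a00180204001b0550066100ac01630162001603df066901b300fd044c03250602004e074f01b1034706970440044501150288068002bb0479014d0011031902f201950776035300eb047f048b0272069503e7004506080747068a010a0335030e02b801350590076007bc048705d502cc0346022c021605b705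6e01c5063e021203ba04eb0126035004d802b602d0019103c0046e005a05c006fa029103560285068f04380548011606310464013c0106029301aa007d06b90547049503f603e904540415024f039d07d007f204d207a2027b023a0657043e05e1081407e100fa06160836056100f307dd07de075e06b30171074307c807bd07af008704c003cf04c300e8030506e1074d061b074a050607d6051106af0234059604fb069603da050301ff02d3012c00c7018a00d5037d00d10100069e042d0818013407f9064b073601b904650066074405dd074e027c054c05700521022e00c9066b04d900810397030a061f039b032b051e06e000b2075b04d5015200a603c906bf051a081b050006c00835069c052f071f07070021070e044304fd058f03e800c6009605dc03c306aa00f5068904e0044a06240829009105100392036c0082052d04c80531001d0828035103320394050b0833001e017d069f04b0036f06ca0540007504bc0663007a0493007604250314003f06dc021c05ba064c040f070b0215027e04d6024b031d05cd04dd00c507ab00ff01b20704033904a80462034801f00750070f049f0058035b0589016e004b066200520571035c043004ca01ec034b03c600a205620785001004ad05b6005c0322039e00680311081c037b03f0018404c4014206ef05ef008b003607e802ab062f002006d40079051b0565014b01550025076104c6002a081e0026061500de0634052806ec0452054e07240668013e002302ec03e6063f00170398017f073f07c205fa0644028c05a706a3000f02f0000b000a0009000800070006000500040003000200010000000c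
def msel4 (c : ℕ) : ℕ := mc4_0
def mc4 (v : ℕ) : ℕ := forceL (Nat.mod v 702) fun n => forceL (Nat.rec (motive := fun _ => ℕ) 0 (fun c _ => Nat.mod (Nat.shiftRight (msel4 c) (Nat.mul 16 (Nat.mod n 1024))) 65536) (Nat.add (Nat.div n 1024) 1)) fun e => Nat.add (Nat.mod e 702) (Nat.mul 702 (Nat.mod (Nat.add (Nat.div v 702) (Nat.div e 702)) 3))

def mc5_0 : ℕ := 0x51101b7015003b70366013a03420125075404be05ce063d045206aa0720082803510347003504b80228027805ab01c307ea05c6067402e6053e02fe036907b9029e038c01c80252028f03bb0188029707810295011206e3011d059c0284063e018b001102370694068a015207c501b5011b0434022c05f9083102bc0546006c038a00c30102027b080701d4081903c3021d04a306070144062201ec060902bd02a402f4029c059f056107b007de021903ba0495063c03b303b40631022301a905ac0628081603a002200504020e022901f503c4065d060d04ff026d010807c7060103ae006a02910451065f025e02d2065602450214062603ad03f4061c023f06590478080a01010227023904e804c807ab00df03ac0233017102b8032300bf06a50131081702bb07fe01b4078e03c107b6020c05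6b06120751051b05e3056d078d0072063806a2022d05e7062d0130006d06800705012b02ae021a07e0017902b905cb02ab0608030705a6020805b80666016902040668045601c900d905f701d601fd01fc04070770073707fd0814053304a601f805fc021b005d05c3017f01ee004e048505dc021007e806f001ef02e903f501db03b205d601e103700574023601d0055f055e070a01c1068907ca05f4031a0417038203a404da01b203a206c1052803fd074206b1038403af0822012d053702d3071906c205440713056302ba026806cb038800c9057004d50566022402b7015f00630158069d01b001af01ae01ad05380111053b02dd0644069101a605db036301a301a201a101a0019f0474019e01bd020b019a0741052e0686014a059d0319036001230191032c06d904890611036200d5018a032006d0020d061d003d052906d10184067b001603dc0082049b05430695017c04af023b0267056f07d702f805cc00f202e0064b0056016e016d016c016b02b4076205f2074a03a503720164016301960331025f07a2023c045902b3044407f202f0068502b0002d0735076500b005eb047e0527033c014e07d6002e020f07d4028d07d8072701eb0367036b003b020104c001e4001d03cd0114044001cf0274068803b1075f013900cd039e05ba07e104dc04e303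57048000d70687061a06be059602cd0128050d0439033f038e06dd0365056807d0024706570414039a0401024a080e01170153022e03d802770667024c056003fc03550180062a013d06f905c8043601130616040f0531069e04a800d1006402a9015e06a601ca00fb05470250027f01bf009801aa00f7074d02a7052d037b0756041e02dc014706fa01df00e9033803120424029f0221044a04e005bf068300250633074e03be0593063604910521060200d4060c07dc029900d2032e038904b405540530051401cd00be02d000d6009d0066029402d703ea07ed0506064f029305bb075801b8028304ee02e20187029003d4071502f200b305fb076c01a8060b02130165028c044d028a0352079400af06ef02870376004b07d5047103a305cd05d4027e026603b802e406980791009c06c407dd060406a30092027c07bf025505c903fe003805da06d306ae00ed0419024002420257008e00bb0251024d02d10110024405dd00790031017706b80077007c060302f7047a023e01f70238023506320209044302320231004206d800c703bc05c0075a04e90383035905e5021f0709004506c8012003f20059070e05f10207021605bd0053032606b70482015a042d063500550206073a020306640170014103dd076301ff01fe01fb0074032f01f901f303ed030401f2018301cc003701ed06c70195058901e201e001d90597017501a502ce002901b101ac01a70027002c06ee001c019c00a3003301900083008a01810168039c017a016a00180162065403f6035d06a0014d0048000e06af03150000000c000b000a000900080007000600050004000300020001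
def msel5 (c : ℕ) : ℕ := mc5_0
def mc5 (v : ℕ) : ℕ := forceL (Nat.mod v 702) fun n => forceL (Nat.rec (motive := fun _ => ℕ) 0 (fun c _ => Nat.mod (Nat.shiftRight (msel5 c) (Nat.mul 16 (Nat.mod n 1024))) 65536) (Nat.add (Nat.div n 1024) 1)) fun e => Nat.add (Nat.mod e 702) (Nat.mul 702 (Nat.mod (Nat.add (Nat.div v 702) (Nat.div e 702)) 3))

def mT (x v : ℕ) : ℕ := (Bool.rec (motive := fun _ => ℕ) (Bool.rec (motive := fun _ => ℕ) (mc0 v) (Bool.rec (motive := fun _ => ℕ) (mc1 v) (mc2 v) (Nat.ble 2 x)) (Nat.ble 1 x)) (Bool.rec (motive := fun _ => ℕ) (mc3 v) (Bool.rec (motive := fun _ => ℕ) (mc4 v) (mc5 v) (Nat.ble 5 x)) (Nat.ble 4 x)) (Nat.ble 3 x))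

def RL_0 : List ℕ := [0, 1]
def RL_1 : List ℕ := [1, 0]
def RL_2 : List ℕ := [0, 0, 0, 0, 0, 0, 0]
def RL_3 : List ℕ := [2, 3]
def RL_4 : List ℕ := [3, 2]
def RL_5 : List ℕ := [2, 2, 2, 2, 2, 2, 2]
def RL_6 : List ℕ := [4, 5]
def RL_7 : List ℕ := [5, 4]
def RL_8 : List ℕ := [4, 4, 4, 4, 4, 4, 4, 4, 4, 4, 4, 4, 4]
def RL_9 : List ℕ := [1, 1, 1, 3, 3, 3, 4, 3, 3, 5, 1, 4, 3, 0, 2, 5, 0, 4, 2, 2, 5, 2, 2, 2, 0, 0, 0, 1]
def RL_10 : List ℕ := [1, 1, 1, 3, 3, 3, 4, 3, 3, 5, 1, 4, 3, 2, 2, 5, 0, 4, 2, 2, 5, 2, 2, 2, 0, 0, 0, 3]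
def RL_11 : List ℕ := [1, 1, 1, 3, 3, 3, 4, 3, 3, 5, 1, 4, 3, 4, 2, 5, 0, 4, 2, 2, 5, 2, 2, 2, 0, 0, 0, 5]
def RL_12 : List ℕ := [1, 1, 1, 3, 3, 4, 2, 1, 1, 1, 3, 3, 4, 2, 0, 3, 5, 2, 2, 0, 0, 0, 3, 5, 2, 2, 0, 0, 0, 1]
def RL_13 : List ℕ := [1, 1, 1, 3, 3, 4, 2, 1, 1, 1, 3, 3, 4, 2, 2, 3, 5, 2, 2, 0, 0, 0, 3, 5, 2, 2, 0, 0, 0, 3]
def RL_14 : List ℕ := [1, 1, 1, 3, 3, 4, 2, 1, 1, 1, 3, 3, 4, 2, 4, 3, 5, 2, 2, 0, 0, 0, 3, 5, 2, 2, 0, 0, 0, 5]
def RL_15 : List ℕ := [0, 4, 1, 1, 1, 4, 3, 3, 3, 0, 0, 0, 3, 3, 3, 5, 0, 4, 2, 2, 2, 1, 1, 1, 2, 2, 2, 5, 0, 0, 0, 5, 1, 1]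
def RL_16 : List ℕ := [0, 4, 1, 1, 1, 4, 3, 3, 3, 0, 0, 0, 3, 3, 3, 5, 2, 4, 2, 2, 2, 1, 1, 1, 2, 2, 2, 5, 0, 0, 0, 5, 1, 3]
def RL_17 : List ℕ := [0, 4, 1, 1, 1, 4, 3, 3, 3, 0, 0, 0, 3, 3, 3, 5, 4, 4, 2, 2, 2, 1, 1, 1, 2, 2, 2, 5, 0, 0, 0, 5, 1, 5]
def RL_18 : List ℕ := [0, 3, 0, 3, 0, 3, 0, 2, 1, 2, 1, 2, 1, 1]
def RL_19 : List ℕ := [0, 3, 0, 3, 0, 3, 2, 2, 1, 2, 1, 2, 1, 3]
def RL_20 : List ℕ := [0, 3, 0, 3, 0, 3, 4, 2, 1, 2, 1, 2, 1, 5]
def RL_21 : List ℕ := [1, 3, 1, 3, 1, 3, 1, 3, 0, 2, 0, 2, 0, 2, 0, 2, 0, 1]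
def RL_22 : List ℕ := [1, 3, 1, 3, 1, 3, 1, 3, 2, 2, 0, 2, 0, 2, 0, 2, 0, 3]
def RL_23 : List ℕ := [1, 3, 1, 3, 1, 3, 1, 3, 4, 2, 0, 2, 0, 2, 0, 2, 0, 5]
def RL_24 : List ℕ := [0, 3, 3, 1, 3, 1, 2, 2, 0, 0, 2, 2, 0, 3, 3, 1, 1, 3, 3, 0, 2, 0, 2, 2, 1, 1]
def RL_25 : List ℕ := [0, 3, 3, 1, 3, 1, 2, 2, 0, 0, 2, 2, 2, 3, 3, 1, 1, 3, 3, 0, 2, 0, 2, 2, 1, 3]
def RL_26 : List ℕ := [0, 3, 3, 1, 3, 1, 2, 2, 0, 0, 2, 2, 4, 3, 3, 1, 1, 3, 3, 0, 2, 0, 2, 2, 1, 5]
def RL_27 : List ℕ := [1, 1, 1, 3, 3, 3, 4, 3, 3, 5, 1, 4, 3, 1, 1, 1, 3, 3, 3, 4, 3, 3, 5, 1, 4, 3, 1, 1, 1, 3, 3, 3, 4, 3, 3, 5, 1, 4, 3, 1, 1, 1, 3, 3, 3, 4, 3, 3, 5, 1, 4, 3, 1, 1, 1, 3, 3, 3, 4, 3, 3, 5, 1, 4, 3, 1, 1, 1, 3, 3, 3, 4, 3, 3, 5, 1, 4, 3, 1, 1, 1, 3, 3, 3, 4, 3, 3, 5, 1, 4, 3, 1, 1, 1, 3, 3, 3, 4, 3, 3, 5, 1, 4, 3, 1, 1, 1, 3, 3, 3, 4, 3, 3, 5, 1, 4, 3, 1, 1, 1, 3, 3, 3, 4, 3, 3, 5, 1, 4, 3, 1, 1, 1, 3, 3, 3, 4, 3, 3, 5, 1, 4, 3, 1, 1, 1, 3, 3, 3, 4, 3, 3, 5, 1, 4, 3, 1, 1, 1, 3, 3, 3, 4, 3, 3, 5, 1,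 4, 3, 1, 1, 1, 3, 3, 3, 4, 3, 3, 5, 1, 4, 3, 1, 1, 1, 3, 3, 3, 4, 3, 3, 5, 1, 4, 3, 1, 1, 1, 3, 3, 3, 4, 3, 3, 5, 1, 4, 3, 1, 1, 1, 3, 3, 3, 4, 3, 3, 5, 1, 4, 3, 1, 1, 1, 3, 3, 3, 4, 3, 3, 5, 1, 4, 3, 1, 1, 1, 3, 3, 3, 4, 3, 3, 5, 1, 4, 3, 1, 1, 1, 3, 3, 3, 4, 3, 3, 5, 1, 4, 3, 1, 1, 1, 3, 3, 3, 4, 3, 3, 5, 1, 4, 3, 1, 1, 1, 3, 3, 3, 4, 3, 3, 5, 1, 4, 3, 1, 1, 1, 3, 3, 3, 4, 3, 3, 5, 1, 4, 3, 1, 1, 1, 3, 3, 3, 4, 3, 3, 5, 1, 4, 3, 1, 1, 1, 3, 3, 3, 4, 3, 3, 5, 1, 4, 3, 1, 1, 1, 3, 3, 3, 4, 3, 3, 5, 1, 4, 3, 1, 1, 1, 3, 3, 3, 4, 3, 3, 5, 1, 4, 3, 1, 1, 1, 3, 3, 3, 4, 3, 3, 5, 1, 4, 3, 1, 1, 1, 3, 3, 3, 4, 3, 3, 5, 1, 4, 3, 1, 1, 1, 3, 3, 3, 4, 3, 3, 5, 1, 4, 3, 1, 1, 1, 3, 3, 3, 4, 3, 3, 5, 1, 4, 3, 1, 1, 1, 3, 3, 3, 4, 3, 3, 5, 1, 4, 3, 1, 1, 1, 3, 3, 3, 4, 3, 3, 5, 1, 4, 3, 1, 1, 1, 3, 3, 3, 4, 3, 3, 5, 1, 4, 3, 1, 1, 1, 3, 3, 3, 4, 3, 3, 5, 1, 4, 3, 1, 1, 1, 3, 3, 3, 4, 3, 3, 5, 1, 4, 3]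
def RL_28 : List ℕ := [1, 1, 1, 3, 3, 4, 2, 1, 1, 1, 3, 3, 4, 2, 1, 1, 1, 3, 3, 4, 2, 1, 1, 1, 3, 3, 4, 2, 1, 1, 1, 3, 3, 4, 2, 1, 1, 1, 3, 3, 4, 2, 1, 1, 1, 3, 3, 4, 2, 1, 1, 1, 3, 3, 4, 2, 1, 1, 1, 3, 3, 4, 2, 1, 1, 1, 3, 3, 4, 2, 1, 1, 1, 3, 3, 4, 2, 1, 1, 1, 3, 3, 4, 2, 1, 1, 1, 3, 3, 4, 2, 1, 1, 1, 3, 3, 4, 2, 1, 1, 1, 3, 3, 4, 2, 1, 1, 1, 3, 3, 4, 2, 1, 1, 1, 3, 3, 4, 2, 1, 1, 1, 3, 3, 4, 2, 1, 1, 1, 3, 3, 4, 2, 1, 1, 1, 3, 3, 4, 2, 1, 1, 1, 3, 3, 4, 2, 1, 1, 1, 3, 3, 4, 2, 1, 1, 1, 3, 3, 4, 2, 1, 1, 1, 3, 3, 4, 2, 1, 1, 1, 3, 3, 4, 2, 1, 1, 1, 3, 3, 4, 2, 1, 1, 1, 3, 3, 4, 2, 1, 1, 1, 3, 3, 4, 2, 1, 1, 1, 3, 3, 4, 2, 1, 1, 1, 3, 3, 4, 2, 1, 1, 1, 3, 3, 4, 2, 1, 1, 1, 3, 3, 4, 2, 1, 1, 1, 3, 3, 4, 2, 1, 1, 1, 3, 3, 4, 2, 1, 1, 1, 3, 3, 4, 2, 1, 1, 1, 3, 3, 4, 2, 1, 1, 1, 3, 3, 4, 2, 1, 1, 1, 3, 3, 4, 2, 1, 1, 1, 3, 3, 4, 2, 1, 1, 1, 3, 3, 4, 2, 1, 1, 1, 3, 3, 4, 2, 1, 1, 1, 3, 3, 4, 2, 1, 1, 1, 3, 3, 4, 2, 1, 1, 1, 3, 3, 4, 2, 1, 1, 1, 3, 3, 4, 2, 1, 1, 1, 3,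 3, 4, 2, 1, 1, 1, 3, 3, 4, 2, 1, 1, 1, 3, 3, 4, 2, 1, 1, 1, 3, 3, 4, 2, 1, 1, 1, 3, 3, 4, 2, 1, 1, 1, 3, 3, 4, 2, 1, 1, 1, 3, 3, 4, 2, 1, 1, 1, 3, 3, 4, 2, 1, 1, 1, 3, 3, 4, 2, 1, 1, 1, 3, 3, 4, 2, 1, 1, 1, 3, 3, 4, 2, 1, 1, 1, 3, 3, 4, 2, 1, 1, 1, 3, 3, 4, 2, 1, 1, 1, 3, 3, 4, 2, 1, 1, 1, 3, 3, 4, 2, 1, 1, 1, 3, 3, 4, 2, 1, 1, 1, 3, 3, 4, 2, 1, 1, 1, 3, 3, 4, 2, 1, 1, 1, 3, 3, 4, 2, 1, 1, 1, 3, 3, 4, 2, 1, 1, 1, 3, 3, 4, 2, 1, 1, 1, 3, 3, 4, 2, 1, 1, 1, 3, 3, 4, 2, 1, 1, 1, 3, 3, 4, 2, 1, 1, 1, 3, 3, 4, 2, 1, 1, 1, 3, 3, 4, 2, 1, 1, 1, 3, 3, 4, 2]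
def RL_29 : List ℕ := [0, 4, 1, 1, 1, 4, 3, 3, 3, 0, 0, 0, 3, 3, 3, 5, 0, 4, 1, 1, 1, 4, 3, 3, 3, 0, 0, 0, 3, 3, 3, 5, 0, 4, 1, 1, 1, 4, 3, 3, 3, 0, 0, 0, 3, 3, 3, 5, 0, 4, 1, 1, 1, 4, 3, 3, 3, 0, 0, 0, 3, 3, 3, 5, 0, 4, 1, 1, 1, 4, 3, 3, 3, 0, 0, 0, 3, 3, 3, 5, 0, 4, 1, 1, 1, 4, 3, 3, 3, 0, 0, 0, 3, 3, 3, 5, 0, 4, 1, 1, 1, 4, 3, 3, 3, 0, 0, 0, 3, 3, 3, 5, 0, 4, 1, 1, 1, 4, 3, 3, 3, 0, 0, 0, 3, 3, 3, 5, 0, 4, 1, 1, 1, 4, 3, 3, 3, 0, 0, 0, 3, 3, 3, 5, 0, 4, 1, 1, 1, 4, 3, 3, 3, 0, 0, 0, 3, 3, 3, 5, 0, 4, 1, 1, 1, 4, 3, 3, 3, 0, 0, 0, 3, 3, 3, 5, 0, 4, 1, 1, 1, 4, 3, 3, 3, 0, 0, 0, 3, 3, 3, 5, 0, 4, 1, 1, 1, 4, 3, 3, 3, 0, 0, 0, 3, 3, 3, 5, 0, 4, 1, 1, 1, 4, 3, 3, 3, 0, 0, 0, 3, 3, 3, 5, 0, 4, 1, 1, 1, 4, 3, 3, 3, 0, 0, 0, 3, 3, 3, 5, 0, 4, 1, 1, 1, 4, 3, 3, 3, 0, 0, 0, 3, 3, 3, 5, 0, 4, 1, 1, 1, 4, 3, 3, 3, 0, 0, 0, 3, 3, 3, 5, 0, 4, 1, 1, 1, 4, 3, 3, 3, 0, 0, 0, 3, 3, 3, 5, 0, 4, 1, 1, 1, 4, 3, 3, 3, 0, 0, 0, 3, 3, 3, 5, 0, 4, 1, 1, 1, 4, 3, 3, 3, 0, 0, 0, 3, 3, 3,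 5, 0, 4, 1, 1, 1, 4, 3, 3, 3, 0, 0, 0, 3, 3, 3, 5, 0, 4, 1, 1, 1, 4, 3, 3, 3, 0, 0, 0, 3, 3, 3, 5, 0, 4, 1, 1, 1, 4, 3, 3, 3, 0, 0, 0, 3, 3, 3, 5, 0, 4, 1, 1, 1, 4, 3, 3, 3, 0, 0, 0, 3, 3, 3, 5, 0, 4, 1, 1, 1, 4, 3, 3, 3, 0, 0, 0, 3, 3, 3, 5, 0, 4, 1, 1, 1, 4, 3, 3, 3, 0, 0, 0, 3, 3, 3, 5, 0, 4, 1, 1, 1, 4, 3, 3, 3, 0, 0, 0, 3, 3, 3, 5, 0, 4, 1, 1, 1, 4, 3, 3, 3, 0, 0, 0, 3, 3, 3, 5, 0, 4, 1, 1, 1, 4, 3, 3, 3, 0, 0, 0, 3, 3, 3, 5, 0, 4, 1, 1, 1, 4, 3, 3, 3, 0, 0, 0, 3, 3, 3, 5, 0, 4, 1, 1, 1, 4, 3, 3, 3, 0, 0, 0, 3, 3, 3, 5, 0, 4, 1, 1, 1, 4, 3, 3, 3, 0, 0, 0, 3, 3, 3, 5, 0, 4, 1, 1, 1, 4, 3, 3, 3, 0, 0, 0, 3, 3, 3, 5, 0, 4, 1, 1, 1, 4, 3, 3, 3, 0, 0, 0, 3, 3, 3, 5, 0, 4, 1, 1, 1, 4, 3, 3, 3, 0, 0, 0, 3, 3, 3, 5, 0, 4, 1, 1, 1, 4, 3, 3, 3, 0, 0, 0, 3, 3, 3, 5]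
def RL_30 : List ℕ := [0, 3, 0, 3, 0, 3, 0, 3, 0, 3, 0, 3, 0, 3, 0, 3, 0, 3, 0, 3, 0, 3, 0, 3, 0, 3, 0, 3, 0, 3, 0, 3, 0, 3, 0, 3, 0, 3, 0, 3, 0, 3, 0, 3, 0, 3, 0, 3, 0, 3, 0, 3, 0, 3, 0, 3, 0, 3, 0, 3, 0, 3, 0, 3, 0, 3, 0, 3, 0, 3, 0, 3, 0, 3, 0, 3, 0, 3, 0, 3, 0, 3, 0, 3, 0, 3, 0, 3, 0, 3, 0, 3, 0, 3, 0, 3, 0, 3, 0, 3, 0, 3, 0, 3, 0, 3, 0, 3, 0, 3, 0, 3, 0, 3, 0, 3, 0, 3, 0, 3, 0, 3, 0, 3, 0, 3, 0, 3, 0, 3, 0, 3, 0, 3, 0, 3, 0, 3, 0, 3, 0, 3, 0, 3, 0, 3, 0, 3, 0, 3, 0, 3, 0, 3, 0, 3, 0, 3, 0, 3, 0, 3, 0, 3, 0, 3, 0, 3, 0, 3, 0, 3, 0, 3, 0, 3, 0, 3, 0, 3, 0, 3, 0, 3, 0, 3, 0, 3, 0, 3, 0, 3, 0, 3, 0, 3, 0, 3, 0, 3, 0, 3, 0, 3, 0, 3, 0, 3, 0, 3, 0, 3, 0, 3, 0, 3]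
def RL_31 : List ℕ := [1, 3, 1, 3, 1, 3, 1, 3, 1, 3, 1, 3, 1, 3, 1, 3, 1, 3, 1, 3, 1, 3, 1, 3, 1, 3, 1, 3, 1, 3, 1, 3, 1, 3, 1, 3, 1, 3, 1, 3, 1, 3, 1, 3, 1, 3, 1, 3, 1, 3, 1, 3, 1, 3, 1, 3, 1, 3, 1, 3, 1, 3, 1, 3, 1, 3, 1, 3, 1, 3, 1, 3, 1, 3, 1, 3, 1, 3, 1, 3, 1, 3, 1, 3, 1, 3, 1, 3, 1, 3, 1, 3, 1, 3, 1, 3, 1, 3, 1, 3, 1, 3, 1, 3, 1, 3, 1, 3, 1, 3, 1, 3, 1, 3, 1, 3, 1, 3, 1, 3, 1, 3, 1, 3, 1, 3, 1, 3, 1, 3, 1, 3, 1, 3, 1, 3, 1, 3, 1, 3, 1, 3, 1, 3, 1, 3, 1, 3, 1, 3, 1, 3, 1, 3, 1, 3, 1, 3, 1, 3, 1, 3, 1, 3, 1, 3, 1, 3, 1, 3, 1, 3, 1, 3, 1, 3, 1, 3, 1, 3, 1, 3, 1, 3, 1, 3, 1, 3, 1, 3, 1, 3, 1, 3, 1, 3, 1, 3, 1, 3, 1, 3, 1, 3, 1, 3, 1, 3, 1, 3, 1, 3, 1, 3, 1, 3, 1, 3, 1, 3, 1, 3, 1, 3, 1, 3, 1, 3, 1, 3, 1, 3, 1, 3, 1, 3, 1, 3, 1, 3, 1, 3, 1, 3, 1, 3, 1, 3, 1, 3, 1, 3, 1, 3, 1, 3, 1, 3, 1, 3, 1, 3, 1, 3, 1, 3, 1, 3, 1, 3, 1, 3, 1, 3, 1, 3, 1, 3, 1, 3, 1, 3, 1, 3, 1, 3, 1, 3]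
def RL_32 : List ℕ := [0, 3, 3, 1, 3, 1, 2, 2, 0, 0, 2, 2, 0, 3, 3, 1, 3, 1, 2, 2, 0, 0, 2, 2, 0, 3, 3, 1, 3, 1, 2, 2, 0, 0, 2, 2, 0, 3, 3, 1, 3, 1, 2, 2, 0, 0, 2, 2, 0, 3, 3, 1, 3, 1, 2, 2, 0, 0, 2, 2, 0, 3, 3, 1, 3, 1, 2, 2, 0, 0, 2, 2, 0, 3, 3, 1, 3, 1, 2, 2, 0, 0, 2, 2, 0, 3, 3, 1, 3, 1, 2, 2, 0, 0, 2, 2, 0, 3, 3, 1, 3, 1, 2, 2, 0, 0, 2, 2, 0, 3, 3, 1, 3, 1, 2, 2, 0, 0, 2, 2, 0, 3, 3, 1, 3, 1, 2, 2, 0, 0, 2, 2, 0, 3, 3, 1, 3, 1, 2, 2, 0, 0, 2, 2, 0, 3, 3, 1, 3, 1, 2, 2, 0, 0, 2, 2, 0, 3, 3, 1, 3, 1, 2, 2, 0, 0, 2, 2, 0, 3, 3, 1, 3, 1, 2, 2, 0, 0, 2, 2, 0, 3, 3, 1, 3, 1, 2, 2, 0, 0, 2, 2, 0, 3, 3, 1, 3, 1, 2, 2, 0, 0, 2, 2, 0, 3, 3, 1, 3, 1, 2, 2, 0, 0, 2, 2, 0, 3, 3, 1, 3, 1, 2, 2, 0, 0, 2, 2, 0, 3, 3, 1, 3, 1, 2, 2, 0, 0, 2, 2, 0, 3, 3, 1, 3, 1, 2, 2, 0, 0, 2, 2, 0, 3, 3, 1, 3, 1, 2, 2, 0, 0, 2, 2, 0, 3, 3, 1, 3, 1, 2, 2, 0, 0, 2, 2, 0, 3, 3, 1, 3, 1, 2, 2, 0, 0, 2, 2, 0, 3, 3, 1, 3, 1, 2, 2, 0, 0, 2, 2, 0, 3, 3, 1, 3, 1, 2, 2, 0, 0, 2, 2, 0, 3, 3, 1, 3, 1, 2,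 2, 0, 0, 2, 2, 0, 3, 3, 1, 3, 1, 2, 2, 0, 0, 2, 2, 0, 3, 3, 1, 3, 1, 2, 2, 0, 0, 2, 2, 0, 3, 3, 1, 3, 1, 2, 2, 0, 0, 2, 2, 0, 3, 3, 1, 3, 1, 2, 2, 0, 0, 2, 2, 0, 3, 3, 1, 3, 1, 2, 2, 0, 0, 2, 2, 0, 3, 3, 1, 3, 1, 2, 2, 0, 0, 2, 2, 0, 3, 3, 1, 3, 1, 2, 2, 0, 0, 2, 2, 0, 3, 3, 1, 3, 1, 2, 2, 0, 0, 2, 2, 0, 3, 3, 1, 3, 1, 2, 2, 0, 0, 2, 2]
def RL : List (List ℕ) := [RL_0, RL_1, RL_2, RL_3, RL_4, RL_5, RL_6, RL_7, RL_8, RL_9, RL_10, RL_11, RL_12, RL_13, RL_14, RL_15, RL_16, RL_17, RL_18, RL_19, RL_20, RL_21, RL_22, RL_23, RL_24, RL_25, RL_26, RL_27, RL_28, RL_29, RL_30, RL_31, RL_32]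

set_option maxRecDepth 1000000 in
def W_0 (v : ℕ) : ℕ := forceL (mc1 v) (fun a1 => forceL (mc0 a1) (fun a2 => a2))
set_option maxRecDepth 1000000 in
def W_1 (v : ℕ) : ℕ := forceL (mc0 v) (fun a1 => forceL (mc1 a1) (fun a2 => a2))
set_option maxRecDepth 1000000 in
def W_2 (v : ℕ) : ℕ := forceL (mc0 v) (fun a1 => forceL (mc0 a1) (fun a2 => forceL (mc0 a2) (fun a3 => forceL (mc0 a3) (fun a4 => forceL (mc0 a4) (fun a5 => forceL (mc0 a5) (fun a6 => forceL (mc0 a6) (fun a7 => a7)))))))
set_option maxRecDepth 1000000 in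
def W_3 (v : ℕ) : ℕ := forceL (mc3 v) (fun a1 => forceL (mc2 a1) (fun a2 => a2))
set_option maxRecDepth 1000000 in
def W_4 (v : ℕ) : ℕ := forceL (mc2 v) (fun a1 => forceL (mc3 a1) (fun a2 => a2))
set_option maxRecDepth 1000000 in
def W_5 (v : ℕ) : ℕ := forceL (mc2 v) (fun a1 => forceL (mc2 a1) (fun a2 => forceL (mc2 a2) (fun a3 => forceL (mc2 a3) (fun a4 => forceL (mc2 a4) (fun a5 => forceL (mc2 a5) (fun a6 => forceL (mc2 a6) (fun a7 => a7)))))))
set_option maxRecDepth 1000000 in
def W_6 (v : ℕ) : ℕ := forceL (mc5 v) (fun a1 => forceL (mc4 a1) (fun a2 => a2))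
set_option maxRecDepth 1000000 in
def W_7 (v : ℕ) : ℕ := forceL (mc4 v) (fun a1 => forceL (mc5 a1) (fun a2 => a2))
set_option maxRecDepth 1000000 in
def W_8 (v : ℕ) : ℕ := forceL (mc4 v) (fun a1 => forceL (mc4 a1) (fun a2 => forceL (mc4 a2) (fun a3 => forceL (mc4 a3) (fun a4 => forceL (mc4 a4) (fun a5 => forceL (mc4 a5) (fun a6 => forceL (mc4 a6) (fun a7 => forceL (mc4 a7) (fun a8 => forceL (mc4 a8) (fun a9 => forceL (mc4 a9) (fun a10 => forceL (mc4 a10) (fun a11 => forceL (mc4 a11) (fun a12 => forceL (mc4 a12) (fun a13 => a13)))))))))))))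
set_option maxRecDepth 1000000 in
def W_9 (v : ℕ) : ℕ := forceL (mc1 v) (fun a1 => forceL (mc0 a1) (fun a2 => forceL (mc0 a2) (fun a3 => forceL (mc0 a3) (fun a4 => forceL (mc2 a4) (fun a5 => forceL (mc2 a5) (fun a6 => forceL (mc2 a6) (fun a7 => forceL (mc5 a7) (fun a8 => forceL (mc2 a8) (fun a9 => forceL (mc2 a9) (fun a10 => forceL (mc4 a10) (fun a11 => forceL (mc0 a11) (fun a12 => forceL (mc5 a12) (fun a13 => forceL (mc2 a13) (fun a14 => forceL (mc0 a14) (fun a15 => forceL (mc3 a15) (fun a16 => forceL (mc4 a16) (fun a17 => forceL (mc1 a17) (fun a18 => forceL (mc5 a18) (fun a19 => forceL (mc3 a19) (fun a20 => forceL (mc3 a20) (fun a21 => forceL (mc4 a21) (fun a22 => forceL (mc3 a22) (fun a23 => forceL (mc3 a23) (fun a24 => forceL (mc3 a24) (fun a25 => forceL (mc1 a25) (fun a26 => forceL (mc1 a26) (fun a27 => forceL (mc1 a27) (fun a28 => a28))))))))))))))))))))))))))))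
set_option maxRecDepth 1000000 in
def W_10 (v : ℕ) : ℕ := forceL (mc3 v) (fun a1 => forceL (mc0 a1) (fun a2 => forceL (mc0 a2) (fun a3 => forceL (mc0 a3) (fun a4 => forceL (mc2 a4) (fun a5 => forceL (mc2 a5) (fun a6 => forceL (mc2 a6) (fun a7 => forceL (mc5 a7) (fun a8 => forceL (mc2 a8) (fun a9 => forceL (mc2 a9) (fun a10 => forceL (mc4 a10) (fun a11 => forceL (mc0 a11) (fun a12 => forceL (mc5 a12) (fun a13 => forceL (mc2 a13) (fun a14 => forceL (mc2 a14) (fun a15 => forceL (mc3 a15) (fun a16 => forceL (mc4 a16) (fun a17 => forceL (mc1 a17) (fun a18 => forceL (mc5 a18) (fun a19 => forceL (mc3 a19) (fun a20 => forceL (mc3 a20) (fun a21 => forceL (mc4 a21) (fun a22 => forceL (mc3 a22) (fun a23 => forceL (mc3 a23) (fun a24 => forceL (mc3 a24) (fun a25 => forceL (mc1 a25) (fun a26 => forceL (mc1 a26) (fun a27 => forceL (mc1 a27) (fun a28 => a28))))))))))))))))))))))))))))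
set_option maxRecDepth 1000000 in
def W_11 (v : ℕ) : ℕ := forceL (mc5 v) (fun a1 => forceL (mc0 a1) (fun a2 => forceL (mc0 a2) (fun a3 => forceL (mc0 a3) (fun a4 => forceL (mc2 a4) (fun a5 => forceL (mc2 a5) (fun a6 => forceL (mc2 a6) (fun a7 => forceL (mc5 a7) (fun a8 => forceL (mc2 a8) (fun a9 => forceL (mc2 a9) (fun a10 => forceL (mc4 a10) (fun a11 => forceL (mc0 a11) (fun a12 => forceL (mc5 a12) (fun a13 => forceL (mc2 a13) (fun a14 => forceL (mc4 a14) (fun a15 => forceL (mc3 a15) (fun a16 => forceL (mc4 a16) (fun a17 => forceL (mc1 a17) (fun a18 => forceL (mc5 a18) (fun a19 => forceL (mc3 a19) (fun a20 => forceL (mc3 a20) (fun a21 => forceL (mc4 a21) (fun a22 => forceL (mc3 a22) (fun a23 => forceL (mc3 a23) (fun a24 => forceL (mc3 a24) (fun a25 => forceL (mc1 a25) (fun a26 => forceL (mc1 a26) (fun a27 => forceL (mc1 a27) (fun a28 => a28))))))))))))))))))))))))))))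
set_option maxRecDepth 1000000 in
def W_12 (v : ℕ) : ℕ := forceL (mc1 v) (fun a1 => forceL (mc0 a1) (fun a2 => forceL (mc0 a2) (fun a3 => forceL (mc0 a3) (fun a4 => forceL (mc2 a4) (fun a5 => forceL (mc2 a5) (fun a6 => forceL (mc5 a6) (fun a7 => forceL (mc3 a7) (fun a8 => forceL (mc0 a8) (fun a9 => forceL (mc0 a9) (fun a10 => forceL (mc0 a10) (fun a11 => forceL (mc2 a11) (fun a12 => forceL (mc2 a12) (fun a13 => forceL (mc5 a13) (fun a14 => forceL (mc3 a14) (fun a15 => forceL (mc0 a15) (fun a16 => forceL (mc2 a16) (fun a17 => forceL (mc4 a17) (fun a18 => forceL (mc3 a18) (fun a19 => forceL (mc3 a19) (fun a20 => forceL (mc1 a20) (fun a21 => forceL (mc1 a21) (fun a22 => forceL (mc1 a22) (fun a23 => forceL (mc2 a23) (fun a24 => forceL (mc4 a24) (fun a25 => forceL (mc3 a25) (fun a26 => forceL (mc3 a26) (fun a27 => forceL (mc1 a27) (fun a28 => forceL (mc1 a28) (fun a29 => forceL (mc1 a29) (fun a30 => a30))))))))))))))))))))))))))))))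
set_option maxRecDepth 1000000 in
def W_13 (v : ℕ) : ℕ := forceL (mc3 v) (fun a1 => forceL (mc0 a1) (fun a2 => forceL (mc0 a2) (fun a3 => forceL (mc0 a3) (fun a4 => forceL (mc2 a4) (fun a5 => forceL (mc2 a5) (fun a6 => forceL (mc5 a6) (fun a7 => forceL (mc3 a7) (fun a8 => forceL (mc0 a8) (fun a9 => forceL (mc0 a9) (fun a10 => forceL (mc0 a10) (fun a11 => forceL (mc2 a11) (fun a12 => forceL (mc2 a12) (fun a13 => forceL (mc5 a13) (fun a14 => forceL (mc3 a14) (fun a15 => forceL (mc2 a15) (fun a16 => forceL (mc2 a16) (fun a17 => forceL (mc4 a17) (fun a18 => forceL (mc3 a18) (fun a19 => forceL (mc3 a19) (fun a20 => forceL (mc1 a20) (fun a21 => forceL (mc1 a21) (fun a22 => forceL (mc1 a22) (fun a23 => forceL (mc2 a23) (fun a24 => forceL (mc4 a24) (fun a25 => forceL (mc3 a25) (fun a26 => forceL (mc3 a26) (fun a27 => forceL (mc1 a27) (fun a28 => forceL (mc1 a28) (fun a29 => forceL (mc1 a29) (fun a30 => a30))))))))))))))))))))))))))))))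
set_option maxRecDepth 1000000 in
def W_14 (v : ℕ) : ℕ := forceL (mc5 v) (fun a1 => forceL (mc0 a1) (fun a2 => forceL (mc0 a2) (fun a3 => forceL (mc0 a3) (fun a4 => forceL (mc2 a4) (fun a5 => forceL (mc2 a5) (fun a6 => forceL (mc5 a6) (fun a7 => forceL (mc3 a7) (fun a8 => forceL (mc0 a8) (fun a9 => forceL (mc0 a9) (fun a10 => forceL (mc0 a10) (fun a11 => forceL (mc2 a11) (fun a12 => forceL (mc2 a12) (fun a13 => forceL (mc5 a13) (fun a14 => forceL (mc3 a14) (fun a15 => forceL (mc4 a15) (fun a16 => forceL (mc2 a16) (fun a17 => forceL (mc4 a17) (fun a18 => forceL (mc3 a18) (fun a19 => forceL (mc3 a19) (fun a20 => forceL (mc1 a20) (fun a21 => forceL (mc1 a21) (fun a22 => forceL (mc1 a22) (fun a23 => forceL (mc2 a23) (fun a24 => forceL (mc4 a24) (fun a25 => forceL (mc3 a25) (fun a26 => forceL (mc3 a26) (fun a27 => forceL (mc1 a27) (fun a28 => forceL (mc1 a28) (fun a29 => forceL (mc1 a29) (fun a30 => a30))))))))))))))))))))))))))))))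
set_option maxRecDepth 1000000 in
def W_15 (v : ℕ) : ℕ := forceL (mc1 v) (fun a1 => forceL (mc1 a1) (fun a2 => forceL (mc5 a2) (fun a3 => forceL (mc0 a3) (fun a4 => forceL (mc0 a4) (fun a5 => forceL (mc0 a5) (fun a6 => forceL (mc5 a6) (fun a7 => forceL (mc2 a7) (fun a8 => forceL (mc2 a8) (fun a9 => forceL (mc2 a9) (fun a10 => forceL (mc1 a10) (fun a11 => forceL (mc1 a11) (fun a12 => forceL (mc1 a12) (fun a13 => forceL (mc2 a13) (fun a14 => forceL (mc2 a14) (fun a15 => forceL (mc2 a15) (fun a16 => forceL (mc4 a16) (fun a17 => forceL (mc0 a17) (fun a18 => forceL (mc5 a18) (fun a19 => forceL (mc3 a19) (fun a20 => forceL (mc3 a20) (fun a21 => forceL (mc3 a21) (fun a22 => forceL (mc0 a22) (fun a23 => forceL (mc0 a23) (fun a24 => forceL (mc0 a24) (fun a25 => forceL (mc3 a25) (fun a26 => forceL (mc3 a26) (fun a27 => forceL (mc3 a27) (fun a28 => forceL (mc4 a28) (fun a29 => forceL (mc1 a29) (fun a30 => forceL (mc1 a30) (fun a31 => forceL (mc1 a31) (fun a32 => forceL (mc4 a32)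 (fun a33 => forceL (mc0 a33) (fun a34 => a34))))))))))))))))))))))))))))))))))
set_option maxRecDepth 1000000 in
def W_16 (v : ℕ) : ℕ := forceL (mc3 v) (fun a1 => forceL (mc1 a1) (fun a2 => forceL (mc5 a2) (fun a3 => forceL (mc0 a3) (fun a4 => forceL (mc0 a4) (fun a5 => forceL (mc0 a5) (fun a6 => forceL (mc5 a6) (fun a7 => forceL (mc2 a7) (fun a8 => forceL (mc2 a8) (fun a9 => forceL (mc2 a9) (fun a10 => forceL (mc1 a10) (fun a11 => forceL (mc1 a11) (fun a12 => forceL (mc1 a12) (fun a13 => forceL (mc2 a13) (fun a14 => forceL (mc2 a14) (fun a15 => forceL (mc2 a15) (fun a16 => forceL (mc4 a16) (fun a17 => forceL (mc2 a17) (fun a18 => forceL (mc5 a18) (fun a19 => forceL (mc3 a19) (fun a20 => forceL (mc3 a20) (fun a21 => forceL (mc3 a21) (fun a22 => forceL (mc0 a22) (fun a23 => forceL (mc0 a23) (fun a24 => forceL (mc0 a24) (fun a25 => forceL (mc3 a25) (fun a26 => forceL (mc3 a26) (fun a27 => forceL (mc3 a27) (fun a28 => forceL (mc4 a28) (fun a29 => forceL (mc1 a29) (fun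 a30 => forceL (mc1 a30) (fun a31 => forceL (mc1 a31) (fun a32 => forceL (mc4 a32) (fun a33 => forceL (mc0 a33) (fun a34 => a34))))))))))))))))))))))))))))))))))
set_option maxRecDepth 1000000 in
def W_17 (v : ℕ) : ℕ := forceL (mc5 v) (fun a1 => forceL (mc1 a1) (fun a2 => forceL (mc5 a2) (fun a3 => forceL (mc0 a3) (fun a4 => forceL (mc0 a4) (fun a5 => forceL (mc0 a5) (fun a6 => forceL (mc5 a6) (fun a7 => forceL (mc2 a7) (fun a8 => forceL (mc2 a8) (fun a9 => forceL (mc2 a9) (fun a10 => forceL (mc1 a10) (fun a11 => forceL (mc1 a11) (fun a12 => forceL (mc1 a12) (fun a13 => forceL (mc2 a13) (fun a14 => forceL (mc2 a14) (fun a15 => forceL (mc2 a15) (fun a16 => forceL (mc4 a16) (fun a17 => forceL (mc4 a17) (fun a18 => forceL (mc5 a18) (fun a19 => forceL (mc3 a19) (fun a20 => forceL (mc3 a20) (fun a21 => forceL (mc3 a21) (fun a22 => forceL (mc0 a22) (fun a23 => forceL (mc0 a23) (fun a24 => forceL (mc0 a24) (fun a25 => forceL (mc3 a25) (fun a26 => forceL (mc3 a26) (fun a27 =>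 forceL (mc3 a27) (fun a28 => forceL (mc4 a28) (fun a29 => forceL (mc1 a29) (fun a30 => forceL (mc1 a30) (fun a31 => forceL (mc1 a31) (fun a32 => forceL (mc4 a32) (fun a33 => forceL (mc0 a33) (fun a34 => a34))))))))))))))))))))))))))))))))))
set_option maxRecDepth 1000000 in
def W_18 (v : ℕ) : ℕ := forceL (mc1 v) (fun a1 => forceL (mc1 a1) (fun a2 => forceL (mc2 a2) (fun a3 => forceL (mc1 a3) (fun a4 => forceL (mc2 a4) (fun a5 => forceL (mc1 a5) (fun a6 => forceL (mc2 a6) (fun a7 => forceL (mc0 a7) (fun a8 => forceL (mc3 a8) (fun a9 => forceL (mc0 a9) (fun a10 => forceL (mc3 a10) (fun a11 => forceL (mc0 a11) (fun a12 => forceL (mc3 a12) (fun a13 => forceL (mc0 a13) (fun a14 => a14))))))))))))))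
set_option maxRecDepth 1000000 in
def W_19 (v : ℕ) : ℕ := forceL (mc3 v) (fun a1 => forceL (mc1 a1) (fun a2 => forceL (mc2 a2) (fun a3 => forceL (mc1 a3) (fun a4 => forceL (mc2 a4) (fun a5 => forceL (mc1 a5) (fun a6 => forceL (mc2 a6) (fun a7 => forceL (mc2 a7) (fun a8 => forceL (mc3 a8) (fun a9 => forceL (mc0 a9) (fun a10 => forceL (mc3 a10) (fun a11 => forceL (mc0 a11) (fun a12 => forceL (mc3 a12) (fun a13 => forceL (mc0 a13) (fun a14 => a14))))))))))))))
set_option maxRecDepth 1000000 in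
def W_20 (v : ℕ) : ℕ := forceL (mc5 v) (fun a1 => forceL (mc1 a1) (fun a2 => forceL (mc2 a2) (fun a3 => forceL (mc1 a3) (fun a4 => forceL (mc2 a4) (fun a5 => forceL (mc1 a5) (fun a6 => forceL (mc2 a6) (fun a7 => forceL (mc4 a7) (fun a8 => forceL (mc3 a8) (fun a9 => forceL (mc0 a9) (fun a10 => forceL (mc3 a10) (fun a11 => forceL (mc0 a11) (fun a12 => forceL (mc3 a12) (fun a13 => forceL (mc0 a13) (fun a14 => a14))))))))))))))
set_option maxRecDepth 1000000 in
def W_21 (v : ℕ) : ℕ := forceL (mc1 v) (fun a1 => forceL (mc0 a1) (fun a2 => forceL (mc2 a2) (fun a3 => forceL (mc0 a3) (fun a4 => forceL (mc2 a4) (fun a5 => forceL (mc0 a5) (fun a6 => forceL (mc2 a6) (fun a7 => forceL (mc0 a7) (fun a8 => forceL (mc2 a8) (fun a9 => forceL (mc0 a9) (fun a10 => forceL (mc3 a10) (fun a11 => forceL (mc1 a11) (fun a12 => forceL (mc3 a12) (fun a13 => forceL (mc1 a13) (fun a14 => forceL (mc3 a14) (fun a15 => forceL (mc1 a15) (fun a16 => forceL (mc3 a16) (fun a17 => forceL (mc1 a17) (fun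 a18 => a18))))))))))))))))))
set_option maxRecDepth 1000000 in
def W_22 (v : ℕ) : ℕ := forceL (mc3 v) (fun a1 => forceL (mc0 a1) (fun a2 => forceL (mc2 a2) (fun a3 => forceL (mc0 a3) (fun a4 => forceL (mc2 a4) (fun a5 => forceL (mc0 a5) (fun a6 => forceL (mc2 a6) (fun a7 => forceL (mc0 a7) (fun a8 => forceL (mc2 a8) (fun a9 => forceL (mc2 a9) (fun a10 => forceL (mc3 a10) (fun a11 => forceL (mc1 a11) (fun a12 => forceL (mc3 a12) (fun a13 => forceL (mc1 a13) (fun a14 => forceL (mc3 a14) (fun a15 => forceL (mc1 a15) (fun a16 => forceL (mc3 a16) (fun a17 => forceL (mc1 a17) (fun a18 => a18))))))))))))))))))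
set_option maxRecDepth 1000000 in
def W_23 (v : ℕ) : ℕ := forceL (mc5 v) (fun a1 => forceL (mc0 a1) (fun a2 => forceL (mc2 a2) (fun a3 => forceL (mc0 a3) (fun a4 => forceL (mc2 a4) (fun a5 => forceL (mc0 a5) (fun a6 => forceL (mc2 a6) (fun a7 => forceL (mc0 a7) (fun a8 => forceL (mc2 a8) (fun a9 => forceL (mc4 a9) (fun a10 => forceL (mc3 a10) (fun a11 => forceL (mc1 a11) (fun a12 => forceL (mc3 a12) (fun a13 => forceL (mc1 a13) (fun a14 => forceL (mc3 a14) (fun a15 => forceL (mc1 a15) (fun a16 => forceL (mc3 a16) (fun a17 => forceL (mc1 a17) (fun a18 => a18))))))))))))))))))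
set_option maxRecDepth 1000000 in
def W_24 (v : ℕ) : ℕ := forceL (mc1 v) (fun a1 => forceL (mc1 a1) (fun a2 => forceL (mc2 a2) (fun a3 => forceL (mc2 a3) (fun a4 => forceL (mc0 a4) (fun a5 => forceL (mc2 a5) (fun a6 => forceL (mc0 a6) (fun a7 => forceL (mc3 a7) (fun a8 => forceL (mc3 a8) (fun a9 => forceL (mc1 a9) (fun a10 => forceL (mc1 a10) (fun a11 => forceL (mc3 a11) (fun a12 => forceL (mc3 a12) (fun a13 => forceL (mc0 a13) (fun a14 => forceL (mc2 a14) (fun a15 => forceL (mc2 a15) (fun a16 => forceL (mc0 a16) (fun a17 => forceL (mc0 a17) (fun a18 => forceL (mc2 a18) (fun a19 => forceL (mc2 a19) (fun a20 => forceL (mc1 a20) (fun a21 => forceL (mc3 a21) (fun a22 => forceL (mc1 a22) (fun a23 => forceL (mc3 a23) (fun a24 => forceL (mc3 a24) (fun a25 => forceL (mc0 a25) (fun a26 => a26))))))))))))))))))))))))))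
set_option maxRecDepth 1000000 in
def W_25 (v : ℕ) : ℕ := forceL (mc3 v) (fun a1 => forceL (mc1 a1) (fun a2 => forceL (mc2 a2) (fun a3 => forceL (mc2 a3) (fun a4 => forceL (mc0 a4) (fun a5 => forceL (mc2 a5) (fun a6 => forceL (mc0 a6) (fun a7 => forceL (mc3 a7) (fun a8 => forceL (mc3 a8) (fun a9 => forceL (mc1 a9) (fun a10 => forceL (mc1 a10) (fun a11 => forceL (mc3 a11) (fun a12 => forceL (mc3 a12) (fun a13 => forceL (mc2 a13) (fun a14 => forceL (mc2 a14) (fun a15 => forceL (mc2 a15) (fun a16 => forceL (mc0 a16) (fun a17 => forceL (mc0 a17) (fun a18 => forceL (mc2 a18) (fun a19 => forceL (mc2 a19) (fun a20 => forceL (mc1 a20) (fun a21 => forceL (mc3 a21) (fun a22 => forceL (mc1 a22) (fun a23 => forceL (mc3 a23) (fun a24 => forceL (mc3 a24) (fun a25 => forceL (mc0 a25) (fun a26 => a26))))))))))))))))))))))))))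
set_option maxRecDepth 1000000 in
def W_26 (v : ℕ) : ℕ := forceL (mc5 v) (fun a1 => forceL (mc1 a1) (fun a2 => forceL (mc2 a2) (fun a3 => forceL (mc2 a3) (fun a4 => forceL (mc0 a4) (fun a5 => forceL (mc2 a5) (fun a6 => forceL (mc0 a6) (fun a7 => forceL (mc3 a7) (fun a8 => forceL (mc3 a8) (fun a9 => forceL (mc1 a9) (fun a10 => forceL (mc1 a10) (fun a11 => forceL (mc3 a11) (fun a12 => forceL (mc3 a12) (fun a13 => forceL (mc4 a13) (fun a14 => forceL (mc2 a14) (fun a15 => forceL (mc2 a15) (fun a16 => forceL (mc0 a16) (fun a17 => forceL (mc0 a17) (fun a18 => forceL (mc2 a18) (fun a19 => forceL (mc2 a19) (fun a20 => forceL (mc1 a20) (fun a21 => forceL (mc3 a21) (fun a22 => forceL (mc1 a22) (fun a23 => forceL (mc3 a23) (fun a24 => forceL (mc3 a24) (fun a25 => forceL (mc0 a25) (fun a26 => a26))))))))))))))))))))))))))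
set_option maxRecDepth 1000000 in
def W_27 (v : ℕ) : ℕ := forceL (mc3 v) (fun a1 => forceL (mc4 a1) (fun a2 => forceL (mc1 a2) (fun a3 => forceL (mc5 a3) (fun a4 => forceL (mc3 a4) (fun a5 => forceL (mc3 a5) (fun a6 => forceL (mc4 a6) (fun a7 => forceL (mc3 a7) (fun a8 => forceL (mc3 a8) (fun a9 => forceL (mc3 a9) (fun a10 => forceL (mc1 a10) (fun a11 => forceL (mc1 a11) (fun a12 => forceL (mc1 a12) (fun a13 => forceL (mc3 a13) (fun a14 => forceL (mc4 a14) (fun a15 => forceL (mc1 a15) (fun a16 => forceL (mc5 a16) (fun a17 => forceL (mc3 a17) (fun a18 => forceL (mc3 a18) (fun a19 => forceL (mc4 a19) (fun a20 => forceL (mc3 a20) (fun a21 => forceL (mc3 a21) (fun a22 => forceL (mc3 a22) (fun a23 => forceL (mc1 a23) (fun a24 => forceL (mc1 a24) (fun a25 => forceL (mc1 a25) (fun a26 => forceL (mc3 a26) (fun a27 => forceL (mc4 a27) (fun a28 => forceL (mc1 a28) (fun a29 => forceL (mc5 a29) (fun a30 => forceL (mc3 a30) (fun a31 => forceL (mc3 a31) (fun a32 => forceL (mc4 a32)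 (fun a33 => forceL (mc3 a33) (fun a34 => forceL (mc3 a34) (fun a35 => forceL (mc3 a35) (fun a36 => forceL (mc1 a36) (fun a37 => forceL (mc1 a37) (fun a38 => forceL (mc1 a38) (fun a39 => forceL (mc3 a39) (fun a40 => forceL (mc4 a40) (fun a41 => forceL (mc1 a41) (fun a42 => forceL (mc5 a42) (fun a43 => forceL (mc3 a43) (fun a44 => forceL (mc3 a44) (fun a45 => forceL (mc4 a45) (fun a46 => forceL (mc3 a46) (fun a47 => forceL (mc3 a47) (fun a48 => forceL (mc3 a48) (fun a49 => forceL (mc1 a49) (fun a50 => forceL (mc1 a50) (fun a51 => forceL (mc1 a51) (fun a52 => forceL (mc3 a52) (fun a53 => forceL (mc4 a53) (fun a54 => forceL (mc1 a54) (fun a55 => forceL (mc5 a55) (fun a56 => forceL (mc3 a56) (fun a57 => forceL (mc3 a57) (fun a58 => forceL (mc4 a58) (fun a59 => forceL (mc3 a59) (fun a60 => forceL (mc3 a60) (fun a61 => forceL (mc3 a61) (fun a62 => forceL (mc1 a62) (fun a63 => forceL (mc1 a63) (fun a64 => forceL (mc1 a64) (fun a65 => forceL (mc3 a65) (fun a66 => forceL (mc4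 a66) (fun a67 => forceL (mc1 a67) (fun a68 => forceL (mc5 a68) (fun a69 => forceL (mc3 a69) (fun a70 => forceL (mc3 a70) (fun a71 => forceL (mc4 a71) (fun a72 => forceL (mc3 a72) (fun a73 => forceL (mc3 a73) (fun a74 => forceL (mc3 a74) (fun a75 => forceL (mc1 a75) (fun a76 => forceL (mc1 a76) (fun a77 => forceL (mc1 a77) (fun a78 => forceL (mc3 a78) (fun a79 => forceL (mc4 a79) (fun a80 => forceL (mc1 a80) (fun a81 => forceL (mc5 a81) (fun a82 => forceL (mc3 a82) (fun a83 => forceL (mc3 a83) (fun a84 => forceL (mc4 a84) (fun a85 => forceL (mc3 a85) (fun a86 => forceL (mc3 a86) (fun a87 => forceL (mc3 a87) (fun a88 => forceL (mc1 a88) (fun a89 => forceL (mc1 a89) (fun a90 => forceL (mc1 a90) (fun a91 => forceL (mc3 a91) (fun a92 => forceL (mc4 a92) (fun a93 => forceL (mc1 a93) (fun a94 => forceL (mc5 a94) (fun a95 => forceL (mc3 a95) (fun a96 => forceL (mc3 a96) (fun a97 => forceL (mc4 a97) (fun a98 => forceL (mc3 a98) (fun a99 => forceL (mc3 a99) (fun a100 => forceL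 (mc3 a100) (fun a101 => forceL (mc1 a101) (fun a102 => forceL (mc1 a102) (fun a103 => forceL (mc1 a103) (fun a104 => forceL (mc3 a104) (fun a105 => forceL (mc4 a105) (fun a106 => forceL (mc1 a106) (fun a107 => forceL (mc5 a107) (fun a108 => forceL (mc3 a108) (fun a109 => forceL (mc3 a109) (fun a110 => forceL (mc4 a110) (fun a111 => forceL (mc3 a111) (fun a112 => forceL (mc3 a112) (fun a113 => forceL (mc3 a113) (fun a114 => forceL (mc1 a114) (fun a115 => forceL (mc1 a115) (fun a116 => forceL (mc1 a116) (fun a117 => forceL (mc3 a117) (fun a118 => forceL (mc4 a118) (fun a119 => forceL (mc1 a119) (fun a120 => forceL (mc5 a120) (fun a121 => forceL (mc3 a121) (fun a122 => forceL (mc3 a122) (fun a123 => forceL (mc4 a123) (fun a124 => forceL (mc3 a124) (fun a125 => forceL (mc3 a125) (fun a126 => forceL (mc3 a126) (fun a127 => forceL (mc1 a127) (fun a128 => forceL (mc1 a128) (fun a129 => forceL (mc1 a129) (fun a130 => forceL (mc3 a130) (fun a131 => forceL (mc4 a131) (fun a132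 => forceL (mc1 a132) (fun a133 => forceL (mc5 a133) (fun a134 => forceL (mc3 a134) (fun a135 => forceL (mc3 a135) (fun a136 => forceL (mc4 a136) (fun a137 => forceL (mc3 a137) (fun a138 => forceL (mc3 a138) (fun a139 => forceL (mc3 a139) (fun a140 => forceL (mc1 a140) (fun a141 => forceL (mc1 a141) (fun a142 => forceL (mc1 a142) (fun a143 => forceL (mc3 a143) (fun a144 => forceL (mc4 a144) (fun a145 => forceL (mc1 a145) (fun a146 => forceL (mc5 a146) (fun a147 => forceL (mc3 a147) (fun a148 => forceL (mc3 a148) (fun a149 => forceL (mc4 a149) (fun a150 => forceL (mc3 a150) (fun a151 => forceL (mc3 a151) (fun a152 => forceL (mc3 a152) (fun a153 => forceL (mc1 a153) (fun a154 => forceL (mc1 a154) (fun a155 => forceL (mc1 a155) (fun a156 => forceL (mc3 a156) (fun a157 => forceL (mc4 a157) (fun a158 => forceL (mc1 a158) (fun a159 => forceL (mc5 a159) (fun a160 => forceL (mc3 a160) (fun a161 => forceL (mc3 a161) (fun a162 => forceL (mc4 a162) (fun a163 => forceL (mc3 a163)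 (fun a164 => forceL (mc3 a164) (fun a165 => forceL (mc3 a165) (fun a166 => forceL (mc1 a166) (fun a167 => forceL (mc1 a167) (fun a168 => forceL (mc1 a168) (fun a169 => forceL (mc3 a169) (fun a170 => forceL (mc4 a170) (fun a171 => forceL (mc1 a171) (fun a172 => forceL (mc5 a172) (fun a173 => forceL (mc3 a173) (fun a174 => forceL (mc3 a174) (fun a175 => forceL (mc4 a175) (fun a176 => forceL (mc3 a176) (fun a177 => forceL (mc3 a177) (fun a178 => forceL (mc3 a178) (fun a179 => forceL (mc1 a179) (fun a180 => forceL (mc1 a180) (fun a181 => forceL (mc1 a181) (fun a182 => forceL (mc3 a182) (fun a183 => forceL (mc4 a183) (fun a184 => forceL (mc1 a184) (fun a185 => forceL (mc5 a185) (fun a186 => forceL (mc3 a186) (fun a187 => forceL (mc3 a187) (fun a188 => forceL (mc4 a188) (fun a189 => forceL (mc3 a189) (fun a190 => forceL (mc3 a190) (fun a191 => forceL (mc3 a191) (fun a192 => forceL (mc1 a192) (fun a193 => forceL (mc1 a193) (fun a194 => forceL (mc1 a194) (fun a195 => forceL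 (mc3 a195) (fun a196 => forceL (mc4 a196) (fun a197 => forceL (mc1 a197) (fun a198 => forceL (mc5 a198) (fun a199 => forceL (mc3 a199) (fun a200 => forceL (mc3 a200) (fun a201 => forceL (mc4 a201) (fun a202 => forceL (mc3 a202) (fun a203 => forceL (mc3 a203) (fun a204 => forceL (mc3 a204) (fun a205 => forceL (mc1 a205) (fun a206 => forceL (mc1 a206) (fun a207 => forceL (mc1 a207) (fun a208 => forceL (mc3 a208) (fun a209 => forceL (mc4 a209) (fun a210 => forceL (mc1 a210) (fun a211 => forceL (mc5 a211) (fun a212 => forceL (mc3 a212) (fun a213 => forceL (mc3 a213) (fun a214 => forceL (mc4 a214) (fun a215 => forceL (mc3 a215) (fun a216 => forceL (mc3 a216) (fun a217 => forceL (mc3 a217) (fun a218 => forceL (mc1 a218) (fun a219 => forceL (mc1 a219) (fun a220 => forceL (mc1 a220) (fun a221 => forceL (mc3 a221) (fun a222 => forceL (mc4 a222) (fun a223 => forceL (mc1 a223) (fun a224 => forceL (mc5 a224) (fun a225 => forceL (mc3 a225) (fun a226 => forceL (mc3 a226) (fun a227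 => forceL (mc4 a227) (fun a228 => forceL (mc3 a228) (fun a229 => forceL (mc3 a229) (fun a230 => forceL (mc3 a230) (fun a231 => forceL (mc1 a231) (fun a232 => forceL (mc1 a232) (fun a233 => forceL (mc1 a233) (fun a234 => forceL (mc3 a234) (fun a235 => forceL (mc4 a235) (fun a236 => forceL (mc1 a236) (fun a237 => forceL (mc5 a237) (fun a238 => forceL (mc3 a238) (fun a239 => forceL (mc3 a239) (fun a240 => forceL (mc4 a240) (fun a241 => forceL (mc3 a241) (fun a242 => forceL (mc3 a242) (fun a243 => forceL (mc3 a243) (fun a244 => forceL (mc1 a244) (fun a245 => forceL (mc1 a245) (fun a246 => forceL (mc1 a246) (fun a247 => forceL (mc3 a247) (fun a248 => forceL (mc4 a248) (fun a249 => forceL (mc1 a249) (fun a250 => forceL (mc5 a250) (fun a251 => forceL (mc3 a251) (fun a252 => forceL (mc3 a252) (fun a253 => forceL (mc4 a253) (fun a254 => forceL (mc3 a254) (fun a255 => forceL (mc3 a255) (fun a256 => forceL (mc3 a256) (fun a257 => forceL (mc1 a257) (fun a258 => forceL (mc1 a258)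 (fun a259 => forceL (mc1 a259) (fun a260 => forceL (mc3 a260) (fun a261 => forceL (mc4 a261) (fun a262 => forceL (mc1 a262) (fun a263 => forceL (mc5 a263) (fun a264 => forceL (mc3 a264) (fun a265 => forceL (mc3 a265) (fun a266 => forceL (mc4 a266) (fun a267 => forceL (mc3 a267) (fun a268 => forceL (mc3 a268) (fun a269 => forceL (mc3 a269) (fun a270 => forceL (mc1 a270) (fun a271 => forceL (mc1 a271) (fun a272 => forceL (mc1 a272) (fun a273 => forceL (mc3 a273) (fun a274 => forceL (mc4 a274) (fun a275 => forceL (mc1 a275) (fun a276 => forceL (mc5 a276) (fun a277 => forceL (mc3 a277) (fun a278 => forceL (mc3 a278) (fun a279 => forceL (mc4 a279) (fun a280 => forceL (mc3 a280) (fun a281 => forceL (mc3 a281) (fun a282 => forceL (mc3 a282) (fun a283 => forceL (mc1 a283) (fun a284 => forceL (mc1 a284) (fun a285 => forceL (mc1 a285) (fun a286 => forceL (mc3 a286) (fun a287 => forceL (mc4 a287) (fun a288 => forceL (mc1 a288) (fun a289 => forceL (mc5 a289) (fun a290 => forceL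 (mc3 a290) (fun a291 => forceL (mc3 a291) (fun a292 => forceL (mc4 a292) (fun a293 => forceL (mc3 a293) (fun a294 => forceL (mc3 a294) (fun a295 => forceL (mc3 a295) (fun a296 => forceL (mc1 a296) (fun a297 => forceL (mc1 a297) (fun a298 => forceL (mc1 a298) (fun a299 => forceL (mc3 a299) (fun a300 => forceL (mc4 a300) (fun a301 => forceL (mc1 a301) (fun a302 => forceL (mc5 a302) (fun a303 => forceL (mc3 a303) (fun a304 => forceL (mc3 a304) (fun a305 => forceL (mc4 a305) (fun a306 => forceL (mc3 a306) (fun a307 => forceL (mc3 a307) (fun a308 => forceL (mc3 a308) (fun a309 => forceL (mc1 a309) (fun a310 => forceL (mc1 a310) (fun a311 => forceL (mc1 a311) (fun a312 => forceL (mc3 a312) (fun a313 => forceL (mc4 a313) (fun a314 => forceL (mc1 a314) (fun a315 => forceL (mc5 a315) (fun a316 => forceL (mc3 a316) (fun a317 => forceL (mc3 a317) (fun a318 => forceL (mc4 a318) (fun a319 => forceL (mc3 a319) (fun a320 => forceL (mc3 a320) (fun a321 => forceL (mc3 a321) (fun a322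 => forceL (mc1 a322) (fun a323 => forceL (mc1 a323) (fun a324 => forceL (mc1 a324) (fun a325 => forceL (mc3 a325) (fun a326 => forceL (mc4 a326) (fun a327 => forceL (mc1 a327) (fun a328 => forceL (mc5 a328) (fun a329 => forceL (mc3 a329) (fun a330 => forceL (mc3 a330) (fun a331 => forceL (mc4 a331) (fun a332 => forceL (mc3 a332) (fun a333 => forceL (mc3 a333) (fun a334 => forceL (mc3 a334) (fun a335 => forceL (mc1 a335) (fun a336 => forceL (mc1 a336) (fun a337 => forceL (mc1 a337) (fun a338 => forceL (mc3 a338) (fun a339 => forceL (mc4 a339) (fun a340 => forceL (mc1 a340) (fun a341 => forceL (mc5 a341) (fun a342 => forceL (mc3 a342) (fun a343 => forceL (mc3 a343) (fun a344 => forceL (mc4 a344) (fun a345 => forceL (mc3 a345) (fun a346 => forceL (mc3 a346) (fun a347 => forceL (mc3 a347) (fun a348 => forceL (mc1 a348) (fun a349 => forceL (mc1 a349) (fun a350 => forceL (mc1 a350) (fun a351 => forceL (mc3 a351) (fun a352 => forceL (mc4 a352) (fun a353 => forceL (mc1 a353)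 (fun a354 => forceL (mc5 a354) (fun a355 => forceL (mc3 a355) (fun a356 => forceL (mc3 a356) (fun a357 => forceL (mc4 a357) (fun a358 => forceL (mc3 a358) (fun a359 => forceL (mc3 a359) (fun a360 => forceL (mc3 a360) (fun a361 => forceL (mc1 a361) (fun a362 => forceL (mc1 a362) (fun a363 => forceL (mc1 a363) (fun a364 => forceL (mc3 a364) (fun a365 => forceL (mc4 a365) (fun a366 => forceL (mc1 a366) (fun a367 => forceL (mc5 a367) (fun a368 => forceL (mc3 a368) (fun a369 => forceL (mc3 a369) (fun a370 => forceL (mc4 a370) (fun a371 => forceL (mc3 a371) (fun a372 => forceL (mc3 a372) (fun a373 => forceL (mc3 a373) (fun a374 => forceL (mc1 a374) (fun a375 => forceL (mc1 a375) (fun a376 => forceL (mc1 a376) (fun a377 => forceL (mc3 a377) (fun a378 => forceL (mc4 a378) (fun a379 => forceL (mc1 a379) (fun a380 => forceL (mc5 a380) (fun a381 => forceL (mc3 a381) (fun a382 => forceL (mc3 a382) (fun a383 => forceL (mc4 a383) (fun a384 => forceL (mc3 a384) (fun a385 => forceL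 (mc3 a385) (fun a386 => forceL (mc3 a386) (fun a387 => forceL (mc1 a387) (fun a388 => forceL (mc1 a388) (fun a389 => forceL (mc1 a389) (fun a390 => forceL (mc3 a390) (fun a391 => forceL (mc4 a391) (fun a392 => forceL (mc1 a392) (fun a393 => forceL (mc5 a393) (fun a394 => forceL (mc3 a394) (fun a395 => forceL (mc3 a395) (fun a396 => forceL (mc4 a396) (fun a397 => forceL (mc3 a397) (fun a398 => forceL (mc3 a398) (fun a399 => forceL (mc3 a399) (fun a400 => forceL (mc1 a400) (fun a401 => forceL (mc1 a401) (fun a402 => forceL (mc1 a402) (fun a403 => forceL (mc3 a403) (fun a404 => forceL (mc4 a404) (fun a405 => forceL (mc1 a405) (fun a406 => forceL (mc5 a406) (fun a407 => forceL (mc3 a407) (fun a408 => forceL (mc3 a408) (fun a409 => forceL (mc4 a409) (fun a410 => forceL (mc3 a410) (fun a411 => forceL (mc3 a411) (fun a412 => forceL (mc3 a412) (fun a413 => forceL (mc1 a413) (fun a414 => forceL (mc1 a414) (fun a415 => forceL (mc1 a415) (fun a416 => forceL (mc3 a416) (fun a417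 => forceL (mc4 a417) (fun a418 => forceL (mc1 a418) (fun a419 => forceL (mc5 a419) (fun a420 => forceL (mc3 a420) (fun a421 => forceL (mc3 a421) (fun a422 => forceL (mc4 a422) (fun a423 => forceL (mc3 a423) (fun a424 => forceL (mc3 a424) (fun a425 => forceL (mc3 a425) (fun a426 => forceL (mc1 a426) (fun a427 => forceL (mc1 a427) (fun a428 => forceL (mc1 a428) (fun a429 => forceL (mc3 a429) (fun a430 => forceL (mc4 a430) (fun a431 => forceL (mc1 a431) (fun a432 => forceL (mc5 a432) (fun a433 => forceL (mc3 a433) (fun a434 => forceL (mc3 a434) (fun a435 => forceL (mc4 a435) (fun a436 => forceL (mc3 a436) (fun a437 => forceL (mc3 a437) (fun a438 => forceL (mc3 a438) (fun a439 => forceL (mc1 a439) (fun a440 => forceL (mc1 a440) (fun a441 => forceL (mc1 a441) (fun a442 => forceL (mc3 a442) (fun a443 => forceL (mc4 a443) (fun a444 => forceL (mc1 a444) (fun a445 => forceL (mc5 a445) (fun a446 => forceL (mc3 a446) (fun a447 => forceL (mc3 a447) (fun a448 => forceL (mc4 a448)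 (fun a449 => forceL (mc3 a449) (fun a450 => forceL (mc3 a450) (fun a451 => forceL (mc3 a451) (fun a452 => forceL (mc1 a452) (fun a453 => forceL (mc1 a453) (fun a454 => forceL (mc1 a454) (fun a455 => forceL (mc3 a455) (fun a456 => forceL (mc4 a456) (fun a457 => forceL (mc1 a457) (fun a458 => forceL (mc5 a458) (fun a459 => forceL (mc3 a459) (fun a460 => forceL (mc3 a460) (fun a461 => forceL (mc4 a461) (fun a462 => forceL (mc3 a462) (fun a463 => forceL (mc3 a463) (fun a464 => forceL (mc3 a464) (fun a465 => forceL (mc1 a465) (fun a466 => forceL (mc1 a466) (fun a467 => forceL (mc1 a467) (fun a468 => a468))))))))))))))))))))))))))))))))))))))))))))))))))))))))))))))))))))))))))))))))))))))))))))))))))))))))))))))))))))))))))))))))))))))))))))))))))))))))))))))))))))))))))))))))))))))))))))))))))))))))))))))))))))))))))))))))))))))))))))))))))))))))))))))))))))))))))))))))))))))))))))))))))))))))))))))))))))))))))))))))))))))))))))))))))))))))))))))))))))))))))))))))))))))))))))))))))))))))))))))))))))))))))))))))))))))))))))))))))))))))))))))))))))))))))))))))))))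
set_option maxRecDepth 1000000 in
def W_28 (v : ℕ) : ℕ := forceL (mc2 v) (fun a1 => forceL (mc4 a1) (fun a2 => forceL (mc3 a2) (fun a3 => forceL (mc3 a3) (fun a4 => forceL (mc1 a4) (fun a5 => forceL (mc1 a5) (fun a6 => forceL (mc1 a6) (fun a7 => forceL (mc2 a7) (fun a8 => forceL (mc4 a8) (fun a9 => forceL (mc3 a9) (fun a10 => forceL (mc3 a10) (fun a11 => forceL (mc1 a11) (fun a12 => forceL (mc1 a12) (fun a13 => forceL (mc1 a13) (fun a14 => forceL (mc2 a14) (fun a15 => forceL (mc4 a15) (fun a16 => forceL (mc3 a16) (fun a17 => forceL (mc3 a17) (fun a18 => forceL (mc1 a18) (fun a19 => forceL (mc1 a19) (fun a20 => forceL (mc1 a20) (fun a21 => forceL (mc2 a21) (fun a22 => forceL (mc4 a22) (fun a23 => forceL (mc3 a23) (fun a24 => forceL (mc3 a24) (fun a25 => forceL (mc1 a25) (fun a26 => forceL (mc1 a26) (fun a27 => forceL (mc1 a27) (fun a28 => forceL (mc2 a28) (fun a29 => forceL (mc4 a29) (fun a30 => forceL (mc3 a30) (fun a31 => forceL (mc3 a31) (fun a32 => forceL (mc1 a32)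 (fun a33 => forceL (mc1 a33) (fun a34 => forceL (mc1 a34) (fun a35 => forceL (mc2 a35) (fun a36 => forceL (mc4 a36) (fun a37 => forceL (mc3 a37) (fun a38 => forceL (mc3 a38) (fun a39 => forceL (mc1 a39) (fun a40 => forceL (mc1 a40) (fun a41 => forceL (mc1 a41) (fun a42 => forceL (mc2 a42) (fun a43 => forceL (mc4 a43) (fun a44 => forceL (mc3 a44) (fun a45 => forceL (mc3 a45) (fun a46 => forceL (mc1 a46) (fun a47 => forceL (mc1 a47) (fun a48 => forceL (mc1 a48) (fun a49 => forceL (mc2 a49) (fun a50 => forceL (mc4 a50) (fun a51 => forceL (mc3 a51) (fun a52 => forceL (mc3 a52) (fun a53 => forceL (mc1 a53) (fun a54 => forceL (mc1 a54) (fun a55 => forceL (mc1 a55) (fun a56 => forceL (mc2 a56) (fun a57 => forceL (mc4 a57) (fun a58 => forceL (mc3 a58) (fun a59 => forceL (mc3 a59) (fun a60 => forceL (mc1 a60) (fun a61 => forceL (mc1 a61) (fun a62 => forceL (mc1 a62) (fun a63 => forceL (mc2 a63) (fun a64 => forceL (mc4 a64) (fun a65 => forceL (mc3 a65) (fun a66 => forceL (mc3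 a66) (fun a67 => forceL (mc1 a67) (fun a68 => forceL (mc1 a68) (fun a69 => forceL (mc1 a69) (fun a70 => forceL (mc2 a70) (fun a71 => forceL (mc4 a71) (fun a72 => forceL (mc3 a72) (fun a73 => forceL (mc3 a73) (fun a74 => forceL (mc1 a74) (fun a75 => forceL (mc1 a75) (fun a76 => forceL (mc1 a76) (fun a77 => forceL (mc2 a77) (fun a78 => forceL (mc4 a78) (fun a79 => forceL (mc3 a79) (fun a80 => forceL (mc3 a80) (fun a81 => forceL (mc1 a81) (fun a82 => forceL (mc1 a82) (fun a83 => forceL (mc1 a83) (fun a84 => forceL (mc2 a84) (fun a85 => forceL (mc4 a85) (fun a86 => forceL (mc3 a86) (fun a87 => forceL (mc3 a87) (fun a88 => forceL (mc1 a88) (fun a89 => forceL (mc1 a89) (fun a90 => forceL (mc1 a90) (fun a91 => forceL (mc2 a91) (fun a92 => forceL (mc4 a92) (fun a93 => forceL (mc3 a93) (fun a94 => forceL (mc3 a94) (fun a95 => forceL (mc1 a95) (fun a96 => forceL (mc1 a96) (fun a97 => forceL (mc1 a97) (fun a98 => forceL (mc2 a98) (fun a99 => forceL (mc4 a99) (fun a100 => forceL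 (mc3 a100) (fun a101 => forceL (mc3 a101) (fun a102 => forceL (mc1 a102) (fun a103 => forceL (mc1 a103) (fun a104 => forceL (mc1 a104) (fun a105 => forceL (mc2 a105) (fun a106 => forceL (mc4 a106) (fun a107 => forceL (mc3 a107) (fun a108 => forceL (mc3 a108) (fun a109 => forceL (mc1 a109) (fun a110 => forceL (mc1 a110) (fun a111 => forceL (mc1 a111) (fun a112 => forceL (mc2 a112) (fun a113 => forceL (mc4 a113) (fun a114 => forceL (mc3 a114) (fun a115 => forceL (mc3 a115) (fun a116 => forceL (mc1 a116) (fun a117 => forceL (mc1 a117) (fun a118 => forceL (mc1 a118) (fun a119 => forceL (mc2 a119) (fun a120 => forceL (mc4 a120) (fun a121 => forceL (mc3 a121) (fun a122 => forceL (mc3 a122) (fun a123 => forceL (mc1 a123) (fun a124 => forceL (mc1 a124) (fun a125 => forceL (mc1 a125) (fun a126 => forceL (mc2 a126) (fun a127 => forceL (mc4 a127) (fun a128 => forceL (mc3 a128) (fun a129 => forceL (mc3 a129) (fun a130 => forceL (mc1 a130) (fun a131 => forceL (mc1 a131) (fun a132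 => forceL (mc1 a132) (fun a133 => forceL (mc2 a133) (fun a134 => forceL (mc4 a134) (fun a135 => forceL (mc3 a135) (fun a136 => forceL (mc3 a136) (fun a137 => forceL (mc1 a137) (fun a138 => forceL (mc1 a138) (fun a139 => forceL (mc1 a139) (fun a140 => forceL (mc2 a140) (fun a141 => forceL (mc4 a141) (fun a142 => forceL (mc3 a142) (fun a143 => forceL (mc3 a143) (fun a144 => forceL (mc1 a144) (fun a145 => forceL (mc1 a145) (fun a146 => forceL (mc1 a146) (fun a147 => forceL (mc2 a147) (fun a148 => forceL (mc4 a148) (fun a149 => forceL (mc3 a149) (fun a150 => forceL (mc3 a150) (fun a151 => forceL (mc1 a151) (fun a152 => forceL (mc1 a152) (fun a153 => forceL (mc1 a153) (fun a154 => forceL (mc2 a154) (fun a155 => forceL (mc4 a155) (fun a156 => forceL (mc3 a156) (fun a157 => forceL (mc3 a157) (fun a158 => forceL (mc1 a158) (fun a159 => forceL (mc1 a159) (fun a160 => forceL (mc1 a160) (fun a161 => forceL (mc2 a161) (fun a162 => forceL (mc4 a162) (fun a163 => forceL (mc3 a163)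 (fun a164 => forceL (mc3 a164) (fun a165 => forceL (mc1 a165) (fun a166 => forceL (mc1 a166) (fun a167 => forceL (mc1 a167) (fun a168 => forceL (mc2 a168) (fun a169 => forceL (mc4 a169) (fun a170 => forceL (mc3 a170) (fun a171 => forceL (mc3 a171) (fun a172 => forceL (mc1 a172) (fun a173 => forceL (mc1 a173) (fun a174 => forceL (mc1 a174) (fun a175 => forceL (mc2 a175) (fun a176 => forceL (mc4 a176) (fun a177 => forceL (mc3 a177) (fun a178 => forceL (mc3 a178) (fun a179 => forceL (mc1 a179) (fun a180 => forceL (mc1 a180) (fun a181 => forceL (mc1 a181) (fun a182 => forceL (mc2 a182) (fun a183 => forceL (mc4 a183) (fun a184 => forceL (mc3 a184) (fun a185 => forceL (mc3 a185) (fun a186 => forceL (mc1 a186) (fun a187 => forceL (mc1 a187) (fun a188 => forceL (mc1 a188) (fun a189 => forceL (mc2 a189) (fun a190 => forceL (mc4 a190) (fun a191 => forceL (mc3 a191) (fun a192 => forceL (mc3 a192) (fun a193 => forceL (mc1 a193) (fun a194 => forceL (mc1 a194) (fun a195 => forceL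 (mc1 a195) (fun a196 => forceL (mc2 a196) (fun a197 => forceL (mc4 a197) (fun a198 => forceL (mc3 a198) (fun a199 => forceL (mc3 a199) (fun a200 => forceL (mc1 a200) (fun a201 => forceL (mc1 a201) (fun a202 => forceL (mc1 a202) (fun a203 => forceL (mc2 a203) (fun a204 => forceL (mc4 a204) (fun a205 => forceL (mc3 a205) (fun a206 => forceL (mc3 a206) (fun a207 => forceL (mc1 a207) (fun a208 => forceL (mc1 a208) (fun a209 => forceL (mc1 a209) (fun a210 => forceL (mc2 a210) (fun a211 => forceL (mc4 a211) (fun a212 => forceL (mc3 a212) (fun a213 => forceL (mc3 a213) (fun a214 => forceL (mc1 a214) (fun a215 => forceL (mc1 a215) (fun a216 => forceL (mc1 a216) (fun a217 => forceL (mc2 a217) (fun a218 => forceL (mc4 a218) (fun a219 => forceL (mc3 a219) (fun a220 => forceL (mc3 a220) (fun a221 => forceL (mc1 a221) (fun a222 => forceL (mc1 a222) (fun a223 => forceL (mc1 a223) (fun a224 => forceL (mc2 a224) (fun a225 => forceL (mc4 a225) (fun a226 => forceL (mc3 a226) (fun a227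 => forceL (mc3 a227) (fun a228 => forceL (mc1 a228) (fun a229 => forceL (mc1 a229) (fun a230 => forceL (mc1 a230) (fun a231 => forceL (mc2 a231) (fun a232 => forceL (mc4 a232) (fun a233 => forceL (mc3 a233) (fun a234 => forceL (mc3 a234) (fun a235 => forceL (mc1 a235) (fun a236 => forceL (mc1 a236) (fun a237 => forceL (mc1 a237) (fun a238 => forceL (mc2 a238) (fun a239 => forceL (mc4 a239) (fun a240 => forceL (mc3 a240) (fun a241 => forceL (mc3 a241) (fun a242 => forceL (mc1 a242) (fun a243 => forceL (mc1 a243) (fun a244 => forceL (mc1 a244) (fun a245 => forceL (mc2 a245) (fun a246 => forceL (mc4 a246) (fun a247 => forceL (mc3 a247) (fun a248 => forceL (mc3 a248) (fun a249 => forceL (mc1 a249) (fun a250 => forceL (mc1 a250) (fun a251 => forceL (mc1 a251) (fun a252 => forceL (mc2 a252) (fun a253 => forceL (mc4 a253) (fun a254 => forceL (mc3 a254) (fun a255 => forceL (mc3 a255) (fun a256 => forceL (mc1 a256) (fun a257 => forceL (mc1 a257) (fun a258 => forceL (mc1 a258)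 (fun a259 => forceL (mc2 a259) (fun a260 => forceL (mc4 a260) (fun a261 => forceL (mc3 a261) (fun a262 => forceL (mc3 a262) (fun a263 => forceL (mc1 a263) (fun a264 => forceL (mc1 a264) (fun a265 => forceL (mc1 a265) (fun a266 => forceL (mc2 a266) (fun a267 => forceL (mc4 a267) (fun a268 => forceL (mc3 a268) (fun a269 => forceL (mc3 a269) (fun a270 => forceL (mc1 a270) (fun a271 => forceL (mc1 a271) (fun a272 => forceL (mc1 a272) (fun a273 => forceL (mc2 a273) (fun a274 => forceL (mc4 a274) (fun a275 => forceL (mc3 a275) (fun a276 => forceL (mc3 a276) (fun a277 => forceL (mc1 a277) (fun a278 => forceL (mc1 a278) (fun a279 => forceL (mc1 a279) (fun a280 => forceL (mc2 a280) (fun a281 => forceL (mc4 a281) (fun a282 => forceL (mc3 a282) (fun a283 => forceL (mc3 a283) (fun a284 => forceL (mc1 a284) (fun a285 => forceL (mc1 a285) (fun a286 => forceL (mc1 a286) (fun a287 => forceL (mc2 a287) (fun a288 => forceL (mc4 a288) (fun a289 => forceL (mc3 a289) (fun a290 => forceL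 (mc3 a290) (fun a291 => forceL (mc1 a291) (fun a292 => forceL (mc1 a292) (fun a293 => forceL (mc1 a293) (fun a294 => forceL (mc2 a294) (fun a295 => forceL (mc4 a295) (fun a296 => forceL (mc3 a296) (fun a297 => forceL (mc3 a297) (fun a298 => forceL (mc1 a298) (fun a299 => forceL (mc1 a299) (fun a300 => forceL (mc1 a300) (fun a301 => forceL (mc2 a301) (fun a302 => forceL (mc4 a302) (fun a303 => forceL (mc3 a303) (fun a304 => forceL (mc3 a304) (fun a305 => forceL (mc1 a305) (fun a306 => forceL (mc1 a306) (fun a307 => forceL (mc1 a307) (fun a308 => forceL (mc2 a308) (fun a309 => forceL (mc4 a309) (fun a310 => forceL (mc3 a310) (fun a311 => forceL (mc3 a311) (fun a312 => forceL (mc1 a312) (fun a313 => forceL (mc1 a313) (fun a314 => forceL (mc1 a314) (fun a315 => forceL (mc2 a315) (fun a316 => forceL (mc4 a316) (fun a317 => forceL (mc3 a317) (fun a318 => forceL (mc3 a318) (fun a319 => forceL (mc1 a319) (fun a320 => forceL (mc1 a320) (fun a321 => forceL (mc1 a321) (fun a322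 => forceL (mc2 a322) (fun a323 => forceL (mc4 a323) (fun a324 => forceL (mc3 a324) (fun a325 => forceL (mc3 a325) (fun a326 => forceL (mc1 a326) (fun a327 => forceL (mc1 a327) (fun a328 => forceL (mc1 a328) (fun a329 => forceL (mc2 a329) (fun a330 => forceL (mc4 a330) (fun a331 => forceL (mc3 a331) (fun a332 => forceL (mc3 a332) (fun a333 => forceL (mc1 a333) (fun a334 => forceL (mc1 a334) (fun a335 => forceL (mc1 a335) (fun a336 => forceL (mc2 a336) (fun a337 => forceL (mc4 a337) (fun a338 => forceL (mc3 a338) (fun a339 => forceL (mc3 a339) (fun a340 => forceL (mc1 a340) (fun a341 => forceL (mc1 a341) (fun a342 => forceL (mc1 a342) (fun a343 => forceL (mc2 a343) (fun a344 => forceL (mc4 a344) (fun a345 => forceL (mc3 a345) (fun a346 => forceL (mc3 a346) (fun a347 => forceL (mc1 a347) (fun a348 => forceL (mc1 a348) (fun a349 => forceL (mc1 a349) (fun a350 => forceL (mc2 a350) (fun a351 => forceL (mc4 a351) (fun a352 => forceL (mc3 a352) (fun a353 => forceL (mc3 a353)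 (fun a354 => forceL (mc1 a354) (fun a355 => forceL (mc1 a355) (fun a356 => forceL (mc1 a356) (fun a357 => forceL (mc2 a357) (fun a358 => forceL (mc4 a358) (fun a359 => forceL (mc3 a359) (fun a360 => forceL (mc3 a360) (fun a361 => forceL (mc1 a361) (fun a362 => forceL (mc1 a362) (fun a363 => forceL (mc1 a363) (fun a364 => forceL (mc2 a364) (fun a365 => forceL (mc4 a365) (fun a366 => forceL (mc3 a366) (fun a367 => forceL (mc3 a367) (fun a368 => forceL (mc1 a368) (fun a369 => forceL (mc1 a369) (fun a370 => forceL (mc1 a370) (fun a371 => forceL (mc2 a371) (fun a372 => forceL (mc4 a372) (fun a373 => forceL (mc3 a373) (fun a374 => forceL (mc3 a374) (fun a375 => forceL (mc1 a375) (fun a376 => forceL (mc1 a376) (fun a377 => forceL (mc1 a377) (fun a378 => forceL (mc2 a378) (fun a379 => forceL (mc4 a379) (fun a380 => forceL (mc3 a380) (fun a381 => forceL (mc3 a381) (fun a382 => forceL (mc1 a382) (fun a383 => forceL (mc1 a383) (fun a384 => forceL (mc1 a384) (fun a385 => forceL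 (mc2 a385) (fun a386 => forceL (mc4 a386) (fun a387 => forceL (mc3 a387) (fun a388 => forceL (mc3 a388) (fun a389 => forceL (mc1 a389) (fun a390 => forceL (mc1 a390) (fun a391 => forceL (mc1 a391) (fun a392 => forceL (mc2 a392) (fun a393 => forceL (mc4 a393) (fun a394 => forceL (mc3 a394) (fun a395 => forceL (mc3 a395) (fun a396 => forceL (mc1 a396) (fun a397 => forceL (mc1 a397) (fun a398 => forceL (mc1 a398) (fun a399 => forceL (mc2 a399) (fun a400 => forceL (mc4 a400) (fun a401 => forceL (mc3 a401) (fun a402 => forceL (mc3 a402) (fun a403 => forceL (mc1 a403) (fun a404 => forceL (mc1 a404) (fun a405 => forceL (mc1 a405) (fun a406 => forceL (mc2 a406) (fun a407 => forceL (mc4 a407) (fun a408 => forceL (mc3 a408) (fun a409 => forceL (mc3 a409) (fun a410 => forceL (mc1 a410) (fun a411 => forceL (mc1 a411) (fun a412 => forceL (mc1 a412) (fun a413 => forceL (mc2 a413) (fun a414 => forceL (mc4 a414) (fun a415 => forceL (mc3 a415) (fun a416 => forceL (mc3 a416) (fun a417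 => forceL (mc1 a417) (fun a418 => forceL (mc1 a418) (fun a419 => forceL (mc1 a419) (fun a420 => forceL (mc2 a420) (fun a421 => forceL (mc4 a421) (fun a422 => forceL (mc3 a422) (fun a423 => forceL (mc3 a423) (fun a424 => forceL (mc1 a424) (fun a425 => forceL (mc1 a425) (fun a426 => forceL (mc1 a426) (fun a427 => forceL (mc2 a427) (fun a428 => forceL (mc4 a428) (fun a429 => forceL (mc3 a429) (fun a430 => forceL (mc3 a430) (fun a431 => forceL (mc1 a431) (fun a432 => forceL (mc1 a432) (fun a433 => forceL (mc1 a433) (fun a434 => forceL (mc2 a434) (fun a435 => forceL (mc4 a435) (fun a436 => forceL (mc3 a436) (fun a437 => forceL (mc3 a437) (fun a438 => forceL (mc1 a438) (fun a439 => forceL (mc1 a439) (fun a440 => forceL (mc1 a440) (fun a441 => forceL (mc2 a441) (fun a442 => forceL (mc4 a442) (fun a443 => forceL (mc3 a443) (fun a444 => forceL (mc3 a444) (fun a445 => forceL (mc1 a445) (fun a446 => forceL (mc1 a446) (fun a447 => forceL (mc1 a447) (fun a448 => forceL (mc2 a448)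 (fun a449 => forceL (mc4 a449) (fun a450 => forceL (mc3 a450) (fun a451 => forceL (mc3 a451) (fun a452 => forceL (mc1 a452) (fun a453 => forceL (mc1 a453) (fun a454 => forceL (mc1 a454) (fun a455 => forceL (mc2 a455) (fun a456 => forceL (mc4 a456) (fun a457 => forceL (mc3 a457) (fun a458 => forceL (mc3 a458) (fun a459 => forceL (mc1 a459) (fun a460 => forceL (mc1 a460) (fun a461 => forceL (mc1 a461) (fun a462 => forceL (mc2 a462) (fun a463 => forceL (mc4 a463) (fun a464 => forceL (mc3 a464) (fun a465 => forceL (mc3 a465) (fun a466 => forceL (mc1 a466) (fun a467 => forceL (mc1 a467) (fun a468 => forceL (mc1 a468) (fun a469 => forceL (mc2 a469) (fun a470 => forceL (mc4 a470) (fun a471 => forceL (mc3 a471) (fun a472 => forceL (mc3 a472) (fun a473 => forceL (mc1 a473) (fun a474 => forceL (mc1 a474) (fun a475 => forceL (mc1 a475) (fun a476 => forceL (mc2 a476) (fun a477 => forceL (mc4 a477) (fun a478 => forceL (mc3 a478) (fun a479 => forceL (mc3 a479) (fun a480 => forceL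 (mc1 a480) (fun a481 => forceL (mc1 a481) (fun a482 => forceL (mc1 a482) (fun a483 => forceL (mc2 a483) (fun a484 => forceL (mc4 a484) (fun a485 => forceL (mc3 a485) (fun a486 => forceL (mc3 a486) (fun a487 => forceL (mc1 a487) (fun a488 => forceL (mc1 a488) (fun a489 => forceL (mc1 a489) (fun a490 => forceL (mc2 a490) (fun a491 => forceL (mc4 a491) (fun a492 => forceL (mc3 a492) (fun a493 => forceL (mc3 a493) (fun a494 => forceL (mc1 a494) (fun a495 => forceL (mc1 a495) (fun a496 => forceL (mc1 a496) (fun a497 => forceL (mc2 a497) (fun a498 => forceL (mc4 a498) (fun a499 => forceL (mc3 a499) (fun a500 => forceL (mc3 a500) (fun a501 => forceL (mc1 a501) (fun a502 => forceL (mc1 a502) (fun a503 => forceL (mc1 a503) (fun a504 => a504))))))))))))))))))))))))))))))))))))))))))))))))))))))))))))))))))))))))))))))))))))))))))))))))))))))))))))))))))))))))))))))))))))))))))))))))))))))))))))))))))))))))))))))))))))))))))))))))))))))))))))))))))))))))))))))))))))))))))))))))))))))))))))))))))))))))))))))))))))))))))))))))))))))))))))))))))))))))))))))))))))))))))))))))))))))))))))))))))))))))))))))))))))))))))))))))))))))))))))))))))))))))))))))))))))))))))))))))))))))))))))))))))))))))))))))))))))))))))))))))))))))))))))))))))))))))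
set_option maxRecDepth 1000000 in
def W_29 (v : ℕ) : ℕ := forceL (mc5 v) (fun a1 => forceL (mc3 a1) (fun a2 => forceL (mc3 a2) (fun a3 => forceL (mc3 a3) (fun a4 => forceL (mc0 a4) (fun a5 => forceL (mc0 a5) (fun a6 => forceL (mc0 a6) (fun a7 => forceL (mc3 a7) (fun a8 => forceL (mc3 a8) (fun a9 => forceL (mc3 a9) (fun a10 => forceL (mc4 a10) (fun a11 => forceL (mc1 a11) (fun a12 => forceL (mc1 a12) (fun a13 => forceL (mc1 a13) (fun a14 => forceL (mc4 a14) (fun a15 => forceL (mc0 a15) (fun a16 => forceL (mc5 a16) (fun a17 => forceL (mc3 a17) (fun a18 => forceL (mc3 a18) (fun a19 => forceL (mc3 a19) (fun a20 => forceL (mc0 a20) (fun a21 => forceL (mc0 a21) (fun a22 => forceL (mc0 a22) (fun a23 => forceL (mc3 a23) (fun a24 => forceL (mc3 a24) (fun a25 => forceL (mc3 a25) (fun a26 => forceL (mc4 a26) (fun a27 => forceL (mc1 a27) (fun a28 => forceL (mc1 a28) (fun a29 => forceL (mc1 a29) (fun a30 => forceL (mc4 a30) (fun a31 => forceL (mc0 a31) (fun a32 => forceL (mc5 a32)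 (fun a33 => forceL (mc3 a33) (fun a34 => forceL (mc3 a34) (fun a35 => forceL (mc3 a35) (fun a36 => forceL (mc0 a36) (fun a37 => forceL (mc0 a37) (fun a38 => forceL (mc0 a38) (fun a39 => forceL (mc3 a39) (fun a40 => forceL (mc3 a40) (fun a41 => forceL (mc3 a41) (fun a42 => forceL (mc4 a42) (fun a43 => forceL (mc1 a43) (fun a44 => forceL (mc1 a44) (fun a45 => forceL (mc1 a45) (fun a46 => forceL (mc4 a46) (fun a47 => forceL (mc0 a47) (fun a48 => forceL (mc5 a48) (fun a49 => forceL (mc3 a49) (fun a50 => forceL (mc3 a50) (fun a51 => forceL (mc3 a51) (fun a52 => forceL (mc0 a52) (fun a53 => forceL (mc0 a53) (fun a54 => forceL (mc0 a54) (fun a55 => forceL (mc3 a55) (fun a56 => forceL (mc3 a56) (fun a57 => forceL (mc3 a57) (fun a58 => forceL (mc4 a58) (fun a59 => forceL (mc1 a59) (fun a60 => forceL (mc1 a60) (fun a61 => forceL (mc1 a61) (fun a62 => forceL (mc4 a62) (fun a63 => forceL (mc0 a63) (fun a64 => forceL (mc5 a64) (fun a65 => forceL (mc3 a65) (fun a66 => forceL (mc3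 a66) (fun a67 => forceL (mc3 a67) (fun a68 => forceL (mc0 a68) (fun a69 => forceL (mc0 a69) (fun a70 => forceL (mc0 a70) (fun a71 => forceL (mc3 a71) (fun a72 => forceL (mc3 a72) (fun a73 => forceL (mc3 a73) (fun a74 => forceL (mc4 a74) (fun a75 => forceL (mc1 a75) (fun a76 => forceL (mc1 a76) (fun a77 => forceL (mc1 a77) (fun a78 => forceL (mc4 a78) (fun a79 => forceL (mc0 a79) (fun a80 => forceL (mc5 a80) (fun a81 => forceL (mc3 a81) (fun a82 => forceL (mc3 a82) (fun a83 => forceL (mc3 a83) (fun a84 => forceL (mc0 a84) (fun a85 => forceL (mc0 a85) (fun a86 => forceL (mc0 a86) (fun a87 => forceL (mc3 a87) (fun a88 => forceL (mc3 a88) (fun a89 => forceL (mc3 a89) (fun a90 => forceL (mc4 a90) (fun a91 => forceL (mc1 a91) (fun a92 => forceL (mc1 a92) (fun a93 => forceL (mc1 a93) (fun a94 => forceL (mc4 a94) (fun a95 => forceL (mc0 a95) (fun a96 => forceL (mc5 a96) (fun a97 => forceL (mc3 a97) (fun a98 => forceL (mc3 a98) (fun a99 => forceL (mc3 a99) (fun a100 => forceL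 (mc0 a100) (fun a101 => forceL (mc0 a101) (fun a102 => forceL (mc0 a102) (fun a103 => forceL (mc3 a103) (fun a104 => forceL (mc3 a104) (fun a105 => forceL (mc3 a105) (fun a106 => forceL (mc4 a106) (fun a107 => forceL (mc1 a107) (fun a108 => forceL (mc1 a108) (fun a109 => forceL (mc1 a109) (fun a110 => forceL (mc4 a110) (fun a111 => forceL (mc0 a111) (fun a112 => forceL (mc5 a112) (fun a113 => forceL (mc3 a113) (fun a114 => forceL (mc3 a114) (fun a115 => forceL (mc3 a115) (fun a116 => forceL (mc0 a116) (fun a117 => forceL (mc0 a117) (fun a118 => forceL (mc0 a118) (fun a119 => forceL (mc3 a119) (fun a120 => forceL (mc3 a120) (fun a121 => forceL (mc3 a121) (fun a122 => forceL (mc4 a122) (fun a123 => forceL (mc1 a123) (fun a124 => forceL (mc1 a124) (fun a125 => forceL (mc1 a125) (fun a126 => forceL (mc4 a126) (fun a127 => forceL (mc0 a127) (fun a128 => forceL (mc5 a128) (fun a129 => forceL (mc3 a129) (fun a130 => forceL (mc3 a130) (fun a131 => forceL (mc3 a131) (fun a132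 => forceL (mc0 a132) (fun a133 => forceL (mc0 a133) (fun a134 => forceL (mc0 a134) (fun a135 => forceL (mc3 a135) (fun a136 => forceL (mc3 a136) (fun a137 => forceL (mc3 a137) (fun a138 => forceL (mc4 a138) (fun a139 => forceL (mc1 a139) (fun a140 => forceL (mc1 a140) (fun a141 => forceL (mc1 a141) (fun a142 => forceL (mc4 a142) (fun a143 => forceL (mc0 a143) (fun a144 => forceL (mc5 a144) (fun a145 => forceL (mc3 a145) (fun a146 => forceL (mc3 a146) (fun a147 => forceL (mc3 a147) (fun a148 => forceL (mc0 a148) (fun a149 => forceL (mc0 a149) (fun a150 => forceL (mc0 a150) (fun a151 => forceL (mc3 a151) (fun a152 => forceL (mc3 a152) (fun a153 => forceL (mc3 a153) (fun a154 => forceL (mc4 a154) (fun a155 => forceL (mc1 a155) (fun a156 => forceL (mc1 a156) (fun a157 => forceL (mc1 a157) (fun a158 => forceL (mc4 a158) (fun a159 => forceL (mc0 a159) (fun a160 => forceL (mc5 a160) (fun a161 => forceL (mc3 a161) (fun a162 => forceL (mc3 a162) (fun a163 => forceL (mc3 a163)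 (fun a164 => forceL (mc0 a164) (fun a165 => forceL (mc0 a165) (fun a166 => forceL (mc0 a166) (fun a167 => forceL (mc3 a167) (fun a168 => forceL (mc3 a168) (fun a169 => forceL (mc3 a169) (fun a170 => forceL (mc4 a170) (fun a171 => forceL (mc1 a171) (fun a172 => forceL (mc1 a172) (fun a173 => forceL (mc1 a173) (fun a174 => forceL (mc4 a174) (fun a175 => forceL (mc0 a175) (fun a176 => forceL (mc5 a176) (fun a177 => forceL (mc3 a177) (fun a178 => forceL (mc3 a178) (fun a179 => forceL (mc3 a179) (fun a180 => forceL (mc0 a180) (fun a181 => forceL (mc0 a181) (fun a182 => forceL (mc0 a182) (fun a183 => forceL (mc3 a183) (fun a184 => forceL (mc3 a184) (fun a185 => forceL (mc3 a185) (fun a186 => forceL (mc4 a186) (fun a187 => forceL (mc1 a187) (fun a188 => forceL (mc1 a188) (fun a189 => forceL (mc1 a189) (fun a190 => forceL (mc4 a190) (fun a191 => forceL (mc0 a191) (fun a192 => forceL (mc5 a192) (fun a193 => forceL (mc3 a193) (fun a194 => forceL (mc3 a194) (fun a195 => forceL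 (mc3 a195) (fun a196 => forceL (mc0 a196) (fun a197 => forceL (mc0 a197) (fun a198 => forceL (mc0 a198) (fun a199 => forceL (mc3 a199) (fun a200 => forceL (mc3 a200) (fun a201 => forceL (mc3 a201) (fun a202 => forceL (mc4 a202) (fun a203 => forceL (mc1 a203) (fun a204 => forceL (mc1 a204) (fun a205 => forceL (mc1 a205) (fun a206 => forceL (mc4 a206) (fun a207 => forceL (mc0 a207) (fun a208 => forceL (mc5 a208) (fun a209 => forceL (mc3 a209) (fun a210 => forceL (mc3 a210) (fun a211 => forceL (mc3 a211) (fun a212 => forceL (mc0 a212) (fun a213 => forceL (mc0 a213) (fun a214 => forceL (mc0 a214) (fun a215 => forceL (mc3 a215) (fun a216 => forceL (mc3 a216) (fun a217 => forceL (mc3 a217) (fun a218 => forceL (mc4 a218) (fun a219 => forceL (mc1 a219) (fun a220 => forceL (mc1 a220) (fun a221 => forceL (mc1 a221) (fun a222 => forceL (mc4 a222) (fun a223 => forceL (mc0 a223) (fun a224 => forceL (mc5 a224) (fun a225 => forceL (mc3 a225) (fun a226 => forceL (mc3 a226) (fun a227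 => forceL (mc3 a227) (fun a228 => forceL (mc0 a228) (fun a229 => forceL (mc0 a229) (fun a230 => forceL (mc0 a230) (fun a231 => forceL (mc3 a231) (fun a232 => forceL (mc3 a232) (fun a233 => forceL (mc3 a233) (fun a234 => forceL (mc4 a234) (fun a235 => forceL (mc1 a235) (fun a236 => forceL (mc1 a236) (fun a237 => forceL (mc1 a237) (fun a238 => forceL (mc4 a238) (fun a239 => forceL (mc0 a239) (fun a240 => forceL (mc5 a240) (fun a241 => forceL (mc3 a241) (fun a242 => forceL (mc3 a242) (fun a243 => forceL (mc3 a243) (fun a244 => forceL (mc0 a244) (fun a245 => forceL (mc0 a245) (fun a246 => forceL (mc0 a246) (fun a247 => forceL (mc3 a247) (fun a248 => forceL (mc3 a248) (fun a249 => forceL (mc3 a249) (fun a250 => forceL (mc4 a250) (fun a251 => forceL (mc1 a251) (fun a252 => forceL (mc1 a252) (fun a253 => forceL (mc1 a253) (fun a254 => forceL (mc4 a254) (fun a255 => forceL (mc0 a255) (fun a256 => forceL (mc5 a256) (fun a257 => forceL (mc3 a257) (fun a258 => forceL (mc3 a258)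 (fun a259 => forceL (mc3 a259) (fun a260 => forceL (mc0 a260) (fun a261 => forceL (mc0 a261) (fun a262 => forceL (mc0 a262) (fun a263 => forceL (mc3 a263) (fun a264 => forceL (mc3 a264) (fun a265 => forceL (mc3 a265) (fun a266 => forceL (mc4 a266) (fun a267 => forceL (mc1 a267) (fun a268 => forceL (mc1 a268) (fun a269 => forceL (mc1 a269) (fun a270 => forceL (mc4 a270) (fun a271 => forceL (mc0 a271) (fun a272 => forceL (mc5 a272) (fun a273 => forceL (mc3 a273) (fun a274 => forceL (mc3 a274) (fun a275 => forceL (mc3 a275) (fun a276 => forceL (mc0 a276) (fun a277 => forceL (mc0 a277) (fun a278 => forceL (mc0 a278) (fun a279 => forceL (mc3 a279) (fun a280 => forceL (mc3 a280) (fun a281 => forceL (mc3 a281) (fun a282 => forceL (mc4 a282) (fun a283 => forceL (mc1 a283) (fun a284 => forceL (mc1 a284) (fun a285 => forceL (mc1 a285) (fun a286 => forceL (mc4 a286) (fun a287 => forceL (mc0 a287) (fun a288 => forceL (mc5 a288) (fun a289 => forceL (mc3 a289) (fun a290 => forceL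 (mc3 a290) (fun a291 => forceL (mc3 a291) (fun a292 => forceL (mc0 a292) (fun a293 => forceL (mc0 a293) (fun a294 => forceL (mc0 a294) (fun a295 => forceL (mc3 a295) (fun a296 => forceL (mc3 a296) (fun a297 => forceL (mc3 a297) (fun a298 => forceL (mc4 a298) (fun a299 => forceL (mc1 a299) (fun a300 => forceL (mc1 a300) (fun a301 => forceL (mc1 a301) (fun a302 => forceL (mc4 a302) (fun a303 => forceL (mc0 a303) (fun a304 => forceL (mc5 a304) (fun a305 => forceL (mc3 a305) (fun a306 => forceL (mc3 a306) (fun a307 => forceL (mc3 a307) (fun a308 => forceL (mc0 a308) (fun a309 => forceL (mc0 a309) (fun a310 => forceL (mc0 a310) (fun a311 => forceL (mc3 a311) (fun a312 => forceL (mc3 a312) (fun a313 => forceL (mc3 a313) (fun a314 => forceL (mc4 a314) (fun a315 => forceL (mc1 a315) (fun a316 => forceL (mc1 a316) (fun a317 => forceL (mc1 a317) (fun a318 => forceL (mc4 a318) (fun a319 => forceL (mc0 a319) (fun a320 => forceL (mc5 a320) (fun a321 => forceL (mc3 a321) (fun a322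 => forceL (mc3 a322) (fun a323 => forceL (mc3 a323) (fun a324 => forceL (mc0 a324) (fun a325 => forceL (mc0 a325) (fun a326 => forceL (mc0 a326) (fun a327 => forceL (mc3 a327) (fun a328 => forceL (mc3 a328) (fun a329 => forceL (mc3 a329) (fun a330 => forceL (mc4 a330) (fun a331 => forceL (mc1 a331) (fun a332 => forceL (mc1 a332) (fun a333 => forceL (mc1 a333) (fun a334 => forceL (mc4 a334) (fun a335 => forceL (mc0 a335) (fun a336 => forceL (mc5 a336) (fun a337 => forceL (mc3 a337) (fun a338 => forceL (mc3 a338) (fun a339 => forceL (mc3 a339) (fun a340 => forceL (mc0 a340) (fun a341 => forceL (mc0 a341) (fun a342 => forceL (mc0 a342) (fun a343 => forceL (mc3 a343) (fun a344 => forceL (mc3 a344) (fun a345 => forceL (mc3 a345) (fun a346 => forceL (mc4 a346) (fun a347 => forceL (mc1 a347) (fun a348 => forceL (mc1 a348) (fun a349 => forceL (mc1 a349) (fun a350 => forceL (mc4 a350) (fun a351 => forceL (mc0 a351) (fun a352 => forceL (mc5 a352) (fun a353 => forceL (mc3 a353)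 (fun a354 => forceL (mc3 a354) (fun a355 => forceL (mc3 a355) (fun a356 => forceL (mc0 a356) (fun a357 => forceL (mc0 a357) (fun a358 => forceL (mc0 a358) (fun a359 => forceL (mc3 a359) (fun a360 => forceL (mc3 a360) (fun a361 => forceL (mc3 a361) (fun a362 => forceL (mc4 a362) (fun a363 => forceL (mc1 a363) (fun a364 => forceL (mc1 a364) (fun a365 => forceL (mc1 a365) (fun a366 => forceL (mc4 a366) (fun a367 => forceL (mc0 a367) (fun a368 => forceL (mc5 a368) (fun a369 => forceL (mc3 a369) (fun a370 => forceL (mc3 a370) (fun a371 => forceL (mc3 a371) (fun a372 => forceL (mc0 a372) (fun a373 => forceL (mc0 a373) (fun a374 => forceL (mc0 a374) (fun a375 => forceL (mc3 a375) (fun a376 => forceL (mc3 a376) (fun a377 => forceL (mc3 a377) (fun a378 => forceL (mc4 a378) (fun a379 => forceL (mc1 a379) (fun a380 => forceL (mc1 a380) (fun a381 => forceL (mc1 a381) (fun a382 => forceL (mc4 a382) (fun a383 => forceL (mc0 a383) (fun a384 => forceL (mc5 a384) (fun a385 => forceL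 (mc3 a385) (fun a386 => forceL (mc3 a386) (fun a387 => forceL (mc3 a387) (fun a388 => forceL (mc0 a388) (fun a389 => forceL (mc0 a389) (fun a390 => forceL (mc0 a390) (fun a391 => forceL (mc3 a391) (fun a392 => forceL (mc3 a392) (fun a393 => forceL (mc3 a393) (fun a394 => forceL (mc4 a394) (fun a395 => forceL (mc1 a395) (fun a396 => forceL (mc1 a396) (fun a397 => forceL (mc1 a397) (fun a398 => forceL (mc4 a398) (fun a399 => forceL (mc0 a399) (fun a400 => forceL (mc5 a400) (fun a401 => forceL (mc3 a401) (fun a402 => forceL (mc3 a402) (fun a403 => forceL (mc3 a403) (fun a404 => forceL (mc0 a404) (fun a405 => forceL (mc0 a405) (fun a406 => forceL (mc0 a406) (fun a407 => forceL (mc3 a407) (fun a408 => forceL (mc3 a408) (fun a409 => forceL (mc3 a409) (fun a410 => forceL (mc4 a410) (fun a411 => forceL (mc1 a411) (fun a412 => forceL (mc1 a412) (fun a413 => forceL (mc1 a413) (fun a414 => forceL (mc4 a414) (fun a415 => forceL (mc0 a415) (fun a416 => forceL (mc5 a416) (fun a417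 => forceL (mc3 a417) (fun a418 => forceL (mc3 a418) (fun a419 => forceL (mc3 a419) (fun a420 => forceL (mc0 a420) (fun a421 => forceL (mc0 a421) (fun a422 => forceL (mc0 a422) (fun a423 => forceL (mc3 a423) (fun a424 => forceL (mc3 a424) (fun a425 => forceL (mc3 a425) (fun a426 => forceL (mc4 a426) (fun a427 => forceL (mc1 a427) (fun a428 => forceL (mc1 a428) (fun a429 => forceL (mc1 a429) (fun a430 => forceL (mc4 a430) (fun a431 => forceL (mc0 a431) (fun a432 => forceL (mc5 a432) (fun a433 => forceL (mc3 a433) (fun a434 => forceL (mc3 a434) (fun a435 => forceL (mc3 a435) (fun a436 => forceL (mc0 a436) (fun a437 => forceL (mc0 a437) (fun a438 => forceL (mc0 a438) (fun a439 => forceL (mc3 a439) (fun a440 => forceL (mc3 a440) (fun a441 => forceL (mc3 a441) (fun a442 => forceL (mc4 a442) (fun a443 => forceL (mc1 a443) (fun a444 => forceL (mc1 a444) (fun a445 => forceL (mc1 a445) (fun a446 => forceL (mc4 a446) (fun a447 => forceL (mc0 a447) (fun a448 => forceL (mc5 a448)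 (fun a449 => forceL (mc3 a449) (fun a450 => forceL (mc3 a450) (fun a451 => forceL (mc3 a451) (fun a452 => forceL (mc0 a452) (fun a453 => forceL (mc0 a453) (fun a454 => forceL (mc0 a454) (fun a455 => forceL (mc3 a455) (fun a456 => forceL (mc3 a456) (fun a457 => forceL (mc3 a457) (fun a458 => forceL (mc4 a458) (fun a459 => forceL (mc1 a459) (fun a460 => forceL (mc1 a460) (fun a461 => forceL (mc1 a461) (fun a462 => forceL (mc4 a462) (fun a463 => forceL (mc0 a463) (fun a464 => forceL (mc5 a464) (fun a465 => forceL (mc3 a465) (fun a466 => forceL (mc3 a466) (fun a467 => forceL (mc3 a467) (fun a468 => forceL (mc0 a468) (fun a469 => forceL (mc0 a469) (fun a470 => forceL (mc0 a470) (fun a471 => forceL (mc3 a471) (fun a472 => forceL (mc3 a472) (fun a473 => forceL (mc3 a473) (fun a474 => forceL (mc4 a474) (fun a475 => forceL (mc1 a475) (fun a476 => forceL (mc1 a476) (fun a477 => forceL (mc1 a477) (fun a478 => forceL (mc4 a478) (fun a479 => forceL (mc0 a479) (fun a480 => forceL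 (mc5 a480) (fun a481 => forceL (mc3 a481) (fun a482 => forceL (mc3 a482) (fun a483 => forceL (mc3 a483) (fun a484 => forceL (mc0 a484) (fun a485 => forceL (mc0 a485) (fun a486 => forceL (mc0 a486) (fun a487 => forceL (mc3 a487) (fun a488 => forceL (mc3 a488) (fun a489 => forceL (mc3 a489) (fun a490 => forceL (mc4 a490) (fun a491 => forceL (mc1 a491) (fun a492 => forceL (mc1 a492) (fun a493 => forceL (mc1 a493) (fun a494 => forceL (mc4 a494) (fun a495 => forceL (mc0 a495) (fun a496 => forceL (mc5 a496) (fun a497 => forceL (mc3 a497) (fun a498 => forceL (mc3 a498) (fun a499 => forceL (mc3 a499) (fun a500 => forceL (mc0 a500) (fun a501 => forceL (mc0 a501) (fun a502 => forceL (mc0 a502) (fun a503 => forceL (mc3 a503) (fun a504 => forceL (mc3 a504) (fun a505 => forceL (mc3 a505) (fun a506 => forceL (mc4 a506) (fun a507 => forceL (mc1 a507) (fun a508 => forceL (mc1 a508) (fun a509 => forceL (mc1 a509) (fun a510 => forceL (mc4 a510) (fun a511 => forceL (mc0 a511) (fun a512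 => forceL (mc5 a512) (fun a513 => forceL (mc3 a513) (fun a514 => forceL (mc3 a514) (fun a515 => forceL (mc3 a515) (fun a516 => forceL (mc0 a516) (fun a517 => forceL (mc0 a517) (fun a518 => forceL (mc0 a518) (fun a519 => forceL (mc3 a519) (fun a520 => forceL (mc3 a520) (fun a521 => forceL (mc3 a521) (fun a522 => forceL (mc4 a522) (fun a523 => forceL (mc1 a523) (fun a524 => forceL (mc1 a524) (fun a525 => forceL (mc1 a525) (fun a526 => forceL (mc4 a526) (fun a527 => forceL (mc0 a527) (fun a528 => forceL (mc5 a528) (fun a529 => forceL (mc3 a529) (fun a530 => forceL (mc3 a530) (fun a531 => forceL (mc3 a531) (fun a532 => forceL (mc0 a532) (fun a533 => forceL (mc0 a533) (fun a534 => forceL (mc0 a534) (fun a535 => forceL (mc3 a535) (fun a536 => forceL (mc3 a536) (fun a537 => forceL (mc3 a537) (fun a538 => forceL (mc4 a538) (fun a539 => forceL (mc1 a539) (fun a540 => forceL (mc1 a540) (fun a541 => forceL (mc1 a541) (fun a542 => forceL (mc4 a542) (fun a543 => forceL (mc0 a543)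 (fun a544 => forceL (mc5 a544) (fun a545 => forceL (mc3 a545) (fun a546 => forceL (mc3 a546) (fun a547 => forceL (mc3 a547) (fun a548 => forceL (mc0 a548) (fun a549 => forceL (mc0 a549) (fun a550 => forceL (mc0 a550) (fun a551 => forceL (mc3 a551) (fun a552 => forceL (mc3 a552) (fun a553 => forceL (mc3 a553) (fun a554 => forceL (mc4 a554) (fun a555 => forceL (mc1 a555) (fun a556 => forceL (mc1 a556) (fun a557 => forceL (mc1 a557) (fun a558 => forceL (mc4 a558) (fun a559 => forceL (mc0 a559) (fun a560 => forceL (mc5 a560) (fun a561 => forceL (mc3 a561) (fun a562 => forceL (mc3 a562) (fun a563 => forceL (mc3 a563) (fun a564 => forceL (mc0 a564) (fun a565 => forceL (mc0 a565) (fun a566 => forceL (mc0 a566) (fun a567 => forceL (mc3 a567) (fun a568 => forceL (mc3 a568) (fun a569 => forceL (mc3 a569) (fun a570 => forceL (mc4 a570) (fun a571 => forceL (mc1 a571) (fun a572 => forceL (mc1 a572) (fun a573 => forceL (mc1 a573) (fun a574 => forceL (mc4 a574) (fun a575 => forceL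 (mc0 a575) (fun a576 => a576))))))))))))))))))))))))))))))))))))))))))))))))))))))))))))))))))))))))))))))))))))))))))))))))))))))))))))))))))))))))))))))))))))))))))))))))))))))))))))))))))))))))))))))))))))))))))))))))))))))))))))))))))))))))))))))))))))))))))))))))))))))))))))))))))))))))))))))))))))))))))))))))))))))))))))))))))))))))))))))))))))))))))))))))))))))))))))))))))))))))))))))))))))))))))))))))))))))))))))))))))))))))))))))))))))))))))))))))))))))))))))))))))))))))))))))))))))))))))))))))))))))))))))))))))))))))))))))))))))))))))))))))))))))))))))))))))))))))))))))))))))))))))))))))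
set_option maxRecDepth 1000000 in
def W_30 (v : ℕ) : ℕ := forceL (mc3 v) (fun a1 => forceL (mc0 a1) (fun a2 => forceL (mc3 a2) (fun a3 => forceL (mc0 a3) (fun a4 => forceL (mc3 a4) (fun a5 => forceL (mc0 a5) (fun a6 => forceL (mc3 a6) (fun a7 => forceL (mc0 a7) (fun a8 => forceL (mc3 a8) (fun a9 => forceL (mc0 a9) (fun a10 => forceL (mc3 a10) (fun a11 => forceL (mc0 a11) (fun a12 => forceL (mc3 a12) (fun a13 => forceL (mc0 a13) (fun a14 => forceL (mc3 a14) (fun a15 => forceL (mc0 a15) (fun a16 => forceL (mc3 a16) (fun a17 => forceL (mc0 a17) (fun a18 => forceL (mc3 a18) (fun a19 => forceL (mc0 a19) (fun a20 => forceL (mc3 a20) (fun a21 => forceL (mc0 a21) (fun a22 => forceL (mc3 a22) (fun a23 => forceL (mc0 a23) (fun a24 => forceL (mc3 a24) (fun a25 => forceL (mc0 a25) (fun a26 => forceL (mc3 a26) (fun a27 => forceL (mc0 a27) (fun a28 => forceL (mc3 a28) (fun a29 => forceL (mc0 a29) (fun a30 => forceL (mc3 a30) (fun a31 => forceL (mc0 a31) (fun a32 => forceL (mc3 a32)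 (fun a33 => forceL (mc0 a33) (fun a34 => forceL (mc3 a34) (fun a35 => forceL (mc0 a35) (fun a36 => forceL (mc3 a36) (fun a37 => forceL (mc0 a37) (fun a38 => forceL (mc3 a38) (fun a39 => forceL (mc0 a39) (fun a40 => forceL (mc3 a40) (fun a41 => forceL (mc0 a41) (fun a42 => forceL (mc3 a42) (fun a43 => forceL (mc0 a43) (fun a44 => forceL (mc3 a44) (fun a45 => forceL (mc0 a45) (fun a46 => forceL (mc3 a46) (fun a47 => forceL (mc0 a47) (fun a48 => forceL (mc3 a48) (fun a49 => forceL (mc0 a49) (fun a50 => forceL (mc3 a50) (fun a51 => forceL (mc0 a51) (fun a52 => forceL (mc3 a52) (fun a53 => forceL (mc0 a53) (fun a54 => forceL (mc3 a54) (fun a55 => forceL (mc0 a55) (fun a56 => forceL (mc3 a56) (fun a57 => forceL (mc0 a57) (fun a58 => forceL (mc3 a58) (fun a59 => forceL (mc0 a59) (fun a60 => forceL (mc3 a60) (fun a61 => forceL (mc0 a61) (fun a62 => forceL (mc3 a62) (fun a63 => forceL (mc0 a63) (fun a64 => forceL (mc3 a64) (fun a65 => forceL (mc0 a65) (fun a66 => forceL (mc3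 a66) (fun a67 => forceL (mc0 a67) (fun a68 => forceL (mc3 a68) (fun a69 => forceL (mc0 a69) (fun a70 => forceL (mc3 a70) (fun a71 => forceL (mc0 a71) (fun a72 => forceL (mc3 a72) (fun a73 => forceL (mc0 a73) (fun a74 => forceL (mc3 a74) (fun a75 => forceL (mc0 a75) (fun a76 => forceL (mc3 a76) (fun a77 => forceL (mc0 a77) (fun a78 => forceL (mc3 a78) (fun a79 => forceL (mc0 a79) (fun a80 => forceL (mc3 a80) (fun a81 => forceL (mc0 a81) (fun a82 => forceL (mc3 a82) (fun a83 => forceL (mc0 a83) (fun a84 => forceL (mc3 a84) (fun a85 => forceL (mc0 a85) (fun a86 => forceL (mc3 a86) (fun a87 => forceL (mc0 a87) (fun a88 => forceL (mc3 a88) (fun a89 => forceL (mc0 a89) (fun a90 => forceL (mc3 a90) (fun a91 => forceL (mc0 a91) (fun a92 => forceL (mc3 a92) (fun a93 => forceL (mc0 a93) (fun a94 => forceL (mc3 a94) (fun a95 => forceL (mc0 a95) (fun a96 => forceL (mc3 a96) (fun a97 => forceL (mc0 a97) (fun a98 => forceL (mc3 a98) (fun a99 => forceL (mc0 a99) (fun a100 => forceL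 (mc3 a100) (fun a101 => forceL (mc0 a101) (fun a102 => forceL (mc3 a102) (fun a103 => forceL (mc0 a103) (fun a104 => forceL (mc3 a104) (fun a105 => forceL (mc0 a105) (fun a106 => forceL (mc3 a106) (fun a107 => forceL (mc0 a107) (fun a108 => forceL (mc3 a108) (fun a109 => forceL (mc0 a109) (fun a110 => forceL (mc3 a110) (fun a111 => forceL (mc0 a111) (fun a112 => forceL (mc3 a112) (fun a113 => forceL (mc0 a113) (fun a114 => forceL (mc3 a114) (fun a115 => forceL (mc0 a115) (fun a116 => forceL (mc3 a116) (fun a117 => forceL (mc0 a117) (fun a118 => forceL (mc3 a118) (fun a119 => forceL (mc0 a119) (fun a120 => forceL (mc3 a120) (fun a121 => forceL (mc0 a121) (fun a122 => forceL (mc3 a122) (fun a123 => forceL (mc0 a123) (fun a124 => forceL (mc3 a124) (fun a125 => forceL (mc0 a125) (fun a126 => forceL (mc3 a126) (fun a127 => forceL (mc0 a127) (fun a128 => forceL (mc3 a128) (fun a129 => forceL (mc0 a129) (fun a130 => forceL (mc3 a130) (fun a131 => forceL (mc0 a131) (fun a132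 => forceL (mc3 a132) (fun a133 => forceL (mc0 a133) (fun a134 => forceL (mc3 a134) (fun a135 => forceL (mc0 a135) (fun a136 => forceL (mc3 a136) (fun a137 => forceL (mc0 a137) (fun a138 => forceL (mc3 a138) (fun a139 => forceL (mc0 a139) (fun a140 => forceL (mc3 a140) (fun a141 => forceL (mc0 a141) (fun a142 => forceL (mc3 a142) (fun a143 => forceL (mc0 a143) (fun a144 => forceL (mc3 a144) (fun a145 => forceL (mc0 a145) (fun a146 => forceL (mc3 a146) (fun a147 => forceL (mc0 a147) (fun a148 => forceL (mc3 a148) (fun a149 => forceL (mc0 a149) (fun a150 => forceL (mc3 a150) (fun a151 => forceL (mc0 a151) (fun a152 => forceL (mc3 a152) (fun a153 => forceL (mc0 a153) (fun a154 => forceL (mc3 a154) (fun a155 => forceL (mc0 a155) (fun a156 => forceL (mc3 a156) (fun a157 => forceL (mc0 a157) (fun a158 => forceL (mc3 a158) (fun a159 => forceL (mc0 a159) (fun a160 => forceL (mc3 a160) (fun a161 => forceL (mc0 a161) (fun a162 => forceL (mc3 a162) (fun a163 => forceL (mc0 a163)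 (fun a164 => forceL (mc3 a164) (fun a165 => forceL (mc0 a165) (fun a166 => forceL (mc3 a166) (fun a167 => forceL (mc0 a167) (fun a168 => forceL (mc3 a168) (fun a169 => forceL (mc0 a169) (fun a170 => forceL (mc3 a170) (fun a171 => forceL (mc0 a171) (fun a172 => forceL (mc3 a172) (fun a173 => forceL (mc0 a173) (fun a174 => forceL (mc3 a174) (fun a175 => forceL (mc0 a175) (fun a176 => forceL (mc3 a176) (fun a177 => forceL (mc0 a177) (fun a178 => forceL (mc3 a178) (fun a179 => forceL (mc0 a179) (fun a180 => forceL (mc3 a180) (fun a181 => forceL (mc0 a181) (fun a182 => forceL (mc3 a182) (fun a183 => forceL (mc0 a183) (fun a184 => forceL (mc3 a184) (fun a185 => forceL (mc0 a185) (fun a186 => forceL (mc3 a186) (fun a187 => forceL (mc0 a187) (fun a188 => forceL (mc3 a188) (fun a189 => forceL (mc0 a189) (fun a190 => forceL (mc3 a190) (fun a191 => forceL (mc0 a191) (fun a192 => forceL (mc3 a192) (fun a193 => forceL (mc0 a193) (fun a194 => forceL (mc3 a194) (fun a195 => forceL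 (mc0 a195) (fun a196 => forceL (mc3 a196) (fun a197 => forceL (mc0 a197) (fun a198 => forceL (mc3 a198) (fun a199 => forceL (mc0 a199) (fun a200 => forceL (mc3 a200) (fun a201 => forceL (mc0 a201) (fun a202 => forceL (mc3 a202) (fun a203 => forceL (mc0 a203) (fun a204 => forceL (mc3 a204) (fun a205 => forceL (mc0 a205) (fun a206 => forceL (mc3 a206) (fun a207 => forceL (mc0 a207) (fun a208 => forceL (mc3 a208) (fun a209 => forceL (mc0 a209) (fun a210 => forceL (mc3 a210) (fun a211 => forceL (mc0 a211) (fun a212 => forceL (mc3 a212) (fun a213 => forceL (mc0 a213) (fun a214 => forceL (mc3 a214) (fun a215 => forceL (mc0 a215) (fun a216 => a216))))))))))))))))))))))))))))))))))))))))))))))))))))))))))))))))))))))))))))))))))))))))))))))))))))))))))))))))))))))))))))))))))))))))))))))))))))))))))))))))))))))))))))))))))))))))))))))))))))))))))))))))))))))))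
set_option maxRecDepth 1000000 in
def W_31 (v : ℕ) : ℕ := forceL (mc3 v) (fun a1 => forceL (mc1 a1) (fun a2 => forceL (mc3 a2) (fun a3 => forceL (mc1 a3) (fun a4 => forceL (mc3 a4) (fun a5 => forceL (mc1 a5) (fun a6 => forceL (mc3 a6) (fun a7 => forceL (mc1 a7) (fun a8 => forceL (mc3 a8) (fun a9 => forceL (mc1 a9) (fun a10 => forceL (mc3 a10) (fun a11 => forceL (mc1 a11) (fun a12 => forceL (mc3 a12) (fun a13 => forceL (mc1 a13) (fun a14 => forceL (mc3 a14) (fun a15 => forceL (mc1 a15) (fun a16 => forceL (mc3 a16) (fun a17 => forceL (mc1 a17) (fun a18 => forceL (mc3 a18) (fun a19 => forceL (mc1 a19) (fun a20 => forceL (mc3 a20) (fun a21 => forceL (mc1 a21) (fun a22 => forceL (mc3 a22) (fun a23 => forceL (mc1 a23) (fun a24 => forceL (mc3 a24) (fun a25 => forceL (mc1 a25) (fun a26 => forceL (mc3 a26) (fun a27 => forceL (mc1 a27) (fun a28 => forceL (mc3 a28) (fun a29 => forceL (mc1 a29) (fun a30 => forceL (mc3 a30) (fun a31 => forceL (mc1 a31) (fun a32 => forceL (mc3 a32)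 (fun a33 => forceL (mc1 a33) (fun a34 => forceL (mc3 a34) (fun a35 => forceL (mc1 a35) (fun a36 => forceL (mc3 a36) (fun a37 => forceL (mc1 a37) (fun a38 => forceL (mc3 a38) (fun a39 => forceL (mc1 a39) (fun a40 => forceL (mc3 a40) (fun a41 => forceL (mc1 a41) (fun a42 => forceL (mc3 a42) (fun a43 => forceL (mc1 a43) (fun a44 => forceL (mc3 a44) (fun a45 => forceL (mc1 a45) (fun a46 => forceL (mc3 a46) (fun a47 => forceL (mc1 a47) (fun a48 => forceL (mc3 a48) (fun a49 => forceL (mc1 a49) (fun a50 => forceL (mc3 a50) (fun a51 => forceL (mc1 a51) (fun a52 => forceL (mc3 a52) (fun a53 => forceL (mc1 a53) (fun a54 => forceL (mc3 a54) (fun a55 => forceL (mc1 a55) (fun a56 => forceL (mc3 a56) (fun a57 => forceL (mc1 a57) (fun a58 => forceL (mc3 a58) (fun a59 => forceL (mc1 a59) (fun a60 => forceL (mc3 a60) (fun a61 => forceL (mc1 a61) (fun a62 => forceL (mc3 a62) (fun a63 => forceL (mc1 a63) (fun a64 => forceL (mc3 a64) (fun a65 => forceL (mc1 a65) (fun a66 => forceL (mc3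 a66) (fun a67 => forceL (mc1 a67) (fun a68 => forceL (mc3 a68) (fun a69 => forceL (mc1 a69) (fun a70 => forceL (mc3 a70) (fun a71 => forceL (mc1 a71) (fun a72 => forceL (mc3 a72) (fun a73 => forceL (mc1 a73) (fun a74 => forceL (mc3 a74) (fun a75 => forceL (mc1 a75) (fun a76 => forceL (mc3 a76) (fun a77 => forceL (mc1 a77) (fun a78 => forceL (mc3 a78) (fun a79 => forceL (mc1 a79) (fun a80 => forceL (mc3 a80) (fun a81 => forceL (mc1 a81) (fun a82 => forceL (mc3 a82) (fun a83 => forceL (mc1 a83) (fun a84 => forceL (mc3 a84) (fun a85 => forceL (mc1 a85) (fun a86 => forceL (mc3 a86) (fun a87 => forceL (mc1 a87) (fun a88 => forceL (mc3 a88) (fun a89 => forceL (mc1 a89) (fun a90 => forceL (mc3 a90) (fun a91 => forceL (mc1 a91) (fun a92 => forceL (mc3 a92) (fun a93 => forceL (mc1 a93) (fun a94 => forceL (mc3 a94) (fun a95 => forceL (mc1 a95) (fun a96 => forceL (mc3 a96) (fun a97 => forceL (mc1 a97) (fun a98 => forceL (mc3 a98) (fun a99 => forceL (mc1 a99) (fun a100 => forceL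 (mc3 a100) (fun a101 => forceL (mc1 a101) (fun a102 => forceL (mc3 a102) (fun a103 => forceL (mc1 a103) (fun a104 => forceL (mc3 a104) (fun a105 => forceL (mc1 a105) (fun a106 => forceL (mc3 a106) (fun a107 => forceL (mc1 a107) (fun a108 => forceL (mc3 a108) (fun a109 => forceL (mc1 a109) (fun a110 => forceL (mc3 a110) (fun a111 => forceL (mc1 a111) (fun a112 => forceL (mc3 a112) (fun a113 => forceL (mc1 a113) (fun a114 => forceL (mc3 a114) (fun a115 => forceL (mc1 a115) (fun a116 => forceL (mc3 a116) (fun a117 => forceL (mc1 a117) (fun a118 => forceL (mc3 a118) (fun a119 => forceL (mc1 a119) (fun a120 => forceL (mc3 a120) (fun a121 => forceL (mc1 a121) (fun a122 => forceL (mc3 a122) (fun a123 => forceL (mc1 a123) (fun a124 => forceL (mc3 a124) (fun a125 => forceL (mc1 a125) (fun a126 => forceL (mc3 a126) (fun a127 => forceL (mc1 a127) (fun a128 => forceL (mc3 a128) (fun a129 => forceL (mc1 a129) (fun a130 => forceL (mc3 a130) (fun a131 => forceL (mc1 a131) (fun a132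 => forceL (mc3 a132) (fun a133 => forceL (mc1 a133) (fun a134 => forceL (mc3 a134) (fun a135 => forceL (mc1 a135) (fun a136 => forceL (mc3 a136) (fun a137 => forceL (mc1 a137) (fun a138 => forceL (mc3 a138) (fun a139 => forceL (mc1 a139) (fun a140 => forceL (mc3 a140) (fun a141 => forceL (mc1 a141) (fun a142 => forceL (mc3 a142) (fun a143 => forceL (mc1 a143) (fun a144 => forceL (mc3 a144) (fun a145 => forceL (mc1 a145) (fun a146 => forceL (mc3 a146) (fun a147 => forceL (mc1 a147) (fun a148 => forceL (mc3 a148) (fun a149 => forceL (mc1 a149) (fun a150 => forceL (mc3 a150) (fun a151 => forceL (mc1 a151) (fun a152 => forceL (mc3 a152) (fun a153 => forceL (mc1 a153) (fun a154 => forceL (mc3 a154) (fun a155 => forceL (mc1 a155) (fun a156 => forceL (mc3 a156) (fun a157 => forceL (mc1 a157) (fun a158 => forceL (mc3 a158) (fun a159 => forceL (mc1 a159) (fun a160 => forceL (mc3 a160) (fun a161 => forceL (mc1 a161) (fun a162 => forceL (mc3 a162) (fun a163 => forceL (mc1 a163)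 (fun a164 => forceL (mc3 a164) (fun a165 => forceL (mc1 a165) (fun a166 => forceL (mc3 a166) (fun a167 => forceL (mc1 a167) (fun a168 => forceL (mc3 a168) (fun a169 => forceL (mc1 a169) (fun a170 => forceL (mc3 a170) (fun a171 => forceL (mc1 a171) (fun a172 => forceL (mc3 a172) (fun a173 => forceL (mc1 a173) (fun a174 => forceL (mc3 a174) (fun a175 => forceL (mc1 a175) (fun a176 => forceL (mc3 a176) (fun a177 => forceL (mc1 a177) (fun a178 => forceL (mc3 a178) (fun a179 => forceL (mc1 a179) (fun a180 => forceL (mc3 a180) (fun a181 => forceL (mc1 a181) (fun a182 => forceL (mc3 a182) (fun a183 => forceL (mc1 a183) (fun a184 => forceL (mc3 a184) (fun a185 => forceL (mc1 a185) (fun a186 => forceL (mc3 a186) (fun a187 => forceL (mc1 a187) (fun a188 => forceL (mc3 a188) (fun a189 => forceL (mc1 a189) (fun a190 => forceL (mc3 a190) (fun a191 => forceL (mc1 a191) (fun a192 => forceL (mc3 a192) (fun a193 => forceL (mc1 a193) (fun a194 => forceL (mc3 a194) (fun a195 => forceL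 (mc1 a195) (fun a196 => forceL (mc3 a196) (fun a197 => forceL (mc1 a197) (fun a198 => forceL (mc3 a198) (fun a199 => forceL (mc1 a199) (fun a200 => forceL (mc3 a200) (fun a201 => forceL (mc1 a201) (fun a202 => forceL (mc3 a202) (fun a203 => forceL (mc1 a203) (fun a204 => forceL (mc3 a204) (fun a205 => forceL (mc1 a205) (fun a206 => forceL (mc3 a206) (fun a207 => forceL (mc1 a207) (fun a208 => forceL (mc3 a208) (fun a209 => forceL (mc1 a209) (fun a210 => forceL (mc3 a210) (fun a211 => forceL (mc1 a211) (fun a212 => forceL (mc3 a212) (fun a213 => forceL (mc1 a213) (fun a214 => forceL (mc3 a214) (fun a215 => forceL (mc1 a215) (fun a216 => forceL (mc3 a216) (fun a217 => forceL (mc1 a217) (fun a218 => forceL (mc3 a218) (fun a219 => forceL (mc1 a219) (fun a220 => forceL (mc3 a220) (fun a221 => forceL (mc1 a221) (fun a222 => forceL (mc3 a222) (fun a223 => forceL (mc1 a223) (fun a224 => forceL (mc3 a224) (fun a225 => forceL (mc1 a225) (fun a226 => forceL (mc3 a226) (fun a227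 => forceL (mc1 a227) (fun a228 => forceL (mc3 a228) (fun a229 => forceL (mc1 a229) (fun a230 => forceL (mc3 a230) (fun a231 => forceL (mc1 a231) (fun a232 => forceL (mc3 a232) (fun a233 => forceL (mc1 a233) (fun a234 => forceL (mc3 a234) (fun a235 => forceL (mc1 a235) (fun a236 => forceL (mc3 a236) (fun a237 => forceL (mc1 a237) (fun a238 => forceL (mc3 a238) (fun a239 => forceL (mc1 a239) (fun a240 => forceL (mc3 a240) (fun a241 => forceL (mc1 a241) (fun a242 => forceL (mc3 a242) (fun a243 => forceL (mc1 a243) (fun a244 => forceL (mc3 a244) (fun a245 => forceL (mc1 a245) (fun a246 => forceL (mc3 a246) (fun a247 => forceL (mc1 a247) (fun a248 => forceL (mc3 a248) (fun a249 => forceL (mc1 a249) (fun a250 => forceL (mc3 a250) (fun a251 => forceL (mc1 a251) (fun a252 => forceL (mc3 a252) (fun a253 => forceL (mc1 a253) (fun a254 => forceL (mc3 a254) (fun a255 => forceL (mc1 a255) (fun a256 => forceL (mc3 a256) (fun a257 => forceL (mc1 a257) (fun a258 => forceL (mc3 a258)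 (fun a259 => forceL (mc1 a259) (fun a260 => forceL (mc3 a260) (fun a261 => forceL (mc1 a261) (fun a262 => forceL (mc3 a262) (fun a263 => forceL (mc1 a263) (fun a264 => forceL (mc3 a264) (fun a265 => forceL (mc1 a265) (fun a266 => forceL (mc3 a266) (fun a267 => forceL (mc1 a267) (fun a268 => forceL (mc3 a268) (fun a269 => forceL (mc1 a269) (fun a270 => forceL (mc3 a270) (fun a271 => forceL (mc1 a271) (fun a272 => forceL (mc3 a272) (fun a273 => forceL (mc1 a273) (fun a274 => forceL (mc3 a274) (fun a275 => forceL (mc1 a275) (fun a276 => forceL (mc3 a276) (fun a277 => forceL (mc1 a277) (fun a278 => forceL (mc3 a278) (fun a279 => forceL (mc1 a279) (fun a280 => forceL (mc3 a280) (fun a281 => forceL (mc1 a281) (fun a282 => forceL (mc3 a282) (fun a283 => forceL (mc1 a283) (fun a284 => forceL (mc3 a284) (fun a285 => forceL (mc1 a285) (fun a286 => forceL (mc3 a286) (fun a287 => forceL (mc1 a287) (fun a288 => a288))))))))))))))))))))))))))))))))))))))))))))))))))))))))))))))))))))))))))))))))))))))))))))))))))))))))))))))))))))))))))))))))))))))))))))))))))))))))))))))))))))))))))))))))))))))))))))))))))))))))))))))))))))))))))))))))))))))))))))))))))))))))))))))))))))))))))))))))))))))))))))))))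
set_option maxRecDepth 1000000 in
def W_32 (v : ℕ) : ℕ := forceL (mc2 v) (fun a1 => forceL (mc2 a1) (fun a2 => forceL (mc0 a2) (fun a3 => forceL (mc0 a3) (fun a4 => forceL (mc2 a4) (fun a5 => forceL (mc2 a5) (fun a6 => forceL (mc1 a6) (fun a7 => forceL (mc3 a7) (fun a8 => forceL (mc1 a8) (fun a9 => forceL (mc3 a9) (fun a10 => forceL (mc3 a10) (fun a11 => forceL (mc0 a11) (fun a12 => forceL (mc2 a12) (fun a13 => forceL (mc2 a13) (fun a14 => forceL (mc0 a14) (fun a15 => forceL (mc0 a15) (fun a16 => forceL (mc2 a16) (fun a17 => forceL (mc2 a17) (fun a18 => forceL (mc1 a18) (fun a19 => forceL (mc3 a19) (fun a20 => forceL (mc1 a20) (fun a21 => forceL (mc3 a21) (fun a22 => forceL (mc3 a22) (fun a23 => forceL (mc0 a23) (fun a24 => forceL (mc2 a24) (fun a25 => forceL (mc2 a25) (fun a26 => forceL (mc0 a26) (fun a27 => forceL (mc0 a27) (fun a28 => forceL (mc2 a28) (fun a29 => forceL (mc2 a29) (fun a30 => forceL (mc1 a30) (fun a31 => forceL (mc3 a31) (fun a32 => forceL (mc1 a32)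 (fun a33 => forceL (mc3 a33) (fun a34 => forceL (mc3 a34) (fun a35 => forceL (mc0 a35) (fun a36 => forceL (mc2 a36) (fun a37 => forceL (mc2 a37) (fun a38 => forceL (mc0 a38) (fun a39 => forceL (mc0 a39) (fun a40 => forceL (mc2 a40) (fun a41 => forceL (mc2 a41) (fun a42 => forceL (mc1 a42) (fun a43 => forceL (mc3 a43) (fun a44 => forceL (mc1 a44) (fun a45 => forceL (mc3 a45) (fun a46 => forceL (mc3 a46) (fun a47 => forceL (mc0 a47) (fun a48 => forceL (mc2 a48) (fun a49 => forceL (mc2 a49) (fun a50 => forceL (mc0 a50) (fun a51 => forceL (mc0 a51) (fun a52 => forceL (mc2 a52) (fun a53 => forceL (mc2 a53) (fun a54 => forceL (mc1 a54) (fun a55 => forceL (mc3 a55) (fun a56 => forceL (mc1 a56) (fun a57 => forceL (mc3 a57) (fun a58 => forceL (mc3 a58) (fun a59 => forceL (mc0 a59) (fun a60 => forceL (mc2 a60) (fun a61 => forceL (mc2 a61) (fun a62 => forceL (mc0 a62) (fun a63 => forceL (mc0 a63) (fun a64 => forceL (mc2 a64) (fun a65 => forceL (mc2 a65) (fun a66 => forceL (mc1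 a66) (fun a67 => forceL (mc3 a67) (fun a68 => forceL (mc1 a68) (fun a69 => forceL (mc3 a69) (fun a70 => forceL (mc3 a70) (fun a71 => forceL (mc0 a71) (fun a72 => forceL (mc2 a72) (fun a73 => forceL (mc2 a73) (fun a74 => forceL (mc0 a74) (fun a75 => forceL (mc0 a75) (fun a76 => forceL (mc2 a76) (fun a77 => forceL (mc2 a77) (fun a78 => forceL (mc1 a78) (fun a79 => forceL (mc3 a79) (fun a80 => forceL (mc1 a80) (fun a81 => forceL (mc3 a81) (fun a82 => forceL (mc3 a82) (fun a83 => forceL (mc0 a83) (fun a84 => forceL (mc2 a84) (fun a85 => forceL (mc2 a85) (fun a86 => forceL (mc0 a86) (fun a87 => forceL (mc0 a87) (fun a88 => forceL (mc2 a88) (fun a89 => forceL (mc2 a89) (fun a90 => forceL (mc1 a90) (fun a91 => forceL (mc3 a91) (fun a92 => forceL (mc1 a92) (fun a93 => forceL (mc3 a93) (fun a94 => forceL (mc3 a94) (fun a95 => forceL (mc0 a95) (fun a96 => forceL (mc2 a96) (fun a97 => forceL (mc2 a97) (fun a98 => forceL (mc0 a98) (fun a99 => forceL (mc0 a99) (fun a100 => forceL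 (mc2 a100) (fun a101 => forceL (mc2 a101) (fun a102 => forceL (mc1 a102) (fun a103 => forceL (mc3 a103) (fun a104 => forceL (mc1 a104) (fun a105 => forceL (mc3 a105) (fun a106 => forceL (mc3 a106) (fun a107 => forceL (mc0 a107) (fun a108 => forceL (mc2 a108) (fun a109 => forceL (mc2 a109) (fun a110 => forceL (mc0 a110) (fun a111 => forceL (mc0 a111) (fun a112 => forceL (mc2 a112) (fun a113 => forceL (mc2 a113) (fun a114 => forceL (mc1 a114) (fun a115 => forceL (mc3 a115) (fun a116 => forceL (mc1 a116) (fun a117 => forceL (mc3 a117) (fun a118 => forceL (mc3 a118) (fun a119 => forceL (mc0 a119) (fun a120 => forceL (mc2 a120) (fun a121 => forceL (mc2 a121) (fun a122 => forceL (mc0 a122) (fun a123 => forceL (mc0 a123) (fun a124 => forceL (mc2 a124) (fun a125 => forceL (mc2 a125) (fun a126 => forceL (mc1 a126) (fun a127 => forceL (mc3 a127) (fun a128 => forceL (mc1 a128) (fun a129 => forceL (mc3 a129) (fun a130 => forceL (mc3 a130) (fun a131 => forceL (mc0 a131) (fun a132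 => forceL (mc2 a132) (fun a133 => forceL (mc2 a133) (fun a134 => forceL (mc0 a134) (fun a135 => forceL (mc0 a135) (fun a136 => forceL (mc2 a136) (fun a137 => forceL (mc2 a137) (fun a138 => forceL (mc1 a138) (fun a139 => forceL (mc3 a139) (fun a140 => forceL (mc1 a140) (fun a141 => forceL (mc3 a141) (fun a142 => forceL (mc3 a142) (fun a143 => forceL (mc0 a143) (fun a144 => forceL (mc2 a144) (fun a145 => forceL (mc2 a145) (fun a146 => forceL (mc0 a146) (fun a147 => forceL (mc0 a147) (fun a148 => forceL (mc2 a148) (fun a149 => forceL (mc2 a149) (fun a150 => forceL (mc1 a150) (fun a151 => forceL (mc3 a151) (fun a152 => forceL (mc1 a152) (fun a153 => forceL (mc3 a153) (fun a154 => forceL (mc3 a154) (fun a155 => forceL (mc0 a155) (fun a156 => forceL (mc2 a156) (fun a157 => forceL (mc2 a157) (fun a158 => forceL (mc0 a158) (fun a159 => forceL (mc0 a159) (fun a160 => forceL (mc2 a160) (fun a161 => forceL (mc2 a161) (fun a162 => forceL (mc1 a162) (fun a163 => forceL (mc3 a163)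 (fun a164 => forceL (mc1 a164) (fun a165 => forceL (mc3 a165) (fun a166 => forceL (mc3 a166) (fun a167 => forceL (mc0 a167) (fun a168 => forceL (mc2 a168) (fun a169 => forceL (mc2 a169) (fun a170 => forceL (mc0 a170) (fun a171 => forceL (mc0 a171) (fun a172 => forceL (mc2 a172) (fun a173 => forceL (mc2 a173) (fun a174 => forceL (mc1 a174) (fun a175 => forceL (mc3 a175) (fun a176 => forceL (mc1 a176) (fun a177 => forceL (mc3 a177) (fun a178 => forceL (mc3 a178) (fun a179 => forceL (mc0 a179) (fun a180 => forceL (mc2 a180) (fun a181 => forceL (mc2 a181) (fun a182 => forceL (mc0 a182) (fun a183 => forceL (mc0 a183) (fun a184 => forceL (mc2 a184) (fun a185 => forceL (mc2 a185) (fun a186 => forceL (mc1 a186) (fun a187 => forceL (mc3 a187) (fun a188 => forceL (mc1 a188) (fun a189 => forceL (mc3 a189) (fun a190 => forceL (mc3 a190) (fun a191 => forceL (mc0 a191) (fun a192 => forceL (mc2 a192) (fun a193 => forceL (mc2 a193) (fun a194 => forceL (mc0 a194) (fun a195 => forceL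 (mc0 a195) (fun a196 => forceL (mc2 a196) (fun a197 => forceL (mc2 a197) (fun a198 => forceL (mc1 a198) (fun a199 => forceL (mc3 a199) (fun a200 => forceL (mc1 a200) (fun a201 => forceL (mc3 a201) (fun a202 => forceL (mc3 a202) (fun a203 => forceL (mc0 a203) (fun a204 => forceL (mc2 a204) (fun a205 => forceL (mc2 a205) (fun a206 => forceL (mc0 a206) (fun a207 => forceL (mc0 a207) (fun a208 => forceL (mc2 a208) (fun a209 => forceL (mc2 a209) (fun a210 => forceL (mc1 a210) (fun a211 => forceL (mc3 a211) (fun a212 => forceL (mc1 a212) (fun a213 => forceL (mc3 a213) (fun a214 => forceL (mc3 a214) (fun a215 => forceL (mc0 a215) (fun a216 => forceL (mc2 a216) (fun a217 => forceL (mc2 a217) (fun a218 => forceL (mc0 a218) (fun a219 => forceL (mc0 a219) (fun a220 => forceL (mc2 a220) (fun a221 => forceL (mc2 a221) (fun a222 => forceL (mc1 a222) (fun a223 => forceL (mc3 a223) (fun a224 => forceL (mc1 a224) (fun a225 => forceL (mc3 a225) (fun a226 => forceL (mc3 a226) (fun a227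 => forceL (mc0 a227) (fun a228 => forceL (mc2 a228) (fun a229 => forceL (mc2 a229) (fun a230 => forceL (mc0 a230) (fun a231 => forceL (mc0 a231) (fun a232 => forceL (mc2 a232) (fun a233 => forceL (mc2 a233) (fun a234 => forceL (mc1 a234) (fun a235 => forceL (mc3 a235) (fun a236 => forceL (mc1 a236) (fun a237 => forceL (mc3 a237) (fun a238 => forceL (mc3 a238) (fun a239 => forceL (mc0 a239) (fun a240 => forceL (mc2 a240) (fun a241 => forceL (mc2 a241) (fun a242 => forceL (mc0 a242) (fun a243 => forceL (mc0 a243) (fun a244 => forceL (mc2 a244) (fun a245 => forceL (mc2 a245) (fun a246 => forceL (mc1 a246) (fun a247 => forceL (mc3 a247) (fun a248 => forceL (mc1 a248) (fun a249 => forceL (mc3 a249) (fun a250 => forceL (mc3 a250) (fun a251 => forceL (mc0 a251) (fun a252 => forceL (mc2 a252) (fun a253 => forceL (mc2 a253) (fun a254 => forceL (mc0 a254) (fun a255 => forceL (mc0 a255) (fun a256 => forceL (mc2 a256) (fun a257 => forceL (mc2 a257) (fun a258 => forceL (mc1 a258)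 (fun a259 => forceL (mc3 a259) (fun a260 => forceL (mc1 a260) (fun a261 => forceL (mc3 a261) (fun a262 => forceL (mc3 a262) (fun a263 => forceL (mc0 a263) (fun a264 => forceL (mc2 a264) (fun a265 => forceL (mc2 a265) (fun a266 => forceL (mc0 a266) (fun a267 => forceL (mc0 a267) (fun a268 => forceL (mc2 a268) (fun a269 => forceL (mc2 a269) (fun a270 => forceL (mc1 a270) (fun a271 => forceL (mc3 a271) (fun a272 => forceL (mc1 a272) (fun a273 => forceL (mc3 a273) (fun a274 => forceL (mc3 a274) (fun a275 => forceL (mc0 a275) (fun a276 => forceL (mc2 a276) (fun a277 => forceL (mc2 a277) (fun a278 => forceL (mc0 a278) (fun a279 => forceL (mc0 a279) (fun a280 => forceL (mc2 a280) (fun a281 => forceL (mc2 a281) (fun a282 => forceL (mc1 a282) (fun a283 => forceL (mc3 a283) (fun a284 => forceL (mc1 a284) (fun a285 => forceL (mc3 a285) (fun a286 => forceL (mc3 a286) (fun a287 => forceL (mc0 a287) (fun a288 => forceL (mc2 a288) (fun a289 => forceL (mc2 a289) (fun a290 => forceL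 (mc0 a290) (fun a291 => forceL (mc0 a291) (fun a292 => forceL (mc2 a292) (fun a293 => forceL (mc2 a293) (fun a294 => forceL (mc1 a294) (fun a295 => forceL (mc3 a295) (fun a296 => forceL (mc1 a296) (fun a297 => forceL (mc3 a297) (fun a298 => forceL (mc3 a298) (fun a299 => forceL (mc0 a299) (fun a300 => forceL (mc2 a300) (fun a301 => forceL (mc2 a301) (fun a302 => forceL (mc0 a302) (fun a303 => forceL (mc0 a303) (fun a304 => forceL (mc2 a304) (fun a305 => forceL (mc2 a305) (fun a306 => forceL (mc1 a306) (fun a307 => forceL (mc3 a307) (fun a308 => forceL (mc1 a308) (fun a309 => forceL (mc3 a309) (fun a310 => forceL (mc3 a310) (fun a311 => forceL (mc0 a311) (fun a312 => forceL (mc2 a312) (fun a313 => forceL (mc2 a313) (fun a314 => forceL (mc0 a314) (fun a315 => forceL (mc0 a315) (fun a316 => forceL (mc2 a316) (fun a317 => forceL (mc2 a317) (fun a318 => forceL (mc1 a318) (fun a319 => forceL (mc3 a319) (fun a320 => forceL (mc1 a320) (fun a321 => forceL (mc3 a321) (fun a322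 => forceL (mc3 a322) (fun a323 => forceL (mc0 a323) (fun a324 => forceL (mc2 a324) (fun a325 => forceL (mc2 a325) (fun a326 => forceL (mc0 a326) (fun a327 => forceL (mc0 a327) (fun a328 => forceL (mc2 a328) (fun a329 => forceL (mc2 a329) (fun a330 => forceL (mc1 a330) (fun a331 => forceL (mc3 a331) (fun a332 => forceL (mc1 a332) (fun a333 => forceL (mc3 a333) (fun a334 => forceL (mc3 a334) (fun a335 => forceL (mc0 a335) (fun a336 => forceL (mc2 a336) (fun a337 => forceL (mc2 a337) (fun a338 => forceL (mc0 a338) (fun a339 => forceL (mc0 a339) (fun a340 => forceL (mc2 a340) (fun a341 => forceL (mc2 a341) (fun a342 => forceL (mc1 a342) (fun a343 => forceL (mc3 a343) (fun a344 => forceL (mc1 a344) (fun a345 => forceL (mc3 a345) (fun a346 => forceL (mc3 a346) (fun a347 => forceL (mc0 a347) (fun a348 => forceL (mc2 a348) (fun a349 => forceL (mc2 a349) (fun a350 => forceL (mc0 a350) (fun a351 => forceL (mc0 a351) (fun a352 => forceL (mc2 a352) (fun a353 => forceL (mc2 a353)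 (fun a354 => forceL (mc1 a354) (fun a355 => forceL (mc3 a355) (fun a356 => forceL (mc1 a356) (fun a357 => forceL (mc3 a357) (fun a358 => forceL (mc3 a358) (fun a359 => forceL (mc0 a359) (fun a360 => forceL (mc2 a360) (fun a361 => forceL (mc2 a361) (fun a362 => forceL (mc0 a362) (fun a363 => forceL (mc0 a363) (fun a364 => forceL (mc2 a364) (fun a365 => forceL (mc2 a365) (fun a366 => forceL (mc1 a366) (fun a367 => forceL (mc3 a367) (fun a368 => forceL (mc1 a368) (fun a369 => forceL (mc3 a369) (fun a370 => forceL (mc3 a370) (fun a371 => forceL (mc0 a371) (fun a372 => forceL (mc2 a372) (fun a373 => forceL (mc2 a373) (fun a374 => forceL (mc0 a374) (fun a375 => forceL (mc0 a375) (fun a376 => forceL (mc2 a376) (fun a377 => forceL (mc2 a377) (fun a378 => forceL (mc1 a378) (fun a379 => forceL (mc3 a379) (fun a380 => forceL (mc1 a380) (fun a381 => forceL (mc3 a381) (fun a382 => forceL (mc3 a382) (fun a383 => forceL (mc0 a383) (fun a384 => forceL (mc2 a384) (fun a385 => forceL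 (mc2 a385) (fun a386 => forceL (mc0 a386) (fun a387 => forceL (mc0 a387) (fun a388 => forceL (mc2 a388) (fun a389 => forceL (mc2 a389) (fun a390 => forceL (mc1 a390) (fun a391 => forceL (mc3 a391) (fun a392 => forceL (mc1 a392) (fun a393 => forceL (mc3 a393) (fun a394 => forceL (mc3 a394) (fun a395 => forceL (mc0 a395) (fun a396 => forceL (mc2 a396) (fun a397 => forceL (mc2 a397) (fun a398 => forceL (mc0 a398) (fun a399 => forceL (mc0 a399) (fun a400 => forceL (mc2 a400) (fun a401 => forceL (mc2 a401) (fun a402 => forceL (mc1 a402) (fun a403 => forceL (mc3 a403) (fun a404 => forceL (mc1 a404) (fun a405 => forceL (mc3 a405) (fun a406 => forceL (mc3 a406) (fun a407 => forceL (mc0 a407) (fun a408 => forceL (mc2 a408) (fun a409 => forceL (mc2 a409) (fun a410 => forceL (mc0 a410) (fun a411 => forceL (mc0 a411) (fun a412 => forceL (mc2 a412) (fun a413 => forceL (mc2 a413) (fun a414 => forceL (mc1 a414) (fun a415 => forceL (mc3 a415) (fun a416 => forceL (mc1 a416) (fun a417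 => forceL (mc3 a417) (fun a418 => forceL (mc3 a418) (fun a419 => forceL (mc0 a419) (fun a420 => forceL (mc2 a420) (fun a421 => forceL (mc2 a421) (fun a422 => forceL (mc0 a422) (fun a423 => forceL (mc0 a423) (fun a424 => forceL (mc2 a424) (fun a425 => forceL (mc2 a425) (fun a426 => forceL (mc1 a426) (fun a427 => forceL (mc3 a427) (fun a428 => forceL (mc1 a428) (fun a429 => forceL (mc3 a429) (fun a430 => forceL (mc3 a430) (fun a431 => forceL (mc0 a431) (fun a432 => a432))))))))))))))))))))))))))))))))))))))))))))))))))))))))))))))))))))))))))))))))))))))))))))))))))))))))))))))))))))))))))))))))))))))))))))))))))))))))))))))))))))))))))))))))))))))))))))))))))))))))))))))))))))))))))))))))))))))))))))))))))))))))))))))))))))))))))))))))))))))))))))))))))))))))))))))))))))))))))))))))))))))))))))))))))))))))))))))))))))))))))))))))))))))))))))))))))))))))))))))))))))))))))))))))))))))))))))))))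

end Cfsg.Agent.Helper5.G23MD
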