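import Mathlib
import Cfsg.Agent.Helper5.G24MatA

/-! generated: root elements of `G₂(4)` as words in the images of the letters -/

set_option autoImplicit false

namespace Cfsg.Agent.Helper5.G24

set_option maxRecDepth 100000 in
theorem XX_eq_0 : ∀ t, t < 4 → XX 0 t = ((mword 0 t).map MM).prod := by decide +kernel

set_option maxRecDepth 100000 in
theorem XX_eq_1 : ∀ t, t < 4 → XX 1 t = ((mword 1 t).map MM).prod := by decide +kernel

end Cfsg.Agent.Helper5.G24
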