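import Mathlib
import Cfsg.Agent.Helper5.G24MatA

/-! generated: root elements of `G₂(4)` as words in the images of the letters -/

set_option autoImplicit false

namespace Cfsg.Agent.Helper5.G24

set_option maxRecDepth 100000 in
theorem XX_eq_10 : ∀ t, t < 4 → XX 10 t = ((mword 10 t).map MM).prod := by decide +kernel

set_option maxRecDepth 100000 in
theorem XX_eq_11 : ∀ t, t < 4 → XX 11 t = ((mword 11 t).map MM).prod := by decide +kernel

end Cfsg.Agent.Helper5.G24
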