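import Mathlib
import Cfsg.Prelude.Def_ChevG2
import Cfsg.Agent.Helper5.G24MatA

/-!
# The explicit root elements are those of the Chevalley datum of type `G₂`
-/

set_option autoImplicit false

namespace Cfsg.Agent.Helper5.G24

/-- the coordinates of the Chevalley datum of type `G₂`. -/
abbrev I14 : Type := Cfsg.Lie.chevG2.Idx

/-- the numbering of the coordinates: `h₁, h₂; e_r`. -/
def e14f : Fin 14 → I14 :=
  fun i => if h : i.val < 2 then .inl ⟨i.val, h⟩ else .inr ⟨i.val - 2, by
    have := i.isLt
    show i.val - 2 < 12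
    omega⟩

/-- the inverse numbering. -/
def e14g : I14 → Fin 14
  | .inl i => ⟨i.val, by
    have : i.val < 2 := i.isLt
    omega⟩
  | .inr i => ⟨i.val + 2, by
    have : i.val < 12 := i.isLt
    omega⟩

/-- the numbering of the coordinates as an equivalence. -/
def e14 : Fin 14 ≃ I14 := ⟨e14f, e14g, by decide, by decide⟩

set_option maxRecDepth 100000 in
theorem xMat_eq : ∀ (r : Fin Cfsg.Lie.chevG2.nroots) (t : F4),
    Cfsg.Lie.chevG2.xMat F4 r t
      = ((XX r.val (tn t)).submatrix e14.symm e14.symm : Matrix I14 I14 F4) := by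
  decide +kernel

end Cfsg.Agent.Helper5.G24
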