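import Mathlib
import Cfsg.Agent.Helper5.LPL

/-!
# Central elements of list-presented groups through a faithful table, and parabolic subgroups
as images of sub-presentations
-/

set_option autoImplicit false

namespace Cfsg.Agent.Helper5.LP

open Cfsg.Agent.Helper5.TC Cfsg.Agent.Helper5.TCI

section
variable {k : ℕ} {R : List (List ℕ)}

/-- an element commuting with all generators is central. -/
theorem mem_center_of_comm_gens (z : LPG k R)
    (h : ∀ c, c < k → ev k R [c] * z = z * ev k R [c]) : z ∈ Subgroup.center (LPG k R) := by
  have hle : (⊤ : Subgroup (LPG k R)) ≤ Subgroup.centralizer {z} := by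
    rw [← closure_gens (k := k) (R := R), Subgroup.closure_le]
    rintro _ ⟨c, hc, rfl⟩
    rw [SetLike.mem_coe, Subgroup.mem_centralizer_iff]
    intro y hy
    rw [Set.mem_singleton_iff] at hy
    rw [hy]
    exact (h c hc).symm
  rw [Subgroup.mem_center_iff]
  intro g
  have := hle (Subgroup.mem_top g)
  rw [Subgroup.mem_centralizer_iff] at this
  exact (this z (Set.mem_singleton z)).symm

end

/-- the normal closure of a central element is the cyclic group it generates. -/
theorem normalClosure_eq_zpowers_of_central {G : Type*} [Group G] (z : G)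
    (hz : z ∈ Subgroup.center G) : Subgroup.normalClosure {z} = Subgroup.zpowers z := by
  apply le_antisymm
  · have : (Subgroup.zpowers z).Normal := by
      constructor
      intro n hn g
      have hn' : n ∈ Subgroup.center G :=
        (Subgroup.zpowers_le.mpr hz) hn
      have : g * n * g⁻¹ = n := by
        rw [(Subgroup.mem_center_iff.mp hn') g, mul_inv_cancel_right]
      rw [this]
      exact hn
    apply Subgroup.normalClosure_le_normal
    rw [Set.singleton_subset_iff]
    exact Subgroup.mem_zpowers z
  · rw [Subgroup.zpowers_le]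
    exact Subgroup.subset_normalClosure (Set.mem_singleton z)

/-! ### commutation of a tabulated permutation with a letter -/

/-- the tabulated permutation `px` commutes with the letter `c` on the points
`lo, …, lo + cnt - 1`. -/
def commRangeF (T : ℕ → ℕ → ℕ) (px : ℕ → ℕ) (c : ℕ) : ℕ → ℕ → Bool
  | 0, _ => true
  | cnt + 1, lo =>
    forceL (px lo) (fun u => forceL (T c lo) (fun w => Nat.beq (T c u) (px w))) &&
      forceL (Nat.add lo 1) (fun lo' => commRangeF T px c cnt lo')

theorem commRangeF_spec (T : ℕ → ℕ → ℕ) (px : ℕ → ℕ) (c : ℕ) : ∀ (cnt lo : ℕ),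
    commRangeF T px c cnt lo = true → ∀ v, lo ≤ v → v < lo + cnt → T c (px v) = px (T c v)
  | 0, lo, _, v, h1, h2 => by omega
  | cnt + 1, lo, h, v, h1, h2 => by
    rw [commRangeF, forceL_eq, forceL_eq, forceL_eq, Bool.and_eq_true] at h
    rcases Nat.eq_or_lt_of_le h1 with rfl | h1
    · exact Nat.eq_of_beq_eq_true h.1
    · exact commRangeF_spec T px c cnt (lo + 1) h.2 v h1 (by omega)

/-- all letters below `m` commute with the tabulated permutation. -/
def commAllF (T : ℕ → ℕ → ℕ) (px : ℕ → ℕ) (N : ℕ) : ℕ → Bool
  | 0 => true
  | m + 1 => commRangeF T px m N 0 && commAllF T px N m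

theorem commAllF_spec (T : ℕ → ℕ → ℕ) (px : ℕ → ℕ) (N : ℕ) : ∀ (m : ℕ),
    commAllF T px N m = true → ∀ c, c < m → ∀ v, v < N → T c (px v) = px (T c v)
  | 0, _, c, hc, _, _ => by omega
  | m + 1, h, c, hc, v, hv => by
    rw [commAllF, Bool.and_eq_true] at h
    rcases Nat.eq_or_lt_of_le (Nat.le_of_lt_succ hc) with rfl | hc'
    · exact commRangeF_spec T px c N 0 h.1 v (Nat.zero_le _) (by omega)
    · exact commAllF_spec T px N m h.2 c hc' v hv

section
variable {G : Type*} [Group G] {k N : ℕ} {T : ℕ → ℕ → ℕ}

/-- a word whose tabulated permutation commutes with a letter commutes with it, for a faithful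
action. -/
theorem comm_of_table {ρ : G →* Equiv.Perm (Fin N)} {e : List ℕ → G} (hA : ActsOn ρ e k T)
    (hinj : Function.Injective ρ) (hT : TableOK k N T) (zw : List ℕ) (hz : ∀ c ∈ zw, c < k)
    (px : ℕ → ℕ) (hag : agreeRangeF T zw px N 0 = true) (c : ℕ) (hc : c < k)
    (hcomm : ∀ v, v < N → T c (px v) = px (T c v)) : e ([c] ++ zw) = e (zw ++ [c]) := by
  have hag' : ∀ v, v < N → px v = actL T zw v := fun v hv =>
    agreeRangeF_spec T zw px N 0 hag v (Nat.zero_le _) (by omega)
  apply eq_of_act_eq hA hinj
  · intro d hd
    rcases List.mem_append.mp hd with hd | hd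
    · rw [List.mem_singleton.mp hd]; exact hc
    · exact hz d hd
  · intro d hd
    rcases List.mem_append.mp hd with hd | hd
    · exact hz d hd
    · rw [List.mem_singleton.mp hd]; exact hc
  · intro v hv
    rw [actL_append, actL_append]
    show T c (actL T zw v) = actL T zw (T c v)
    rw [← hag' v hv, ← hag' _ (hT c hc v hv).1]
    exact hcomm v hv

end

/-! ### a parabolic subgroup as the isomorphic image of a sub-presentation -/

section
variable {k : ℕ} {R : List (List ℕ)}

/-- if the order of the sub-presentation is at most the order of the parabolic subgroup, the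
homomorphism from the sub-presentation is injective. -/
theorem subHom_injective {k' : ℕ} {R' : List (List ℕ)} (hlt : LettersLt k' R')
    (hsub : ∀ l ∈ R', l ∈ R) [Finite (LPG k' R')]
    (hcard : Nat.card (LPG k' R') ≤ Nat.card (para k R k')) :
    Function.Injective (subHom k R hlt hsub) := by
  have h3 : Nat.card (LPG k' R') ≤ Nat.card (subHom k R hlt hsub).range := by
    rw [range_subHom hlt hsub]; exact hcard
  have hbij : Function.Bijective (subHom k R hlt hsub).rangeRestrict :=
    (Function.Surjective.bijective_of_nat_card_le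
      (subHom k R hlt hsub).rangeRestrict_surjective h3)
  intro a b hab
  apply hbij.1
  exact Subtype.ext hab

end

end Cfsg.Agent.Helper5.LP
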