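import Mathlib
import Cfsg.Prelude.Def_Spor_Suz
import Cfsg.Prelude.Def_Sporadic
import Cfsg.Agent.Helper5.LPCox
import Cfsg.Agent.Helper5.SuzLPD

/-!
# The presented Suzuki group is simple of order 448345497600
-/

set_option autoImplicit false

namespace Cfsg.Agent.Helper5.SuzLP

open Cfsg.Agent.Helper5.LP Cfsg.Spor

/-- numbering of the generators. -/
def idx : Suz.Gen → ℕ
  | .a => 0
  | .b => 1
  | .c => 2
  | .d => 3
  | .e => 4
  | .f => 5
  | .g => 6

/-- the generator with a given number. -/
def gen : ℕ → Suz.Gen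
  | 0 => .a
  | 1 => .b
  | 2 => .c
  | 3 => .d
  | 4 => .e
  | 5 => .f
  | _ => .g

theorem suz_equiv : Nonempty (Suz ≃* LPG 7 RA) :=
  cox_equiv Suz.edges Suz.extra 7 RA idx gen (by intro x; cases x <;> rfl)
    (by intro x; cases x <;> decide) (by intro c hc; interval_cases c <;> rfl)
    (by intro x; cases x <;> decide) lettersA (by decide +kernel) (by decide +kernel)
    (by decide +kernel) (by decide +kernel)

/-- **The presented Suzuki group is simple of order 448345497600.** -/
theorem suz_isSuz : Cfsg.IsSuz Suz :=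
  cox_simple_card Suz.edges Suz.extra 7 RA suz_equiv simple_card

end Cfsg.Agent.Helper5.SuzLP
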