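import Mathlib
import Cfsg.Prelude.Def_Spor_Suz
import Cfsg.Prelude.Def_ChevG2
import Cfsg.Agent.Helper5.G24MatB0
import Cfsg.Agent.Helper5.G24MatB1
import Cfsg.Agent.Helper5.G24MatB2
import Cfsg.Agent.Helper5.G24MatB3
import Cfsg.Agent.Helper5.G24MatB4
import Cfsg.Agent.Helper5.G24MatB5
import Cfsg.Agent.Helper5.G24MatD
import Cfsg.Agent.Helper5.SuzIso
import Cfsg.Agent.Helper5.LPL
import Cfsg.Agent.Helper5.LPM

/-!
# The subgroup `⟨a, …, f⟩` of the presented `Suz` is `G₂(4)`

The group presented on `a, …, f` is simple of order 251596800 (`G24LPD`).  Six explicit matrices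
satisfying its relators are products of root elements of the Chevalley group of type `G₂` over
the field with four elements, and every root element is a product of these matrices: this gives
an isomorphism.  By the index of the parabolic subgroup of `Suz` the presented group embeds into the
presented `Suz`.
-/

set_option autoImplicit false

namespace Cfsg.Agent.Helper5.G24

open Cfsg.Agent.Helper5.LP Cfsg.Agent.Helper5.TC Cfsg.Agent.Helper5.TCI Cfsg.Spor
open Cfsg.Agent.Helper5.G24LP (R6 lettersA)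

theorem XX_eq : ∀ r, r < 12 → ∀ t, t < 4 → XX r t = ((mword r t).map MM).prod := by
  intro r hr
  interval_cases r
  · exact XX_eq_0
  · exact XX_eq_1
  · exact XX_eq_2
  · exact XX_eq_3
  · exact XX_eq_4
  · exact XX_eq_5
  · exact XX_eq_6
  · exact XX_eq_7
  · exact XX_eq_8
  · exact XX_eq_9
  · exact XX_eq_10
  · exact XX_eq_11

theorem mword_lt : ∀ r, r < 12 → ∀ t, t < 4 → ∀ c ∈ mword r t, c < 6 := by decide +kernel

theorem xword_lt : ∀ c, c < 6 → ∀ p ∈ xword c, p.1 < 12 ∧ p.2 < 4 := by decide +kernel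

theorem tn_lt (t : F4) : tn t < 4 := by cases t <;> decide

theorem MM_sq_lt : ∀ c, c < 6 → MM c * MM c = 1 := by
  intro c hc
  have h := MM_rels [c, c] (by interval_cases c <;> decide +kernel)
  simpa using h

theorem MM_ge (c : ℕ) (hc : 6 ≤ c) : MM c = 1 := by
  match c, hc with
  | c + 6, _ => rfl

theorem MM_sq (c : ℕ) : MM c * MM c = 1 := by
  rcases Nat.lt_or_ge c 6 with h | h
  · exact MM_sq_lt c h
  · rw [MM_ge c h, mul_one]

/-- the images of the letters as units. -/
def UU (c : ℕ) : (Matrix (Fin 14) (Fin 14) F4)ˣ := ⟨MM c, MM c, MM_sq c, MM_sq c⟩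

theorem UU_rels : ∀ l ∈ R6, (l.map UU).prod = 1 := by
  intro l hl
  apply Units.ext
  rw [Units.val_one, ← Units.coeHom_apply, map_list_prod, List.map_map]
  exact MM_rels l hl

theorem UU_prod_val (l : List ℕ) : ((l.map UU).prod : (Matrix (Fin 14) (Fin 14) F4)ˣ).val
    = (l.map MM).prod := by
  rw [← Units.coeHom_apply, map_list_prod, List.map_map]
  rfl

/-- the root elements as units. -/
def XU (r t : ℕ) (hr : r < 12) (ht : t < 4) : (Matrix (Fin 14) (Fin 14) F4)ˣ :=
  ⟨XX r t, XX r t, XX_sq r hr t ht, XX_sq r hr t ht⟩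

/-- transport of invertible matrices along the numbering of the coordinates. -/
def reGL : (Matrix (Fin 14) (Fin 14) F4)ˣ ≃* Matrix.GeneralLinearGroup I14 F4 :=
  Units.mapEquiv (Matrix.reindexAlgEquiv F4 F4 e14).toMulEquiv

theorem reGL_val (g : (Matrix (Fin 14) (Fin 14) F4)ˣ) :
    ((reGL g : Matrix.GeneralLinearGroup I14 F4) : Matrix I14 I14 F4)
      = (g : Matrix (Fin 14) (Fin 14) F4).submatrix e14.symm e14.symm := rfl

/-- the Chevalley group of type `G₂` over the field with four elements. -/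
abbrev GG : Subgroup (Matrix.GeneralLinearGroup I14 F4) := Cfsg.Lie.chevG2.group F4

theorem reGL_XU_mem (r t : ℕ) (hr : r < 12) (ht : t < 4) : reGL (XU r t hr ht) ∈ GG := by
  apply Subgroup.subset_closure
  obtain ⟨t', rfl⟩ : ∃ t' : F4, t = tn t' := by
    interval_cases t
    · exact ⟨.z, rfl⟩
    · exact ⟨.o, rfl⟩
    · exact ⟨.w, rfl⟩
    · exact ⟨.v, rfl⟩
  refine ⟨⟨r, hr⟩, t', ?_⟩
  rw [xMat_eq ⟨r, hr⟩ t', reGL_val]
  rfl

theorem reGL_mem_of_prod : ∀ (l : List (ℕ × ℕ)), (∀ p ∈ l, p.1 < 12 ∧ p.2 < 4) →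
    ∀ g : (Matrix (Fin 14) (Fin 14) F4)ˣ, g.val = (l.map (fun p => XX p.1 p.2)).prod →
      reGL g ∈ GG
  | [], _, g, hg => by
    have : g = 1 := Units.ext (by rw [hg]; rfl)
    rw [this, map_one]
    exact one_mem _
  | p :: l, hl, g, hg => by
    have hp := hl p List.mem_cons_self
    have hg' : ((XU p.1 p.2 hp.1 hp.2)⁻¹ * g).val = (l.map (fun p => XX p.1 p.2)).prod := by
      rw [Units.val_mul, hg, List.map_cons, List.prod_cons, ← mul_assoc]
      show XX p.1 p.2 * XX p.1 p.2 * _ = _
      rw [XX_sq p.1 hp.1 p.2 hp.2, one_mul]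
    have h1 := reGL_mem_of_prod l (fun q hq => hl q (List.mem_cons_of_mem _ hq)) _ hg'
    have h2 := reGL_XU_mem p.1 p.2 hp.1 hp.2
    have : g = XU p.1 p.2 hp.1 hp.2 * ((XU p.1 p.2 hp.1 hp.2)⁻¹ * g) := by
      rw [mul_inv_cancel_left]
    rw [this, map_mul]
    exact mul_mem h2 h1

/-- the homomorphism to the general linear group. -/
def phi0 : LPG 6 R6 →* Matrix.GeneralLinearGroup I14 F4 :=
  reGL.toMonoidHom.comp (lift UU lettersA UU_rels)

theorem phi0_ev (l : List ℕ) (hl : ∀ c ∈ l, c < 6) :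
    phi0 (ev 6 R6 l) = reGL ((l.map UU).prod) := by
  show reGL (lift UU lettersA UU_rels (ev 6 R6 l)) = _
  rw [lift_ev UU lettersA UU_rels l hl]

theorem phi0_mem (x : LPG 6 R6) : phi0 x ∈ GG := by
  have h : (⊤ : Subgroup (LPG 6 R6)) ≤ GG.comap phi0 := by
    rw [← closure_gens, Subgroup.closure_le]
    rintro _ ⟨c, hc, rfl⟩
    show phi0 (ev 6 R6 [c]) ∈ GG
    rw [phi0_ev [c] (by simpa using hc)]
    apply reGL_mem_of_prod (xword c) (xword_lt c hc)
    rw [UU_prod_val]
    simpa using MM_eq c hc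
  exact h (Subgroup.mem_top x)

/-- the homomorphism to the Chevalley group. -/
def phi : LPG 6 R6 →* GG := phi0.codRestrict _ phi0_mem

theorem phi_surjective : Function.Surjective phi := by
  have h : GG ≤ phi0.range := by
    show Cfsg.Lie.chevG2.group F4 ≤ _
    unfold Cfsg.Lie.ChevalleyDatum.group
    rw [Subgroup.closure_le]
    rintro g ⟨r, t, hg⟩
    refine ⟨ev 6 R6 (mword r.val (tn t)), ?_⟩
    rw [phi0_ev _ (mword_lt r.val r.isLt (tn t) (tn_lt t))]
    apply Units.ext
    rw [reGL_val, UU_prod_val, ← XX_eq r.val r.isLt (tn t) (tn_lt t), hg, xMat_eq r t]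
  intro y
  obtain ⟨x, hx⟩ := h y.2
  exact ⟨x, Subtype.ext hx⟩

theorem phi_injective : Function.Injective phi := by
  have := G24LP.simple_card.1
  rw [← MonoidHom.ker_eq_bot_iff]
  rcases (inferInstance : (phi.ker).Normal).eq_bot_or_eq_top with h | h
  · exact h
  · exfalso
    have h0 : ev 6 R6 [0] ∈ phi.ker := by rw [h]; exact Subgroup.mem_top _
    have h1 : phi0 (ev 6 R6 [0]) = 1 := congrArg Subtype.val h0
    rw [phi0_ev [0] (by simp)] at h1
    have h2 : ([0].map UU).prod = 1 := by
      apply reGL.injective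
      rw [h1, map_one]
    have h3 := congrArg Units.val h2
    rw [UU_prod_val] at h3
    exact MM_ne (by simpa using h3)

/-- **The group presented on `a, …, f` is `G₂(4)`.** -/
noncomputable def lpEquiv : LPG 6 R6 ≃* GG :=
  MulEquiv.ofBijective phi ⟨phi_injective, phi_surjective⟩

/-! ### transfer to the subgroup of the presented `Suz` -/

open Cfsg.Agent.Helper5.SuzLP (RA)

theorem sub6 : ∀ l ∈ R6, l ∈ RA := by decide +kernel

/-- the homomorphism from the sub-presentation on `a, …, f`. -/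
noncomputable def sigma : LPG 6 R6 →* LPG 7 RA := subHom 7 RA lettersA sub6

theorem card_para : Nat.card (para 7 RA 6) = 251596800 := by
  have h := Subgroup.card_mul_index (para 7 RA 6)
  rw [SuzLP.idxA, SuzLP.simple_card.2] at h
  exact Nat.eq_of_mul_eq_mul_right (by norm_num : 0 < 1782) (h.trans (by norm_num))

theorem sigma_inj : Function.Injective sigma := by
  have := G24LP.ubB.1
  exact subHom_injective lettersA sub6
    (by rw [card_para, G24LP.simple_card.2])

/-- the subgroup of `Suz` generated by the images of `a, …, f`. -/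
def Hs : Subgroup Suz :=
  (Subgroup.closure ({Suz.a, Suz.b, Suz.c, Suz.d, Suz.e, Suz.f} :
    Set (FreeGroup Suz.Gen))).map
    (PresentedGroup.mk (coxRelators Suz.edges ∪ {r | r ∈ Suz.extra}))

theorem of_mem_Hs (c : ℕ) (hc : c < 6) :
    (PresentedGroup.of (SuzLP.gen c) : Suz) ∈ Hs := by
  refine ⟨FreeGroup.of (SuzLP.gen c), Subgroup.subset_closure ?_, rfl⟩
  interval_cases c <;> simp [SuzLP.gen]

theorem hs_transfer : ∃ f : LPG 6 R6 →* Suz, Function.Injective f ∧ f.range = Hs := by
  obtain ⟨e, he⟩ := cox_equiv_spec Suz.edges Suz.extra 7 RA SuzLP.idx SuzLP.gen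
    (by intro x; cases x <;> rfl)
    (by intro x; cases x <;> decide) (by intro c hc; interval_cases c <;> rfl)
    (by intro x; cases x <;> decide) SuzLP.lettersA (by decide +kernel) (by decide +kernel)
    (by decide +kernel) (by decide +kernel)
  have hes : ∀ x : Suz.Gen, e.symm (ev 7 RA [SuzLP.idx x]) = PresentedGroup.of x := by
    intro x
    rw [← he x, e.symm_apply_apply]
  have hf : ∀ c, c < 6 → (e.symm.toMonoidHom.comp sigma) (ev 6 R6 [c]) =
      PresentedGroup.of (SuzLP.gen c) := by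
    intro c hc
    show e.symm (subHom 7 RA lettersA sub6 (ev 6 R6 [c])) = _
    rw [subHom_ev lettersA sub6 [c] (by simpa using hc), ← hes (SuzLP.gen c)]
    have : SuzLP.idx (SuzLP.gen c) = c := by interval_cases c <;> rfl
    rw [this]
  have hmem : ∀ x : Suz.Gen, SuzLP.idx x < 6 →
      (PresentedGroup.of x : Suz) ∈ (e.symm.toMonoidHom.comp sigma).range := by
    intro x hx
    refine ⟨ev 6 R6 [SuzLP.idx x], ?_⟩
    rw [hf _ hx]
    congr 1
    cases x <;> rfl
  refine ⟨e.symm.toMonoidHom.comp sigma, ?_, ?_⟩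
  · exact e.symm.injective.comp sigma_inj
  · apply le_antisymm
    · rw [MonoidHom.range_eq_map, ← closure_gens (k := 6) (R := R6), MonoidHom.map_closure,
        Subgroup.closure_le]
      rintro _ ⟨_, ⟨c, hc, rfl⟩, rfl⟩
      rw [hf c hc]
      exact of_mem_Hs c hc
    · unfold Hs
      rw [Subgroup.map_le_iff_le_comap, Subgroup.closure_le]
      intro w hw
      simp only [Set.mem_insert_iff, Set.mem_singleton_iff] at hw
      rcases hw with rfl | rfl | rfl | rfl | rfl | rfl
      · exact hmem .a (by decide)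
      · exact hmem .b (by decide)
      · exact hmem .c (by decide)
      · exact hmem .d (by decide)
      · exact hmem .e (by decide)
      · exact hmem .f (by decide)

/-- **The subgroup `⟨a, …, f⟩` of `Suz` is `G₂(4)`.** -/
theorem hs_equiv : Nonempty (Hs ≃* Cfsg.Lie.chevG2.group F4) := by
  obtain ⟨f, hinj, hr⟩ := hs_transfer
  have e1 : LPG 6 R6 ≃* f.range := MonoidHom.ofInjective hinj
  have e2 : f.range ≃* Hs := MulEquiv.subgroupCongr hr
  exact ⟨(e1.trans e2).symm.trans lpEquiv⟩

end Cfsg.Agent.Helper5.G24
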