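import Cfsg.Agent.Helper5.TC2A

/-! generated coset table (generator 0): G24KTC -/

set_option autoImplicit false
set_option Elab.async false

namespace Cfsg.Agent.Helper5.G24KTC
open Cfsg.Agent.Helper5.TC

def ct0_0 : ℕ := 0x0
def ctSel0 (c : ℕ) : ℕ := ct0_0
def ct0F (v : ℕ) : ℕ := Nat.rec (motive := fun _ => ℕ) 0 (fun c _ => Nat.mod (Nat.shiftRight (ctSel0 c) (Nat.mul 24 (Nat.mod v 682))) 16777216) (Nat.add (Nat.div v 682) 1)

end Cfsg.Agent.Helper5.G24KTC
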