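import Cfsg.Agent.Helper5.TC2A

/-! generated certificate data (events 0): G24KTC -/

set_option autoImplicit false
set_option Elab.async false

namespace Cfsg.Agent.Helper5.G24KTC
open Cfsg.Agent.Helper5.TC

def ev_0 : ℕ := 0x1385e00000008083e00000034505a00000040084a0000000c081a00000004083e00000020085200000080081a00000050000300000068080200000050083e00000028080200000018082e0000003c080200000030085200000074000300000074082e0000002c083e00000034100a0000008020550000000810610000003004350000003000250000003004210000005c000300000038081a00000048080200000058082e00000014080200000024083e0000004c080200000064085200000070083e0000003c082e0000007c18420000006c00030000006c104e0000006c04450000003c04610000000c106100000008081d0000002c040d0000002c040900000024044d00000024040d0000002004450000002004150000002004110000002004090000001c04390000001c04150000001c04350000001c04110000001004450000000c043900000008042500000008042100000004041500000004041100000004040d000000040409000000000000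
def evSel0 (c : ℕ) : ℕ := ev_0

end Cfsg.Agent.Helper5.G24KTC
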