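import Cfsg.Agent.Helper5.TC2A

/-! generated certificate data (targets of generator 4): G24KTC -/

set_option autoImplicit false
set_option Elab.async false

namespace Cfsg.Agent.Helper5.G24KTC
open Cfsg.Agent.Helper5.TC

def tg4_0 : ℕ := 0xc00001a00000b00000000000a00000000001f00000800000000000000000700000000000600000400000000000000000300000000000200000200002000000000001c00000100001900001600000000000000001300001000000e000009000005
def tgSel4 (c : ℕ) : ℕ := tg4_0
def tg4F (v : ℕ) : ℕ := Nat.rec (motive := fun _ => ℕ) 0 (fun c _ => Nat.mod (Nat.shiftRight (tgSel4 c) (Nat.mul 24 (Nat.mod v 682))) 16777216) (Nat.add (Nat.div v 682) 1)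

end Cfsg.Agent.Helper5.G24KTC
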