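import Cfsg.Agent.Helper5.TC2A

/-! generated certificate data (targets of generator 0): G24KTC -/

set_option autoImplicit false
set_option Elab.async false

namespace Cfsg.Agent.Helper5.G24KTC
open Cfsg.Agent.Helper5.TC

def tg0_0 : ℕ := 0x2000000000000d00000c00000000001500001400001300001200001100001000001b00001a00001900001800001700001600001100000000001e00001d00000200000600000500000400000300000a00000900000800000700000b000000000001
def tgSel0 (c : ℕ) : ℕ := tg0_0
def tg0F (v : ℕ) : ℕ := Nat.rec (motive := fun _ => ℕ) 0 (fun c _ => Nat.mod (Nat.shiftRight (tgSel0 c) (Nat.mul 24 (Nat.mod v 682))) 16777216) (Nat.add (Nat.div v 682) 1)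

end Cfsg.Agent.Helper5.G24KTC
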