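import Mathlib
import Cfsg.Agent.Helper5.LPW
import Cfsg.Agent.Helper5.SuzBTCSum
import Cfsg.Agent.Helper5.SuzCTCSum
import Cfsg.Agent.Helper5.SuzDTCSum
import Cfsg.Agent.Helper5.G24KTCSum

/-! generated: the relators of the G24 presentation, the certified indices of the parabolic subgroups and the upper bound for the order -/

set_option autoImplicit false

namespace Cfsg.Agent.Helper5.G24LP

open Cfsg.Agent.Helper5.TC Cfsg.Agent.Helper5.TCI Cfsg.Agent.Helper5.LP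

/-- relator words on the first 6 letters. -/
def R6 : List (List ℕ) := [[0, 0], [0, 1, 0, 1, 0, 1, 0, 1, 0, 1], [0, 2, 0, 2], [0, 3, 0, 3], [0, 4, 0, 4], [0, 5, 0, 5], [1, 1], [1, 2, 1, 2, 1, 2], [1, 3, 1, 3], [1, 4, 1, 4], [1, 5, 1, 5, 1, 5], [2, 2], [2, 3, 2, 3, 2, 3, 2, 3, 2, 3, 2, 3, 2, 3, 2, 3], [2, 4, 2, 4], [2, 5, 2, 5], [3, 3], [3, 4, 3, 4, 3, 4], [3, 5, 3, 5], [4, 4], [4, 5, 4, 5], [5, 5], [0, 3, 2, 3, 2, 3, 2, 3, 2], [0, 1, 2, 5, 0, 1, 2, 5, 0, 1, 2, 5, 0, 1, 2, 5, 0, 1, 2, 5], [1, 2, 3, 2, 3, 1, 2, 3, 2, 3, 1, 2, 3, 2, 3, 1, 2, 3, 2, 3, 1, 2, 3, 2, 3, 4, 1, 2, 3, 2, 3, 1, 2, 3, 2, 3, 1, 2, 3, 2, 3, 1, 2, 3, 2, 3, 1, 2, 3, 2, 3, 4, 1, 2, 3, 2, 3, 1, 2, 3, 2, 3, 1, 2, 3, 2, 3, 1, 2, 3, 2, 3, 1, 2, 3, 2, 3, 4]]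

/-- relator words on the first 5 letters. -/
def R5 : List (List ℕ) := [[0, 0], [0, 1, 0, 1, 0, 1, 0, 1, 0, 1], [0, 2, 0, 2], [0, 3, 0, 3], [0, 4, 0, 4], [1, 1], [1, 2, 1, 2, 1, 2], [1, 3, 1, 3], [1, 4, 1, 4], [2, 2], [2, 3, 2, 3, 2, 3, 2, 3, 2, 3, 2, 3, 2, 3, 2, 3], [2, 4, 2, 4], [3, 3], [3, 4, 3, 4, 3, 4], [4, 4], [0, 3, 2, 3, 2, 3, 2, 3, 2], [1, 2, 3, 2, 3, 1, 2, 3, 2, 3, 1, 2, 3, 2, 3, 1, 2, 3, 2, 3, 1, 2, 3, 2, 3, 4, 1, 2, 3, 2, 3, 1, 2, 3, 2, 3, 1, 2, 3, 2, 3, 1, 2, 3, 2, 3, 1, 2, 3, 2, 3, 4, 1, 2, 3, 2, 3, 1, 2, 3, 2, 3, 1, 2, 3, 2, 3, 1, 2, 3, 2, 3, 1, 2, 3, 2, 3, 4]]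

/-- relator words on the first 4 letters. -/
def R4 : List (List ℕ) := [[0, 0], [0, 1, 0, 1, 0, 1, 0, 1, 0, 1], [0, 2, 0, 2], [0, 3, 0, 3], [1, 1], [1, 2, 1, 2, 1, 2], [1, 3, 1, 3], [2, 2], [2, 3, 2, 3, 2, 3, 2, 3, 2, 3, 2, 3, 2, 3, 2, 3], [3, 3], [0, 3, 2, 3, 2, 3, 2, 3, 2]]

/-- an element of prime order. -/
def xw : List ℕ := [1, 2, 5, 0, 3, 4, 2]

theorem wordsB : ∀ i (hi : i < (R6 ++ letterWords 5).length),
    unpack (SuzBTC.E.D.wlen i) (SuzBTC.E.D.wordP i) = ((R6 ++ letterWords 5)[i]).reverse :=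
  wordsMatchB_spec0 _ _ _ (by decide +kernel)

theorem idxB : (para 6 (R6) 5).index = 416 :=
  lp_index (by decide +kernel) (letterWords 5) SuzBTC.E SuzBTC.iota (fun _ => rfl) rfl rfl rfl
    (by decide +kernel) wordsB SuzBTC.rev_ok SuzBTC.hE SuzBTC.hA SuzBTC.set_ok SuzBTC.hrows
    (by norm_num) SuzBTC.hT SuzBTC.hltr SuzBTC.hrelT SuzBTC.hsubT SuzBTC.hconn

theorem wordsC : ∀ i (hi : i < (R5 ++ letterWords 4).length),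
    unpack (SuzCTC.E.D.wlen i) (SuzCTC.E.D.wordP i) = ((R5 ++ letterWords 4)[i]).reverse :=
  wordsMatchB_spec0 _ _ _ (by decide +kernel)

theorem idxC : (para 5 (R5) 4).index = 280 :=
  lp_index (by decide +kernel) (letterWords 4) SuzCTC.E SuzCTC.iota (fun _ => rfl) rfl rfl rfl
    (by decide +kernel) wordsC SuzCTC.rev_ok SuzCTC.hE SuzCTC.hA SuzCTC.set_ok SuzCTC.hrows
    (by norm_num) SuzCTC.hT SuzCTC.hltr SuzCTC.hrelT SuzCTC.hsubT SuzCTC.hconn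

theorem wordsD : ∀ i (hi : i < (R4 ++ letterWords 1).length),
    unpack (SuzDTC.E.D.wlen i) (SuzDTC.E.D.wordP i) = ((R4 ++ letterWords 1)[i]).reverse :=
  wordsMatchB_spec0 _ _ _ (by decide +kernel)

theorem idxD : (para 4 (R4) 1).index = 1080 :=
  lp_index (by decide +kernel) (letterWords 1) SuzDTC.E SuzDTC.iota (fun _ => rfl) rfl rfl rfl
    (by decide +kernel) wordsD SuzDTC.rev_ok SuzDTC.hE SuzDTC.hA SuzDTC.set_ok SuzDTC.hrows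
    (by norm_num) SuzDTC.hT SuzDTC.hltr SuzDTC.hrelT SuzDTC.hsubT SuzDTC.hconn

theorem wordsK : ∀ i (hi : i < (R6 ++ [xw] ++ letterWords 0).length),
    unpack (G24KTC.E.D.wlen i) (G24KTC.E.D.wordP i) = ((R6 ++ [xw] ++ letterWords 0)[i]).reverse :=
  wordsMatchB_spec0 _ _ _ (by decide +kernel)

theorem idxK : (para 6 (R6 ++ [xw]) 0).index = 1 :=
  lp_index (by decide +kernel) (letterWords 0) G24KTC.E G24KTC.iota (fun _ => rfl) rfl rfl rfl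
    (by decide +kernel) wordsK G24KTC.rev_ok G24KTC.hE G24KTC.hA G24KTC.set_ok G24KTC.hrows
    (by norm_num) G24KTC.hT G24KTC.hltr G24KTC.hrelT G24KTC.hsubT G24KTC.hconn

theorem ubD : Finite (LPG 4 R4) ∧ Nat.card (LPG 4 R4) ≤ 1080 * 2 :=
  card_le_base (by decide +kernel) (by norm_num) idxD

theorem ubC : Finite (LPG 5 R5) ∧ Nat.card (LPG 5 R5) ≤ 280 * (1080 * 2) :=
  card_le_step (k' := 4) (R' := R4) (by decide +kernel) (subListB_spec (by decide +kernel))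
    (by norm_num) idxC ubD.1 ubD.2

theorem ubB : Finite (LPG 6 R6) ∧ Nat.card (LPG 6 R6) ≤ 416 * (280 * (1080 * 2)) :=
  card_le_step (k' := 5) (R' := R5) (by decide +kernel) (subListB_spec (by decide +kernel))
    (by norm_num) idxB ubC.1 ubC.2

theorem killed : Nat.card (LPG 6 (R6 ++ [xw])) = 1 := card_eq_one_of_index idxK

end Cfsg.Agent.Helper5.G24LP
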