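import Mathlib
import Cfsg.Agent.Helper5.G24XDat
import Cfsg.Agent.Helper5.G24LPD
import Cfsg.Agent.Helper5.LPX
import Cfsg.Agent.Helper5.LPS
import Cfsg.Agent.Helper5.StemPF

/-!
# Checks for the Schur multiplier of `G₂(4)`

The words of `G24XDat` in the action of the presented group on 416 points: the tables of the six
letters, the relators, the orders, the six involutions as words in the letters, the stabiliser chain
of the subgroup of order 62400.
-/

set_option autoImplicit false

namespace Cfsg.Agent.Helper5.G24X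

open Cfsg.Agent.Helper5.LP Cfsg.Agent.Helper5.StemP Cfsg.Agent.Helper5.TC Cfsg.Agent.Helper5.TCI
open Cfsg.Agent.Helper5.G24LP (R6 lettersA)

/-- the action of the six letters on the 416 points. -/
def tabF (c v : ℕ) : ℕ := pLook 682 (tabB c) v

theorem W_lt : ∀ c, c < 6 → ∀ x ∈ W c, x < 6 := by decide

theorem W_rev : W 1 = (W 0).reverse ∧ W 3 = (W 2).reverse ∧ W 5 = (W 4).reverse := by decide

theorem letW_lt : ∀ c, c < 6 → ∀ x ∈ letW c, x < 6 := by decide

set_option maxRecDepth 1000000 in
theorem tab_agree : ∀ c, c < 6 → agreeRangeF SuzBTC.ctF (W c) (tabF c) 416 0 = true := by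
  decide +kernel

set_option maxRecDepth 1000000 in
theorem chk_rels : ∀ r ∈ CC, fixRangeF SuzBTC.ctF (r.flatMap W) 416 0 = true := by decide +kernel

set_option maxRecDepth 1000000 in
theorem chk_pow : fixRangeF SuzBTC.ctF ((List.replicate 13 0).flatMap W) 416 0 = true ∧
    fixRangeF SuzBTC.ctF ((List.replicate 13 2).flatMap W) 416 0 = true ∧
    fixRangeF SuzBTC.ctF ((List.replicate 7 4).flatMap W) 416 0 = true := by decide +kernel

set_option maxRecDepth 1000000 in
theorem chk_let : ∀ c, c < 6 →
    agreeRangeF SuzBTC.ctF ((letW c).flatMap W) (SuzBTC.ctF c) 416 0 = true := by decide +kernel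

set_option maxRecDepth 1000000 in
theorem chk_move : actL SuzBTC.ctF (W 0) 0 ≠ 0 := by decide +kernel

set_option maxRecDepth 1000000 in
theorem chainU_ok : chainOK tabF (2 * 2) 416 [] levelUs = true := chainOK_of_F (by decide +kernel)

theorem chainU_prod : chainProd levelUs = 62400 := by decide +kernel

theorem CC_lt : ∀ r ∈ CC, ∀ c ∈ r, c < 2 * 3 := by decide

theorem CU_lt : ∀ r ∈ CU, ∀ c ∈ r, c < 2 * 2 := by decide

theorem CU_sub : ∀ r ∈ CU, r ∈ CC := by decide

end Cfsg.Agent.Helper5.G24X
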