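import Mathlib
import Cfsg.Agent.Helper5.G24XChk
import Cfsg.Agent.Helper5.LPL

/-!
# Generators of `G₂(4)` for the Schur multiplier

In the group presented on six involutions (simple of order 251596800, `G24LPD`): elements `a, b` of
order 13 and `c` of order 7, their relators, generation, and the permutation representation on 416
points in terms of the six letters `a, a⁻¹, b, b⁻¹, c, c⁻¹`.
-/

set_option autoImplicit false

namespace Cfsg.Agent.Helper5.G24X

open Cfsg.Agent.Helper5.LP Cfsg.Agent.Helper5.StemP Cfsg.Agent.Helper5.TC Cfsg.Agent.Helper5.TCI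
open Cfsg.Agent.Helper5.G24LP (R6 lettersA)

/-- the presented group. -/
abbrev P : Type := LPG 6 R6

theorem invol6 : Invol 6 R6 := by
  intro c hc
  interval_cases c <;> decide

theorem hT6 : TableOK 6 416 SuzBTC.ctF :=
  tableOK_of_cert SuzBTC.iota (fun _ => rfl) rfl SuzBTC.hT

theorem hR6 : RelsFix R6 416 SuzBTC.ctF :=
  relsFix_of_cert (letterWords 5) rfl G24LP.wordsB SuzBTC.hrelT

/-- the permutation representation on 416 points. -/
noncomputable def rho : P →* Equiv.Perm (Fin 416) := tableHom lettersA hT6 hR6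

theorem hA6 : ActsOn rho (ev 6 R6) 6 SuzBTC.ctF :=
  ⟨fun l hl v => tableHom_ev lettersA hT6 hR6 l hl v⟩

instance finP : Finite P := G24LP.ubB.1

theorem card_P : Nat.card P = 251596800 := G24LP.simple_card.2

theorem rho_inj : Function.Injective rho :=
  injective_of_chain hA6 G24LP.levels G24LP.chain_ok (by
    rw [G24LP.chain_prod, card_P])

/-- the generators. -/
noncomputable def g (i : ℕ) : P := ev 6 R6 (W (2 * i))

/-- the orders. -/
def mm (i : ℕ) : ℕ := if i = 2 then 7 else 13

theorem lval_g : ∀ c, c < 6 → lval g c = ev 6 R6 (W c) := by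
  intro c hc
  obtain ⟨h1, h3, h5⟩ := W_rev
  interval_cases c
  · rfl
  · rw [h1, ev_reverse invol6]
    rfl
  · rfl
  · rw [h3, ev_reverse invol6]
    rfl
  · rfl
  · rw [h5, ev_reverse invol6]
    rfl

theorem flat_lt (l : List ℕ) (hl : ∀ c ∈ l, c < 6) : ∀ x ∈ l.flatMap W, x < 6 := by
  intro x hx
  obtain ⟨c, hc, hxc⟩ := List.mem_flatMap.mp hx
  exact W_lt c (hl c hc) x hxc

theorem word_ev : ∀ l : List ℕ, (∀ c ∈ l, c < 6) →
    (l.map (lval g)).prod = ev 6 R6 (l.flatMap W)
  | [], _ => by
    rw [List.map_nil, List.prod_nil, List.flatMap_nil, ev_nil]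
  | c :: l, h => by
    rw [List.map_cons, List.prod_cons, word_ev l (fun c hc => h c (List.mem_cons_of_mem _ hc)),
      lval_g c (h c List.mem_cons_self), List.flatMap_cons, ev_append]

theorem word_eq_one (l : List ℕ) (hl : ∀ c ∈ l, c < 6)
    (h : fixRangeF SuzBTC.ctF (l.flatMap W) 416 0 = true) : (l.map (lval g)).prod = 1 := by
  rw [word_ev l hl, ← ev_nil (k := 6) (R := R6)]
  apply eq_of_act_eq hA6 rho_inj _ [] (flat_lt l hl) (by simp)
  intro v hv
  rw [fixRange_spec _ _ 416 0 (fixRange_of_F h) v (Nat.zero_le _) (by omega)]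
  rfl

theorem CC_rel : ∀ r ∈ CC, (r.map (lval g)).prod = 1 := fun r hr =>
  word_eq_one r (CC_lt r hr) (chk_rels r hr)

theorem pow_eq_one {i n : ℕ} (hi : i < 3)
    (h : fixRangeF SuzBTC.ctF ((List.replicate n (2 * i)).flatMap W) 416 0 = true) :
    g i ^ n = 1 := by
  have h1 : ((List.replicate n (2 * i)).map (lval g)).prod = 1 := by
    apply word_eq_one _ _ h
    intro c hc
    rw [List.eq_of_mem_replicate hc]
    omega
  rwa [List.map_replicate, List.prod_replicate, lval_even] at h1

theorem g_pow : ∀ i, i < 3 → g i ^ mm i = 1 := by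
  intro i hi
  interval_cases i
  · exact pow_eq_one (by norm_num) chk_pow.1
  · exact pow_eq_one (by norm_num) chk_pow.2.1
  · exact pow_eq_one (by norm_num) chk_pow.2.2

theorem g0_ne : g 0 ≠ 1 := by
  intro h
  apply chk_move
  have h1 := hA6.act (W 0) (W_lt 0 (by norm_num)) ⟨0, by norm_num⟩
  have h2 : ev 6 R6 (W 0) = 1 := h
  rw [h2, map_one] at h1
  exact h1.symm

theorem order_g0 : orderOf (g 0) = 13 := by
  have : Fact (Nat.Prime 13) := ⟨by norm_num⟩
  have h13 : g 0 ^ 13 = 1 := g_pow 0 (by norm_num)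
  exact orderOf_eq_prime h13 g0_ne

/-! ### the action on the 416 points -/

theorem tabF_eq (c : ℕ) (hc : c < 6) (v : ℕ) (hv : v < 416) :
    tabF c v = actL SuzBTC.ctF (W c) v :=
  agreeRangeF_spec _ _ _ 416 0 (tab_agree c hc) v (Nat.zero_le _) (by omega)

theorem rho_lval (c : ℕ) (hc : c < 6) (v : Fin 416) :
    (rho (lval g c) v).val = tabF c v.val := by
  rw [lval_g c hc, hA6.act (W c) (W_lt c hc) v, tabF_eq c hc v.val v.isLt]

theorem rho_word : ∀ l : List ℕ, (∀ c ∈ l, c < 6) → ∀ v : Fin 416,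
    (rho ((l.map (lval g)).prod) v).val = actL tabF l v.val
  | [], _, v => by
    rw [List.map_nil, List.prod_nil, map_one]
    rfl
  | c :: l, h, v => by
    rw [List.map_cons, List.prod_cons, map_mul, Equiv.Perm.mul_apply,
      rho_lval c (h c List.mem_cons_self),
      rho_word l (fun c hc => h c (List.mem_cons_of_mem _ hc)) v]
    rfl

/-- a group whose words act on the table as prescribed by a homomorphism to the presented group. -/
theorem actsOn_of_hom {Q : Type*} [Group Q] (π : Q →* P) (e : List ℕ → Q) (k : ℕ) (hk : k ≤ 6)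
    (he : ∀ l : List ℕ, (∀ c ∈ l, c < k) → π (e l) = (l.map (lval g)).prod) :
    ActsOn (rho.comp π) e k tabF := by
  constructor
  intro l hl v
  rw [MonoidHom.comp_apply, he l hl]
  exact rho_word l (fun c hc => lt_of_lt_of_le (hl c hc) hk) v

/-! ### generation -/

theorem word_mem (l : List ℕ) (hl : ∀ c ∈ l, c < 6) :
    (l.map (lval g)).prod ∈ Subgroup.closure {y : P | ∃ i, i < 3 ∧ y = g i} := by
  apply Subgroup.list_prod_mem
  intro y hy
  obtain ⟨c, hc, rfl⟩ := List.mem_map.mp hy
  have hi : c / 2 < 3 := by have := hl c hc; omega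
  unfold lval
  split_ifs
  · exact Subgroup.subset_closure ⟨c / 2, hi, rfl⟩
  · exact inv_mem (Subgroup.subset_closure ⟨c / 2, hi, rfl⟩)

theorem letter_eq (c : ℕ) (hc : c < 6) : ev 6 R6 [c] = ((letW c).map (lval g)).prod := by
  rw [word_ev _ (letW_lt c hc)]
  apply eq_of_act_eq hA6 rho_inj [c] _ (by
    intro x hx
    rw [List.mem_singleton] at hx
    omega) (flat_lt _ (letW_lt c hc))
  intro v hv
  rw [← agreeRangeF_spec _ _ _ 416 0 (chk_let c hc) v (Nat.zero_le _) (by omega)]
  rfl

/-- the three generators generate the group. -/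
theorem g_closure : Subgroup.closure {y : P | ∃ i, i < 3 ∧ y = g i} = ⊤ := by
  rw [eq_top_iff, ← closure_gens (k := 6) (R := R6), Subgroup.closure_le]
  rintro x ⟨c, hc, rfl⟩
  rw [letter_eq c hc]
  exact word_mem _ (letW_lt c hc)

end Cfsg.Agent.Helper5.G24X
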