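import Cfsg.Agent.Helper5.G24XMDat

/-! generated permutation model of a central extension, checks: G24XM -/

set_option autoImplicit false
set_option Elab.async false
set_option maxRecDepth 1000000

namespace Cfsg.Agent.Helper5.G24XM
open Cfsg.Agent.Helper5.TC Cfsg.Agent.Helper5.TCI Cfsg.Agent.Helper5.LP

theorem iterc_3_2500 : iterFixRangeF Wb_3 60 2500 2500 = true := by decide +kernel

theorem iterc_9_3125 : iterFixRangeF Wb_9 60 3125 3125 = true := by decide +kernel

theorem iterc_7_3702 : iterFixRangeF Wb_7 60 1851 3702 = true := by decide +kernel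

theorem iterc_4_6249 : iterFixRangeF Wb_4 60 1815 6249 = true := by decide +kernel

theorem relc_36_0 : fixPtsF W_36 8064 0 = true := by decide +kernel

theorem relc_16_0 : fixPtsF W_16 8064 0 = true := by decide +kernel

theorem relc_2_0 : fixPtsF W_2 8064 0 = true := by decide +kernel

theorem relc_7_0 : fixPtsF W_7 8064 0 = true := by decide +kernel

end Cfsg.Agent.Helper5.G24XM
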