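import Cfsg.Agent.Helper5.G24XMDat

/-! generated permutation model of a central extension, checks: G24XM -/

set_option autoImplicit false
set_option Elab.async false
set_option maxRecDepth 1000000

namespace Cfsg.Agent.Helper5.G24XM
open Cfsg.Agent.Helper5.TC Cfsg.Agent.Helper5.TCI Cfsg.Agent.Helper5.LP

theorem iterc_3_5000 : iterFixRangeF Wb_3 60 2500 5000 = true := by decide +kernel

theorem iterc_1_0 : iterFixRangeF Wb_1 60 3846 0 = true := by decide +kernel

theorem iterc_5_0 : iterFixRangeF Wb_5 60 2083 0 = true := by decide +kernel

theorem iterc_7_7404 : iterFixRangeF Wb_7 60 660 7404 = true := by decide +kernel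

theorem relc_32_0 : fixPtsF W_32 8064 0 = true := by decide +kernel

theorem relc_29_0 : fixPtsF W_29 8064 0 = true := by decide +kernel

theorem relc_24_0 : fixPtsF W_24 8064 0 = true := by decide +kernel

theorem relc_19_0 : fixPtsF W_19 8064 0 = true := by decide +kernel

theorem relc_38_0 : fixPtsF W_38 8064 0 = true := by decide +kernel

theorem relc_10_0 : fixPtsF W_10 8064 0 = true := by decide +kernel

theorem inv_0 : invRowFI mT 8064 0 1 8064 0 = true := by decide +kernel

theorem inv_2 : invRowFI mT 8064 2 3 8064 0 = true := by decide +kernel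

theorem inv_4 : invRowFI mT 8064 4 5 8064 0 = true := by decide +kernel

theorem relc_4_0 : fixPtsF W_4 8064 0 = true := by decide +kernel

end Cfsg.Agent.Helper5.G24XM
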