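import Cfsg.Agent.Helper5.G24XMDat

/-! generated permutation model of a central extension, checks: G24XM -/

set_option autoImplicit false
set_option Elab.async false
set_option maxRecDepth 1000000

namespace Cfsg.Agent.Helper5.G24XM
open Cfsg.Agent.Helper5.TC Cfsg.Agent.Helper5.TCI Cfsg.Agent.Helper5.LP

theorem iterc_6_0 : iterFixRangeF Wb_6 60 2000 0 = true := by decide +kernel

theorem iterc_1_3846 : iterFixRangeF Wb_1 60 3846 3846 = true := by decide +kernel

theorem iterc_5_2083 : iterFixRangeF Wb_5 60 2083 2083 = true := by decide +kernel

theorem iterc_8_6250 : iterFixRangeF Wb_8 60 1814 6250 = true := by decide +kernel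

theorem relc_31_0 : fixPtsF W_31 8064 0 = true := by decide +kernel

theorem relc_28_0 : fixPtsF W_28 8064 0 = true := by decide +kernel

theorem relc_23_0 : fixPtsF W_23 8064 0 = true := by decide +kernel

theorem relc_18_0 : fixPtsF W_18 8064 0 = true := by decide +kernel

theorem iterc_1_7692 : iterFixRangeF Wb_1 60 372 7692 = true := by decide +kernel

theorem relc_13_0 : fixPtsF W_13 8064 0 = true := by decide +kernel

theorem relc_33_0 : fixPtsF W_33 8064 0 = true := by decide +kernel

theorem relc_8_0 : fixPtsF W_8 8064 0 = true := by decide +kernel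

theorem inv_5 : invRowFI mT 8064 5 4 8064 0 = true := by decide +kernel

theorem relc_6_0 : fixPtsF W_6 8064 0 = true := by decide +kernel

end Cfsg.Agent.Helper5.G24XM
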