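import Cfsg.Agent.Helper5.G24XMDat

/-! generated permutation model of a central extension, checks: G24XM -/

set_option autoImplicit false
set_option Elab.async false
set_option maxRecDepth 1000000

namespace Cfsg.Agent.Helper5.G24XM
open Cfsg.Agent.Helper5.TC Cfsg.Agent.Helper5.TCI Cfsg.Agent.Helper5.LP

theorem iterc_6_2000 : iterFixRangeF Wb_6 60 2000 2000 = true := by decide +kernel

theorem iterc_2_0 : iterFixRangeF Wb_2 60 3846 0 = true := by decide +kernel

theorem iterc_5_4166 : iterFixRangeF Wb_5 60 2083 4166 = true := by decide +kernel

theorem iterc_3_7500 : iterFixRangeF Wb_3 60 564 7500 = true := by decide +kernel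

theorem relc_30_0 : fixPtsF W_30 8064 0 = true := by decide +kernel

theorem relc_27_0 : fixPtsF W_27 8064 0 = true := by decide +kernel

theorem relc_21_0 : fixPtsF W_21 8064 0 = true := by decide +kernel

theorem relc_25_0 : fixPtsF W_25 8064 0 = true := by decide +kernel

theorem relc_20_0 : fixPtsF W_20 8064 0 = true := by decide +kernel

theorem relc_12_0 : fixPtsF W_12 8064 0 = true := by decide +kernel

theorem relc_9_0 : fixPtsF W_9 8064 0 = true := by decide +kernel

theorem iterc_6_8000 : iterFixRangeF Wb_6 60 64 8000 = true := by decide +kernel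

end Cfsg.Agent.Helper5.G24XM
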