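import Cfsg.Agent.Helper5.G24XMDat

/-! generated permutation model of a central extension, checks: G24XM -/

set_option autoImplicit false
set_option Elab.async false
set_option maxRecDepth 1000000

namespace Cfsg.Agent.Helper5.G24XM
open Cfsg.Agent.Helper5.TC Cfsg.Agent.Helper5.TCI Cfsg.Agent.Helper5.LP

theorem iterc_6_4000 : iterFixRangeF Wb_6 60 2000 4000 = true := by decide +kernel

theorem iterc_2_3846 : iterFixRangeF Wb_2 60 3846 3846 = true := by decide +kernel

theorem iterc_7_0 : iterFixRangeF Wb_7 60 1851 0 = true := by decide +kernel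

theorem iterc_7_5553 : iterFixRangeF Wb_7 60 1851 5553 = true := by decide +kernel

theorem relc_11_0 : fixPtsF W_11 8064 0 = true := by decide +kernel

theorem relc_0_0 : fixPtsF W_0 8064 0 = true := by decide +kernel

end Cfsg.Agent.Helper5.G24XM
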