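import Cfsg.Agent.Helper5.G24XMDat

/-! generated permutation model of a central extension, checks: G24XM -/

set_option autoImplicit false
set_option Elab.async false
set_option maxRecDepth 1000000

namespace Cfsg.Agent.Helper5.G24XM
open Cfsg.Agent.Helper5.TC Cfsg.Agent.Helper5.TCI Cfsg.Agent.Helper5.LP

theorem iterc_6_6000 : iterFixRangeF Wb_6 60 2000 6000 = true := by decide +kernel

theorem iterc_0_0 : iterFixRangeF Wb_0 60 4166 0 = true := by decide +kernel

theorem iterc_4_2083 : iterFixRangeF Wb_4 60 2083 2083 = true := by decide +kernel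

theorem iterc_5_6249 : iterFixRangeF Wb_5 60 1815 6249 = true := by decide +kernel

theorem relc_37_0 : fixPtsF W_37 8064 0 = true := by decide +kernel

theorem relc_17_0 : fixPtsF W_17 8064 0 = true := by decide +kernel

theorem relc_5_0 : fixPtsF W_5 8064 0 = true := by decide +kernel

end Cfsg.Agent.Helper5.G24XM
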