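import Cfsg.Agent.Helper5.G24XMDat

/-! generated permutation model of a central extension, checks: G24XM -/

set_option autoImplicit false
set_option Elab.async false
set_option maxRecDepth 1000000

namespace Cfsg.Agent.Helper5.G24XM
open Cfsg.Agent.Helper5.TC Cfsg.Agent.Helper5.TCI Cfsg.Agent.Helper5.LP

theorem iterc_8_0 : iterFixRangeF Wb_8 60 6250 0 = true := by decide +kernel

theorem iterc_4_0 : iterFixRangeF Wb_4 60 2083 0 = true := by decide +kernel

theorem iterc_4_4166 : iterFixRangeF Wb_4 60 2083 4166 = true := by decide +kernel

theorem iterc_9_6250 : iterFixRangeF Wb_9 60 1814 6250 = true := by decide +kernel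

theorem relc_22_0 : fixPtsF W_22 8064 0 = true := by decide +kernel

theorem relc_26_0 : fixPtsF W_26 8064 0 = true := by decide +kernel

theorem iterc_2_7692 : iterFixRangeF Wb_2 60 372 7692 = true := by decide +kernel

theorem relc_15_0 : fixPtsF W_15 8064 0 = true := by decide +kernel

theorem relc_35_0 : fixPtsF W_35 8064 0 = true := by decide +kernel

theorem relc_1_0 : fixPtsF W_1 8064 0 = true := by decide +kernel

end Cfsg.Agent.Helper5.G24XM
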