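import Cfsg.Agent.Helper5.G24XMCk0
import Cfsg.Agent.Helper5.G24XMCk1
import Cfsg.Agent.Helper5.G24XMCk2
import Cfsg.Agent.Helper5.G24XMCk3
import Cfsg.Agent.Helper5.G24XMCk4
import Cfsg.Agent.Helper5.G24XMCk5
import Cfsg.Agent.Helper5.G24XMCk6
import Cfsg.Agent.Helper5.G24XMCk7

/-! generated permutation model of a central extension, summary: G24XM -/

set_option autoImplicit false
set_option maxRecDepth 1000000

namespace Cfsg.Agent.Helper5.G24XM
open Cfsg.Agent.Helper5.TC Cfsg.Agent.Helper5.TCI Cfsg.Agent.Helper5.LP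

theorem tableOK : TableOKI (2 * 3) 8064 StemP.linv mT := by
  intro x hx v hv
  have hx4 : x < 6 := hx
  interval_cases x
  · exact invRowFI_spec mT 8064 0 1 8064 0 inv_0 v (by omega) (by omega)
  · exact invRowFI_spec mT 8064 1 0 8064 0 inv_1 v (by omega) (by omega)
  · exact invRowFI_spec mT 8064 2 3 8064 0 inv_2 v (by omega) (by omega)
  · exact invRowFI_spec mT 8064 3 2 8064 0 inv_3 v (by omega) (by omega)
  · exact invRowFI_spec mT 8064 4 5 8064 0 inv_4 v (by omega) (by omega)
  · exact invRowFI_spec mT 8064 5 4 8064 0 inv_5 v (by omega) (by omega)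

theorem relf_0 : ∀ v, v < 8064 → W_0 v = v := by
  intro v hv
  exact fixPtsF_spec W_0 8064 0 relc_0_0 v (by omega) (by omega)

theorem actw_0 : ∀ v, actL mT RL_0 v = W_0 v := by
  intro v
  simp (maxSteps := 100000000) only [RL_0, actL, W_0, forceL_eq]
  rfl

theorem relf_1 : ∀ v, v < 8064 → W_1 v = v := by
  intro v hv
  exact fixPtsF_spec W_1 8064 0 relc_1_0 v (by omega) (by omega)

theorem actw_1 : ∀ v, actL mT RL_1 v = W_1 v := by
  intro v
  simp (maxSteps := 100000000) only [RL_1, actL, W_1, forceL_eq]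
  rfl

theorem relf_2 : ∀ v, v < 8064 → W_2 v = v := by
  intro v hv
  exact fixPtsF_spec W_2 8064 0 relc_2_0 v (by omega) (by omega)

theorem actw_2 : ∀ v, actL mT RL_2 v = W_2 v := by
  intro v
  simp (maxSteps := 100000000) only [RL_2, actL, W_2, forceL_eq]
  rfl

theorem relf_3 : ∀ v, v < 8064 → W_3 v = v := by
  intro v hv
  exact fixPtsF_spec W_3 8064 0 relc_3_0 v (by omega) (by omega)

theorem actw_3 : ∀ v, actL mT RL_3 v = W_3 v := by
  intro v
  simp (maxSteps := 100000000) only [RL_3, actL, W_3, forceL_eq]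
  rfl

theorem relf_4 : ∀ v, v < 8064 → W_4 v = v := by
  intro v hv
  exact fixPtsF_spec W_4 8064 0 relc_4_0 v (by omega) (by omega)

theorem actw_4 : ∀ v, actL mT RL_4 v = W_4 v := by
  intro v
  simp (maxSteps := 100000000) only [RL_4, actL, W_4, forceL_eq]
  rfl

theorem relf_5 : ∀ v, v < 8064 → W_5 v = v := by
  intro v hv
  exact fixPtsF_spec W_5 8064 0 relc_5_0 v (by omega) (by omega)

theorem actw_5 : ∀ v, actL mT RL_5 v = W_5 v := by
  intro v
  simp (maxSteps := 100000000) only [RL_5, actL, W_5, forceL_eq]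
  rfl

theorem relf_6 : ∀ v, v < 8064 → W_6 v = v := by
  intro v hv
  exact fixPtsF_spec W_6 8064 0 relc_6_0 v (by omega) (by omega)

theorem actw_6 : ∀ v, actL mT RL_6 v = W_6 v := by
  intro v
  simp (maxSteps := 100000000) only [RL_6, actL, W_6, forceL_eq]
  rfl

theorem relf_7 : ∀ v, v < 8064 → W_7 v = v := by
  intro v hv
  exact fixPtsF_spec W_7 8064 0 relc_7_0 v (by omega) (by omega)

theorem actw_7 : ∀ v, actL mT RL_7 v = W_7 v := by
  intro v
  simp (maxSteps := 100000000) only [RL_7, actL, W_7, forceL_eq]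
  rfl

theorem relf_8 : ∀ v, v < 8064 → W_8 v = v := by
  intro v hv
  exact fixPtsF_spec W_8 8064 0 relc_8_0 v (by omega) (by omega)

theorem actw_8 : ∀ v, actL mT RL_8 v = W_8 v := by
  intro v
  simp (maxSteps := 100000000) only [RL_8, actL, W_8, forceL_eq]
  rfl

theorem relf_9 : ∀ v, v < 8064 → W_9 v = v := by
  intro v hv
  exact fixPtsF_spec W_9 8064 0 relc_9_0 v (by omega) (by omega)

theorem actw_9 : ∀ v, actL mT RL_9 v = W_9 v := by
  intro v
  simp (maxSteps := 100000000) only [RL_9, actL, W_9, forceL_eq]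
  rfl

theorem relf_10 : ∀ v, v < 8064 → W_10 v = v := by
  intro v hv
  exact fixPtsF_spec W_10 8064 0 relc_10_0 v (by omega) (by omega)

theorem actw_10 : ∀ v, actL mT RL_10 v = W_10 v := by
  intro v
  simp (maxSteps := 100000000) only [RL_10, actL, W_10, forceL_eq]
  rfl

theorem relf_11 : ∀ v, v < 8064 → W_11 v = v := by
  intro v hv
  exact fixPtsF_spec W_11 8064 0 relc_11_0 v (by omega) (by omega)

theorem actw_11 : ∀ v, actL mT RL_11 v = W_11 v := by
  intro v
  simp (maxSteps := 100000000) only [RL_11, actL, W_11, forceL_eq]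
  rfl

theorem relf_12 : ∀ v, v < 8064 → W_12 v = v := by
  intro v hv
  exact fixPtsF_spec W_12 8064 0 relc_12_0 v (by omega) (by omega)

theorem actw_12 : ∀ v, actL mT RL_12 v = W_12 v := by
  intro v
  simp (maxSteps := 100000000) only [RL_12, actL, W_12, forceL_eq]
  rfl

theorem relf_13 : ∀ v, v < 8064 → W_13 v = v := by
  intro v hv
  exact fixPtsF_spec W_13 8064 0 relc_13_0 v (by omega) (by omega)

theorem actw_13 : ∀ v, actL mT RL_13 v = W_13 v := by
  intro v
  simp (maxSteps := 100000000) only [RL_13, actL, W_13, forceL_eq]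
  rfl

theorem relf_14 : ∀ v, v < 8064 → W_14 v = v := by
  intro v hv
  exact fixPtsF_spec W_14 8064 0 relc_14_0 v (by omega) (by omega)

theorem actw_14 : ∀ v, actL mT RL_14 v = W_14 v := by
  intro v
  simp (maxSteps := 100000000) only [RL_14, actL, W_14, forceL_eq]
  rfl

theorem relf_15 : ∀ v, v < 8064 → W_15 v = v := by
  intro v hv
  exact fixPtsF_spec W_15 8064 0 relc_15_0 v (by omega) (by omega)

theorem actw_15 : ∀ v, actL mT RL_15 v = W_15 v := by
  intro v
  simp (maxSteps := 100000000) only [RL_15, actL, W_15, forceL_eq]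
  rfl

theorem relf_16 : ∀ v, v < 8064 → W_16 v = v := by
  intro v hv
  exact fixPtsF_spec W_16 8064 0 relc_16_0 v (by omega) (by omega)

theorem actw_16 : ∀ v, actL mT RL_16 v = W_16 v := by
  intro v
  simp (maxSteps := 100000000) only [RL_16, actL, W_16, forceL_eq]
  rfl

theorem relf_17 : ∀ v, v < 8064 → W_17 v = v := by
  intro v hv
  exact fixPtsF_spec W_17 8064 0 relc_17_0 v (by omega) (by omega)

theorem actw_17 : ∀ v, actL mT RL_17 v = W_17 v := by
  intro v
  simp (maxSteps := 100000000) only [RL_17, actL, W_17, forceL_eq]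
  rfl

theorem relf_18 : ∀ v, v < 8064 → W_18 v = v := by
  intro v hv
  exact fixPtsF_spec W_18 8064 0 relc_18_0 v (by omega) (by omega)

theorem actw_18 : ∀ v, actL mT RL_18 v = W_18 v := by
  intro v
  simp (maxSteps := 100000000) only [RL_18, actL, W_18, forceL_eq]
  rfl

theorem relf_19 : ∀ v, v < 8064 → W_19 v = v := by
  intro v hv
  exact fixPtsF_spec W_19 8064 0 relc_19_0 v (by omega) (by omega)

theorem actw_19 : ∀ v, actL mT RL_19 v = W_19 v := by
  intro v
  simp (maxSteps := 100000000) only [RL_19, actL, W_19, forceL_eq]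
  rfl

theorem relf_20 : ∀ v, v < 8064 → W_20 v = v := by
  intro v hv
  exact fixPtsF_spec W_20 8064 0 relc_20_0 v (by omega) (by omega)

theorem actw_20 : ∀ v, actL mT RL_20 v = W_20 v := by
  intro v
  simp (maxSteps := 100000000) only [RL_20, actL, W_20, forceL_eq]
  rfl

theorem relf_21 : ∀ v, v < 8064 → W_21 v = v := by
  intro v hv
  exact fixPtsF_spec W_21 8064 0 relc_21_0 v (by omega) (by omega)

theorem actw_21 : ∀ v, actL mT RL_21 v = W_21 v := by
  intro v
  simp (maxSteps := 100000000) only [RL_21, actL, W_21, forceL_eq]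
  rfl

theorem relf_22 : ∀ v, v < 8064 → W_22 v = v := by
  intro v hv
  exact fixPtsF_spec W_22 8064 0 relc_22_0 v (by omega) (by omega)

theorem actw_22 : ∀ v, actL mT RL_22 v = W_22 v := by
  intro v
  simp (maxSteps := 100000000) only [RL_22, actL, W_22, forceL_eq]
  rfl

theorem relf_23 : ∀ v, v < 8064 → W_23 v = v := by
  intro v hv
  exact fixPtsF_spec W_23 8064 0 relc_23_0 v (by omega) (by omega)

theorem actw_23 : ∀ v, actL mT RL_23 v = W_23 v := by
  intro v
  simp (maxSteps := 100000000) only [RL_23, actL, W_23, forceL_eq]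
  rfl

theorem relf_24 : ∀ v, v < 8064 → W_24 v = v := by
  intro v hv
  exact fixPtsF_spec W_24 8064 0 relc_24_0 v (by omega) (by omega)

theorem actw_24 : ∀ v, actL mT RL_24 v = W_24 v := by
  intro v
  simp (maxSteps := 100000000) only [RL_24, actL, W_24, forceL_eq]
  rfl

theorem relf_25 : ∀ v, v < 8064 → W_25 v = v := by
  intro v hv
  exact fixPtsF_spec W_25 8064 0 relc_25_0 v (by omega) (by omega)

theorem actw_25 : ∀ v, actL mT RL_25 v = W_25 v := by
  intro v
  simp (maxSteps := 100000000) only [RL_25, actL, W_25, forceL_eq]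
  rfl

theorem relf_26 : ∀ v, v < 8064 → W_26 v = v := by
  intro v hv
  exact fixPtsF_spec W_26 8064 0 relc_26_0 v (by omega) (by omega)

theorem actw_26 : ∀ v, actL mT RL_26 v = W_26 v := by
  intro v
  simp (maxSteps := 100000000) only [RL_26, actL, W_26, forceL_eq]
  rfl

theorem relf_27 : ∀ v, v < 8064 → W_27 v = v := by
  intro v hv
  exact fixPtsF_spec W_27 8064 0 relc_27_0 v (by omega) (by omega)

theorem actw_27 : ∀ v, actL mT RL_27 v = W_27 v := by
  intro v
  simp (maxSteps := 100000000) only [RL_27, actL, W_27, forceL_eq]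
  rfl

theorem relf_28 : ∀ v, v < 8064 → W_28 v = v := by
  intro v hv
  exact fixPtsF_spec W_28 8064 0 relc_28_0 v (by omega) (by omega)

theorem actw_28 : ∀ v, actL mT RL_28 v = W_28 v := by
  intro v
  simp (maxSteps := 100000000) only [RL_28, actL, W_28, forceL_eq]
  rfl

theorem relf_29 : ∀ v, v < 8064 → W_29 v = v := by
  intro v hv
  exact fixPtsF_spec W_29 8064 0 relc_29_0 v (by omega) (by omega)

theorem actw_29 : ∀ v, actL mT RL_29 v = W_29 v := by
  intro v
  simp (maxSteps := 100000000) only [RL_29, actL, W_29, forceL_eq]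
  rfl

theorem relf_30 : ∀ v, v < 8064 → W_30 v = v := by
  intro v hv
  exact fixPtsF_spec W_30 8064 0 relc_30_0 v (by omega) (by omega)

theorem actw_30 : ∀ v, actL mT RL_30 v = W_30 v := by
  intro v
  simp (maxSteps := 100000000) only [RL_30, actL, W_30, forceL_eq]
  rfl

theorem relf_31 : ∀ v, v < 8064 → W_31 v = v := by
  intro v hv
  exact fixPtsF_spec W_31 8064 0 relc_31_0 v (by omega) (by omega)

theorem actw_31 : ∀ v, actL mT RL_31 v = W_31 v := by
  intro v
  simp (maxSteps := 100000000) only [RL_31, actL, W_31, forceL_eq]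
  rfl

theorem relf_32 : ∀ v, v < 8064 → W_32 v = v := by
  intro v hv
  exact fixPtsF_spec W_32 8064 0 relc_32_0 v (by omega) (by omega)

theorem actw_32 : ∀ v, actL mT RL_32 v = W_32 v := by
  intro v
  simp (maxSteps := 100000000) only [RL_32, actL, W_32, forceL_eq]
  rfl

theorem relf_33 : ∀ v, v < 8064 → W_33 v = v := by
  intro v hv
  exact fixPtsF_spec W_33 8064 0 relc_33_0 v (by omega) (by omega)

theorem actw_33 : ∀ v, actL mT RL_33 v = W_33 v := by
  intro v
  simp (maxSteps := 100000000) only [RL_33, actL, W_33, forceL_eq]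
  rfl

theorem relf_34 : ∀ v, v < 8064 → W_34 v = v := by
  intro v hv
  exact fixPtsF_spec W_34 8064 0 relc_34_0 v (by omega) (by omega)

theorem actw_34 : ∀ v, actL mT RL_34 v = W_34 v := by
  intro v
  simp (maxSteps := 100000000) only [RL_34, actL, W_34, forceL_eq]
  rfl

theorem relf_35 : ∀ v, v < 8064 → W_35 v = v := by
  intro v hv
  exact fixPtsF_spec W_35 8064 0 relc_35_0 v (by omega) (by omega)

theorem actw_35 : ∀ v, actL mT RL_35 v = W_35 v := by
  intro v
  simp (maxSteps := 100000000) only [RL_35, actL, W_35, forceL_eq]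
  rfl

theorem relf_36 : ∀ v, v < 8064 → W_36 v = v := by
  intro v hv
  exact fixPtsF_spec W_36 8064 0 relc_36_0 v (by omega) (by omega)

theorem actw_36 : ∀ v, actL mT RL_36 v = W_36 v := by
  intro v
  simp (maxSteps := 100000000) only [RL_36, actL, W_36, forceL_eq]
  rfl

theorem relf_37 : ∀ v, v < 8064 → W_37 v = v := by
  intro v hv
  exact fixPtsF_spec W_37 8064 0 relc_37_0 v (by omega) (by omega)

theorem actw_37 : ∀ v, actL mT RL_37 v = W_37 v := by
  intro v
  simp (maxSteps := 100000000) only [RL_37, actL, W_37, forceL_eq]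
  rfl

theorem relf_38 : ∀ v, v < 8064 → W_38 v = v := by
  intro v hv
  exact fixPtsF_spec W_38 8064 0 relc_38_0 v (by omega) (by omega)

theorem actw_38 : ∀ v, actL mT RL_38 v = W_38 v := by
  intro v
  simp (maxSteps := 100000000) only [RL_38, actL, W_38, forceL_eq]
  rfl

theorem iterf_0 : ∀ v, v < 8064 → iterF Wb_0 60 v = v := by
  intro v hv
  by_cases h0 : v < 4166
  · exact iterFixRangeF_spec Wb_0 60 4166 0 iterc_0_0 v (by omega) (by omega)
  exact iterFixRangeF_spec Wb_0 60 3898 4166 iterc_0_4166 v (by omega) (by omega)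

theorem actwb_0 : ∀ v, actL mT RB_0 v = Wb_0 v := by
  intro v
  simp (maxSteps := 100000000) only [RB_0, actL, Wb_0, forceL_eq]
  rfl

theorem RB_0_lt : ∀ c ∈ RB_0, c < 2 * 3 := by decide

theorem iterf_1 : ∀ v, v < 8064 → iterF Wb_1 60 v = v := by
  intro v hv
  by_cases h0 : v < 3846
  · exact iterFixRangeF_spec Wb_1 60 3846 0 iterc_1_0 v (by omega) (by omega)
  by_cases h3846 : v < 7692
  · exact iterFixRangeF_spec Wb_1 60 3846 3846 iterc_1_3846 v (by omega) (by omega)
  exact iterFixRangeF_spec Wb_1 60 372 7692 iterc_1_7692 v (by omega) (by omega)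

theorem actwb_1 : ∀ v, actL mT RB_1 v = Wb_1 v := by
  intro v
  simp (maxSteps := 100000000) only [RB_1, actL, Wb_1, forceL_eq]
  rfl

theorem RB_1_lt : ∀ c ∈ RB_1, c < 2 * 3 := by decide

theorem iterf_2 : ∀ v, v < 8064 → iterF Wb_2 60 v = v := by
  intro v hv
  by_cases h0 : v < 3846
  · exact iterFixRangeF_spec Wb_2 60 3846 0 iterc_2_0 v (by omega) (by omega)
  by_cases h3846 : v < 7692
  · exact iterFixRangeF_spec Wb_2 60 3846 3846 iterc_2_3846 v (by omega) (by omega)
  exact iterFixRangeF_spec Wb_2 60 372 7692 iterc_2_7692 v (by omega) (by omega)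

theorem actwb_2 : ∀ v, actL mT RB_2 v = Wb_2 v := by
  intro v
  simp (maxSteps := 100000000) only [RB_2, actL, Wb_2, forceL_eq]
  rfl

theorem RB_2_lt : ∀ c ∈ RB_2, c < 2 * 3 := by decide

theorem iterf_3 : ∀ v, v < 8064 → iterF Wb_3 60 v = v := by
  intro v hv
  by_cases h0 : v < 2500
  · exact iterFixRangeF_spec Wb_3 60 2500 0 iterc_3_0 v (by omega) (by omega)
  by_cases h2500 : v < 5000
  · exact iterFixRangeF_spec Wb_3 60 2500 2500 iterc_3_2500 v (by omega) (by omega)
  by_cases h5000 : v < 7500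
  · exact iterFixRangeF_spec Wb_3 60 2500 5000 iterc_3_5000 v (by omega) (by omega)
  exact iterFixRangeF_spec Wb_3 60 564 7500 iterc_3_7500 v (by omega) (by omega)

theorem actwb_3 : ∀ v, actL mT RB_3 v = Wb_3 v := by
  intro v
  simp (maxSteps := 100000000) only [RB_3, actL, Wb_3, forceL_eq]
  rfl

theorem RB_3_lt : ∀ c ∈ RB_3, c < 2 * 3 := by decide

theorem iterf_4 : ∀ v, v < 8064 → iterF Wb_4 60 v = v := by
  intro v hv
  by_cases h0 : v < 2083
  · exact iterFixRangeF_spec Wb_4 60 2083 0 iterc_4_0 v (by omega) (by omega)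
  by_cases h2083 : v < 4166
  · exact iterFixRangeF_spec Wb_4 60 2083 2083 iterc_4_2083 v (by omega) (by omega)
  by_cases h4166 : v < 6249
  · exact iterFixRangeF_spec Wb_4 60 2083 4166 iterc_4_4166 v (by omega) (by omega)
  exact iterFixRangeF_spec Wb_4 60 1815 6249 iterc_4_6249 v (by omega) (by omega)

theorem actwb_4 : ∀ v, actL mT RB_4 v = Wb_4 v := by
  intro v
  simp (maxSteps := 100000000) only [RB_4, actL, Wb_4, forceL_eq]
  rfl

theorem RB_4_lt : ∀ c ∈ RB_4, c < 2 * 3 := by decide

theorem iterf_5 : ∀ v, v < 8064 → iterF Wb_5 60 v = v := by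
  intro v hv
  by_cases h0 : v < 2083
  · exact iterFixRangeF_spec Wb_5 60 2083 0 iterc_5_0 v (by omega) (by omega)
  by_cases h2083 : v < 4166
  · exact iterFixRangeF_spec Wb_5 60 2083 2083 iterc_5_2083 v (by omega) (by omega)
  by_cases h4166 : v < 6249
  · exact iterFixRangeF_spec Wb_5 60 2083 4166 iterc_5_4166 v (by omega) (by omega)
  exact iterFixRangeF_spec Wb_5 60 1815 6249 iterc_5_6249 v (by omega) (by omega)

theorem actwb_5 : ∀ v, actL mT RB_5 v = Wb_5 v := by
  intro v
  simp (maxSteps := 100000000) only [RB_5, actL, Wb_5, forceL_eq]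
  rfl

theorem RB_5_lt : ∀ c ∈ RB_5, c < 2 * 3 := by decide

theorem iterf_6 : ∀ v, v < 8064 → iterF Wb_6 60 v = v := by
  intro v hv
  by_cases h0 : v < 2000
  · exact iterFixRangeF_spec Wb_6 60 2000 0 iterc_6_0 v (by omega) (by omega)
  by_cases h2000 : v < 4000
  · exact iterFixRangeF_spec Wb_6 60 2000 2000 iterc_6_2000 v (by omega) (by omega)
  by_cases h4000 : v < 6000
  · exact iterFixRangeF_spec Wb_6 60 2000 4000 iterc_6_4000 v (by omega) (by omega)
  by_cases h6000 : v < 8000
  · exact iterFixRangeF_spec Wb_6 60 2000 6000 iterc_6_6000 v (by omega) (by omega)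
  exact iterFixRangeF_spec Wb_6 60 64 8000 iterc_6_8000 v (by omega) (by omega)

theorem actwb_6 : ∀ v, actL mT RB_6 v = Wb_6 v := by
  intro v
  simp (maxSteps := 100000000) only [RB_6, actL, Wb_6, forceL_eq]
  rfl

theorem RB_6_lt : ∀ c ∈ RB_6, c < 2 * 3 := by decide

theorem iterf_7 : ∀ v, v < 8064 → iterF Wb_7 60 v = v := by
  intro v hv
  by_cases h0 : v < 1851
  · exact iterFixRangeF_spec Wb_7 60 1851 0 iterc_7_0 v (by omega) (by omega)
  by_cases h1851 : v < 3702
  · exact iterFixRangeF_spec Wb_7 60 1851 1851 iterc_7_1851 v (by omega) (by omega)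
  by_cases h3702 : v < 5553
  · exact iterFixRangeF_spec Wb_7 60 1851 3702 iterc_7_3702 v (by omega) (by omega)
  by_cases h5553 : v < 7404
  · exact iterFixRangeF_spec Wb_7 60 1851 5553 iterc_7_5553 v (by omega) (by omega)
  exact iterFixRangeF_spec Wb_7 60 660 7404 iterc_7_7404 v (by omega) (by omega)

theorem actwb_7 : ∀ v, actL mT RB_7 v = Wb_7 v := by
  intro v
  simp (maxSteps := 100000000) only [RB_7, actL, Wb_7, forceL_eq]
  rfl

theorem RB_7_lt : ∀ c ∈ RB_7, c < 2 * 3 := by decide

theorem iterf_8 : ∀ v, v < 8064 → iterF Wb_8 60 v = v := by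
  intro v hv
  by_cases h0 : v < 6250
  · exact iterFixRangeF_spec Wb_8 60 6250 0 iterc_8_0 v (by omega) (by omega)
  exact iterFixRangeF_spec Wb_8 60 1814 6250 iterc_8_6250 v (by omega) (by omega)

theorem actwb_8 : ∀ v, actL mT RB_8 v = Wb_8 v := by
  intro v
  simp (maxSteps := 100000000) only [RB_8, actL, Wb_8, forceL_eq]
  rfl

theorem RB_8_lt : ∀ c ∈ RB_8, c < 2 * 3 := by decide

theorem iterf_9 : ∀ v, v < 8064 → iterF Wb_9 60 v = v := by
  intro v hv
  by_cases h0 : v < 3125
  · exact iterFixRangeF_spec Wb_9 60 3125 0 iterc_9_0 v (by omega) (by omega)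
  by_cases h3125 : v < 6250
  · exact iterFixRangeF_spec Wb_9 60 3125 3125 iterc_9_3125 v (by omega) (by omega)
  exact iterFixRangeF_spec Wb_9 60 1814 6250 iterc_9_6250 v (by omega) (by omega)

theorem actwb_9 : ∀ v, actL mT RB_9 v = Wb_9 v := by
  intro v
  simp (maxSteps := 100000000) only [RB_9, actL, Wb_9, forceL_eq]
  rfl

theorem RB_9_lt : ∀ c ∈ RB_9, c < 2 * 3 := by decide

theorem relsFix : RelsFix RL 8064 mT := by
  intro l hl v hv
  unfold RL at hl
  rcases List.mem_cons.mp hl with rfl | hl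
  · rw [actw_0]; exact relf_0 v hv
  rcases List.mem_cons.mp hl with rfl | hl
  · rw [actw_1]; exact relf_1 v hv
  rcases List.mem_cons.mp hl with rfl | hl
  · rw [actw_2]; exact relf_2 v hv
  rcases List.mem_cons.mp hl with rfl | hl
  · rw [actw_3]; exact relf_3 v hv
  rcases List.mem_cons.mp hl with rfl | hl
  · rw [actw_4]; exact relf_4 v hv
  rcases List.mem_cons.mp hl with rfl | hl
  · rw [actw_5]; exact relf_5 v hv
  rcases List.mem_cons.mp hl with rfl | hl
  · rw [actw_6]; exact relf_6 v hv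
  rcases List.mem_cons.mp hl with rfl | hl
  · rw [actw_7]; exact relf_7 v hv
  rcases List.mem_cons.mp hl with rfl | hl
  · rw [actw_8]; exact relf_8 v hv
  rcases List.mem_cons.mp hl with rfl | hl
  · rw [actw_9]; exact relf_9 v hv
  rcases List.mem_cons.mp hl with rfl | hl
  · rw [actw_10]; exact relf_10 v hv
  rcases List.mem_cons.mp hl with rfl | hl
  · rw [actw_11]; exact relf_11 v hv
  rcases List.mem_cons.mp hl with rfl | hl
  · rw [actw_12]; exact relf_12 v hv
  rcases List.mem_cons.mp hl with rfl | hl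
  · rw [actw_13]; exact relf_13 v hv
  rcases List.mem_cons.mp hl with rfl | hl
  · rw [actw_14]; exact relf_14 v hv
  rcases List.mem_cons.mp hl with rfl | hl
  · rw [actw_15]; exact relf_15 v hv
  rcases List.mem_cons.mp hl with rfl | hl
  · rw [actw_16]; exact relf_16 v hv
  rcases List.mem_cons.mp hl with rfl | hl
  · rw [actw_17]; exact relf_17 v hv
  rcases List.mem_cons.mp hl with rfl | hl
  · rw [actw_18]; exact relf_18 v hv
  rcases List.mem_cons.mp hl with rfl | hl
  · rw [actw_19]; exact relf_19 v hv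
  rcases List.mem_cons.mp hl with rfl | hl
  · rw [actw_20]; exact relf_20 v hv
  rcases List.mem_cons.mp hl with rfl | hl
  · rw [actw_21]; exact relf_21 v hv
  rcases List.mem_cons.mp hl with rfl | hl
  · rw [actw_22]; exact relf_22 v hv
  rcases List.mem_cons.mp hl with rfl | hl
  · rw [actw_23]; exact relf_23 v hv
  rcases List.mem_cons.mp hl with rfl | hl
  · rw [actw_24]; exact relf_24 v hv
  rcases List.mem_cons.mp hl with rfl | hl
  · rw [actw_25]; exact relf_25 v hv
  rcases List.mem_cons.mp hl with rfl | hl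
  · rw [actw_26]; exact relf_26 v hv
  rcases List.mem_cons.mp hl with rfl | hl
  · rw [actw_27]; exact relf_27 v hv
  rcases List.mem_cons.mp hl with rfl | hl
  · rw [actw_28]; exact relf_28 v hv
  rcases List.mem_cons.mp hl with rfl | hl
  · rw [actw_29]; exact relf_29 v hv
  rcases List.mem_cons.mp hl with rfl | hl
  · rw [actw_30]; exact relf_30 v hv
  rcases List.mem_cons.mp hl with rfl | hl
  · rw [actw_31]; exact relf_31 v hv
  rcases List.mem_cons.mp hl with rfl | hl
  · rw [actw_32]; exact relf_32 v hv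
  rcases List.mem_cons.mp hl with rfl | hl
  · rw [actw_33]; exact relf_33 v hv
  rcases List.mem_cons.mp hl with rfl | hl
  · rw [actw_34]; exact relf_34 v hv
  rcases List.mem_cons.mp hl with rfl | hl
  · rw [actw_35]; exact relf_35 v hv
  rcases List.mem_cons.mp hl with rfl | hl
  · rw [actw_36]; exact relf_36 v hv
  rcases List.mem_cons.mp hl with rfl | hl
  · rw [actw_37]; exact relf_37 v hv
  rcases List.mem_cons.mp hl with rfl | hl
  · rw [actw_38]; exact relf_38 v hv
  rcases List.mem_cons.mp hl with rfl | hl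
  · exact pow_fix_of_pointwise tableOK RB_0 RB_0_lt Wb_0 60 (fun v _ => (actwb_0 v).symm) iterf_0 v hv
  rcases List.mem_cons.mp hl with rfl | hl
  · exact pow_fix_of_pointwise tableOK RB_1 RB_1_lt Wb_1 60 (fun v _ => (actwb_1 v).symm) iterf_1 v hv
  rcases List.mem_cons.mp hl with rfl | hl
  · exact pow_fix_of_pointwise tableOK RB_2 RB_2_lt Wb_2 60 (fun v _ => (actwb_2 v).symm) iterf_2 v hv
  rcases List.mem_cons.mp hl with rfl | hl
  · exact pow_fix_of_pointwise tableOK RB_3 RB_3_lt Wb_3 60 (fun v _ => (actwb_3 v).symm) iterf_3 v hv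
  rcases List.mem_cons.mp hl with rfl | hl
  · exact pow_fix_of_pointwise tableOK RB_4 RB_4_lt Wb_4 60 (fun v _ => (actwb_4 v).symm) iterf_4 v hv
  rcases List.mem_cons.mp hl with rfl | hl
  · exact pow_fix_of_pointwise tableOK RB_5 RB_5_lt Wb_5 60 (fun v _ => (actwb_5 v).symm) iterf_5 v hv
  rcases List.mem_cons.mp hl with rfl | hl
  · exact pow_fix_of_pointwise tableOK RB_6 RB_6_lt Wb_6 60 (fun v _ => (actwb_6 v).symm) iterf_6 v hv
  rcases List.mem_cons.mp hl with rfl | hl
  · exact pow_fix_of_pointwise tableOK RB_7 RB_7_lt Wb_7 60 (fun v _ => (actwb_7 v).symm) iterf_7 v hv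
  rcases List.mem_cons.mp hl with rfl | hl
  · exact pow_fix_of_pointwise tableOK RB_8 RB_8_lt Wb_8 60 (fun v _ => (actwb_8 v).symm) iterf_8 v hv
  rcases List.mem_cons.mp hl with rfl | hl
  · exact pow_fix_of_pointwise tableOK RB_9 RB_9_lt Wb_9 60 (fun v _ => (actwb_9 v).symm) iterf_9 v hv
  exact absurd hl (by simp)

end Cfsg.Agent.Helper5.G24XM
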