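import Cfsg.Agent.Helper5.G24XMDat

/-! generated permutation model of a central extension, checks: G24XM -/

set_option autoImplicit false
set_option Elab.async false
set_option maxRecDepth 1000000

namespace Cfsg.Agent.Helper5.G24XM
open Cfsg.Agent.Helper5.TC Cfsg.Agent.Helper5.TCI Cfsg.Agent.Helper5.LP

theorem iterc_3_0 : iterFixRangeF Wb_3 60 2500 0 = true := by decide +kernel

theorem iterc_9_0 : iterFixRangeF Wb_9 60 3125 0 = true := by decide +kernel

theorem iterc_7_1851 : iterFixRangeF Wb_7 60 1851 1851 = true := by decide +kernel

theorem iterc_0_4166 : iterFixRangeF Wb_0 60 3898 4166 = true := by decide +kernel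

theorem relc_14_0 : fixPtsF W_14 8064 0 = true := by decide +kernel

theorem relc_34_0 : fixPtsF W_34 8064 0 = true := by decide +kernel

theorem inv_1 : invRowFI mT 8064 1 0 8064 0 = true := by decide +kernel

theorem inv_3 : invRowFI mT 8064 3 2 8064 0 = true := by decide +kernel

theorem relc_3_0 : fixPtsF W_3 8064 0 = true := by decide +kernel

end Cfsg.Agent.Helper5.G24XM
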