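import Mathlib
import Cfsg.Prelude.Def_Transfer
import Cfsg.Agent.Lead.SpecialCoprime
import Cfsg.Agent.Helper2.G2Quot
import Cfsg.Agent.Helper1.PGroup

/-!
S3795 (Gross, `p = 2`): S0119 (`Lead.special_of_coprime_char_abelian`) in ambient-subgroup form.
-/

set_option autoImplicit false

namespace Cfsg.Agent.Helper5.G2Special

open Cfsg.Agent.Helper2.G2

variable {Γ : Type*} [Group Γ]

/-- in a finite group, an element conjugating `P` into itself normalizes `P`. -/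
theorem mem_normalizer_of_conj [Finite Γ] {P : Subgroup Γ} {g : Γ}
    (h : ∀ v ∈ P, g * v * g⁻¹ ∈ P) : g ∈ Subgroup.normalizer (P : Set Γ) := by
  have := mem_secNorm_of_conj (P := P) (R := P) h h
  exact (mem_secNorm.1 this).1

theorem special_ambient [Finite Γ] {p : ℕ} [Fact p.Prime] (P A : Subgroup Γ)
    (hP : IsPGroup p P) (hAP : ∀ a ∈ A, ∀ v ∈ P, a * v * a⁻¹ ∈ P)
    (hcop : (Nat.card A).Coprime p)
    (hgen : P ≤ Subgroup.closure {u | ∃ a ∈ A, ∃ v ∈ P, u = a * v * a⁻¹ * v⁻¹})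
    (hchar : ∀ H : Subgroup Γ, H ≤ P →
      (∀ y : Γ, (∀ v ∈ P, y * v * y⁻¹ ∈ P) → ∀ h ∈ H, y * h * y⁻¹ ∈ H) →
      (∀ a ∈ H, ∀ b ∈ H, a * b = b * a) → ∀ a ∈ A, ∀ h ∈ H, a * h = h * a) :
    (∀ u ∈ P, ∀ v ∈ P, ∀ w ∈ P, (u * v * u⁻¹ * v⁻¹) * w = w * (u * v * u⁻¹ * v⁻¹)) ∧
    (∀ u ∈ P, ∀ w ∈ P, u ^ p * w = w * u ^ p) ∧
    (∀ c ∈ P, (∀ w ∈ P, c * w = w * c) ↔ (∀ a ∈ A, a * c = c * a)) := by
  classical
  set N := Subgroup.normalizer (P : Set Γ) with hN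
  have hAN : A ≤ N := fun a ha => mem_normalizer_of_conj (hAP a ha)
  -- the group of automorphisms of `P` induced by `A`
  set A' : Subgroup (MulAut ↥P) := (A.subgroupOf N).map (conjAct P) with hA'
  have hA'mem : ∀ a' ∈ A', ∃ a : Γ, ∃ ha : a ∈ A, ∀ v : ↥P, ((a' v : ↥P) : Γ) = a * v * a⁻¹ := by
    rintro a' ⟨x, hx, rfl⟩
    exact ⟨(x : Γ), Subgroup.mem_subgroupOf.1 hx, fun v => rfl⟩
  have hmemA' : ∀ a : Γ, ∀ ha : a ∈ A, conjAct P ⟨a, hAN ha⟩ ∈ A' := by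
    intro a ha
    exact ⟨⟨a, hAN ha⟩, Subgroup.mem_subgroupOf.2 ha, rfl⟩
  have hPG : IsPGroup p ↥P := hP
  have hcard : Nat.Coprime (Nat.card A') p := by
    have h1 : Nat.card A' ∣ Nat.card (A.subgroupOf N) := Subgroup.card_map_dvd _ _
    have h2 : Nat.card (A.subgroupOf N) = Nat.card A :=
      Nat.card_congr (Subgroup.subgroupOfEquivOfLe hAN).toEquiv
    rw [h2] at h1
    exact Nat.Coprime.coprime_dvd_left h1 hcop
  have hGA : Subgroup.closure {x : ↥P | ∃ g : ↥P, ∃ a ∈ A', x = g⁻¹ * a g} = ⊤ := by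
    set T := Subgroup.closure {x : ↥P | ∃ g : ↥P, ∃ a ∈ A', x = g⁻¹ * a g} with hT
    have hle : Subgroup.closure {u | ∃ a ∈ A, ∃ v ∈ P, u = a * v * a⁻¹ * v⁻¹} ≤
        T.map P.subtype := by
      rw [Subgroup.closure_le]
      rintro u ⟨a, ha, v, hv, rfl⟩
      have hav : a * v * a⁻¹ ∈ P := hAP a ha v hv
      -- the inverse of `u` is a generator with `g = v⁻¹`
      have hgen' : (⟨v, hv⟩ : ↥P) * (conjAct P ⟨a, hAN ha⟩ (⟨v, hv⟩ : ↥P)⁻¹) ∈ T := by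
        apply Subgroup.subset_closure
        refine ⟨(⟨v, hv⟩ : ↥P)⁻¹, conjAct P ⟨a, hAN ha⟩, hmemA' a ha, ?_⟩
        rw [inv_inv]
      have hinv := T.inv_mem hgen'
      refine ⟨_, hinv, ?_⟩
      change (((⟨v, hv⟩ : ↥P) * (conjAct P ⟨a, hAN ha⟩ (⟨v, hv⟩ : ↥P)⁻¹))⁻¹ : ↥P).1 = _
      rw [Subgroup.coe_inv, Subgroup.coe_mul, conjAct_coe]
      change (v * (a * ((⟨v, hv⟩ : ↥P)⁻¹ : ↥P).1 * a⁻¹))⁻¹ = a * v * a⁻¹ * v⁻¹
      rw [Subgroup.coe_inv]
      change (v * (a * v⁻¹ * a⁻¹))⁻¹ = a * v * a⁻¹ * v⁻¹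
      group
    rw [eq_top_iff]
    intro x _
    obtain ⟨y, hy, hyx⟩ := (hgen.trans hle) x.2
    have : y = x := Subtype.ext hyx
    rwa [← this]
  have hchar' : ∀ H' : Subgroup ↥P, H'.Characteristic → IsMulCommutative H' →
      ∀ a ∈ A', ∀ h ∈ H', a h = h := by
    intro H' hH'c hH'comm a' ha' h hh
    obtain ⟨a, ha, hact⟩ := hA'mem a' ha'
    apply Subtype.ext
    rw [hact h]
    have hHle : H'.map P.subtype ≤ P := Subgroup.map_subtype_le _
    have hinv : ∀ y : Γ, (∀ v ∈ P, y * v * y⁻¹ ∈ P) →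
        ∀ h ∈ H'.map P.subtype, y * h * y⁻¹ ∈ H'.map P.subtype := by
      rintro y hy _ ⟨h0, hh0, rfl⟩
      have hyN : y ∈ N := mem_normalizer_of_conj hy
      have hfix := (Subgroup.characteristic_iff_map_eq.1 hH'c) (conjAct P ⟨y, hyN⟩)
      have : conjAct P ⟨y, hyN⟩ h0 ∈ H'.map (conjAct P ⟨y, hyN⟩).toMonoidHom :=
        Subgroup.mem_map_of_mem _ hh0
      rw [hfix] at this
      exact ⟨_, this, rfl⟩
    have hab : ∀ x ∈ H'.map P.subtype, ∀ y ∈ H'.map P.subtype, x * y = y * x := by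
      rintro _ ⟨x0, hx0, rfl⟩ _ ⟨y0, hy0, rfl⟩
      have := hH'comm.is_comm.comm (⟨x0, hx0⟩ : ↥H') ⟨y0, hy0⟩
      have h2 : x0 * y0 = y0 * x0 := congrArg Subtype.val this
      exact congrArg Subtype.val h2
    have hcomm := hchar (H'.map P.subtype) hHle hinv hab a ha (h : Γ) ⟨h, hh, rfl⟩
    rw [hcomm]; group
  obtain ⟨hsp, hcen⟩ := Cfsg.Agent.Lead.special_of_coprime_char_abelian hPG A' hcard hGA hchar'
  obtain ⟨-, hfr, hcm⟩ := hsp
  refine ⟨?_, ?_, ?_⟩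
  · intro u hu v hv w hw
    have hmem : (⟨u, hu⟩ : ↥P) * ⟨v, hv⟩ * (⟨u, hu⟩ : ↥P)⁻¹ * (⟨v, hv⟩ : ↥P)⁻¹ ∈
        Subgroup.center ↥P := by
      rw [← hcm, commutator_def]
      have := Subgroup.commutator_mem_commutator (Subgroup.mem_top (⟨u, hu⟩ : ↥P))
        (Subgroup.mem_top (⟨v, hv⟩ : ↥P))
      rwa [commutatorElement_def] at this
    have := Subgroup.mem_center_iff.1 hmem ⟨w, hw⟩
    have h2 := congrArg Subtype.val this
    exact h2.symm
  · intro u hu w hw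
    have hmem : (⟨u, hu⟩ : ↥P) ^ p ∈ Subgroup.center ↥P := by
      rw [← hfr]
      exact Cfsg.Agent.Helper1.IsPGroup.pow_mem_frattini hPG _
    have := Subgroup.mem_center_iff.1 hmem ⟨w, hw⟩
    have h2 := congrArg Subtype.val this
    exact h2.symm
  · intro c hc
    have key := hcen ⟨c, hc⟩
    constructor
    · intro hcw a ha
      have hcz : (⟨c, hc⟩ : ↥P) ∈ Subgroup.center ↥P := by
        rw [Subgroup.mem_center_iff]
        intro w
        apply Subtype.ext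
        exact (hcw w w.2).symm
      have := (key.1 hcz) (conjAct P ⟨a, hAN ha⟩) (hmemA' a ha)
      have h2 : a * c * a⁻¹ = c := congrArg Subtype.val this
      calc a * c = a * c * a⁻¹ * a := by group
        _ = c * a := by rw [h2]
    · intro hca w hw
      have hfix : ∀ a' ∈ A', a' (⟨c, hc⟩ : ↥P) = ⟨c, hc⟩ := by
        intro a' ha'
        obtain ⟨a, ha, hact⟩ := hA'mem a' ha'
        apply Subtype.ext
        rw [hact]
        change a * c * a⁻¹ = c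
        rw [hca a ha]; group
      have hcz := key.2 hfix
      have := Subgroup.mem_center_iff.1 hcz ⟨w, hw⟩
      have h2 := congrArg Subtype.val this
      exact h2.symm

end Cfsg.Agent.Helper5.G2Special
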