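import Mathlib

/-!
# The field with eight elements, computably

An explicit model `F8 = F₂[x] / (x³ + x + 1)` of the field with eight elements, with decidable
equality, so that matrix computations over it can be checked by `decide`.
-/

set_option autoImplicit false

namespace Cfsg.Agent.Helper5.GF8

/-- the field with eight elements: `c0 + c1 x + c2 x²` with `x³ = x + 1`. -/
structure F8 : Type where
  /-- the constant coefficient. -/
  c0 : Fin 2
  /-- the coefficient of `x`. -/
  c1 : Fin 2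
  /-- the coefficient of `x²`. -/
  c2 : Fin 2
  deriving DecidableEq, Fintype

namespace F8

instance : Add F8 := ⟨fun a b => ⟨a.c0 + b.c0, a.c1 + b.c1, a.c2 + b.c2⟩⟩
instance : Mul F8 := ⟨fun a b =>
  ⟨a.c0 * b.c0 + (a.c1 * b.c2 + a.c2 * b.c1),
   a.c0 * b.c1 + a.c1 * b.c0 + (a.c1 * b.c2 + a.c2 * b.c1) + a.c2 * b.c2,
   a.c0 * b.c2 + a.c1 * b.c1 + a.c2 * b.c0 + a.c2 * b.c2⟩⟩
instance : Zero F8 := ⟨⟨0, 0, 0⟩⟩
instance : One F8 := ⟨⟨1, 0, 0⟩⟩
instance : Neg F8 := ⟨fun a => a⟩

/-- inversion: `a⁻¹ = a⁶`. -/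
instance : Inv F8 := ⟨fun a => a * a * a * a * a * a⟩

theorem add_assoc' : ∀ a b c : F8, a + b + c = a + (b + c) := by decide
theorem zero_add' : ∀ a : F8, 0 + a = a := by decide
theorem add_zero' : ∀ a : F8, a + 0 = a := by decide
theorem add_comm' : ∀ a b : F8, a + b = b + a := by decide
theorem neg_add_cancel' : ∀ a : F8, -a + a = 0 := by decide
theorem mul_assoc' : ∀ a b c : F8, a * b * c = a * (b * c) := by decide
theorem one_mul' : ∀ a : F8, 1 * a = a := by decide
theorem mul_one' : ∀ a : F8, a * 1 = a := by decide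
theorem left_distrib' : ∀ a b c : F8, a * (b + c) = a * b + a * c := by decide
theorem right_distrib' : ∀ a b c : F8, (a + b) * c = a * c + b * c := by decide
theorem zero_mul' : ∀ a : F8, 0 * a = 0 := by decide
theorem mul_zero' : ∀ a : F8, a * 0 = 0 := by decide
theorem mul_comm' : ∀ a b : F8, a * b = b * a := by decide
theorem mul_inv_cancel' : ∀ a : F8, a ≠ 0 → a * a⁻¹ = 1 := by decide

instance instField : Field F8 where
  add := (· + ·)
  add_assoc := add_assoc'
  zero := 0
  zero_add := zero_add'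
  add_zero := add_zero'
  nsmul := nsmulRec
  neg := Neg.neg
  zsmul := zsmulRec
  neg_add_cancel := neg_add_cancel'
  add_comm := add_comm'
  mul := (· * ·)
  left_distrib := left_distrib'
  right_distrib := right_distrib'
  zero_mul := zero_mul'
  mul_zero := mul_zero'
  mul_assoc := mul_assoc'
  one := 1
  one_mul := one_mul'
  mul_one := mul_one'
  npow := npowRec
  mul_comm := mul_comm'
  inv := Inv.inv
  exists_pair_ne := ⟨0, 1, by decide⟩
  mul_inv_cancel := mul_inv_cancel'
  inv_zero := by decide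
  nnqsmul := _
  nnqsmul_def := fun _ _ => rfl
  qsmul := _
  qsmul_def := fun _ _ => rfl

theorem card_eq : Fintype.card F8 = 8 := by decide

/-- decoding of the numbers `0, …, 7` as bit masks: `n ↦ (n % 2) + (n / 2 % 2) x + (n / 4 % 2) x²`. -/
def ofN (n : ℕ) : F8 :=
  ⟨⟨n % 2, Nat.mod_lt _ (by norm_num)⟩, ⟨(n / 2) % 2, Nat.mod_lt _ (by norm_num)⟩,
   ⟨(n / 4) % 2, Nat.mod_lt _ (by norm_num)⟩⟩

end F8

end Cfsg.Agent.Helper5.GF8
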