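import Cfsg.Agent.Helper5.GoldTwoD
import Cfsg.Agent.Helper4.GoldLabB
import Cfsg.Agent.Helper9.GoldE3b
import Cfsg.Agent.Gold.Exist

/-!
# S2858 project: assembly of the `b ≥ 2` elimination (integration check / backup glue)
-/

namespace Cfsg.Agent.Helper5.Gold

open MulAction Cfsg.Agent.Gold Cfsg.Agent.Lead.Gold
open scoped commutatorElement

variable {G : Type*} [Group G] {V : Type*} [MulAction G V] {Γ : SimpleGraph V}
  {b : ℕ} {a : ℕ → V}

/-- `htype` along a critical walk starting at a vertex of type `S1` -/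
theorem htype_of_S1 (h : Loc3 G Γ) (c : CritWalk G Γ b a) (hS : S1 G Γ (a 0)) :
    ∀ j, 2 * j ≤ b → ∀ δ, Γ.Adj (a (2 * j)) δ →
      Qk G Γ (a (2 * j)) ⊓ Qk G Γ δ ≤ Dk G Γ (a (2 * j)) := by
  have hT := Type1.walk h c.hadj (type1_iff_S1.2 hS)
  intro j hj δ hδ
  exact Type1.inf_le_Dk h (hT j hj) hδ

/-- (T1) -/
theorem dead_odd_cw (h : Loc3 G Γ) (hb : 3 ≤ b) (hodd : Odd b) (c : CritWalk G Γ b a)
    (hS : S1 G Γ (a 0)) : False := by
  obtain ⟨t, ht, htQ, _⟩ := c.exists_t h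
  exact odd_subcase_one_false h hodd hb c.hno a c.hadj ht htQ (htype_of_S1 h c hS)
    (le_of_eq (S1.relIndex_Dk h hS)) (fun g hg hc => cent_Zv h hg hc)

/-- (T2) -/
theorem dead_sub1_even_cw (h : Loc3 G Γ) (hb : 4 ≤ b) (heven : Even b) (c : CritWalk G Γ b a)
    (hS : S1 G Γ (a 0)) : False := by
  by_cases hsib : ∀ μ, Γ.Adj (a 1) μ → μ ≠ a 0 → μ ≠ a 2 → Zv G Γ μ ≤ Qk G Γ (a b)
  · obtain ⟨t, ht, htQ, htE⟩ := c.exists_t h
    have ht0 : t ∈ stabilizer G (a 0) := (inf_le_left : Ed G (a 0) (a 1) ≤ _) htE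
    apply Cfsg.Agent.Helper9.Gold.e3b_tight h c heven hb ht htQ (htype_of_S1 h c hS)
      (S1.relIndex_Dk h hS) ?_ hsib
    intro u hu
    rw [Vn_zero]
    exact S1.comm_mem_Zv h hS ht0 hu
  · push Not at hsib
    obtain ⟨μ, hμ, hμ0, _, hμc⟩ := hsib
    exact Cfsg.Agent.Helper4.Gold.dead_sub1_even_sib_cw h hb heven c hS hμ hμ0 hμc

/-- **`b ≥ 2` is impossible.** -/
theorem no_b_ge_two_cw (h : Loc3 G Γ) (hb : 2 ≤ b) (c : CritWalk G Γ b a) : False := by
  rcases Nat.even_or_odd b with heven | hodd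
  · by_cases hb4 : 4 ≤ b
    · by_cases hS : S1 G Γ (a 0)
      · exact dead_sub1_even_cw h hb4 heven c hS
      · exact Cfsg.Agent.Helper4.Gold.dead_sub2_even_cw h hb4 heven c hS
    · have hb2 : b = 2 := by
        obtain ⟨k, hk⟩ := heven
        omega
      subst hb2
      exact dead_two_cw h c
  · have hb3 : 3 ≤ b := by
      obtain ⟨k, hk⟩ := hodd
      omega
    by_cases hS : S1 G Γ (a 0)
    · exact dead_odd_cw h hb3 hodd c hS
    · by_cases hSb : S1 G Γ (a b)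
      · have cr := c.reverse h
        exact dead_odd_cw h hb3 hodd cr (by simpa using hSb)
      · exact Cfsg.Agent.Helper4.Gold.dead_sub2_odd_cw h hb3 hodd c hS hSb

/-- **The abstract main theorem**: some `Z_x` is not contained in `Q_y` for adjacent `x`, `y`. -/
theorem exists_adj_crit' (h : Loc3 G Γ) [Nonempty V] :
    ∃ x y, Γ.Adj x y ∧ ¬ Zv G Γ x ≤ Qk G Γ y := by
  obtain ⟨b, a, hmin, hp⟩ := exists_CPath h
  have c : CritWalk G Γ b a := ⟨hmin, hp.adj, hp.crit⟩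
  have hpos := c.pos h
  by_cases hb : 2 ≤ b
  · exact (no_b_ge_two_cw h hb c).elim
  · have hb1 : b = 1 := by omega
    subst hb1
    exact ⟨a 0, a 1, c.hadj 0 (by norm_num), c.hcrit⟩

end Cfsg.Agent.Helper5.Gold
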