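import Cfsg.Agent.Helper5.GoldTwoC
import Cfsg.Agent.Lead.GoldCritC

/-!
# S2858 project, E4 (`b = 2`): the complete kill `dead_two_cw`, no extra hypotheses
-/

namespace Cfsg.Agent.Helper5.Gold

open MulAction Cfsg.Agent.Gold Cfsg.Agent.Lead.Gold
open scoped commutatorElement

variable {G : Type*} [Group G] {V : Type*} [MulAction G V] {Γ : SimpleGraph V}

/-- the start of a critical walk of length `2` is of type `S1` -/
theorem S1_of_critWalk_two' (h : Loc3 G Γ) {a : ℕ → V} (c : CritWalk G Γ 2 a) :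
    S1 G Γ (a 0) := by
  by_contra hS
  obtain ⟨l, hl, _, hcr⟩ := c.exists_crit_of_not_S1 h le_rfl hS
  exact dead_two_notS1 h c.hno a c.hadj c.hcrit hl hcr

/-- **E4 = (T3).**  There is no critical walk of length `2`. -/
theorem dead_two_cw (h : Loc3 G Γ) {a : ℕ → V} (c : CritWalk G Γ 2 a) : False := by
  have hS0 : S1 G Γ (a 0) := S1_of_critWalk_two' h c
  have hS2 : S1 G Γ (a 2) := by
    have := S1_of_critWalk_two' h (c.reverse h)
    simpa using this
  apply dead_two_S1 h c.hno a c.hadj c.hcrit ?_ (le_of_eq (S1.relIndex_Dk h hS0))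
  intro j hj δ hδ
  have hj' : j = 0 ∨ j = 1 := by omega
  rcases hj' with rfl | rfl
  · exact S1.inf_le_Dk h hS0 hδ
  · exact S1.inf_le_Dk h hS2 hδ

end Cfsg.Agent.Helper5.Gold
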