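import Cfsg.Agent.Helper5.HNATCDatD
import Cfsg.Agent.Helper5.HNATCDatT
import Cfsg.Agent.Helper5.TCIB

/-! kernel checks of words: HNATC -/

set_option autoImplicit false
set_option Elab.async false

namespace Cfsg.Agent.Helper5.HNATC
open Cfsg.Agent.Helper5.TC Cfsg.Agent.Helper5.TCI
noncomputable section

set_option maxRecDepth 1000000 in
theorem set_zero : tb RS 0 = true := by decide +kernel

set_option maxRecDepth 1000000 in
theorem set_lt : Nat.blt RS (Nat.pow 2 588491) = true := by decide +kernel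

set_option maxRecDepth 1000000 in
theorem rev_ok : revOKI iota D D.nw = true := by decide +kernel

set_option maxRecDepth 1000000 in
theorem words_ok : wordsOK D D.nw = true := by decide +kernel

set_option maxRecDepth 1000000 in
theorem sub_ok : subAll ctF D D.nw = true := by decide +kernel

theorem word_0 : unpack (D.wlen 0) (D.wordP 0) = [2, 2, 2, 2, 2, 2] := by decide +kernel

theorem word_1 : unpack (D.wlen 1) (D.wordP 1) = [3, 0, 0, 2, 0, 0] := by decide +kernel

theorem word_2 : unpack (D.wlen 2) (D.wordP 2) = [2, 0, 3, 1, 2, 0, 3, 1, 2, 0, 3, 1] := by decide +kernel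

theorem word_3 : unpack (D.wlen 3) (D.wordP 3) = [2, 2, 2, 0, 2, 2, 1, 2, 2, 2, 0, 2, 2, 1, 2, 2, 2, 0, 2, 2, 1] := by decide +kernel

theorem word_4 : unpack (D.wlen 4) (D.wordP 4) = [2, 0, 2, 0, 2, 0, 2, 0, 2, 0, 2, 0, 2, 0, 2, 0] := by decide +kernel

theorem word_5 : unpack (D.wlen 5) (D.wordP 5) = [2, 2, 2, 0, 2, 0, 2, 2, 2, 0, 2, 0, 2, 2, 2, 0, 2, 0, 2, 2, 2, 0, 2, 0] := by decide +kernel

theorem word_6 : unpack (D.wlen 6) (D.wordP 6) = [0, 1] := by decide +kernel

theorem word_7 : unpack (D.wlen 7) (D.wordP 7) = [1, 0] := by decide +kernel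

theorem word_8 : unpack (D.wlen 8) (D.wordP 8) = [2, 3] := by decide +kernel

theorem word_9 : unpack (D.wlen 9) (D.wordP 9) = [3, 2] := by decide +kernel

theorem word_10 : unpack (D.wlen 10) (D.wordP 10) = [2] := by decide +kernel

end

end Cfsg.Agent.Helper5.HNATC
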