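import Cfsg.Agent.Helper5.HNATCDatD
import Cfsg.Agent.Helper5.TCIB

/-! kernel checks of edges, aliases, rows: HNATC -/

set_option autoImplicit false
set_option Elab.async false

namespace Cfsg.Agent.Helper5.HNATC
open Cfsg.Agent.Helper5.TC Cfsg.Agent.Helper5.TCI
noncomputable section

set_option maxRecDepth 1000000 in
theorem cnt_0 : cntFrom RS 20000 0 0 = 18286 := by decide +kernel

set_option maxRecDepth 1000000 in
theorem cnt_16 : cntFrom RS 20000 320000 0 = 5169 := by decide +kernel

set_option maxRecDepth 1000000 in
theorem edges_2_140 : edgesRangeI iota E 2 2548 335288 = true := by decide +kernel

set_option maxRecDepth 1000000 in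
theorem edges_2_121 : edgesRangeI iota E 2 2529 289281 = true := by decide +kernel

set_option maxRecDepth 1000000 in
theorem edges_2_60 : edgesRangeI iota E 2 2341 142668 = true := by decide +kernel

set_option maxRecDepth 1000000 in
theorem edges_2_119 : edgesRangeI iota E 2 2383 284366 = true := by decide +kernel

set_option maxRecDepth 1000000 in
theorem edges_2_116 : edgesRangeI iota E 2 2473 276998 = true := by decide +kernel

set_option maxRecDepth 1000000 in
theorem edges_0_8 : edgesRangeI iota E 0 1645 13423 = true := by decide +kernel

set_option maxRecDepth 1000000 in
theorem edges_1_139 : edgesRangeI iota E 1 4850 517512 = true := by decide +kernel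

set_option maxRecDepth 1000000 in
theorem edges_0_256 : edgesRangeI iota E 0 2277 524539 = true := by decide +kernel

set_option maxRecDepth 1000000 in
theorem edges_2_203 : edgesRangeI iota E 2 2620 491401 = true := by decide +kernel

set_option maxRecDepth 1000000 in
theorem edges_1_169 : edgesRangeI iota E 1 1433 582824 = true := by decide +kernel

set_option maxRecDepth 1000000 in
theorem edges_3_36 : edgesRangeI iota E 3 4673 163477 = true := by decide +kernel

set_option maxRecDepth 1000000 in
theorem edges_2_37 : edgesRangeI iota E 2 2274 88699 = true := by decide +kernel

set_option maxRecDepth 1000000 in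
theorem edges_0_16 : edgesRangeI iota E 0 1669 26535 = true := by decide +kernel

set_option maxRecDepth 1000000 in
theorem edges_0_84 : edgesRangeI iota E 0 1981 146794 = true := by decide +kernel

set_option maxRecDepth 1000000 in
theorem edges_0_298 : edgesRangeI iota E 0 1145 578175 = true := by decide +kernel

set_option maxRecDepth 1000000 in
theorem edges_2_204 : edgesRangeI iota E 2 2354 494021 = true := by decide +kernel

set_option maxRecDepth 1000000 in
theorem edges_0_120 : edgesRangeI iota E 0 2296 218164 = true := by decide +kernel

set_option maxRecDepth 1000000 in
theorem edges_0_246 : edgesRangeI iota E 0 2700 499147 = true := by decide +kernel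

set_option maxRecDepth 1000000 in
theorem edges_2_28 : edgesRangeI iota E 2 2401 67139 = true := by decide +kernel

set_option maxRecDepth 1000000 in
theorem edges_0_9 : edgesRangeI iota E 0 1638 15068 = true := by decide +kernel

set_option maxRecDepth 1000000 in
theorem edges_0_54 : edgesRangeI iota E 0 1791 91796 = true := by decide +kernel

set_option maxRecDepth 1000000 in
theorem edges_0_296 : edgesRangeI iota E 0 1152 575876 = true := by decide +kernel

set_option maxRecDepth 1000000 in
theorem edges_3_62 : edgesRangeI iota E 3 5304 293804 = true := by decide +kernel

set_option maxRecDepth 1000000 in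
theorem aliases_106 : aliasRange E 2313 299523 = true := by decide +kernel

set_option maxRecDepth 1000000 in
theorem aliases_218 : aliasRange E 4683 532413 = true := by decide +kernel

set_option maxRecDepth 1000000 in
theorem edges_0_261 : edgesRangeI iota E 0 1320 533528 = true := by decide +kernel

set_option maxRecDepth 1000000 in
theorem edges_2_100 : edgesRangeI iota E 2 2478 238164 = true := by decide +kernel

set_option maxRecDepth 1000000 in
theorem aliases_1 : aliasRange E 5955 6344 = true := by decide +kernel

set_option maxRecDepth 1000000 in
theorem aliases_69 : aliasRange E 2245 217922 = true := by decide +kernel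

set_option maxRecDepth 1000000 in
theorem aliases_150 : aliasRange E 2033 395707 = true := by decide +kernel

set_option maxRecDepth 1000000 in
theorem edges_0_49 : edgesRangeI iota E 0 1867 82769 = true := by decide +kernel

set_option maxRecDepth 1000000 in
theorem edges_0_72 : edgesRangeI iota E 0 1830 124237 = true := by decide +kernel

set_option maxRecDepth 1000000 in
theorem edges_0_238 : edgesRangeI iota E 0 2455 480913 = true := by decide +kernel

set_option maxRecDepth 1000000 in
theorem edges_1_22 : edgesRangeI iota E 1 3380 72937 = true := by decide +kernel

set_option maxRecDepth 1000000 in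
theorem edges_1_82 : edgesRangeI iota E 1 4031 287443 = true := by decide +kernel

set_option maxRecDepth 1000000 in
theorem edges_2_41 : edgesRangeI iota E 2 2384 97840 = true := by decide +kernel

set_option maxRecDepth 1000000 in
theorem edges_2_236 : edgesRangeI iota E 2 1343 555391 = true := by decide +kernel

set_option maxRecDepth 1000000 in
theorem edges_3_92 : edgesRangeI iota E 3 5377 454847 = true := by decide +kernel

set_option maxRecDepth 1000000 in
theorem aliases_97 : aliasRange E 1978 280301 = true := by decide +kernel

set_option maxRecDepth 1000000 in
theorem aliases_183 : aliasRange E 2048 461963 = true := by decide +kernel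

set_option maxRecDepth 1000000 in
theorem edges_0_198 : edgesRangeI iota E 0 2204 389192 = true := by decide +kernel

set_option maxRecDepth 1000000 in
theorem edges_1_15 : edgesRangeI iota E 1 3430 49647 = true := by decide +kernel

set_option maxRecDepth 1000000 in
theorem edges_1_134 : edgesRangeI iota E 1 4460 495630 = true := by decide +kernel

set_option maxRecDepth 1000000 in
theorem edges_2_169 : edgesRangeI iota E 2 2836 406170 = true := by decide +kernel

set_option maxRecDepth 1000000 in
theorem edges_3_35 : edgesRangeI iota E 3 4725 158752 = true := by decide +kernel

set_option maxRecDepth 1000000 in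
theorem aliases_34 : aliasRange E 2920 126555 = true := by decide +kernel

set_option maxRecDepth 1000000 in
theorem aliases_111 : aliasRange E 2218 311149 = true := by decide +kernel

set_option maxRecDepth 1000000 in
theorem edges_0_13 : edgesRangeI iota E 0 1661 21600 = true := by decide +kernel

set_option maxRecDepth 1000000 in
theorem edges_0_83 : edgesRangeI iota E 0 1855 144939 = true := by decide +kernel

set_option maxRecDepth 1000000 in
theorem edges_0_152 : edgesRangeI iota E 0 2090 288105 = true := by decide +kernel

set_option maxRecDepth 1000000 in
theorem edges_0_191 : edgesRangeI iota E 0 2526 372944 = true := by decide +kernel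

set_option maxRecDepth 1000000 in
theorem edges_0_253 : edgesRangeI iota E 0 2487 516611 = true := by decide +kernel

set_option maxRecDepth 1000000 in
theorem edges_1_44 : edgesRangeI iota E 1 3471 146411 = true := by decide +kernel

set_option maxRecDepth 1000000 in
theorem edges_1_76 : edgesRangeI iota E 1 3953 264185 = true := by decide +kernel

set_option maxRecDepth 1000000 in
theorem edges_1_111 : edgesRangeI iota E 1 4104 400326 = true := by decide +kernel

set_option maxRecDepth 1000000 in
theorem edges_1_151 : edgesRangeI iota E 1 1969 550550 = true := by decide +kernel

set_option maxRecDepth 1000000 in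
theorem edges_2_54 : edgesRangeI iota E 2 2519 128513 = true := by decide +kernel

set_option maxRecDepth 1000000 in
theorem edges_2_110 : edgesRangeI iota E 2 2410 262608 = true := by decide +kernel

set_option maxRecDepth 1000000 in
theorem edges_2_183 : edgesRangeI iota E 2 2269 441439 = true := by decide +kernel

set_option maxRecDepth 1000000 in
theorem edges_3_1 : edgesRangeI iota E 3 4650 4668 = true := by decide +kernel

set_option maxRecDepth 1000000 in
theorem edges_3_33 : edgesRangeI iota E 3 4684 149287 = true := by decide +kernel

set_option maxRecDepth 1000000 in
theorem edges_3_61 : edgesRangeI iota E 3 5274 288530 = true := by decide +kernel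

set_option maxRecDepth 1000000 in
theorem edges_3_82 : edgesRangeI iota E 3 5412 398862 = true := by decide +kernel

set_option maxRecDepth 1000000 in
theorem edges_3_104 : edgesRangeI iota E 3 6029 521749 = true := by decide +kernel

set_option maxRecDepth 1000000 in
theorem aliases_26 : aliasRange E 3256 102139 = true := by decide +kernel

set_option maxRecDepth 1000000 in
theorem aliases_105 : aliasRange E 2141 297382 = true := by decide +kernel

set_option maxRecDepth 1000000 in
theorem aliases_147 : aliasRange E 2224 389335 = true := by decide +kernel

set_option maxRecDepth 1000000 in
theorem aliases_216 : aliasRange E 1950 527160 = true := by decide +kernel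

set_option maxRecDepth 1000000 in
theorem rows_4 : rowsRange E RS 1500 6000 = true := by decide +kernel

set_option maxRecDepth 1000000 in
theorem rows_20 : rowsRange E RS 1500 30000 = true := by decide +kernel

set_option maxRecDepth 1000000 in
theorem rows_36 : rowsRange E RS 1500 54000 = true := by decide +kernel

set_option maxRecDepth 1000000 in
theorem rows_52 : rowsRange E RS 1500 78000 = true := by decide +kernel

set_option maxRecDepth 1000000 in
theorem rows_68 : rowsRange E RS 1500 102000 = true := by decide +kernel

set_option maxRecDepth 1000000 in
theorem rows_84 : rowsRange E RS 1500 126000 = true := by decide +kernel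

set_option maxRecDepth 1000000 in
theorem rows_100 : rowsRange E RS 1500 150000 = true := by decide +kernel

set_option maxRecDepth 1000000 in
theorem rows_116 : rowsRange E RS 1500 174000 = true := by decide +kernel

set_option maxRecDepth 1000000 in
theorem rows_132 : rowsRange E RS 1500 198000 = true := by decide +kernel

set_option maxRecDepth 1000000 in
theorem rows_148 : rowsRange E RS 1500 222000 = true := by decide +kernel

set_option maxRecDepth 1000000 in
theorem rows_164 : rowsRange E RS 1500 246000 = true := by decide +kernel

set_option maxRecDepth 1000000 in
theorem rows_180 : rowsRange E RS 1500 270000 = true := by decide +kernel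

set_option maxRecDepth 1000000 in
theorem rows_196 : rowsRange E RS 1500 294000 = true := by decide +kernel

set_option maxRecDepth 1000000 in
theorem rows_212 : rowsRange E RS 1500 318000 = true := by decide +kernel

set_option maxRecDepth 1000000 in
theorem rows_228 : rowsRange E RS 1500 342000 = true := by decide +kernel

set_option maxRecDepth 1000000 in
theorem rows_244 : rowsRange E RS 1500 366000 = true := by decide +kernel

set_option maxRecDepth 1000000 in
theorem rows_260 : rowsRange E RS 1500 390000 = true := by decide +kernel

set_option maxRecDepth 1000000 in
theorem rows_276 : rowsRange E RS 1500 414000 = true := by decide +kernel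

set_option maxRecDepth 1000000 in
theorem rows_292 : rowsRange E RS 1500 438000 = true := by decide +kernel

set_option maxRecDepth 1000000 in
theorem rows_308 : rowsRange E RS 1500 462000 = true := by decide +kernel

set_option maxRecDepth 1000000 in
theorem rows_324 : rowsRange E RS 1500 486000 = true := by decide +kernel

set_option maxRecDepth 1000000 in
theorem rows_340 : rowsRange E RS 1500 510000 = true := by decide +kernel

set_option maxRecDepth 1000000 in
theorem rows_356 : rowsRange E RS 1500 534000 = true := by decide +kernel

set_option maxRecDepth 1000000 in
theorem rows_372 : rowsRange E RS 1500 558000 = true := by decide +kernel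

set_option maxRecDepth 1000000 in
theorem rows_388 : rowsRange E RS 1500 582000 = true := by decide +kernel

end

end Cfsg.Agent.Helper5.HNATC
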