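import Cfsg.Agent.Helper5.HNATCDatD
import Cfsg.Agent.Helper5.TCIB

/-! kernel checks of edges, aliases, rows: HNATC -/

set_option autoImplicit false
set_option Elab.async false

namespace Cfsg.Agent.Helper5.HNATC
open Cfsg.Agent.Helper5.TC Cfsg.Agent.Helper5.TCI
noncomputable section

set_option maxRecDepth 1000000 in
theorem cnt_1 : cntFrom RS 20000 20000 0 = 15459 := by decide +kernel

set_option maxRecDepth 1000000 in
theorem cnt_17 : cntFrom RS 20000 340000 0 = 5119 := by decide +kernel

set_option maxRecDepth 1000000 in
theorem edges_2_158 : edgesRangeI iota E 2 2832 378890 = true := by decide +kernel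

set_option maxRecDepth 1000000 in
theorem edges_2_141 : edgesRangeI iota E 2 2528 337836 = true := by decide +kernel

set_option maxRecDepth 1000000 in
theorem edges_2_64 : edgesRangeI iota E 2 2432 151995 = true := by decide +kernel

set_option maxRecDepth 1000000 in
theorem edges_2_134 : edgesRangeI iota E 2 2497 320689 = true := by decide +kernel

set_option maxRecDepth 1000000 in
theorem edges_2_135 : edgesRangeI iota E 2 2377 323186 = true := by decide +kernel

set_option maxRecDepth 1000000 in
theorem edges_0_73 : edgesRangeI iota E 0 1801 126067 = true := by decide +kernel

set_option maxRecDepth 1000000 in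
theorem edges_1_154 : edgesRangeI iota E 1 1848 556328 = true := by decide +kernel

set_option maxRecDepth 1000000 in
theorem edges_0_263 : edgesRangeI iota E 0 1287 536144 = true := by decide +kernel

set_option maxRecDepth 1000000 in
theorem edges_0_17 : edgesRangeI iota E 0 1645 28204 = true := by decide +kernel

set_option maxRecDepth 1000000 in
theorem edges_2_43 : edgesRangeI iota E 2 2306 102596 = true := by decide +kernel

set_option maxRecDepth 1000000 in
theorem edges_3_117 : edgesRangeI iota E 3 3114 572328 = true := by decide +kernel

set_option maxRecDepth 1000000 in
theorem edges_2_59 : edgesRangeI iota E 2 2313 140355 = true := by decide +kernel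

set_option maxRecDepth 1000000 in
theorem edges_0_23 : edgesRangeI iota E 0 1763 38155 = true := by decide +kernel

set_option maxRecDepth 1000000 in
theorem edges_0_100 : edgesRangeI iota E 0 1968 177703 = true := by decide +kernel

set_option maxRecDepth 1000000 in
theorem edges_0_299 : edgesRangeI iota E 0 1083 579320 = true := by decide +kernel

set_option maxRecDepth 1000000 in
theorem edges_2_227 : edgesRangeI iota E 2 1452 542580 = true := by decide +kernel

set_option maxRecDepth 1000000 in
theorem edges_0_124 : edgesRangeI iota E 0 2360 227258 = true := by decide +kernel

set_option maxRecDepth 1000000 in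
theorem edges_0_255 : edgesRangeI iota E 0 2573 521966 = true := by decide +kernel

set_option maxRecDepth 1000000 in
theorem edges_2_32 : edgesRangeI iota E 2 2406 76655 = true := by decide +kernel

set_option maxRecDepth 1000000 in
theorem edges_0_12 : edgesRangeI iota E 0 1671 19929 = true := by decide +kernel

set_option maxRecDepth 1000000 in
theorem edges_0_67 : edgesRangeI iota E 0 1866 115161 = true := by decide +kernel

set_option maxRecDepth 1000000 in
theorem edges_0_304 : edgesRangeI iota E 0 1096 584856 = true := by decide +kernel

set_option maxRecDepth 1000000 in
theorem edges_3_120 : edgesRangeI iota E 3 3090 581767 = true := by decide +kernel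

set_option maxRecDepth 1000000 in
theorem aliases_114 : aliasRange E 2223 317923 = true := by decide +kernel

set_option maxRecDepth 1000000 in
theorem edges_0_6 : edgesRangeI iota E 0 1673 10098 = true := by decide +kernel

set_option maxRecDepth 1000000 in
theorem edges_0_172 : edgesRangeI iota E 0 2034 332174 = true := by decide +kernel

set_option maxRecDepth 1000000 in
theorem edges_1_36 : edgesRangeI iota E 1 3150 119091 = true := by decide +kernel

set_option maxRecDepth 1000000 in
theorem edges_2_173 : edgesRangeI iota E 2 2516 416871 = true := by decide +kernel

set_option maxRecDepth 1000000 in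
theorem aliases_13 : aliasRange E 3426 57770 = true := by decide +kernel

set_option maxRecDepth 1000000 in
theorem aliases_85 : aliasRange E 2065 254371 = true := by decide +kernel

set_option maxRecDepth 1000000 in
theorem aliases_158 : aliasRange E 2160 412029 = true := by decide +kernel

set_option maxRecDepth 1000000 in
theorem edges_0_80 : edgesRangeI iota E 0 1801 139205 = true := by decide +kernel

set_option maxRecDepth 1000000 in
theorem edges_0_248 : edgesRangeI iota E 0 2168 504402 = true := by decide +kernel

set_option maxRecDepth 1000000 in
theorem edges_1_23 : edgesRangeI iota E 1 3336 76317 = true := by decide +kernel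

set_option maxRecDepth 1000000 in
theorem edges_1_88 : edgesRangeI iota E 1 3862 310304 = true := by decide +kernel

set_option maxRecDepth 1000000 in
theorem edges_2_93 : edgesRangeI iota E 2 2489 220899 = true := by decide +kernel

set_option maxRecDepth 1000000 in
theorem edges_3_18 : edgesRangeI iota E 3 4374 81168 = true := by decide +kernel

set_option maxRecDepth 1000000 in
theorem edges_3_107 : edgesRangeI iota E 3 3753 536555 = true := by decide +kernel

set_option maxRecDepth 1000000 in
theorem aliases_98 : aliasRange E 2259 282279 = true := by decide +kernel

set_option maxRecDepth 1000000 in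
theorem aliases_195 : aliasRange E 2101 486611 = true := by decide +kernel

set_option maxRecDepth 1000000 in
theorem edges_0_199 : edgesRangeI iota E 0 2136 391396 = true := by decide +kernel

set_option maxRecDepth 1000000 in
theorem edges_1_20 : edgesRangeI iota E 1 3284 66310 = true := by decide +kernel

set_option maxRecDepth 1000000 in
theorem edges_1_155 : edgesRangeI iota E 1 1890 558176 = true := by decide +kernel

set_option maxRecDepth 1000000 in
theorem edges_2_184 : edgesRangeI iota E 2 2425 443708 = true := by decide +kernel

set_option maxRecDepth 1000000 in
theorem edges_3_37 : edgesRangeI iota E 3 4841 168150 = true := by decide +kernel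

set_option maxRecDepth 1000000 in
theorem aliases_36 : aliasRange E 2683 132234 = true := by decide +kernel

set_option maxRecDepth 1000000 in
theorem aliases_116 : aliasRange E 2151 322361 = true := by decide +kernel

set_option maxRecDepth 1000000 in
theorem edges_0_15 : edgesRangeI iota E 0 1665 24870 = true := by decide +kernel

set_option maxRecDepth 1000000 in
theorem edges_0_85 : edgesRangeI iota E 0 1903 148775 = true := by decide +kernel

set_option maxRecDepth 1000000 in
theorem edges_0_153 : edgesRangeI iota E 0 2214 290195 = true := by decide +kernel

set_option maxRecDepth 1000000 in
theorem edges_0_197 : edgesRangeI iota E 0 2184 387008 = true := by decide +kernel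

set_option maxRecDepth 1000000 in
theorem edges_0_260 : edgesRangeI iota E 0 1337 532191 = true := by decide +kernel

set_option maxRecDepth 1000000 in
theorem edges_1_45 : edgesRangeI iota E 1 3640 149882 = true := by decide +kernel

set_option maxRecDepth 1000000 in
theorem edges_1_79 : edgesRangeI iota E 1 3743 275774 = true := by decide +kernel

set_option maxRecDepth 1000000 in
theorem edges_1_112 : edgesRangeI iota E 1 4762 404430 = true := by decide +kernel

set_option maxRecDepth 1000000 in
theorem edges_1_152 : edgesRangeI iota E 1 1891 552519 = true := by decide +kernel

set_option maxRecDepth 1000000 in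
theorem edges_2_61 : edgesRangeI iota E 2 2366 145009 = true := by decide +kernel

set_option maxRecDepth 1000000 in
theorem edges_2_123 : edgesRangeI iota E 2 2555 294177 = true := by decide +kernel

set_option maxRecDepth 1000000 in
theorem edges_2_185 : edgesRangeI iota E 2 2438 446133 = true := by decide +kernel

set_option maxRecDepth 1000000 in
theorem edges_3_2 : edgesRangeI iota E 3 4676 9318 = true := by decide +kernel

set_option maxRecDepth 1000000 in
theorem edges_3_34 : edgesRangeI iota E 3 4781 153971 = true := by decide +kernel

set_option maxRecDepth 1000000 in
theorem edges_3_63 : edgesRangeI iota E 3 5058 299108 = true := by decide +kernel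

set_option maxRecDepth 1000000 in
theorem edges_3_83 : edgesRangeI iota E 3 5831 404274 = true := by decide +kernel

set_option maxRecDepth 1000000 in
theorem edges_3_106 : edgesRangeI iota E 3 3904 532651 = true := by decide +kernel

set_option maxRecDepth 1000000 in
theorem aliases_28 : aliasRange E 3014 108549 = true := by decide +kernel

set_option maxRecDepth 1000000 in
theorem aliases_107 : aliasRange E 2388 301836 = true := by decide +kernel

set_option maxRecDepth 1000000 in
theorem aliases_149 : aliasRange E 2087 393620 = true := by decide +kernel

set_option maxRecDepth 1000000 in
theorem aliases_217 : aliasRange E 3303 529110 = true := by decide +kernel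

set_option maxRecDepth 1000000 in
theorem rows_5 : rowsRange E RS 1500 7500 = true := by decide +kernel

set_option maxRecDepth 1000000 in
theorem rows_21 : rowsRange E RS 1500 31500 = true := by decide +kernel

set_option maxRecDepth 1000000 in
theorem rows_37 : rowsRange E RS 1500 55500 = true := by decide +kernel

set_option maxRecDepth 1000000 in
theorem rows_53 : rowsRange E RS 1500 79500 = true := by decide +kernel

set_option maxRecDepth 1000000 in
theorem rows_69 : rowsRange E RS 1500 103500 = true := by decide +kernel

set_option maxRecDepth 1000000 in
theorem rows_85 : rowsRange E RS 1500 127500 = true := by decide +kernel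

set_option maxRecDepth 1000000 in
theorem rows_101 : rowsRange E RS 1500 151500 = true := by decide +kernel

set_option maxRecDepth 1000000 in
theorem rows_117 : rowsRange E RS 1500 175500 = true := by decide +kernel

set_option maxRecDepth 1000000 in
theorem rows_133 : rowsRange E RS 1500 199500 = true := by decide +kernel

set_option maxRecDepth 1000000 in
theorem rows_149 : rowsRange E RS 1500 223500 = true := by decide +kernel

set_option maxRecDepth 1000000 in
theorem rows_165 : rowsRange E RS 1500 247500 = true := by decide +kernel

set_option maxRecDepth 1000000 in
theorem rows_181 : rowsRange E RS 1500 271500 = true := by decide +kernel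

set_option maxRecDepth 1000000 in
theorem rows_197 : rowsRange E RS 1500 295500 = true := by decide +kernel

set_option maxRecDepth 1000000 in
theorem rows_213 : rowsRange E RS 1500 319500 = true := by decide +kernel

set_option maxRecDepth 1000000 in
theorem rows_229 : rowsRange E RS 1500 343500 = true := by decide +kernel

set_option maxRecDepth 1000000 in
theorem rows_245 : rowsRange E RS 1500 367500 = true := by decide +kernel

set_option maxRecDepth 1000000 in
theorem rows_261 : rowsRange E RS 1500 391500 = true := by decide +kernel

set_option maxRecDepth 1000000 in
theorem rows_277 : rowsRange E RS 1500 415500 = true := by decide +kernel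

set_option maxRecDepth 1000000 in
theorem rows_293 : rowsRange E RS 1500 439500 = true := by decide +kernel

set_option maxRecDepth 1000000 in
theorem rows_309 : rowsRange E RS 1500 463500 = true := by decide +kernel

set_option maxRecDepth 1000000 in
theorem rows_325 : rowsRange E RS 1500 487500 = true := by decide +kernel

set_option maxRecDepth 1000000 in
theorem rows_341 : rowsRange E RS 1500 511500 = true := by decide +kernel

set_option maxRecDepth 1000000 in
theorem rows_357 : rowsRange E RS 1500 535500 = true := by decide +kernel

set_option maxRecDepth 1000000 in
theorem rows_373 : rowsRange E RS 1500 559500 = true := by decide +kernel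

set_option maxRecDepth 1000000 in
theorem rows_389 : rowsRange E RS 1500 583500 = true := by decide +kernel

end

end Cfsg.Agent.Helper5.HNATC
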