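import Cfsg.Agent.Helper5.HNATCDatD
import Cfsg.Agent.Helper5.TCIB

/-! kernel checks of edges, aliases, rows: HNATC -/

set_option autoImplicit false
set_option Elab.async false

namespace Cfsg.Agent.Helper5.HNATC
open Cfsg.Agent.Helper5.TC Cfsg.Agent.Helper5.TCI
noncomputable section

set_option maxRecDepth 1000000 in
theorem cnt_10 : cntFrom RS 20000 200000 0 = 8028 := by decide +kernel

set_option maxRecDepth 1000000 in
theorem cnt_26 : cntFrom RS 20000 520000 0 = 10010 := by decide +kernel

set_option maxRecDepth 1000000 in
theorem edges_2_4 : edgesRangeI iota E 2 2714 10220 = true := by decide +kernel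

set_option maxRecDepth 1000000 in
theorem edges_2_78 : edgesRangeI iota E 2 2597 185100 = true := by decide +kernel

set_option maxRecDepth 1000000 in
theorem edges_0_103 : edgesRangeI iota E 0 2039 183671 = true := by decide +kernel

set_option maxRecDepth 1000000 in
theorem edges_0_104 : edgesRangeI iota E 0 2365 185710 = true := by decide +kernel

set_option maxRecDepth 1000000 in
theorem edges_0_203 : edgesRangeI iota E 0 2402 400082 = true := by decide +kernel

set_option maxRecDepth 1000000 in
theorem edges_0_297 : edgesRangeI iota E 0 1147 577028 = true := by decide +kernel

set_option maxRecDepth 1000000 in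
theorem edges_0_280 : edgesRangeI iota E 0 1233 557107 = true := by decide +kernel

set_option maxRecDepth 1000000 in
theorem edges_2_149 : edgesRangeI iota E 2 2406 356816 = true := by decide +kernel

set_option maxRecDepth 1000000 in
theorem edges_3_50 : edgesRangeI iota E 3 5026 231856 = true := by decide +kernel

set_option maxRecDepth 1000000 in
theorem edges_0_192 : edgesRangeI iota E 0 2141 375470 = true := by decide +kernel

set_option maxRecDepth 1000000 in
theorem edges_2_138 : edgesRangeI iota E 2 2404 330589 = true := by decide +kernel

set_option maxRecDepth 1000000 in
theorem edges_2_16 : edgesRangeI iota E 2 2331 39964 = true := by decide +kernel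

set_option maxRecDepth 1000000 in
theorem edges_3_118 : edgesRangeI iota E 3 3234 575442 = true := by decide +kernel

set_option maxRecDepth 1000000 in
theorem edges_0_220 : edgesRangeI iota E 0 2010 440460 = true := by decide +kernel

set_option maxRecDepth 1000000 in
theorem edges_2_73 : edgesRangeI iota E 2 2316 173223 = true := by decide +kernel

set_option maxRecDepth 1000000 in
theorem edges_0_14 : edgesRangeI iota E 0 1609 23261 = true := by decide +kernel

set_option maxRecDepth 1000000 in
theorem edges_0_91 : edgesRangeI iota E 0 2052 160590 = true := by decide +kernel

set_option maxRecDepth 1000000 in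
theorem edges_0_212 : edgesRangeI iota E 0 2475 421785 = true := by decide +kernel

set_option maxRecDepth 1000000 in
theorem edges_1_104 : edgesRangeI iota E 1 4219 372180 = true := by decide +kernel

set_option maxRecDepth 1000000 in
theorem edges_2_218 : edgesRangeI iota E 2 2151 528612 = true := by decide +kernel

set_option maxRecDepth 1000000 in
theorem edges_0_166 : edgesRangeI iota E 0 2395 318234 = true := by decide +kernel

set_option maxRecDepth 1000000 in
theorem edges_2_210 : edgesRangeI iota E 2 2668 508706 = true := by decide +kernel

set_option maxRecDepth 1000000 in
theorem aliases_64 : aliasRange E 2717 205111 = true := by decide +kernel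

set_option maxRecDepth 1000000 in
theorem aliases_191 : aliasRange E 2051 478378 = true := by decide +kernel

set_option maxRecDepth 1000000 in
theorem edges_0_137 : edgesRangeI iota E 0 2060 255171 = true := by decide +kernel

set_option maxRecDepth 1000000 in
theorem edges_0_239 : edgesRangeI iota E 0 2326 483368 = true := by decide +kernel

set_option maxRecDepth 1000000 in
theorem edges_2_14 : edgesRangeI iota E 2 2340 35328 = true := by decide +kernel

set_option maxRecDepth 1000000 in
theorem edges_3_38 : edgesRangeI iota E 3 4752 172991 = true := by decide +kernel

set_option maxRecDepth 1000000 in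
theorem aliases_56 : aliasRange E 2271 185130 = true := by decide +kernel

set_option maxRecDepth 1000000 in
theorem aliases_132 : aliasRange E 2146 357308 = true := by decide +kernel

set_option maxRecDepth 1000000 in
theorem aliases_201 : aliasRange E 1906 498660 = true := by decide +kernel

set_option maxRecDepth 1000000 in
theorem edges_0_125 : edgesRangeI iota E 0 2254 229618 = true := by decide +kernel

set_option maxRecDepth 1000000 in
theorem edges_1_11 : edgesRangeI iota E 1 3201 36461 = true := by decide +kernel

set_option maxRecDepth 1000000 in
theorem edges_1_60 : edgesRangeI iota E 1 3558 203049 = true := by decide +kernel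

set_option maxRecDepth 1000000 in
theorem edges_1_142 : edgesRangeI iota E 1 2319 530739 = true := by decide +kernel

set_option maxRecDepth 1000000 in
theorem edges_2_187 : edgesRangeI iota E 2 2644 451051 = true := by decide +kernel

set_option maxRecDepth 1000000 in
theorem edges_3_60 : edgesRangeI iota E 3 5215 283315 = true := by decide +kernel

set_option maxRecDepth 1000000 in
theorem aliases_68 : aliasRange E 2516 215406 = true := by decide +kernel

set_option maxRecDepth 1000000 in
theorem aliases_155 : aliasRange E 2074 405971 = true := by decide +kernel

set_option maxRecDepth 1000000 in
theorem edges_0_65 : edgesRangeI iota E 0 1887 111314 = true := by decide +kernel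

set_option maxRecDepth 1000000 in
theorem edges_0_162 : edgesRangeI iota E 0 2036 309412 = true := by decide +kernel

set_option maxRecDepth 1000000 in
theorem edges_0_306 : edgesRangeI iota E 0 1079 587055 = true := by decide +kernel

set_option maxRecDepth 1000000 in
theorem edges_1_103 : edgesRangeI iota E 1 3839 368341 = true := by decide +kernel

set_option maxRecDepth 1000000 in
theorem edges_2_143 : edgesRangeI iota E 2 2239 342852 = true := by decide +kernel

set_option maxRecDepth 1000000 in
theorem edges_3_9 : edgesRangeI iota E 3 4511 40884 = true := by decide +kernel

set_option maxRecDepth 1000000 in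
theorem aliases_8 : aliasRange E 3715 39419 = true := by decide +kernel

set_option maxRecDepth 1000000 in
theorem aliases_90 : aliasRange E 2312 264636 = true := by decide +kernel

set_option maxRecDepth 1000000 in
theorem edges_0_1 : edgesRangeI iota E 0 1624 1742 = true := by decide +kernel

set_option maxRecDepth 1000000 in
theorem edges_0_60 : edgesRangeI iota E 0 1802 102602 = true := by decide +kernel

set_option maxRecDepth 1000000 in
theorem edges_0_139 : edgesRangeI iota E 0 2244 259490 = true := by decide +kernel

set_option maxRecDepth 1000000 in
theorem edges_0_185 : edgesRangeI iota E 0 2164 360080 = true := by decide +kernel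

set_option maxRecDepth 1000000 in
theorem edges_0_244 : edgesRangeI iota E 0 2246 494517 = true := by decide +kernel

set_option maxRecDepth 1000000 in
theorem edges_1_35 : edgesRangeI iota E 1 3345 115746 = true := by decide +kernel

set_option maxRecDepth 1000000 in
theorem edges_1_71 : edgesRangeI iota E 1 3687 244413 = true := by decide +kernel

set_option maxRecDepth 1000000 in
theorem edges_1_107 : edgesRangeI iota E 1 3970 384745 = true := by decide +kernel

set_option maxRecDepth 1000000 in
theorem edges_1_136 : edgesRangeI iota E 1 4266 504571 = true := by decide +kernel

set_option maxRecDepth 1000000 in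
theorem edges_2_39 : edgesRangeI iota E 2 2154 93379 = true := by decide +kernel

set_option maxRecDepth 1000000 in
theorem edges_2_98 : edgesRangeI iota E 2 2526 233283 = true := by decide +kernel

set_option maxRecDepth 1000000 in
theorem edges_2_176 : edgesRangeI iota E 2 2415 424287 = true := by decide +kernel

set_option maxRecDepth 1000000 in
theorem edges_2_251 : edgesRangeI iota E 2 1268 575196 = true := by decide +kernel

set_option maxRecDepth 1000000 in
theorem edges_3_30 : edgesRangeI iota E 3 4698 135339 = true := by decide +kernel

set_option maxRecDepth 1000000 in
theorem edges_3_55 : edgesRangeI iota E 3 5348 257226 = true := by decide +kernel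

set_option maxRecDepth 1000000 in
theorem edges_3_78 : edgesRangeI iota E 3 5262 377544 = true := by decide +kernel

set_option maxRecDepth 1000000 in
theorem edges_3_101 : edgesRangeI iota E 3 5763 504418 = true := by decide +kernel

set_option maxRecDepth 1000000 in
theorem aliases_23 : aliasRange E 3656 91494 = true := by decide +kernel

set_option maxRecDepth 1000000 in
theorem aliases_86 : aliasRange E 2138 256436 = true := by decide +kernel

set_option maxRecDepth 1000000 in
theorem aliases_140 : aliasRange E 2129 374473 = true := by decide +kernel

set_option maxRecDepth 1000000 in
theorem aliases_202 : aliasRange E 2073 500566 = true := by decide +kernel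

set_option maxRecDepth 1000000 in
theorem rows_1 : rowsRange E RS 1500 1500 = true := by decide +kernel

set_option maxRecDepth 1000000 in
theorem rows_17 : rowsRange E RS 1500 25500 = true := by decide +kernel

set_option maxRecDepth 1000000 in
theorem rows_33 : rowsRange E RS 1500 49500 = true := by decide +kernel

set_option maxRecDepth 1000000 in
theorem rows_49 : rowsRange E RS 1500 73500 = true := by decide +kernel

set_option maxRecDepth 1000000 in
theorem rows_65 : rowsRange E RS 1500 97500 = true := by decide +kernel

set_option maxRecDepth 1000000 in
theorem rows_81 : rowsRange E RS 1500 121500 = true := by decide +kernel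

set_option maxRecDepth 1000000 in
theorem rows_97 : rowsRange E RS 1500 145500 = true := by decide +kernel

set_option maxRecDepth 1000000 in
theorem rows_113 : rowsRange E RS 1500 169500 = true := by decide +kernel

set_option maxRecDepth 1000000 in
theorem rows_129 : rowsRange E RS 1500 193500 = true := by decide +kernel

set_option maxRecDepth 1000000 in
theorem rows_145 : rowsRange E RS 1500 217500 = true := by decide +kernel

set_option maxRecDepth 1000000 in
theorem rows_161 : rowsRange E RS 1500 241500 = true := by decide +kernel

set_option maxRecDepth 1000000 in
theorem rows_177 : rowsRange E RS 1500 265500 = true := by decide +kernel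

set_option maxRecDepth 1000000 in
theorem rows_193 : rowsRange E RS 1500 289500 = true := by decide +kernel

set_option maxRecDepth 1000000 in
theorem rows_209 : rowsRange E RS 1500 313500 = true := by decide +kernel

set_option maxRecDepth 1000000 in
theorem rows_225 : rowsRange E RS 1500 337500 = true := by decide +kernel

set_option maxRecDepth 1000000 in
theorem rows_241 : rowsRange E RS 1500 361500 = true := by decide +kernel

set_option maxRecDepth 1000000 in
theorem rows_257 : rowsRange E RS 1500 385500 = true := by decide +kernel

set_option maxRecDepth 1000000 in
theorem rows_273 : rowsRange E RS 1500 409500 = true := by decide +kernel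

set_option maxRecDepth 1000000 in
theorem rows_289 : rowsRange E RS 1500 433500 = true := by decide +kernel

set_option maxRecDepth 1000000 in
theorem rows_305 : rowsRange E RS 1500 457500 = true := by decide +kernel

set_option maxRecDepth 1000000 in
theorem rows_321 : rowsRange E RS 1500 481500 = true := by decide +kernel

set_option maxRecDepth 1000000 in
theorem rows_337 : rowsRange E RS 1500 505500 = true := by decide +kernel

set_option maxRecDepth 1000000 in
theorem rows_353 : rowsRange E RS 1500 529500 = true := by decide +kernel

set_option maxRecDepth 1000000 in
theorem rows_369 : rowsRange E RS 1500 553500 = true := by decide +kernel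

set_option maxRecDepth 1000000 in
theorem rows_385 : rowsRange E RS 1500 577500 = true := by decide +kernel

end

end Cfsg.Agent.Helper5.HNATC
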