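import Cfsg.Agent.Helper5.HNATCDatD
import Cfsg.Agent.Helper5.TCIB

/-! kernel checks of edges, aliases, rows: HNATC -/

set_option autoImplicit false
set_option Elab.async false

namespace Cfsg.Agent.Helper5.HNATC
open Cfsg.Agent.Helper5.TC Cfsg.Agent.Helper5.TCI
noncomputable section

set_option maxRecDepth 1000000 in
theorem cnt_11 : cntFrom RS 20000 220000 0 = 6149 := by decide +kernel

set_option maxRecDepth 1000000 in
theorem cnt_27 : cntFrom RS 20000 540000 0 = 18444 := by decide +kernel

set_option maxRecDepth 1000000 in
theorem edges_2_30 : edgesRangeI iota E 2 2398 71947 = true := by decide +kernel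

set_option maxRecDepth 1000000 in
theorem edges_2_260 : edgesRangeI iota E 2 1172 586250 = true := by decide +kernel

set_option maxRecDepth 1000000 in
theorem edges_0_160 : edgesRangeI iota E 0 1927 305441 = true := by decide +kernel

set_option maxRecDepth 1000000 in
theorem edges_0_111 : edgesRangeI iota E 0 1888 199435 = true := by decide +kernel

set_option maxRecDepth 1000000 in
theorem edges_0_286 : edgesRangeI iota E 0 1165 564312 = true := by decide +kernel

set_option maxRecDepth 1000000 in
theorem edges_1_26 : edgesRangeI iota E 1 3228 86250 = true := by decide +kernel

set_option maxRecDepth 1000000 in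
theorem edges_1_54 : edgesRangeI iota E 1 3511 181498 = true := by decide +kernel

set_option maxRecDepth 1000000 in
theorem aliases_124 : aliasRange E 2182 339877 = true := by decide +kernel

set_option maxRecDepth 1000000 in
theorem edges_3_116 : edgesRangeI iota E 3 3403 568925 = true := by decide +kernel

set_option maxRecDepth 1000000 in
theorem edges_0_219 : edgesRangeI iota E 0 2113 438347 = true := by decide +kernel

set_option maxRecDepth 1000000 in
theorem edges_2_161 : edgesRangeI iota E 2 2456 386875 = true := by decide +kernel

set_option maxRecDepth 1000000 in
theorem edges_2_26 : edgesRangeI iota E 2 2325 62415 = true := by decide +kernel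

set_option maxRecDepth 1000000 in
theorem edges_0_5 : edgesRangeI iota E 0 1661 8437 = true := by decide +kernel

set_option maxRecDepth 1000000 in
theorem edges_0_44 : edgesRangeI iota E 0 1851 73679 = true := by decide +kernel

set_option maxRecDepth 1000000 in
theorem edges_0_264 : edgesRangeI iota E 0 1246 537431 = true := by decide +kernel

set_option maxRecDepth 1000000 in
theorem edges_2_168 : edgesRangeI iota E 2 2548 403622 = true := by decide +kernel

set_option maxRecDepth 1000000 in
theorem edges_0_93 : edgesRangeI iota E 0 1879 164537 = true := by decide +kernel

set_option maxRecDepth 1000000 in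
theorem edges_0_235 : edgesRangeI iota E 0 2412 474427 = true := by decide +kernel

set_option maxRecDepth 1000000 in
theorem edges_1_157 : edgesRangeI iota E 1 1929 561974 = true := by decide +kernel

set_option maxRecDepth 1000000 in
theorem edges_2_234 : edgesRangeI iota E 2 1435 552546 = true := by decide +kernel

set_option maxRecDepth 1000000 in
theorem edges_0_222 : edgesRangeI iota E 0 2347 444708 = true := by decide +kernel

set_option maxRecDepth 1000000 in
theorem edges_2_213 : edgesRangeI iota E 2 2268 516249 = true := by decide +kernel

set_option maxRecDepth 1000000 in
theorem aliases_67 : aliasRange E 2431 212975 = true := by decide +kernel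

set_option maxRecDepth 1000000 in
theorem aliases_194 : aliasRange E 1960 484651 = true := by decide +kernel

set_option maxRecDepth 1000000 in
theorem edges_0_149 : edgesRangeI iota E 0 2351 281256 = true := by decide +kernel

set_option maxRecDepth 1000000 in
theorem edges_0_247 : edgesRangeI iota E 0 2555 501847 = true := by decide +kernel

set_option maxRecDepth 1000000 in
theorem edges_2_22 : edgesRangeI iota E 2 2172 53468 = true := by decide +kernel

set_option maxRecDepth 1000000 in
theorem edges_3_80 : edgesRangeI iota E 3 5428 388093 = true := by decide +kernel

set_option maxRecDepth 1000000 in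
theorem aliases_60 : aliasRange E 2426 194960 = true := by decide +kernel

set_option maxRecDepth 1000000 in
theorem aliases_141 : aliasRange E 2157 376602 = true := by decide +kernel

set_option maxRecDepth 1000000 in
theorem aliases_204 : aliasRange E 1917 504523 = true := by decide +kernel

set_option maxRecDepth 1000000 in
theorem edges_0_126 : edgesRangeI iota E 0 1957 231872 = true := by decide +kernel

set_option maxRecDepth 1000000 in
theorem edges_1_12 : edgesRangeI iota E 1 3193 39662 = true := by decide +kernel

set_option maxRecDepth 1000000 in
theorem edges_1_61 : edgesRangeI iota E 1 3644 206607 = true := by decide +kernel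

set_option maxRecDepth 1000000 in
theorem edges_1_143 : edgesRangeI iota E 1 2356 533058 = true := by decide +kernel

set_option maxRecDepth 1000000 in
theorem edges_2_193 : edgesRangeI iota E 2 2563 466096 = true := by decide +kernel

set_option maxRecDepth 1000000 in
theorem edges_3_67 : edgesRangeI iota E 3 5167 319604 = true := by decide +kernel

set_option maxRecDepth 1000000 in
theorem aliases_79 : aliasRange E 2367 241156 = true := by decide +kernel

set_option maxRecDepth 1000000 in
theorem aliases_160 : aliasRange E 1973 416236 = true := by decide +kernel

set_option maxRecDepth 1000000 in
theorem edges_0_70 : edgesRangeI iota E 0 1792 120471 = true := by decide +kernel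

set_option maxRecDepth 1000000 in
theorem edges_0_189 : edgesRangeI iota E 0 2074 368711 = true := by decide +kernel

set_option maxRecDepth 1000000 in
theorem edges_1_10 : edgesRangeI iota E 1 3154 33307 = true := by decide +kernel

set_option maxRecDepth 1000000 in
theorem edges_1_122 : edgesRangeI iota E 1 3927 446844 = true := by decide +kernel

set_option maxRecDepth 1000000 in
theorem edges_2_146 : edgesRangeI iota E 2 2457 349436 = true := by decide +kernel

set_option maxRecDepth 1000000 in
theorem edges_3_12 : edgesRangeI iota E 3 4529 54576 = true := by decide +kernel

set_option maxRecDepth 1000000 in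
theorem aliases_16 : aliasRange E 3539 68663 = true := by decide +kernel

set_option maxRecDepth 1000000 in
theorem aliases_92 : aliasRange E 2161 269156 = true := by decide +kernel

set_option maxRecDepth 1000000 in
theorem edges_0_3 : edgesRangeI iota E 0 1673 5090 = true := by decide +kernel

set_option maxRecDepth 1000000 in
theorem edges_0_62 : edgesRangeI iota E 0 1763 106028 = true := by decide +kernel

set_option maxRecDepth 1000000 in
theorem edges_0_143 : edgesRangeI iota E 0 2317 268421 = true := by decide +kernel

set_option maxRecDepth 1000000 in
theorem edges_0_188 : edgesRangeI iota E 0 2296 366415 = true := by decide +kernel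

set_option maxRecDepth 1000000 in
theorem edges_0_249 : edgesRangeI iota E 0 2512 506570 = true := by decide +kernel

set_option maxRecDepth 1000000 in
theorem edges_1_37 : edgesRangeI iota E 1 3518 122241 = true := by decide +kernel

set_option maxRecDepth 1000000 in
theorem edges_1_73 : edgesRangeI iota E 1 3924 252239 = true := by decide +kernel

set_option maxRecDepth 1000000 in
theorem edges_1_108 : edgesRangeI iota E 1 3880 388715 = true := by decide +kernel

set_option maxRecDepth 1000000 in
theorem edges_1_137 : edgesRangeI iota E 1 4395 508837 = true := by decide +kernel

set_option maxRecDepth 1000000 in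
theorem edges_2_46 : edgesRangeI iota E 2 2310 109680 = true := by decide +kernel

set_option maxRecDepth 1000000 in
theorem edges_2_102 : edgesRangeI iota E 2 2295 242941 = true := by decide +kernel

set_option maxRecDepth 1000000 in
theorem edges_2_179 : edgesRangeI iota E 2 2476 431730 = true := by decide +kernel

set_option maxRecDepth 1000000 in
theorem edges_2_253 : edgesRangeI iota E 2 1233 577703 = true := by decide +kernel

set_option maxRecDepth 1000000 in
theorem edges_3_31 : edgesRangeI iota E 3 4705 140037 = true := by decide +kernel

set_option maxRecDepth 1000000 in
theorem edges_3_56 : edgesRangeI iota E 3 5171 262574 = true := by decide +kernel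

set_option maxRecDepth 1000000 in
theorem edges_3_79 : edgesRangeI iota E 3 5287 382806 = true := by decide +kernel

set_option maxRecDepth 1000000 in
theorem edges_3_102 : edgesRangeI iota E 3 5451 510181 = true := by decide +kernel

set_option maxRecDepth 1000000 in
theorem aliases_24 : aliasRange E 3704 95150 = true := by decide +kernel

set_option maxRecDepth 1000000 in
theorem aliases_89 : aliasRange E 2024 262612 = true := by decide +kernel

set_option maxRecDepth 1000000 in
theorem aliases_142 : aliasRange E 2120 378759 = true := by decide +kernel

set_option maxRecDepth 1000000 in
theorem aliases_207 : aliasRange E 1954 510182 = true := by decide +kernel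

set_option maxRecDepth 1000000 in
theorem rows_2 : rowsRange E RS 1500 3000 = true := by decide +kernel

set_option maxRecDepth 1000000 in
theorem rows_18 : rowsRange E RS 1500 27000 = true := by decide +kernel

set_option maxRecDepth 1000000 in
theorem rows_34 : rowsRange E RS 1500 51000 = true := by decide +kernel

set_option maxRecDepth 1000000 in
theorem rows_50 : rowsRange E RS 1500 75000 = true := by decide +kernel

set_option maxRecDepth 1000000 in
theorem rows_66 : rowsRange E RS 1500 99000 = true := by decide +kernel

set_option maxRecDepth 1000000 in
theorem rows_82 : rowsRange E RS 1500 123000 = true := by decide +kernel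

set_option maxRecDepth 1000000 in
theorem rows_98 : rowsRange E RS 1500 147000 = true := by decide +kernel

set_option maxRecDepth 1000000 in
theorem rows_114 : rowsRange E RS 1500 171000 = true := by decide +kernel

set_option maxRecDepth 1000000 in
theorem rows_130 : rowsRange E RS 1500 195000 = true := by decide +kernel

set_option maxRecDepth 1000000 in
theorem rows_146 : rowsRange E RS 1500 219000 = true := by decide +kernel

set_option maxRecDepth 1000000 in
theorem rows_162 : rowsRange E RS 1500 243000 = true := by decide +kernel

set_option maxRecDepth 1000000 in
theorem rows_178 : rowsRange E RS 1500 267000 = true := by decide +kernel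

set_option maxRecDepth 1000000 in
theorem rows_194 : rowsRange E RS 1500 291000 = true := by decide +kernel

set_option maxRecDepth 1000000 in
theorem rows_210 : rowsRange E RS 1500 315000 = true := by decide +kernel

set_option maxRecDepth 1000000 in
theorem rows_226 : rowsRange E RS 1500 339000 = true := by decide +kernel

set_option maxRecDepth 1000000 in
theorem rows_242 : rowsRange E RS 1500 363000 = true := by decide +kernel

set_option maxRecDepth 1000000 in
theorem rows_258 : rowsRange E RS 1500 387000 = true := by decide +kernel

set_option maxRecDepth 1000000 in
theorem rows_274 : rowsRange E RS 1500 411000 = true := by decide +kernel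

set_option maxRecDepth 1000000 in
theorem rows_290 : rowsRange E RS 1500 435000 = true := by decide +kernel

set_option maxRecDepth 1000000 in
theorem rows_306 : rowsRange E RS 1500 459000 = true := by decide +kernel

set_option maxRecDepth 1000000 in
theorem rows_322 : rowsRange E RS 1500 483000 = true := by decide +kernel

set_option maxRecDepth 1000000 in
theorem rows_338 : rowsRange E RS 1500 507000 = true := by decide +kernel

set_option maxRecDepth 1000000 in
theorem rows_354 : rowsRange E RS 1500 531000 = true := by decide +kernel

set_option maxRecDepth 1000000 in
theorem rows_370 : rowsRange E RS 1500 555000 = true := by decide +kernel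

set_option maxRecDepth 1000000 in
theorem rows_386 : rowsRange E RS 1500 579000 = true := by decide +kernel

end

end Cfsg.Agent.Helper5.HNATC
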