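import Cfsg.Agent.Helper5.HNATCDatD
import Cfsg.Agent.Helper5.TCIB

/-! kernel checks of edges, aliases, rows: HNATC -/

set_option autoImplicit false
set_option Elab.async false

namespace Cfsg.Agent.Helper5.HNATC
open Cfsg.Agent.Helper5.TC Cfsg.Agent.Helper5.TCI
noncomputable section

set_option maxRecDepth 1000000 in
theorem cnt_12 : cntFrom RS 20000 240000 0 = 5294 := by decide +kernel

set_option maxRecDepth 1000000 in
theorem cnt_28 : cntFrom RS 20000 560000 0 = 18935 := by decide +kernel

set_option maxRecDepth 1000000 in
theorem edges_2_198 : edgesRangeI iota E 2 2406 478862 = true := by decide +kernel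

set_option maxRecDepth 1000000 in
theorem edges_0_205 : edgesRangeI iota E 0 2910 404562 = true := by decide +kernel

set_option maxRecDepth 1000000 in
theorem edges_1_7 : edgesRangeI iota E 1 3259 23350 = true := by decide +kernel

set_option maxRecDepth 1000000 in
theorem edges_0_194 : edgesRangeI iota E 0 2501 379971 = true := by decide +kernel

set_option maxRecDepth 1000000 in
theorem edges_1_164 : edgesRangeI iota E 1 1684 574854 = true := by decide +kernel

set_option maxRecDepth 1000000 in
theorem edges_1_168 : edgesRangeI iota E 1 1600 581224 = true := by decide +kernel

set_option maxRecDepth 1000000 in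
theorem edges_1_131 : edgesRangeI iota E 1 4125 483605 = true := by decide +kernel

set_option maxRecDepth 1000000 in
theorem aliases_210 : aliasRange E 1978 515846 = true := by decide +kernel

set_option maxRecDepth 1000000 in
theorem aliases_212 : aliasRange E 1873 519658 = true := by decide +kernel

set_option maxRecDepth 1000000 in
theorem edges_1_93 : edgesRangeI iota E 1 3994 330086 = true := by decide +kernel

set_option maxRecDepth 1000000 in
theorem edges_2_189 : edgesRangeI iota E 2 2377 456109 = true := by decide +kernel

set_option maxRecDepth 1000000 in
theorem edges_2_35 : edgesRangeI iota E 2 2412 83822 = true := by decide +kernel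

set_option maxRecDepth 1000000 in
theorem edges_0_11 : edgesRangeI iota E 0 1595 18334 = true := by decide +kernel

set_option maxRecDepth 1000000 in
theorem edges_0_50 : edgesRangeI iota E 0 1773 84636 = true := by decide +kernel

set_option maxRecDepth 1000000 in
theorem edges_0_287 : edgesRangeI iota E 0 1213 565477 = true := by decide +kernel

set_option maxRecDepth 1000000 in
theorem edges_2_202 : edgesRangeI iota E 2 2447 488954 = true := by decide +kernel

set_option maxRecDepth 1000000 in
theorem edges_0_95 : edgesRangeI iota E 0 1854 168106 = true := by decide +kernel

set_option maxRecDepth 1000000 in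
theorem edges_0_237 : edgesRangeI iota E 0 2052 478861 = true := by decide +kernel

set_option maxRecDepth 1000000 in
theorem edges_2_23 : edgesRangeI iota E 2 2151 55640 = true := by decide +kernel

set_option maxRecDepth 1000000 in
theorem aliases_12 : aliasRange E 3379 54391 = true := by decide +kernel

set_option maxRecDepth 1000000 in
theorem edges_0_224 : edgesRangeI iota E 0 2377 449093 = true := by decide +kernel

set_option maxRecDepth 1000000 in
theorem edges_2_235 : edgesRangeI iota E 2 1410 553981 = true := by decide +kernel

set_option maxRecDepth 1000000 in
theorem aliases_87 : aliasRange E 2042 258574 = true := by decide +kernel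

set_option maxRecDepth 1000000 in
theorem aliases_196 : aliasRange E 2194 488712 = true := by decide +kernel

set_option maxRecDepth 1000000 in
theorem edges_0_150 : edgesRangeI iota E 0 2158 283607 = true := by decide +kernel

set_option maxRecDepth 1000000 in
theorem edges_0_257 : edgesRangeI iota E 0 2487 526816 = true := by decide +kernel

set_option maxRecDepth 1000000 in
theorem edges_2_53 : edgesRangeI iota E 2 2426 126087 = true := by decide +kernel

set_option maxRecDepth 1000000 in
theorem edges_3_98 : edgesRangeI iota E 3 5317 487539 = true := by decide +kernel

set_option maxRecDepth 1000000 in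
theorem aliases_65 : aliasRange E 2647 207828 = true := by decide +kernel

set_option maxRecDepth 1000000 in
theorem aliases_144 : aliasRange E 2064 383001 = true := by decide +kernel

set_option maxRecDepth 1000000 in
theorem aliases_215 : aliasRange E 1902 525258 = true := by decide +kernel

set_option maxRecDepth 1000000 in
theorem edges_0_136 : edgesRangeI iota E 0 2166 253005 = true := by decide +kernel

set_option maxRecDepth 1000000 in
theorem edges_1_13 : edgesRangeI iota E 1 3378 42855 = true := by decide +kernel

set_option maxRecDepth 1000000 in
theorem edges_1_67 : edgesRangeI iota E 1 3755 229452 = true := by decide +kernel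

set_option maxRecDepth 1000000 in
theorem edges_1_144 : edgesRangeI iota E 1 2307 535414 = true := by decide +kernel

set_option maxRecDepth 1000000 in
theorem edges_2_208 : edgesRangeI iota E 2 2184 504018 = true := by decide +kernel

set_option maxRecDepth 1000000 in
theorem edges_3_72 : edgesRangeI iota E 3 5142 345944 = true := by decide +kernel

set_option maxRecDepth 1000000 in
theorem aliases_80 : aliasRange E 2457 243523 = true := by decide +kernel

set_option maxRecDepth 1000000 in
theorem aliases_163 : aliasRange E 1943 422147 = true := by decide +kernel

set_option maxRecDepth 1000000 in
theorem edges_0_74 : edgesRangeI iota E 0 1780 127868 = true := by decide +kernel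

set_option maxRecDepth 1000000 in
theorem edges_0_196 : edgesRangeI iota E 0 2261 384747 = true := by decide +kernel

set_option maxRecDepth 1000000 in
theorem edges_1_14 : edgesRangeI iota E 1 3414 46233 = true := by decide +kernel

set_option maxRecDepth 1000000 in
theorem edges_1_125 : edgesRangeI iota E 1 3923 459098 = true := by decide +kernel

set_option maxRecDepth 1000000 in
theorem edges_2_154 : edgesRangeI iota E 2 2358 368807 = true := by decide +kernel

set_option maxRecDepth 1000000 in
theorem edges_3_24 : edgesRangeI iota E 3 4621 107818 = true := by decide +kernel

set_option maxRecDepth 1000000 in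
theorem aliases_32 : aliasRange E 3288 120409 = true := by decide +kernel

set_option maxRecDepth 1000000 in
theorem aliases_108 : aliasRange E 2284 304224 = true := by decide +kernel

set_option maxRecDepth 1000000 in
theorem edges_0_10 : edgesRangeI iota E 0 1628 16706 = true := by decide +kernel

set_option maxRecDepth 1000000 in
theorem edges_0_71 : edgesRangeI iota E 0 1974 122263 = true := by decide +kernel

set_option maxRecDepth 1000000 in
theorem edges_0_146 : edgesRangeI iota E 0 2001 275003 = true := by decide +kernel

set_option maxRecDepth 1000000 in
theorem edges_0_190 : edgesRangeI iota E 0 2159 370785 = true := by decide +kernel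

set_option maxRecDepth 1000000 in
theorem edges_0_251 : edgesRangeI iota E 0 2488 511567 = true := by decide +kernel

set_option maxRecDepth 1000000 in
theorem edges_1_43 : edgesRangeI iota E 1 3349 143062 = true := by decide +kernel

set_option maxRecDepth 1000000 in
theorem edges_1_75 : edgesRangeI iota E 1 4114 260071 = true := by decide +kernel

set_option maxRecDepth 1000000 in
theorem edges_1_110 : edgesRangeI iota E 1 3895 396431 = true := by decide +kernel

set_option maxRecDepth 1000000 in
theorem edges_1_145 : edgesRangeI iota E 1 2206 537721 = true := by decide +kernel

set_option maxRecDepth 1000000 in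
theorem edges_2_52 : edgesRangeI iota E 2 2284 123803 = true := by decide +kernel

set_option maxRecDepth 1000000 in
theorem edges_2_108 : edgesRangeI iota E 2 2560 257538 = true := by decide +kernel

set_option maxRecDepth 1000000 in
theorem edges_2_180 : edgesRangeI iota E 2 2485 434206 = true := by decide +kernel

set_option maxRecDepth 1000000 in
theorem edges_3_0 : edgesRangeI iota E 3 4668 0 = true := by decide +kernel

set_option maxRecDepth 1000000 in
theorem edges_3_32 : edgesRangeI iota E 3 4545 144742 = true := by decide +kernel

set_option maxRecDepth 1000000 in
theorem edges_3_59 : edgesRangeI iota E 3 5248 278067 = true := by decide +kernel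

set_option maxRecDepth 1000000 in
theorem edges_3_81 : edgesRangeI iota E 3 5341 393521 = true := by decide +kernel

set_option maxRecDepth 1000000 in
theorem edges_3_103 : edgesRangeI iota E 3 6117 515632 = true := by decide +kernel

set_option maxRecDepth 1000000 in
theorem aliases_25 : aliasRange E 3285 98854 = true := by decide +kernel

set_option maxRecDepth 1000000 in
theorem aliases_102 : aliasRange E 2180 291058 = true := by decide +kernel

set_option maxRecDepth 1000000 in
theorem aliases_145 : aliasRange E 2112 385065 = true := by decide +kernel

set_option maxRecDepth 1000000 in
theorem aliases_209 : aliasRange E 1903 513943 = true := by decide +kernel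

set_option maxRecDepth 1000000 in
theorem rows_3 : rowsRange E RS 1500 4500 = true := by decide +kernel

set_option maxRecDepth 1000000 in
theorem rows_19 : rowsRange E RS 1500 28500 = true := by decide +kernel

set_option maxRecDepth 1000000 in
theorem rows_35 : rowsRange E RS 1500 52500 = true := by decide +kernel

set_option maxRecDepth 1000000 in
theorem rows_51 : rowsRange E RS 1500 76500 = true := by decide +kernel

set_option maxRecDepth 1000000 in
theorem rows_67 : rowsRange E RS 1500 100500 = true := by decide +kernel

set_option maxRecDepth 1000000 in
theorem rows_83 : rowsRange E RS 1500 124500 = true := by decide +kernel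

set_option maxRecDepth 1000000 in
theorem rows_99 : rowsRange E RS 1500 148500 = true := by decide +kernel

set_option maxRecDepth 1000000 in
theorem rows_115 : rowsRange E RS 1500 172500 = true := by decide +kernel

set_option maxRecDepth 1000000 in
theorem rows_131 : rowsRange E RS 1500 196500 = true := by decide +kernel

set_option maxRecDepth 1000000 in
theorem rows_147 : rowsRange E RS 1500 220500 = true := by decide +kernel

set_option maxRecDepth 1000000 in
theorem rows_163 : rowsRange E RS 1500 244500 = true := by decide +kernel

set_option maxRecDepth 1000000 in
theorem rows_179 : rowsRange E RS 1500 268500 = true := by decide +kernel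

set_option maxRecDepth 1000000 in
theorem rows_195 : rowsRange E RS 1500 292500 = true := by decide +kernel

set_option maxRecDepth 1000000 in
theorem rows_211 : rowsRange E RS 1500 316500 = true := by decide +kernel

set_option maxRecDepth 1000000 in
theorem rows_227 : rowsRange E RS 1500 340500 = true := by decide +kernel

set_option maxRecDepth 1000000 in
theorem rows_243 : rowsRange E RS 1500 364500 = true := by decide +kernel

set_option maxRecDepth 1000000 in
theorem rows_259 : rowsRange E RS 1500 388500 = true := by decide +kernel

set_option maxRecDepth 1000000 in
theorem rows_275 : rowsRange E RS 1500 412500 = true := by decide +kernel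

set_option maxRecDepth 1000000 in
theorem rows_291 : rowsRange E RS 1500 436500 = true := by decide +kernel

set_option maxRecDepth 1000000 in
theorem rows_307 : rowsRange E RS 1500 460500 = true := by decide +kernel

set_option maxRecDepth 1000000 in
theorem rows_323 : rowsRange E RS 1500 484500 = true := by decide +kernel

set_option maxRecDepth 1000000 in
theorem rows_339 : rowsRange E RS 1500 508500 = true := by decide +kernel

set_option maxRecDepth 1000000 in
theorem rows_355 : rowsRange E RS 1500 532500 = true := by decide +kernel

set_option maxRecDepth 1000000 in
theorem rows_371 : rowsRange E RS 1500 556500 = true := by decide +kernel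

set_option maxRecDepth 1000000 in
theorem rows_387 : rowsRange E RS 1500 580500 = true := by decide +kernel

end

end Cfsg.Agent.Helper5.HNATC
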