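import Cfsg.Agent.Helper5.HNATCDatD
import Cfsg.Agent.Helper5.TCIB

/-! kernel checks of edges, aliases, rows: HNATC -/

set_option autoImplicit false
set_option Elab.async false

namespace Cfsg.Agent.Helper5.HNATC
open Cfsg.Agent.Helper5.TC Cfsg.Agent.Helper5.TCI
noncomputable section

set_option maxRecDepth 1000000 in
theorem cnt_13 : cntFrom RS 20000 260000 0 = 5309 := by decide +kernel

set_option maxRecDepth 1000000 in
theorem edges_0_22 : edgesRangeI iota E 0 1685 36470 = true := by decide +kernel

set_option maxRecDepth 1000000 in
theorem aliases_159 : aliasRange E 2047 414189 = true := by decide +kernel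

set_option maxRecDepth 1000000 in
theorem edges_2_70 : edgesRangeI iota E 2 2363 166030 = true := by decide +kernel

set_option maxRecDepth 1000000 in
theorem edges_2_246 : edgesRangeI iota E 2 1317 568907 = true := by decide +kernel

set_option maxRecDepth 1000000 in
theorem aliases_99 : aliasRange E 2056 284538 = true := by decide +kernel

set_option maxRecDepth 1000000 in
theorem edges_2_256 : edgesRangeI iota E 2 1257 581484 = true := by decide +kernel

set_option maxRecDepth 1000000 in
theorem edges_0_145 : edgesRangeI iota E 0 2132 272871 = true := by decide +kernel

set_option maxRecDepth 1000000 in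
theorem edges_0_176 : edgesRangeI iota E 0 2289 341130 = true := by decide +kernel

set_option maxRecDepth 1000000 in
theorem edges_0_294 : edgesRangeI iota E 0 1174 573616 = true := by decide +kernel

set_option maxRecDepth 1000000 in
theorem edges_2_101 : edgesRangeI iota E 2 2299 240642 = true := by decide +kernel

set_option maxRecDepth 1000000 in
theorem edges_0_279 : edgesRangeI iota E 0 1132 555975 = true := by decide +kernel

set_option maxRecDepth 1000000 in
theorem edges_2_33 : edgesRangeI iota E 2 2285 79061 = true := by decide +kernel

set_option maxRecDepth 1000000 in
theorem edges_0_200 : edgesRangeI iota E 0 2312 393532 = true := by decide +kernel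

set_option maxRecDepth 1000000 in
theorem edges_2_104 : edgesRangeI iota E 2 2741 247674 = true := by decide +kernel

set_option maxRecDepth 1000000 in
theorem edges_0_34 : edgesRangeI iota E 0 1719 56158 = true := by decide +kernel

set_option maxRecDepth 1000000 in
theorem edges_0_258 : edgesRangeI iota E 0 1644 529303 = true := by decide +kernel

set_option maxRecDepth 1000000 in
theorem edges_2_136 : edgesRangeI iota E 2 2455 325563 = true := by decide +kernel

set_option maxRecDepth 1000000 in
theorem edges_0_61 : edgesRangeI iota E 0 1624 104404 = true := by decide +kernel

set_option maxRecDepth 1000000 in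
theorem edges_0_187 : edgesRangeI iota E 0 2014 364401 = true := by decide +kernel

set_option maxRecDepth 1000000 in
theorem edges_1_86 : edgesRangeI iota E 1 3758 303046 = true := by decide +kernel

set_option maxRecDepth 1000000 in
theorem edges_2_156 : edgesRangeI iota E 2 2592 373717 = true := by decide +kernel

set_option maxRecDepth 1000000 in
theorem edges_0_46 : edgesRangeI iota E 0 1916 77354 = true := by decide +kernel

set_option maxRecDepth 1000000 in
theorem edges_0_266 : edgesRangeI iota E 0 1278 539910 = true := by decide +kernel

set_option maxRecDepth 1000000 in
theorem edges_2_248 : edgesRangeI iota E 2 1323 571450 = true := by decide +kernel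

set_option maxRecDepth 1000000 in
theorem aliases_96 : aliasRange E 2309 277992 = true := by decide +kernel

set_option maxRecDepth 1000000 in
theorem aliases_211 : aliasRange E 1834 517824 = true := by decide +kernel

set_option maxRecDepth 1000000 in
theorem edges_0_164 : edgesRangeI iota E 0 2267 313741 = true := by decide +kernel

set_option maxRecDepth 1000000 in
theorem edges_0_289 : edgesRangeI iota E 0 1118 567879 = true := by decide +kernel

set_option maxRecDepth 1000000 in
theorem edges_2_122 : edgesRangeI iota E 2 2367 291810 = true := by decide +kernel

set_option maxRecDepth 1000000 in
theorem aliases_9 : aliasRange E 3797 43134 = true := by decide +kernel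

set_option maxRecDepth 1000000 in
theorem aliases_76 : aliasRange E 2347 234016 = true := by decide +kernel

set_option maxRecDepth 1000000 in
theorem aliases_153 : aliasRange E 1927 402008 = true := by decide +kernel

set_option maxRecDepth 1000000 in
theorem edges_0_66 : edgesRangeI iota E 0 1960 113201 = true := by decide +kernel

set_option maxRecDepth 1000000 in
theorem edges_0_182 : edgesRangeI iota E 0 1970 353694 = true := by decide +kernel

set_option maxRecDepth 1000000 in
theorem edges_1_17 : edgesRangeI iota E 1 3387 56446 = true := by decide +kernel

set_option maxRecDepth 1000000 in
theorem edges_1_77 : edgesRangeI iota E 1 3897 268138 = true := by decide +kernel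

set_option maxRecDepth 1000000 in
theorem edges_1_165 : edgesRangeI iota E 1 1670 576538 = true := by decide +kernel

set_option maxRecDepth 1000000 in
theorem edges_2_220 : edgesRangeI iota E 2 1550 532217 = true := by decide +kernel

set_option maxRecDepth 1000000 in
theorem edges_3_90 : edgesRangeI iota E 3 5427 443696 = true := by decide +kernel

set_option maxRecDepth 1000000 in
theorem aliases_93 : aliasRange E 2294 271317 = true := by decide +kernel

set_option maxRecDepth 1000000 in
theorem aliases_177 : aliasRange E 1946 449960 = true := by decide +kernel

set_option maxRecDepth 1000000 in
theorem edges_0_82 : edgesRangeI iota E 0 1980 142959 = true := by decide +kernel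

set_option maxRecDepth 1000000 in
theorem edges_0_240 : edgesRangeI iota E 0 2079 485694 = true := by decide +kernel

set_option maxRecDepth 1000000 in
theorem edges_1_52 : edgesRangeI iota E 1 3451 174482 = true := by decide +kernel

set_option maxRecDepth 1000000 in
theorem edges_2_47 : edgesRangeI iota E 2 2420 111990 = true := by decide +kernel

set_option maxRecDepth 1000000 in
theorem edges_2_231 : edgesRangeI iota E 2 1421 548297 = true := by decide +kernel

set_option maxRecDepth 1000000 in
theorem edges_3_109 : edgesRangeI iota E 3 3641 544021 = true := by decide +kernel

set_option maxRecDepth 1000000 in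
theorem aliases_59 : aliasRange E 2480 192480 = true := by decide +kernel

set_option maxRecDepth 1000000 in
theorem aliases_174 : aliasRange E 1900 443942 = true := by decide +kernel

set_option maxRecDepth 1000000 in
theorem edges_0_56 : edgesRangeI iota E 0 1744 95321 = true := by decide +kernel

set_option maxRecDepth 1000000 in
theorem edges_0_134 : edgesRangeI iota E 0 2501 248374 = true := by decide +kernel

set_option maxRecDepth 1000000 in
theorem edges_0_179 : edgesRangeI iota E 0 1776 347597 = true := by decide +kernel

set_option maxRecDepth 1000000 in
theorem edges_0_233 : edgesRangeI iota E 0 2291 469687 = true := by decide +kernel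

set_option maxRecDepth 1000000 in
theorem edges_1_29 : edgesRangeI iota E 1 3120 95923 = true := by decide +kernel

set_option maxRecDepth 1000000 in
theorem edges_1_68 : edgesRangeI iota E 1 3895 233207 = true := by decide +kernel

set_option maxRecDepth 1000000 in
theorem edges_1_105 : edgesRangeI iota E 1 4167 376399 = true := by decide +kernel

set_option maxRecDepth 1000000 in
theorem edges_1_128 : edgesRangeI iota E 1 4499 471040 = true := by decide +kernel

set_option maxRecDepth 1000000 in
theorem edges_2_25 : edgesRangeI iota E 2 2486 59929 = true := by decide +kernel

set_option maxRecDepth 1000000 in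
theorem edges_2_94 : edgesRangeI iota E 2 2324 223388 = true := by decide +kernel

set_option maxRecDepth 1000000 in
theorem edges_2_163 : edgesRangeI iota E 2 2456 391878 = true := by decide +kernel

set_option maxRecDepth 1000000 in
theorem edges_2_233 : edgesRangeI iota E 2 1395 551151 = true := by decide +kernel

set_option maxRecDepth 1000000 in
theorem edges_3_25 : edgesRangeI iota E 3 4602 112439 = true := by decide +kernel

set_option maxRecDepth 1000000 in
theorem edges_3_52 : edgesRangeI iota E 3 5032 241777 = true := by decide +kernel

set_option maxRecDepth 1000000 in
theorem edges_3_76 : edgesRangeI iota E 3 5251 366824 = true := by decide +kernel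

set_option maxRecDepth 1000000 in
theorem edges_3_97 : edgesRangeI iota E 3 5485 482054 = true := by decide +kernel

set_option maxRecDepth 1000000 in
theorem aliases_19 : aliasRange E 3227 78617 = true := by decide +kernel

set_option maxRecDepth 1000000 in
theorem aliases_81 : aliasRange E 2154 245980 = true := by decide +kernel

set_option maxRecDepth 1000000 in
theorem aliases_138 : aliasRange E 2196 370254 = true := by decide +kernel

set_option maxRecDepth 1000000 in
theorem aliases_188 : aliasRange E 1917 472518 = true := by decide +kernel

set_option maxRecDepth 1000000 in
theorem edges_1_173 : edgesRangeI iota E 1 652 587839 = true := by decide +kernel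

set_option maxRecDepth 1000000 in
theorem rows_15 : rowsRange E RS 1500 22500 = true := by decide +kernel

set_option maxRecDepth 1000000 in
theorem rows_31 : rowsRange E RS 1500 46500 = true := by decide +kernel

set_option maxRecDepth 1000000 in
theorem rows_47 : rowsRange E RS 1500 70500 = true := by decide +kernel

set_option maxRecDepth 1000000 in
theorem rows_63 : rowsRange E RS 1500 94500 = true := by decide +kernel

set_option maxRecDepth 1000000 in
theorem rows_79 : rowsRange E RS 1500 118500 = true := by decide +kernel

set_option maxRecDepth 1000000 in
theorem rows_95 : rowsRange E RS 1500 142500 = true := by decide +kernel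

set_option maxRecDepth 1000000 in
theorem rows_111 : rowsRange E RS 1500 166500 = true := by decide +kernel

set_option maxRecDepth 1000000 in
theorem rows_127 : rowsRange E RS 1500 190500 = true := by decide +kernel

set_option maxRecDepth 1000000 in
theorem rows_143 : rowsRange E RS 1500 214500 = true := by decide +kernel

set_option maxRecDepth 1000000 in
theorem rows_159 : rowsRange E RS 1500 238500 = true := by decide +kernel

set_option maxRecDepth 1000000 in
theorem rows_175 : rowsRange E RS 1500 262500 = true := by decide +kernel

set_option maxRecDepth 1000000 in
theorem rows_191 : rowsRange E RS 1500 286500 = true := by decide +kernel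

set_option maxRecDepth 1000000 in
theorem rows_207 : rowsRange E RS 1500 310500 = true := by decide +kernel

set_option maxRecDepth 1000000 in
theorem rows_223 : rowsRange E RS 1500 334500 = true := by decide +kernel

set_option maxRecDepth 1000000 in
theorem rows_239 : rowsRange E RS 1500 358500 = true := by decide +kernel

set_option maxRecDepth 1000000 in
theorem rows_255 : rowsRange E RS 1500 382500 = true := by decide +kernel

set_option maxRecDepth 1000000 in
theorem rows_271 : rowsRange E RS 1500 406500 = true := by decide +kernel

set_option maxRecDepth 1000000 in
theorem rows_287 : rowsRange E RS 1500 430500 = true := by decide +kernel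

set_option maxRecDepth 1000000 in
theorem rows_303 : rowsRange E RS 1500 454500 = true := by decide +kernel

set_option maxRecDepth 1000000 in
theorem rows_319 : rowsRange E RS 1500 478500 = true := by decide +kernel

set_option maxRecDepth 1000000 in
theorem rows_335 : rowsRange E RS 1500 502500 = true := by decide +kernel

set_option maxRecDepth 1000000 in
theorem rows_351 : rowsRange E RS 1500 526500 = true := by decide +kernel

set_option maxRecDepth 1000000 in
theorem rows_367 : rowsRange E RS 1500 550500 = true := by decide +kernel

set_option maxRecDepth 1000000 in
theorem rows_383 : rowsRange E RS 1500 574500 = true := by decide +kernel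

end

end Cfsg.Agent.Helper5.HNATC
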