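import Cfsg.Agent.Helper5.HNATCDatD
import Cfsg.Agent.Helper5.TCIB

/-! kernel checks of edges, aliases, rows: HNATC -/

set_option autoImplicit false
set_option Elab.async false

namespace Cfsg.Agent.Helper5.HNATC
open Cfsg.Agent.Helper5.TC Cfsg.Agent.Helper5.TCI
noncomputable section

set_option maxRecDepth 1000000 in
theorem cnt_14 : cntFrom RS 20000 280000 0 = 5067 := by decide +kernel

set_option maxRecDepth 1000000 in
theorem edges_2_106 : edgesRangeI iota E 2 2438 252824 = true := by decide +kernel

set_option maxRecDepth 1000000 in
theorem edges_0_138 : edgesRangeI iota E 0 2259 257231 = true := by decide +kernel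

set_option maxRecDepth 1000000 in
theorem edges_0_25 : edgesRangeI iota E 0 1629 41664 = true := by decide +kernel

set_option maxRecDepth 1000000 in
theorem edges_2_216 : edgesRangeI iota E 2 2530 523626 = true := by decide +kernel

set_option maxRecDepth 1000000 in
theorem edges_2_167 : edgesRangeI iota E 2 2382 401240 = true := by decide +kernel

set_option maxRecDepth 1000000 in
theorem edges_2_155 : edgesRangeI iota E 2 2552 371165 = true := by decide +kernel

set_option maxRecDepth 1000000 in
theorem aliases_169 : aliasRange E 1968 434089 = true := by decide +kernel

set_option maxRecDepth 1000000 in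
theorem edges_0_216 : edgesRangeI iota E 0 2519 430911 = true := by decide +kernel

set_option maxRecDepth 1000000 in
theorem edges_1_3 : edgesRangeI iota E 1 3315 10145 = true := by decide +kernel

set_option maxRecDepth 1000000 in
theorem edges_2_112 : edgesRangeI iota E 2 2310 267277 = true := by decide +kernel

set_option maxRecDepth 1000000 in
theorem edges_0_281 : edgesRangeI iota E 0 1218 558340 = true := by decide +kernel

set_option maxRecDepth 1000000 in
theorem edges_2_91 : edgesRangeI iota E 2 2388 215880 = true := by decide +kernel

set_option maxRecDepth 1000000 in
theorem edges_0_267 : edgesRangeI iota E 0 1318 541188 = true := by decide +kernel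

set_option maxRecDepth 1000000 in
theorem edges_2_175 : edgesRangeI iota E 2 2597 421690 = true := by decide +kernel

set_option maxRecDepth 1000000 in
theorem edges_0_39 : edgesRangeI iota E 0 1811 64909 = true := by decide +kernel

set_option maxRecDepth 1000000 in
theorem edges_0_259 : edgesRangeI iota E 0 1244 530947 = true := by decide +kernel

set_option maxRecDepth 1000000 in
theorem edges_2_166 : edgesRangeI iota E 2 2300 398940 = true := by decide +kernel

set_option maxRecDepth 1000000 in
theorem edges_0_64 : edgesRangeI iota E 0 1765 109549 = true := by decide +kernel

set_option maxRecDepth 1000000 in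
theorem edges_0_193 : edgesRangeI iota E 0 2360 377611 = true := by decide +kernel

set_option maxRecDepth 1000000 in
theorem edges_1_87 : edgesRangeI iota E 1 3500 306804 = true := by decide +kernel

set_option maxRecDepth 1000000 in
theorem edges_2_164 : edgesRangeI iota E 2 2390 394334 = true := by decide +kernel

set_option maxRecDepth 1000000 in
theorem edges_0_47 : edgesRangeI iota E 0 1723 79270 = true := by decide +kernel

set_option maxRecDepth 1000000 in
theorem edges_0_275 : edgesRangeI iota E 0 1239 551036 = true := by decide +kernel

set_option maxRecDepth 1000000 in
theorem edges_2_258 : edgesRangeI iota E 2 1225 583890 = true := by decide +kernel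

set_option maxRecDepth 1000000 in
theorem aliases_100 : aliasRange E 2241 286594 = true := by decide +kernel

set_option maxRecDepth 1000000 in
theorem aliases_214 : aliasRange E 1880 523378 = true := by decide +kernel

set_option maxRecDepth 1000000 in
theorem edges_0_169 : edgesRangeI iota E 0 2375 325212 = true := by decide +kernel

set_option maxRecDepth 1000000 in
theorem edges_1_18 : edgesRangeI iota E 1 3256 59833 = true := by decide +kernel

set_option maxRecDepth 1000000 in
theorem edges_2_124 : edgesRangeI iota E 2 2500 296732 = true := by decide +kernel

set_option maxRecDepth 1000000 in
theorem aliases_10 : aliasRange E 3902 46931 = true := by decide +kernel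

set_option maxRecDepth 1000000 in
theorem aliases_84 : aliasRange E 2071 252300 = true := by decide +kernel

set_option maxRecDepth 1000000 in
theorem aliases_157 : aliasRange E 2034 409995 = true := by decide +kernel

set_option maxRecDepth 1000000 in
theorem edges_0_68 : edgesRangeI iota E 0 1697 117027 = true := by decide +kernel

set_option maxRecDepth 1000000 in
theorem edges_0_184 : edgesRangeI iota E 0 2342 357738 = true := by decide +kernel

set_option maxRecDepth 1000000 in
theorem edges_1_21 : edgesRangeI iota E 1 3343 69594 = true := by decide +kernel

set_option maxRecDepth 1000000 in
theorem edges_1_78 : edgesRangeI iota E 1 3739 272035 = true := by decide +kernel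

set_option maxRecDepth 1000000 in
theorem edges_2_9 : edgesRangeI iota E 2 2377 23111 = true := by decide +kernel

set_option maxRecDepth 1000000 in
theorem edges_2_226 : edgesRangeI iota E 2 1454 541126 = true := by decide +kernel

set_option maxRecDepth 1000000 in
theorem edges_3_91 : edgesRangeI iota E 3 5724 449123 = true := by decide +kernel

set_option maxRecDepth 1000000 in
theorem aliases_95 : aliasRange E 2247 275745 = true := by decide +kernel

set_option maxRecDepth 1000000 in
theorem aliases_178 : aliasRange E 2023 451906 = true := by decide +kernel

set_option maxRecDepth 1000000 in
theorem edges_0_110 : edgesRangeI iota E 0 1897 197538 = true := by decide +kernel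

set_option maxRecDepth 1000000 in
theorem edges_0_241 : edgesRangeI iota E 0 2206 487773 = true := by decide +kernel

set_option maxRecDepth 1000000 in
theorem edges_1_53 : edgesRangeI iota E 1 3565 177933 = true := by decide +kernel

set_option maxRecDepth 1000000 in
theorem edges_2_50 : edgesRangeI iota E 2 2340 119074 = true := by decide +kernel

set_option maxRecDepth 1000000 in
theorem edges_2_245 : edgesRangeI iota E 2 1344 567563 = true := by decide +kernel

set_option maxRecDepth 1000000 in
theorem edges_3_110 : edgesRangeI iota E 3 3685 547662 = true := by decide +kernel

set_option maxRecDepth 1000000 in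
theorem aliases_61 : aliasRange E 2744 197386 = true := by decide +kernel

set_option maxRecDepth 1000000 in
theorem aliases_180 : aliasRange E 1988 455873 = true := by decide +kernel

set_option maxRecDepth 1000000 in
theorem edges_0_58 : edgesRangeI iota E 0 1909 98833 = true := by decide +kernel

set_option maxRecDepth 1000000 in
theorem edges_0_135 : edgesRangeI iota E 0 2130 250875 = true := by decide +kernel

set_option maxRecDepth 1000000 in
theorem edges_0_181 : edgesRangeI iota E 0 2357 351337 = true := by decide +kernel

set_option maxRecDepth 1000000 in
theorem edges_0_243 : edgesRangeI iota E 0 2259 492258 = true := by decide +kernel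

set_option maxRecDepth 1000000 in
theorem edges_1_32 : edgesRangeI iota E 1 3289 105604 = true := by decide +kernel

set_option maxRecDepth 1000000 in
theorem edges_1_70 : edgesRangeI iota E 1 3715 240698 = true := by decide +kernel

set_option maxRecDepth 1000000 in
theorem edges_1_106 : edgesRangeI iota E 1 4179 380566 = true := by decide +kernel

set_option maxRecDepth 1000000 in
theorem edges_1_135 : edgesRangeI iota E 1 4481 500090 = true := by decide +kernel

set_option maxRecDepth 1000000 in
theorem edges_2_27 : edgesRangeI iota E 2 2399 64740 = true := by decide +kernel

set_option maxRecDepth 1000000 in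
theorem edges_2_97 : edgesRangeI iota E 2 2468 230815 = true := by decide +kernel

set_option maxRecDepth 1000000 in
theorem edges_2_172 : edgesRangeI iota E 2 2463 414408 = true := by decide +kernel

set_option maxRecDepth 1000000 in
theorem edges_2_249 : edgesRangeI iota E 2 1224 572773 = true := by decide +kernel

set_option maxRecDepth 1000000 in
theorem edges_3_27 : edgesRangeI iota E 3 4434 121557 = true := by decide +kernel

set_option maxRecDepth 1000000 in
theorem edges_3_54 : edgesRangeI iota E 3 5139 252087 = true := by decide +kernel

set_option maxRecDepth 1000000 in
theorem edges_3_77 : edgesRangeI iota E 3 5469 372075 = true := by decide +kernel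

set_option maxRecDepth 1000000 in
theorem edges_3_99 : edgesRangeI iota E 3 5745 492856 = true := by decide +kernel

set_option maxRecDepth 1000000 in
theorem aliases_21 : aliasRange E 3106 85151 = true := by decide +kernel

set_option maxRecDepth 1000000 in
theorem aliases_83 : aliasRange E 2138 250162 = true := by decide +kernel

set_option maxRecDepth 1000000 in
theorem aliases_139 : aliasRange E 2023 372450 = true := by decide +kernel

set_option maxRecDepth 1000000 in
theorem aliases_193 : aliasRange E 2150 482501 = true := by decide +kernel

set_option maxRecDepth 1000000 in
theorem rows_0 : rowsRange E RS 1500 0 = true := by decide +kernel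

set_option maxRecDepth 1000000 in
theorem rows_14 : rowsRange E RS 1500 21000 = true := by decide +kernel

set_option maxRecDepth 1000000 in
theorem rows_30 : rowsRange E RS 1500 45000 = true := by decide +kernel

set_option maxRecDepth 1000000 in
theorem rows_46 : rowsRange E RS 1500 69000 = true := by decide +kernel

set_option maxRecDepth 1000000 in
theorem rows_62 : rowsRange E RS 1500 93000 = true := by decide +kernel

set_option maxRecDepth 1000000 in
theorem rows_78 : rowsRange E RS 1500 117000 = true := by decide +kernel

set_option maxRecDepth 1000000 in
theorem rows_94 : rowsRange E RS 1500 141000 = true := by decide +kernel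

set_option maxRecDepth 1000000 in
theorem rows_110 : rowsRange E RS 1500 165000 = true := by decide +kernel

set_option maxRecDepth 1000000 in
theorem rows_126 : rowsRange E RS 1500 189000 = true := by decide +kernel

set_option maxRecDepth 1000000 in
theorem rows_142 : rowsRange E RS 1500 213000 = true := by decide +kernel

set_option maxRecDepth 1000000 in
theorem rows_158 : rowsRange E RS 1500 237000 = true := by decide +kernel

set_option maxRecDepth 1000000 in
theorem rows_174 : rowsRange E RS 1500 261000 = true := by decide +kernel

set_option maxRecDepth 1000000 in
theorem rows_190 : rowsRange E RS 1500 285000 = true := by decide +kernel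

set_option maxRecDepth 1000000 in
theorem rows_206 : rowsRange E RS 1500 309000 = true := by decide +kernel

set_option maxRecDepth 1000000 in
theorem rows_222 : rowsRange E RS 1500 333000 = true := by decide +kernel

set_option maxRecDepth 1000000 in
theorem rows_238 : rowsRange E RS 1500 357000 = true := by decide +kernel

set_option maxRecDepth 1000000 in
theorem rows_254 : rowsRange E RS 1500 381000 = true := by decide +kernel

set_option maxRecDepth 1000000 in
theorem rows_270 : rowsRange E RS 1500 405000 = true := by decide +kernel

set_option maxRecDepth 1000000 in
theorem rows_286 : rowsRange E RS 1500 429000 = true := by decide +kernel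

set_option maxRecDepth 1000000 in
theorem rows_302 : rowsRange E RS 1500 453000 = true := by decide +kernel

set_option maxRecDepth 1000000 in
theorem rows_318 : rowsRange E RS 1500 477000 = true := by decide +kernel

set_option maxRecDepth 1000000 in
theorem rows_334 : rowsRange E RS 1500 501000 = true := by decide +kernel

set_option maxRecDepth 1000000 in
theorem rows_350 : rowsRange E RS 1500 525000 = true := by decide +kernel

set_option maxRecDepth 1000000 in
theorem rows_366 : rowsRange E RS 1500 549000 = true := by decide +kernel

set_option maxRecDepth 1000000 in
theorem rows_382 : rowsRange E RS 1500 573000 = true := by decide +kernel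

end

end Cfsg.Agent.Helper5.HNATC
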