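import Cfsg.Agent.Helper5.HNATCDatD
import Cfsg.Agent.Helper5.TCIB

/-! kernel checks of edges, aliases, rows: HNATC -/

set_option autoImplicit false
set_option Elab.async false

namespace Cfsg.Agent.Helper5.HNATC
open Cfsg.Agent.Helper5.TC Cfsg.Agent.Helper5.TCI
noncomputable section

set_option maxRecDepth 1000000 in
theorem cnt_15 : cntFrom RS 20000 300000 0 = 6232 := by decide +kernel

set_option maxRecDepth 1000000 in
theorem edges_2_215 : edgesRangeI iota E 2 2418 521208 = true := by decide +kernel

set_option maxRecDepth 1000000 in
theorem edges_0_268 : edgesRangeI iota E 0 1277 542506 = true := by decide +kernel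

set_option maxRecDepth 1000000 in
theorem edges_1_150 : edgesRangeI iota E 1 2080 548470 = true := by decide +kernel

set_option maxRecDepth 1000000 in
theorem edges_2_232 : edgesRangeI iota E 2 1433 549718 = true := by decide +kernel

set_option maxRecDepth 1000000 in
theorem edges_2_178 : edgesRangeI iota E 2 2622 429108 = true := by decide +kernel

set_option maxRecDepth 1000000 in
theorem edges_2_199 : edgesRangeI iota E 2 2714 481268 = true := by decide +kernel

set_option maxRecDepth 1000000 in
theorem edges_0_2 : edgesRangeI iota E 0 1724 3366 = true := by decide +kernel

set_option maxRecDepth 1000000 in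
theorem edges_0_122 : edgesRangeI iota E 0 2240 222747 = true := by decide +kernel

set_option maxRecDepth 1000000 in
theorem edges_0_272 : edgesRangeI iota E 0 1228 547401 = true := by decide +kernel

set_option maxRecDepth 1000000 in
theorem edges_2_87 : edgesRangeI iota E 2 2386 206124 = true := by decide +kernel

set_option maxRecDepth 1000000 in
theorem edges_0_208 : edgesRangeI iota E 0 2347 412592 = true := by decide +kernel

set_option maxRecDepth 1000000 in
theorem edges_1_172 : edgesRangeI iota E 1 1075 586764 = true := by decide +kernel

set_option maxRecDepth 1000000 in
theorem edges_0_167 : edgesRangeI iota E 0 2412 320629 = true := by decide +kernel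

set_option maxRecDepth 1000000 in
theorem edges_2_99 : edgesRangeI iota E 2 2355 235809 = true := by decide +kernel

set_option maxRecDepth 1000000 in
theorem edges_0_31 : edgesRangeI iota E 0 1622 51243 = true := by decide +kernel

set_option maxRecDepth 1000000 in
theorem edges_0_234 : edgesRangeI iota E 0 2449 471978 = true := by decide +kernel

set_option maxRecDepth 1000000 in
theorem edges_2_133 : edgesRangeI iota E 2 2463 318226 = true := by decide +kernel

set_option maxRecDepth 1000000 in
theorem edges_0_38 : edgesRangeI iota E 0 1765 63144 = true := by decide +kernel

set_option maxRecDepth 1000000 in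
theorem edges_0_178 : edgesRangeI iota E 0 2087 345510 = true := by decide +kernel

set_option maxRecDepth 1000000 in
theorem edges_1_64 : edgesRangeI iota E 1 3946 217621 = true := by decide +kernel

set_option maxRecDepth 1000000 in
theorem edges_2_153 : edgesRangeI iota E 2 2364 366443 = true := by decide +kernel

set_option maxRecDepth 1000000 in
theorem edges_0_42 : edgesRangeI iota E 0 1807 70127 = true := by decide +kernel

set_option maxRecDepth 1000000 in
theorem edges_0_225 : edgesRangeI iota E 0 2434 451470 = true := by decide +kernel

set_option maxRecDepth 1000000 in
theorem edges_2_243 : edgesRangeI iota E 2 1300 564979 = true := by decide +kernel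

set_option maxRecDepth 1000000 in
theorem aliases_91 : aliasRange E 2208 266948 = true := by decide +kernel

set_option maxRecDepth 1000000 in
theorem aliases_197 : aliasRange E 1960 490906 = true := by decide +kernel

set_option maxRecDepth 1000000 in
theorem edges_0_151 : edgesRangeI iota E 0 2340 285765 = true := by decide +kernel

set_option maxRecDepth 1000000 in
theorem edges_0_271 : edgesRangeI iota E 0 1193 546208 = true := by decide +kernel

set_option maxRecDepth 1000000 in
theorem edges_2_109 : edgesRangeI iota E 2 2510 260098 = true := by decide +kernel

set_option maxRecDepth 1000000 in
theorem aliases_2 : aliasRange E 5059 12299 = true := by decide +kernel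

set_option maxRecDepth 1000000 in
theorem aliases_73 : aliasRange E 2297 227081 = true := by decide +kernel

set_option maxRecDepth 1000000 in
theorem aliases_151 : aliasRange E 2089 397740 = true := by decide +kernel

set_option maxRecDepth 1000000 in
theorem edges_0_59 : edgesRangeI iota E 0 1860 100742 = true := by decide +kernel

set_option maxRecDepth 1000000 in
theorem edges_0_144 : edgesRangeI iota E 0 2133 270738 = true := by decide +kernel

set_option maxRecDepth 1000000 in
theorem edges_1_16 : edgesRangeI iota E 1 3369 53077 = true := by decide +kernel

set_option maxRecDepth 1000000 in
theorem edges_1_72 : edgesRangeI iota E 1 4139 248100 = true := by decide +kernel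

set_option maxRecDepth 1000000 in
theorem edges_1_158 : edgesRangeI iota E 1 1810 563903 = true := by decide +kernel

set_option maxRecDepth 1000000 in
theorem edges_2_209 : edgesRangeI iota E 2 2504 506202 = true := by decide +kernel

set_option maxRecDepth 1000000 in
theorem edges_3_84 : edgesRangeI iota E 3 5623 410105 = true := by decide +kernel

set_option maxRecDepth 1000000 in
theorem aliases_88 : aliasRange E 1996 260616 = true := by decide +kernel

set_option maxRecDepth 1000000 in
theorem aliases_175 : aliasRange E 2006 445842 = true := by decide +kernel

set_option maxRecDepth 1000000 in
theorem edges_0_81 : edgesRangeI iota E 0 1953 141006 = true := by decide +kernel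

set_option maxRecDepth 1000000 in
theorem edges_0_230 : edgesRangeI iota E 0 2307 462853 = true := by decide +kernel

set_option maxRecDepth 1000000 in
theorem edges_1_48 : edgesRangeI iota E 1 3437 160614 = true := by decide +kernel

set_option maxRecDepth 1000000 in
theorem edges_2_31 : edgesRangeI iota E 2 2310 74345 = true := by decide +kernel

set_option maxRecDepth 1000000 in
theorem edges_2_228 : edgesRangeI iota E 2 1464 544032 = true := by decide +kernel

set_option maxRecDepth 1000000 in
theorem edges_3_108 : edgesRangeI iota E 3 3713 540308 = true := by decide +kernel

set_option maxRecDepth 1000000 in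
theorem aliases_55 : aliasRange E 2512 182618 = true := by decide +kernel

set_option maxRecDepth 1000000 in
theorem aliases_166 : aliasRange E 2115 427993 = true := by decide +kernel

set_option maxRecDepth 1000000 in
theorem edges_0_55 : edgesRangeI iota E 0 1734 93587 = true := by decide +kernel

set_option maxRecDepth 1000000 in
theorem edges_0_130 : edgesRangeI iota E 0 2132 240199 = true := by decide +kernel

set_option maxRecDepth 1000000 in
theorem edges_0_177 : edgesRangeI iota E 0 2091 343419 = true := by decide +kernel

set_option maxRecDepth 1000000 in
theorem edges_0_227 : edgesRangeI iota E 0 2308 456304 = true := by decide +kernel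

set_option maxRecDepth 1000000 in
theorem edges_1_19 : edgesRangeI iota E 1 3221 63089 = true := by decide +kernel

set_option maxRecDepth 1000000 in
theorem edges_1_66 : edgesRangeI iota E 1 3957 225495 = true := by decide +kernel

set_option maxRecDepth 1000000 in
theorem edges_1_101 : edgesRangeI iota E 1 3605 360956 = true := by decide +kernel

set_option maxRecDepth 1000000 in
theorem edges_1_127 : edgesRangeI iota E 1 3958 467082 = true := by decide +kernel

set_option maxRecDepth 1000000 in
theorem edges_2_19 : edgesRangeI iota E 2 2244 46732 = true := by decide +kernel

set_option maxRecDepth 1000000 in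
theorem edges_2_92 : edgesRangeI iota E 2 2631 218268 = true := by decide +kernel

set_option maxRecDepth 1000000 in
theorem edges_2_160 : edgesRangeI iota E 2 2563 384312 = true := by decide +kernel

set_option maxRecDepth 1000000 in
theorem edges_2_229 : edgesRangeI iota E 2 1374 545496 = true := by decide +kernel

set_option maxRecDepth 1000000 in
theorem edges_3_21 : edgesRangeI iota E 3 4326 94519 = true := by decide +kernel

set_option maxRecDepth 1000000 in
theorem edges_3_51 : edgesRangeI iota E 3 4895 236882 = true := by decide +kernel

set_option maxRecDepth 1000000 in
theorem edges_3_75 : edgesRangeI iota E 3 5238 361586 = true := by decide +kernel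

set_option maxRecDepth 1000000 in
theorem edges_3_96 : edgesRangeI iota E 3 5448 476606 = true := by decide +kernel

set_option maxRecDepth 1000000 in
theorem aliases_18 : aliasRange E 3125 75492 = true := by decide +kernel

set_option maxRecDepth 1000000 in
theorem aliases_78 : aliasRange E 2406 238750 = true := by decide +kernel

set_option maxRecDepth 1000000 in
theorem aliases_136 : aliasRange E 2130 365955 = true := by decide +kernel

set_option maxRecDepth 1000000 in
theorem aliases_186 : aliasRange E 2169 468282 = true := by decide +kernel

set_option maxRecDepth 1000000 in
theorem aliases_227 : aliasRange E 5713 582778 = true := by decide +kernel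

set_option maxRecDepth 1000000 in
theorem rows_16 : rowsRange E RS 1500 24000 = true := by decide +kernel

set_option maxRecDepth 1000000 in
theorem rows_32 : rowsRange E RS 1500 48000 = true := by decide +kernel

set_option maxRecDepth 1000000 in
theorem rows_48 : rowsRange E RS 1500 72000 = true := by decide +kernel

set_option maxRecDepth 1000000 in
theorem rows_64 : rowsRange E RS 1500 96000 = true := by decide +kernel

set_option maxRecDepth 1000000 in
theorem rows_80 : rowsRange E RS 1500 120000 = true := by decide +kernel

set_option maxRecDepth 1000000 in
theorem rows_96 : rowsRange E RS 1500 144000 = true := by decide +kernel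

set_option maxRecDepth 1000000 in
theorem rows_112 : rowsRange E RS 1500 168000 = true := by decide +kernel

set_option maxRecDepth 1000000 in
theorem rows_128 : rowsRange E RS 1500 192000 = true := by decide +kernel

set_option maxRecDepth 1000000 in
theorem rows_144 : rowsRange E RS 1500 216000 = true := by decide +kernel

set_option maxRecDepth 1000000 in
theorem rows_160 : rowsRange E RS 1500 240000 = true := by decide +kernel

set_option maxRecDepth 1000000 in
theorem rows_176 : rowsRange E RS 1500 264000 = true := by decide +kernel

set_option maxRecDepth 1000000 in
theorem rows_192 : rowsRange E RS 1500 288000 = true := by decide +kernel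

set_option maxRecDepth 1000000 in
theorem rows_208 : rowsRange E RS 1500 312000 = true := by decide +kernel

set_option maxRecDepth 1000000 in
theorem rows_224 : rowsRange E RS 1500 336000 = true := by decide +kernel

set_option maxRecDepth 1000000 in
theorem rows_240 : rowsRange E RS 1500 360000 = true := by decide +kernel

set_option maxRecDepth 1000000 in
theorem rows_256 : rowsRange E RS 1500 384000 = true := by decide +kernel

set_option maxRecDepth 1000000 in
theorem rows_272 : rowsRange E RS 1500 408000 = true := by decide +kernel

set_option maxRecDepth 1000000 in
theorem rows_288 : rowsRange E RS 1500 432000 = true := by decide +kernel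

set_option maxRecDepth 1000000 in
theorem rows_304 : rowsRange E RS 1500 456000 = true := by decide +kernel

set_option maxRecDepth 1000000 in
theorem rows_320 : rowsRange E RS 1500 480000 = true := by decide +kernel

set_option maxRecDepth 1000000 in
theorem rows_336 : rowsRange E RS 1500 504000 = true := by decide +kernel

set_option maxRecDepth 1000000 in
theorem rows_352 : rowsRange E RS 1500 528000 = true := by decide +kernel

set_option maxRecDepth 1000000 in
theorem rows_368 : rowsRange E RS 1500 552000 = true := by decide +kernel

set_option maxRecDepth 1000000 in
theorem rows_384 : rowsRange E RS 1500 576000 = true := by decide +kernel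

end

end Cfsg.Agent.Helper5.HNATC
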