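import Cfsg.Agent.Helper5.HNATCDatD
import Cfsg.Agent.Helper5.TCIB

/-! kernel checks of edges, aliases, rows: HNATC -/

set_option autoImplicit false
set_option Elab.async false

namespace Cfsg.Agent.Helper5.HNATC
open Cfsg.Agent.Helper5.TC Cfsg.Agent.Helper5.TCI
noncomputable section

set_option maxRecDepth 1000000 in
theorem cnt_2 : cntFrom RS 20000 40000 0 = 13458 := by decide +kernel

set_option maxRecDepth 1000000 in
theorem cnt_18 : cntFrom RS 20000 360000 0 = 5112 := by decide +kernel

set_option maxRecDepth 1000000 in
theorem aliases_200 : aliasRange E 1907 496753 = true := by decide +kernel

set_option maxRecDepth 1000000 in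
theorem edges_2_194 : edgesRangeI iota E 2 2571 468659 = true := by decide +kernel

set_option maxRecDepth 1000000 in
theorem edges_2_95 : edgesRangeI iota E 2 2527 225712 = true := by decide +kernel

set_option maxRecDepth 1000000 in
theorem edges_2_152 : edgesRangeI iota E 2 2352 364091 = true := by decide +kernel

set_option maxRecDepth 1000000 in
theorem edges_2_242 : edgesRangeI iota E 2 1267 563712 = true := by decide +kernel

set_option maxRecDepth 1000000 in
theorem edges_0_79 : edgesRangeI iota E 0 1755 137450 = true := by decide +kernel

set_option maxRecDepth 1000000 in
theorem edges_2_6 : edgesRangeI iota E 2 2577 15481 = true := by decide +kernel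

set_option maxRecDepth 1000000 in
theorem edges_0_305 : edgesRangeI iota E 0 1103 585952 = true := by decide +kernel

set_option maxRecDepth 1000000 in
theorem edges_0_63 : edgesRangeI iota E 0 1758 107791 = true := by decide +kernel

set_option maxRecDepth 1000000 in
theorem edges_2_58 : edgesRangeI iota E 2 2149 138206 = true := by decide +kernel

set_option maxRecDepth 1000000 in
theorem edges_3_119 : edgesRangeI iota E 3 3091 578676 = true := by decide +kernel

set_option maxRecDepth 1000000 in
theorem edges_2_80 : edgesRangeI iota E 2 2165 189872 = true := by decide +kernel

set_option maxRecDepth 1000000 in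
theorem edges_0_26 : edgesRangeI iota E 0 1599 43293 = true := by decide +kernel

set_option maxRecDepth 1000000 in
theorem edges_0_101 : edgesRangeI iota E 0 1975 179671 = true := by decide +kernel

set_option maxRecDepth 1000000 in
theorem edges_0_301 : edgesRangeI iota E 0 1145 581483 = true := by decide +kernel

set_option maxRecDepth 1000000 in
theorem edges_2_238 : edgesRangeI iota E 2 1394 558183 = true := by decide +kernel

set_option maxRecDepth 1000000 in
theorem edges_0_132 : edgesRangeI iota E 0 1817 244515 = true := by decide +kernel

set_option maxRecDepth 1000000 in
theorem edges_0_269 : edgesRangeI iota E 0 1280 543783 = true := by decide +kernel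

set_option maxRecDepth 1000000 in
theorem edges_2_44 : edgesRangeI iota E 2 2389 104902 = true := by decide +kernel

set_option maxRecDepth 1000000 in
theorem edges_0_19 : edgesRangeI iota E 0 1643 31468 = true := by decide +kernel

set_option maxRecDepth 1000000 in
theorem edges_0_69 : edgesRangeI iota E 0 1747 118724 = true := by decide +kernel

set_option maxRecDepth 1000000 in
theorem edges_1_132 : edgesRangeI iota E 1 3937 487730 = true := by decide +kernel

set_option maxRecDepth 1000000 in
theorem aliases_17 : aliasRange E 3290 72202 = true := by decide +kernel

set_option maxRecDepth 1000000 in
theorem aliases_115 : aliasRange E 2215 320146 = true := by decide +kernel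

set_option maxRecDepth 1000000 in
theorem edges_0_7 : edgesRangeI iota E 0 1652 11771 = true := by decide +kernel

set_option maxRecDepth 1000000 in
theorem edges_0_183 : edgesRangeI iota E 0 2074 355664 = true := by decide +kernel

set_option maxRecDepth 1000000 in
theorem edges_1_90 : edgesRangeI iota E 1 4193 317887 = true := by decide +kernel

set_option maxRecDepth 1000000 in
theorem edges_2_190 : edgesRangeI iota E 2 2495 458486 = true := by decide +kernel

set_option maxRecDepth 1000000 in
theorem aliases_22 : aliasRange E 3237 88257 = true := by decide +kernel

set_option maxRecDepth 1000000 in
theorem aliases_94 : aliasRange E 2134 273611 = true := by decide +kernel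

set_option maxRecDepth 1000000 in
theorem aliases_161 : aliasRange E 1993 418209 = true := by decide +kernel

set_option maxRecDepth 1000000 in
theorem edges_0_94 : edgesRangeI iota E 0 1690 166416 = true := by decide +kernel

set_option maxRecDepth 1000000 in
theorem edges_0_252 : edgesRangeI iota E 0 2556 514055 = true := by decide +kernel

set_option maxRecDepth 1000000 in
theorem edges_1_25 : edgesRangeI iota E 1 3349 82901 = true := by decide +kernel

set_option maxRecDepth 1000000 in
theorem edges_1_91 : edgesRangeI iota E 1 3844 322080 = true := by decide +kernel

set_option maxRecDepth 1000000 in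
theorem edges_2_105 : edgesRangeI iota E 2 2409 250415 = true := by decide +kernel

set_option maxRecDepth 1000000 in
theorem edges_3_19 : edgesRangeI iota E 3 4522 85542 = true := by decide +kernel

set_option maxRecDepth 1000000 in
theorem aliases_6 : aliasRange E 4231 31234 = true := by decide +kernel

set_option maxRecDepth 1000000 in
theorem aliases_103 : aliasRange E 2089 293238 = true := by decide +kernel

set_option maxRecDepth 1000000 in
theorem aliases_199 : aliasRange E 1850 494903 = true := by decide +kernel

set_option maxRecDepth 1000000 in
theorem edges_0_221 : edgesRangeI iota E 0 2238 442470 = true := by decide +kernel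

set_option maxRecDepth 1000000 in
theorem edges_1_38 : edgesRangeI iota E 1 3337 125759 = true := by decide +kernel

set_option maxRecDepth 1000000 in
theorem edges_1_166 : edgesRangeI iota E 1 1603 578208 = true := by decide +kernel

set_option maxRecDepth 1000000 in
theorem edges_2_200 : edgesRangeI iota E 2 2571 483982 = true := by decide +kernel

set_option maxRecDepth 1000000 in
theorem edges_3_42 : edgesRangeI iota E 3 4863 192511 = true := by decide +kernel

set_option maxRecDepth 1000000 in
theorem aliases_40 : aliasRange E 2975 143330 = true := by decide +kernel

set_option maxRecDepth 1000000 in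
theorem aliases_125 : aliasRange E 2173 342059 = true := by decide +kernel

set_option maxRecDepth 1000000 in
theorem edges_0_36 : edgesRangeI iota E 0 1751 59646 = true := by decide +kernel

set_option maxRecDepth 1000000 in
theorem edges_0_87 : edgesRangeI iota E 0 2137 152620 = true := by decide +kernel

set_option maxRecDepth 1000000 in
theorem edges_0_155 : edgesRangeI iota E 0 2598 294551 = true := by decide +kernel

set_option maxRecDepth 1000000 in
theorem edges_0_201 : edgesRangeI iota E 0 2150 395844 = true := by decide +kernel

set_option maxRecDepth 1000000 in
theorem edges_0_262 : edgesRangeI iota E 0 1296 534848 = true := by decide +kernel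

set_option maxRecDepth 1000000 in
theorem edges_1_46 : edgesRangeI iota E 1 3579 153522 = true := by decide +kernel

set_option maxRecDepth 1000000 in
theorem edges_1_81 : edgesRangeI iota E 1 3831 283612 = true := by decide +kernel

set_option maxRecDepth 1000000 in
theorem edges_1_114 : edgesRangeI iota E 1 3991 413574 = true := by decide +kernel

set_option maxRecDepth 1000000 in
theorem edges_1_156 : edgesRangeI iota E 1 1908 560066 = true := by decide +kernel

set_option maxRecDepth 1000000 in
theorem edges_2_75 : edgesRangeI iota E 2 2433 177953 = true := by decide +kernel

set_option maxRecDepth 1000000 in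
theorem edges_2_125 : edgesRangeI iota E 2 2284 299232 = true := by decide +kernel

set_option maxRecDepth 1000000 in
theorem edges_2_186 : edgesRangeI iota E 2 2480 448571 = true := by decide +kernel

set_option maxRecDepth 1000000 in
theorem edges_3_3 : edgesRangeI iota E 3 4607 13994 = true := by decide +kernel

set_option maxRecDepth 1000000 in
theorem edges_3_40 : edgesRangeI iota E 3 4958 182608 = true := by decide +kernel

set_option maxRecDepth 1000000 in
theorem edges_3_64 : edgesRangeI iota E 3 5272 304166 = true := by decide +kernel

set_option maxRecDepth 1000000 in
theorem edges_3_85 : edgesRangeI iota E 3 5608 415728 = true := by decide +kernel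

set_option maxRecDepth 1000000 in
theorem edges_3_111 : edgesRangeI iota E 3 3699 551347 = true := by decide +kernel

set_option maxRecDepth 1000000 in
theorem aliases_35 : aliasRange E 2759 129475 = true := by decide +kernel

set_option maxRecDepth 1000000 in
theorem aliases_109 : aliasRange E 2309 306508 = true := by decide +kernel

set_option maxRecDepth 1000000 in
theorem aliases_156 : aliasRange E 1950 408045 = true := by decide +kernel

set_option maxRecDepth 1000000 in
theorem aliases_219 : aliasRange E 4872 537096 = true := by decide +kernel

set_option maxRecDepth 1000000 in
theorem rows_6 : rowsRange E RS 1500 9000 = true := by decide +kernel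

set_option maxRecDepth 1000000 in
theorem rows_22 : rowsRange E RS 1500 33000 = true := by decide +kernel

set_option maxRecDepth 1000000 in
theorem rows_38 : rowsRange E RS 1500 57000 = true := by decide +kernel

set_option maxRecDepth 1000000 in
theorem rows_54 : rowsRange E RS 1500 81000 = true := by decide +kernel

set_option maxRecDepth 1000000 in
theorem rows_70 : rowsRange E RS 1500 105000 = true := by decide +kernel

set_option maxRecDepth 1000000 in
theorem rows_86 : rowsRange E RS 1500 129000 = true := by decide +kernel

set_option maxRecDepth 1000000 in
theorem rows_102 : rowsRange E RS 1500 153000 = true := by decide +kernel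

set_option maxRecDepth 1000000 in
theorem rows_118 : rowsRange E RS 1500 177000 = true := by decide +kernel

set_option maxRecDepth 1000000 in
theorem rows_134 : rowsRange E RS 1500 201000 = true := by decide +kernel

set_option maxRecDepth 1000000 in
theorem rows_150 : rowsRange E RS 1500 225000 = true := by decide +kernel

set_option maxRecDepth 1000000 in
theorem rows_166 : rowsRange E RS 1500 249000 = true := by decide +kernel

set_option maxRecDepth 1000000 in
theorem rows_182 : rowsRange E RS 1500 273000 = true := by decide +kernel

set_option maxRecDepth 1000000 in
theorem rows_198 : rowsRange E RS 1500 297000 = true := by decide +kernel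

set_option maxRecDepth 1000000 in
theorem rows_214 : rowsRange E RS 1500 321000 = true := by decide +kernel

set_option maxRecDepth 1000000 in
theorem rows_230 : rowsRange E RS 1500 345000 = true := by decide +kernel

set_option maxRecDepth 1000000 in
theorem rows_246 : rowsRange E RS 1500 369000 = true := by decide +kernel

set_option maxRecDepth 1000000 in
theorem rows_262 : rowsRange E RS 1500 393000 = true := by decide +kernel

set_option maxRecDepth 1000000 in
theorem rows_278 : rowsRange E RS 1500 417000 = true := by decide +kernel

set_option maxRecDepth 1000000 in
theorem rows_294 : rowsRange E RS 1500 441000 = true := by decide +kernel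

set_option maxRecDepth 1000000 in
theorem rows_310 : rowsRange E RS 1500 465000 = true := by decide +kernel

set_option maxRecDepth 1000000 in
theorem rows_326 : rowsRange E RS 1500 489000 = true := by decide +kernel

set_option maxRecDepth 1000000 in
theorem rows_342 : rowsRange E RS 1500 513000 = true := by decide +kernel

set_option maxRecDepth 1000000 in
theorem rows_358 : rowsRange E RS 1500 537000 = true := by decide +kernel

set_option maxRecDepth 1000000 in
theorem rows_374 : rowsRange E RS 1500 561000 = true := by decide +kernel

set_option maxRecDepth 1000000 in
theorem rows_390 : rowsRange E RS 1500 585000 = true := by decide +kernel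

end

end Cfsg.Agent.Helper5.HNATC
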