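import Cfsg.Agent.Helper5.HNATCDatD
import Cfsg.Agent.Helper5.TCIB

/-! kernel checks of edges, aliases, rows: HNATC -/

set_option autoImplicit false
set_option Elab.async false

namespace Cfsg.Agent.Helper5.HNATC
open Cfsg.Agent.Helper5.TC Cfsg.Agent.Helper5.TCI
noncomputable section

set_option maxRecDepth 1000000 in
theorem cnt_3 : cntFrom RS 20000 60000 0 = 12374 := by decide +kernel

set_option maxRecDepth 1000000 in
theorem cnt_19 : cntFrom RS 20000 380000 0 = 4829 := by decide +kernel

set_option maxRecDepth 1000000 in
theorem edges_0_99 : edgesRangeI iota E 0 1936 175767 = true := by decide +kernel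

set_option maxRecDepth 1000000 in
theorem edges_2_40 : edgesRangeI iota E 2 2307 95533 = true := by decide +kernel

set_option maxRecDepth 1000000 in
theorem edges_0_265 : edgesRangeI iota E 0 1233 538677 = true := by decide +kernel

set_option maxRecDepth 1000000 in
theorem edges_1_34 : edgesRangeI iota E 1 3478 112268 = true := by decide +kernel

set_option maxRecDepth 1000000 in
theorem edges_2_29 : edgesRangeI iota E 2 2407 69540 = true := by decide +kernel

set_option maxRecDepth 1000000 in
theorem edges_2_20 : edgesRangeI iota E 2 2222 48976 = true := by decide +kernel

set_option maxRecDepth 1000000 in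
theorem edges_2_147 : edgesRangeI iota E 2 2464 351893 = true := by decide +kernel

set_option maxRecDepth 1000000 in
theorem edges_1_33 : edgesRangeI iota E 1 3375 108893 = true := by decide +kernel

set_option maxRecDepth 1000000 in
theorem edges_0_277 : edgesRangeI iota E 0 1213 553503 = true := by decide +kernel

set_option maxRecDepth 1000000 in
theorem edges_2_120 : edgesRangeI iota E 2 2532 286749 = true := by decide +kernel

set_option maxRecDepth 1000000 in
theorem edges_0_27 : edgesRangeI iota E 0 1591 44892 = true := by decide +kernel

set_option maxRecDepth 1000000 in
theorem edges_0_278 : edgesRangeI iota E 0 1259 554716 = true := by decide +kernel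

set_option maxRecDepth 1000000 in
theorem edges_2_201 : edgesRangeI iota E 2 2401 486553 = true := by decide +kernel

set_option maxRecDepth 1000000 in
theorem edges_0_106 : edgesRangeI iota E 0 1830 189873 = true := by decide +kernel

set_option maxRecDepth 1000000 in
theorem edges_0_302 : edgesRangeI iota E 0 1102 582628 = true := by decide +kernel

set_option maxRecDepth 1000000 in
theorem edges_2_241 : edgesRangeI iota E 2 1282 562430 = true := by decide +kernel

set_option maxRecDepth 1000000 in
theorem edges_0_148 : edgesRangeI iota E 0 2244 279012 = true := by decide +kernel

set_option maxRecDepth 1000000 in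
theorem edges_0_270 : edgesRangeI iota E 0 1145 545063 = true := by decide +kernel

set_option maxRecDepth 1000000 in
theorem edges_2_45 : edgesRangeI iota E 2 2389 107291 = true := by decide +kernel

set_option maxRecDepth 1000000 in
theorem edges_0_21 : edgesRangeI iota E 0 1670 34800 = true := by decide +kernel

set_option maxRecDepth 1000000 in
theorem edges_0_75 : edgesRangeI iota E 0 1685 129648 = true := by decide +kernel

set_option maxRecDepth 1000000 in
theorem edges_2_0 : edgesRangeI iota E 2 2637 0 = true := by decide +kernel

set_option maxRecDepth 1000000 in
theorem aliases_20 : aliasRange E 3307 81844 = true := by decide +kernel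

set_option maxRecDepth 1000000 in
theorem aliases_120 : aliasRange E 2285 331194 = true := by decide +kernel

set_option maxRecDepth 1000000 in
theorem edges_0_20 : edgesRangeI iota E 0 1689 33111 = true := by decide +kernel

set_option maxRecDepth 1000000 in
theorem edges_0_186 : edgesRangeI iota E 0 2157 362244 = true := by decide +kernel

set_option maxRecDepth 1000000 in
theorem edges_1_140 : edgesRangeI iota E 1 4216 522362 = true := by decide +kernel

set_option maxRecDepth 1000000 in
theorem edges_2_240 : edgesRangeI iota E 2 1455 560975 = true := by decide +kernel

set_option maxRecDepth 1000000 in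
theorem aliases_29 : aliasRange E 2886 111563 = true := by decide +kernel

set_option maxRecDepth 1000000 in
theorem aliases_101 : aliasRange E 2223 288835 = true := by decide +kernel

set_option maxRecDepth 1000000 in
theorem aliases_171 : aliasRange E 1974 438009 = true := by decide +kernel

set_option maxRecDepth 1000000 in
theorem edges_0_105 : edgesRangeI iota E 0 1798 188075 = true := by decide +kernel

set_option maxRecDepth 1000000 in
theorem edges_0_254 : edgesRangeI iota E 0 2868 519098 = true := by decide +kernel

set_option maxRecDepth 1000000 in
theorem edges_1_27 : edgesRangeI iota E 1 3278 89478 = true := by decide +kernel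

set_option maxRecDepth 1000000 in
theorem edges_1_94 : edgesRangeI iota E 1 3877 334080 = true := by decide +kernel

set_option maxRecDepth 1000000 in
theorem edges_2_107 : edgesRangeI iota E 2 2276 255262 = true := by decide +kernel

set_option maxRecDepth 1000000 in
theorem edges_3_22 : edgesRangeI iota E 3 4455 98845 = true := by decide +kernel

set_option maxRecDepth 1000000 in
theorem aliases_11 : aliasRange E 3558 50833 = true := by decide +kernel

set_option maxRecDepth 1000000 in
theorem aliases_113 : aliasRange E 2308 315615 = true := by decide +kernel

set_option maxRecDepth 1000000 in
theorem aliases_205 : aliasRange E 1873 506440 = true := by decide +kernel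

set_option maxRecDepth 1000000 in
theorem edges_0_228 : edgesRangeI iota E 0 2008 458612 = true := by decide +kernel

set_option maxRecDepth 1000000 in
theorem edges_1_39 : edgesRangeI iota E 1 3574 129096 = true := by decide +kernel

set_option maxRecDepth 1000000 in
theorem edges_2_13 : edgesRangeI iota E 2 2392 32936 = true := by decide +kernel

set_option maxRecDepth 1000000 in
theorem edges_2_222 : edgesRangeI iota E 2 1461 535309 = true := by decide +kernel

set_option maxRecDepth 1000000 in
theorem edges_3_74 : edgesRangeI iota E 3 5296 356290 = true := by decide +kernel

set_option maxRecDepth 1000000 in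
theorem aliases_43 : aliasRange E 2535 151619 = true := by decide +kernel

set_option maxRecDepth 1000000 in
theorem aliases_131 : aliasRange E 2214 355094 = true := by decide +kernel

set_option maxRecDepth 1000000 in
theorem edges_0_37 : edgesRangeI iota E 0 1747 61397 = true := by decide +kernel

set_option maxRecDepth 1000000 in
theorem edges_0_88 : edgesRangeI iota E 0 2061 154757 = true := by decide +kernel

set_option maxRecDepth 1000000 in
theorem edges_0_161 : edgesRangeI iota E 0 2044 307368 = true := by decide +kernel

set_option maxRecDepth 1000000 in
theorem edges_0_207 : edgesRangeI iota E 0 2509 410083 = true := by decide +kernel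

set_option maxRecDepth 1000000 in
theorem edges_0_273 : edgesRangeI iota E 0 1195 548629 = true := by decide +kernel

set_option maxRecDepth 1000000 in
theorem edges_1_47 : edgesRangeI iota E 1 3513 157101 = true := by decide +kernel

set_option maxRecDepth 1000000 in
theorem edges_1_83 : edgesRangeI iota E 1 3825 291474 = true := by decide +kernel

set_option maxRecDepth 1000000 in
theorem edges_1_117 : edgesRangeI iota E 1 3889 425982 = true := by decide +kernel

set_option maxRecDepth 1000000 in
theorem edges_1_167 : edgesRangeI iota E 1 1413 579811 = true := by decide +kernel

set_option maxRecDepth 1000000 in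
theorem edges_2_76 : edgesRangeI iota E 2 2365 180386 = true := by decide +kernel

set_option maxRecDepth 1000000 in
theorem edges_2_126 : edgesRangeI iota E 2 2311 301516 = true := by decide +kernel

set_option maxRecDepth 1000000 in
theorem edges_2_188 : edgesRangeI iota E 2 2414 453695 = true := by decide +kernel

set_option maxRecDepth 1000000 in
theorem edges_3_4 : edgesRangeI iota E 3 4508 18601 = true := by decide +kernel

set_option maxRecDepth 1000000 in
theorem edges_3_41 : edgesRangeI iota E 3 4945 187566 = true := by decide +kernel

set_option maxRecDepth 1000000 in
theorem edges_3_65 : edgesRangeI iota E 3 5131 309438 = true := by decide +kernel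

set_option maxRecDepth 1000000 in
theorem edges_3_86 : edgesRangeI iota E 3 5611 421336 = true := by decide +kernel

set_option maxRecDepth 1000000 in
theorem edges_3_121 : edgesRangeI iota E 3 2953 584857 = true := by decide +kernel

set_option maxRecDepth 1000000 in
theorem aliases_38 : aliasRange E 3012 137477 = true := by decide +kernel

set_option maxRecDepth 1000000 in
theorem aliases_119 : aliasRange E 2200 328994 = true := by decide +kernel

set_option maxRecDepth 1000000 in
theorem aliases_164 : aliasRange E 1958 424090 = true := by decide +kernel

set_option maxRecDepth 1000000 in
theorem aliases_220 : aliasRange E 4978 541968 = true := by decide +kernel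

set_option maxRecDepth 1000000 in
theorem rows_7 : rowsRange E RS 1500 10500 = true := by decide +kernel

set_option maxRecDepth 1000000 in
theorem rows_23 : rowsRange E RS 1500 34500 = true := by decide +kernel

set_option maxRecDepth 1000000 in
theorem rows_39 : rowsRange E RS 1500 58500 = true := by decide +kernel

set_option maxRecDepth 1000000 in
theorem rows_55 : rowsRange E RS 1500 82500 = true := by decide +kernel

set_option maxRecDepth 1000000 in
theorem rows_71 : rowsRange E RS 1500 106500 = true := by decide +kernel

set_option maxRecDepth 1000000 in
theorem rows_87 : rowsRange E RS 1500 130500 = true := by decide +kernel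

set_option maxRecDepth 1000000 in
theorem rows_103 : rowsRange E RS 1500 154500 = true := by decide +kernel

set_option maxRecDepth 1000000 in
theorem rows_119 : rowsRange E RS 1500 178500 = true := by decide +kernel

set_option maxRecDepth 1000000 in
theorem rows_135 : rowsRange E RS 1500 202500 = true := by decide +kernel

set_option maxRecDepth 1000000 in
theorem rows_151 : rowsRange E RS 1500 226500 = true := by decide +kernel

set_option maxRecDepth 1000000 in
theorem rows_167 : rowsRange E RS 1500 250500 = true := by decide +kernel

set_option maxRecDepth 1000000 in
theorem rows_183 : rowsRange E RS 1500 274500 = true := by decide +kernel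

set_option maxRecDepth 1000000 in
theorem rows_199 : rowsRange E RS 1500 298500 = true := by decide +kernel

set_option maxRecDepth 1000000 in
theorem rows_215 : rowsRange E RS 1500 322500 = true := by decide +kernel

set_option maxRecDepth 1000000 in
theorem rows_231 : rowsRange E RS 1500 346500 = true := by decide +kernel

set_option maxRecDepth 1000000 in
theorem rows_247 : rowsRange E RS 1500 370500 = true := by decide +kernel

set_option maxRecDepth 1000000 in
theorem rows_263 : rowsRange E RS 1500 394500 = true := by decide +kernel

set_option maxRecDepth 1000000 in
theorem rows_279 : rowsRange E RS 1500 418500 = true := by decide +kernel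

set_option maxRecDepth 1000000 in
theorem rows_295 : rowsRange E RS 1500 442500 = true := by decide +kernel

set_option maxRecDepth 1000000 in
theorem rows_311 : rowsRange E RS 1500 466500 = true := by decide +kernel

set_option maxRecDepth 1000000 in
theorem rows_327 : rowsRange E RS 1500 490500 = true := by decide +kernel

set_option maxRecDepth 1000000 in
theorem rows_343 : rowsRange E RS 1500 514500 = true := by decide +kernel

set_option maxRecDepth 1000000 in
theorem rows_359 : rowsRange E RS 1500 538500 = true := by decide +kernel

set_option maxRecDepth 1000000 in
theorem rows_375 : rowsRange E RS 1500 562500 = true := by decide +kernel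

set_option maxRecDepth 1000000 in
theorem rows_391 : rowsRange E RS 1500 586500 = true := by decide +kernel

end

end Cfsg.Agent.Helper5.HNATC
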