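import Cfsg.Agent.Helper5.HNATCDatD
import Cfsg.Agent.Helper5.TCIB

/-! kernel checks of edges, aliases, rows: HNATC -/

set_option autoImplicit false
set_option Elab.async false

namespace Cfsg.Agent.Helper5.HNATC
open Cfsg.Agent.Helper5.TC Cfsg.Agent.Helper5.TCI
noncomputable section

set_option maxRecDepth 1000000 in
theorem cnt_4 : cntFrom RS 20000 80000 0 = 12457 := by decide +kernel

set_option maxRecDepth 1000000 in
theorem cnt_20 : cntFrom RS 20000 400000 0 = 3440 := by decide +kernel

set_option maxRecDepth 1000000 in
theorem edges_2_48 : edgesRangeI iota E 2 2527 114410 = true := by decide +kernel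

set_option maxRecDepth 1000000 in
theorem edges_2_63 : edgesRangeI iota E 2 2433 149562 = true := by decide +kernel

set_option maxRecDepth 1000000 in
theorem edges_1_147 : edgesRangeI iota E 1 2325 541984 = true := by decide +kernel

set_option maxRecDepth 1000000 in
theorem edges_1_148 : edgesRangeI iota E 1 2144 544309 = true := by decide +kernel

set_option maxRecDepth 1000000 in
theorem edges_2_34 : edgesRangeI iota E 2 2476 81346 = true := by decide +kernel

set_option maxRecDepth 1000000 in
theorem edges_2_21 : edgesRangeI iota E 2 2270 51198 = true := by decide +kernel

set_option maxRecDepth 1000000 in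
theorem edges_2_177 : edgesRangeI iota E 2 2406 426702 = true := by decide +kernel

set_option maxRecDepth 1000000 in
theorem edges_1_62 : edgesRangeI iota E 1 3625 210251 = true := by decide +kernel

set_option maxRecDepth 1000000 in
theorem edges_1_69 : edgesRangeI iota E 1 3596 237102 = true := by decide +kernel

set_option maxRecDepth 1000000 in
theorem edges_2_139 : edgesRangeI iota E 2 2295 332993 = true := by decide +kernel

set_option maxRecDepth 1000000 in
theorem edges_0_45 : edgesRangeI iota E 0 1824 75530 = true := by decide +kernel

set_option maxRecDepth 1000000 in
theorem edges_0_285 : edgesRangeI iota E 0 1110 563202 = true := by decide +kernel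

set_option maxRecDepth 1000000 in
theorem edges_2_205 : edgesRangeI iota E 2 2389 496375 = true := by decide +kernel

set_option maxRecDepth 1000000 in
theorem edges_0_108 : edgesRangeI iota E 0 2045 193541 = true := by decide +kernel

set_option maxRecDepth 1000000 in
theorem edges_1_138 : edgesRangeI iota E 1 4280 513232 = true := by decide +kernel

set_option maxRecDepth 1000000 in
theorem edges_2_247 : edgesRangeI iota E 2 1226 570224 = true := by decide +kernel

set_option maxRecDepth 1000000 in
theorem edges_0_154 : edgesRangeI iota E 0 2142 292409 = true := by decide +kernel

set_option maxRecDepth 1000000 in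
theorem edges_0_282 : edgesRangeI iota E 0 1218 559558 = true := by decide +kernel

set_option maxRecDepth 1000000 in
theorem edges_2_74 : edgesRangeI iota E 2 2414 175539 = true := by decide +kernel

set_option maxRecDepth 1000000 in
theorem edges_0_24 : edgesRangeI iota E 0 1746 39918 = true := by decide +kernel

set_option maxRecDepth 1000000 in
theorem edges_0_78 : edgesRangeI iota E 0 2005 135445 = true := by decide +kernel

set_option maxRecDepth 1000000 in
theorem edges_2_1 : edgesRangeI iota E 2 2569 2637 = true := by decide +kernel

set_option maxRecDepth 1000000 in
theorem aliases_27 : aliasRange E 3154 105395 = true := by decide +kernel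

set_option maxRecDepth 1000000 in
theorem aliases_133 : aliasRange E 2158 359454 = true := by decide +kernel

set_option maxRecDepth 1000000 in
theorem edges_0_29 : edgesRangeI iota E 0 1595 48067 = true := by decide +kernel

set_option maxRecDepth 1000000 in
theorem edges_0_202 : edgesRangeI iota E 0 2088 397994 = true := by decide +kernel

set_option maxRecDepth 1000000 in
theorem edges_1_141 : edgesRangeI iota E 1 4161 526578 = true := by decide +kernel

set_option maxRecDepth 1000000 in
theorem edges_2_259 : edgesRangeI iota E 2 1135 585115 = true := by decide +kernel

set_option maxRecDepth 1000000 in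
theorem aliases_37 : aliasRange E 2560 134917 = true := by decide +kernel

set_option maxRecDepth 1000000 in
theorem aliases_104 : aliasRange E 2055 295327 = true := by decide +kernel

set_option maxRecDepth 1000000 in
theorem aliases_176 : aliasRange E 2112 447848 = true := by decide +kernel

set_option maxRecDepth 1000000 in
theorem edges_0_109 : edgesRangeI iota E 0 1952 195586 = true := by decide +kernel

set_option maxRecDepth 1000000 in
theorem edges_0_274 : edgesRangeI iota E 0 1212 549824 = true := by decide +kernel

set_option maxRecDepth 1000000 in
theorem edges_1_28 : edgesRangeI iota E 1 3167 92756 = true := by decide +kernel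

set_option maxRecDepth 1000000 in
theorem edges_1_98 : edgesRangeI iota E 1 3900 349372 = true := by decide +kernel

set_option maxRecDepth 1000000 in
theorem edges_2_131 : edgesRangeI iota E 2 2606 313034 = true := by decide +kernel

set_option maxRecDepth 1000000 in
theorem edges_3_23 : edgesRangeI iota E 3 4518 103300 = true := by decide +kernel

set_option maxRecDepth 1000000 in
theorem aliases_30 : aliasRange E 2940 114449 = true := by decide +kernel

set_option maxRecDepth 1000000 in
theorem aliases_118 : aliasRange E 2219 326775 = true := by decide +kernel

set_option maxRecDepth 1000000 in
theorem aliases_213 : aliasRange E 1847 521531 = true := by decide +kernel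

set_option maxRecDepth 1000000 in
theorem edges_0_229 : edgesRangeI iota E 0 2233 460620 = true := by decide +kernel

set_option maxRecDepth 1000000 in
theorem edges_1_40 : edgesRangeI iota E 1 3586 132670 = true := by decide +kernel

set_option maxRecDepth 1000000 in
theorem edges_2_15 : edgesRangeI iota E 2 2296 37668 = true := by decide +kernel

set_option maxRecDepth 1000000 in
theorem edges_2_223 : edgesRangeI iota E 2 1523 536770 = true := by decide +kernel

set_option maxRecDepth 1000000 in
theorem edges_3_105 : edgesRangeI iota E 3 4873 527778 = true := by decide +kernel

set_option maxRecDepth 1000000 in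
theorem aliases_45 : aliasRange E 2735 156521 = true := by decide +kernel

set_option maxRecDepth 1000000 in
theorem aliases_152 : aliasRange E 2179 399829 = true := by decide +kernel

set_option maxRecDepth 1000000 in
theorem edges_0_52 : edgesRangeI iota E 0 1744 88264 = true := by decide +kernel

set_option maxRecDepth 1000000 in
theorem edges_0_89 : edgesRangeI iota E 0 1893 156818 = true := by decide +kernel

set_option maxRecDepth 1000000 in
theorem edges_0_163 : edgesRangeI iota E 0 2293 311448 = true := by decide +kernel

set_option maxRecDepth 1000000 in
theorem edges_0_210 : edgesRangeI iota E 0 2295 417113 = true := by decide +kernel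

set_option maxRecDepth 1000000 in
theorem edges_1_0 : edgesRangeI iota E 1 3440 0 = true := by decide +kernel

set_option maxRecDepth 1000000 in
theorem edges_1_51 : edgesRangeI iota E 1 3668 170814 = true := by decide +kernel

set_option maxRecDepth 1000000 in
theorem edges_1_84 : edgesRangeI iota E 1 4089 295299 = true := by decide +kernel

set_option maxRecDepth 1000000 in
theorem edges_1_118 : edgesRangeI iota E 1 4410 429871 = true := by decide +kernel

set_option maxRecDepth 1000000 in
theorem edges_2_3 : edgesRangeI iota E 2 2476 7744 = true := by decide +kernel

set_option maxRecDepth 1000000 in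
theorem edges_2_77 : edgesRangeI iota E 2 2349 182751 = true := by decide +kernel

set_option maxRecDepth 1000000 in
theorem edges_2_127 : edgesRangeI iota E 2 2276 303827 = true := by decide +kernel

set_option maxRecDepth 1000000 in
theorem edges_2_195 : edgesRangeI iota E 2 2604 471230 = true := by decide +kernel

set_option maxRecDepth 1000000 in
theorem edges_3_10 : edgesRangeI iota E 3 4577 45395 = true := by decide +kernel

set_option maxRecDepth 1000000 in
theorem edges_3_44 : edgesRangeI iota E 3 4772 202188 = true := by decide +kernel

set_option maxRecDepth 1000000 in
theorem edges_3_66 : edgesRangeI iota E 3 5035 314569 = true := by decide +kernel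

set_option maxRecDepth 1000000 in
theorem edges_3_87 : edgesRangeI iota E 3 5357 426947 = true := by decide +kernel

set_option maxRecDepth 1000000 in
theorem aliases_0 : aliasRange E 6344 0 = true := by decide +kernel

set_option maxRecDepth 1000000 in
theorem aliases_41 : aliasRange E 2784 146305 = true := by decide +kernel

set_option maxRecDepth 1000000 in
theorem aliases_121 : aliasRange E 2201 333479 = true := by decide +kernel

set_option maxRecDepth 1000000 in
theorem aliases_165 : aliasRange E 1945 426048 = true := by decide +kernel

set_option maxRecDepth 1000000 in
theorem aliases_221 : aliasRange E 5318 546946 = true := by decide +kernel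

set_option maxRecDepth 1000000 in
theorem rows_8 : rowsRange E RS 1500 12000 = true := by decide +kernel

set_option maxRecDepth 1000000 in
theorem rows_24 : rowsRange E RS 1500 36000 = true := by decide +kernel

set_option maxRecDepth 1000000 in
theorem rows_40 : rowsRange E RS 1500 60000 = true := by decide +kernel

set_option maxRecDepth 1000000 in
theorem rows_56 : rowsRange E RS 1500 84000 = true := by decide +kernel

set_option maxRecDepth 1000000 in
theorem rows_72 : rowsRange E RS 1500 108000 = true := by decide +kernel

set_option maxRecDepth 1000000 in
theorem rows_88 : rowsRange E RS 1500 132000 = true := by decide +kernel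

set_option maxRecDepth 1000000 in
theorem rows_104 : rowsRange E RS 1500 156000 = true := by decide +kernel

set_option maxRecDepth 1000000 in
theorem rows_120 : rowsRange E RS 1500 180000 = true := by decide +kernel

set_option maxRecDepth 1000000 in
theorem rows_136 : rowsRange E RS 1500 204000 = true := by decide +kernel

set_option maxRecDepth 1000000 in
theorem rows_152 : rowsRange E RS 1500 228000 = true := by decide +kernel

set_option maxRecDepth 1000000 in
theorem rows_168 : rowsRange E RS 1500 252000 = true := by decide +kernel

set_option maxRecDepth 1000000 in
theorem rows_184 : rowsRange E RS 1500 276000 = true := by decide +kernel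

set_option maxRecDepth 1000000 in
theorem rows_200 : rowsRange E RS 1500 300000 = true := by decide +kernel

set_option maxRecDepth 1000000 in
theorem rows_216 : rowsRange E RS 1500 324000 = true := by decide +kernel

set_option maxRecDepth 1000000 in
theorem rows_232 : rowsRange E RS 1500 348000 = true := by decide +kernel

set_option maxRecDepth 1000000 in
theorem rows_248 : rowsRange E RS 1500 372000 = true := by decide +kernel

set_option maxRecDepth 1000000 in
theorem rows_264 : rowsRange E RS 1500 396000 = true := by decide +kernel

set_option maxRecDepth 1000000 in
theorem rows_280 : rowsRange E RS 1500 420000 = true := by decide +kernel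

set_option maxRecDepth 1000000 in
theorem rows_296 : rowsRange E RS 1500 444000 = true := by decide +kernel

set_option maxRecDepth 1000000 in
theorem rows_312 : rowsRange E RS 1500 468000 = true := by decide +kernel

set_option maxRecDepth 1000000 in
theorem rows_328 : rowsRange E RS 1500 492000 = true := by decide +kernel

set_option maxRecDepth 1000000 in
theorem rows_344 : rowsRange E RS 1500 516000 = true := by decide +kernel

set_option maxRecDepth 1000000 in
theorem rows_360 : rowsRange E RS 1500 540000 = true := by decide +kernel

set_option maxRecDepth 1000000 in
theorem rows_376 : rowsRange E RS 1500 564000 = true := by decide +kernel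

set_option maxRecDepth 1000000 in
theorem cnt_29 : cntFrom RS 8491 580000 0 = 8251 := by decide +kernel

end

end Cfsg.Agent.Helper5.HNATC
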