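import Cfsg.Agent.Helper5.HNATCDatD
import Cfsg.Agent.Helper5.TCIB

/-! kernel checks of edges, aliases, rows: HNATC -/

set_option autoImplicit false
set_option Elab.async false

namespace Cfsg.Agent.Helper5.HNATC
open Cfsg.Agent.Helper5.TC Cfsg.Agent.Helper5.TCI
noncomputable section

set_option maxRecDepth 1000000 in
theorem cnt_5 : cntFrom RS 20000 100000 0 = 10895 := by decide +kernel

set_option maxRecDepth 1000000 in
theorem cnt_21 : cntFrom RS 20000 420000 0 = 3616 := by decide +kernel

set_option maxRecDepth 1000000 in
theorem edges_2_65 : edgesRangeI iota E 2 2291 154427 = true := by decide +kernel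

set_option maxRecDepth 1000000 in
theorem edges_2_67 : edgesRangeI iota E 2 2465 158996 = true := by decide +kernel

set_option maxRecDepth 1000000 in
theorem edges_1_153 : edgesRangeI iota E 1 1918 554410 = true := by decide +kernel

set_option maxRecDepth 1000000 in
theorem edges_1_171 : edgesRangeI iota E 1 1281 585483 = true := by decide +kernel

set_option maxRecDepth 1000000 in
theorem edges_2_56 : edgesRangeI iota E 2 2458 133458 = true := by decide +kernel

set_option maxRecDepth 1000000 in
theorem edges_2_36 : edgesRangeI iota E 2 2465 86234 = true := by decide +kernel

set_option maxRecDepth 1000000 in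
theorem edges_2_197 : edgesRangeI iota E 2 2336 476526 = true := by decide +kernel

set_option maxRecDepth 1000000 in
theorem edges_1_74 : edgesRangeI iota E 1 3908 256163 = true := by decide +kernel

set_option maxRecDepth 1000000 in
theorem edges_2_17 : edgesRangeI iota E 2 2258 42295 = true := by decide +kernel

set_option maxRecDepth 1000000 in
theorem edges_2_171 : edgesRangeI iota E 2 2668 411740 = true := by decide +kernel

set_option maxRecDepth 1000000 in
theorem edges_0_53 : edgesRangeI iota E 0 1788 90008 = true := by decide +kernel

set_option maxRecDepth 1000000 in
theorem edges_0_300 : edgesRangeI iota E 0 1080 580403 = true := by decide +kernel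

set_option maxRecDepth 1000000 in
theorem edges_2_206 : edgesRangeI iota E 2 2626 498764 = true := by decide +kernel

set_option maxRecDepth 1000000 in
theorem edges_0_159 : edgesRangeI iota E 0 2073 303368 = true := by decide +kernel

set_option maxRecDepth 1000000 in
theorem edges_2_8 : edgesRangeI iota E 2 2564 20547 = true := by decide +kernel

set_option maxRecDepth 1000000 in
theorem edges_2_252 : edgesRangeI iota E 2 1239 576464 = true := by decide +kernel

set_option maxRecDepth 1000000 in
theorem edges_0_156 : edgesRangeI iota E 0 2207 297149 = true := by decide +kernel

set_option maxRecDepth 1000000 in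
theorem edges_0_283 : edgesRangeI iota E 0 1220 560776 = true := by decide +kernel

set_option maxRecDepth 1000000 in
theorem edges_2_103 : edgesRangeI iota E 2 2438 245236 = true := by decide +kernel

set_option maxRecDepth 1000000 in
theorem edges_0_28 : edgesRangeI iota E 0 1584 46483 = true := by decide +kernel

set_option maxRecDepth 1000000 in
theorem edges_0_92 : edgesRangeI iota E 0 1895 162642 = true := by decide +kernel

set_option maxRecDepth 1000000 in
theorem edges_2_42 : edgesRangeI iota E 2 2372 100224 = true := by decide +kernel

set_option maxRecDepth 1000000 in
theorem aliases_31 : aliasRange E 3020 117389 = true := by decide +kernel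

set_option maxRecDepth 1000000 in
theorem aliases_143 : aliasRange E 2122 380879 = true := by decide +kernel

set_option maxRecDepth 1000000 in
theorem edges_0_32 : edgesRangeI iota E 0 1603 52865 = true := by decide +kernel

set_option maxRecDepth 1000000 in
theorem edges_0_206 : edgesRangeI iota E 0 2611 407472 = true := by decide +kernel

set_option maxRecDepth 1000000 in
theorem edges_1_146 : edgesRangeI iota E 1 2057 539927 = true := by decide +kernel

set_option maxRecDepth 1000000 in
theorem edges_3_7 : edgesRangeI iota E 3 4293 32224 = true := by decide +kernel

set_option maxRecDepth 1000000 in
theorem aliases_44 : aliasRange E 2367 154154 = true := by decide +kernel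

set_option maxRecDepth 1000000 in
theorem aliases_110 : aliasRange E 2332 308817 = true := by decide +kernel

set_option maxRecDepth 1000000 in
theorem aliases_179 : aliasRange E 1944 453929 = true := by decide +kernel

set_option maxRecDepth 1000000 in
theorem edges_0_112 : edgesRangeI iota E 0 2165 201323 = true := by decide +kernel

set_option maxRecDepth 1000000 in
theorem edges_0_276 : edgesRangeI iota E 0 1228 552275 = true := by decide +kernel

set_option maxRecDepth 1000000 in
theorem edges_1_30 : edgesRangeI iota E 1 3237 99043 = true := by decide +kernel

set_option maxRecDepth 1000000 in
theorem edges_1_113 : edgesRangeI iota E 1 4382 409192 = true := by decide +kernel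

set_option maxRecDepth 1000000 in
theorem edges_2_132 : edgesRangeI iota E 2 2586 315640 = true := by decide +kernel

set_option maxRecDepth 1000000 in
theorem edges_3_28 : edgesRangeI iota E 3 4692 125991 = true := by decide +kernel

set_option maxRecDepth 1000000 in
theorem aliases_42 : aliasRange E 2530 149089 = true := by decide +kernel

set_option maxRecDepth 1000000 in
theorem aliases_127 : aliasRange E 2210 346364 = true := by decide +kernel

set_option maxRecDepth 1000000 in
theorem edges_0_35 : edgesRangeI iota E 0 1769 57877 = true := by decide +kernel

set_option maxRecDepth 1000000 in
theorem edges_0_113 : edgesRangeI iota E 0 2062 203488 = true := by decide +kernel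

set_option maxRecDepth 1000000 in
theorem edges_0_242 : edgesRangeI iota E 0 2279 489979 = true := by decide +kernel

set_option maxRecDepth 1000000 in
theorem edges_1_55 : edgesRangeI iota E 1 3897 185009 = true := by decide +kernel

set_option maxRecDepth 1000000 in
theorem edges_2_55 : edgesRangeI iota E 2 2426 131032 = true := by decide +kernel

set_option maxRecDepth 1000000 in
theorem edges_2_250 : edgesRangeI iota E 2 1199 573997 = true := by decide +kernel

set_option maxRecDepth 1000000 in
theorem edges_3_112 : edgesRangeI iota E 3 3695 555046 = true := by decide +kernel

set_option maxRecDepth 1000000 in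
theorem aliases_70 : aliasRange E 2403 220167 = true := by decide +kernel

set_option maxRecDepth 1000000 in
theorem aliases_187 : aliasRange E 2067 470451 = true := by decide +kernel

set_option maxRecDepth 1000000 in
theorem edges_0_90 : edgesRangeI iota E 0 1879 158711 = true := by decide +kernel

set_option maxRecDepth 1000000 in
theorem edges_0_170 : edgesRangeI iota E 0 2330 327587 = true := by decide +kernel

set_option maxRecDepth 1000000 in
theorem edges_0_211 : edgesRangeI iota E 0 2377 419408 = true := by decide +kernel

set_option maxRecDepth 1000000 in
theorem edges_1_1 : edgesRangeI iota E 1 3372 3440 = true := by decide +kernel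

set_option maxRecDepth 1000000 in
theorem edges_1_56 : edgesRangeI iota E 1 3547 188906 = true := by decide +kernel

set_option maxRecDepth 1000000 in
theorem edges_1_85 : edgesRangeI iota E 1 3658 299388 = true := by decide +kernel

set_option maxRecDepth 1000000 in
theorem edges_1_119 : edgesRangeI iota E 1 4425 434281 = true := by decide +kernel

set_option maxRecDepth 1000000 in
theorem edges_2_7 : edgesRangeI iota E 2 2489 18058 = true := by decide +kernel

set_option maxRecDepth 1000000 in
theorem edges_2_82 : edgesRangeI iota E 2 2449 194238 = true := by decide +kernel

set_option maxRecDepth 1000000 in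
theorem edges_2_128 : edgesRangeI iota E 2 2188 306103 = true := by decide +kernel

set_option maxRecDepth 1000000 in
theorem edges_2_196 : edgesRangeI iota E 2 2692 473834 = true := by decide +kernel

set_option maxRecDepth 1000000 in
theorem edges_3_11 : edgesRangeI iota E 3 4604 49972 = true := by decide +kernel

set_option maxRecDepth 1000000 in
theorem edges_3_45 : edgesRangeI iota E 3 4829 206960 = true := by decide +kernel

set_option maxRecDepth 1000000 in
theorem edges_3_68 : edgesRangeI iota E 3 5295 324771 = true := by decide +kernel

set_option maxRecDepth 1000000 in
theorem edges_3_88 : edgesRangeI iota E 3 5896 432304 = true := by decide +kernel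

set_option maxRecDepth 1000000 in
theorem aliases_3 : aliasRange E 4907 17358 = true := by decide +kernel

set_option maxRecDepth 1000000 in
theorem aliases_49 : aliasRange E 2633 167321 = true := by decide +kernel

set_option maxRecDepth 1000000 in
theorem aliases_122 : aliasRange E 2073 335680 = true := by decide +kernel

set_option maxRecDepth 1000000 in
theorem aliases_168 : aliasRange E 1877 432212 = true := by decide +kernel

set_option maxRecDepth 1000000 in
theorem aliases_222 : aliasRange E 6202 552264 = true := by decide +kernel

set_option maxRecDepth 1000000 in
theorem rows_9 : rowsRange E RS 1500 13500 = true := by decide +kernel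

set_option maxRecDepth 1000000 in
theorem rows_25 : rowsRange E RS 1500 37500 = true := by decide +kernel

set_option maxRecDepth 1000000 in
theorem rows_41 : rowsRange E RS 1500 61500 = true := by decide +kernel

set_option maxRecDepth 1000000 in
theorem rows_57 : rowsRange E RS 1500 85500 = true := by decide +kernel

set_option maxRecDepth 1000000 in
theorem rows_73 : rowsRange E RS 1500 109500 = true := by decide +kernel

set_option maxRecDepth 1000000 in
theorem rows_89 : rowsRange E RS 1500 133500 = true := by decide +kernel

set_option maxRecDepth 1000000 in
theorem rows_105 : rowsRange E RS 1500 157500 = true := by decide +kernel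

set_option maxRecDepth 1000000 in
theorem rows_121 : rowsRange E RS 1500 181500 = true := by decide +kernel

set_option maxRecDepth 1000000 in
theorem rows_137 : rowsRange E RS 1500 205500 = true := by decide +kernel

set_option maxRecDepth 1000000 in
theorem rows_153 : rowsRange E RS 1500 229500 = true := by decide +kernel

set_option maxRecDepth 1000000 in
theorem rows_169 : rowsRange E RS 1500 253500 = true := by decide +kernel

set_option maxRecDepth 1000000 in
theorem rows_185 : rowsRange E RS 1500 277500 = true := by decide +kernel

set_option maxRecDepth 1000000 in
theorem rows_201 : rowsRange E RS 1500 301500 = true := by decide +kernel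

set_option maxRecDepth 1000000 in
theorem rows_217 : rowsRange E RS 1500 325500 = true := by decide +kernel

set_option maxRecDepth 1000000 in
theorem rows_233 : rowsRange E RS 1500 349500 = true := by decide +kernel

set_option maxRecDepth 1000000 in
theorem rows_249 : rowsRange E RS 1500 373500 = true := by decide +kernel

set_option maxRecDepth 1000000 in
theorem rows_265 : rowsRange E RS 1500 397500 = true := by decide +kernel

set_option maxRecDepth 1000000 in
theorem rows_281 : rowsRange E RS 1500 421500 = true := by decide +kernel

set_option maxRecDepth 1000000 in
theorem rows_297 : rowsRange E RS 1500 445500 = true := by decide +kernel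

set_option maxRecDepth 1000000 in
theorem rows_313 : rowsRange E RS 1500 469500 = true := by decide +kernel

set_option maxRecDepth 1000000 in
theorem rows_329 : rowsRange E RS 1500 493500 = true := by decide +kernel

set_option maxRecDepth 1000000 in
theorem rows_345 : rowsRange E RS 1500 517500 = true := by decide +kernel

set_option maxRecDepth 1000000 in
theorem rows_361 : rowsRange E RS 1500 541500 = true := by decide +kernel

set_option maxRecDepth 1000000 in
theorem rows_377 : rowsRange E RS 1500 565500 = true := by decide +kernel

set_option maxRecDepth 1000000 in
theorem edges_0_307 : edgesRangeI iota E 0 357 588134 = true := by decide +kernel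

end

end Cfsg.Agent.Helper5.HNATC
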