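import Cfsg.Agent.Helper5.HNATCDatD
import Cfsg.Agent.Helper5.TCIB

/-! kernel checks of edges, aliases, rows: HNATC -/

set_option autoImplicit false
set_option Elab.async false

namespace Cfsg.Agent.Helper5.HNATC
open Cfsg.Agent.Helper5.TC Cfsg.Agent.Helper5.TCI
noncomputable section

set_option maxRecDepth 1000000 in
theorem cnt_6 : cntFrom RS 20000 120000 0 = 9668 := by decide +kernel

set_option maxRecDepth 1000000 in
theorem cnt_22 : cntFrom RS 20000 440000 0 = 3902 := by decide +kernel

set_option maxRecDepth 1000000 in
theorem aliases_190 : aliasRange E 2017 476361 = true := by decide +kernel

set_option maxRecDepth 1000000 in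
theorem edges_2_113 : edgesRangeI iota E 2 2474 269587 = true := by decide +kernel

set_option maxRecDepth 1000000 in
theorem edges_1_160 : edgesRangeI iota E 1 1965 567707 = true := by decide +kernel

set_option maxRecDepth 1000000 in
theorem edges_2_38 : edgesRangeI iota E 2 2406 90973 = true := by decide +kernel

set_option maxRecDepth 1000000 in
theorem edges_2_69 : edgesRangeI iota E 2 2238 163792 = true := by decide +kernel

set_option maxRecDepth 1000000 in
theorem edges_2_68 : edgesRangeI iota E 2 2331 161461 = true := by decide +kernel

set_option maxRecDepth 1000000 in
theorem edges_2_212 : edgesRangeI iota E 2 2429 513820 = true := by decide +kernel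

set_option maxRecDepth 1000000 in
theorem edges_1_109 : edgesRangeI iota E 1 3836 392595 = true := by decide +kernel

set_option maxRecDepth 1000000 in
theorem edges_2_118 : edgesRangeI iota E 2 2436 281930 = true := by decide +kernel

set_option maxRecDepth 1000000 in
theorem edges_2_211 : edgesRangeI iota E 2 2446 511374 = true := by decide +kernel

set_option maxRecDepth 1000000 in
theorem edges_0_86 : edgesRangeI iota E 0 1942 150678 = true := by decide +kernel

set_option maxRecDepth 1000000 in
theorem edges_0_303 : edgesRangeI iota E 0 1126 583730 = true := by decide +kernel

set_option maxRecDepth 1000000 in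
theorem edges_2_221 : edgesRangeI iota E 2 1542 533767 = true := by decide +kernel

set_option maxRecDepth 1000000 in
theorem edges_0_165 : edgesRangeI iota E 0 2226 316008 = true := by decide +kernel

set_option maxRecDepth 1000000 in
theorem edges_2_24 : edgesRangeI iota E 2 2138 57791 = true := by decide +kernel

set_option maxRecDepth 1000000 in
theorem edges_3_58 : edgesRangeI iota E 3 5178 272889 = true := by decide +kernel

set_option maxRecDepth 1000000 in
theorem edges_0_157 : edgesRangeI iota E 0 2008 299356 = true := by decide +kernel

set_option maxRecDepth 1000000 in
theorem edges_0_284 : edgesRangeI iota E 0 1206 561996 = true := by decide +kernel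

set_option maxRecDepth 1000000 in
theorem edges_2_114 : edgesRangeI iota E 2 2398 272061 = true := by decide +kernel

set_option maxRecDepth 1000000 in
theorem edges_0_30 : edgesRangeI iota E 0 1581 49662 = true := by decide +kernel

set_option maxRecDepth 1000000 in
theorem edges_0_96 : edgesRangeI iota E 0 1833 169960 = true := by decide +kernel

set_option maxRecDepth 1000000 in
theorem edges_2_81 : edgesRangeI iota E 2 2201 192037 = true := by decide +kernel

set_option maxRecDepth 1000000 in
theorem aliases_33 : aliasRange E 2858 123697 = true := by decide +kernel

set_option maxRecDepth 1000000 in
theorem aliases_148 : aliasRange E 2061 391559 = true := by decide +kernel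

set_option maxRecDepth 1000000 in
theorem edges_0_43 : edgesRangeI iota E 0 1745 71934 = true := by decide +kernel

set_option maxRecDepth 1000000 in
theorem edges_0_215 : edgesRangeI iota E 0 2174 428737 = true := by decide +kernel

set_option maxRecDepth 1000000 in
theorem edges_1_149 : edgesRangeI iota E 1 2017 546453 = true := by decide +kernel

set_option maxRecDepth 1000000 in
theorem edges_3_8 : edgesRangeI iota E 3 4367 36517 = true := by decide +kernel

set_option maxRecDepth 1000000 in
theorem aliases_46 : aliasRange E 2621 159256 = true := by decide +kernel

set_option maxRecDepth 1000000 in
theorem aliases_112 : aliasRange E 2248 313367 = true := by decide +kernel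

set_option maxRecDepth 1000000 in
theorem aliases_181 : aliasRange E 1950 457861 = true := by decide +kernel

set_option maxRecDepth 1000000 in
theorem edges_0_114 : edgesRangeI iota E 0 1986 205550 = true := by decide +kernel

set_option maxRecDepth 1000000 in
theorem edges_0_290 : edgesRangeI iota E 0 1169 568997 = true := by decide +kernel

set_option maxRecDepth 1000000 in
theorem edges_1_31 : edgesRangeI iota E 1 3324 102280 = true := by decide +kernel

set_option maxRecDepth 1000000 in
theorem edges_1_115 : edgesRangeI iota E 1 4269 417565 = true := by decide +kernel

set_option maxRecDepth 1000000 in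
theorem edges_2_145 : edgesRangeI iota E 2 2142 347294 = true := by decide +kernel

set_option maxRecDepth 1000000 in
theorem edges_3_29 : edgesRangeI iota E 3 4656 130683 = true := by decide +kernel

set_option maxRecDepth 1000000 in
theorem aliases_47 : aliasRange E 2811 161877 = true := by decide +kernel

set_option maxRecDepth 1000000 in
theorem aliases_129 : aliasRange E 2171 350793 = true := by decide +kernel

set_option maxRecDepth 1000000 in
theorem edges_0_40 : edgesRangeI iota E 0 1674 66720 = true := by decide +kernel

set_option maxRecDepth 1000000 in
theorem edges_0_121 : edgesRangeI iota E 0 2287 220460 = true := by decide +kernel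

set_option maxRecDepth 1000000 in
theorem edges_0_245 : edgesRangeI iota E 0 2384 496763 = true := by decide +kernel

set_option maxRecDepth 1000000 in
theorem edges_1_57 : edgesRangeI iota E 1 3620 192453 = true := by decide +kernel

set_option maxRecDepth 1000000 in
theorem edges_2_88 : edgesRangeI iota E 2 2556 208510 = true := by decide +kernel

set_option maxRecDepth 1000000 in
theorem edges_2_255 : edgesRangeI iota E 2 1348 580136 = true := by decide +kernel

set_option maxRecDepth 1000000 in
theorem edges_3_113 : edgesRangeI iota E 3 3595 558741 = true := by decide +kernel

set_option maxRecDepth 1000000 in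
theorem aliases_71 : aliasRange E 2257 222570 = true := by decide +kernel

set_option maxRecDepth 1000000 in
theorem aliases_189 : aliasRange E 1926 474435 = true := by decide +kernel

set_option maxRecDepth 1000000 in
theorem edges_0_98 : edgesRangeI iota E 0 1926 173841 = true := by decide +kernel

set_option maxRecDepth 1000000 in
theorem edges_0_171 : edgesRangeI iota E 0 2257 329917 = true := by decide +kernel

set_option maxRecDepth 1000000 in
theorem edges_0_214 : edgesRangeI iota E 0 2079 426658 = true := by decide +kernel

set_option maxRecDepth 1000000 in
theorem edges_1_2 : edgesRangeI iota E 1 3333 6812 = true := by decide +kernel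

set_option maxRecDepth 1000000 in
theorem edges_1_58 : edgesRangeI iota E 1 3481 196073 = true := by decide +kernel

set_option maxRecDepth 1000000 in
theorem edges_1_89 : edgesRangeI iota E 1 3721 314166 = true := by decide +kernel

set_option maxRecDepth 1000000 in
theorem edges_1_120 : edgesRangeI iota E 1 4009 438706 = true := by decide +kernel

set_option maxRecDepth 1000000 in
theorem edges_2_10 : edgesRangeI iota E 2 2634 25488 = true := by decide +kernel

set_option maxRecDepth 1000000 in
theorem edges_2_83 : edgesRangeI iota E 2 2267 196687 = true := by decide +kernel

set_option maxRecDepth 1000000 in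
theorem edges_2_130 : edgesRangeI iota E 2 2508 310526 = true := by decide +kernel

set_option maxRecDepth 1000000 in
theorem edges_2_214 : edgesRangeI iota E 2 2691 518517 = true := by decide +kernel

set_option maxRecDepth 1000000 in
theorem edges_3_13 : edgesRangeI iota E 3 4379 59105 = true := by decide +kernel

set_option maxRecDepth 1000000 in
theorem edges_3_46 : edgesRangeI iota E 3 4725 211789 = true := by decide +kernel

set_option maxRecDepth 1000000 in
theorem edges_3_69 : edgesRangeI iota E 3 5218 330066 = true := by decide +kernel

set_option maxRecDepth 1000000 in
theorem edges_3_89 : edgesRangeI iota E 3 5496 438200 = true := by decide +kernel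

set_option maxRecDepth 1000000 in
theorem aliases_4 : aliasRange E 4715 22265 = true := by decide +kernel

set_option maxRecDepth 1000000 in
theorem aliases_54 : aliasRange E 2296 180322 = true := by decide +kernel

set_option maxRecDepth 1000000 in
theorem aliases_128 : aliasRange E 2219 348574 = true := by decide +kernel

set_option maxRecDepth 1000000 in
theorem aliases_170 : aliasRange E 1952 436057 = true := by decide +kernel

set_option maxRecDepth 1000000 in
theorem aliases_223 : aliasRange E 6292 558466 = true := by decide +kernel

set_option maxRecDepth 1000000 in
theorem rows_10 : rowsRange E RS 1500 15000 = true := by decide +kernel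

set_option maxRecDepth 1000000 in
theorem rows_26 : rowsRange E RS 1500 39000 = true := by decide +kernel

set_option maxRecDepth 1000000 in
theorem rows_42 : rowsRange E RS 1500 63000 = true := by decide +kernel

set_option maxRecDepth 1000000 in
theorem rows_58 : rowsRange E RS 1500 87000 = true := by decide +kernel

set_option maxRecDepth 1000000 in
theorem rows_74 : rowsRange E RS 1500 111000 = true := by decide +kernel

set_option maxRecDepth 1000000 in
theorem rows_90 : rowsRange E RS 1500 135000 = true := by decide +kernel

set_option maxRecDepth 1000000 in
theorem rows_106 : rowsRange E RS 1500 159000 = true := by decide +kernel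

set_option maxRecDepth 1000000 in
theorem rows_122 : rowsRange E RS 1500 183000 = true := by decide +kernel

set_option maxRecDepth 1000000 in
theorem rows_138 : rowsRange E RS 1500 207000 = true := by decide +kernel

set_option maxRecDepth 1000000 in
theorem rows_154 : rowsRange E RS 1500 231000 = true := by decide +kernel

set_option maxRecDepth 1000000 in
theorem rows_170 : rowsRange E RS 1500 255000 = true := by decide +kernel

set_option maxRecDepth 1000000 in
theorem rows_186 : rowsRange E RS 1500 279000 = true := by decide +kernel

set_option maxRecDepth 1000000 in
theorem rows_202 : rowsRange E RS 1500 303000 = true := by decide +kernel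

set_option maxRecDepth 1000000 in
theorem rows_218 : rowsRange E RS 1500 327000 = true := by decide +kernel

set_option maxRecDepth 1000000 in
theorem rows_234 : rowsRange E RS 1500 351000 = true := by decide +kernel

set_option maxRecDepth 1000000 in
theorem rows_250 : rowsRange E RS 1500 375000 = true := by decide +kernel

set_option maxRecDepth 1000000 in
theorem rows_266 : rowsRange E RS 1500 399000 = true := by decide +kernel

set_option maxRecDepth 1000000 in
theorem rows_282 : rowsRange E RS 1500 423000 = true := by decide +kernel

set_option maxRecDepth 1000000 in
theorem rows_298 : rowsRange E RS 1500 447000 = true := by decide +kernel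

set_option maxRecDepth 1000000 in
theorem rows_314 : rowsRange E RS 1500 471000 = true := by decide +kernel

set_option maxRecDepth 1000000 in
theorem rows_330 : rowsRange E RS 1500 495000 = true := by decide +kernel

set_option maxRecDepth 1000000 in
theorem rows_346 : rowsRange E RS 1500 519000 = true := by decide +kernel

set_option maxRecDepth 1000000 in
theorem rows_362 : rowsRange E RS 1500 543000 = true := by decide +kernel

set_option maxRecDepth 1000000 in
theorem rows_378 : rowsRange E RS 1500 567000 = true := by decide +kernel

set_option maxRecDepth 1000000 in
theorem rows_392 : rowsRange E RS 491 588000 = true := by decide +kernel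

end

end Cfsg.Agent.Helper5.HNATC
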