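import Cfsg.Agent.Helper5.HNATCDatD
import Cfsg.Agent.Helper5.TCIB

/-! kernel checks of edges, aliases, rows: HNATC -/

set_option autoImplicit false
set_option Elab.async false

namespace Cfsg.Agent.Helper5.HNATC
open Cfsg.Agent.Helper5.TC Cfsg.Agent.Helper5.TCI
noncomputable section

set_option maxRecDepth 1000000 in
theorem cnt_7 : cntFrom RS 20000 140000 0 = 8983 := by decide +kernel

set_option maxRecDepth 1000000 in
theorem cnt_23 : cntFrom RS 20000 460000 0 = 3950 := by decide +kernel

set_option maxRecDepth 1000000 in
theorem edges_0_18 : edgesRangeI iota E 0 1619 29849 = true := by decide +kernel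

set_option maxRecDepth 1000000 in
theorem edges_0_232 : edgesRangeI iota E 0 2437 467250 = true := by decide +kernel

set_option maxRecDepth 1000000 in
theorem edges_1_50 : edgesRangeI iota E 1 3432 167382 = true := by decide +kernel

set_option maxRecDepth 1000000 in
theorem edges_2_66 : edgesRangeI iota E 2 2278 156718 = true := by decide +kernel

set_option maxRecDepth 1000000 in
theorem edges_2_85 : edgesRangeI iota E 2 2499 201214 = true := by decide +kernel

set_option maxRecDepth 1000000 in
theorem edges_2_162 : edgesRangeI iota E 2 2547 389331 = true := by decide +kernel

set_option maxRecDepth 1000000 in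
theorem edges_0_4 : edgesRangeI iota E 0 1674 6763 = true := by decide +kernel

set_option maxRecDepth 1000000 in
theorem edges_1_24 : edgesRangeI iota E 1 3248 79653 = true := by decide +kernel

set_option maxRecDepth 1000000 in
theorem edges_2_191 : edgesRangeI iota E 2 2663 460981 = true := by decide +kernel

set_option maxRecDepth 1000000 in
theorem edges_2_230 : edgesRangeI iota E 2 1427 546870 = true := by decide +kernel

set_option maxRecDepth 1000000 in
theorem edges_0_133 : edgesRangeI iota E 0 2042 246332 = true := by decide +kernel

set_option maxRecDepth 1000000 in
theorem edges_1_102 : edgesRangeI iota E 1 3780 364561 = true := by decide +kernel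

set_option maxRecDepth 1000000 in
theorem edges_2_237 : edgesRangeI iota E 2 1449 556734 = true := by decide +kernel

set_option maxRecDepth 1000000 in
theorem edges_0_180 : edgesRangeI iota E 0 1964 349373 = true := by decide +kernel

set_option maxRecDepth 1000000 in
theorem edges_2_49 : edgesRangeI iota E 2 2137 116937 = true := by decide +kernel

set_option maxRecDepth 1000000 in
theorem edges_3_100 : edgesRangeI iota E 3 5817 498601 = true := by decide +kernel

set_option maxRecDepth 1000000 in
theorem edges_0_158 : edgesRangeI iota E 0 2004 301364 = true := by decide +kernel

set_option maxRecDepth 1000000 in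
theorem edges_0_288 : edgesRangeI iota E 0 1189 566690 = true := by decide +kernel

set_option maxRecDepth 1000000 in
theorem edges_2_117 : edgesRangeI iota E 2 2459 279471 = true := by decide +kernel

set_option maxRecDepth 1000000 in
theorem edges_0_33 : edgesRangeI iota E 0 1690 54468 = true := by decide +kernel

set_option maxRecDepth 1000000 in
theorem edges_0_102 : edgesRangeI iota E 0 2025 181646 = true := by decide +kernel

set_option maxRecDepth 1000000 in
theorem edges_2_144 : edgesRangeI iota E 2 2203 345091 = true := by decide +kernel

set_option maxRecDepth 1000000 in
theorem aliases_39 : aliasRange E 2841 140489 = true := by decide +kernel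

set_option maxRecDepth 1000000 in
theorem aliases_162 : aliasRange E 1945 420202 = true := by decide +kernel

set_option maxRecDepth 1000000 in
theorem edges_0_77 : edgesRangeI iota E 0 2122 133323 = true := by decide +kernel

set_option maxRecDepth 1000000 in
theorem edges_0_218 : edgesRangeI iota E 0 2502 435845 = true := by decide +kernel

set_option maxRecDepth 1000000 in
theorem edges_1_162 : edgesRangeI iota E 1 1665 571511 = true := by decide +kernel

set_option maxRecDepth 1000000 in
theorem edges_3_17 : edgesRangeI iota E 3 4467 76701 = true := by decide +kernel

set_option maxRecDepth 1000000 in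
theorem aliases_48 : aliasRange E 2633 164688 = true := by decide +kernel

set_option maxRecDepth 1000000 in
theorem aliases_117 : aliasRange E 2263 324512 = true := by decide +kernel

set_option maxRecDepth 1000000 in
theorem aliases_184 : aliasRange E 2265 464011 = true := by decide +kernel

set_option maxRecDepth 1000000 in
theorem edges_0_115 : edgesRangeI iota E 0 2120 207536 = true := by decide +kernel

set_option maxRecDepth 1000000 in
theorem edges_0_293 : edgesRangeI iota E 0 1124 572492 = true := by decide +kernel

set_option maxRecDepth 1000000 in
theorem edges_1_41 : edgesRangeI iota E 1 3456 136256 = true := by decide +kernel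

set_option maxRecDepth 1000000 in
theorem edges_1_126 : edgesRangeI iota E 1 4061 463021 = true := by decide +kernel

set_option maxRecDepth 1000000 in
theorem edges_2_151 : edgesRangeI iota E 2 2394 361697 = true := by decide +kernel

set_option maxRecDepth 1000000 in
theorem edges_3_43 : edgesRangeI iota E 3 4814 197374 = true := by decide +kernel

set_option maxRecDepth 1000000 in
theorem aliases_52 : aliasRange E 2560 175029 = true := by decide +kernel

set_option maxRecDepth 1000000 in
theorem aliases_137 : aliasRange E 2169 368085 = true := by decide +kernel

set_option maxRecDepth 1000000 in
theorem edges_0_48 : edgesRangeI iota E 0 1776 80993 = true := by decide +kernel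

set_option maxRecDepth 1000000 in
theorem edges_0_127 : edgesRangeI iota E 0 2272 233829 = true := by decide +kernel

set_option maxRecDepth 1000000 in
theorem edges_0_250 : edgesRangeI iota E 0 2485 509082 = true := by decide +kernel

set_option maxRecDepth 1000000 in
theorem edges_1_80 : edgesRangeI iota E 1 4095 279517 = true := by decide +kernel

set_option maxRecDepth 1000000 in
theorem edges_2_111 : edgesRangeI iota E 2 2259 265018 = true := by decide +kernel

set_option maxRecDepth 1000000 in
theorem edges_2_261 : edgesRangeI iota E 2 1048 587422 = true := by decide +kernel

set_option maxRecDepth 1000000 in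
theorem edges_3_114 : edgesRangeI iota E 3 3372 562336 = true := by decide +kernel

set_option maxRecDepth 1000000 in
theorem aliases_72 : aliasRange E 2254 224827 = true := by decide +kernel

set_option maxRecDepth 1000000 in
theorem aliases_203 : aliasRange E 1884 502639 = true := by decide +kernel

set_option maxRecDepth 1000000 in
theorem edges_0_117 : edgesRangeI iota E 0 2093 211864 = true := by decide +kernel

set_option maxRecDepth 1000000 in
theorem edges_0_173 : edgesRangeI iota E 0 2151 334208 = true := by decide +kernel

set_option maxRecDepth 1000000 in
theorem edges_0_217 : edgesRangeI iota E 0 2415 433430 = true := by decide +kernel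

set_option maxRecDepth 1000000 in
theorem edges_1_4 : edgesRangeI iota E 1 3295 13460 = true := by decide +kernel

set_option maxRecDepth 1000000 in
theorem edges_1_59 : edgesRangeI iota E 1 3495 199554 = true := by decide +kernel

set_option maxRecDepth 1000000 in
theorem edges_1_95 : edgesRangeI iota E 1 4100 337957 = true := by decide +kernel

set_option maxRecDepth 1000000 in
theorem edges_1_121 : edgesRangeI iota E 1 4129 442715 = true := by decide +kernel

set_option maxRecDepth 1000000 in
theorem edges_2_11 : edgesRangeI iota E 2 2438 28122 = true := by decide +kernel

set_option maxRecDepth 1000000 in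
theorem edges_2_84 : edgesRangeI iota E 2 2260 198954 = true := by decide +kernel

set_option maxRecDepth 1000000 in
theorem edges_2_137 : edgesRangeI iota E 2 2571 328018 = true := by decide +kernel

set_option maxRecDepth 1000000 in
theorem edges_2_217 : edgesRangeI iota E 2 2456 526156 = true := by decide +kernel

set_option maxRecDepth 1000000 in
theorem edges_3_14 : edgesRangeI iota E 3 4420 63484 = true := by decide +kernel

set_option maxRecDepth 1000000 in
theorem edges_3_47 : edgesRangeI iota E 3 5073 216514 = true := by decide +kernel

set_option maxRecDepth 1000000 in
theorem edges_3_70 : edgesRangeI iota E 3 5416 335284 = true := by decide +kernel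

set_option maxRecDepth 1000000 in
theorem edges_3_93 : edgesRangeI iota E 3 5414 460224 = true := by decide +kernel

set_option maxRecDepth 1000000 in
theorem aliases_5 : aliasRange E 4254 26980 = true := by decide +kernel

set_option maxRecDepth 1000000 in
theorem aliases_58 : aliasRange E 2634 189846 = true := by decide +kernel

set_option maxRecDepth 1000000 in
theorem aliases_130 : aliasRange E 2130 352964 = true := by decide +kernel

set_option maxRecDepth 1000000 in
theorem aliases_173 : aliasRange E 2003 441939 = true := by decide +kernel

set_option maxRecDepth 1000000 in
theorem aliases_224 : aliasRange E 5645 564758 = true := by decide +kernel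

set_option maxRecDepth 1000000 in
theorem rows_11 : rowsRange E RS 1500 16500 = true := by decide +kernel

set_option maxRecDepth 1000000 in
theorem rows_27 : rowsRange E RS 1500 40500 = true := by decide +kernel

set_option maxRecDepth 1000000 in
theorem rows_43 : rowsRange E RS 1500 64500 = true := by decide +kernel

set_option maxRecDepth 1000000 in
theorem rows_59 : rowsRange E RS 1500 88500 = true := by decide +kernel

set_option maxRecDepth 1000000 in
theorem rows_75 : rowsRange E RS 1500 112500 = true := by decide +kernel

set_option maxRecDepth 1000000 in
theorem rows_91 : rowsRange E RS 1500 136500 = true := by decide +kernel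

set_option maxRecDepth 1000000 in
theorem rows_107 : rowsRange E RS 1500 160500 = true := by decide +kernel

set_option maxRecDepth 1000000 in
theorem rows_123 : rowsRange E RS 1500 184500 = true := by decide +kernel

set_option maxRecDepth 1000000 in
theorem rows_139 : rowsRange E RS 1500 208500 = true := by decide +kernel

set_option maxRecDepth 1000000 in
theorem rows_155 : rowsRange E RS 1500 232500 = true := by decide +kernel

set_option maxRecDepth 1000000 in
theorem rows_171 : rowsRange E RS 1500 256500 = true := by decide +kernel

set_option maxRecDepth 1000000 in
theorem rows_187 : rowsRange E RS 1500 280500 = true := by decide +kernel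

set_option maxRecDepth 1000000 in
theorem rows_203 : rowsRange E RS 1500 304500 = true := by decide +kernel

set_option maxRecDepth 1000000 in
theorem rows_219 : rowsRange E RS 1500 328500 = true := by decide +kernel

set_option maxRecDepth 1000000 in
theorem rows_235 : rowsRange E RS 1500 352500 = true := by decide +kernel

set_option maxRecDepth 1000000 in
theorem rows_251 : rowsRange E RS 1500 376500 = true := by decide +kernel

set_option maxRecDepth 1000000 in
theorem rows_267 : rowsRange E RS 1500 400500 = true := by decide +kernel

set_option maxRecDepth 1000000 in
theorem rows_283 : rowsRange E RS 1500 424500 = true := by decide +kernel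

set_option maxRecDepth 1000000 in
theorem rows_299 : rowsRange E RS 1500 448500 = true := by decide +kernel

set_option maxRecDepth 1000000 in
theorem rows_315 : rowsRange E RS 1500 472500 = true := by decide +kernel

set_option maxRecDepth 1000000 in
theorem rows_331 : rowsRange E RS 1500 496500 = true := by decide +kernel

set_option maxRecDepth 1000000 in
theorem rows_347 : rowsRange E RS 1500 520500 = true := by decide +kernel

set_option maxRecDepth 1000000 in
theorem rows_363 : rowsRange E RS 1500 544500 = true := by decide +kernel

set_option maxRecDepth 1000000 in
theorem rows_379 : rowsRange E RS 1500 568500 = true := by decide +kernel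

set_option maxRecDepth 1000000 in
theorem edges_3_122 : edgesRangeI iota E 3 681 587810 = true := by decide +kernel

end

end Cfsg.Agent.Helper5.HNATC
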