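import Cfsg.Agent.Helper5.HNATCDatD
import Cfsg.Agent.Helper5.TCIB

/-! kernel checks of edges, aliases, rows: HNATC -/

set_option autoImplicit false
set_option Elab.async false

namespace Cfsg.Agent.Helper5.HNATC
open Cfsg.Agent.Helper5.TC Cfsg.Agent.Helper5.TCI
noncomputable section

set_option maxRecDepth 1000000 in
theorem cnt_8 : cntFrom RS 20000 160000 0 = 8568 := by decide +kernel

set_option maxRecDepth 1000000 in
theorem cnt_24 : cntFrom RS 20000 480000 0 = 4507 := by decide +kernel

set_option maxRecDepth 1000000 in
theorem edges_1_163 : edgesRangeI iota E 1 1678 573176 = true := by decide +kernel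

set_option maxRecDepth 1000000 in
theorem edges_1_129 : edgesRangeI iota E 1 3935 475539 = true := by decide +kernel

set_option maxRecDepth 1000000 in
theorem edges_2_72 : edgesRangeI iota E 2 2429 170794 = true := by decide +kernel

set_option maxRecDepth 1000000 in
theorem edges_2_71 : edgesRangeI iota E 2 2401 168393 = true := by decide +kernel

set_option maxRecDepth 1000000 in
theorem edges_2_90 : edgesRangeI iota E 2 2439 213441 = true := by decide +kernel

set_option maxRecDepth 1000000 in
theorem edges_2_165 : edgesRangeI iota E 2 2216 396724 = true := by decide +kernel

set_option maxRecDepth 1000000 in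
theorem edges_0_141 : edgesRangeI iota E 0 2226 264117 = true := by decide +kernel

set_option maxRecDepth 1000000 in
theorem edges_1_159 : edgesRangeI iota E 1 1994 565713 = true := by decide +kernel

set_option maxRecDepth 1000000 in
theorem edges_2_192 : edgesRangeI iota E 2 2452 463644 = true := by decide +kernel

set_option maxRecDepth 1000000 in
theorem edges_3_39 : edgesRangeI iota E 3 4865 177743 = true := by decide +kernel

set_option maxRecDepth 1000000 in
theorem edges_0_140 : edgesRangeI iota E 0 2383 261734 = true := by decide +kernel

set_option maxRecDepth 1000000 in
theorem edges_1_116 : edgesRangeI iota E 1 4148 421834 = true := by decide +kernel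

set_option maxRecDepth 1000000 in
theorem edges_2_244 : edgesRangeI iota E 2 1284 566279 = true := by decide +kernel

set_option maxRecDepth 1000000 in
theorem edges_0_204 : edgesRangeI iota E 0 2078 402484 = true := by decide +kernel

set_option maxRecDepth 1000000 in
theorem edges_2_51 : edgesRangeI iota E 2 2389 121414 = true := by decide +kernel

set_option maxRecDepth 1000000 in
theorem aliases_75 : aliasRange E 2375 231641 = true := by decide +kernel

set_option maxRecDepth 1000000 in
theorem edges_0_168 : edgesRangeI iota E 0 2171 323041 = true := by decide +kernel

set_option maxRecDepth 1000000 in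
theorem edges_0_291 : edgesRangeI iota E 0 1173 570166 = true := by decide +kernel

set_option maxRecDepth 1000000 in
theorem edges_2_148 : edgesRangeI iota E 2 2459 354357 = true := by decide +kernel

set_option maxRecDepth 1000000 in
theorem edges_0_41 : edgesRangeI iota E 0 1733 68394 = true := by decide +kernel

set_option maxRecDepth 1000000 in
theorem edges_0_128 : edgesRangeI iota E 0 2041 236101 = true := by decide +kernel

set_option maxRecDepth 1000000 in
theorem edges_2_181 : edgesRangeI iota E 2 2458 436691 = true := by decide +kernel

set_option maxRecDepth 1000000 in
theorem aliases_53 : aliasRange E 2733 177589 = true := by decide +kernel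

set_option maxRecDepth 1000000 in
theorem aliases_167 : aliasRange E 2104 430108 = true := by decide +kernel

set_option maxRecDepth 1000000 in
theorem edges_0_107 : edgesRangeI iota E 0 1838 191703 = true := by decide +kernel

set_option maxRecDepth 1000000 in
theorem edges_0_231 : edgesRangeI iota E 0 2090 465160 = true := by decide +kernel

set_option maxRecDepth 1000000 in
theorem edges_2_2 : edgesRangeI iota E 2 2538 5206 = true := by decide +kernel

set_option maxRecDepth 1000000 in
theorem edges_3_20 : edgesRangeI iota E 3 4455 90064 = true := by decide +kernel

set_option maxRecDepth 1000000 in
theorem aliases_50 : aliasRange E 2543 169954 = true := by decide +kernel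

set_option maxRecDepth 1000000 in
theorem aliases_123 : aliasRange E 2124 337753 = true := by decide +kernel

set_option maxRecDepth 1000000 in
theorem aliases_192 : aliasRange E 2072 480429 = true := by decide +kernel

set_option maxRecDepth 1000000 in
theorem edges_0_119 : edgesRangeI iota E 0 2075 216089 = true := by decide +kernel

set_option maxRecDepth 1000000 in
theorem edges_1_5 : edgesRangeI iota E 1 3311 16755 = true := by decide +kernel

set_option maxRecDepth 1000000 in
theorem edges_1_42 : edgesRangeI iota E 1 3350 139712 = true := by decide +kernel

set_option maxRecDepth 1000000 in
theorem edges_1_130 : edgesRangeI iota E 1 4131 479474 = true := by decide +kernel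

set_option maxRecDepth 1000000 in
theorem edges_2_170 : edgesRangeI iota E 2 2734 409006 = true := by decide +kernel

set_option maxRecDepth 1000000 in
theorem edges_3_53 : edgesRangeI iota E 3 5278 246809 = true := by decide +kernel

set_option maxRecDepth 1000000 in
theorem aliases_62 : aliasRange E 2567 200130 = true := by decide +kernel

set_option maxRecDepth 1000000 in
theorem aliases_146 : aliasRange E 2158 387177 = true := by decide +kernel

set_option maxRecDepth 1000000 in
theorem edges_0_51 : edgesRangeI iota E 0 1855 86409 = true := by decide +kernel

set_option maxRecDepth 1000000 in
theorem edges_0_142 : edgesRangeI iota E 0 2078 266343 = true := by decide +kernel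

set_option maxRecDepth 1000000 in
theorem edges_0_292 : edgesRangeI iota E 0 1153 571339 = true := by decide +kernel

set_option maxRecDepth 1000000 in
theorem edges_1_92 : edgesRangeI iota E 1 4162 325924 = true := by decide +kernel

set_option maxRecDepth 1000000 in
theorem edges_2_115 : edgesRangeI iota E 2 2539 274459 = true := by decide +kernel

set_option maxRecDepth 1000000 in
theorem edges_3_5 : edgesRangeI iota E 3 4509 23109 = true := by decide +kernel

set_option maxRecDepth 1000000 in
theorem edges_3_115 : edgesRangeI iota E 3 3217 565708 = true := by decide +kernel

set_option maxRecDepth 1000000 in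
theorem aliases_77 : aliasRange E 2387 236363 = true := by decide +kernel

set_option maxRecDepth 1000000 in
theorem aliases_206 : aliasRange E 1869 508313 = true := by decide +kernel

set_option maxRecDepth 1000000 in
theorem edges_0_118 : edgesRangeI iota E 0 2132 213957 = true := by decide +kernel

set_option maxRecDepth 1000000 in
theorem edges_0_174 : edgesRangeI iota E 0 2363 336359 = true := by decide +kernel

set_option maxRecDepth 1000000 in
theorem edges_0_223 : edgesRangeI iota E 0 2038 447055 = true := by decide +kernel

set_option maxRecDepth 1000000 in
theorem edges_1_8 : edgesRangeI iota E 1 3392 26609 = true := by decide +kernel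

set_option maxRecDepth 1000000 in
theorem edges_1_63 : edgesRangeI iota E 1 3745 213876 = true := by decide +kernel

set_option maxRecDepth 1000000 in
theorem edges_1_97 : edgesRangeI iota E 1 3597 345775 = true := by decide +kernel

set_option maxRecDepth 1000000 in
theorem edges_1_123 : edgesRangeI iota E 1 4352 450771 = true := by decide +kernel

set_option maxRecDepth 1000000 in
theorem edges_2_12 : edgesRangeI iota E 2 2376 30560 = true := by decide +kernel

set_option maxRecDepth 1000000 in
theorem edges_2_86 : edgesRangeI iota E 2 2411 203713 = true := by decide +kernel

set_option maxRecDepth 1000000 in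
theorem edges_2_150 : edgesRangeI iota E 2 2475 359222 = true := by decide +kernel

set_option maxRecDepth 1000000 in
theorem edges_2_219 : edgesRangeI iota E 2 1454 530763 = true := by decide +kernel

set_option maxRecDepth 1000000 in
theorem edges_3_15 : edgesRangeI iota E 3 4299 67904 = true := by decide +kernel

set_option maxRecDepth 1000000 in
theorem edges_3_48 : edgesRangeI iota E 3 5187 221587 = true := by decide +kernel

set_option maxRecDepth 1000000 in
theorem edges_3_71 : edgesRangeI iota E 3 5244 340700 = true := by decide +kernel

set_option maxRecDepth 1000000 in
theorem edges_3_94 : edgesRangeI iota E 3 5254 465638 = true := by decide +kernel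

set_option maxRecDepth 1000000 in
theorem aliases_14 : aliasRange E 3784 61196 = true := by decide +kernel

set_option maxRecDepth 1000000 in
theorem aliases_63 : aliasRange E 2414 202697 = true := by decide +kernel

set_option maxRecDepth 1000000 in
theorem aliases_134 : aliasRange E 2088 361612 = true := by decide +kernel

set_option maxRecDepth 1000000 in
theorem aliases_182 : aliasRange E 2152 459811 = true := by decide +kernel

set_option maxRecDepth 1000000 in
theorem aliases_225 : aliasRange E 6034 570403 = true := by decide +kernel

set_option maxRecDepth 1000000 in
theorem rows_12 : rowsRange E RS 1500 18000 = true := by decide +kernel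

set_option maxRecDepth 1000000 in
theorem rows_28 : rowsRange E RS 1500 42000 = true := by decide +kernel

set_option maxRecDepth 1000000 in
theorem rows_44 : rowsRange E RS 1500 66000 = true := by decide +kernel

set_option maxRecDepth 1000000 in
theorem rows_60 : rowsRange E RS 1500 90000 = true := by decide +kernel

set_option maxRecDepth 1000000 in
theorem rows_76 : rowsRange E RS 1500 114000 = true := by decide +kernel

set_option maxRecDepth 1000000 in
theorem rows_92 : rowsRange E RS 1500 138000 = true := by decide +kernel

set_option maxRecDepth 1000000 in
theorem rows_108 : rowsRange E RS 1500 162000 = true := by decide +kernel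

set_option maxRecDepth 1000000 in
theorem rows_124 : rowsRange E RS 1500 186000 = true := by decide +kernel

set_option maxRecDepth 1000000 in
theorem rows_140 : rowsRange E RS 1500 210000 = true := by decide +kernel

set_option maxRecDepth 1000000 in
theorem rows_156 : rowsRange E RS 1500 234000 = true := by decide +kernel

set_option maxRecDepth 1000000 in
theorem rows_172 : rowsRange E RS 1500 258000 = true := by decide +kernel

set_option maxRecDepth 1000000 in
theorem rows_188 : rowsRange E RS 1500 282000 = true := by decide +kernel

set_option maxRecDepth 1000000 in
theorem rows_204 : rowsRange E RS 1500 306000 = true := by decide +kernel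

set_option maxRecDepth 1000000 in
theorem rows_220 : rowsRange E RS 1500 330000 = true := by decide +kernel

set_option maxRecDepth 1000000 in
theorem rows_236 : rowsRange E RS 1500 354000 = true := by decide +kernel

set_option maxRecDepth 1000000 in
theorem rows_252 : rowsRange E RS 1500 378000 = true := by decide +kernel

set_option maxRecDepth 1000000 in
theorem rows_268 : rowsRange E RS 1500 402000 = true := by decide +kernel

set_option maxRecDepth 1000000 in
theorem rows_284 : rowsRange E RS 1500 426000 = true := by decide +kernel

set_option maxRecDepth 1000000 in
theorem rows_300 : rowsRange E RS 1500 450000 = true := by decide +kernel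

set_option maxRecDepth 1000000 in
theorem rows_316 : rowsRange E RS 1500 474000 = true := by decide +kernel

set_option maxRecDepth 1000000 in
theorem rows_332 : rowsRange E RS 1500 498000 = true := by decide +kernel

set_option maxRecDepth 1000000 in
theorem rows_348 : rowsRange E RS 1500 522000 = true := by decide +kernel

set_option maxRecDepth 1000000 in
theorem rows_364 : rowsRange E RS 1500 546000 = true := by decide +kernel

set_option maxRecDepth 1000000 in
theorem rows_380 : rowsRange E RS 1500 570000 = true := by decide +kernel

set_option maxRecDepth 1000000 in
theorem edges_2_262 : edgesRangeI iota E 2 21 588470 = true := by decide +kernel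

end

end Cfsg.Agent.Helper5.HNATC
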