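import Cfsg.Agent.Helper5.HNATCDatD
import Cfsg.Agent.Helper5.TCIB

/-! kernel checks of edges, aliases, rows: HNATC -/

set_option autoImplicit false
set_option Elab.async false

namespace Cfsg.Agent.Helper5.HNATC
open Cfsg.Agent.Helper5.TC Cfsg.Agent.Helper5.TCI
noncomputable section

set_option maxRecDepth 1000000 in
theorem cnt_9 : cntFrom RS 20000 180000 0 = 7415 := by decide +kernel

set_option maxRecDepth 1000000 in
theorem cnt_25 : cntFrom RS 20000 500000 0 = 3074 := by decide +kernel

set_option maxRecDepth 1000000 in
theorem edges_2_254 : edgesRangeI iota E 2 1200 578936 = true := by decide +kernel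

set_option maxRecDepth 1000000 in
theorem edges_1_161 : edgesRangeI iota E 1 1839 569672 = true := by decide +kernel

set_option maxRecDepth 1000000 in
theorem edges_2_157 : edgesRangeI iota E 2 2581 376309 = true := by decide +kernel

set_option maxRecDepth 1000000 in
theorem edges_2_79 : edgesRangeI iota E 2 2175 187697 = true := by decide +kernel

set_option maxRecDepth 1000000 in
theorem edges_2_96 : edgesRangeI iota E 2 2576 228239 = true := by decide +kernel

set_option maxRecDepth 1000000 in
theorem edges_2_239 : edgesRangeI iota E 2 1398 559577 = true := by decide +kernel

set_option maxRecDepth 1000000 in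
theorem edges_0_195 : edgesRangeI iota E 0 2275 382472 = true := by decide +kernel

set_option maxRecDepth 1000000 in
theorem edges_2_62 : edgesRangeI iota E 2 2187 147375 = true := by decide +kernel

set_option maxRecDepth 1000000 in
theorem edges_2_224 : edgesRangeI iota E 2 1413 538293 = true := by decide +kernel

set_option maxRecDepth 1000000 in
theorem edges_0_97 : edgesRangeI iota E 0 2048 171793 = true := by decide +kernel

set_option maxRecDepth 1000000 in
theorem edges_2_129 : edgesRangeI iota E 2 2235 308291 = true := by decide +kernel

set_option maxRecDepth 1000000 in
theorem edges_1_170 : edgesRangeI iota E 1 1226 584257 = true := by decide +kernel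

set_option maxRecDepth 1000000 in
theorem edges_2_257 : edgesRangeI iota E 2 1149 582741 = true := by decide +kernel

set_option maxRecDepth 1000000 in
theorem edges_0_213 : edgesRangeI iota E 0 2398 424260 = true := by decide +kernel

set_option maxRecDepth 1000000 in
theorem edges_2_57 : edgesRangeI iota E 2 2290 135916 = true := by decide +kernel

set_option maxRecDepth 1000000 in
theorem edges_0_0 : edgesRangeI iota E 0 1742 0 = true := by decide +kernel

set_option maxRecDepth 1000000 in
theorem edges_0_76 : edgesRangeI iota E 0 1990 131333 = true := by decide +kernel

set_option maxRecDepth 1000000 in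
theorem edges_0_209 : edgesRangeI iota E 0 2174 414939 = true := by decide +kernel

set_option maxRecDepth 1000000 in
theorem edges_1_96 : edgesRangeI iota E 1 3718 342057 = true := by decide +kernel

set_option maxRecDepth 1000000 in
theorem edges_2_174 : edgesRangeI iota E 2 2303 419387 = true := by decide +kernel

set_option maxRecDepth 1000000 in
theorem edges_0_131 : edgesRangeI iota E 0 2184 242331 = true := by decide +kernel

set_option maxRecDepth 1000000 in
theorem edges_2_207 : edgesRangeI iota E 2 2628 501390 = true := by decide +kernel

set_option maxRecDepth 1000000 in
theorem aliases_57 : aliasRange E 2445 187401 = true := by decide +kernel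

set_option maxRecDepth 1000000 in
theorem aliases_172 : aliasRange E 1956 439983 = true := by decide +kernel

set_option maxRecDepth 1000000 in
theorem edges_0_116 : edgesRangeI iota E 0 2208 209656 = true := by decide +kernel

set_option maxRecDepth 1000000 in
theorem edges_0_236 : edgesRangeI iota E 0 2022 476839 = true := by decide +kernel

set_option maxRecDepth 1000000 in
theorem edges_2_5 : edgesRangeI iota E 2 2547 12934 = true := by decide +kernel

set_option maxRecDepth 1000000 in
theorem edges_3_26 : edgesRangeI iota E 3 4516 117041 = true := by decide +kernel

set_option maxRecDepth 1000000 in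
theorem aliases_51 : aliasRange E 2532 172497 = true := by decide +kernel

set_option maxRecDepth 1000000 in
theorem aliases_126 : aliasRange E 2132 344232 = true := by decide +kernel

set_option maxRecDepth 1000000 in
theorem aliases_198 : aliasRange E 2037 492866 = true := by decide +kernel

set_option maxRecDepth 1000000 in
theorem edges_0_123 : edgesRangeI iota E 0 2271 224987 = true := by decide +kernel

set_option maxRecDepth 1000000 in
theorem edges_1_6 : edgesRangeI iota E 1 3284 20066 = true := by decide +kernel

set_option maxRecDepth 1000000 in
theorem edges_1_49 : edgesRangeI iota E 1 3331 164051 = true := by decide +kernel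

set_option maxRecDepth 1000000 in
theorem edges_1_133 : edgesRangeI iota E 1 3963 491667 = true := by decide +kernel

set_option maxRecDepth 1000000 in
theorem edges_2_182 : edgesRangeI iota E 2 2290 439149 = true := by decide +kernel

set_option maxRecDepth 1000000 in
theorem edges_3_57 : edgesRangeI iota E 3 5144 267745 = true := by decide +kernel

set_option maxRecDepth 1000000 in
theorem aliases_66 : aliasRange E 2500 210475 = true := by decide +kernel

set_option maxRecDepth 1000000 in
theorem aliases_154 : aliasRange E 2036 403935 = true := by decide +kernel

set_option maxRecDepth 1000000 in
theorem edges_0_57 : edgesRangeI iota E 0 1768 97065 = true := by decide +kernel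

set_option maxRecDepth 1000000 in
theorem edges_0_147 : edgesRangeI iota E 0 2008 277004 = true := by decide +kernel

set_option maxRecDepth 1000000 in
theorem edges_0_295 : edgesRangeI iota E 0 1086 574790 = true := by decide +kernel

set_option maxRecDepth 1000000 in
theorem edges_1_100 : edgesRangeI iota E 1 3899 357057 = true := by decide +kernel

set_option maxRecDepth 1000000 in
theorem edges_2_142 : edgesRangeI iota E 2 2488 340364 = true := by decide +kernel

set_option maxRecDepth 1000000 in
theorem edges_3_6 : edgesRangeI iota E 3 4606 27618 = true := by decide +kernel

set_option maxRecDepth 1000000 in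
theorem aliases_7 : aliasRange E 3954 35465 = true := by decide +kernel

set_option maxRecDepth 1000000 in
theorem aliases_82 : aliasRange E 2028 248134 = true := by decide +kernel

set_option maxRecDepth 1000000 in
theorem aliases_208 : aliasRange E 1807 512136 = true := by decide +kernel

set_option maxRecDepth 1000000 in
theorem edges_0_129 : edgesRangeI iota E 0 2057 238142 = true := by decide +kernel

set_option maxRecDepth 1000000 in
theorem edges_0_175 : edgesRangeI iota E 0 2408 338722 = true := by decide +kernel

set_option maxRecDepth 1000000 in
theorem edges_0_226 : edgesRangeI iota E 0 2400 453904 = true := by decide +kernel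

set_option maxRecDepth 1000000 in
theorem edges_1_9 : edgesRangeI iota E 1 3306 30001 = true := by decide +kernel

set_option maxRecDepth 1000000 in
theorem edges_1_65 : edgesRangeI iota E 1 3928 221567 = true := by decide +kernel

set_option maxRecDepth 1000000 in
theorem edges_1_99 : edgesRangeI iota E 1 3785 353272 = true := by decide +kernel

set_option maxRecDepth 1000000 in
theorem edges_1_124 : edgesRangeI iota E 1 3975 455123 = true := by decide +kernel

set_option maxRecDepth 1000000 in
theorem edges_2_18 : edgesRangeI iota E 2 2179 44553 = true := by decide +kernel

set_option maxRecDepth 1000000 in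
theorem edges_2_89 : edgesRangeI iota E 2 2375 211066 = true := by decide +kernel

set_option maxRecDepth 1000000 in
theorem edges_2_159 : edgesRangeI iota E 2 2590 381722 = true := by decide +kernel

set_option maxRecDepth 1000000 in
theorem edges_2_225 : edgesRangeI iota E 2 1420 539706 = true := by decide +kernel

set_option maxRecDepth 1000000 in
theorem edges_3_16 : edgesRangeI iota E 3 4498 72203 = true := by decide +kernel

set_option maxRecDepth 1000000 in
theorem edges_3_49 : edgesRangeI iota E 3 5082 226774 = true := by decide +kernel

set_option maxRecDepth 1000000 in
theorem edges_3_73 : edgesRangeI iota E 3 5204 351086 = true := by decide +kernel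

set_option maxRecDepth 1000000 in
theorem edges_3_95 : edgesRangeI iota E 3 5714 470892 = true := by decide +kernel

set_option maxRecDepth 1000000 in
theorem aliases_15 : aliasRange E 3683 64980 = true := by decide +kernel

set_option maxRecDepth 1000000 in
theorem aliases_74 : aliasRange E 2263 229378 = true := by decide +kernel

set_option maxRecDepth 1000000 in
theorem aliases_135 : aliasRange E 2255 363700 = true := by decide +kernel

set_option maxRecDepth 1000000 in
theorem aliases_185 : aliasRange E 2006 466276 = true := by decide +kernel

set_option maxRecDepth 1000000 in
theorem aliases_226 : aliasRange E 6341 576437 = true := by decide +kernel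

set_option maxRecDepth 1000000 in
theorem rows_13 : rowsRange E RS 1500 19500 = true := by decide +kernel

set_option maxRecDepth 1000000 in
theorem rows_29 : rowsRange E RS 1500 43500 = true := by decide +kernel

set_option maxRecDepth 1000000 in
theorem rows_45 : rowsRange E RS 1500 67500 = true := by decide +kernel

set_option maxRecDepth 1000000 in
theorem rows_61 : rowsRange E RS 1500 91500 = true := by decide +kernel

set_option maxRecDepth 1000000 in
theorem rows_77 : rowsRange E RS 1500 115500 = true := by decide +kernel

set_option maxRecDepth 1000000 in
theorem rows_93 : rowsRange E RS 1500 139500 = true := by decide +kernel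

set_option maxRecDepth 1000000 in
theorem rows_109 : rowsRange E RS 1500 163500 = true := by decide +kernel

set_option maxRecDepth 1000000 in
theorem rows_125 : rowsRange E RS 1500 187500 = true := by decide +kernel

set_option maxRecDepth 1000000 in
theorem rows_141 : rowsRange E RS 1500 211500 = true := by decide +kernel

set_option maxRecDepth 1000000 in
theorem rows_157 : rowsRange E RS 1500 235500 = true := by decide +kernel

set_option maxRecDepth 1000000 in
theorem rows_173 : rowsRange E RS 1500 259500 = true := by decide +kernel

set_option maxRecDepth 1000000 in
theorem rows_189 : rowsRange E RS 1500 283500 = true := by decide +kernel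

set_option maxRecDepth 1000000 in
theorem rows_205 : rowsRange E RS 1500 307500 = true := by decide +kernel

set_option maxRecDepth 1000000 in
theorem rows_221 : rowsRange E RS 1500 331500 = true := by decide +kernel

set_option maxRecDepth 1000000 in
theorem rows_237 : rowsRange E RS 1500 355500 = true := by decide +kernel

set_option maxRecDepth 1000000 in
theorem rows_253 : rowsRange E RS 1500 379500 = true := by decide +kernel

set_option maxRecDepth 1000000 in
theorem rows_269 : rowsRange E RS 1500 403500 = true := by decide +kernel

set_option maxRecDepth 1000000 in
theorem rows_285 : rowsRange E RS 1500 427500 = true := by decide +kernel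

set_option maxRecDepth 1000000 in
theorem rows_301 : rowsRange E RS 1500 451500 = true := by decide +kernel

set_option maxRecDepth 1000000 in
theorem rows_317 : rowsRange E RS 1500 475500 = true := by decide +kernel

set_option maxRecDepth 1000000 in
theorem rows_333 : rowsRange E RS 1500 499500 = true := by decide +kernel

set_option maxRecDepth 1000000 in
theorem rows_349 : rowsRange E RS 1500 523500 = true := by decide +kernel

set_option maxRecDepth 1000000 in
theorem rows_365 : rowsRange E RS 1500 547500 = true := by decide +kernel

set_option maxRecDepth 1000000 in
theorem rows_381 : rowsRange E RS 1500 571500 = true := by decide +kernel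

end

end Cfsg.Agent.Helper5.HNATC
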