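import Cfsg.Agent.Helper5.HNATCDatD
import Cfsg.Agent.Helper5.HNATCDatT
import Cfsg.Agent.Helper5.TCIB

/-! kernel checks of the coset table: HNATC -/

set_option autoImplicit false
set_option Elab.async false

namespace Cfsg.Agent.Helper5.HNATC
open Cfsg.Agent.Helper5.TC Cfsg.Agent.Helper5.TCI
noncomputable section

set_option maxRecDepth 1000000 in
theorem relc_6_0 : fixPtsF W_6 100000 0 = true := by decide +kernel

set_option maxRecDepth 1000000 in
theorem relc_8_0 : fixPtsF W_8 100000 0 = true := by decide +kernel

set_option maxRecDepth 1000000 in
theorem relc_0_0 : fixPtsF W_0 33333 0 = true := by decide +kernel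

set_option maxRecDepth 1000000 in
theorem relc_0_4 : fixPtsF W_0 33333 133332 = true := by decide +kernel

set_option maxRecDepth 1000000 in
theorem relc_1_1 : fixPtsF W_1 33333 33333 = true := by decide +kernel

set_option maxRecDepth 1000000 in
theorem relc_1_5 : fixPtsF W_1 33333 166665 = true := by decide +kernel

set_option maxRecDepth 1000000 in
theorem relc_2_0 : fixPtsF W_2 16666 0 = true := by decide +kernel

set_option maxRecDepth 1000000 in
theorem relc_2_4 : fixPtsF W_2 16666 66664 = true := by decide +kernel

set_option maxRecDepth 1000000 in
theorem relc_2_8 : fixPtsF W_2 16666 133328 = true := by decide +kernel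

set_option maxRecDepth 1000000 in
theorem relc_2_12 : fixPtsF W_2 16666 199992 = true := by decide +kernel

set_option maxRecDepth 1000000 in
theorem relc_4_1 : fixPtsF W_4 12500 12500 = true := by decide +kernel

set_option maxRecDepth 1000000 in
theorem relc_4_5 : fixPtsF W_4 12500 62500 = true := by decide +kernel

set_option maxRecDepth 1000000 in
theorem relc_4_9 : fixPtsF W_4 12500 112500 = true := by decide +kernel

set_option maxRecDepth 1000000 in
theorem relc_4_13 : fixPtsF W_4 12500 162500 = true := by decide +kernel

set_option maxRecDepth 1000000 in
theorem relc_4_17 : fixPtsF W_4 12500 212500 = true := by decide +kernel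

set_option maxRecDepth 1000000 in
theorem relc_3_1 : fixPtsF W_3 9523 9523 = true := by decide +kernel

set_option maxRecDepth 1000000 in
theorem relc_3_5 : fixPtsF W_3 9523 47615 = true := by decide +kernel

set_option maxRecDepth 1000000 in
theorem relc_3_9 : fixPtsF W_3 9523 85707 = true := by decide +kernel

set_option maxRecDepth 1000000 in
theorem relc_3_13 : fixPtsF W_3 9523 123799 = true := by decide +kernel

set_option maxRecDepth 1000000 in
theorem relc_3_17 : fixPtsF W_3 9523 161891 = true := by decide +kernel

set_option maxRecDepth 1000000 in
theorem relc_3_21 : fixPtsF W_3 9523 199983 = true := by decide +kernel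

set_option maxRecDepth 1000000 in
theorem relc_3_25 : fixPtsF W_3 9523 238075 = true := by decide +kernel

set_option maxRecDepth 1000000 in
theorem relc_5_4 : fixPtsF W_5 8333 33332 = true := by decide +kernel

set_option maxRecDepth 1000000 in
theorem relc_5_8 : fixPtsF W_5 8333 66664 = true := by decide +kernel

set_option maxRecDepth 1000000 in
theorem relc_5_12 : fixPtsF W_5 8333 99996 = true := by decide +kernel

set_option maxRecDepth 1000000 in
theorem relc_5_16 : fixPtsF W_5 8333 133328 = true := by decide +kernel

set_option maxRecDepth 1000000 in
theorem relc_5_20 : fixPtsF W_5 8333 166660 = true := by decide +kernel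

set_option maxRecDepth 1000000 in
theorem relc_5_24 : fixPtsF W_5 8333 199992 = true := by decide +kernel

set_option maxRecDepth 1000000 in
theorem relc_5_28 : fixPtsF W_5 8333 233324 = true := by decide +kernel

set_option maxRecDepth 1000000 in
theorem inv_0_0 : invRowFI ctF 252000 0 1 50000 0 = true := by decide +kernel

set_option maxRecDepth 1000000 in
theorem inv_0_1 : invRowFI ctF 252000 0 1 50000 50000 = true := by decide +kernel

set_option maxRecDepth 1000000 in
theorem inv_1_0 : invRowFI ctF 252000 1 0 50000 0 = true := by decide +kernel

set_option maxRecDepth 1000000 in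
theorem inv_1_4 : invRowFI ctF 252000 1 0 50000 200000 = true := by decide +kernel

set_option maxRecDepth 1000000 in
theorem inv_2_3 : invRowFI ctF 252000 2 3 50000 150000 = true := by decide +kernel

set_option maxRecDepth 1000000 in
theorem inv_3_2 : invRowFI ctF 252000 3 2 50000 100000 = true := by decide +kernel

set_option maxRecDepth 1000000 in
theorem conn_0 : connF ctF 4 50000 0 = true := by decide +kernel

set_option maxRecDepth 1000000 in
theorem conn_4 : connF ctF 4 50000 200000 = true := by decide +kernel

end

end Cfsg.Agent.Helper5.HNATC
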