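import Cfsg.Agent.Helper5.HNATCDatD
import Cfsg.Agent.Helper5.HNATCDatT
import Cfsg.Agent.Helper5.TCIB

/-! kernel checks of the coset table: HNATC -/

set_option autoImplicit false
set_option Elab.async false

namespace Cfsg.Agent.Helper5.HNATC
open Cfsg.Agent.Helper5.TC Cfsg.Agent.Helper5.TCI
noncomputable section

set_option maxRecDepth 1000000 in
theorem relc_6_1 : fixPtsF W_6 100000 100000 = true := by decide +kernel

set_option maxRecDepth 1000000 in
theorem relc_8_1 : fixPtsF W_8 100000 100000 = true := by decide +kernel

set_option maxRecDepth 1000000 in
theorem relc_0_1 : fixPtsF W_0 33333 33333 = true := by decide +kernel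

set_option maxRecDepth 1000000 in
theorem relc_0_5 : fixPtsF W_0 33333 166665 = true := by decide +kernel

set_option maxRecDepth 1000000 in
theorem relc_1_2 : fixPtsF W_1 33333 66666 = true := by decide +kernel

set_option maxRecDepth 1000000 in
theorem relc_1_6 : fixPtsF W_1 33333 199998 = true := by decide +kernel

set_option maxRecDepth 1000000 in
theorem relc_2_1 : fixPtsF W_2 16666 16666 = true := by decide +kernel

set_option maxRecDepth 1000000 in
theorem relc_2_5 : fixPtsF W_2 16666 83330 = true := by decide +kernel

set_option maxRecDepth 1000000 in
theorem relc_2_9 : fixPtsF W_2 16666 149994 = true := by decide +kernel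

set_option maxRecDepth 1000000 in
theorem relc_2_13 : fixPtsF W_2 16666 216658 = true := by decide +kernel

set_option maxRecDepth 1000000 in
theorem relc_4_2 : fixPtsF W_4 12500 25000 = true := by decide +kernel

set_option maxRecDepth 1000000 in
theorem relc_4_6 : fixPtsF W_4 12500 75000 = true := by decide +kernel

set_option maxRecDepth 1000000 in
theorem relc_4_10 : fixPtsF W_4 12500 125000 = true := by decide +kernel

set_option maxRecDepth 1000000 in
theorem relc_4_14 : fixPtsF W_4 12500 175000 = true := by decide +kernel

set_option maxRecDepth 1000000 in
theorem relc_4_18 : fixPtsF W_4 12500 225000 = true := by decide +kernel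

set_option maxRecDepth 1000000 in
theorem relc_3_2 : fixPtsF W_3 9523 19046 = true := by decide +kernel

set_option maxRecDepth 1000000 in
theorem relc_3_6 : fixPtsF W_3 9523 57138 = true := by decide +kernel

set_option maxRecDepth 1000000 in
theorem relc_3_10 : fixPtsF W_3 9523 95230 = true := by decide +kernel

set_option maxRecDepth 1000000 in
theorem relc_3_14 : fixPtsF W_3 9523 133322 = true := by decide +kernel

set_option maxRecDepth 1000000 in
theorem relc_3_18 : fixPtsF W_3 9523 171414 = true := by decide +kernel

set_option maxRecDepth 1000000 in
theorem relc_3_22 : fixPtsF W_3 9523 209506 = true := by decide +kernel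

set_option maxRecDepth 1000000 in
theorem relc_5_0 : fixPtsF W_5 8333 0 = true := by decide +kernel

set_option maxRecDepth 1000000 in
theorem relc_5_3 : fixPtsF W_5 8333 24999 = true := by decide +kernel

set_option maxRecDepth 1000000 in
theorem relc_5_7 : fixPtsF W_5 8333 58331 = true := by decide +kernel

set_option maxRecDepth 1000000 in
theorem relc_5_11 : fixPtsF W_5 8333 91663 = true := by decide +kernel

set_option maxRecDepth 1000000 in
theorem relc_5_15 : fixPtsF W_5 8333 124995 = true := by decide +kernel

set_option maxRecDepth 1000000 in
theorem relc_5_19 : fixPtsF W_5 8333 158327 = true := by decide +kernel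

set_option maxRecDepth 1000000 in
theorem relc_5_23 : fixPtsF W_5 8333 191659 = true := by decide +kernel

set_option maxRecDepth 1000000 in
theorem relc_5_27 : fixPtsF W_5 8333 224991 = true := by decide +kernel

set_option maxRecDepth 1000000 in
theorem relc_1_7 : fixPtsF W_1 18669 233331 = true := by decide +kernel

set_option maxRecDepth 1000000 in
theorem inv_0_3 : invRowFI ctF 252000 0 1 50000 150000 = true := by decide +kernel

set_option maxRecDepth 1000000 in
theorem inv_1_2 : invRowFI ctF 252000 1 0 50000 100000 = true := by decide +kernel

set_option maxRecDepth 1000000 in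
theorem inv_2_1 : invRowFI ctF 252000 2 3 50000 50000 = true := by decide +kernel

set_option maxRecDepth 1000000 in
theorem inv_3_0 : invRowFI ctF 252000 3 2 50000 0 = true := by decide +kernel

set_option maxRecDepth 1000000 in
theorem inv_3_4 : invRowFI ctF 252000 3 2 50000 200000 = true := by decide +kernel

set_option maxRecDepth 1000000 in
theorem conn_3 : connF ctF 4 50000 150000 = true := by decide +kernel

set_option maxRecDepth 1000000 in
theorem relc_2_15 : fixPtsF W_2 2010 249990 = true := by decide +kernel

set_option maxRecDepth 1000000 in
theorem inv_0_5 : invRowFI ctF 252000 0 1 2000 250000 = true := by decide +kernel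

set_option maxRecDepth 1000000 in
theorem inv_2_5 : invRowFI ctF 252000 2 3 2000 250000 = true := by decide +kernel

end

end Cfsg.Agent.Helper5.HNATC
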