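import Cfsg.Agent.Helper5.HNATCDatD
import Cfsg.Agent.Helper5.HNATCDatT
import Cfsg.Agent.Helper5.TCIB

/-! kernel checks of the coset table: HNATC -/

set_option autoImplicit false
set_option Elab.async false

namespace Cfsg.Agent.Helper5.HNATC
open Cfsg.Agent.Helper5.TC Cfsg.Agent.Helper5.TCI
noncomputable section

set_option maxRecDepth 1000000 in
theorem relc_7_0 : fixPtsF W_7 100000 0 = true := by decide +kernel

set_option maxRecDepth 1000000 in
theorem relc_9_0 : fixPtsF W_9 100000 0 = true := by decide +kernel

set_option maxRecDepth 1000000 in
theorem relc_0_2 : fixPtsF W_0 33333 66666 = true := by decide +kernel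

set_option maxRecDepth 1000000 in
theorem relc_0_6 : fixPtsF W_0 33333 199998 = true := by decide +kernel

set_option maxRecDepth 1000000 in
theorem relc_1_3 : fixPtsF W_1 33333 99999 = true := by decide +kernel

set_option maxRecDepth 1000000 in
theorem relc_6_2 : fixPtsF W_6 52000 200000 = true := by decide +kernel

set_option maxRecDepth 1000000 in
theorem relc_8_2 : fixPtsF W_8 52000 200000 = true := by decide +kernel

set_option maxRecDepth 1000000 in
theorem relc_2_2 : fixPtsF W_2 16666 33332 = true := by decide +kernel

set_option maxRecDepth 1000000 in
theorem relc_2_6 : fixPtsF W_2 16666 99996 = true := by decide +kernel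

set_option maxRecDepth 1000000 in
theorem relc_2_10 : fixPtsF W_2 16666 166660 = true := by decide +kernel

set_option maxRecDepth 1000000 in
theorem relc_2_14 : fixPtsF W_2 16666 233324 = true := by decide +kernel

set_option maxRecDepth 1000000 in
theorem relc_4_4 : fixPtsF W_4 12500 50000 = true := by decide +kernel

set_option maxRecDepth 1000000 in
theorem relc_4_8 : fixPtsF W_4 12500 100000 = true := by decide +kernel

set_option maxRecDepth 1000000 in
theorem relc_4_12 : fixPtsF W_4 12500 150000 = true := by decide +kernel

set_option maxRecDepth 1000000 in
theorem relc_4_16 : fixPtsF W_4 12500 200000 = true := by decide +kernel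

set_option maxRecDepth 1000000 in
theorem relc_3_0 : fixPtsF W_3 9523 0 = true := by decide +kernel

set_option maxRecDepth 1000000 in
theorem relc_3_4 : fixPtsF W_3 9523 38092 = true := by decide +kernel

set_option maxRecDepth 1000000 in
theorem relc_3_8 : fixPtsF W_3 9523 76184 = true := by decide +kernel

set_option maxRecDepth 1000000 in
theorem relc_3_12 : fixPtsF W_3 9523 114276 = true := by decide +kernel

set_option maxRecDepth 1000000 in
theorem relc_3_16 : fixPtsF W_3 9523 152368 = true := by decide +kernel

set_option maxRecDepth 1000000 in
theorem relc_3_20 : fixPtsF W_3 9523 190460 = true := by decide +kernel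

set_option maxRecDepth 1000000 in
theorem relc_3_24 : fixPtsF W_3 9523 228552 = true := by decide +kernel

set_option maxRecDepth 1000000 in
theorem relc_5_2 : fixPtsF W_5 8333 16666 = true := by decide +kernel

set_option maxRecDepth 1000000 in
theorem relc_5_6 : fixPtsF W_5 8333 49998 = true := by decide +kernel

set_option maxRecDepth 1000000 in
theorem relc_5_10 : fixPtsF W_5 8333 83330 = true := by decide +kernel

set_option maxRecDepth 1000000 in
theorem relc_5_14 : fixPtsF W_5 8333 116662 = true := by decide +kernel

set_option maxRecDepth 1000000 in
theorem relc_5_18 : fixPtsF W_5 8333 149994 = true := by decide +kernel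

set_option maxRecDepth 1000000 in
theorem relc_5_22 : fixPtsF W_5 8333 183326 = true := by decide +kernel

set_option maxRecDepth 1000000 in
theorem relc_5_26 : fixPtsF W_5 8333 216658 = true := by decide +kernel

set_option maxRecDepth 1000000 in
theorem relc_0_7 : fixPtsF W_0 18669 233331 = true := by decide +kernel

set_option maxRecDepth 1000000 in
theorem inv_0_2 : invRowFI ctF 252000 0 1 50000 100000 = true := by decide +kernel

set_option maxRecDepth 1000000 in
theorem inv_1_1 : invRowFI ctF 252000 1 0 50000 50000 = true := by decide +kernel

set_option maxRecDepth 1000000 in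
theorem inv_2_0 : invRowFI ctF 252000 2 3 50000 0 = true := by decide +kernel

set_option maxRecDepth 1000000 in
theorem inv_2_4 : invRowFI ctF 252000 2 3 50000 200000 = true := by decide +kernel

set_option maxRecDepth 1000000 in
theorem inv_3_3 : invRowFI ctF 252000 3 2 50000 150000 = true := by decide +kernel

set_option maxRecDepth 1000000 in
theorem conn_1 : connF ctF 4 50000 50000 = true := by decide +kernel

set_option maxRecDepth 1000000 in
theorem relc_5_30 : fixPtsF W_5 2010 249990 = true := by decide +kernel

set_option maxRecDepth 1000000 in
theorem conn_5 : connF ctF 4 2000 250000 = true := by decide +kernel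

end

end Cfsg.Agent.Helper5.HNATC
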