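import Cfsg.Agent.Helper5.HNATCDatD
import Cfsg.Agent.Helper5.HNATCDatT
import Cfsg.Agent.Helper5.TCIB

/-! kernel checks of the coset table: HNATC -/

set_option autoImplicit false
set_option Elab.async false

namespace Cfsg.Agent.Helper5.HNATC
open Cfsg.Agent.Helper5.TC Cfsg.Agent.Helper5.TCI
noncomputable section

set_option maxRecDepth 1000000 in
theorem relc_7_1 : fixPtsF W_7 100000 100000 = true := by decide +kernel

set_option maxRecDepth 1000000 in
theorem relc_9_1 : fixPtsF W_9 100000 100000 = true := by decide +kernel

set_option maxRecDepth 1000000 in
theorem relc_0_3 : fixPtsF W_0 33333 99999 = true := by decide +kernel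

set_option maxRecDepth 1000000 in
theorem relc_1_0 : fixPtsF W_1 33333 0 = true := by decide +kernel

set_option maxRecDepth 1000000 in
theorem relc_1_4 : fixPtsF W_1 33333 133332 = true := by decide +kernel

set_option maxRecDepth 1000000 in
theorem relc_7_2 : fixPtsF W_7 52000 200000 = true := by decide +kernel

set_option maxRecDepth 1000000 in
theorem relc_9_2 : fixPtsF W_9 52000 200000 = true := by decide +kernel

set_option maxRecDepth 1000000 in
theorem relc_2_3 : fixPtsF W_2 16666 49998 = true := by decide +kernel

set_option maxRecDepth 1000000 in
theorem relc_2_7 : fixPtsF W_2 16666 116662 = true := by decide +kernel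

set_option maxRecDepth 1000000 in
theorem relc_2_11 : fixPtsF W_2 16666 183326 = true := by decide +kernel

set_option maxRecDepth 1000000 in
theorem relc_4_0 : fixPtsF W_4 12500 0 = true := by decide +kernel

set_option maxRecDepth 1000000 in
theorem relc_4_3 : fixPtsF W_4 12500 37500 = true := by decide +kernel

set_option maxRecDepth 1000000 in
theorem relc_4_7 : fixPtsF W_4 12500 87500 = true := by decide +kernel

set_option maxRecDepth 1000000 in
theorem relc_4_11 : fixPtsF W_4 12500 137500 = true := by decide +kernel

set_option maxRecDepth 1000000 in
theorem relc_4_15 : fixPtsF W_4 12500 187500 = true := by decide +kernel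

set_option maxRecDepth 1000000 in
theorem relc_4_19 : fixPtsF W_4 12500 237500 = true := by decide +kernel

set_option maxRecDepth 1000000 in
theorem relc_3_3 : fixPtsF W_3 9523 28569 = true := by decide +kernel

set_option maxRecDepth 1000000 in
theorem relc_3_7 : fixPtsF W_3 9523 66661 = true := by decide +kernel

set_option maxRecDepth 1000000 in
theorem relc_3_11 : fixPtsF W_3 9523 104753 = true := by decide +kernel

set_option maxRecDepth 1000000 in
theorem relc_3_15 : fixPtsF W_3 9523 142845 = true := by decide +kernel

set_option maxRecDepth 1000000 in
theorem relc_3_19 : fixPtsF W_3 9523 180937 = true := by decide +kernel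

set_option maxRecDepth 1000000 in
theorem relc_3_23 : fixPtsF W_3 9523 219029 = true := by decide +kernel

set_option maxRecDepth 1000000 in
theorem relc_5_1 : fixPtsF W_5 8333 8333 = true := by decide +kernel

set_option maxRecDepth 1000000 in
theorem relc_5_5 : fixPtsF W_5 8333 41665 = true := by decide +kernel

set_option maxRecDepth 1000000 in
theorem relc_5_9 : fixPtsF W_5 8333 74997 = true := by decide +kernel

set_option maxRecDepth 1000000 in
theorem relc_5_13 : fixPtsF W_5 8333 108329 = true := by decide +kernel

set_option maxRecDepth 1000000 in
theorem relc_5_17 : fixPtsF W_5 8333 141661 = true := by decide +kernel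

set_option maxRecDepth 1000000 in
theorem relc_5_21 : fixPtsF W_5 8333 174993 = true := by decide +kernel

set_option maxRecDepth 1000000 in
theorem relc_5_25 : fixPtsF W_5 8333 208325 = true := by decide +kernel

set_option maxRecDepth 1000000 in
theorem relc_5_29 : fixPtsF W_5 8333 241657 = true := by decide +kernel

set_option maxRecDepth 1000000 in
theorem inv_0_4 : invRowFI ctF 252000 0 1 50000 200000 = true := by decide +kernel

set_option maxRecDepth 1000000 in
theorem inv_1_3 : invRowFI ctF 252000 1 0 50000 150000 = true := by decide +kernel

set_option maxRecDepth 1000000 in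
theorem inv_2_2 : invRowFI ctF 252000 2 3 50000 100000 = true := by decide +kernel

set_option maxRecDepth 1000000 in
theorem inv_3_1 : invRowFI ctF 252000 3 2 50000 50000 = true := by decide +kernel

set_option maxRecDepth 1000000 in
theorem relc_3_26 : fixPtsF W_3 4402 247598 = true := by decide +kernel

set_option maxRecDepth 1000000 in
theorem conn_2 : connF ctF 4 50000 100000 = true := by decide +kernel

set_option maxRecDepth 1000000 in
theorem relc_4_20 : fixPtsF W_4 2000 250000 = true := by decide +kernel

set_option maxRecDepth 1000000 in
theorem inv_1_5 : invRowFI ctF 252000 1 0 2000 250000 = true := by decide +kernel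

set_option maxRecDepth 1000000 in
theorem inv_3_5 : invRowFI ctF 252000 3 2 2000 250000 = true := by decide +kernel

end

end Cfsg.Agent.Helper5.HNATC
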