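import Cfsg.Agent.Helper5.HNATCChkE0
import Cfsg.Agent.Helper5.HNATCChkE1
import Cfsg.Agent.Helper5.HNATCChkE2
import Cfsg.Agent.Helper5.HNATCChkE3
import Cfsg.Agent.Helper5.HNATCChkE4
import Cfsg.Agent.Helper5.HNATCChkE5
import Cfsg.Agent.Helper5.HNATCChkE6
import Cfsg.Agent.Helper5.HNATCChkE7
import Cfsg.Agent.Helper5.HNATCChkE8
import Cfsg.Agent.Helper5.HNATCChkE9
import Cfsg.Agent.Helper5.HNATCChkE10
import Cfsg.Agent.Helper5.HNATCChkE11
import Cfsg.Agent.Helper5.HNATCChkE12
import Cfsg.Agent.Helper5.HNATCChkE13
import Cfsg.Agent.Helper5.HNATCChkE14
import Cfsg.Agent.Helper5.HNATCChkE15
import Cfsg.Agent.Helper5.HNATCChkR0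
import Cfsg.Agent.Helper5.HNATCChkR1
import Cfsg.Agent.Helper5.HNATCChkR2
import Cfsg.Agent.Helper5.HNATCChkR3
import Cfsg.Agent.Helper5.HNATCChkA
import Cfsg.Agent.Helper5.TCIB

/-! summary of the kernel checks: HNATC -/

set_option autoImplicit false
set_option Elab.async false

namespace Cfsg.Agent.Helper5.HNATC
open Cfsg.Agent.Helper5.TC Cfsg.Agent.Helper5.TCI
noncomputable section

theorem edgesx_0 : ∀ v, v < 588491 → edgeOKI iota E 0 v = true := by
  intro v hv
  rcases Nat.lt_or_ge v 292409 with h | h
  · rcases Nat.lt_or_ge v 133323 with h | h
    · rcases Nat.lt_or_ge v 63144 with h | h
      · rcases Nat.lt_or_ge v 31468 with h | h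
        · rcases Nat.lt_or_ge v 15068 with h | h
          · rcases Nat.lt_or_ge v 6763 with h | h
            · rcases Nat.lt_or_ge v 3366 with h | h
              · rcases Nat.lt_or_ge v 1742 with h | h
                · exact edgesRangeI_spec iota E 0 1742 0 edges_0_0 v (by omega) (by omega)
                · exact edgesRangeI_spec iota E 0 1624 1742 edges_0_1 v (by omega) (by omega)
              · rcases Nat.lt_or_ge v 5090 with h | h
                · exact edgesRangeI_spec iota E 0 1724 3366 edges_0_2 v (by omega) (by omega)
                · exact edgesRangeI_spec iota E 0 1673 5090 edges_0_3 v (by omega) (by omega)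
            · rcases Nat.lt_or_ge v 10098 with h | h
              · rcases Nat.lt_or_ge v 8437 with h | h
                · exact edgesRangeI_spec iota E 0 1674 6763 edges_0_4 v (by omega) (by omega)
                · exact edgesRangeI_spec iota E 0 1661 8437 edges_0_5 v (by omega) (by omega)
              · rcases Nat.lt_or_ge v 11771 with h | h
                · exact edgesRangeI_spec iota E 0 1673 10098 edges_0_6 v (by omega) (by omega)
                · rcases Nat.lt_or_ge v 13423 with h | h
                  · exact edgesRangeI_spec iota E 0 1652 11771 edges_0_7 v (by omega) (by omega)
                  · exact edgesRangeI_spec iota E 0 1645 13423 edges_0_8 v (by omega) (by omega)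
          · rcases Nat.lt_or_ge v 23261 with h | h
            · rcases Nat.lt_or_ge v 18334 with h | h
              · rcases Nat.lt_or_ge v 16706 with h | h
                · exact edgesRangeI_spec iota E 0 1638 15068 edges_0_9 v (by omega) (by omega)
                · exact edgesRangeI_spec iota E 0 1628 16706 edges_0_10 v (by omega) (by omega)
              · rcases Nat.lt_or_ge v 19929 with h | h
                · exact edgesRangeI_spec iota E 0 1595 18334 edges_0_11 v (by omega) (by omega)
                · rcases Nat.lt_or_ge v 21600 with h | h
                  · exact edgesRangeI_spec iota E 0 1671 19929 edges_0_12 v (by omega) (by omega)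
                  · exact edgesRangeI_spec iota E 0 1661 21600 edges_0_13 v (by omega) (by omega)
            · rcases Nat.lt_or_ge v 26535 with h | h
              · rcases Nat.lt_or_ge v 24870 with h | h
                · exact edgesRangeI_spec iota E 0 1609 23261 edges_0_14 v (by omega) (by omega)
                · exact edgesRangeI_spec iota E 0 1665 24870 edges_0_15 v (by omega) (by omega)
              · rcases Nat.lt_or_ge v 28204 with h | h
                · exact edgesRangeI_spec iota E 0 1669 26535 edges_0_16 v (by omega) (by omega)
                · rcases Nat.lt_or_ge v 29849 with h | h
                  · exact edgesRangeI_spec iota E 0 1645 28204 edges_0_17 v (by omega) (by omega)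
                  · exact edgesRangeI_spec iota E 0 1619 29849 edges_0_18 v (by omega) (by omega)
        · rcases Nat.lt_or_ge v 46483 with h | h
          · rcases Nat.lt_or_ge v 38155 with h | h
            · rcases Nat.lt_or_ge v 34800 with h | h
              · rcases Nat.lt_or_ge v 33111 with h | h
                · exact edgesRangeI_spec iota E 0 1643 31468 edges_0_19 v (by omega) (by omega)
                · exact edgesRangeI_spec iota E 0 1689 33111 edges_0_20 v (by omega) (by omega)
              · rcases Nat.lt_or_ge v 36470 with h | h
                · exact edgesRangeI_spec iota E 0 1670 34800 edges_0_21 v (by omega) (by omega)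
                · exact edgesRangeI_spec iota E 0 1685 36470 edges_0_22 v (by omega) (by omega)
            · rcases Nat.lt_or_ge v 41664 with h | h
              · rcases Nat.lt_or_ge v 39918 with h | h
                · exact edgesRangeI_spec iota E 0 1763 38155 edges_0_23 v (by omega) (by omega)
                · exact edgesRangeI_spec iota E 0 1746 39918 edges_0_24 v (by omega) (by omega)
              · rcases Nat.lt_or_ge v 43293 with h | h
                · exact edgesRangeI_spec iota E 0 1629 41664 edges_0_25 v (by omega) (by omega)
                · rcases Nat.lt_or_ge v 44892 with h | h
                  · exact edgesRangeI_spec iota E 0 1599 43293 edges_0_26 v (by omega) (by omega)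
                  · exact edgesRangeI_spec iota E 0 1591 44892 edges_0_27 v (by omega) (by omega)
          · rcases Nat.lt_or_ge v 54468 with h | h
            · rcases Nat.lt_or_ge v 49662 with h | h
              · rcases Nat.lt_or_ge v 48067 with h | h
                · exact edgesRangeI_spec iota E 0 1584 46483 edges_0_28 v (by omega) (by omega)
                · exact edgesRangeI_spec iota E 0 1595 48067 edges_0_29 v (by omega) (by omega)
              · rcases Nat.lt_or_ge v 51243 with h | h
                · exact edgesRangeI_spec iota E 0 1581 49662 edges_0_30 v (by omega) (by omega)
                · rcases Nat.lt_or_ge v 52865 with h | h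
                  · exact edgesRangeI_spec iota E 0 1622 51243 edges_0_31 v (by omega) (by omega)
                  · exact edgesRangeI_spec iota E 0 1603 52865 edges_0_32 v (by omega) (by omega)
            · rcases Nat.lt_or_ge v 57877 with h | h
              · rcases Nat.lt_or_ge v 56158 with h | h
                · exact edgesRangeI_spec iota E 0 1690 54468 edges_0_33 v (by omega) (by omega)
                · exact edgesRangeI_spec iota E 0 1719 56158 edges_0_34 v (by omega) (by omega)
              · rcases Nat.lt_or_ge v 59646 with h | h
                · exact edgesRangeI_spec iota E 0 1769 57877 edges_0_35 v (by omega) (by omega)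
                · rcases Nat.lt_or_ge v 61397 with h | h
                  · exact edgesRangeI_spec iota E 0 1751 59646 edges_0_36 v (by omega) (by omega)
                  · exact edgesRangeI_spec iota E 0 1747 61397 edges_0_37 v (by omega) (by omega)
      · rcases Nat.lt_or_ge v 97065 with h | h
        · rcases Nat.lt_or_ge v 79270 with h | h
          · rcases Nat.lt_or_ge v 70127 with h | h
            · rcases Nat.lt_or_ge v 66720 with h | h
              · rcases Nat.lt_or_ge v 64909 with h | h
                · exact edgesRangeI_spec iota E 0 1765 63144 edges_0_38 v (by omega) (by omega)
                · exact edgesRangeI_spec iota E 0 1811 64909 edges_0_39 v (by omega) (by omega)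
              · rcases Nat.lt_or_ge v 68394 with h | h
                · exact edgesRangeI_spec iota E 0 1674 66720 edges_0_40 v (by omega) (by omega)
                · exact edgesRangeI_spec iota E 0 1733 68394 edges_0_41 v (by omega) (by omega)
            · rcases Nat.lt_or_ge v 73679 with h | h
              · rcases Nat.lt_or_ge v 71934 with h | h
                · exact edgesRangeI_spec iota E 0 1807 70127 edges_0_42 v (by omega) (by omega)
                · exact edgesRangeI_spec iota E 0 1745 71934 edges_0_43 v (by omega) (by omega)
              · rcases Nat.lt_or_ge v 75530 with h | h
                · exact edgesRangeI_spec iota E 0 1851 73679 edges_0_44 v (by omega) (by omega)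
                · rcases Nat.lt_or_ge v 77354 with h | h
                  · exact edgesRangeI_spec iota E 0 1824 75530 edges_0_45 v (by omega) (by omega)
                  · exact edgesRangeI_spec iota E 0 1916 77354 edges_0_46 v (by omega) (by omega)
          · rcases Nat.lt_or_ge v 88264 with h | h
            · rcases Nat.lt_or_ge v 82769 with h | h
              · rcases Nat.lt_or_ge v 80993 with h | h
                · exact edgesRangeI_spec iota E 0 1723 79270 edges_0_47 v (by omega) (by omega)
                · exact edgesRangeI_spec iota E 0 1776 80993 edges_0_48 v (by omega) (by omega)
              · rcases Nat.lt_or_ge v 84636 with h | h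
                · exact edgesRangeI_spec iota E 0 1867 82769 edges_0_49 v (by omega) (by omega)
                · rcases Nat.lt_or_ge v 86409 with h | h
                  · exact edgesRangeI_spec iota E 0 1773 84636 edges_0_50 v (by omega) (by omega)
                  · exact edgesRangeI_spec iota E 0 1855 86409 edges_0_51 v (by omega) (by omega)
            · rcases Nat.lt_or_ge v 91796 with h | h
              · rcases Nat.lt_or_ge v 90008 with h | h
                · exact edgesRangeI_spec iota E 0 1744 88264 edges_0_52 v (by omega) (by omega)
                · exact edgesRangeI_spec iota E 0 1788 90008 edges_0_53 v (by omega) (by omega)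
              · rcases Nat.lt_or_ge v 93587 with h | h
                · exact edgesRangeI_spec iota E 0 1791 91796 edges_0_54 v (by omega) (by omega)
                · rcases Nat.lt_or_ge v 95321 with h | h
                  · exact edgesRangeI_spec iota E 0 1734 93587 edges_0_55 v (by omega) (by omega)
                  · exact edgesRangeI_spec iota E 0 1744 95321 edges_0_56 v (by omega) (by omega)
        · rcases Nat.lt_or_ge v 115161 with h | h
          · rcases Nat.lt_or_ge v 106028 with h | h
            · rcases Nat.lt_or_ge v 100742 with h | h
              · rcases Nat.lt_or_ge v 98833 with h | h
                · exact edgesRangeI_spec iota E 0 1768 97065 edges_0_57 v (by omega) (by omega)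
                · exact edgesRangeI_spec iota E 0 1909 98833 edges_0_58 v (by omega) (by omega)
              · rcases Nat.lt_or_ge v 102602 with h | h
                · exact edgesRangeI_spec iota E 0 1860 100742 edges_0_59 v (by omega) (by omega)
                · rcases Nat.lt_or_ge v 104404 with h | h
                  · exact edgesRangeI_spec iota E 0 1802 102602 edges_0_60 v (by omega) (by omega)
                  · exact edgesRangeI_spec iota E 0 1624 104404 edges_0_61 v (by omega) (by omega)
            · rcases Nat.lt_or_ge v 109549 with h | h
              · rcases Nat.lt_or_ge v 107791 with h | h
                · exact edgesRangeI_spec iota E 0 1763 106028 edges_0_62 v (by omega) (by omega)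
                · exact edgesRangeI_spec iota E 0 1758 107791 edges_0_63 v (by omega) (by omega)
              · rcases Nat.lt_or_ge v 111314 with h | h
                · exact edgesRangeI_spec iota E 0 1765 109549 edges_0_64 v (by omega) (by omega)
                · rcases Nat.lt_or_ge v 113201 with h | h
                  · exact edgesRangeI_spec iota E 0 1887 111314 edges_0_65 v (by omega) (by omega)
                  · exact edgesRangeI_spec iota E 0 1960 113201 edges_0_66 v (by omega) (by omega)
          · rcases Nat.lt_or_ge v 124237 with h | h
            · rcases Nat.lt_or_ge v 118724 with h | h
              · rcases Nat.lt_or_ge v 117027 with h | h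
                · exact edgesRangeI_spec iota E 0 1866 115161 edges_0_67 v (by omega) (by omega)
                · exact edgesRangeI_spec iota E 0 1697 117027 edges_0_68 v (by omega) (by omega)
              · rcases Nat.lt_or_ge v 120471 with h | h
                · exact edgesRangeI_spec iota E 0 1747 118724 edges_0_69 v (by omega) (by omega)
                · rcases Nat.lt_or_ge v 122263 with h | h
                  · exact edgesRangeI_spec iota E 0 1792 120471 edges_0_70 v (by omega) (by omega)
                  · exact edgesRangeI_spec iota E 0 1974 122263 edges_0_71 v (by omega) (by omega)
            · rcases Nat.lt_or_ge v 127868 with h | h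
              · rcases Nat.lt_or_ge v 126067 with h | h
                · exact edgesRangeI_spec iota E 0 1830 124237 edges_0_72 v (by omega) (by omega)
                · exact edgesRangeI_spec iota E 0 1801 126067 edges_0_73 v (by omega) (by omega)
              · rcases Nat.lt_or_ge v 129648 with h | h
                · exact edgesRangeI_spec iota E 0 1780 127868 edges_0_74 v (by omega) (by omega)
                · rcases Nat.lt_or_ge v 131333 with h | h
                  · exact edgesRangeI_spec iota E 0 1685 129648 edges_0_75 v (by omega) (by omega)
                  · exact edgesRangeI_spec iota E 0 1990 131333 edges_0_76 v (by omega) (by omega)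
    · rcases Nat.lt_or_ge v 207536 with h | h
      · rcases Nat.lt_or_ge v 169960 with h | h
        · rcases Nat.lt_or_ge v 150678 with h | h
          · rcases Nat.lt_or_ge v 141006 with h | h
            · rcases Nat.lt_or_ge v 137450 with h | h
              · rcases Nat.lt_or_ge v 135445 with h | h
                · exact edgesRangeI_spec iota E 0 2122 133323 edges_0_77 v (by omega) (by omega)
                · exact edgesRangeI_spec iota E 0 2005 135445 edges_0_78 v (by omega) (by omega)
              · rcases Nat.lt_or_ge v 139205 with h | h
                · exact edgesRangeI_spec iota E 0 1755 137450 edges_0_79 v (by omega) (by omega)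
                · exact edgesRangeI_spec iota E 0 1801 139205 edges_0_80 v (by omega) (by omega)
            · rcases Nat.lt_or_ge v 144939 with h | h
              · rcases Nat.lt_or_ge v 142959 with h | h
                · exact edgesRangeI_spec iota E 0 1953 141006 edges_0_81 v (by omega) (by omega)
                · exact edgesRangeI_spec iota E 0 1980 142959 edges_0_82 v (by omega) (by omega)
              · rcases Nat.lt_or_ge v 146794 with h | h
                · exact edgesRangeI_spec iota E 0 1855 144939 edges_0_83 v (by omega) (by omega)
                · rcases Nat.lt_or_ge v 148775 with h | h
                  · exact edgesRangeI_spec iota E 0 1981 146794 edges_0_84 v (by omega) (by omega)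
                  · exact edgesRangeI_spec iota E 0 1903 148775 edges_0_85 v (by omega) (by omega)
          · rcases Nat.lt_or_ge v 160590 with h | h
            · rcases Nat.lt_or_ge v 154757 with h | h
              · rcases Nat.lt_or_ge v 152620 with h | h
                · exact edgesRangeI_spec iota E 0 1942 150678 edges_0_86 v (by omega) (by omega)
                · exact edgesRangeI_spec iota E 0 2137 152620 edges_0_87 v (by omega) (by omega)
              · rcases Nat.lt_or_ge v 156818 with h | h
                · exact edgesRangeI_spec iota E 0 2061 154757 edges_0_88 v (by omega) (by omega)
                · rcases Nat.lt_or_ge v 158711 with h | h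
                  · exact edgesRangeI_spec iota E 0 1893 156818 edges_0_89 v (by omega) (by omega)
                  · exact edgesRangeI_spec iota E 0 1879 158711 edges_0_90 v (by omega) (by omega)
            · rcases Nat.lt_or_ge v 164537 with h | h
              · rcases Nat.lt_or_ge v 162642 with h | h
                · exact edgesRangeI_spec iota E 0 2052 160590 edges_0_91 v (by omega) (by omega)
                · exact edgesRangeI_spec iota E 0 1895 162642 edges_0_92 v (by omega) (by omega)
              · rcases Nat.lt_or_ge v 166416 with h | h
                · exact edgesRangeI_spec iota E 0 1879 164537 edges_0_93 v (by omega) (by omega)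
                · rcases Nat.lt_or_ge v 168106 with h | h
                  · exact edgesRangeI_spec iota E 0 1690 166416 edges_0_94 v (by omega) (by omega)
                  · exact edgesRangeI_spec iota E 0 1854 168106 edges_0_95 v (by omega) (by omega)
        · rcases Nat.lt_or_ge v 188075 with h | h
          · rcases Nat.lt_or_ge v 177703 with h | h
            · rcases Nat.lt_or_ge v 173841 with h | h
              · rcases Nat.lt_or_ge v 171793 with h | h
                · exact edgesRangeI_spec iota E 0 1833 169960 edges_0_96 v (by omega) (by omega)
                · exact edgesRangeI_spec iota E 0 2048 171793 edges_0_97 v (by omega) (by omega)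
              · rcases Nat.lt_or_ge v 175767 with h | h
                · exact edgesRangeI_spec iota E 0 1926 173841 edges_0_98 v (by omega) (by omega)
                · exact edgesRangeI_spec iota E 0 1936 175767 edges_0_99 v (by omega) (by omega)
            · rcases Nat.lt_or_ge v 181646 with h | h
              · rcases Nat.lt_or_ge v 179671 with h | h
                · exact edgesRangeI_spec iota E 0 1968 177703 edges_0_100 v (by omega) (by omega)
                · exact edgesRangeI_spec iota E 0 1975 179671 edges_0_101 v (by omega) (by omega)
              · rcases Nat.lt_or_ge v 183671 with h | h
                · exact edgesRangeI_spec iota E 0 2025 181646 edges_0_102 v (by omega) (by omega)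
                · rcases Nat.lt_or_ge v 185710 with h | h
                  · exact edgesRangeI_spec iota E 0 2039 183671 edges_0_103 v (by omega) (by omega)
                  · exact edgesRangeI_spec iota E 0 2365 185710 edges_0_104 v (by omega) (by omega)
          · rcases Nat.lt_or_ge v 197538 with h | h
            · rcases Nat.lt_or_ge v 191703 with h | h
              · rcases Nat.lt_or_ge v 189873 with h | h
                · exact edgesRangeI_spec iota E 0 1798 188075 edges_0_105 v (by omega) (by omega)
                · exact edgesRangeI_spec iota E 0 1830 189873 edges_0_106 v (by omega) (by omega)
              · rcases Nat.lt_or_ge v 193541 with h | h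
                · exact edgesRangeI_spec iota E 0 1838 191703 edges_0_107 v (by omega) (by omega)
                · rcases Nat.lt_or_ge v 195586 with h | h
                  · exact edgesRangeI_spec iota E 0 2045 193541 edges_0_108 v (by omega) (by omega)
                  · exact edgesRangeI_spec iota E 0 1952 195586 edges_0_109 v (by omega) (by omega)
            · rcases Nat.lt_or_ge v 201323 with h | h
              · rcases Nat.lt_or_ge v 199435 with h | h
                · exact edgesRangeI_spec iota E 0 1897 197538 edges_0_110 v (by omega) (by omega)
                · exact edgesRangeI_spec iota E 0 1888 199435 edges_0_111 v (by omega) (by omega)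
              · rcases Nat.lt_or_ge v 203488 with h | h
                · exact edgesRangeI_spec iota E 0 2165 201323 edges_0_112 v (by omega) (by omega)
                · rcases Nat.lt_or_ge v 205550 with h | h
                  · exact edgesRangeI_spec iota E 0 2062 203488 edges_0_113 v (by omega) (by omega)
                  · exact edgesRangeI_spec iota E 0 1986 205550 edges_0_114 v (by omega) (by omega)
      · rcases Nat.lt_or_ge v 248374 with h | h
        · rcases Nat.lt_or_ge v 227258 with h | h
          · rcases Nat.lt_or_ge v 216089 with h | h
            · rcases Nat.lt_or_ge v 211864 with h | h
              · rcases Nat.lt_or_ge v 209656 with h | h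
                · exact edgesRangeI_spec iota E 0 2120 207536 edges_0_115 v (by omega) (by omega)
                · exact edgesRangeI_spec iota E 0 2208 209656 edges_0_116 v (by omega) (by omega)
              · rcases Nat.lt_or_ge v 213957 with h | h
                · exact edgesRangeI_spec iota E 0 2093 211864 edges_0_117 v (by omega) (by omega)
                · exact edgesRangeI_spec iota E 0 2132 213957 edges_0_118 v (by omega) (by omega)
            · rcases Nat.lt_or_ge v 220460 with h | h
              · rcases Nat.lt_or_ge v 218164 with h | h
                · exact edgesRangeI_spec iota E 0 2075 216089 edges_0_119 v (by omega) (by omega)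
                · exact edgesRangeI_spec iota E 0 2296 218164 edges_0_120 v (by omega) (by omega)
              · rcases Nat.lt_or_ge v 222747 with h | h
                · exact edgesRangeI_spec iota E 0 2287 220460 edges_0_121 v (by omega) (by omega)
                · rcases Nat.lt_or_ge v 224987 with h | h
                  · exact edgesRangeI_spec iota E 0 2240 222747 edges_0_122 v (by omega) (by omega)
                  · exact edgesRangeI_spec iota E 0 2271 224987 edges_0_123 v (by omega) (by omega)
          · rcases Nat.lt_or_ge v 238142 with h | h
            · rcases Nat.lt_or_ge v 231872 with h | h
              · rcases Nat.lt_or_ge v 229618 with h | h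
                · exact edgesRangeI_spec iota E 0 2360 227258 edges_0_124 v (by omega) (by omega)
                · exact edgesRangeI_spec iota E 0 2254 229618 edges_0_125 v (by omega) (by omega)
              · rcases Nat.lt_or_ge v 233829 with h | h
                · exact edgesRangeI_spec iota E 0 1957 231872 edges_0_126 v (by omega) (by omega)
                · rcases Nat.lt_or_ge v 236101 with h | h
                  · exact edgesRangeI_spec iota E 0 2272 233829 edges_0_127 v (by omega) (by omega)
                  · exact edgesRangeI_spec iota E 0 2041 236101 edges_0_128 v (by omega) (by omega)
            · rcases Nat.lt_or_ge v 242331 with h | h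
              · rcases Nat.lt_or_ge v 240199 with h | h
                · exact edgesRangeI_spec iota E 0 2057 238142 edges_0_129 v (by omega) (by omega)
                · exact edgesRangeI_spec iota E 0 2132 240199 edges_0_130 v (by omega) (by omega)
              · rcases Nat.lt_or_ge v 244515 with h | h
                · exact edgesRangeI_spec iota E 0 2184 242331 edges_0_131 v (by omega) (by omega)
                · rcases Nat.lt_or_ge v 246332 with h | h
                  · exact edgesRangeI_spec iota E 0 1817 244515 edges_0_132 v (by omega) (by omega)
                  · exact edgesRangeI_spec iota E 0 2042 246332 edges_0_133 v (by omega) (by omega)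
        · rcases Nat.lt_or_ge v 270738 with h | h
          · rcases Nat.lt_or_ge v 259490 with h | h
            · rcases Nat.lt_or_ge v 253005 with h | h
              · rcases Nat.lt_or_ge v 250875 with h | h
                · exact edgesRangeI_spec iota E 0 2501 248374 edges_0_134 v (by omega) (by omega)
                · exact edgesRangeI_spec iota E 0 2130 250875 edges_0_135 v (by omega) (by omega)
              · rcases Nat.lt_or_ge v 255171 with h | h
                · exact edgesRangeI_spec iota E 0 2166 253005 edges_0_136 v (by omega) (by omega)
                · rcases Nat.lt_or_ge v 257231 with h | h
                  · exact edgesRangeI_spec iota E 0 2060 255171 edges_0_137 v (by omega) (by omega)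
                  · exact edgesRangeI_spec iota E 0 2259 257231 edges_0_138 v (by omega) (by omega)
            · rcases Nat.lt_or_ge v 264117 with h | h
              · rcases Nat.lt_or_ge v 261734 with h | h
                · exact edgesRangeI_spec iota E 0 2244 259490 edges_0_139 v (by omega) (by omega)
                · exact edgesRangeI_spec iota E 0 2383 261734 edges_0_140 v (by omega) (by omega)
              · rcases Nat.lt_or_ge v 266343 with h | h
                · exact edgesRangeI_spec iota E 0 2226 264117 edges_0_141 v (by omega) (by omega)
                · rcases Nat.lt_or_ge v 268421 with h | h
                  · exact edgesRangeI_spec iota E 0 2078 266343 edges_0_142 v (by omega) (by omega)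
                  · exact edgesRangeI_spec iota E 0 2317 268421 edges_0_143 v (by omega) (by omega)
          · rcases Nat.lt_or_ge v 281256 with h | h
            · rcases Nat.lt_or_ge v 275003 with h | h
              · rcases Nat.lt_or_ge v 272871 with h | h
                · exact edgesRangeI_spec iota E 0 2133 270738 edges_0_144 v (by omega) (by omega)
                · exact edgesRangeI_spec iota E 0 2132 272871 edges_0_145 v (by omega) (by omega)
              · rcases Nat.lt_or_ge v 277004 with h | h
                · exact edgesRangeI_spec iota E 0 2001 275003 edges_0_146 v (by omega) (by omega)
                · rcases Nat.lt_or_ge v 279012 with h | h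
                  · exact edgesRangeI_spec iota E 0 2008 277004 edges_0_147 v (by omega) (by omega)
                  · exact edgesRangeI_spec iota E 0 2244 279012 edges_0_148 v (by omega) (by omega)
            · rcases Nat.lt_or_ge v 285765 with h | h
              · rcases Nat.lt_or_ge v 283607 with h | h
                · exact edgesRangeI_spec iota E 0 2351 281256 edges_0_149 v (by omega) (by omega)
                · exact edgesRangeI_spec iota E 0 2158 283607 edges_0_150 v (by omega) (by omega)
              · rcases Nat.lt_or_ge v 288105 with h | h
                · exact edgesRangeI_spec iota E 0 2340 285765 edges_0_151 v (by omega) (by omega)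
                · rcases Nat.lt_or_ge v 290195 with h | h
                  · exact edgesRangeI_spec iota E 0 2090 288105 edges_0_152 v (by omega) (by omega)
                  · exact edgesRangeI_spec iota E 0 2214 290195 edges_0_153 v (by omega) (by omega)
  · rcases Nat.lt_or_ge v 465160 with h | h
    · rcases Nat.lt_or_ge v 375470 with h | h
      · rcases Nat.lt_or_ge v 334208 with h | h
        · rcases Nat.lt_or_ge v 311448 with h | h
          · rcases Nat.lt_or_ge v 301364 with h | h
            · rcases Nat.lt_or_ge v 297149 with h | h
              · rcases Nat.lt_or_ge v 294551 with h | h
                · exact edgesRangeI_spec iota E 0 2142 292409 edges_0_154 v (by omega) (by omega)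
                · exact edgesRangeI_spec iota E 0 2598 294551 edges_0_155 v (by omega) (by omega)
              · rcases Nat.lt_or_ge v 299356 with h | h
                · exact edgesRangeI_spec iota E 0 2207 297149 edges_0_156 v (by omega) (by omega)
                · exact edgesRangeI_spec iota E 0 2008 299356 edges_0_157 v (by omega) (by omega)
            · rcases Nat.lt_or_ge v 305441 with h | h
              · rcases Nat.lt_or_ge v 303368 with h | h
                · exact edgesRangeI_spec iota E 0 2004 301364 edges_0_158 v (by omega) (by omega)
                · exact edgesRangeI_spec iota E 0 2073 303368 edges_0_159 v (by omega) (by omega)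
              · rcases Nat.lt_or_ge v 307368 with h | h
                · exact edgesRangeI_spec iota E 0 1927 305441 edges_0_160 v (by omega) (by omega)
                · rcases Nat.lt_or_ge v 309412 with h | h
                  · exact edgesRangeI_spec iota E 0 2044 307368 edges_0_161 v (by omega) (by omega)
                  · exact edgesRangeI_spec iota E 0 2036 309412 edges_0_162 v (by omega) (by omega)
          · rcases Nat.lt_or_ge v 323041 with h | h
            · rcases Nat.lt_or_ge v 316008 with h | h
              · rcases Nat.lt_or_ge v 313741 with h | h
                · exact edgesRangeI_spec iota E 0 2293 311448 edges_0_163 v (by omega) (by omega)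
                · exact edgesRangeI_spec iota E 0 2267 313741 edges_0_164 v (by omega) (by omega)
              · rcases Nat.lt_or_ge v 318234 with h | h
                · exact edgesRangeI_spec iota E 0 2226 316008 edges_0_165 v (by omega) (by omega)
                · rcases Nat.lt_or_ge v 320629 with h | h
                  · exact edgesRangeI_spec iota E 0 2395 318234 edges_0_166 v (by omega) (by omega)
                  · exact edgesRangeI_spec iota E 0 2412 320629 edges_0_167 v (by omega) (by omega)
            · rcases Nat.lt_or_ge v 327587 with h | h
              · rcases Nat.lt_or_ge v 325212 with h | h
                · exact edgesRangeI_spec iota E 0 2171 323041 edges_0_168 v (by omega) (by omega)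
                · exact edgesRangeI_spec iota E 0 2375 325212 edges_0_169 v (by omega) (by omega)
              · rcases Nat.lt_or_ge v 329917 with h | h
                · exact edgesRangeI_spec iota E 0 2330 327587 edges_0_170 v (by omega) (by omega)
                · rcases Nat.lt_or_ge v 332174 with h | h
                  · exact edgesRangeI_spec iota E 0 2257 329917 edges_0_171 v (by omega) (by omega)
                  · exact edgesRangeI_spec iota E 0 2034 332174 edges_0_172 v (by omega) (by omega)
        · rcases Nat.lt_or_ge v 353694 with h | h
          · rcases Nat.lt_or_ge v 343419 with h | h
            · rcases Nat.lt_or_ge v 338722 with h | h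
              · rcases Nat.lt_or_ge v 336359 with h | h
                · exact edgesRangeI_spec iota E 0 2151 334208 edges_0_173 v (by omega) (by omega)
                · exact edgesRangeI_spec iota E 0 2363 336359 edges_0_174 v (by omega) (by omega)
              · rcases Nat.lt_or_ge v 341130 with h | h
                · exact edgesRangeI_spec iota E 0 2408 338722 edges_0_175 v (by omega) (by omega)
                · exact edgesRangeI_spec iota E 0 2289 341130 edges_0_176 v (by omega) (by omega)
            · rcases Nat.lt_or_ge v 347597 with h | h
              · rcases Nat.lt_or_ge v 345510 with h | h
                · exact edgesRangeI_spec iota E 0 2091 343419 edges_0_177 v (by omega) (by omega)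
                · exact edgesRangeI_spec iota E 0 2087 345510 edges_0_178 v (by omega) (by omega)
              · rcases Nat.lt_or_ge v 349373 with h | h
                · exact edgesRangeI_spec iota E 0 1776 347597 edges_0_179 v (by omega) (by omega)
                · rcases Nat.lt_or_ge v 351337 with h | h
                  · exact edgesRangeI_spec iota E 0 1964 349373 edges_0_180 v (by omega) (by omega)
                  · exact edgesRangeI_spec iota E 0 2357 351337 edges_0_181 v (by omega) (by omega)
          · rcases Nat.lt_or_ge v 364401 with h | h
            · rcases Nat.lt_or_ge v 357738 with h | h
              · rcases Nat.lt_or_ge v 355664 with h | h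
                · exact edgesRangeI_spec iota E 0 1970 353694 edges_0_182 v (by omega) (by omega)
                · exact edgesRangeI_spec iota E 0 2074 355664 edges_0_183 v (by omega) (by omega)
              · rcases Nat.lt_or_ge v 360080 with h | h
                · exact edgesRangeI_spec iota E 0 2342 357738 edges_0_184 v (by omega) (by omega)
                · rcases Nat.lt_or_ge v 362244 with h | h
                  · exact edgesRangeI_spec iota E 0 2164 360080 edges_0_185 v (by omega) (by omega)
                  · exact edgesRangeI_spec iota E 0 2157 362244 edges_0_186 v (by omega) (by omega)
            · rcases Nat.lt_or_ge v 368711 with h | h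
              · rcases Nat.lt_or_ge v 366415 with h | h
                · exact edgesRangeI_spec iota E 0 2014 364401 edges_0_187 v (by omega) (by omega)
                · exact edgesRangeI_spec iota E 0 2296 366415 edges_0_188 v (by omega) (by omega)
              · rcases Nat.lt_or_ge v 370785 with h | h
                · exact edgesRangeI_spec iota E 0 2074 368711 edges_0_189 v (by omega) (by omega)
                · rcases Nat.lt_or_ge v 372944 with h | h
                  · exact edgesRangeI_spec iota E 0 2159 370785 edges_0_190 v (by omega) (by omega)
                  · exact edgesRangeI_spec iota E 0 2526 372944 edges_0_191 v (by omega) (by omega)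
      · rcases Nat.lt_or_ge v 419408 with h | h
        · rcases Nat.lt_or_ge v 395844 with h | h
          · rcases Nat.lt_or_ge v 384747 with h | h
            · rcases Nat.lt_or_ge v 379971 with h | h
              · rcases Nat.lt_or_ge v 377611 with h | h
                · exact edgesRangeI_spec iota E 0 2141 375470 edges_0_192 v (by omega) (by omega)
                · exact edgesRangeI_spec iota E 0 2360 377611 edges_0_193 v (by omega) (by omega)
              · rcases Nat.lt_or_ge v 382472 with h | h
                · exact edgesRangeI_spec iota E 0 2501 379971 edges_0_194 v (by omega) (by omega)
                · exact edgesRangeI_spec iota E 0 2275 382472 edges_0_195 v (by omega) (by omega)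
            · rcases Nat.lt_or_ge v 389192 with h | h
              · rcases Nat.lt_or_ge v 387008 with h | h
                · exact edgesRangeI_spec iota E 0 2261 384747 edges_0_196 v (by omega) (by omega)
                · exact edgesRangeI_spec iota E 0 2184 387008 edges_0_197 v (by omega) (by omega)
              · rcases Nat.lt_or_ge v 391396 with h | h
                · exact edgesRangeI_spec iota E 0 2204 389192 edges_0_198 v (by omega) (by omega)
                · rcases Nat.lt_or_ge v 393532 with h | h
                  · exact edgesRangeI_spec iota E 0 2136 391396 edges_0_199 v (by omega) (by omega)
                  · exact edgesRangeI_spec iota E 0 2312 393532 edges_0_200 v (by omega) (by omega)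
          · rcases Nat.lt_or_ge v 407472 with h | h
            · rcases Nat.lt_or_ge v 400082 with h | h
              · rcases Nat.lt_or_ge v 397994 with h | h
                · exact edgesRangeI_spec iota E 0 2150 395844 edges_0_201 v (by omega) (by omega)
                · exact edgesRangeI_spec iota E 0 2088 397994 edges_0_202 v (by omega) (by omega)
              · rcases Nat.lt_or_ge v 402484 with h | h
                · exact edgesRangeI_spec iota E 0 2402 400082 edges_0_203 v (by omega) (by omega)
                · rcases Nat.lt_or_ge v 404562 with h | h
                  · exact edgesRangeI_spec iota E 0 2078 402484 edges_0_204 v (by omega) (by omega)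
                  · exact edgesRangeI_spec iota E 0 2910 404562 edges_0_205 v (by omega) (by omega)
            · rcases Nat.lt_or_ge v 412592 with h | h
              · rcases Nat.lt_or_ge v 410083 with h | h
                · exact edgesRangeI_spec iota E 0 2611 407472 edges_0_206 v (by omega) (by omega)
                · exact edgesRangeI_spec iota E 0 2509 410083 edges_0_207 v (by omega) (by omega)
              · rcases Nat.lt_or_ge v 414939 with h | h
                · exact edgesRangeI_spec iota E 0 2347 412592 edges_0_208 v (by omega) (by omega)
                · rcases Nat.lt_or_ge v 417113 with h | h
                  · exact edgesRangeI_spec iota E 0 2174 414939 edges_0_209 v (by omega) (by omega)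
                  · exact edgesRangeI_spec iota E 0 2295 417113 edges_0_210 v (by omega) (by omega)
        · rcases Nat.lt_or_ge v 442470 with h | h
          · rcases Nat.lt_or_ge v 430911 with h | h
            · rcases Nat.lt_or_ge v 424260 with h | h
              · rcases Nat.lt_or_ge v 421785 with h | h
                · exact edgesRangeI_spec iota E 0 2377 419408 edges_0_211 v (by omega) (by omega)
                · exact edgesRangeI_spec iota E 0 2475 421785 edges_0_212 v (by omega) (by omega)
              · rcases Nat.lt_or_ge v 426658 with h | h
                · exact edgesRangeI_spec iota E 0 2398 424260 edges_0_213 v (by omega) (by omega)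
                · rcases Nat.lt_or_ge v 428737 with h | h
                  · exact edgesRangeI_spec iota E 0 2079 426658 edges_0_214 v (by omega) (by omega)
                  · exact edgesRangeI_spec iota E 0 2174 428737 edges_0_215 v (by omega) (by omega)
            · rcases Nat.lt_or_ge v 435845 with h | h
              · rcases Nat.lt_or_ge v 433430 with h | h
                · exact edgesRangeI_spec iota E 0 2519 430911 edges_0_216 v (by omega) (by omega)
                · exact edgesRangeI_spec iota E 0 2415 433430 edges_0_217 v (by omega) (by omega)
              · rcases Nat.lt_or_ge v 438347 with h | h
                · exact edgesRangeI_spec iota E 0 2502 435845 edges_0_218 v (by omega) (by omega)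
                · rcases Nat.lt_or_ge v 440460 with h | h
                  · exact edgesRangeI_spec iota E 0 2113 438347 edges_0_219 v (by omega) (by omega)
                  · exact edgesRangeI_spec iota E 0 2010 440460 edges_0_220 v (by omega) (by omega)
          · rcases Nat.lt_or_ge v 453904 with h | h
            · rcases Nat.lt_or_ge v 447055 with h | h
              · rcases Nat.lt_or_ge v 444708 with h | h
                · exact edgesRangeI_spec iota E 0 2238 442470 edges_0_221 v (by omega) (by omega)
                · exact edgesRangeI_spec iota E 0 2347 444708 edges_0_222 v (by omega) (by omega)
              · rcases Nat.lt_or_ge v 449093 with h | h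
                · exact edgesRangeI_spec iota E 0 2038 447055 edges_0_223 v (by omega) (by omega)
                · rcases Nat.lt_or_ge v 451470 with h | h
                  · exact edgesRangeI_spec iota E 0 2377 449093 edges_0_224 v (by omega) (by omega)
                  · exact edgesRangeI_spec iota E 0 2434 451470 edges_0_225 v (by omega) (by omega)
            · rcases Nat.lt_or_ge v 458612 with h | h
              · rcases Nat.lt_or_ge v 456304 with h | h
                · exact edgesRangeI_spec iota E 0 2400 453904 edges_0_226 v (by omega) (by omega)
                · exact edgesRangeI_spec iota E 0 2308 456304 edges_0_227 v (by omega) (by omega)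
              · rcases Nat.lt_or_ge v 460620 with h | h
                · exact edgesRangeI_spec iota E 0 2008 458612 edges_0_228 v (by omega) (by omega)
                · rcases Nat.lt_or_ge v 462853 with h | h
                  · exact edgesRangeI_spec iota E 0 2233 460620 edges_0_229 v (by omega) (by omega)
                  · exact edgesRangeI_spec iota E 0 2307 462853 edges_0_230 v (by omega) (by omega)
    · rcases Nat.lt_or_ge v 543783 with h | h
      · rcases Nat.lt_or_ge v 509082 with h | h
        · rcases Nat.lt_or_ge v 485694 with h | h
          · rcases Nat.lt_or_ge v 474427 with h | h
            · rcases Nat.lt_or_ge v 469687 with h | h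
              · rcases Nat.lt_or_ge v 467250 with h | h
                · exact edgesRangeI_spec iota E 0 2090 465160 edges_0_231 v (by omega) (by omega)
                · exact edgesRangeI_spec iota E 0 2437 467250 edges_0_232 v (by omega) (by omega)
              · rcases Nat.lt_or_ge v 471978 with h | h
                · exact edgesRangeI_spec iota E 0 2291 469687 edges_0_233 v (by omega) (by omega)
                · exact edgesRangeI_spec iota E 0 2449 471978 edges_0_234 v (by omega) (by omega)
            · rcases Nat.lt_or_ge v 478861 with h | h
              · rcases Nat.lt_or_ge v 476839 with h | h
                · exact edgesRangeI_spec iota E 0 2412 474427 edges_0_235 v (by omega) (by omega)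
                · exact edgesRangeI_spec iota E 0 2022 476839 edges_0_236 v (by omega) (by omega)
              · rcases Nat.lt_or_ge v 480913 with h | h
                · exact edgesRangeI_spec iota E 0 2052 478861 edges_0_237 v (by omega) (by omega)
                · rcases Nat.lt_or_ge v 483368 with h | h
                  · exact edgesRangeI_spec iota E 0 2455 480913 edges_0_238 v (by omega) (by omega)
                  · exact edgesRangeI_spec iota E 0 2326 483368 edges_0_239 v (by omega) (by omega)
          · rcases Nat.lt_or_ge v 496763 with h | h
            · rcases Nat.lt_or_ge v 489979 with h | h
              · rcases Nat.lt_or_ge v 487773 with h | h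
                · exact edgesRangeI_spec iota E 0 2079 485694 edges_0_240 v (by omega) (by omega)
                · exact edgesRangeI_spec iota E 0 2206 487773 edges_0_241 v (by omega) (by omega)
              · rcases Nat.lt_or_ge v 492258 with h | h
                · exact edgesRangeI_spec iota E 0 2279 489979 edges_0_242 v (by omega) (by omega)
                · rcases Nat.lt_or_ge v 494517 with h | h
                  · exact edgesRangeI_spec iota E 0 2259 492258 edges_0_243 v (by omega) (by omega)
                  · exact edgesRangeI_spec iota E 0 2246 494517 edges_0_244 v (by omega) (by omega)
            · rcases Nat.lt_or_ge v 501847 with h | h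
              · rcases Nat.lt_or_ge v 499147 with h | h
                · exact edgesRangeI_spec iota E 0 2384 496763 edges_0_245 v (by omega) (by omega)
                · exact edgesRangeI_spec iota E 0 2700 499147 edges_0_246 v (by omega) (by omega)
              · rcases Nat.lt_or_ge v 504402 with h | h
                · exact edgesRangeI_spec iota E 0 2555 501847 edges_0_247 v (by omega) (by omega)
                · rcases Nat.lt_or_ge v 506570 with h | h
                  · exact edgesRangeI_spec iota E 0 2168 504402 edges_0_248 v (by omega) (by omega)
                  · exact edgesRangeI_spec iota E 0 2512 506570 edges_0_249 v (by omega) (by omega)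
        · rcases Nat.lt_or_ge v 530947 with h | h
          · rcases Nat.lt_or_ge v 519098 with h | h
            · rcases Nat.lt_or_ge v 514055 with h | h
              · rcases Nat.lt_or_ge v 511567 with h | h
                · exact edgesRangeI_spec iota E 0 2485 509082 edges_0_250 v (by omega) (by omega)
                · exact edgesRangeI_spec iota E 0 2488 511567 edges_0_251 v (by omega) (by omega)
              · rcases Nat.lt_or_ge v 516611 with h | h
                · exact edgesRangeI_spec iota E 0 2556 514055 edges_0_252 v (by omega) (by omega)
                · exact edgesRangeI_spec iota E 0 2487 516611 edges_0_253 v (by omega) (by omega)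
            · rcases Nat.lt_or_ge v 524539 with h | h
              · rcases Nat.lt_or_ge v 521966 with h | h
                · exact edgesRangeI_spec iota E 0 2868 519098 edges_0_254 v (by omega) (by omega)
                · exact edgesRangeI_spec iota E 0 2573 521966 edges_0_255 v (by omega) (by omega)
              · rcases Nat.lt_or_ge v 526816 with h | h
                · exact edgesRangeI_spec iota E 0 2277 524539 edges_0_256 v (by omega) (by omega)
                · rcases Nat.lt_or_ge v 529303 with h | h
                  · exact edgesRangeI_spec iota E 0 2487 526816 edges_0_257 v (by omega) (by omega)
                  · exact edgesRangeI_spec iota E 0 1644 529303 edges_0_258 v (by omega) (by omega)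
          · rcases Nat.lt_or_ge v 537431 with h | h
            · rcases Nat.lt_or_ge v 533528 with h | h
              · rcases Nat.lt_or_ge v 532191 with h | h
                · exact edgesRangeI_spec iota E 0 1244 530947 edges_0_259 v (by omega) (by omega)
                · exact edgesRangeI_spec iota E 0 1337 532191 edges_0_260 v (by omega) (by omega)
              · rcases Nat.lt_or_ge v 534848 with h | h
                · exact edgesRangeI_spec iota E 0 1320 533528 edges_0_261 v (by omega) (by omega)
                · rcases Nat.lt_or_ge v 536144 with h | h
                  · exact edgesRangeI_spec iota E 0 1296 534848 edges_0_262 v (by omega) (by omega)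
                  · exact edgesRangeI_spec iota E 0 1287 536144 edges_0_263 v (by omega) (by omega)
            · rcases Nat.lt_or_ge v 539910 with h | h
              · rcases Nat.lt_or_ge v 538677 with h | h
                · exact edgesRangeI_spec iota E 0 1246 537431 edges_0_264 v (by omega) (by omega)
                · exact edgesRangeI_spec iota E 0 1233 538677 edges_0_265 v (by omega) (by omega)
              · rcases Nat.lt_or_ge v 541188 with h | h
                · exact edgesRangeI_spec iota E 0 1278 539910 edges_0_266 v (by omega) (by omega)
                · rcases Nat.lt_or_ge v 542506 with h | h
                  · exact edgesRangeI_spec iota E 0 1318 541188 edges_0_267 v (by omega) (by omega)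
                  · exact edgesRangeI_spec iota E 0 1277 542506 edges_0_268 v (by omega) (by omega)
      · rcases Nat.lt_or_ge v 566690 with h | h
        · rcases Nat.lt_or_ge v 554716 with h | h
          · rcases Nat.lt_or_ge v 548629 with h | h
            · rcases Nat.lt_or_ge v 546208 with h | h
              · rcases Nat.lt_or_ge v 545063 with h | h
                · exact edgesRangeI_spec iota E 0 1280 543783 edges_0_269 v (by omega) (by omega)
                · exact edgesRangeI_spec iota E 0 1145 545063 edges_0_270 v (by omega) (by omega)
              · rcases Nat.lt_or_ge v 547401 with h | h
                · exact edgesRangeI_spec iota E 0 1193 546208 edges_0_271 v (by omega) (by omega)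
                · exact edgesRangeI_spec iota E 0 1228 547401 edges_0_272 v (by omega) (by omega)
            · rcases Nat.lt_or_ge v 551036 with h | h
              · rcases Nat.lt_or_ge v 549824 with h | h
                · exact edgesRangeI_spec iota E 0 1195 548629 edges_0_273 v (by omega) (by omega)
                · exact edgesRangeI_spec iota E 0 1212 549824 edges_0_274 v (by omega) (by omega)
              · rcases Nat.lt_or_ge v 552275 with h | h
                · exact edgesRangeI_spec iota E 0 1239 551036 edges_0_275 v (by omega) (by omega)
                · rcases Nat.lt_or_ge v 553503 with h | h
                  · exact edgesRangeI_spec iota E 0 1228 552275 edges_0_276 v (by omega) (by omega)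
                  · exact edgesRangeI_spec iota E 0 1213 553503 edges_0_277 v (by omega) (by omega)
          · rcases Nat.lt_or_ge v 560776 with h | h
            · rcases Nat.lt_or_ge v 557107 with h | h
              · rcases Nat.lt_or_ge v 555975 with h | h
                · exact edgesRangeI_spec iota E 0 1259 554716 edges_0_278 v (by omega) (by omega)
                · exact edgesRangeI_spec iota E 0 1132 555975 edges_0_279 v (by omega) (by omega)
              · rcases Nat.lt_or_ge v 558340 with h | h
                · exact edgesRangeI_spec iota E 0 1233 557107 edges_0_280 v (by omega) (by omega)
                · rcases Nat.lt_or_ge v 559558 with h | h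
                  · exact edgesRangeI_spec iota E 0 1218 558340 edges_0_281 v (by omega) (by omega)
                  · exact edgesRangeI_spec iota E 0 1218 559558 edges_0_282 v (by omega) (by omega)
            · rcases Nat.lt_or_ge v 563202 with h | h
              · rcases Nat.lt_or_ge v 561996 with h | h
                · exact edgesRangeI_spec iota E 0 1220 560776 edges_0_283 v (by omega) (by omega)
                · exact edgesRangeI_spec iota E 0 1206 561996 edges_0_284 v (by omega) (by omega)
              · rcases Nat.lt_or_ge v 564312 with h | h
                · exact edgesRangeI_spec iota E 0 1110 563202 edges_0_285 v (by omega) (by omega)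
                · rcases Nat.lt_or_ge v 565477 with h | h
                  · exact edgesRangeI_spec iota E 0 1165 564312 edges_0_286 v (by omega) (by omega)
                  · exact edgesRangeI_spec iota E 0 1213 565477 edges_0_287 v (by omega) (by omega)
        · rcases Nat.lt_or_ge v 578175 with h | h
          · rcases Nat.lt_or_ge v 572492 with h | h
            · rcases Nat.lt_or_ge v 568997 with h | h
              · rcases Nat.lt_or_ge v 567879 with h | h
                · exact edgesRangeI_spec iota E 0 1189 566690 edges_0_288 v (by omega) (by omega)
                · exact edgesRangeI_spec iota E 0 1118 567879 edges_0_289 v (by omega) (by omega)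
              · rcases Nat.lt_or_ge v 570166 with h | h
                · exact edgesRangeI_spec iota E 0 1169 568997 edges_0_290 v (by omega) (by omega)
                · rcases Nat.lt_or_ge v 571339 with h | h
                  · exact edgesRangeI_spec iota E 0 1173 570166 edges_0_291 v (by omega) (by omega)
                  · exact edgesRangeI_spec iota E 0 1153 571339 edges_0_292 v (by omega) (by omega)
            · rcases Nat.lt_or_ge v 574790 with h | h
              · rcases Nat.lt_or_ge v 573616 with h | h
                · exact edgesRangeI_spec iota E 0 1124 572492 edges_0_293 v (by omega) (by omega)
                · exact edgesRangeI_spec iota E 0 1174 573616 edges_0_294 v (by omega) (by omega)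
              · rcases Nat.lt_or_ge v 575876 with h | h
                · exact edgesRangeI_spec iota E 0 1086 574790 edges_0_295 v (by omega) (by omega)
                · rcases Nat.lt_or_ge v 577028 with h | h
                  · exact edgesRangeI_spec iota E 0 1152 575876 edges_0_296 v (by omega) (by omega)
                  · exact edgesRangeI_spec iota E 0 1147 577028 edges_0_297 v (by omega) (by omega)
          · rcases Nat.lt_or_ge v 583730 with h | h
            · rcases Nat.lt_or_ge v 580403 with h | h
              · rcases Nat.lt_or_ge v 579320 with h | h
                · exact edgesRangeI_spec iota E 0 1145 578175 edges_0_298 v (by omega) (by omega)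
                · exact edgesRangeI_spec iota E 0 1083 579320 edges_0_299 v (by omega) (by omega)
              · rcases Nat.lt_or_ge v 581483 with h | h
                · exact edgesRangeI_spec iota E 0 1080 580403 edges_0_300 v (by omega) (by omega)
                · rcases Nat.lt_or_ge v 582628 with h | h
                  · exact edgesRangeI_spec iota E 0 1145 581483 edges_0_301 v (by omega) (by omega)
                  · exact edgesRangeI_spec iota E 0 1102 582628 edges_0_302 v (by omega) (by omega)
            · rcases Nat.lt_or_ge v 585952 with h | h
              · rcases Nat.lt_or_ge v 584856 with h | h
                · exact edgesRangeI_spec iota E 0 1126 583730 edges_0_303 v (by omega) (by omega)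
                · exact edgesRangeI_spec iota E 0 1096 584856 edges_0_304 v (by omega) (by omega)
              · rcases Nat.lt_or_ge v 587055 with h | h
                · exact edgesRangeI_spec iota E 0 1103 585952 edges_0_305 v (by omega) (by omega)
                · rcases Nat.lt_or_ge v 588134 with h | h
                  · exact edgesRangeI_spec iota E 0 1079 587055 edges_0_306 v (by omega) (by omega)
                  · exact edgesRangeI_spec iota E 0 357 588134 edges_0_307 v (by omega) (by omega)

theorem edgesx_1 : ∀ v, v < 588491 → edgeOKI iota E 1 v = true := by
  intro v hv
  rcases Nat.lt_or_ge v 306804 with h | h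
  · rcases Nat.lt_or_ge v 143062 with h | h
    · rcases Nat.lt_or_ge v 69594 with h | h
      · rcases Nat.lt_or_ge v 33307 with h | h
        · rcases Nat.lt_or_ge v 16755 with h | h
          · rcases Nat.lt_or_ge v 6812 with h | h
            · rcases Nat.lt_or_ge v 3440 with h | h
              · exact edgesRangeI_spec iota E 1 3440 0 edges_1_0 v (by omega) (by omega)
              · exact edgesRangeI_spec iota E 1 3372 3440 edges_1_1 v (by omega) (by omega)
            · rcases Nat.lt_or_ge v 10145 with h | h
              · exact edgesRangeI_spec iota E 1 3333 6812 edges_1_2 v (by omega) (by omega)
              · rcases Nat.lt_or_ge v 13460 with h | h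
                · exact edgesRangeI_spec iota E 1 3315 10145 edges_1_3 v (by omega) (by omega)
                · exact edgesRangeI_spec iota E 1 3295 13460 edges_1_4 v (by omega) (by omega)
          · rcases Nat.lt_or_ge v 23350 with h | h
            · rcases Nat.lt_or_ge v 20066 with h | h
              · exact edgesRangeI_spec iota E 1 3311 16755 edges_1_5 v (by omega) (by omega)
              · exact edgesRangeI_spec iota E 1 3284 20066 edges_1_6 v (by omega) (by omega)
            · rcases Nat.lt_or_ge v 26609 with h | h
              · exact edgesRangeI_spec iota E 1 3259 23350 edges_1_7 v (by omega) (by omega)
              · rcases Nat.lt_or_ge v 30001 with h | h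
                · exact edgesRangeI_spec iota E 1 3392 26609 edges_1_8 v (by omega) (by omega)
                · exact edgesRangeI_spec iota E 1 3306 30001 edges_1_9 v (by omega) (by omega)
        · rcases Nat.lt_or_ge v 49647 with h | h
          · rcases Nat.lt_or_ge v 39662 with h | h
            · rcases Nat.lt_or_ge v 36461 with h | h
              · exact edgesRangeI_spec iota E 1 3154 33307 edges_1_10 v (by omega) (by omega)
              · exact edgesRangeI_spec iota E 1 3201 36461 edges_1_11 v (by omega) (by omega)
            · rcases Nat.lt_or_ge v 42855 with h | h
              · exact edgesRangeI_spec iota E 1 3193 39662 edges_1_12 v (by omega) (by omega)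
              · rcases Nat.lt_or_ge v 46233 with h | h
                · exact edgesRangeI_spec iota E 1 3378 42855 edges_1_13 v (by omega) (by omega)
                · exact edgesRangeI_spec iota E 1 3414 46233 edges_1_14 v (by omega) (by omega)
          · rcases Nat.lt_or_ge v 59833 with h | h
            · rcases Nat.lt_or_ge v 53077 with h | h
              · exact edgesRangeI_spec iota E 1 3430 49647 edges_1_15 v (by omega) (by omega)
              · rcases Nat.lt_or_ge v 56446 with h | h
                · exact edgesRangeI_spec iota E 1 3369 53077 edges_1_16 v (by omega) (by omega)
                · exact edgesRangeI_spec iota E 1 3387 56446 edges_1_17 v (by omega) (by omega)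
            · rcases Nat.lt_or_ge v 63089 with h | h
              · exact edgesRangeI_spec iota E 1 3256 59833 edges_1_18 v (by omega) (by omega)
              · rcases Nat.lt_or_ge v 66310 with h | h
                · exact edgesRangeI_spec iota E 1 3221 63089 edges_1_19 v (by omega) (by omega)
                · exact edgesRangeI_spec iota E 1 3284 66310 edges_1_20 v (by omega) (by omega)
      · rcases Nat.lt_or_ge v 105604 with h | h
        · rcases Nat.lt_or_ge v 86250 with h | h
          · rcases Nat.lt_or_ge v 76317 with h | h
            · rcases Nat.lt_or_ge v 72937 with h | h
              · exact edgesRangeI_spec iota E 1 3343 69594 edges_1_21 v (by omega) (by omega)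
              · exact edgesRangeI_spec iota E 1 3380 72937 edges_1_22 v (by omega) (by omega)
            · rcases Nat.lt_or_ge v 79653 with h | h
              · exact edgesRangeI_spec iota E 1 3336 76317 edges_1_23 v (by omega) (by omega)
              · rcases Nat.lt_or_ge v 82901 with h | h
                · exact edgesRangeI_spec iota E 1 3248 79653 edges_1_24 v (by omega) (by omega)
                · exact edgesRangeI_spec iota E 1 3349 82901 edges_1_25 v (by omega) (by omega)
          · rcases Nat.lt_or_ge v 95923 with h | h
            · rcases Nat.lt_or_ge v 89478 with h | h
              · exact edgesRangeI_spec iota E 1 3228 86250 edges_1_26 v (by omega) (by omega)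
              · rcases Nat.lt_or_ge v 92756 with h | h
                · exact edgesRangeI_spec iota E 1 3278 89478 edges_1_27 v (by omega) (by omega)
                · exact edgesRangeI_spec iota E 1 3167 92756 edges_1_28 v (by omega) (by omega)
            · rcases Nat.lt_or_ge v 99043 with h | h
              · exact edgesRangeI_spec iota E 1 3120 95923 edges_1_29 v (by omega) (by omega)
              · rcases Nat.lt_or_ge v 102280 with h | h
                · exact edgesRangeI_spec iota E 1 3237 99043 edges_1_30 v (by omega) (by omega)
                · exact edgesRangeI_spec iota E 1 3324 102280 edges_1_31 v (by omega) (by omega)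
        · rcases Nat.lt_or_ge v 122241 with h | h
          · rcases Nat.lt_or_ge v 112268 with h | h
            · rcases Nat.lt_or_ge v 108893 with h | h
              · exact edgesRangeI_spec iota E 1 3289 105604 edges_1_32 v (by omega) (by omega)
              · exact edgesRangeI_spec iota E 1 3375 108893 edges_1_33 v (by omega) (by omega)
            · rcases Nat.lt_or_ge v 115746 with h | h
              · exact edgesRangeI_spec iota E 1 3478 112268 edges_1_34 v (by omega) (by omega)
              · rcases Nat.lt_or_ge v 119091 with h | h
                · exact edgesRangeI_spec iota E 1 3345 115746 edges_1_35 v (by omega) (by omega)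
                · exact edgesRangeI_spec iota E 1 3150 119091 edges_1_36 v (by omega) (by omega)
          · rcases Nat.lt_or_ge v 132670 with h | h
            · rcases Nat.lt_or_ge v 125759 with h | h
              · exact edgesRangeI_spec iota E 1 3518 122241 edges_1_37 v (by omega) (by omega)
              · rcases Nat.lt_or_ge v 129096 with h | h
                · exact edgesRangeI_spec iota E 1 3337 125759 edges_1_38 v (by omega) (by omega)
                · exact edgesRangeI_spec iota E 1 3574 129096 edges_1_39 v (by omega) (by omega)
            · rcases Nat.lt_or_ge v 136256 with h | h
              · exact edgesRangeI_spec iota E 1 3586 132670 edges_1_40 v (by omega) (by omega)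
              · rcases Nat.lt_or_ge v 139712 with h | h
                · exact edgesRangeI_spec iota E 1 3456 136256 edges_1_41 v (by omega) (by omega)
                · exact edgesRangeI_spec iota E 1 3350 139712 edges_1_42 v (by omega) (by omega)
    · rcases Nat.lt_or_ge v 221567 with h | h
      · rcases Nat.lt_or_ge v 181498 with h | h
        · rcases Nat.lt_or_ge v 160614 with h | h
          · rcases Nat.lt_or_ge v 149882 with h | h
            · rcases Nat.lt_or_ge v 146411 with h | h
              · exact edgesRangeI_spec iota E 1 3349 143062 edges_1_43 v (by omega) (by omega)
              · exact edgesRangeI_spec iota E 1 3471 146411 edges_1_44 v (by omega) (by omega)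
            · rcases Nat.lt_or_ge v 153522 with h | h
              · exact edgesRangeI_spec iota E 1 3640 149882 edges_1_45 v (by omega) (by omega)
              · rcases Nat.lt_or_ge v 157101 with h | h
                · exact edgesRangeI_spec iota E 1 3579 153522 edges_1_46 v (by omega) (by omega)
                · exact edgesRangeI_spec iota E 1 3513 157101 edges_1_47 v (by omega) (by omega)
          · rcases Nat.lt_or_ge v 170814 with h | h
            · rcases Nat.lt_or_ge v 164051 with h | h
              · exact edgesRangeI_spec iota E 1 3437 160614 edges_1_48 v (by omega) (by omega)
              · rcases Nat.lt_or_ge v 167382 with h | h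
                · exact edgesRangeI_spec iota E 1 3331 164051 edges_1_49 v (by omega) (by omega)
                · exact edgesRangeI_spec iota E 1 3432 167382 edges_1_50 v (by omega) (by omega)
            · rcases Nat.lt_or_ge v 174482 with h | h
              · exact edgesRangeI_spec iota E 1 3668 170814 edges_1_51 v (by omega) (by omega)
              · rcases Nat.lt_or_ge v 177933 with h | h
                · exact edgesRangeI_spec iota E 1 3451 174482 edges_1_52 v (by omega) (by omega)
                · exact edgesRangeI_spec iota E 1 3565 177933 edges_1_53 v (by omega) (by omega)
        · rcases Nat.lt_or_ge v 199554 with h | h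
          · rcases Nat.lt_or_ge v 188906 with h | h
            · rcases Nat.lt_or_ge v 185009 with h | h
              · exact edgesRangeI_spec iota E 1 3511 181498 edges_1_54 v (by omega) (by omega)
              · exact edgesRangeI_spec iota E 1 3897 185009 edges_1_55 v (by omega) (by omega)
            · rcases Nat.lt_or_ge v 192453 with h | h
              · exact edgesRangeI_spec iota E 1 3547 188906 edges_1_56 v (by omega) (by omega)
              · rcases Nat.lt_or_ge v 196073 with h | h
                · exact edgesRangeI_spec iota E 1 3620 192453 edges_1_57 v (by omega) (by omega)
                · exact edgesRangeI_spec iota E 1 3481 196073 edges_1_58 v (by omega) (by omega)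
          · rcases Nat.lt_or_ge v 210251 with h | h
            · rcases Nat.lt_or_ge v 203049 with h | h
              · exact edgesRangeI_spec iota E 1 3495 199554 edges_1_59 v (by omega) (by omega)
              · rcases Nat.lt_or_ge v 206607 with h | h
                · exact edgesRangeI_spec iota E 1 3558 203049 edges_1_60 v (by omega) (by omega)
                · exact edgesRangeI_spec iota E 1 3644 206607 edges_1_61 v (by omega) (by omega)
            · rcases Nat.lt_or_ge v 213876 with h | h
              · exact edgesRangeI_spec iota E 1 3625 210251 edges_1_62 v (by omega) (by omega)
              · rcases Nat.lt_or_ge v 217621 with h | h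
                · exact edgesRangeI_spec iota E 1 3745 213876 edges_1_63 v (by omega) (by omega)
                · exact edgesRangeI_spec iota E 1 3946 217621 edges_1_64 v (by omega) (by omega)
      · rcases Nat.lt_or_ge v 264185 with h | h
        · rcases Nat.lt_or_ge v 240698 with h | h
          · rcases Nat.lt_or_ge v 229452 with h | h
            · rcases Nat.lt_or_ge v 225495 with h | h
              · exact edgesRangeI_spec iota E 1 3928 221567 edges_1_65 v (by omega) (by omega)
              · exact edgesRangeI_spec iota E 1 3957 225495 edges_1_66 v (by omega) (by omega)
            · rcases Nat.lt_or_ge v 233207 with h | h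
              · exact edgesRangeI_spec iota E 1 3755 229452 edges_1_67 v (by omega) (by omega)
              · rcases Nat.lt_or_ge v 237102 with h | h
                · exact edgesRangeI_spec iota E 1 3895 233207 edges_1_68 v (by omega) (by omega)
                · exact edgesRangeI_spec iota E 1 3596 237102 edges_1_69 v (by omega) (by omega)
          · rcases Nat.lt_or_ge v 252239 with h | h
            · rcases Nat.lt_or_ge v 244413 with h | h
              · exact edgesRangeI_spec iota E 1 3715 240698 edges_1_70 v (by omega) (by omega)
              · rcases Nat.lt_or_ge v 248100 with h | h
                · exact edgesRangeI_spec iota E 1 3687 244413 edges_1_71 v (by omega) (by omega)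
                · exact edgesRangeI_spec iota E 1 4139 248100 edges_1_72 v (by omega) (by omega)
            · rcases Nat.lt_or_ge v 256163 with h | h
              · exact edgesRangeI_spec iota E 1 3924 252239 edges_1_73 v (by omega) (by omega)
              · rcases Nat.lt_or_ge v 260071 with h | h
                · exact edgesRangeI_spec iota E 1 3908 256163 edges_1_74 v (by omega) (by omega)
                · exact edgesRangeI_spec iota E 1 4114 260071 edges_1_75 v (by omega) (by omega)
        · rcases Nat.lt_or_ge v 283612 with h | h
          · rcases Nat.lt_or_ge v 272035 with h | h
            · rcases Nat.lt_or_ge v 268138 with h | h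
              · exact edgesRangeI_spec iota E 1 3953 264185 edges_1_76 v (by omega) (by omega)
              · exact edgesRangeI_spec iota E 1 3897 268138 edges_1_77 v (by omega) (by omega)
            · rcases Nat.lt_or_ge v 275774 with h | h
              · exact edgesRangeI_spec iota E 1 3739 272035 edges_1_78 v (by omega) (by omega)
              · rcases Nat.lt_or_ge v 279517 with h | h
                · exact edgesRangeI_spec iota E 1 3743 275774 edges_1_79 v (by omega) (by omega)
                · exact edgesRangeI_spec iota E 1 4095 279517 edges_1_80 v (by omega) (by omega)
          · rcases Nat.lt_or_ge v 295299 with h | h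
            · rcases Nat.lt_or_ge v 287443 with h | h
              · exact edgesRangeI_spec iota E 1 3831 283612 edges_1_81 v (by omega) (by omega)
              · rcases Nat.lt_or_ge v 291474 with h | h
                · exact edgesRangeI_spec iota E 1 4031 287443 edges_1_82 v (by omega) (by omega)
                · exact edgesRangeI_spec iota E 1 3825 291474 edges_1_83 v (by omega) (by omega)
            · rcases Nat.lt_or_ge v 299388 with h | h
              · exact edgesRangeI_spec iota E 1 4089 295299 edges_1_84 v (by omega) (by omega)
              · rcases Nat.lt_or_ge v 303046 with h | h
                · exact edgesRangeI_spec iota E 1 3658 299388 edges_1_85 v (by omega) (by omega)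
                · exact edgesRangeI_spec iota E 1 3758 303046 edges_1_86 v (by omega) (by omega)
  · rcases Nat.lt_or_ge v 479474 with h | h
    · rcases Nat.lt_or_ge v 388715 with h | h
      · rcases Nat.lt_or_ge v 345775 with h | h
        · rcases Nat.lt_or_ge v 325924 with h | h
          · rcases Nat.lt_or_ge v 314166 with h | h
            · rcases Nat.lt_or_ge v 310304 with h | h
              · exact edgesRangeI_spec iota E 1 3500 306804 edges_1_87 v (by omega) (by omega)
              · exact edgesRangeI_spec iota E 1 3862 310304 edges_1_88 v (by omega) (by omega)
            · rcases Nat.lt_or_ge v 317887 with h | h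
              · exact edgesRangeI_spec iota E 1 3721 314166 edges_1_89 v (by omega) (by omega)
              · rcases Nat.lt_or_ge v 322080 with h | h
                · exact edgesRangeI_spec iota E 1 4193 317887 edges_1_90 v (by omega) (by omega)
                · exact edgesRangeI_spec iota E 1 3844 322080 edges_1_91 v (by omega) (by omega)
          · rcases Nat.lt_or_ge v 334080 with h | h
            · rcases Nat.lt_or_ge v 330086 with h | h
              · exact edgesRangeI_spec iota E 1 4162 325924 edges_1_92 v (by omega) (by omega)
              · exact edgesRangeI_spec iota E 1 3994 330086 edges_1_93 v (by omega) (by omega)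
            · rcases Nat.lt_or_ge v 337957 with h | h
              · exact edgesRangeI_spec iota E 1 3877 334080 edges_1_94 v (by omega) (by omega)
              · rcases Nat.lt_or_ge v 342057 with h | h
                · exact edgesRangeI_spec iota E 1 4100 337957 edges_1_95 v (by omega) (by omega)
                · exact edgesRangeI_spec iota E 1 3718 342057 edges_1_96 v (by omega) (by omega)
        · rcases Nat.lt_or_ge v 364561 with h | h
          · rcases Nat.lt_or_ge v 353272 with h | h
            · rcases Nat.lt_or_ge v 349372 with h | h
              · exact edgesRangeI_spec iota E 1 3597 345775 edges_1_97 v (by omega) (by omega)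
              · exact edgesRangeI_spec iota E 1 3900 349372 edges_1_98 v (by omega) (by omega)
            · rcases Nat.lt_or_ge v 357057 with h | h
              · exact edgesRangeI_spec iota E 1 3785 353272 edges_1_99 v (by omega) (by omega)
              · rcases Nat.lt_or_ge v 360956 with h | h
                · exact edgesRangeI_spec iota E 1 3899 357057 edges_1_100 v (by omega) (by omega)
                · exact edgesRangeI_spec iota E 1 3605 360956 edges_1_101 v (by omega) (by omega)
          · rcases Nat.lt_or_ge v 376399 with h | h
            · rcases Nat.lt_or_ge v 368341 with h | h
              · exact edgesRangeI_spec iota E 1 3780 364561 edges_1_102 v (by omega) (by omega)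
              · rcases Nat.lt_or_ge v 372180 with h | h
                · exact edgesRangeI_spec iota E 1 3839 368341 edges_1_103 v (by omega) (by omega)
                · exact edgesRangeI_spec iota E 1 4219 372180 edges_1_104 v (by omega) (by omega)
            · rcases Nat.lt_or_ge v 380566 with h | h
              · exact edgesRangeI_spec iota E 1 4167 376399 edges_1_105 v (by omega) (by omega)
              · rcases Nat.lt_or_ge v 384745 with h | h
                · exact edgesRangeI_spec iota E 1 4179 380566 edges_1_106 v (by omega) (by omega)
                · exact edgesRangeI_spec iota E 1 3970 384745 edges_1_107 v (by omega) (by omega)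
      · rcases Nat.lt_or_ge v 434281 with h | h
        · rcases Nat.lt_or_ge v 409192 with h | h
          · rcases Nat.lt_or_ge v 396431 with h | h
            · rcases Nat.lt_or_ge v 392595 with h | h
              · exact edgesRangeI_spec iota E 1 3880 388715 edges_1_108 v (by omega) (by omega)
              · exact edgesRangeI_spec iota E 1 3836 392595 edges_1_109 v (by omega) (by omega)
            · rcases Nat.lt_or_ge v 400326 with h | h
              · exact edgesRangeI_spec iota E 1 3895 396431 edges_1_110 v (by omega) (by omega)
              · rcases Nat.lt_or_ge v 404430 with h | h
                · exact edgesRangeI_spec iota E 1 4104 400326 edges_1_111 v (by omega) (by omega)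
                · exact edgesRangeI_spec iota E 1 4762 404430 edges_1_112 v (by omega) (by omega)
          · rcases Nat.lt_or_ge v 421834 with h | h
            · rcases Nat.lt_or_ge v 413574 with h | h
              · exact edgesRangeI_spec iota E 1 4382 409192 edges_1_113 v (by omega) (by omega)
              · rcases Nat.lt_or_ge v 417565 with h | h
                · exact edgesRangeI_spec iota E 1 3991 413574 edges_1_114 v (by omega) (by omega)
                · exact edgesRangeI_spec iota E 1 4269 417565 edges_1_115 v (by omega) (by omega)
            · rcases Nat.lt_or_ge v 425982 with h | h
              · exact edgesRangeI_spec iota E 1 4148 421834 edges_1_116 v (by omega) (by omega)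
              · rcases Nat.lt_or_ge v 429871 with h | h
                · exact edgesRangeI_spec iota E 1 3889 425982 edges_1_117 v (by omega) (by omega)
                · exact edgesRangeI_spec iota E 1 4410 429871 edges_1_118 v (by omega) (by omega)
        · rcases Nat.lt_or_ge v 455123 with h | h
          · rcases Nat.lt_or_ge v 442715 with h | h
            · rcases Nat.lt_or_ge v 438706 with h | h
              · exact edgesRangeI_spec iota E 1 4425 434281 edges_1_119 v (by omega) (by omega)
              · exact edgesRangeI_spec iota E 1 4009 438706 edges_1_120 v (by omega) (by omega)
            · rcases Nat.lt_or_ge v 446844 with h | h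
              · exact edgesRangeI_spec iota E 1 4129 442715 edges_1_121 v (by omega) (by omega)
              · rcases Nat.lt_or_ge v 450771 with h | h
                · exact edgesRangeI_spec iota E 1 3927 446844 edges_1_122 v (by omega) (by omega)
                · exact edgesRangeI_spec iota E 1 4352 450771 edges_1_123 v (by omega) (by omega)
          · rcases Nat.lt_or_ge v 467082 with h | h
            · rcases Nat.lt_or_ge v 459098 with h | h
              · exact edgesRangeI_spec iota E 1 3975 455123 edges_1_124 v (by omega) (by omega)
              · rcases Nat.lt_or_ge v 463021 with h | h
                · exact edgesRangeI_spec iota E 1 3923 459098 edges_1_125 v (by omega) (by omega)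
                · exact edgesRangeI_spec iota E 1 4061 463021 edges_1_126 v (by omega) (by omega)
            · rcases Nat.lt_or_ge v 471040 with h | h
              · exact edgesRangeI_spec iota E 1 3958 467082 edges_1_127 v (by omega) (by omega)
              · rcases Nat.lt_or_ge v 475539 with h | h
                · exact edgesRangeI_spec iota E 1 4499 471040 edges_1_128 v (by omega) (by omega)
                · exact edgesRangeI_spec iota E 1 3935 475539 edges_1_129 v (by omega) (by omega)
    · rcases Nat.lt_or_ge v 552519 with h | h
      · rcases Nat.lt_or_ge v 526578 with h | h
        · rcases Nat.lt_or_ge v 500090 with h | h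
          · rcases Nat.lt_or_ge v 487730 with h | h
            · rcases Nat.lt_or_ge v 483605 with h | h
              · exact edgesRangeI_spec iota E 1 4131 479474 edges_1_130 v (by omega) (by omega)
              · exact edgesRangeI_spec iota E 1 4125 483605 edges_1_131 v (by omega) (by omega)
            · rcases Nat.lt_or_ge v 491667 with h | h
              · exact edgesRangeI_spec iota E 1 3937 487730 edges_1_132 v (by omega) (by omega)
              · rcases Nat.lt_or_ge v 495630 with h | h
                · exact edgesRangeI_spec iota E 1 3963 491667 edges_1_133 v (by omega) (by omega)
                · exact edgesRangeI_spec iota E 1 4460 495630 edges_1_134 v (by omega) (by omega)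
          · rcases Nat.lt_or_ge v 513232 with h | h
            · rcases Nat.lt_or_ge v 504571 with h | h
              · exact edgesRangeI_spec iota E 1 4481 500090 edges_1_135 v (by omega) (by omega)
              · rcases Nat.lt_or_ge v 508837 with h | h
                · exact edgesRangeI_spec iota E 1 4266 504571 edges_1_136 v (by omega) (by omega)
                · exact edgesRangeI_spec iota E 1 4395 508837 edges_1_137 v (by omega) (by omega)
            · rcases Nat.lt_or_ge v 517512 with h | h
              · exact edgesRangeI_spec iota E 1 4280 513232 edges_1_138 v (by omega) (by omega)
              · rcases Nat.lt_or_ge v 522362 with h | h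
                · exact edgesRangeI_spec iota E 1 4850 517512 edges_1_139 v (by omega) (by omega)
                · exact edgesRangeI_spec iota E 1 4216 522362 edges_1_140 v (by omega) (by omega)
        · rcases Nat.lt_or_ge v 539927 with h | h
          · rcases Nat.lt_or_ge v 533058 with h | h
            · rcases Nat.lt_or_ge v 530739 with h | h
              · exact edgesRangeI_spec iota E 1 4161 526578 edges_1_141 v (by omega) (by omega)
              · exact edgesRangeI_spec iota E 1 2319 530739 edges_1_142 v (by omega) (by omega)
            · rcases Nat.lt_or_ge v 535414 with h | h
              · exact edgesRangeI_spec iota E 1 2356 533058 edges_1_143 v (by omega) (by omega)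
              · rcases Nat.lt_or_ge v 537721 with h | h
                · exact edgesRangeI_spec iota E 1 2307 535414 edges_1_144 v (by omega) (by omega)
                · exact edgesRangeI_spec iota E 1 2206 537721 edges_1_145 v (by omega) (by omega)
          · rcases Nat.lt_or_ge v 546453 with h | h
            · rcases Nat.lt_or_ge v 541984 with h | h
              · exact edgesRangeI_spec iota E 1 2057 539927 edges_1_146 v (by omega) (by omega)
              · rcases Nat.lt_or_ge v 544309 with h | h
                · exact edgesRangeI_spec iota E 1 2325 541984 edges_1_147 v (by omega) (by omega)
                · exact edgesRangeI_spec iota E 1 2144 544309 edges_1_148 v (by omega) (by omega)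
            · rcases Nat.lt_or_ge v 548470 with h | h
              · exact edgesRangeI_spec iota E 1 2017 546453 edges_1_149 v (by omega) (by omega)
              · rcases Nat.lt_or_ge v 550550 with h | h
                · exact edgesRangeI_spec iota E 1 2080 548470 edges_1_150 v (by omega) (by omega)
                · exact edgesRangeI_spec iota E 1 1969 550550 edges_1_151 v (by omega) (by omega)
      · rcases Nat.lt_or_ge v 573176 with h | h
        · rcases Nat.lt_or_ge v 561974 with h | h
          · rcases Nat.lt_or_ge v 556328 with h | h
            · rcases Nat.lt_or_ge v 554410 with h | h
              · exact edgesRangeI_spec iota E 1 1891 552519 edges_1_152 v (by omega) (by omega)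
              · exact edgesRangeI_spec iota E 1 1918 554410 edges_1_153 v (by omega) (by omega)
            · rcases Nat.lt_or_ge v 558176 with h | h
              · exact edgesRangeI_spec iota E 1 1848 556328 edges_1_154 v (by omega) (by omega)
              · rcases Nat.lt_or_ge v 560066 with h | h
                · exact edgesRangeI_spec iota E 1 1890 558176 edges_1_155 v (by omega) (by omega)
                · exact edgesRangeI_spec iota E 1 1908 560066 edges_1_156 v (by omega) (by omega)
          · rcases Nat.lt_or_ge v 567707 with h | h
            · rcases Nat.lt_or_ge v 563903 with h | h
              · exact edgesRangeI_spec iota E 1 1929 561974 edges_1_157 v (by omega) (by omega)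
              · rcases Nat.lt_or_ge v 565713 with h | h
                · exact edgesRangeI_spec iota E 1 1810 563903 edges_1_158 v (by omega) (by omega)
                · exact edgesRangeI_spec iota E 1 1994 565713 edges_1_159 v (by omega) (by omega)
            · rcases Nat.lt_or_ge v 569672 with h | h
              · exact edgesRangeI_spec iota E 1 1965 567707 edges_1_160 v (by omega) (by omega)
              · rcases Nat.lt_or_ge v 571511 with h | h
                · exact edgesRangeI_spec iota E 1 1839 569672 edges_1_161 v (by omega) (by omega)
                · exact edgesRangeI_spec iota E 1 1665 571511 edges_1_162 v (by omega) (by omega)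
        · rcases Nat.lt_or_ge v 581224 with h | h
          · rcases Nat.lt_or_ge v 576538 with h | h
            · rcases Nat.lt_or_ge v 574854 with h | h
              · exact edgesRangeI_spec iota E 1 1678 573176 edges_1_163 v (by omega) (by omega)
              · exact edgesRangeI_spec iota E 1 1684 574854 edges_1_164 v (by omega) (by omega)
            · rcases Nat.lt_or_ge v 578208 with h | h
              · exact edgesRangeI_spec iota E 1 1670 576538 edges_1_165 v (by omega) (by omega)
              · rcases Nat.lt_or_ge v 579811 with h | h
                · exact edgesRangeI_spec iota E 1 1603 578208 edges_1_166 v (by omega) (by omega)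
                · exact edgesRangeI_spec iota E 1 1413 579811 edges_1_167 v (by omega) (by omega)
          · rcases Nat.lt_or_ge v 585483 with h | h
            · rcases Nat.lt_or_ge v 582824 with h | h
              · exact edgesRangeI_spec iota E 1 1600 581224 edges_1_168 v (by omega) (by omega)
              · rcases Nat.lt_or_ge v 584257 with h | h
                · exact edgesRangeI_spec iota E 1 1433 582824 edges_1_169 v (by omega) (by omega)
                · exact edgesRangeI_spec iota E 1 1226 584257 edges_1_170 v (by omega) (by omega)
            · rcases Nat.lt_or_ge v 586764 with h | h
              · exact edgesRangeI_spec iota E 1 1281 585483 edges_1_171 v (by omega) (by omega)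
              · rcases Nat.lt_or_ge v 587839 with h | h
                · exact edgesRangeI_spec iota E 1 1075 586764 edges_1_172 v (by omega) (by omega)
                · exact edgesRangeI_spec iota E 1 652 587839 edges_1_173 v (by omega) (by omega)

theorem edgesx_2 : ∀ v, v < 588491 → edgeOKI iota E 2 v = true := by
  intro v hv
  rcases Nat.lt_or_ge v 313034 with h | h
  · rcases Nat.lt_or_ge v 154427 with h | h
    · rcases Nat.lt_or_ge v 76655 with h | h
      · rcases Nat.lt_or_ge v 39964 with h | h
        · rcases Nat.lt_or_ge v 20547 with h | h
          · rcases Nat.lt_or_ge v 10220 with h | h
            · rcases Nat.lt_or_ge v 5206 with h | h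
              · rcases Nat.lt_or_ge v 2637 with h | h
                · exact edgesRangeI_spec iota E 2 2637 0 edges_2_0 v (by omega) (by omega)
                · exact edgesRangeI_spec iota E 2 2569 2637 edges_2_1 v (by omega) (by omega)
              · rcases Nat.lt_or_ge v 7744 with h | h
                · exact edgesRangeI_spec iota E 2 2538 5206 edges_2_2 v (by omega) (by omega)
                · exact edgesRangeI_spec iota E 2 2476 7744 edges_2_3 v (by omega) (by omega)
            · rcases Nat.lt_or_ge v 15481 with h | h
              · rcases Nat.lt_or_ge v 12934 with h | h
                · exact edgesRangeI_spec iota E 2 2714 10220 edges_2_4 v (by omega) (by omega)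
                · exact edgesRangeI_spec iota E 2 2547 12934 edges_2_5 v (by omega) (by omega)
              · rcases Nat.lt_or_ge v 18058 with h | h
                · exact edgesRangeI_spec iota E 2 2577 15481 edges_2_6 v (by omega) (by omega)
                · exact edgesRangeI_spec iota E 2 2489 18058 edges_2_7 v (by omega) (by omega)
          · rcases Nat.lt_or_ge v 30560 with h | h
            · rcases Nat.lt_or_ge v 25488 with h | h
              · rcases Nat.lt_or_ge v 23111 with h | h
                · exact edgesRangeI_spec iota E 2 2564 20547 edges_2_8 v (by omega) (by omega)
                · exact edgesRangeI_spec iota E 2 2377 23111 edges_2_9 v (by omega) (by omega)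
              · rcases Nat.lt_or_ge v 28122 with h | h
                · exact edgesRangeI_spec iota E 2 2634 25488 edges_2_10 v (by omega) (by omega)
                · exact edgesRangeI_spec iota E 2 2438 28122 edges_2_11 v (by omega) (by omega)
            · rcases Nat.lt_or_ge v 35328 with h | h
              · rcases Nat.lt_or_ge v 32936 with h | h
                · exact edgesRangeI_spec iota E 2 2376 30560 edges_2_12 v (by omega) (by omega)
                · exact edgesRangeI_spec iota E 2 2392 32936 edges_2_13 v (by omega) (by omega)
              · rcases Nat.lt_or_ge v 37668 with h | h
                · exact edgesRangeI_spec iota E 2 2340 35328 edges_2_14 v (by omega) (by omega)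
                · exact edgesRangeI_spec iota E 2 2296 37668 edges_2_15 v (by omega) (by omega)
        · rcases Nat.lt_or_ge v 57791 with h | h
          · rcases Nat.lt_or_ge v 48976 with h | h
            · rcases Nat.lt_or_ge v 44553 with h | h
              · rcases Nat.lt_or_ge v 42295 with h | h
                · exact edgesRangeI_spec iota E 2 2331 39964 edges_2_16 v (by omega) (by omega)
                · exact edgesRangeI_spec iota E 2 2258 42295 edges_2_17 v (by omega) (by omega)
              · rcases Nat.lt_or_ge v 46732 with h | h
                · exact edgesRangeI_spec iota E 2 2179 44553 edges_2_18 v (by omega) (by omega)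
                · exact edgesRangeI_spec iota E 2 2244 46732 edges_2_19 v (by omega) (by omega)
            · rcases Nat.lt_or_ge v 53468 with h | h
              · rcases Nat.lt_or_ge v 51198 with h | h
                · exact edgesRangeI_spec iota E 2 2222 48976 edges_2_20 v (by omega) (by omega)
                · exact edgesRangeI_spec iota E 2 2270 51198 edges_2_21 v (by omega) (by omega)
              · rcases Nat.lt_or_ge v 55640 with h | h
                · exact edgesRangeI_spec iota E 2 2172 53468 edges_2_22 v (by omega) (by omega)
                · exact edgesRangeI_spec iota E 2 2151 55640 edges_2_23 v (by omega) (by omega)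
          · rcases Nat.lt_or_ge v 67139 with h | h
            · rcases Nat.lt_or_ge v 62415 with h | h
              · rcases Nat.lt_or_ge v 59929 with h | h
                · exact edgesRangeI_spec iota E 2 2138 57791 edges_2_24 v (by omega) (by omega)
                · exact edgesRangeI_spec iota E 2 2486 59929 edges_2_25 v (by omega) (by omega)
              · rcases Nat.lt_or_ge v 64740 with h | h
                · exact edgesRangeI_spec iota E 2 2325 62415 edges_2_26 v (by omega) (by omega)
                · exact edgesRangeI_spec iota E 2 2399 64740 edges_2_27 v (by omega) (by omega)
            · rcases Nat.lt_or_ge v 71947 with h | h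
              · rcases Nat.lt_or_ge v 69540 with h | h
                · exact edgesRangeI_spec iota E 2 2401 67139 edges_2_28 v (by omega) (by omega)
                · exact edgesRangeI_spec iota E 2 2407 69540 edges_2_29 v (by omega) (by omega)
              · rcases Nat.lt_or_ge v 74345 with h | h
                · exact edgesRangeI_spec iota E 2 2398 71947 edges_2_30 v (by omega) (by omega)
                · exact edgesRangeI_spec iota E 2 2310 74345 edges_2_31 v (by omega) (by omega)
      · rcases Nat.lt_or_ge v 114410 with h | h
        · rcases Nat.lt_or_ge v 95533 with h | h
          · rcases Nat.lt_or_ge v 86234 with h | h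
            · rcases Nat.lt_or_ge v 81346 with h | h
              · rcases Nat.lt_or_ge v 79061 with h | h
                · exact edgesRangeI_spec iota E 2 2406 76655 edges_2_32 v (by omega) (by omega)
                · exact edgesRangeI_spec iota E 2 2285 79061 edges_2_33 v (by omega) (by omega)
              · rcases Nat.lt_or_ge v 83822 with h | h
                · exact edgesRangeI_spec iota E 2 2476 81346 edges_2_34 v (by omega) (by omega)
                · exact edgesRangeI_spec iota E 2 2412 83822 edges_2_35 v (by omega) (by omega)
            · rcases Nat.lt_or_ge v 90973 with h | h
              · rcases Nat.lt_or_ge v 88699 with h | h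
                · exact edgesRangeI_spec iota E 2 2465 86234 edges_2_36 v (by omega) (by omega)
                · exact edgesRangeI_spec iota E 2 2274 88699 edges_2_37 v (by omega) (by omega)
              · rcases Nat.lt_or_ge v 93379 with h | h
                · exact edgesRangeI_spec iota E 2 2406 90973 edges_2_38 v (by omega) (by omega)
                · exact edgesRangeI_spec iota E 2 2154 93379 edges_2_39 v (by omega) (by omega)
          · rcases Nat.lt_or_ge v 104902 with h | h
            · rcases Nat.lt_or_ge v 100224 with h | h
              · rcases Nat.lt_or_ge v 97840 with h | h
                · exact edgesRangeI_spec iota E 2 2307 95533 edges_2_40 v (by omega) (by omega)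
                · exact edgesRangeI_spec iota E 2 2384 97840 edges_2_41 v (by omega) (by omega)
              · rcases Nat.lt_or_ge v 102596 with h | h
                · exact edgesRangeI_spec iota E 2 2372 100224 edges_2_42 v (by omega) (by omega)
                · exact edgesRangeI_spec iota E 2 2306 102596 edges_2_43 v (by omega) (by omega)
            · rcases Nat.lt_or_ge v 109680 with h | h
              · rcases Nat.lt_or_ge v 107291 with h | h
                · exact edgesRangeI_spec iota E 2 2389 104902 edges_2_44 v (by omega) (by omega)
                · exact edgesRangeI_spec iota E 2 2389 107291 edges_2_45 v (by omega) (by omega)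
              · rcases Nat.lt_or_ge v 111990 with h | h
                · exact edgesRangeI_spec iota E 2 2310 109680 edges_2_46 v (by omega) (by omega)
                · exact edgesRangeI_spec iota E 2 2420 111990 edges_2_47 v (by omega) (by omega)
        · rcases Nat.lt_or_ge v 133458 with h | h
          · rcases Nat.lt_or_ge v 123803 with h | h
            · rcases Nat.lt_or_ge v 119074 with h | h
              · rcases Nat.lt_or_ge v 116937 with h | h
                · exact edgesRangeI_spec iota E 2 2527 114410 edges_2_48 v (by omega) (by omega)
                · exact edgesRangeI_spec iota E 2 2137 116937 edges_2_49 v (by omega) (by omega)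
              · rcases Nat.lt_or_ge v 121414 with h | h
                · exact edgesRangeI_spec iota E 2 2340 119074 edges_2_50 v (by omega) (by omega)
                · exact edgesRangeI_spec iota E 2 2389 121414 edges_2_51 v (by omega) (by omega)
            · rcases Nat.lt_or_ge v 128513 with h | h
              · rcases Nat.lt_or_ge v 126087 with h | h
                · exact edgesRangeI_spec iota E 2 2284 123803 edges_2_52 v (by omega) (by omega)
                · exact edgesRangeI_spec iota E 2 2426 126087 edges_2_53 v (by omega) (by omega)
              · rcases Nat.lt_or_ge v 131032 with h | h
                · exact edgesRangeI_spec iota E 2 2519 128513 edges_2_54 v (by omega) (by omega)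
                · exact edgesRangeI_spec iota E 2 2426 131032 edges_2_55 v (by omega) (by omega)
          · rcases Nat.lt_or_ge v 142668 with h | h
            · rcases Nat.lt_or_ge v 138206 with h | h
              · rcases Nat.lt_or_ge v 135916 with h | h
                · exact edgesRangeI_spec iota E 2 2458 133458 edges_2_56 v (by omega) (by omega)
                · exact edgesRangeI_spec iota E 2 2290 135916 edges_2_57 v (by omega) (by omega)
              · rcases Nat.lt_or_ge v 140355 with h | h
                · exact edgesRangeI_spec iota E 2 2149 138206 edges_2_58 v (by omega) (by omega)
                · exact edgesRangeI_spec iota E 2 2313 140355 edges_2_59 v (by omega) (by omega)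
            · rcases Nat.lt_or_ge v 147375 with h | h
              · rcases Nat.lt_or_ge v 145009 with h | h
                · exact edgesRangeI_spec iota E 2 2341 142668 edges_2_60 v (by omega) (by omega)
                · exact edgesRangeI_spec iota E 2 2366 145009 edges_2_61 v (by omega) (by omega)
              · rcases Nat.lt_or_ge v 149562 with h | h
                · exact edgesRangeI_spec iota E 2 2187 147375 edges_2_62 v (by omega) (by omega)
                · rcases Nat.lt_or_ge v 151995 with h | h
                  · exact edgesRangeI_spec iota E 2 2433 149562 edges_2_63 v (by omega) (by omega)
                  · exact edgesRangeI_spec iota E 2 2432 151995 edges_2_64 v (by omega) (by omega)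
    · rcases Nat.lt_or_ge v 233283 with h | h
      · rcases Nat.lt_or_ge v 192037 with h | h
        · rcases Nat.lt_or_ge v 173223 with h | h
          · rcases Nat.lt_or_ge v 163792 with h | h
            · rcases Nat.lt_or_ge v 158996 with h | h
              · rcases Nat.lt_or_ge v 156718 with h | h
                · exact edgesRangeI_spec iota E 2 2291 154427 edges_2_65 v (by omega) (by omega)
                · exact edgesRangeI_spec iota E 2 2278 156718 edges_2_66 v (by omega) (by omega)
              · rcases Nat.lt_or_ge v 161461 with h | h
                · exact edgesRangeI_spec iota E 2 2465 158996 edges_2_67 v (by omega) (by omega)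
                · exact edgesRangeI_spec iota E 2 2331 161461 edges_2_68 v (by omega) (by omega)
            · rcases Nat.lt_or_ge v 168393 with h | h
              · rcases Nat.lt_or_ge v 166030 with h | h
                · exact edgesRangeI_spec iota E 2 2238 163792 edges_2_69 v (by omega) (by omega)
                · exact edgesRangeI_spec iota E 2 2363 166030 edges_2_70 v (by omega) (by omega)
              · rcases Nat.lt_or_ge v 170794 with h | h
                · exact edgesRangeI_spec iota E 2 2401 168393 edges_2_71 v (by omega) (by omega)
                · exact edgesRangeI_spec iota E 2 2429 170794 edges_2_72 v (by omega) (by omega)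
          · rcases Nat.lt_or_ge v 182751 with h | h
            · rcases Nat.lt_or_ge v 177953 with h | h
              · rcases Nat.lt_or_ge v 175539 with h | h
                · exact edgesRangeI_spec iota E 2 2316 173223 edges_2_73 v (by omega) (by omega)
                · exact edgesRangeI_spec iota E 2 2414 175539 edges_2_74 v (by omega) (by omega)
              · rcases Nat.lt_or_ge v 180386 with h | h
                · exact edgesRangeI_spec iota E 2 2433 177953 edges_2_75 v (by omega) (by omega)
                · exact edgesRangeI_spec iota E 2 2365 180386 edges_2_76 v (by omega) (by omega)
            · rcases Nat.lt_or_ge v 187697 with h | h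
              · rcases Nat.lt_or_ge v 185100 with h | h
                · exact edgesRangeI_spec iota E 2 2349 182751 edges_2_77 v (by omega) (by omega)
                · exact edgesRangeI_spec iota E 2 2597 185100 edges_2_78 v (by omega) (by omega)
              · rcases Nat.lt_or_ge v 189872 with h | h
                · exact edgesRangeI_spec iota E 2 2175 187697 edges_2_79 v (by omega) (by omega)
                · exact edgesRangeI_spec iota E 2 2165 189872 edges_2_80 v (by omega) (by omega)
        · rcases Nat.lt_or_ge v 211066 with h | h
          · rcases Nat.lt_or_ge v 201214 with h | h
            · rcases Nat.lt_or_ge v 196687 with h | h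
              · rcases Nat.lt_or_ge v 194238 with h | h
                · exact edgesRangeI_spec iota E 2 2201 192037 edges_2_81 v (by omega) (by omega)
                · exact edgesRangeI_spec iota E 2 2449 194238 edges_2_82 v (by omega) (by omega)
              · rcases Nat.lt_or_ge v 198954 with h | h
                · exact edgesRangeI_spec iota E 2 2267 196687 edges_2_83 v (by omega) (by omega)
                · exact edgesRangeI_spec iota E 2 2260 198954 edges_2_84 v (by omega) (by omega)
            · rcases Nat.lt_or_ge v 206124 with h | h
              · rcases Nat.lt_or_ge v 203713 with h | h
                · exact edgesRangeI_spec iota E 2 2499 201214 edges_2_85 v (by omega) (by omega)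
                · exact edgesRangeI_spec iota E 2 2411 203713 edges_2_86 v (by omega) (by omega)
              · rcases Nat.lt_or_ge v 208510 with h | h
                · exact edgesRangeI_spec iota E 2 2386 206124 edges_2_87 v (by omega) (by omega)
                · exact edgesRangeI_spec iota E 2 2556 208510 edges_2_88 v (by omega) (by omega)
          · rcases Nat.lt_or_ge v 220899 with h | h
            · rcases Nat.lt_or_ge v 215880 with h | h
              · rcases Nat.lt_or_ge v 213441 with h | h
                · exact edgesRangeI_spec iota E 2 2375 211066 edges_2_89 v (by omega) (by omega)
                · exact edgesRangeI_spec iota E 2 2439 213441 edges_2_90 v (by omega) (by omega)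
              · rcases Nat.lt_or_ge v 218268 with h | h
                · exact edgesRangeI_spec iota E 2 2388 215880 edges_2_91 v (by omega) (by omega)
                · exact edgesRangeI_spec iota E 2 2631 218268 edges_2_92 v (by omega) (by omega)
            · rcases Nat.lt_or_ge v 225712 with h | h
              · rcases Nat.lt_or_ge v 223388 with h | h
                · exact edgesRangeI_spec iota E 2 2489 220899 edges_2_93 v (by omega) (by omega)
                · exact edgesRangeI_spec iota E 2 2324 223388 edges_2_94 v (by omega) (by omega)
              · rcases Nat.lt_or_ge v 228239 with h | h
                · exact edgesRangeI_spec iota E 2 2527 225712 edges_2_95 v (by omega) (by omega)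
                · rcases Nat.lt_or_ge v 230815 with h | h
                  · exact edgesRangeI_spec iota E 2 2576 228239 edges_2_96 v (by omega) (by omega)
                  · exact edgesRangeI_spec iota E 2 2468 230815 edges_2_97 v (by omega) (by omega)
      · rcases Nat.lt_or_ge v 272061 with h | h
        · rcases Nat.lt_or_ge v 252824 with h | h
          · rcases Nat.lt_or_ge v 242941 with h | h
            · rcases Nat.lt_or_ge v 238164 with h | h
              · rcases Nat.lt_or_ge v 235809 with h | h
                · exact edgesRangeI_spec iota E 2 2526 233283 edges_2_98 v (by omega) (by omega)
                · exact edgesRangeI_spec iota E 2 2355 235809 edges_2_99 v (by omega) (by omega)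
              · rcases Nat.lt_or_ge v 240642 with h | h
                · exact edgesRangeI_spec iota E 2 2478 238164 edges_2_100 v (by omega) (by omega)
                · exact edgesRangeI_spec iota E 2 2299 240642 edges_2_101 v (by omega) (by omega)
            · rcases Nat.lt_or_ge v 247674 with h | h
              · rcases Nat.lt_or_ge v 245236 with h | h
                · exact edgesRangeI_spec iota E 2 2295 242941 edges_2_102 v (by omega) (by omega)
                · exact edgesRangeI_spec iota E 2 2438 245236 edges_2_103 v (by omega) (by omega)
              · rcases Nat.lt_or_ge v 250415 with h | h
                · exact edgesRangeI_spec iota E 2 2741 247674 edges_2_104 v (by omega) (by omega)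
                · exact edgesRangeI_spec iota E 2 2409 250415 edges_2_105 v (by omega) (by omega)
          · rcases Nat.lt_or_ge v 262608 with h | h
            · rcases Nat.lt_or_ge v 257538 with h | h
              · rcases Nat.lt_or_ge v 255262 with h | h
                · exact edgesRangeI_spec iota E 2 2438 252824 edges_2_106 v (by omega) (by omega)
                · exact edgesRangeI_spec iota E 2 2276 255262 edges_2_107 v (by omega) (by omega)
              · rcases Nat.lt_or_ge v 260098 with h | h
                · exact edgesRangeI_spec iota E 2 2560 257538 edges_2_108 v (by omega) (by omega)
                · exact edgesRangeI_spec iota E 2 2510 260098 edges_2_109 v (by omega) (by omega)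
            · rcases Nat.lt_or_ge v 267277 with h | h
              · rcases Nat.lt_or_ge v 265018 with h | h
                · exact edgesRangeI_spec iota E 2 2410 262608 edges_2_110 v (by omega) (by omega)
                · exact edgesRangeI_spec iota E 2 2259 265018 edges_2_111 v (by omega) (by omega)
              · rcases Nat.lt_or_ge v 269587 with h | h
                · exact edgesRangeI_spec iota E 2 2310 267277 edges_2_112 v (by omega) (by omega)
                · exact edgesRangeI_spec iota E 2 2474 269587 edges_2_113 v (by omega) (by omega)
        · rcases Nat.lt_or_ge v 291810 with h | h
          · rcases Nat.lt_or_ge v 281930 with h | h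
            · rcases Nat.lt_or_ge v 276998 with h | h
              · rcases Nat.lt_or_ge v 274459 with h | h
                · exact edgesRangeI_spec iota E 2 2398 272061 edges_2_114 v (by omega) (by omega)
                · exact edgesRangeI_spec iota E 2 2539 274459 edges_2_115 v (by omega) (by omega)
              · rcases Nat.lt_or_ge v 279471 with h | h
                · exact edgesRangeI_spec iota E 2 2473 276998 edges_2_116 v (by omega) (by omega)
                · exact edgesRangeI_spec iota E 2 2459 279471 edges_2_117 v (by omega) (by omega)
            · rcases Nat.lt_or_ge v 286749 with h | h
              · rcases Nat.lt_or_ge v 284366 with h | h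
                · exact edgesRangeI_spec iota E 2 2436 281930 edges_2_118 v (by omega) (by omega)
                · exact edgesRangeI_spec iota E 2 2383 284366 edges_2_119 v (by omega) (by omega)
              · rcases Nat.lt_or_ge v 289281 with h | h
                · exact edgesRangeI_spec iota E 2 2532 286749 edges_2_120 v (by omega) (by omega)
                · exact edgesRangeI_spec iota E 2 2529 289281 edges_2_121 v (by omega) (by omega)
          · rcases Nat.lt_or_ge v 301516 with h | h
            · rcases Nat.lt_or_ge v 296732 with h | h
              · rcases Nat.lt_or_ge v 294177 with h | h
                · exact edgesRangeI_spec iota E 2 2367 291810 edges_2_122 v (by omega) (by omega)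
                · exact edgesRangeI_spec iota E 2 2555 294177 edges_2_123 v (by omega) (by omega)
              · rcases Nat.lt_or_ge v 299232 with h | h
                · exact edgesRangeI_spec iota E 2 2500 296732 edges_2_124 v (by omega) (by omega)
                · exact edgesRangeI_spec iota E 2 2284 299232 edges_2_125 v (by omega) (by omega)
            · rcases Nat.lt_or_ge v 306103 with h | h
              · rcases Nat.lt_or_ge v 303827 with h | h
                · exact edgesRangeI_spec iota E 2 2311 301516 edges_2_126 v (by omega) (by omega)
                · exact edgesRangeI_spec iota E 2 2276 303827 edges_2_127 v (by omega) (by omega)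
              · rcases Nat.lt_or_ge v 308291 with h | h
                · exact edgesRangeI_spec iota E 2 2188 306103 edges_2_128 v (by omega) (by omega)
                · rcases Nat.lt_or_ge v 310526 with h | h
                  · exact edgesRangeI_spec iota E 2 2235 308291 edges_2_129 v (by omega) (by omega)
                  · exact edgesRangeI_spec iota E 2 2508 310526 edges_2_130 v (by omega) (by omega)
  · rcases Nat.lt_or_ge v 476526 with h | h
    · rcases Nat.lt_or_ge v 394334 with h | h
      · rcases Nat.lt_or_ge v 351893 with h | h
        · rcases Nat.lt_or_ge v 332993 with h | h
          · rcases Nat.lt_or_ge v 323186 with h | h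
            · rcases Nat.lt_or_ge v 318226 with h | h
              · rcases Nat.lt_or_ge v 315640 with h | h
                · exact edgesRangeI_spec iota E 2 2606 313034 edges_2_131 v (by omega) (by omega)
                · exact edgesRangeI_spec iota E 2 2586 315640 edges_2_132 v (by omega) (by omega)
              · rcases Nat.lt_or_ge v 320689 with h | h
                · exact edgesRangeI_spec iota E 2 2463 318226 edges_2_133 v (by omega) (by omega)
                · exact edgesRangeI_spec iota E 2 2497 320689 edges_2_134 v (by omega) (by omega)
            · rcases Nat.lt_or_ge v 328018 with h | h
              · rcases Nat.lt_or_ge v 325563 with h | h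
                · exact edgesRangeI_spec iota E 2 2377 323186 edges_2_135 v (by omega) (by omega)
                · exact edgesRangeI_spec iota E 2 2455 325563 edges_2_136 v (by omega) (by omega)
              · rcases Nat.lt_or_ge v 330589 with h | h
                · exact edgesRangeI_spec iota E 2 2571 328018 edges_2_137 v (by omega) (by omega)
                · exact edgesRangeI_spec iota E 2 2404 330589 edges_2_138 v (by omega) (by omega)
          · rcases Nat.lt_or_ge v 342852 with h | h
            · rcases Nat.lt_or_ge v 337836 with h | h
              · rcases Nat.lt_or_ge v 335288 with h | h
                · exact edgesRangeI_spec iota E 2 2295 332993 edges_2_139 v (by omega) (by omega)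
                · exact edgesRangeI_spec iota E 2 2548 335288 edges_2_140 v (by omega) (by omega)
              · rcases Nat.lt_or_ge v 340364 with h | h
                · exact edgesRangeI_spec iota E 2 2528 337836 edges_2_141 v (by omega) (by omega)
                · exact edgesRangeI_spec iota E 2 2488 340364 edges_2_142 v (by omega) (by omega)
            · rcases Nat.lt_or_ge v 347294 with h | h
              · rcases Nat.lt_or_ge v 345091 with h | h
                · exact edgesRangeI_spec iota E 2 2239 342852 edges_2_143 v (by omega) (by omega)
                · exact edgesRangeI_spec iota E 2 2203 345091 edges_2_144 v (by omega) (by omega)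
              · rcases Nat.lt_or_ge v 349436 with h | h
                · exact edgesRangeI_spec iota E 2 2142 347294 edges_2_145 v (by omega) (by omega)
                · exact edgesRangeI_spec iota E 2 2457 349436 edges_2_146 v (by omega) (by omega)
        · rcases Nat.lt_or_ge v 371165 with h | h
          · rcases Nat.lt_or_ge v 361697 with h | h
            · rcases Nat.lt_or_ge v 356816 with h | h
              · rcases Nat.lt_or_ge v 354357 with h | h
                · exact edgesRangeI_spec iota E 2 2464 351893 edges_2_147 v (by omega) (by omega)
                · exact edgesRangeI_spec iota E 2 2459 354357 edges_2_148 v (by omega) (by omega)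
              · rcases Nat.lt_or_ge v 359222 with h | h
                · exact edgesRangeI_spec iota E 2 2406 356816 edges_2_149 v (by omega) (by omega)
                · exact edgesRangeI_spec iota E 2 2475 359222 edges_2_150 v (by omega) (by omega)
            · rcases Nat.lt_or_ge v 366443 with h | h
              · rcases Nat.lt_or_ge v 364091 with h | h
                · exact edgesRangeI_spec iota E 2 2394 361697 edges_2_151 v (by omega) (by omega)
                · exact edgesRangeI_spec iota E 2 2352 364091 edges_2_152 v (by omega) (by omega)
              · rcases Nat.lt_or_ge v 368807 with h | h
                · exact edgesRangeI_spec iota E 2 2364 366443 edges_2_153 v (by omega) (by omega)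
                · exact edgesRangeI_spec iota E 2 2358 368807 edges_2_154 v (by omega) (by omega)
          · rcases Nat.lt_or_ge v 381722 with h | h
            · rcases Nat.lt_or_ge v 376309 with h | h
              · rcases Nat.lt_or_ge v 373717 with h | h
                · exact edgesRangeI_spec iota E 2 2552 371165 edges_2_155 v (by omega) (by omega)
                · exact edgesRangeI_spec iota E 2 2592 373717 edges_2_156 v (by omega) (by omega)
              · rcases Nat.lt_or_ge v 378890 with h | h
                · exact edgesRangeI_spec iota E 2 2581 376309 edges_2_157 v (by omega) (by omega)
                · exact edgesRangeI_spec iota E 2 2832 378890 edges_2_158 v (by omega) (by omega)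
            · rcases Nat.lt_or_ge v 386875 with h | h
              · rcases Nat.lt_or_ge v 384312 with h | h
                · exact edgesRangeI_spec iota E 2 2590 381722 edges_2_159 v (by omega) (by omega)
                · exact edgesRangeI_spec iota E 2 2563 384312 edges_2_160 v (by omega) (by omega)
              · rcases Nat.lt_or_ge v 389331 with h | h
                · exact edgesRangeI_spec iota E 2 2456 386875 edges_2_161 v (by omega) (by omega)
                · rcases Nat.lt_or_ge v 391878 with h | h
                  · exact edgesRangeI_spec iota E 2 2547 389331 edges_2_162 v (by omega) (by omega)
                  · exact edgesRangeI_spec iota E 2 2456 391878 edges_2_163 v (by omega) (by omega)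
      · rcases Nat.lt_or_ge v 434206 with h | h
        · rcases Nat.lt_or_ge v 414408 with h | h
          · rcases Nat.lt_or_ge v 403622 with h | h
            · rcases Nat.lt_or_ge v 398940 with h | h
              · rcases Nat.lt_or_ge v 396724 with h | h
                · exact edgesRangeI_spec iota E 2 2390 394334 edges_2_164 v (by omega) (by omega)
                · exact edgesRangeI_spec iota E 2 2216 396724 edges_2_165 v (by omega) (by omega)
              · rcases Nat.lt_or_ge v 401240 with h | h
                · exact edgesRangeI_spec iota E 2 2300 398940 edges_2_166 v (by omega) (by omega)
                · exact edgesRangeI_spec iota E 2 2382 401240 edges_2_167 v (by omega) (by omega)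
            · rcases Nat.lt_or_ge v 409006 with h | h
              · rcases Nat.lt_or_ge v 406170 with h | h
                · exact edgesRangeI_spec iota E 2 2548 403622 edges_2_168 v (by omega) (by omega)
                · exact edgesRangeI_spec iota E 2 2836 406170 edges_2_169 v (by omega) (by omega)
              · rcases Nat.lt_or_ge v 411740 with h | h
                · exact edgesRangeI_spec iota E 2 2734 409006 edges_2_170 v (by omega) (by omega)
                · exact edgesRangeI_spec iota E 2 2668 411740 edges_2_171 v (by omega) (by omega)
          · rcases Nat.lt_or_ge v 424287 with h | h
            · rcases Nat.lt_or_ge v 419387 with h | h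
              · rcases Nat.lt_or_ge v 416871 with h | h
                · exact edgesRangeI_spec iota E 2 2463 414408 edges_2_172 v (by omega) (by omega)
                · exact edgesRangeI_spec iota E 2 2516 416871 edges_2_173 v (by omega) (by omega)
              · rcases Nat.lt_or_ge v 421690 with h | h
                · exact edgesRangeI_spec iota E 2 2303 419387 edges_2_174 v (by omega) (by omega)
                · exact edgesRangeI_spec iota E 2 2597 421690 edges_2_175 v (by omega) (by omega)
            · rcases Nat.lt_or_ge v 429108 with h | h
              · rcases Nat.lt_or_ge v 426702 with h | h
                · exact edgesRangeI_spec iota E 2 2415 424287 edges_2_176 v (by omega) (by omega)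
                · exact edgesRangeI_spec iota E 2 2406 426702 edges_2_177 v (by omega) (by omega)
              · rcases Nat.lt_or_ge v 431730 with h | h
                · exact edgesRangeI_spec iota E 2 2622 429108 edges_2_178 v (by omega) (by omega)
                · exact edgesRangeI_spec iota E 2 2476 431730 edges_2_179 v (by omega) (by omega)
        · rcases Nat.lt_or_ge v 453695 with h | h
          · rcases Nat.lt_or_ge v 443708 with h | h
            · rcases Nat.lt_or_ge v 439149 with h | h
              · rcases Nat.lt_or_ge v 436691 with h | h
                · exact edgesRangeI_spec iota E 2 2485 434206 edges_2_180 v (by omega) (by omega)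
                · exact edgesRangeI_spec iota E 2 2458 436691 edges_2_181 v (by omega) (by omega)
              · rcases Nat.lt_or_ge v 441439 with h | h
                · exact edgesRangeI_spec iota E 2 2290 439149 edges_2_182 v (by omega) (by omega)
                · exact edgesRangeI_spec iota E 2 2269 441439 edges_2_183 v (by omega) (by omega)
            · rcases Nat.lt_or_ge v 448571 with h | h
              · rcases Nat.lt_or_ge v 446133 with h | h
                · exact edgesRangeI_spec iota E 2 2425 443708 edges_2_184 v (by omega) (by omega)
                · exact edgesRangeI_spec iota E 2 2438 446133 edges_2_185 v (by omega) (by omega)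
              · rcases Nat.lt_or_ge v 451051 with h | h
                · exact edgesRangeI_spec iota E 2 2480 448571 edges_2_186 v (by omega) (by omega)
                · exact edgesRangeI_spec iota E 2 2644 451051 edges_2_187 v (by omega) (by omega)
          · rcases Nat.lt_or_ge v 463644 with h | h
            · rcases Nat.lt_or_ge v 458486 with h | h
              · rcases Nat.lt_or_ge v 456109 with h | h
                · exact edgesRangeI_spec iota E 2 2414 453695 edges_2_188 v (by omega) (by omega)
                · exact edgesRangeI_spec iota E 2 2377 456109 edges_2_189 v (by omega) (by omega)
              · rcases Nat.lt_or_ge v 460981 with h | h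
                · exact edgesRangeI_spec iota E 2 2495 458486 edges_2_190 v (by omega) (by omega)
                · exact edgesRangeI_spec iota E 2 2663 460981 edges_2_191 v (by omega) (by omega)
            · rcases Nat.lt_or_ge v 468659 with h | h
              · rcases Nat.lt_or_ge v 466096 with h | h
                · exact edgesRangeI_spec iota E 2 2452 463644 edges_2_192 v (by omega) (by omega)
                · exact edgesRangeI_spec iota E 2 2563 466096 edges_2_193 v (by omega) (by omega)
              · rcases Nat.lt_or_ge v 471230 with h | h
                · exact edgesRangeI_spec iota E 2 2571 468659 edges_2_194 v (by omega) (by omega)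
                · rcases Nat.lt_or_ge v 473834 with h | h
                  · exact edgesRangeI_spec iota E 2 2604 471230 edges_2_195 v (by omega) (by omega)
                  · exact edgesRangeI_spec iota E 2 2692 473834 edges_2_196 v (by omega) (by omega)
    · rcases Nat.lt_or_ge v 546870 with h | h
      · rcases Nat.lt_or_ge v 516249 with h | h
        · rcases Nat.lt_or_ge v 496375 with h | h
          · rcases Nat.lt_or_ge v 486553 with h | h
            · rcases Nat.lt_or_ge v 481268 with h | h
              · rcases Nat.lt_or_ge v 478862 with h | h
                · exact edgesRangeI_spec iota E 2 2336 476526 edges_2_197 v (by omega) (by omega)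
                · exact edgesRangeI_spec iota E 2 2406 478862 edges_2_198 v (by omega) (by omega)
              · rcases Nat.lt_or_ge v 483982 with h | h
                · exact edgesRangeI_spec iota E 2 2714 481268 edges_2_199 v (by omega) (by omega)
                · exact edgesRangeI_spec iota E 2 2571 483982 edges_2_200 v (by omega) (by omega)
            · rcases Nat.lt_or_ge v 491401 with h | h
              · rcases Nat.lt_or_ge v 488954 with h | h
                · exact edgesRangeI_spec iota E 2 2401 486553 edges_2_201 v (by omega) (by omega)
                · exact edgesRangeI_spec iota E 2 2447 488954 edges_2_202 v (by omega) (by omega)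
              · rcases Nat.lt_or_ge v 494021 with h | h
                · exact edgesRangeI_spec iota E 2 2620 491401 edges_2_203 v (by omega) (by omega)
                · exact edgesRangeI_spec iota E 2 2354 494021 edges_2_204 v (by omega) (by omega)
          · rcases Nat.lt_or_ge v 506202 with h | h
            · rcases Nat.lt_or_ge v 501390 with h | h
              · rcases Nat.lt_or_ge v 498764 with h | h
                · exact edgesRangeI_spec iota E 2 2389 496375 edges_2_205 v (by omega) (by omega)
                · exact edgesRangeI_spec iota E 2 2626 498764 edges_2_206 v (by omega) (by omega)
              · rcases Nat.lt_or_ge v 504018 with h | h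
                · exact edgesRangeI_spec iota E 2 2628 501390 edges_2_207 v (by omega) (by omega)
                · exact edgesRangeI_spec iota E 2 2184 504018 edges_2_208 v (by omega) (by omega)
            · rcases Nat.lt_or_ge v 511374 with h | h
              · rcases Nat.lt_or_ge v 508706 with h | h
                · exact edgesRangeI_spec iota E 2 2504 506202 edges_2_209 v (by omega) (by omega)
                · exact edgesRangeI_spec iota E 2 2668 508706 edges_2_210 v (by omega) (by omega)
              · rcases Nat.lt_or_ge v 513820 with h | h
                · exact edgesRangeI_spec iota E 2 2446 511374 edges_2_211 v (by omega) (by omega)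
                · exact edgesRangeI_spec iota E 2 2429 513820 edges_2_212 v (by omega) (by omega)
        · rcases Nat.lt_or_ge v 533767 with h | h
          · rcases Nat.lt_or_ge v 526156 with h | h
            · rcases Nat.lt_or_ge v 521208 with h | h
              · rcases Nat.lt_or_ge v 518517 with h | h
                · exact edgesRangeI_spec iota E 2 2268 516249 edges_2_213 v (by omega) (by omega)
                · exact edgesRangeI_spec iota E 2 2691 518517 edges_2_214 v (by omega) (by omega)
              · rcases Nat.lt_or_ge v 523626 with h | h
                · exact edgesRangeI_spec iota E 2 2418 521208 edges_2_215 v (by omega) (by omega)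
                · exact edgesRangeI_spec iota E 2 2530 523626 edges_2_216 v (by omega) (by omega)
            · rcases Nat.lt_or_ge v 530763 with h | h
              · rcases Nat.lt_or_ge v 528612 with h | h
                · exact edgesRangeI_spec iota E 2 2456 526156 edges_2_217 v (by omega) (by omega)
                · exact edgesRangeI_spec iota E 2 2151 528612 edges_2_218 v (by omega) (by omega)
              · rcases Nat.lt_or_ge v 532217 with h | h
                · exact edgesRangeI_spec iota E 2 1454 530763 edges_2_219 v (by omega) (by omega)
                · exact edgesRangeI_spec iota E 2 1550 532217 edges_2_220 v (by omega) (by omega)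
          · rcases Nat.lt_or_ge v 539706 with h | h
            · rcases Nat.lt_or_ge v 536770 with h | h
              · rcases Nat.lt_or_ge v 535309 with h | h
                · exact edgesRangeI_spec iota E 2 1542 533767 edges_2_221 v (by omega) (by omega)
                · exact edgesRangeI_spec iota E 2 1461 535309 edges_2_222 v (by omega) (by omega)
              · rcases Nat.lt_or_ge v 538293 with h | h
                · exact edgesRangeI_spec iota E 2 1523 536770 edges_2_223 v (by omega) (by omega)
                · exact edgesRangeI_spec iota E 2 1413 538293 edges_2_224 v (by omega) (by omega)
            · rcases Nat.lt_or_ge v 542580 with h | h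
              · rcases Nat.lt_or_ge v 541126 with h | h
                · exact edgesRangeI_spec iota E 2 1420 539706 edges_2_225 v (by omega) (by omega)
                · exact edgesRangeI_spec iota E 2 1454 541126 edges_2_226 v (by omega) (by omega)
              · rcases Nat.lt_or_ge v 544032 with h | h
                · exact edgesRangeI_spec iota E 2 1452 542580 edges_2_227 v (by omega) (by omega)
                · rcases Nat.lt_or_ge v 545496 with h | h
                  · exact edgesRangeI_spec iota E 2 1464 544032 edges_2_228 v (by omega) (by omega)
                  · exact edgesRangeI_spec iota E 2 1374 545496 edges_2_229 v (by omega) (by omega)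
      · rcases Nat.lt_or_ge v 568907 with h | h
        · rcases Nat.lt_or_ge v 558183 with h | h
          · rcases Nat.lt_or_ge v 552546 with h | h
            · rcases Nat.lt_or_ge v 549718 with h | h
              · rcases Nat.lt_or_ge v 548297 with h | h
                · exact edgesRangeI_spec iota E 2 1427 546870 edges_2_230 v (by omega) (by omega)
                · exact edgesRangeI_spec iota E 2 1421 548297 edges_2_231 v (by omega) (by omega)
              · rcases Nat.lt_or_ge v 551151 with h | h
                · exact edgesRangeI_spec iota E 2 1433 549718 edges_2_232 v (by omega) (by omega)
                · exact edgesRangeI_spec iota E 2 1395 551151 edges_2_233 v (by omega) (by omega)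
            · rcases Nat.lt_or_ge v 555391 with h | h
              · rcases Nat.lt_or_ge v 553981 with h | h
                · exact edgesRangeI_spec iota E 2 1435 552546 edges_2_234 v (by omega) (by omega)
                · exact edgesRangeI_spec iota E 2 1410 553981 edges_2_235 v (by omega) (by omega)
              · rcases Nat.lt_or_ge v 556734 with h | h
                · exact edgesRangeI_spec iota E 2 1343 555391 edges_2_236 v (by omega) (by omega)
                · exact edgesRangeI_spec iota E 2 1449 556734 edges_2_237 v (by omega) (by omega)
          · rcases Nat.lt_or_ge v 563712 with h | h
            · rcases Nat.lt_or_ge v 560975 with h | h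
              · rcases Nat.lt_or_ge v 559577 with h | h
                · exact edgesRangeI_spec iota E 2 1394 558183 edges_2_238 v (by omega) (by omega)
                · exact edgesRangeI_spec iota E 2 1398 559577 edges_2_239 v (by omega) (by omega)
              · rcases Nat.lt_or_ge v 562430 with h | h
                · exact edgesRangeI_spec iota E 2 1455 560975 edges_2_240 v (by omega) (by omega)
                · exact edgesRangeI_spec iota E 2 1282 562430 edges_2_241 v (by omega) (by omega)
            · rcases Nat.lt_or_ge v 566279 with h | h
              · rcases Nat.lt_or_ge v 564979 with h | h
                · exact edgesRangeI_spec iota E 2 1267 563712 edges_2_242 v (by omega) (by omega)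
                · exact edgesRangeI_spec iota E 2 1300 564979 edges_2_243 v (by omega) (by omega)
              · rcases Nat.lt_or_ge v 567563 with h | h
                · exact edgesRangeI_spec iota E 2 1284 566279 edges_2_244 v (by omega) (by omega)
                · exact edgesRangeI_spec iota E 2 1344 567563 edges_2_245 v (by omega) (by omega)
        · rcases Nat.lt_or_ge v 578936 with h | h
          · rcases Nat.lt_or_ge v 573997 with h | h
            · rcases Nat.lt_or_ge v 571450 with h | h
              · rcases Nat.lt_or_ge v 570224 with h | h
                · exact edgesRangeI_spec iota E 2 1317 568907 edges_2_246 v (by omega) (by omega)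
                · exact edgesRangeI_spec iota E 2 1226 570224 edges_2_247 v (by omega) (by omega)
              · rcases Nat.lt_or_ge v 572773 with h | h
                · exact edgesRangeI_spec iota E 2 1323 571450 edges_2_248 v (by omega) (by omega)
                · exact edgesRangeI_spec iota E 2 1224 572773 edges_2_249 v (by omega) (by omega)
            · rcases Nat.lt_or_ge v 576464 with h | h
              · rcases Nat.lt_or_ge v 575196 with h | h
                · exact edgesRangeI_spec iota E 2 1199 573997 edges_2_250 v (by omega) (by omega)
                · exact edgesRangeI_spec iota E 2 1268 575196 edges_2_251 v (by omega) (by omega)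
              · rcases Nat.lt_or_ge v 577703 with h | h
                · exact edgesRangeI_spec iota E 2 1239 576464 edges_2_252 v (by omega) (by omega)
                · exact edgesRangeI_spec iota E 2 1233 577703 edges_2_253 v (by omega) (by omega)
          · rcases Nat.lt_or_ge v 583890 with h | h
            · rcases Nat.lt_or_ge v 581484 with h | h
              · rcases Nat.lt_or_ge v 580136 with h | h
                · exact edgesRangeI_spec iota E 2 1200 578936 edges_2_254 v (by omega) (by omega)
                · exact edgesRangeI_spec iota E 2 1348 580136 edges_2_255 v (by omega) (by omega)
              · rcases Nat.lt_or_ge v 582741 with h | h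
                · exact edgesRangeI_spec iota E 2 1257 581484 edges_2_256 v (by omega) (by omega)
                · exact edgesRangeI_spec iota E 2 1149 582741 edges_2_257 v (by omega) (by omega)
            · rcases Nat.lt_or_ge v 586250 with h | h
              · rcases Nat.lt_or_ge v 585115 with h | h
                · exact edgesRangeI_spec iota E 2 1225 583890 edges_2_258 v (by omega) (by omega)
                · exact edgesRangeI_spec iota E 2 1135 585115 edges_2_259 v (by omega) (by omega)
              · rcases Nat.lt_or_ge v 587422 with h | h
                · exact edgesRangeI_spec iota E 2 1172 586250 edges_2_260 v (by omega) (by omega)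
                · rcases Nat.lt_or_ge v 588470 with h | h
                  · exact edgesRangeI_spec iota E 2 1048 587422 edges_2_261 v (by omega) (by omega)
                  · exact edgesRangeI_spec iota E 2 21 588470 edges_2_262 v (by omega) (by omega)

theorem edgesx_3 : ∀ v, v < 588491 → edgeOKI iota E 3 v = true := by
  intro v hv
  rcases Nat.lt_or_ge v 288530 with h | h
  · rcases Nat.lt_or_ge v 135339 with h | h
    · rcases Nat.lt_or_ge v 67904 with h | h
      · rcases Nat.lt_or_ge v 32224 with h | h
        · rcases Nat.lt_or_ge v 13994 with h | h
          · rcases Nat.lt_or_ge v 4668 with h | h
            · exact edgesRangeI_spec iota E 3 4668 0 edges_3_0 v (by omega) (by omega)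
            · rcases Nat.lt_or_ge v 9318 with h | h
              · exact edgesRangeI_spec iota E 3 4650 4668 edges_3_1 v (by omega) (by omega)
              · exact edgesRangeI_spec iota E 3 4676 9318 edges_3_2 v (by omega) (by omega)
          · rcases Nat.lt_or_ge v 23109 with h | h
            · rcases Nat.lt_or_ge v 18601 with h | h
              · exact edgesRangeI_spec iota E 3 4607 13994 edges_3_3 v (by omega) (by omega)
              · exact edgesRangeI_spec iota E 3 4508 18601 edges_3_4 v (by omega) (by omega)
            · rcases Nat.lt_or_ge v 27618 with h | h
              · exact edgesRangeI_spec iota E 3 4509 23109 edges_3_5 v (by omega) (by omega)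
              · exact edgesRangeI_spec iota E 3 4606 27618 edges_3_6 v (by omega) (by omega)
        · rcases Nat.lt_or_ge v 49972 with h | h
          · rcases Nat.lt_or_ge v 40884 with h | h
            · rcases Nat.lt_or_ge v 36517 with h | h
              · exact edgesRangeI_spec iota E 3 4293 32224 edges_3_7 v (by omega) (by omega)
              · exact edgesRangeI_spec iota E 3 4367 36517 edges_3_8 v (by omega) (by omega)
            · rcases Nat.lt_or_ge v 45395 with h | h
              · exact edgesRangeI_spec iota E 3 4511 40884 edges_3_9 v (by omega) (by omega)
              · exact edgesRangeI_spec iota E 3 4577 45395 edges_3_10 v (by omega) (by omega)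
          · rcases Nat.lt_or_ge v 59105 with h | h
            · rcases Nat.lt_or_ge v 54576 with h | h
              · exact edgesRangeI_spec iota E 3 4604 49972 edges_3_11 v (by omega) (by omega)
              · exact edgesRangeI_spec iota E 3 4529 54576 edges_3_12 v (by omega) (by omega)
            · rcases Nat.lt_or_ge v 63484 with h | h
              · exact edgesRangeI_spec iota E 3 4379 59105 edges_3_13 v (by omega) (by omega)
              · exact edgesRangeI_spec iota E 3 4420 63484 edges_3_14 v (by omega) (by omega)
      · rcases Nat.lt_or_ge v 98845 with h | h
        · rcases Nat.lt_or_ge v 81168 with h | h
          · rcases Nat.lt_or_ge v 72203 with h | h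
            · exact edgesRangeI_spec iota E 3 4299 67904 edges_3_15 v (by omega) (by omega)
            · rcases Nat.lt_or_ge v 76701 with h | h
              · exact edgesRangeI_spec iota E 3 4498 72203 edges_3_16 v (by omega) (by omega)
              · exact edgesRangeI_spec iota E 3 4467 76701 edges_3_17 v (by omega) (by omega)
          · rcases Nat.lt_or_ge v 90064 with h | h
            · rcases Nat.lt_or_ge v 85542 with h | h
              · exact edgesRangeI_spec iota E 3 4374 81168 edges_3_18 v (by omega) (by omega)
              · exact edgesRangeI_spec iota E 3 4522 85542 edges_3_19 v (by omega) (by omega)
            · rcases Nat.lt_or_ge v 94519 with h | h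
              · exact edgesRangeI_spec iota E 3 4455 90064 edges_3_20 v (by omega) (by omega)
              · exact edgesRangeI_spec iota E 3 4326 94519 edges_3_21 v (by omega) (by omega)
        · rcases Nat.lt_or_ge v 117041 with h | h
          · rcases Nat.lt_or_ge v 107818 with h | h
            · rcases Nat.lt_or_ge v 103300 with h | h
              · exact edgesRangeI_spec iota E 3 4455 98845 edges_3_22 v (by omega) (by omega)
              · exact edgesRangeI_spec iota E 3 4518 103300 edges_3_23 v (by omega) (by omega)
            · rcases Nat.lt_or_ge v 112439 with h | h
              · exact edgesRangeI_spec iota E 3 4621 107818 edges_3_24 v (by omega) (by omega)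
              · exact edgesRangeI_spec iota E 3 4602 112439 edges_3_25 v (by omega) (by omega)
          · rcases Nat.lt_or_ge v 125991 with h | h
            · rcases Nat.lt_or_ge v 121557 with h | h
              · exact edgesRangeI_spec iota E 3 4516 117041 edges_3_26 v (by omega) (by omega)
              · exact edgesRangeI_spec iota E 3 4434 121557 edges_3_27 v (by omega) (by omega)
            · rcases Nat.lt_or_ge v 130683 with h | h
              · exact edgesRangeI_spec iota E 3 4692 125991 edges_3_28 v (by omega) (by omega)
              · exact edgesRangeI_spec iota E 3 4656 130683 edges_3_29 v (by omega) (by omega)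
    · rcases Nat.lt_or_ge v 206960 with h | h
      · rcases Nat.lt_or_ge v 168150 with h | h
        · rcases Nat.lt_or_ge v 149287 with h | h
          · rcases Nat.lt_or_ge v 140037 with h | h
            · exact edgesRangeI_spec iota E 3 4698 135339 edges_3_30 v (by omega) (by omega)
            · rcases Nat.lt_or_ge v 144742 with h | h
              · exact edgesRangeI_spec iota E 3 4705 140037 edges_3_31 v (by omega) (by omega)
              · exact edgesRangeI_spec iota E 3 4545 144742 edges_3_32 v (by omega) (by omega)
          · rcases Nat.lt_or_ge v 158752 with h | h
            · rcases Nat.lt_or_ge v 153971 with h | h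
              · exact edgesRangeI_spec iota E 3 4684 149287 edges_3_33 v (by omega) (by omega)
              · exact edgesRangeI_spec iota E 3 4781 153971 edges_3_34 v (by omega) (by omega)
            · rcases Nat.lt_or_ge v 163477 with h | h
              · exact edgesRangeI_spec iota E 3 4725 158752 edges_3_35 v (by omega) (by omega)
              · exact edgesRangeI_spec iota E 3 4673 163477 edges_3_36 v (by omega) (by omega)
        · rcases Nat.lt_or_ge v 187566 with h | h
          · rcases Nat.lt_or_ge v 177743 with h | h
            · rcases Nat.lt_or_ge v 172991 with h | h
              · exact edgesRangeI_spec iota E 3 4841 168150 edges_3_37 v (by omega) (by omega)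
              · exact edgesRangeI_spec iota E 3 4752 172991 edges_3_38 v (by omega) (by omega)
            · rcases Nat.lt_or_ge v 182608 with h | h
              · exact edgesRangeI_spec iota E 3 4865 177743 edges_3_39 v (by omega) (by omega)
              · exact edgesRangeI_spec iota E 3 4958 182608 edges_3_40 v (by omega) (by omega)
          · rcases Nat.lt_or_ge v 197374 with h | h
            · rcases Nat.lt_or_ge v 192511 with h | h
              · exact edgesRangeI_spec iota E 3 4945 187566 edges_3_41 v (by omega) (by omega)
              · exact edgesRangeI_spec iota E 3 4863 192511 edges_3_42 v (by omega) (by omega)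
            · rcases Nat.lt_or_ge v 202188 with h | h
              · exact edgesRangeI_spec iota E 3 4814 197374 edges_3_43 v (by omega) (by omega)
              · exact edgesRangeI_spec iota E 3 4772 202188 edges_3_44 v (by omega) (by omega)
      · rcases Nat.lt_or_ge v 246809 with h | h
        · rcases Nat.lt_or_ge v 226774 with h | h
          · rcases Nat.lt_or_ge v 216514 with h | h
            · rcases Nat.lt_or_ge v 211789 with h | h
              · exact edgesRangeI_spec iota E 3 4829 206960 edges_3_45 v (by omega) (by omega)
              · exact edgesRangeI_spec iota E 3 4725 211789 edges_3_46 v (by omega) (by omega)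
            · rcases Nat.lt_or_ge v 221587 with h | h
              · exact edgesRangeI_spec iota E 3 5073 216514 edges_3_47 v (by omega) (by omega)
              · exact edgesRangeI_spec iota E 3 5187 221587 edges_3_48 v (by omega) (by omega)
          · rcases Nat.lt_or_ge v 236882 with h | h
            · rcases Nat.lt_or_ge v 231856 with h | h
              · exact edgesRangeI_spec iota E 3 5082 226774 edges_3_49 v (by omega) (by omega)
              · exact edgesRangeI_spec iota E 3 5026 231856 edges_3_50 v (by omega) (by omega)
            · rcases Nat.lt_or_ge v 241777 with h | h
              · exact edgesRangeI_spec iota E 3 4895 236882 edges_3_51 v (by omega) (by omega)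
              · exact edgesRangeI_spec iota E 3 5032 241777 edges_3_52 v (by omega) (by omega)
        · rcases Nat.lt_or_ge v 267745 with h | h
          · rcases Nat.lt_or_ge v 257226 with h | h
            · rcases Nat.lt_or_ge v 252087 with h | h
              · exact edgesRangeI_spec iota E 3 5278 246809 edges_3_53 v (by omega) (by omega)
              · exact edgesRangeI_spec iota E 3 5139 252087 edges_3_54 v (by omega) (by omega)
            · rcases Nat.lt_or_ge v 262574 with h | h
              · exact edgesRangeI_spec iota E 3 5348 257226 edges_3_55 v (by omega) (by omega)
              · exact edgesRangeI_spec iota E 3 5171 262574 edges_3_56 v (by omega) (by omega)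
          · rcases Nat.lt_or_ge v 278067 with h | h
            · rcases Nat.lt_or_ge v 272889 with h | h
              · exact edgesRangeI_spec iota E 3 5144 267745 edges_3_57 v (by omega) (by omega)
              · exact edgesRangeI_spec iota E 3 5178 272889 edges_3_58 v (by omega) (by omega)
            · rcases Nat.lt_or_ge v 283315 with h | h
              · exact edgesRangeI_spec iota E 3 5248 278067 edges_3_59 v (by omega) (by omega)
              · exact edgesRangeI_spec iota E 3 5215 283315 edges_3_60 v (by omega) (by omega)
  · rcases Nat.lt_or_ge v 454847 with h | h
    · rcases Nat.lt_or_ge v 366824 with h | h
      · rcases Nat.lt_or_ge v 324771 with h | h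
        · rcases Nat.lt_or_ge v 304166 with h | h
          · rcases Nat.lt_or_ge v 293804 with h | h
            · exact edgesRangeI_spec iota E 3 5274 288530 edges_3_61 v (by omega) (by omega)
            · rcases Nat.lt_or_ge v 299108 with h | h
              · exact edgesRangeI_spec iota E 3 5304 293804 edges_3_62 v (by omega) (by omega)
              · exact edgesRangeI_spec iota E 3 5058 299108 edges_3_63 v (by omega) (by omega)
          · rcases Nat.lt_or_ge v 314569 with h | h
            · rcases Nat.lt_or_ge v 309438 with h | h
              · exact edgesRangeI_spec iota E 3 5272 304166 edges_3_64 v (by omega) (by omega)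
              · exact edgesRangeI_spec iota E 3 5131 309438 edges_3_65 v (by omega) (by omega)
            · rcases Nat.lt_or_ge v 319604 with h | h
              · exact edgesRangeI_spec iota E 3 5035 314569 edges_3_66 v (by omega) (by omega)
              · exact edgesRangeI_spec iota E 3 5167 319604 edges_3_67 v (by omega) (by omega)
        · rcases Nat.lt_or_ge v 345944 with h | h
          · rcases Nat.lt_or_ge v 335284 with h | h
            · rcases Nat.lt_or_ge v 330066 with h | h
              · exact edgesRangeI_spec iota E 3 5295 324771 edges_3_68 v (by omega) (by omega)
              · exact edgesRangeI_spec iota E 3 5218 330066 edges_3_69 v (by omega) (by omega)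
            · rcases Nat.lt_or_ge v 340700 with h | h
              · exact edgesRangeI_spec iota E 3 5416 335284 edges_3_70 v (by omega) (by omega)
              · exact edgesRangeI_spec iota E 3 5244 340700 edges_3_71 v (by omega) (by omega)
          · rcases Nat.lt_or_ge v 356290 with h | h
            · rcases Nat.lt_or_ge v 351086 with h | h
              · exact edgesRangeI_spec iota E 3 5142 345944 edges_3_72 v (by omega) (by omega)
              · exact edgesRangeI_spec iota E 3 5204 351086 edges_3_73 v (by omega) (by omega)
            · rcases Nat.lt_or_ge v 361586 with h | h
              · exact edgesRangeI_spec iota E 3 5296 356290 edges_3_74 v (by omega) (by omega)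
              · exact edgesRangeI_spec iota E 3 5238 361586 edges_3_75 v (by omega) (by omega)
      · rcases Nat.lt_or_ge v 410105 with h | h
        · rcases Nat.lt_or_ge v 388093 with h | h
          · rcases Nat.lt_or_ge v 377544 with h | h
            · rcases Nat.lt_or_ge v 372075 with h | h
              · exact edgesRangeI_spec iota E 3 5251 366824 edges_3_76 v (by omega) (by omega)
              · exact edgesRangeI_spec iota E 3 5469 372075 edges_3_77 v (by omega) (by omega)
            · rcases Nat.lt_or_ge v 382806 with h | h
              · exact edgesRangeI_spec iota E 3 5262 377544 edges_3_78 v (by omega) (by omega)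
              · exact edgesRangeI_spec iota E 3 5287 382806 edges_3_79 v (by omega) (by omega)
          · rcases Nat.lt_or_ge v 398862 with h | h
            · rcases Nat.lt_or_ge v 393521 with h | h
              · exact edgesRangeI_spec iota E 3 5428 388093 edges_3_80 v (by omega) (by omega)
              · exact edgesRangeI_spec iota E 3 5341 393521 edges_3_81 v (by omega) (by omega)
            · rcases Nat.lt_or_ge v 404274 with h | h
              · exact edgesRangeI_spec iota E 3 5412 398862 edges_3_82 v (by omega) (by omega)
              · exact edgesRangeI_spec iota E 3 5831 404274 edges_3_83 v (by omega) (by omega)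
        · rcases Nat.lt_or_ge v 432304 with h | h
          · rcases Nat.lt_or_ge v 421336 with h | h
            · rcases Nat.lt_or_ge v 415728 with h | h
              · exact edgesRangeI_spec iota E 3 5623 410105 edges_3_84 v (by omega) (by omega)
              · exact edgesRangeI_spec iota E 3 5608 415728 edges_3_85 v (by omega) (by omega)
            · rcases Nat.lt_or_ge v 426947 with h | h
              · exact edgesRangeI_spec iota E 3 5611 421336 edges_3_86 v (by omega) (by omega)
              · exact edgesRangeI_spec iota E 3 5357 426947 edges_3_87 v (by omega) (by omega)
          · rcases Nat.lt_or_ge v 443696 with h | h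
            · rcases Nat.lt_or_ge v 438200 with h | h
              · exact edgesRangeI_spec iota E 3 5896 432304 edges_3_88 v (by omega) (by omega)
              · exact edgesRangeI_spec iota E 3 5496 438200 edges_3_89 v (by omega) (by omega)
            · rcases Nat.lt_or_ge v 449123 with h | h
              · exact edgesRangeI_spec iota E 3 5427 443696 edges_3_90 v (by omega) (by omega)
              · exact edgesRangeI_spec iota E 3 5724 449123 edges_3_91 v (by omega) (by omega)
    · rcases Nat.lt_or_ge v 536555 with h | h
      · rcases Nat.lt_or_ge v 492856 with h | h
        · rcases Nat.lt_or_ge v 470892 with h | h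
          · rcases Nat.lt_or_ge v 460224 with h | h
            · exact edgesRangeI_spec iota E 3 5377 454847 edges_3_92 v (by omega) (by omega)
            · rcases Nat.lt_or_ge v 465638 with h | h
              · exact edgesRangeI_spec iota E 3 5414 460224 edges_3_93 v (by omega) (by omega)
              · exact edgesRangeI_spec iota E 3 5254 465638 edges_3_94 v (by omega) (by omega)
          · rcases Nat.lt_or_ge v 482054 with h | h
            · rcases Nat.lt_or_ge v 476606 with h | h
              · exact edgesRangeI_spec iota E 3 5714 470892 edges_3_95 v (by omega) (by omega)
              · exact edgesRangeI_spec iota E 3 5448 476606 edges_3_96 v (by omega) (by omega)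
            · rcases Nat.lt_or_ge v 487539 with h | h
              · exact edgesRangeI_spec iota E 3 5485 482054 edges_3_97 v (by omega) (by omega)
              · exact edgesRangeI_spec iota E 3 5317 487539 edges_3_98 v (by omega) (by omega)
        · rcases Nat.lt_or_ge v 515632 with h | h
          · rcases Nat.lt_or_ge v 504418 with h | h
            · rcases Nat.lt_or_ge v 498601 with h | h
              · exact edgesRangeI_spec iota E 3 5745 492856 edges_3_99 v (by omega) (by omega)
              · exact edgesRangeI_spec iota E 3 5817 498601 edges_3_100 v (by omega) (by omega)
            · rcases Nat.lt_or_ge v 510181 with h | h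
              · exact edgesRangeI_spec iota E 3 5763 504418 edges_3_101 v (by omega) (by omega)
              · exact edgesRangeI_spec iota E 3 5451 510181 edges_3_102 v (by omega) (by omega)
          · rcases Nat.lt_or_ge v 527778 with h | h
            · rcases Nat.lt_or_ge v 521749 with h | h
              · exact edgesRangeI_spec iota E 3 6117 515632 edges_3_103 v (by omega) (by omega)
              · exact edgesRangeI_spec iota E 3 6029 521749 edges_3_104 v (by omega) (by omega)
            · rcases Nat.lt_or_ge v 532651 with h | h
              · exact edgesRangeI_spec iota E 3 4873 527778 edges_3_105 v (by omega) (by omega)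
              · exact edgesRangeI_spec iota E 3 3904 532651 edges_3_106 v (by omega) (by omega)
      · rcases Nat.lt_or_ge v 565708 with h | h
        · rcases Nat.lt_or_ge v 551347 with h | h
          · rcases Nat.lt_or_ge v 544021 with h | h
            · rcases Nat.lt_or_ge v 540308 with h | h
              · exact edgesRangeI_spec iota E 3 3753 536555 edges_3_107 v (by omega) (by omega)
              · exact edgesRangeI_spec iota E 3 3713 540308 edges_3_108 v (by omega) (by omega)
            · rcases Nat.lt_or_ge v 547662 with h | h
              · exact edgesRangeI_spec iota E 3 3641 544021 edges_3_109 v (by omega) (by omega)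
              · exact edgesRangeI_spec iota E 3 3685 547662 edges_3_110 v (by omega) (by omega)
          · rcases Nat.lt_or_ge v 558741 with h | h
            · rcases Nat.lt_or_ge v 555046 with h | h
              · exact edgesRangeI_spec iota E 3 3699 551347 edges_3_111 v (by omega) (by omega)
              · exact edgesRangeI_spec iota E 3 3695 555046 edges_3_112 v (by omega) (by omega)
            · rcases Nat.lt_or_ge v 562336 with h | h
              · exact edgesRangeI_spec iota E 3 3595 558741 edges_3_113 v (by omega) (by omega)
              · exact edgesRangeI_spec iota E 3 3372 562336 edges_3_114 v (by omega) (by omega)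
        · rcases Nat.lt_or_ge v 578676 with h | h
          · rcases Nat.lt_or_ge v 572328 with h | h
            · rcases Nat.lt_or_ge v 568925 with h | h
              · exact edgesRangeI_spec iota E 3 3217 565708 edges_3_115 v (by omega) (by omega)
              · exact edgesRangeI_spec iota E 3 3403 568925 edges_3_116 v (by omega) (by omega)
            · rcases Nat.lt_or_ge v 575442 with h | h
              · exact edgesRangeI_spec iota E 3 3114 572328 edges_3_117 v (by omega) (by omega)
              · exact edgesRangeI_spec iota E 3 3234 575442 edges_3_118 v (by omega) (by omega)
          · rcases Nat.lt_or_ge v 584857 with h | h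
            · rcases Nat.lt_or_ge v 581767 with h | h
              · exact edgesRangeI_spec iota E 3 3091 578676 edges_3_119 v (by omega) (by omega)
              · exact edgesRangeI_spec iota E 3 3090 581767 edges_3_120 v (by omega) (by omega)
            · rcases Nat.lt_or_ge v 587810 with h | h
              · exact edgesRangeI_spec iota E 3 2953 584857 edges_3_121 v (by omega) (by omega)
              · exact edgesRangeI_spec iota E 3 681 587810 edges_3_122 v (by omega) (by omega)

theorem hA0 : ∀ v, v < 588491 → aliasOK E v = true := by
  intro v hv
  rcases Nat.lt_or_ge v 317923 with h | h
  · rcases Nat.lt_or_ge v 187401 with h | h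
    · rcases Nat.lt_or_ge v 108549 with h | h
      · rcases Nat.lt_or_ge v 61196 with h | h
        · rcases Nat.lt_or_ge v 35465 with h | h
          · rcases Nat.lt_or_ge v 17358 with h | h
            · rcases Nat.lt_or_ge v 6344 with h | h
              · exact aliasRange_spec E 6344 0 aliases_0 v (by omega) (by omega)
              · rcases Nat.lt_or_ge v 12299 with h | h
                · exact aliasRange_spec E 5955 6344 aliases_1 v (by omega) (by omega)
                · exact aliasRange_spec E 5059 12299 aliases_2 v (by omega) (by omega)
            · rcases Nat.lt_or_ge v 26980 with h | h
              · rcases Nat.lt_or_ge v 22265 with h | h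
                · exact aliasRange_spec E 4907 17358 aliases_3 v (by omega) (by omega)
                · exact aliasRange_spec E 4715 22265 aliases_4 v (by omega) (by omega)
              · rcases Nat.lt_or_ge v 31234 with h | h
                · exact aliasRange_spec E 4254 26980 aliases_5 v (by omega) (by omega)
                · exact aliasRange_spec E 4231 31234 aliases_6 v (by omega) (by omega)
          · rcases Nat.lt_or_ge v 46931 with h | h
            · rcases Nat.lt_or_ge v 39419 with h | h
              · exact aliasRange_spec E 3954 35465 aliases_7 v (by omega) (by omega)
              · rcases Nat.lt_or_ge v 43134 with h | h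
                · exact aliasRange_spec E 3715 39419 aliases_8 v (by omega) (by omega)
                · exact aliasRange_spec E 3797 43134 aliases_9 v (by omega) (by omega)
            · rcases Nat.lt_or_ge v 54391 with h | h
              · rcases Nat.lt_or_ge v 50833 with h | h
                · exact aliasRange_spec E 3902 46931 aliases_10 v (by omega) (by omega)
                · exact aliasRange_spec E 3558 50833 aliases_11 v (by omega) (by omega)
              · rcases Nat.lt_or_ge v 57770 with h | h
                · exact aliasRange_spec E 3379 54391 aliases_12 v (by omega) (by omega)
                · exact aliasRange_spec E 3426 57770 aliases_13 v (by omega) (by omega)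
        · rcases Nat.lt_or_ge v 85151 with h | h
          · rcases Nat.lt_or_ge v 72202 with h | h
            · rcases Nat.lt_or_ge v 64980 with h | h
              · exact aliasRange_spec E 3784 61196 aliases_14 v (by omega) (by omega)
              · rcases Nat.lt_or_ge v 68663 with h | h
                · exact aliasRange_spec E 3683 64980 aliases_15 v (by omega) (by omega)
                · exact aliasRange_spec E 3539 68663 aliases_16 v (by omega) (by omega)
            · rcases Nat.lt_or_ge v 78617 with h | h
              · rcases Nat.lt_or_ge v 75492 with h | h
                · exact aliasRange_spec E 3290 72202 aliases_17 v (by omega) (by omega)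
                · exact aliasRange_spec E 3125 75492 aliases_18 v (by omega) (by omega)
              · rcases Nat.lt_or_ge v 81844 with h | h
                · exact aliasRange_spec E 3227 78617 aliases_19 v (by omega) (by omega)
                · exact aliasRange_spec E 3307 81844 aliases_20 v (by omega) (by omega)
          · rcases Nat.lt_or_ge v 95150 with h | h
            · rcases Nat.lt_or_ge v 88257 with h | h
              · exact aliasRange_spec E 3106 85151 aliases_21 v (by omega) (by omega)
              · rcases Nat.lt_or_ge v 91494 with h | h
                · exact aliasRange_spec E 3237 88257 aliases_22 v (by omega) (by omega)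
                · exact aliasRange_spec E 3656 91494 aliases_23 v (by omega) (by omega)
            · rcases Nat.lt_or_ge v 102139 with h | h
              · rcases Nat.lt_or_ge v 98854 with h | h
                · exact aliasRange_spec E 3704 95150 aliases_24 v (by omega) (by omega)
                · exact aliasRange_spec E 3285 98854 aliases_25 v (by omega) (by omega)
              · rcases Nat.lt_or_ge v 105395 with h | h
                · exact aliasRange_spec E 3256 102139 aliases_26 v (by omega) (by omega)
                · exact aliasRange_spec E 3154 105395 aliases_27 v (by omega) (by omega)
      · rcases Nat.lt_or_ge v 149089 with h | h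
        · rcases Nat.lt_or_ge v 129475 with h | h
          · rcases Nat.lt_or_ge v 117389 with h | h
            · rcases Nat.lt_or_ge v 111563 with h | h
              · exact aliasRange_spec E 3014 108549 aliases_28 v (by omega) (by omega)
              · rcases Nat.lt_or_ge v 114449 with h | h
                · exact aliasRange_spec E 2886 111563 aliases_29 v (by omega) (by omega)
                · exact aliasRange_spec E 2940 114449 aliases_30 v (by omega) (by omega)
            · rcases Nat.lt_or_ge v 123697 with h | h
              · rcases Nat.lt_or_ge v 120409 with h | h
                · exact aliasRange_spec E 3020 117389 aliases_31 v (by omega) (by omega)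
                · exact aliasRange_spec E 3288 120409 aliases_32 v (by omega) (by omega)
              · rcases Nat.lt_or_ge v 126555 with h | h
                · exact aliasRange_spec E 2858 123697 aliases_33 v (by omega) (by omega)
                · exact aliasRange_spec E 2920 126555 aliases_34 v (by omega) (by omega)
          · rcases Nat.lt_or_ge v 137477 with h | h
            · rcases Nat.lt_or_ge v 132234 with h | h
              · exact aliasRange_spec E 2759 129475 aliases_35 v (by omega) (by omega)
              · rcases Nat.lt_or_ge v 134917 with h | h
                · exact aliasRange_spec E 2683 132234 aliases_36 v (by omega) (by omega)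
                · exact aliasRange_spec E 2560 134917 aliases_37 v (by omega) (by omega)
            · rcases Nat.lt_or_ge v 143330 with h | h
              · rcases Nat.lt_or_ge v 140489 with h | h
                · exact aliasRange_spec E 3012 137477 aliases_38 v (by omega) (by omega)
                · exact aliasRange_spec E 2841 140489 aliases_39 v (by omega) (by omega)
              · rcases Nat.lt_or_ge v 146305 with h | h
                · exact aliasRange_spec E 2975 143330 aliases_40 v (by omega) (by omega)
                · exact aliasRange_spec E 2784 146305 aliases_41 v (by omega) (by omega)
        · rcases Nat.lt_or_ge v 167321 with h | h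
          · rcases Nat.lt_or_ge v 156521 with h | h
            · rcases Nat.lt_or_ge v 151619 with h | h
              · exact aliasRange_spec E 2530 149089 aliases_42 v (by omega) (by omega)
              · rcases Nat.lt_or_ge v 154154 with h | h
                · exact aliasRange_spec E 2535 151619 aliases_43 v (by omega) (by omega)
                · exact aliasRange_spec E 2367 154154 aliases_44 v (by omega) (by omega)
            · rcases Nat.lt_or_ge v 161877 with h | h
              · rcases Nat.lt_or_ge v 159256 with h | h
                · exact aliasRange_spec E 2735 156521 aliases_45 v (by omega) (by omega)
                · exact aliasRange_spec E 2621 159256 aliases_46 v (by omega) (by omega)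
              · rcases Nat.lt_or_ge v 164688 with h | h
                · exact aliasRange_spec E 2811 161877 aliases_47 v (by omega) (by omega)
                · exact aliasRange_spec E 2633 164688 aliases_48 v (by omega) (by omega)
          · rcases Nat.lt_or_ge v 177589 with h | h
            · rcases Nat.lt_or_ge v 172497 with h | h
              · rcases Nat.lt_or_ge v 169954 with h | h
                · exact aliasRange_spec E 2633 167321 aliases_49 v (by omega) (by omega)
                · exact aliasRange_spec E 2543 169954 aliases_50 v (by omega) (by omega)
              · rcases Nat.lt_or_ge v 175029 with h | h
                · exact aliasRange_spec E 2532 172497 aliases_51 v (by omega) (by omega)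
                · exact aliasRange_spec E 2560 175029 aliases_52 v (by omega) (by omega)
            · rcases Nat.lt_or_ge v 182618 with h | h
              · rcases Nat.lt_or_ge v 180322 with h | h
                · exact aliasRange_spec E 2733 177589 aliases_53 v (by omega) (by omega)
                · exact aliasRange_spec E 2296 180322 aliases_54 v (by omega) (by omega)
              · rcases Nat.lt_or_ge v 185130 with h | h
                · exact aliasRange_spec E 2512 182618 aliases_55 v (by omega) (by omega)
                · exact aliasRange_spec E 2271 185130 aliases_56 v (by omega) (by omega)
    · rcases Nat.lt_or_ge v 254371 with h | h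
      · rcases Nat.lt_or_ge v 222570 with h | h
        · rcases Nat.lt_or_ge v 205111 with h | h
          · rcases Nat.lt_or_ge v 194960 with h | h
            · rcases Nat.lt_or_ge v 189846 with h | h
              · exact aliasRange_spec E 2445 187401 aliases_57 v (by omega) (by omega)
              · rcases Nat.lt_or_ge v 192480 with h | h
                · exact aliasRange_spec E 2634 189846 aliases_58 v (by omega) (by omega)
                · exact aliasRange_spec E 2480 192480 aliases_59 v (by omega) (by omega)
            · rcases Nat.lt_or_ge v 200130 with h | h
              · rcases Nat.lt_or_ge v 197386 with h | h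
                · exact aliasRange_spec E 2426 194960 aliases_60 v (by omega) (by omega)
                · exact aliasRange_spec E 2744 197386 aliases_61 v (by omega) (by omega)
              · rcases Nat.lt_or_ge v 202697 with h | h
                · exact aliasRange_spec E 2567 200130 aliases_62 v (by omega) (by omega)
                · exact aliasRange_spec E 2414 202697 aliases_63 v (by omega) (by omega)
          · rcases Nat.lt_or_ge v 212975 with h | h
            · rcases Nat.lt_or_ge v 207828 with h | h
              · exact aliasRange_spec E 2717 205111 aliases_64 v (by omega) (by omega)
              · rcases Nat.lt_or_ge v 210475 with h | h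
                · exact aliasRange_spec E 2647 207828 aliases_65 v (by omega) (by omega)
                · exact aliasRange_spec E 2500 210475 aliases_66 v (by omega) (by omega)
            · rcases Nat.lt_or_ge v 217922 with h | h
              · rcases Nat.lt_or_ge v 215406 with h | h
                · exact aliasRange_spec E 2431 212975 aliases_67 v (by omega) (by omega)
                · exact aliasRange_spec E 2516 215406 aliases_68 v (by omega) (by omega)
              · rcases Nat.lt_or_ge v 220167 with h | h
                · exact aliasRange_spec E 2245 217922 aliases_69 v (by omega) (by omega)
                · exact aliasRange_spec E 2403 220167 aliases_70 v (by omega) (by omega)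
        · rcases Nat.lt_or_ge v 238750 with h | h
          · rcases Nat.lt_or_ge v 229378 with h | h
            · rcases Nat.lt_or_ge v 224827 with h | h
              · exact aliasRange_spec E 2257 222570 aliases_71 v (by omega) (by omega)
              · rcases Nat.lt_or_ge v 227081 with h | h
                · exact aliasRange_spec E 2254 224827 aliases_72 v (by omega) (by omega)
                · exact aliasRange_spec E 2297 227081 aliases_73 v (by omega) (by omega)
            · rcases Nat.lt_or_ge v 234016 with h | h
              · rcases Nat.lt_or_ge v 231641 with h | h
                · exact aliasRange_spec E 2263 229378 aliases_74 v (by omega) (by omega)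
                · exact aliasRange_spec E 2375 231641 aliases_75 v (by omega) (by omega)
              · rcases Nat.lt_or_ge v 236363 with h | h
                · exact aliasRange_spec E 2347 234016 aliases_76 v (by omega) (by omega)
                · exact aliasRange_spec E 2387 236363 aliases_77 v (by omega) (by omega)
          · rcases Nat.lt_or_ge v 245980 with h | h
            · rcases Nat.lt_or_ge v 241156 with h | h
              · exact aliasRange_spec E 2406 238750 aliases_78 v (by omega) (by omega)
              · rcases Nat.lt_or_ge v 243523 with h | h
                · exact aliasRange_spec E 2367 241156 aliases_79 v (by omega) (by omega)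
                · exact aliasRange_spec E 2457 243523 aliases_80 v (by omega) (by omega)
            · rcases Nat.lt_or_ge v 250162 with h | h
              · rcases Nat.lt_or_ge v 248134 with h | h
                · exact aliasRange_spec E 2154 245980 aliases_81 v (by omega) (by omega)
                · exact aliasRange_spec E 2028 248134 aliases_82 v (by omega) (by omega)
              · rcases Nat.lt_or_ge v 252300 with h | h
                · exact aliasRange_spec E 2138 250162 aliases_83 v (by omega) (by omega)
                · exact aliasRange_spec E 2071 252300 aliases_84 v (by omega) (by omega)
      · rcases Nat.lt_or_ge v 284538 with h | h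
        · rcases Nat.lt_or_ge v 269156 with h | h
          · rcases Nat.lt_or_ge v 260616 with h | h
            · rcases Nat.lt_or_ge v 256436 with h | h
              · exact aliasRange_spec E 2065 254371 aliases_85 v (by omega) (by omega)
              · rcases Nat.lt_or_ge v 258574 with h | h
                · exact aliasRange_spec E 2138 256436 aliases_86 v (by omega) (by omega)
                · exact aliasRange_spec E 2042 258574 aliases_87 v (by omega) (by omega)
            · rcases Nat.lt_or_ge v 264636 with h | h
              · rcases Nat.lt_or_ge v 262612 with h | h
                · exact aliasRange_spec E 1996 260616 aliases_88 v (by omega) (by omega)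
                · exact aliasRange_spec E 2024 262612 aliases_89 v (by omega) (by omega)
              · rcases Nat.lt_or_ge v 266948 with h | h
                · exact aliasRange_spec E 2312 264636 aliases_90 v (by omega) (by omega)
                · exact aliasRange_spec E 2208 266948 aliases_91 v (by omega) (by omega)
          · rcases Nat.lt_or_ge v 275745 with h | h
            · rcases Nat.lt_or_ge v 271317 with h | h
              · exact aliasRange_spec E 2161 269156 aliases_92 v (by omega) (by omega)
              · rcases Nat.lt_or_ge v 273611 with h | h
                · exact aliasRange_spec E 2294 271317 aliases_93 v (by omega) (by omega)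
                · exact aliasRange_spec E 2134 273611 aliases_94 v (by omega) (by omega)
            · rcases Nat.lt_or_ge v 280301 with h | h
              · rcases Nat.lt_or_ge v 277992 with h | h
                · exact aliasRange_spec E 2247 275745 aliases_95 v (by omega) (by omega)
                · exact aliasRange_spec E 2309 277992 aliases_96 v (by omega) (by omega)
              · rcases Nat.lt_or_ge v 282279 with h | h
                · exact aliasRange_spec E 1978 280301 aliases_97 v (by omega) (by omega)
                · exact aliasRange_spec E 2259 282279 aliases_98 v (by omega) (by omega)
        · rcases Nat.lt_or_ge v 299523 with h | h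
          · rcases Nat.lt_or_ge v 291058 with h | h
            · rcases Nat.lt_or_ge v 286594 with h | h
              · exact aliasRange_spec E 2056 284538 aliases_99 v (by omega) (by omega)
              · rcases Nat.lt_or_ge v 288835 with h | h
                · exact aliasRange_spec E 2241 286594 aliases_100 v (by omega) (by omega)
                · exact aliasRange_spec E 2223 288835 aliases_101 v (by omega) (by omega)
            · rcases Nat.lt_or_ge v 295327 with h | h
              · rcases Nat.lt_or_ge v 293238 with h | h
                · exact aliasRange_spec E 2180 291058 aliases_102 v (by omega) (by omega)
                · exact aliasRange_spec E 2089 293238 aliases_103 v (by omega) (by omega)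
              · rcases Nat.lt_or_ge v 297382 with h | h
                · exact aliasRange_spec E 2055 295327 aliases_104 v (by omega) (by omega)
                · exact aliasRange_spec E 2141 297382 aliases_105 v (by omega) (by omega)
          · rcases Nat.lt_or_ge v 308817 with h | h
            · rcases Nat.lt_or_ge v 304224 with h | h
              · rcases Nat.lt_or_ge v 301836 with h | h
                · exact aliasRange_spec E 2313 299523 aliases_106 v (by omega) (by omega)
                · exact aliasRange_spec E 2388 301836 aliases_107 v (by omega) (by omega)
              · rcases Nat.lt_or_ge v 306508 with h | h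
                · exact aliasRange_spec E 2284 304224 aliases_108 v (by omega) (by omega)
                · exact aliasRange_spec E 2309 306508 aliases_109 v (by omega) (by omega)
            · rcases Nat.lt_or_ge v 313367 with h | h
              · rcases Nat.lt_or_ge v 311149 with h | h
                · exact aliasRange_spec E 2332 308817 aliases_110 v (by omega) (by omega)
                · exact aliasRange_spec E 2218 311149 aliases_111 v (by omega) (by omega)
              · rcases Nat.lt_or_ge v 315615 with h | h
                · exact aliasRange_spec E 2248 313367 aliases_112 v (by omega) (by omega)
                · exact aliasRange_spec E 2308 315615 aliases_113 v (by omega) (by omega)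
  · rcases Nat.lt_or_ge v 438009 with h | h
    · rcases Nat.lt_or_ge v 378759 with h | h
      · rcases Nat.lt_or_ge v 348574 with h | h
        · rcases Nat.lt_or_ge v 333479 with h | h
          · rcases Nat.lt_or_ge v 324512 with h | h
            · rcases Nat.lt_or_ge v 320146 with h | h
              · exact aliasRange_spec E 2223 317923 aliases_114 v (by omega) (by omega)
              · rcases Nat.lt_or_ge v 322361 with h | h
                · exact aliasRange_spec E 2215 320146 aliases_115 v (by omega) (by omega)
                · exact aliasRange_spec E 2151 322361 aliases_116 v (by omega) (by omega)
            · rcases Nat.lt_or_ge v 328994 with h | h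
              · rcases Nat.lt_or_ge v 326775 with h | h
                · exact aliasRange_spec E 2263 324512 aliases_117 v (by omega) (by omega)
                · exact aliasRange_spec E 2219 326775 aliases_118 v (by omega) (by omega)
              · rcases Nat.lt_or_ge v 331194 with h | h
                · exact aliasRange_spec E 2200 328994 aliases_119 v (by omega) (by omega)
                · exact aliasRange_spec E 2285 331194 aliases_120 v (by omega) (by omega)
          · rcases Nat.lt_or_ge v 339877 with h | h
            · rcases Nat.lt_or_ge v 335680 with h | h
              · exact aliasRange_spec E 2201 333479 aliases_121 v (by omega) (by omega)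
              · rcases Nat.lt_or_ge v 337753 with h | h
                · exact aliasRange_spec E 2073 335680 aliases_122 v (by omega) (by omega)
                · exact aliasRange_spec E 2124 337753 aliases_123 v (by omega) (by omega)
            · rcases Nat.lt_or_ge v 344232 with h | h
              · rcases Nat.lt_or_ge v 342059 with h | h
                · exact aliasRange_spec E 2182 339877 aliases_124 v (by omega) (by omega)
                · exact aliasRange_spec E 2173 342059 aliases_125 v (by omega) (by omega)
              · rcases Nat.lt_or_ge v 346364 with h | h
                · exact aliasRange_spec E 2132 344232 aliases_126 v (by omega) (by omega)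
                · exact aliasRange_spec E 2210 346364 aliases_127 v (by omega) (by omega)
        · rcases Nat.lt_or_ge v 363700 with h | h
          · rcases Nat.lt_or_ge v 355094 with h | h
            · rcases Nat.lt_or_ge v 350793 with h | h
              · exact aliasRange_spec E 2219 348574 aliases_128 v (by omega) (by omega)
              · rcases Nat.lt_or_ge v 352964 with h | h
                · exact aliasRange_spec E 2171 350793 aliases_129 v (by omega) (by omega)
                · exact aliasRange_spec E 2130 352964 aliases_130 v (by omega) (by omega)
            · rcases Nat.lt_or_ge v 359454 with h | h
              · rcases Nat.lt_or_ge v 357308 with h | h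
                · exact aliasRange_spec E 2214 355094 aliases_131 v (by omega) (by omega)
                · exact aliasRange_spec E 2146 357308 aliases_132 v (by omega) (by omega)
              · rcases Nat.lt_or_ge v 361612 with h | h
                · exact aliasRange_spec E 2158 359454 aliases_133 v (by omega) (by omega)
                · exact aliasRange_spec E 2088 361612 aliases_134 v (by omega) (by omega)
          · rcases Nat.lt_or_ge v 370254 with h | h
            · rcases Nat.lt_or_ge v 365955 with h | h
              · exact aliasRange_spec E 2255 363700 aliases_135 v (by omega) (by omega)
              · rcases Nat.lt_or_ge v 368085 with h | h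
                · exact aliasRange_spec E 2130 365955 aliases_136 v (by omega) (by omega)
                · exact aliasRange_spec E 2169 368085 aliases_137 v (by omega) (by omega)
            · rcases Nat.lt_or_ge v 374473 with h | h
              · rcases Nat.lt_or_ge v 372450 with h | h
                · exact aliasRange_spec E 2196 370254 aliases_138 v (by omega) (by omega)
                · exact aliasRange_spec E 2023 372450 aliases_139 v (by omega) (by omega)
              · rcases Nat.lt_or_ge v 376602 with h | h
                · exact aliasRange_spec E 2129 374473 aliases_140 v (by omega) (by omega)
                · exact aliasRange_spec E 2157 376602 aliases_141 v (by omega) (by omega)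
      · rcases Nat.lt_or_ge v 408045 with h | h
        · rcases Nat.lt_or_ge v 393620 with h | h
          · rcases Nat.lt_or_ge v 385065 with h | h
            · rcases Nat.lt_or_ge v 380879 with h | h
              · exact aliasRange_spec E 2120 378759 aliases_142 v (by omega) (by omega)
              · rcases Nat.lt_or_ge v 383001 with h | h
                · exact aliasRange_spec E 2122 380879 aliases_143 v (by omega) (by omega)
                · exact aliasRange_spec E 2064 383001 aliases_144 v (by omega) (by omega)
            · rcases Nat.lt_or_ge v 389335 with h | h
              · rcases Nat.lt_or_ge v 387177 with h | h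
                · exact aliasRange_spec E 2112 385065 aliases_145 v (by omega) (by omega)
                · exact aliasRange_spec E 2158 387177 aliases_146 v (by omega) (by omega)
              · rcases Nat.lt_or_ge v 391559 with h | h
                · exact aliasRange_spec E 2224 389335 aliases_147 v (by omega) (by omega)
                · exact aliasRange_spec E 2061 391559 aliases_148 v (by omega) (by omega)
          · rcases Nat.lt_or_ge v 399829 with h | h
            · rcases Nat.lt_or_ge v 395707 with h | h
              · exact aliasRange_spec E 2087 393620 aliases_149 v (by omega) (by omega)
              · rcases Nat.lt_or_ge v 397740 with h | h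
                · exact aliasRange_spec E 2033 395707 aliases_150 v (by omega) (by omega)
                · exact aliasRange_spec E 2089 397740 aliases_151 v (by omega) (by omega)
            · rcases Nat.lt_or_ge v 403935 with h | h
              · rcases Nat.lt_or_ge v 402008 with h | h
                · exact aliasRange_spec E 2179 399829 aliases_152 v (by omega) (by omega)
                · exact aliasRange_spec E 1927 402008 aliases_153 v (by omega) (by omega)
              · rcases Nat.lt_or_ge v 405971 with h | h
                · exact aliasRange_spec E 2036 403935 aliases_154 v (by omega) (by omega)
                · exact aliasRange_spec E 2074 405971 aliases_155 v (by omega) (by omega)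
        · rcases Nat.lt_or_ge v 422147 with h | h
          · rcases Nat.lt_or_ge v 414189 with h | h
            · rcases Nat.lt_or_ge v 409995 with h | h
              · exact aliasRange_spec E 1950 408045 aliases_156 v (by omega) (by omega)
              · rcases Nat.lt_or_ge v 412029 with h | h
                · exact aliasRange_spec E 2034 409995 aliases_157 v (by omega) (by omega)
                · exact aliasRange_spec E 2160 412029 aliases_158 v (by omega) (by omega)
            · rcases Nat.lt_or_ge v 418209 with h | h
              · rcases Nat.lt_or_ge v 416236 with h | h
                · exact aliasRange_spec E 2047 414189 aliases_159 v (by omega) (by omega)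
                · exact aliasRange_spec E 1973 416236 aliases_160 v (by omega) (by omega)
              · rcases Nat.lt_or_ge v 420202 with h | h
                · exact aliasRange_spec E 1993 418209 aliases_161 v (by omega) (by omega)
                · exact aliasRange_spec E 1945 420202 aliases_162 v (by omega) (by omega)
          · rcases Nat.lt_or_ge v 430108 with h | h
            · rcases Nat.lt_or_ge v 426048 with h | h
              · rcases Nat.lt_or_ge v 424090 with h | h
                · exact aliasRange_spec E 1943 422147 aliases_163 v (by omega) (by omega)
                · exact aliasRange_spec E 1958 424090 aliases_164 v (by omega) (by omega)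
              · rcases Nat.lt_or_ge v 427993 with h | h
                · exact aliasRange_spec E 1945 426048 aliases_165 v (by omega) (by omega)
                · exact aliasRange_spec E 2115 427993 aliases_166 v (by omega) (by omega)
            · rcases Nat.lt_or_ge v 434089 with h | h
              · rcases Nat.lt_or_ge v 432212 with h | h
                · exact aliasRange_spec E 2104 430108 aliases_167 v (by omega) (by omega)
                · exact aliasRange_spec E 1877 432212 aliases_168 v (by omega) (by omega)
              · rcases Nat.lt_or_ge v 436057 with h | h
                · exact aliasRange_spec E 1968 434089 aliases_169 v (by omega) (by omega)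
                · exact aliasRange_spec E 1952 436057 aliases_170 v (by omega) (by omega)
    · rcases Nat.lt_or_ge v 494903 with h | h
      · rcases Nat.lt_or_ge v 466276 with h | h
        · rcases Nat.lt_or_ge v 451906 with h | h
          · rcases Nat.lt_or_ge v 443942 with h | h
            · rcases Nat.lt_or_ge v 439983 with h | h
              · exact aliasRange_spec E 1974 438009 aliases_171 v (by omega) (by omega)
              · rcases Nat.lt_or_ge v 441939 with h | h
                · exact aliasRange_spec E 1956 439983 aliases_172 v (by omega) (by omega)
                · exact aliasRange_spec E 2003 441939 aliases_173 v (by omega) (by omega)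
            · rcases Nat.lt_or_ge v 447848 with h | h
              · rcases Nat.lt_or_ge v 445842 with h | h
                · exact aliasRange_spec E 1900 443942 aliases_174 v (by omega) (by omega)
                · exact aliasRange_spec E 2006 445842 aliases_175 v (by omega) (by omega)
              · rcases Nat.lt_or_ge v 449960 with h | h
                · exact aliasRange_spec E 2112 447848 aliases_176 v (by omega) (by omega)
                · exact aliasRange_spec E 1946 449960 aliases_177 v (by omega) (by omega)
          · rcases Nat.lt_or_ge v 457861 with h | h
            · rcases Nat.lt_or_ge v 453929 with h | h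
              · exact aliasRange_spec E 2023 451906 aliases_178 v (by omega) (by omega)
              · rcases Nat.lt_or_ge v 455873 with h | h
                · exact aliasRange_spec E 1944 453929 aliases_179 v (by omega) (by omega)
                · exact aliasRange_spec E 1988 455873 aliases_180 v (by omega) (by omega)
            · rcases Nat.lt_or_ge v 461963 with h | h
              · rcases Nat.lt_or_ge v 459811 with h | h
                · exact aliasRange_spec E 1950 457861 aliases_181 v (by omega) (by omega)
                · exact aliasRange_spec E 2152 459811 aliases_182 v (by omega) (by omega)
              · rcases Nat.lt_or_ge v 464011 with h | h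
                · exact aliasRange_spec E 2048 461963 aliases_183 v (by omega) (by omega)
                · exact aliasRange_spec E 2265 464011 aliases_184 v (by omega) (by omega)
        · rcases Nat.lt_or_ge v 480429 with h | h
          · rcases Nat.lt_or_ge v 472518 with h | h
            · rcases Nat.lt_or_ge v 468282 with h | h
              · exact aliasRange_spec E 2006 466276 aliases_185 v (by omega) (by omega)
              · rcases Nat.lt_or_ge v 470451 with h | h
                · exact aliasRange_spec E 2169 468282 aliases_186 v (by omega) (by omega)
                · exact aliasRange_spec E 2067 470451 aliases_187 v (by omega) (by omega)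
            · rcases Nat.lt_or_ge v 476361 with h | h
              · rcases Nat.lt_or_ge v 474435 with h | h
                · exact aliasRange_spec E 1917 472518 aliases_188 v (by omega) (by omega)
                · exact aliasRange_spec E 1926 474435 aliases_189 v (by omega) (by omega)
              · rcases Nat.lt_or_ge v 478378 with h | h
                · exact aliasRange_spec E 2017 476361 aliases_190 v (by omega) (by omega)
                · exact aliasRange_spec E 2051 478378 aliases_191 v (by omega) (by omega)
          · rcases Nat.lt_or_ge v 486611 with h | h
            · rcases Nat.lt_or_ge v 482501 with h | h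
              · exact aliasRange_spec E 2072 480429 aliases_192 v (by omega) (by omega)
              · rcases Nat.lt_or_ge v 484651 with h | h
                · exact aliasRange_spec E 2150 482501 aliases_193 v (by omega) (by omega)
                · exact aliasRange_spec E 1960 484651 aliases_194 v (by omega) (by omega)
            · rcases Nat.lt_or_ge v 490906 with h | h
              · rcases Nat.lt_or_ge v 488712 with h | h
                · exact aliasRange_spec E 2101 486611 aliases_195 v (by omega) (by omega)
                · exact aliasRange_spec E 2194 488712 aliases_196 v (by omega) (by omega)
              · rcases Nat.lt_or_ge v 492866 with h | h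
                · exact aliasRange_spec E 1960 490906 aliases_197 v (by omega) (by omega)
                · exact aliasRange_spec E 2037 492866 aliases_198 v (by omega) (by omega)
      · rcases Nat.lt_or_ge v 521531 with h | h
        · rcases Nat.lt_or_ge v 508313 with h | h
          · rcases Nat.lt_or_ge v 500566 with h | h
            · rcases Nat.lt_or_ge v 496753 with h | h
              · exact aliasRange_spec E 1850 494903 aliases_199 v (by omega) (by omega)
              · rcases Nat.lt_or_ge v 498660 with h | h
                · exact aliasRange_spec E 1907 496753 aliases_200 v (by omega) (by omega)
                · exact aliasRange_spec E 1906 498660 aliases_201 v (by omega) (by omega)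
            · rcases Nat.lt_or_ge v 504523 with h | h
              · rcases Nat.lt_or_ge v 502639 with h | h
                · exact aliasRange_spec E 2073 500566 aliases_202 v (by omega) (by omega)
                · exact aliasRange_spec E 1884 502639 aliases_203 v (by omega) (by omega)
              · rcases Nat.lt_or_ge v 506440 with h | h
                · exact aliasRange_spec E 1917 504523 aliases_204 v (by omega) (by omega)
                · exact aliasRange_spec E 1873 506440 aliases_205 v (by omega) (by omega)
          · rcases Nat.lt_or_ge v 513943 with h | h
            · rcases Nat.lt_or_ge v 510182 with h | h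
              · exact aliasRange_spec E 1869 508313 aliases_206 v (by omega) (by omega)
              · rcases Nat.lt_or_ge v 512136 with h | h
                · exact aliasRange_spec E 1954 510182 aliases_207 v (by omega) (by omega)
                · exact aliasRange_spec E 1807 512136 aliases_208 v (by omega) (by omega)
            · rcases Nat.lt_or_ge v 517824 with h | h
              · rcases Nat.lt_or_ge v 515846 with h | h
                · exact aliasRange_spec E 1903 513943 aliases_209 v (by omega) (by omega)
                · exact aliasRange_spec E 1978 515846 aliases_210 v (by omega) (by omega)
              · rcases Nat.lt_or_ge v 519658 with h | h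
                · exact aliasRange_spec E 1834 517824 aliases_211 v (by omega) (by omega)
                · exact aliasRange_spec E 1873 519658 aliases_212 v (by omega) (by omega)
        · rcases Nat.lt_or_ge v 541968 with h | h
          · rcases Nat.lt_or_ge v 527160 with h | h
            · rcases Nat.lt_or_ge v 523378 with h | h
              · exact aliasRange_spec E 1847 521531 aliases_213 v (by omega) (by omega)
              · rcases Nat.lt_or_ge v 525258 with h | h
                · exact aliasRange_spec E 1880 523378 aliases_214 v (by omega) (by omega)
                · exact aliasRange_spec E 1902 525258 aliases_215 v (by omega) (by omega)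
            · rcases Nat.lt_or_ge v 532413 with h | h
              · rcases Nat.lt_or_ge v 529110 with h | h
                · exact aliasRange_spec E 1950 527160 aliases_216 v (by omega) (by omega)
                · exact aliasRange_spec E 3303 529110 aliases_217 v (by omega) (by omega)
              · rcases Nat.lt_or_ge v 537096 with h | h
                · exact aliasRange_spec E 4683 532413 aliases_218 v (by omega) (by omega)
                · exact aliasRange_spec E 4872 537096 aliases_219 v (by omega) (by omega)
          · rcases Nat.lt_or_ge v 564758 with h | h
            · rcases Nat.lt_or_ge v 552264 with h | h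
              · rcases Nat.lt_or_ge v 546946 with h | h
                · exact aliasRange_spec E 4978 541968 aliases_220 v (by omega) (by omega)
                · exact aliasRange_spec E 5318 546946 aliases_221 v (by omega) (by omega)
              · rcases Nat.lt_or_ge v 558466 with h | h
                · exact aliasRange_spec E 6202 552264 aliases_222 v (by omega) (by omega)
                · exact aliasRange_spec E 6292 558466 aliases_223 v (by omega) (by omega)
            · rcases Nat.lt_or_ge v 576437 with h | h
              · rcases Nat.lt_or_ge v 570403 with h | h
                · exact aliasRange_spec E 5645 564758 aliases_224 v (by omega) (by omega)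
                · exact aliasRange_spec E 6034 570403 aliases_225 v (by omega) (by omega)
              · rcases Nat.lt_or_ge v 582778 with h | h
                · exact aliasRange_spec E 6341 576437 aliases_226 v (by omega) (by omega)
                · exact aliasRange_spec E 5713 582778 aliases_227 v (by omega) (by omega)

theorem hrows0 : ∀ v, v < 588491 → tb RS v = true → rowOK2 E RS v E.D.k = true := by
  intro v hv
  rcases Nat.lt_or_ge v 294000 with h | h
  · rcases Nat.lt_or_ge v 147000 with h | h
    · rcases Nat.lt_or_ge v 73500 with h | h
      · rcases Nat.lt_or_ge v 36000 with h | h
        · rcases Nat.lt_or_ge v 18000 with h | h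
          · rcases Nat.lt_or_ge v 9000 with h | h
            · rcases Nat.lt_or_ge v 4500 with h | h
              · rcases Nat.lt_or_ge v 1500 with h | h
                · exact rowsRange_spec E RS 1500 0 rows_0 v (by omega) (by omega)
                · rcases Nat.lt_or_ge v 3000 with h | h
                  · exact rowsRange_spec E RS 1500 1500 rows_1 v (by omega) (by omega)
                  · exact rowsRange_spec E RS 1500 3000 rows_2 v (by omega) (by omega)
              · rcases Nat.lt_or_ge v 6000 with h | h
                · exact rowsRange_spec E RS 1500 4500 rows_3 v (by omega) (by omega)
                · rcases Nat.lt_or_ge v 7500 with h | h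
                  · exact rowsRange_spec E RS 1500 6000 rows_4 v (by omega) (by omega)
                  · exact rowsRange_spec E RS 1500 7500 rows_5 v (by omega) (by omega)
            · rcases Nat.lt_or_ge v 13500 with h | h
              · rcases Nat.lt_or_ge v 10500 with h | h
                · exact rowsRange_spec E RS 1500 9000 rows_6 v (by omega) (by omega)
                · rcases Nat.lt_or_ge v 12000 with h | h
                  · exact rowsRange_spec E RS 1500 10500 rows_7 v (by omega) (by omega)
                  · exact rowsRange_spec E RS 1500 12000 rows_8 v (by omega) (by omega)
              · rcases Nat.lt_or_ge v 15000 with h | h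
                · exact rowsRange_spec E RS 1500 13500 rows_9 v (by omega) (by omega)
                · rcases Nat.lt_or_ge v 16500 with h | h
                  · exact rowsRange_spec E RS 1500 15000 rows_10 v (by omega) (by omega)
                  · exact rowsRange_spec E RS 1500 16500 rows_11 v (by omega) (by omega)
          · rcases Nat.lt_or_ge v 27000 with h | h
            · rcases Nat.lt_or_ge v 22500 with h | h
              · rcases Nat.lt_or_ge v 19500 with h | h
                · exact rowsRange_spec E RS 1500 18000 rows_12 v (by omega) (by omega)
                · rcases Nat.lt_or_ge v 21000 with h | h
                  · exact rowsRange_spec E RS 1500 19500 rows_13 v (by omega) (by omega)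
                  · exact rowsRange_spec E RS 1500 21000 rows_14 v (by omega) (by omega)
              · rcases Nat.lt_or_ge v 24000 with h | h
                · exact rowsRange_spec E RS 1500 22500 rows_15 v (by omega) (by omega)
                · rcases Nat.lt_or_ge v 25500 with h | h
                  · exact rowsRange_spec E RS 1500 24000 rows_16 v (by omega) (by omega)
                  · exact rowsRange_spec E RS 1500 25500 rows_17 v (by omega) (by omega)
            · rcases Nat.lt_or_ge v 31500 with h | h
              · rcases Nat.lt_or_ge v 28500 with h | h
                · exact rowsRange_spec E RS 1500 27000 rows_18 v (by omega) (by omega)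
                · rcases Nat.lt_or_ge v 30000 with h | h
                  · exact rowsRange_spec E RS 1500 28500 rows_19 v (by omega) (by omega)
                  · exact rowsRange_spec E RS 1500 30000 rows_20 v (by omega) (by omega)
              · rcases Nat.lt_or_ge v 33000 with h | h
                · exact rowsRange_spec E RS 1500 31500 rows_21 v (by omega) (by omega)
                · rcases Nat.lt_or_ge v 34500 with h | h
                  · exact rowsRange_spec E RS 1500 33000 rows_22 v (by omega) (by omega)
                  · exact rowsRange_spec E RS 1500 34500 rows_23 v (by omega) (by omega)
        · rcases Nat.lt_or_ge v 54000 with h | h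
          · rcases Nat.lt_or_ge v 45000 with h | h
            · rcases Nat.lt_or_ge v 40500 with h | h
              · rcases Nat.lt_or_ge v 37500 with h | h
                · exact rowsRange_spec E RS 1500 36000 rows_24 v (by omega) (by omega)
                · rcases Nat.lt_or_ge v 39000 with h | h
                  · exact rowsRange_spec E RS 1500 37500 rows_25 v (by omega) (by omega)
                  · exact rowsRange_spec E RS 1500 39000 rows_26 v (by omega) (by omega)
              · rcases Nat.lt_or_ge v 42000 with h | h
                · exact rowsRange_spec E RS 1500 40500 rows_27 v (by omega) (by omega)
                · rcases Nat.lt_or_ge v 43500 with h | h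
                  · exact rowsRange_spec E RS 1500 42000 rows_28 v (by omega) (by omega)
                  · exact rowsRange_spec E RS 1500 43500 rows_29 v (by omega) (by omega)
            · rcases Nat.lt_or_ge v 49500 with h | h
              · rcases Nat.lt_or_ge v 46500 with h | h
                · exact rowsRange_spec E RS 1500 45000 rows_30 v (by omega) (by omega)
                · rcases Nat.lt_or_ge v 48000 with h | h
                  · exact rowsRange_spec E RS 1500 46500 rows_31 v (by omega) (by omega)
                  · exact rowsRange_spec E RS 1500 48000 rows_32 v (by omega) (by omega)
              · rcases Nat.lt_or_ge v 51000 with h | h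
                · exact rowsRange_spec E RS 1500 49500 rows_33 v (by omega) (by omega)
                · rcases Nat.lt_or_ge v 52500 with h | h
                  · exact rowsRange_spec E RS 1500 51000 rows_34 v (by omega) (by omega)
                  · exact rowsRange_spec E RS 1500 52500 rows_35 v (by omega) (by omega)
          · rcases Nat.lt_or_ge v 63000 with h | h
            · rcases Nat.lt_or_ge v 58500 with h | h
              · rcases Nat.lt_or_ge v 55500 with h | h
                · exact rowsRange_spec E RS 1500 54000 rows_36 v (by omega) (by omega)
                · rcases Nat.lt_or_ge v 57000 with h | h
                  · exact rowsRange_spec E RS 1500 55500 rows_37 v (by omega) (by omega)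
                  · exact rowsRange_spec E RS 1500 57000 rows_38 v (by omega) (by omega)
              · rcases Nat.lt_or_ge v 60000 with h | h
                · exact rowsRange_spec E RS 1500 58500 rows_39 v (by omega) (by omega)
                · rcases Nat.lt_or_ge v 61500 with h | h
                  · exact rowsRange_spec E RS 1500 60000 rows_40 v (by omega) (by omega)
                  · exact rowsRange_spec E RS 1500 61500 rows_41 v (by omega) (by omega)
            · rcases Nat.lt_or_ge v 67500 with h | h
              · rcases Nat.lt_or_ge v 64500 with h | h
                · exact rowsRange_spec E RS 1500 63000 rows_42 v (by omega) (by omega)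
                · rcases Nat.lt_or_ge v 66000 with h | h
                  · exact rowsRange_spec E RS 1500 64500 rows_43 v (by omega) (by omega)
                  · exact rowsRange_spec E RS 1500 66000 rows_44 v (by omega) (by omega)
              · rcases Nat.lt_or_ge v 70500 with h | h
                · rcases Nat.lt_or_ge v 69000 with h | h
                  · exact rowsRange_spec E RS 1500 67500 rows_45 v (by omega) (by omega)
                  · exact rowsRange_spec E RS 1500 69000 rows_46 v (by omega) (by omega)
                · rcases Nat.lt_or_ge v 72000 with h | h
                  · exact rowsRange_spec E RS 1500 70500 rows_47 v (by omega) (by omega)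
                  · exact rowsRange_spec E RS 1500 72000 rows_48 v (by omega) (by omega)
      · rcases Nat.lt_or_ge v 109500 with h | h
        · rcases Nat.lt_or_ge v 91500 with h | h
          · rcases Nat.lt_or_ge v 82500 with h | h
            · rcases Nat.lt_or_ge v 78000 with h | h
              · rcases Nat.lt_or_ge v 75000 with h | h
                · exact rowsRange_spec E RS 1500 73500 rows_49 v (by omega) (by omega)
                · rcases Nat.lt_or_ge v 76500 with h | h
                  · exact rowsRange_spec E RS 1500 75000 rows_50 v (by omega) (by omega)
                  · exact rowsRange_spec E RS 1500 76500 rows_51 v (by omega) (by omega)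
              · rcases Nat.lt_or_ge v 79500 with h | h
                · exact rowsRange_spec E RS 1500 78000 rows_52 v (by omega) (by omega)
                · rcases Nat.lt_or_ge v 81000 with h | h
                  · exact rowsRange_spec E RS 1500 79500 rows_53 v (by omega) (by omega)
                  · exact rowsRange_spec E RS 1500 81000 rows_54 v (by omega) (by omega)
            · rcases Nat.lt_or_ge v 87000 with h | h
              · rcases Nat.lt_or_ge v 84000 with h | h
                · exact rowsRange_spec E RS 1500 82500 rows_55 v (by omega) (by omega)
                · rcases Nat.lt_or_ge v 85500 with h | h
                  · exact rowsRange_spec E RS 1500 84000 rows_56 v (by omega) (by omega)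
                  · exact rowsRange_spec E RS 1500 85500 rows_57 v (by omega) (by omega)
              · rcases Nat.lt_or_ge v 88500 with h | h
                · exact rowsRange_spec E RS 1500 87000 rows_58 v (by omega) (by omega)
                · rcases Nat.lt_or_ge v 90000 with h | h
                  · exact rowsRange_spec E RS 1500 88500 rows_59 v (by omega) (by omega)
                  · exact rowsRange_spec E RS 1500 90000 rows_60 v (by omega) (by omega)
          · rcases Nat.lt_or_ge v 100500 with h | h
            · rcases Nat.lt_or_ge v 96000 with h | h
              · rcases Nat.lt_or_ge v 93000 with h | h
                · exact rowsRange_spec E RS 1500 91500 rows_61 v (by omega) (by omega)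
                · rcases Nat.lt_or_ge v 94500 with h | h
                  · exact rowsRange_spec E RS 1500 93000 rows_62 v (by omega) (by omega)
                  · exact rowsRange_spec E RS 1500 94500 rows_63 v (by omega) (by omega)
              · rcases Nat.lt_or_ge v 97500 with h | h
                · exact rowsRange_spec E RS 1500 96000 rows_64 v (by omega) (by omega)
                · rcases Nat.lt_or_ge v 99000 with h | h
                  · exact rowsRange_spec E RS 1500 97500 rows_65 v (by omega) (by omega)
                  · exact rowsRange_spec E RS 1500 99000 rows_66 v (by omega) (by omega)
            · rcases Nat.lt_or_ge v 105000 with h | h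
              · rcases Nat.lt_or_ge v 102000 with h | h
                · exact rowsRange_spec E RS 1500 100500 rows_67 v (by omega) (by omega)
                · rcases Nat.lt_or_ge v 103500 with h | h
                  · exact rowsRange_spec E RS 1500 102000 rows_68 v (by omega) (by omega)
                  · exact rowsRange_spec E RS 1500 103500 rows_69 v (by omega) (by omega)
              · rcases Nat.lt_or_ge v 106500 with h | h
                · exact rowsRange_spec E RS 1500 105000 rows_70 v (by omega) (by omega)
                · rcases Nat.lt_or_ge v 108000 with h | h
                  · exact rowsRange_spec E RS 1500 106500 rows_71 v (by omega) (by omega)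
                  · exact rowsRange_spec E RS 1500 108000 rows_72 v (by omega) (by omega)
        · rcases Nat.lt_or_ge v 127500 with h | h
          · rcases Nat.lt_or_ge v 118500 with h | h
            · rcases Nat.lt_or_ge v 114000 with h | h
              · rcases Nat.lt_or_ge v 111000 with h | h
                · exact rowsRange_spec E RS 1500 109500 rows_73 v (by omega) (by omega)
                · rcases Nat.lt_or_ge v 112500 with h | h
                  · exact rowsRange_spec E RS 1500 111000 rows_74 v (by omega) (by omega)
                  · exact rowsRange_spec E RS 1500 112500 rows_75 v (by omega) (by omega)
              · rcases Nat.lt_or_ge v 115500 with h | h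
                · exact rowsRange_spec E RS 1500 114000 rows_76 v (by omega) (by omega)
                · rcases Nat.lt_or_ge v 117000 with h | h
                  · exact rowsRange_spec E RS 1500 115500 rows_77 v (by omega) (by omega)
                  · exact rowsRange_spec E RS 1500 117000 rows_78 v (by omega) (by omega)
            · rcases Nat.lt_or_ge v 123000 with h | h
              · rcases Nat.lt_or_ge v 120000 with h | h
                · exact rowsRange_spec E RS 1500 118500 rows_79 v (by omega) (by omega)
                · rcases Nat.lt_or_ge v 121500 with h | h
                  · exact rowsRange_spec E RS 1500 120000 rows_80 v (by omega) (by omega)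
                  · exact rowsRange_spec E RS 1500 121500 rows_81 v (by omega) (by omega)
              · rcases Nat.lt_or_ge v 124500 with h | h
                · exact rowsRange_spec E RS 1500 123000 rows_82 v (by omega) (by omega)
                · rcases Nat.lt_or_ge v 126000 with h | h
                  · exact rowsRange_spec E RS 1500 124500 rows_83 v (by omega) (by omega)
                  · exact rowsRange_spec E RS 1500 126000 rows_84 v (by omega) (by omega)
          · rcases Nat.lt_or_ge v 136500 with h | h
            · rcases Nat.lt_or_ge v 132000 with h | h
              · rcases Nat.lt_or_ge v 129000 with h | h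
                · exact rowsRange_spec E RS 1500 127500 rows_85 v (by omega) (by omega)
                · rcases Nat.lt_or_ge v 130500 with h | h
                  · exact rowsRange_spec E RS 1500 129000 rows_86 v (by omega) (by omega)
                  · exact rowsRange_spec E RS 1500 130500 rows_87 v (by omega) (by omega)
              · rcases Nat.lt_or_ge v 133500 with h | h
                · exact rowsRange_spec E RS 1500 132000 rows_88 v (by omega) (by omega)
                · rcases Nat.lt_or_ge v 135000 with h | h
                  · exact rowsRange_spec E RS 1500 133500 rows_89 v (by omega) (by omega)
                  · exact rowsRange_spec E RS 1500 135000 rows_90 v (by omega) (by omega)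
            · rcases Nat.lt_or_ge v 141000 with h | h
              · rcases Nat.lt_or_ge v 138000 with h | h
                · exact rowsRange_spec E RS 1500 136500 rows_91 v (by omega) (by omega)
                · rcases Nat.lt_or_ge v 139500 with h | h
                  · exact rowsRange_spec E RS 1500 138000 rows_92 v (by omega) (by omega)
                  · exact rowsRange_spec E RS 1500 139500 rows_93 v (by omega) (by omega)
              · rcases Nat.lt_or_ge v 144000 with h | h
                · rcases Nat.lt_or_ge v 142500 with h | h
                  · exact rowsRange_spec E RS 1500 141000 rows_94 v (by omega) (by omega)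
                  · exact rowsRange_spec E RS 1500 142500 rows_95 v (by omega) (by omega)
                · rcases Nat.lt_or_ge v 145500 with h | h
                  · exact rowsRange_spec E RS 1500 144000 rows_96 v (by omega) (by omega)
                  · exact rowsRange_spec E RS 1500 145500 rows_97 v (by omega) (by omega)
    · rcases Nat.lt_or_ge v 220500 with h | h
      · rcases Nat.lt_or_ge v 183000 with h | h
        · rcases Nat.lt_or_ge v 165000 with h | h
          · rcases Nat.lt_or_ge v 156000 with h | h
            · rcases Nat.lt_or_ge v 151500 with h | h
              · rcases Nat.lt_or_ge v 148500 with h | h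
                · exact rowsRange_spec E RS 1500 147000 rows_98 v (by omega) (by omega)
                · rcases Nat.lt_or_ge v 150000 with h | h
                  · exact rowsRange_spec E RS 1500 148500 rows_99 v (by omega) (by omega)
                  · exact rowsRange_spec E RS 1500 150000 rows_100 v (by omega) (by omega)
              · rcases Nat.lt_or_ge v 153000 with h | h
                · exact rowsRange_spec E RS 1500 151500 rows_101 v (by omega) (by omega)
                · rcases Nat.lt_or_ge v 154500 with h | h
                  · exact rowsRange_spec E RS 1500 153000 rows_102 v (by omega) (by omega)
                  · exact rowsRange_spec E RS 1500 154500 rows_103 v (by omega) (by omega)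
            · rcases Nat.lt_or_ge v 160500 with h | h
              · rcases Nat.lt_or_ge v 157500 with h | h
                · exact rowsRange_spec E RS 1500 156000 rows_104 v (by omega) (by omega)
                · rcases Nat.lt_or_ge v 159000 with h | h
                  · exact rowsRange_spec E RS 1500 157500 rows_105 v (by omega) (by omega)
                  · exact rowsRange_spec E RS 1500 159000 rows_106 v (by omega) (by omega)
              · rcases Nat.lt_or_ge v 162000 with h | h
                · exact rowsRange_spec E RS 1500 160500 rows_107 v (by omega) (by omega)
                · rcases Nat.lt_or_ge v 163500 with h | h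
                  · exact rowsRange_spec E RS 1500 162000 rows_108 v (by omega) (by omega)
                  · exact rowsRange_spec E RS 1500 163500 rows_109 v (by omega) (by omega)
          · rcases Nat.lt_or_ge v 174000 with h | h
            · rcases Nat.lt_or_ge v 169500 with h | h
              · rcases Nat.lt_or_ge v 166500 with h | h
                · exact rowsRange_spec E RS 1500 165000 rows_110 v (by omega) (by omega)
                · rcases Nat.lt_or_ge v 168000 with h | h
                  · exact rowsRange_spec E RS 1500 166500 rows_111 v (by omega) (by omega)
                  · exact rowsRange_spec E RS 1500 168000 rows_112 v (by omega) (by omega)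
              · rcases Nat.lt_or_ge v 171000 with h | h
                · exact rowsRange_spec E RS 1500 169500 rows_113 v (by omega) (by omega)
                · rcases Nat.lt_or_ge v 172500 with h | h
                  · exact rowsRange_spec E RS 1500 171000 rows_114 v (by omega) (by omega)
                  · exact rowsRange_spec E RS 1500 172500 rows_115 v (by omega) (by omega)
            · rcases Nat.lt_or_ge v 178500 with h | h
              · rcases Nat.lt_or_ge v 175500 with h | h
                · exact rowsRange_spec E RS 1500 174000 rows_116 v (by omega) (by omega)
                · rcases Nat.lt_or_ge v 177000 with h | h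
                  · exact rowsRange_spec E RS 1500 175500 rows_117 v (by omega) (by omega)
                  · exact rowsRange_spec E RS 1500 177000 rows_118 v (by omega) (by omega)
              · rcases Nat.lt_or_ge v 180000 with h | h
                · exact rowsRange_spec E RS 1500 178500 rows_119 v (by omega) (by omega)
                · rcases Nat.lt_or_ge v 181500 with h | h
                  · exact rowsRange_spec E RS 1500 180000 rows_120 v (by omega) (by omega)
                  · exact rowsRange_spec E RS 1500 181500 rows_121 v (by omega) (by omega)
        · rcases Nat.lt_or_ge v 201000 with h | h
          · rcases Nat.lt_or_ge v 192000 with h | h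
            · rcases Nat.lt_or_ge v 187500 with h | h
              · rcases Nat.lt_or_ge v 184500 with h | h
                · exact rowsRange_spec E RS 1500 183000 rows_122 v (by omega) (by omega)
                · rcases Nat.lt_or_ge v 186000 with h | h
                  · exact rowsRange_spec E RS 1500 184500 rows_123 v (by omega) (by omega)
                  · exact rowsRange_spec E RS 1500 186000 rows_124 v (by omega) (by omega)
              · rcases Nat.lt_or_ge v 189000 with h | h
                · exact rowsRange_spec E RS 1500 187500 rows_125 v (by omega) (by omega)
                · rcases Nat.lt_or_ge v 190500 with h | h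
                  · exact rowsRange_spec E RS 1500 189000 rows_126 v (by omega) (by omega)
                  · exact rowsRange_spec E RS 1500 190500 rows_127 v (by omega) (by omega)
            · rcases Nat.lt_or_ge v 196500 with h | h
              · rcases Nat.lt_or_ge v 193500 with h | h
                · exact rowsRange_spec E RS 1500 192000 rows_128 v (by omega) (by omega)
                · rcases Nat.lt_or_ge v 195000 with h | h
                  · exact rowsRange_spec E RS 1500 193500 rows_129 v (by omega) (by omega)
                  · exact rowsRange_spec E RS 1500 195000 rows_130 v (by omega) (by omega)
              · rcases Nat.lt_or_ge v 198000 with h | h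
                · exact rowsRange_spec E RS 1500 196500 rows_131 v (by omega) (by omega)
                · rcases Nat.lt_or_ge v 199500 with h | h
                  · exact rowsRange_spec E RS 1500 198000 rows_132 v (by omega) (by omega)
                  · exact rowsRange_spec E RS 1500 199500 rows_133 v (by omega) (by omega)
          · rcases Nat.lt_or_ge v 210000 with h | h
            · rcases Nat.lt_or_ge v 205500 with h | h
              · rcases Nat.lt_or_ge v 202500 with h | h
                · exact rowsRange_spec E RS 1500 201000 rows_134 v (by omega) (by omega)
                · rcases Nat.lt_or_ge v 204000 with h | h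
                  · exact rowsRange_spec E RS 1500 202500 rows_135 v (by omega) (by omega)
                  · exact rowsRange_spec E RS 1500 204000 rows_136 v (by omega) (by omega)
              · rcases Nat.lt_or_ge v 207000 with h | h
                · exact rowsRange_spec E RS 1500 205500 rows_137 v (by omega) (by omega)
                · rcases Nat.lt_or_ge v 208500 with h | h
                  · exact rowsRange_spec E RS 1500 207000 rows_138 v (by omega) (by omega)
                  · exact rowsRange_spec E RS 1500 208500 rows_139 v (by omega) (by omega)
            · rcases Nat.lt_or_ge v 214500 with h | h
              · rcases Nat.lt_or_ge v 211500 with h | h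
                · exact rowsRange_spec E RS 1500 210000 rows_140 v (by omega) (by omega)
                · rcases Nat.lt_or_ge v 213000 with h | h
                  · exact rowsRange_spec E RS 1500 211500 rows_141 v (by omega) (by omega)
                  · exact rowsRange_spec E RS 1500 213000 rows_142 v (by omega) (by omega)
              · rcases Nat.lt_or_ge v 217500 with h | h
                · rcases Nat.lt_or_ge v 216000 with h | h
                  · exact rowsRange_spec E RS 1500 214500 rows_143 v (by omega) (by omega)
                  · exact rowsRange_spec E RS 1500 216000 rows_144 v (by omega) (by omega)
                · rcases Nat.lt_or_ge v 219000 with h | h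
                  · exact rowsRange_spec E RS 1500 217500 rows_145 v (by omega) (by omega)
                  · exact rowsRange_spec E RS 1500 219000 rows_146 v (by omega) (by omega)
      · rcases Nat.lt_or_ge v 256500 with h | h
        · rcases Nat.lt_or_ge v 238500 with h | h
          · rcases Nat.lt_or_ge v 229500 with h | h
            · rcases Nat.lt_or_ge v 225000 with h | h
              · rcases Nat.lt_or_ge v 222000 with h | h
                · exact rowsRange_spec E RS 1500 220500 rows_147 v (by omega) (by omega)
                · rcases Nat.lt_or_ge v 223500 with h | h
                  · exact rowsRange_spec E RS 1500 222000 rows_148 v (by omega) (by omega)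
                  · exact rowsRange_spec E RS 1500 223500 rows_149 v (by omega) (by omega)
              · rcases Nat.lt_or_ge v 226500 with h | h
                · exact rowsRange_spec E RS 1500 225000 rows_150 v (by omega) (by omega)
                · rcases Nat.lt_or_ge v 228000 with h | h
                  · exact rowsRange_spec E RS 1500 226500 rows_151 v (by omega) (by omega)
                  · exact rowsRange_spec E RS 1500 228000 rows_152 v (by omega) (by omega)
            · rcases Nat.lt_or_ge v 234000 with h | h
              · rcases Nat.lt_or_ge v 231000 with h | h
                · exact rowsRange_spec E RS 1500 229500 rows_153 v (by omega) (by omega)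
                · rcases Nat.lt_or_ge v 232500 with h | h
                  · exact rowsRange_spec E RS 1500 231000 rows_154 v (by omega) (by omega)
                  · exact rowsRange_spec E RS 1500 232500 rows_155 v (by omega) (by omega)
              · rcases Nat.lt_or_ge v 235500 with h | h
                · exact rowsRange_spec E RS 1500 234000 rows_156 v (by omega) (by omega)
                · rcases Nat.lt_or_ge v 237000 with h | h
                  · exact rowsRange_spec E RS 1500 235500 rows_157 v (by omega) (by omega)
                  · exact rowsRange_spec E RS 1500 237000 rows_158 v (by omega) (by omega)
          · rcases Nat.lt_or_ge v 247500 with h | h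
            · rcases Nat.lt_or_ge v 243000 with h | h
              · rcases Nat.lt_or_ge v 240000 with h | h
                · exact rowsRange_spec E RS 1500 238500 rows_159 v (by omega) (by omega)
                · rcases Nat.lt_or_ge v 241500 with h | h
                  · exact rowsRange_spec E RS 1500 240000 rows_160 v (by omega) (by omega)
                  · exact rowsRange_spec E RS 1500 241500 rows_161 v (by omega) (by omega)
              · rcases Nat.lt_or_ge v 244500 with h | h
                · exact rowsRange_spec E RS 1500 243000 rows_162 v (by omega) (by omega)
                · rcases Nat.lt_or_ge v 246000 with h | h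
                  · exact rowsRange_spec E RS 1500 244500 rows_163 v (by omega) (by omega)
                  · exact rowsRange_spec E RS 1500 246000 rows_164 v (by omega) (by omega)
            · rcases Nat.lt_or_ge v 252000 with h | h
              · rcases Nat.lt_or_ge v 249000 with h | h
                · exact rowsRange_spec E RS 1500 247500 rows_165 v (by omega) (by omega)
                · rcases Nat.lt_or_ge v 250500 with h | h
                  · exact rowsRange_spec E RS 1500 249000 rows_166 v (by omega) (by omega)
                  · exact rowsRange_spec E RS 1500 250500 rows_167 v (by omega) (by omega)
              · rcases Nat.lt_or_ge v 253500 with h | h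
                · exact rowsRange_spec E RS 1500 252000 rows_168 v (by omega) (by omega)
                · rcases Nat.lt_or_ge v 255000 with h | h
                  · exact rowsRange_spec E RS 1500 253500 rows_169 v (by omega) (by omega)
                  · exact rowsRange_spec E RS 1500 255000 rows_170 v (by omega) (by omega)
        · rcases Nat.lt_or_ge v 274500 with h | h
          · rcases Nat.lt_or_ge v 265500 with h | h
            · rcases Nat.lt_or_ge v 261000 with h | h
              · rcases Nat.lt_or_ge v 258000 with h | h
                · exact rowsRange_spec E RS 1500 256500 rows_171 v (by omega) (by omega)
                · rcases Nat.lt_or_ge v 259500 with h | h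
                  · exact rowsRange_spec E RS 1500 258000 rows_172 v (by omega) (by omega)
                  · exact rowsRange_spec E RS 1500 259500 rows_173 v (by omega) (by omega)
              · rcases Nat.lt_or_ge v 262500 with h | h
                · exact rowsRange_spec E RS 1500 261000 rows_174 v (by omega) (by omega)
                · rcases Nat.lt_or_ge v 264000 with h | h
                  · exact rowsRange_spec E RS 1500 262500 rows_175 v (by omega) (by omega)
                  · exact rowsRange_spec E RS 1500 264000 rows_176 v (by omega) (by omega)
            · rcases Nat.lt_or_ge v 270000 with h | h
              · rcases Nat.lt_or_ge v 267000 with h | h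
                · exact rowsRange_spec E RS 1500 265500 rows_177 v (by omega) (by omega)
                · rcases Nat.lt_or_ge v 268500 with h | h
                  · exact rowsRange_spec E RS 1500 267000 rows_178 v (by omega) (by omega)
                  · exact rowsRange_spec E RS 1500 268500 rows_179 v (by omega) (by omega)
              · rcases Nat.lt_or_ge v 271500 with h | h
                · exact rowsRange_spec E RS 1500 270000 rows_180 v (by omega) (by omega)
                · rcases Nat.lt_or_ge v 273000 with h | h
                  · exact rowsRange_spec E RS 1500 271500 rows_181 v (by omega) (by omega)
                  · exact rowsRange_spec E RS 1500 273000 rows_182 v (by omega) (by omega)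
          · rcases Nat.lt_or_ge v 283500 with h | h
            · rcases Nat.lt_or_ge v 279000 with h | h
              · rcases Nat.lt_or_ge v 276000 with h | h
                · exact rowsRange_spec E RS 1500 274500 rows_183 v (by omega) (by omega)
                · rcases Nat.lt_or_ge v 277500 with h | h
                  · exact rowsRange_spec E RS 1500 276000 rows_184 v (by omega) (by omega)
                  · exact rowsRange_spec E RS 1500 277500 rows_185 v (by omega) (by omega)
              · rcases Nat.lt_or_ge v 280500 with h | h
                · exact rowsRange_spec E RS 1500 279000 rows_186 v (by omega) (by omega)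
                · rcases Nat.lt_or_ge v 282000 with h | h
                  · exact rowsRange_spec E RS 1500 280500 rows_187 v (by omega) (by omega)
                  · exact rowsRange_spec E RS 1500 282000 rows_188 v (by omega) (by omega)
            · rcases Nat.lt_or_ge v 288000 with h | h
              · rcases Nat.lt_or_ge v 285000 with h | h
                · exact rowsRange_spec E RS 1500 283500 rows_189 v (by omega) (by omega)
                · rcases Nat.lt_or_ge v 286500 with h | h
                  · exact rowsRange_spec E RS 1500 285000 rows_190 v (by omega) (by omega)
                  · exact rowsRange_spec E RS 1500 286500 rows_191 v (by omega) (by omega)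
              · rcases Nat.lt_or_ge v 291000 with h | h
                · rcases Nat.lt_or_ge v 289500 with h | h
                  · exact rowsRange_spec E RS 1500 288000 rows_192 v (by omega) (by omega)
                  · exact rowsRange_spec E RS 1500 289500 rows_193 v (by omega) (by omega)
                · rcases Nat.lt_or_ge v 292500 with h | h
                  · exact rowsRange_spec E RS 1500 291000 rows_194 v (by omega) (by omega)
                  · exact rowsRange_spec E RS 1500 292500 rows_195 v (by omega) (by omega)
  · rcases Nat.lt_or_ge v 441000 with h | h
    · rcases Nat.lt_or_ge v 367500 with h | h
      · rcases Nat.lt_or_ge v 330000 with h | h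
        · rcases Nat.lt_or_ge v 312000 with h | h
          · rcases Nat.lt_or_ge v 303000 with h | h
            · rcases Nat.lt_or_ge v 298500 with h | h
              · rcases Nat.lt_or_ge v 295500 with h | h
                · exact rowsRange_spec E RS 1500 294000 rows_196 v (by omega) (by omega)
                · rcases Nat.lt_or_ge v 297000 with h | h
                  · exact rowsRange_spec E RS 1500 295500 rows_197 v (by omega) (by omega)
                  · exact rowsRange_spec E RS 1500 297000 rows_198 v (by omega) (by omega)
              · rcases Nat.lt_or_ge v 300000 with h | h
                · exact rowsRange_spec E RS 1500 298500 rows_199 v (by omega) (by omega)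
                · rcases Nat.lt_or_ge v 301500 with h | h
                  · exact rowsRange_spec E RS 1500 300000 rows_200 v (by omega) (by omega)
                  · exact rowsRange_spec E RS 1500 301500 rows_201 v (by omega) (by omega)
            · rcases Nat.lt_or_ge v 307500 with h | h
              · rcases Nat.lt_or_ge v 304500 with h | h
                · exact rowsRange_spec E RS 1500 303000 rows_202 v (by omega) (by omega)
                · rcases Nat.lt_or_ge v 306000 with h | h
                  · exact rowsRange_spec E RS 1500 304500 rows_203 v (by omega) (by omega)
                  · exact rowsRange_spec E RS 1500 306000 rows_204 v (by omega) (by omega)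
              · rcases Nat.lt_or_ge v 309000 with h | h
                · exact rowsRange_spec E RS 1500 307500 rows_205 v (by omega) (by omega)
                · rcases Nat.lt_or_ge v 310500 with h | h
                  · exact rowsRange_spec E RS 1500 309000 rows_206 v (by omega) (by omega)
                  · exact rowsRange_spec E RS 1500 310500 rows_207 v (by omega) (by omega)
          · rcases Nat.lt_or_ge v 321000 with h | h
            · rcases Nat.lt_or_ge v 316500 with h | h
              · rcases Nat.lt_or_ge v 313500 with h | h
                · exact rowsRange_spec E RS 1500 312000 rows_208 v (by omega) (by omega)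
                · rcases Nat.lt_or_ge v 315000 with h | h
                  · exact rowsRange_spec E RS 1500 313500 rows_209 v (by omega) (by omega)
                  · exact rowsRange_spec E RS 1500 315000 rows_210 v (by omega) (by omega)
              · rcases Nat.lt_or_ge v 318000 with h | h
                · exact rowsRange_spec E RS 1500 316500 rows_211 v (by omega) (by omega)
                · rcases Nat.lt_or_ge v 319500 with h | h
                  · exact rowsRange_spec E RS 1500 318000 rows_212 v (by omega) (by omega)
                  · exact rowsRange_spec E RS 1500 319500 rows_213 v (by omega) (by omega)
            · rcases Nat.lt_or_ge v 325500 with h | h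
              · rcases Nat.lt_or_ge v 322500 with h | h
                · exact rowsRange_spec E RS 1500 321000 rows_214 v (by omega) (by omega)
                · rcases Nat.lt_or_ge v 324000 with h | h
                  · exact rowsRange_spec E RS 1500 322500 rows_215 v (by omega) (by omega)
                  · exact rowsRange_spec E RS 1500 324000 rows_216 v (by omega) (by omega)
              · rcases Nat.lt_or_ge v 327000 with h | h
                · exact rowsRange_spec E RS 1500 325500 rows_217 v (by omega) (by omega)
                · rcases Nat.lt_or_ge v 328500 with h | h
                  · exact rowsRange_spec E RS 1500 327000 rows_218 v (by omega) (by omega)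
                  · exact rowsRange_spec E RS 1500 328500 rows_219 v (by omega) (by omega)
        · rcases Nat.lt_or_ge v 348000 with h | h
          · rcases Nat.lt_or_ge v 339000 with h | h
            · rcases Nat.lt_or_ge v 334500 with h | h
              · rcases Nat.lt_or_ge v 331500 with h | h
                · exact rowsRange_spec E RS 1500 330000 rows_220 v (by omega) (by omega)
                · rcases Nat.lt_or_ge v 333000 with h | h
                  · exact rowsRange_spec E RS 1500 331500 rows_221 v (by omega) (by omega)
                  · exact rowsRange_spec E RS 1500 333000 rows_222 v (by omega) (by omega)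
              · rcases Nat.lt_or_ge v 336000 with h | h
                · exact rowsRange_spec E RS 1500 334500 rows_223 v (by omega) (by omega)
                · rcases Nat.lt_or_ge v 337500 with h | h
                  · exact rowsRange_spec E RS 1500 336000 rows_224 v (by omega) (by omega)
                  · exact rowsRange_spec E RS 1500 337500 rows_225 v (by omega) (by omega)
            · rcases Nat.lt_or_ge v 343500 with h | h
              · rcases Nat.lt_or_ge v 340500 with h | h
                · exact rowsRange_spec E RS 1500 339000 rows_226 v (by omega) (by omega)
                · rcases Nat.lt_or_ge v 342000 with h | h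
                  · exact rowsRange_spec E RS 1500 340500 rows_227 v (by omega) (by omega)
                  · exact rowsRange_spec E RS 1500 342000 rows_228 v (by omega) (by omega)
              · rcases Nat.lt_or_ge v 345000 with h | h
                · exact rowsRange_spec E RS 1500 343500 rows_229 v (by omega) (by omega)
                · rcases Nat.lt_or_ge v 346500 with h | h
                  · exact rowsRange_spec E RS 1500 345000 rows_230 v (by omega) (by omega)
                  · exact rowsRange_spec E RS 1500 346500 rows_231 v (by omega) (by omega)
          · rcases Nat.lt_or_ge v 357000 with h | h
            · rcases Nat.lt_or_ge v 352500 with h | h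
              · rcases Nat.lt_or_ge v 349500 with h | h
                · exact rowsRange_spec E RS 1500 348000 rows_232 v (by omega) (by omega)
                · rcases Nat.lt_or_ge v 351000 with h | h
                  · exact rowsRange_spec E RS 1500 349500 rows_233 v (by omega) (by omega)
                  · exact rowsRange_spec E RS 1500 351000 rows_234 v (by omega) (by omega)
              · rcases Nat.lt_or_ge v 354000 with h | h
                · exact rowsRange_spec E RS 1500 352500 rows_235 v (by omega) (by omega)
                · rcases Nat.lt_or_ge v 355500 with h | h
                  · exact rowsRange_spec E RS 1500 354000 rows_236 v (by omega) (by omega)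
                  · exact rowsRange_spec E RS 1500 355500 rows_237 v (by omega) (by omega)
            · rcases Nat.lt_or_ge v 361500 with h | h
              · rcases Nat.lt_or_ge v 358500 with h | h
                · exact rowsRange_spec E RS 1500 357000 rows_238 v (by omega) (by omega)
                · rcases Nat.lt_or_ge v 360000 with h | h
                  · exact rowsRange_spec E RS 1500 358500 rows_239 v (by omega) (by omega)
                  · exact rowsRange_spec E RS 1500 360000 rows_240 v (by omega) (by omega)
              · rcases Nat.lt_or_ge v 364500 with h | h
                · rcases Nat.lt_or_ge v 363000 with h | h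
                  · exact rowsRange_spec E RS 1500 361500 rows_241 v (by omega) (by omega)
                  · exact rowsRange_spec E RS 1500 363000 rows_242 v (by omega) (by omega)
                · rcases Nat.lt_or_ge v 366000 with h | h
                  · exact rowsRange_spec E RS 1500 364500 rows_243 v (by omega) (by omega)
                  · exact rowsRange_spec E RS 1500 366000 rows_244 v (by omega) (by omega)
      · rcases Nat.lt_or_ge v 403500 with h | h
        · rcases Nat.lt_or_ge v 385500 with h | h
          · rcases Nat.lt_or_ge v 376500 with h | h
            · rcases Nat.lt_or_ge v 372000 with h | h
              · rcases Nat.lt_or_ge v 369000 with h | h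
                · exact rowsRange_spec E RS 1500 367500 rows_245 v (by omega) (by omega)
                · rcases Nat.lt_or_ge v 370500 with h | h
                  · exact rowsRange_spec E RS 1500 369000 rows_246 v (by omega) (by omega)
                  · exact rowsRange_spec E RS 1500 370500 rows_247 v (by omega) (by omega)
              · rcases Nat.lt_or_ge v 373500 with h | h
                · exact rowsRange_spec E RS 1500 372000 rows_248 v (by omega) (by omega)
                · rcases Nat.lt_or_ge v 375000 with h | h
                  · exact rowsRange_spec E RS 1500 373500 rows_249 v (by omega) (by omega)
                  · exact rowsRange_spec E RS 1500 375000 rows_250 v (by omega) (by omega)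
            · rcases Nat.lt_or_ge v 381000 with h | h
              · rcases Nat.lt_or_ge v 378000 with h | h
                · exact rowsRange_spec E RS 1500 376500 rows_251 v (by omega) (by omega)
                · rcases Nat.lt_or_ge v 379500 with h | h
                  · exact rowsRange_spec E RS 1500 378000 rows_252 v (by omega) (by omega)
                  · exact rowsRange_spec E RS 1500 379500 rows_253 v (by omega) (by omega)
              · rcases Nat.lt_or_ge v 382500 with h | h
                · exact rowsRange_spec E RS 1500 381000 rows_254 v (by omega) (by omega)
                · rcases Nat.lt_or_ge v 384000 with h | h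
                  · exact rowsRange_spec E RS 1500 382500 rows_255 v (by omega) (by omega)
                  · exact rowsRange_spec E RS 1500 384000 rows_256 v (by omega) (by omega)
          · rcases Nat.lt_or_ge v 394500 with h | h
            · rcases Nat.lt_or_ge v 390000 with h | h
              · rcases Nat.lt_or_ge v 387000 with h | h
                · exact rowsRange_spec E RS 1500 385500 rows_257 v (by omega) (by omega)
                · rcases Nat.lt_or_ge v 388500 with h | h
                  · exact rowsRange_spec E RS 1500 387000 rows_258 v (by omega) (by omega)
                  · exact rowsRange_spec E RS 1500 388500 rows_259 v (by omega) (by omega)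
              · rcases Nat.lt_or_ge v 391500 with h | h
                · exact rowsRange_spec E RS 1500 390000 rows_260 v (by omega) (by omega)
                · rcases Nat.lt_or_ge v 393000 with h | h
                  · exact rowsRange_spec E RS 1500 391500 rows_261 v (by omega) (by omega)
                  · exact rowsRange_spec E RS 1500 393000 rows_262 v (by omega) (by omega)
            · rcases Nat.lt_or_ge v 399000 with h | h
              · rcases Nat.lt_or_ge v 396000 with h | h
                · exact rowsRange_spec E RS 1500 394500 rows_263 v (by omega) (by omega)
                · rcases Nat.lt_or_ge v 397500 with h | h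
                  · exact rowsRange_spec E RS 1500 396000 rows_264 v (by omega) (by omega)
                  · exact rowsRange_spec E RS 1500 397500 rows_265 v (by omega) (by omega)
              · rcases Nat.lt_or_ge v 400500 with h | h
                · exact rowsRange_spec E RS 1500 399000 rows_266 v (by omega) (by omega)
                · rcases Nat.lt_or_ge v 402000 with h | h
                  · exact rowsRange_spec E RS 1500 400500 rows_267 v (by omega) (by omega)
                  · exact rowsRange_spec E RS 1500 402000 rows_268 v (by omega) (by omega)
        · rcases Nat.lt_or_ge v 421500 with h | h
          · rcases Nat.lt_or_ge v 412500 with h | h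
            · rcases Nat.lt_or_ge v 408000 with h | h
              · rcases Nat.lt_or_ge v 405000 with h | h
                · exact rowsRange_spec E RS 1500 403500 rows_269 v (by omega) (by omega)
                · rcases Nat.lt_or_ge v 406500 with h | h
                  · exact rowsRange_spec E RS 1500 405000 rows_270 v (by omega) (by omega)
                  · exact rowsRange_spec E RS 1500 406500 rows_271 v (by omega) (by omega)
              · rcases Nat.lt_or_ge v 409500 with h | h
                · exact rowsRange_spec E RS 1500 408000 rows_272 v (by omega) (by omega)
                · rcases Nat.lt_or_ge v 411000 with h | h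
                  · exact rowsRange_spec E RS 1500 409500 rows_273 v (by omega) (by omega)
                  · exact rowsRange_spec E RS 1500 411000 rows_274 v (by omega) (by omega)
            · rcases Nat.lt_or_ge v 417000 with h | h
              · rcases Nat.lt_or_ge v 414000 with h | h
                · exact rowsRange_spec E RS 1500 412500 rows_275 v (by omega) (by omega)
                · rcases Nat.lt_or_ge v 415500 with h | h
                  · exact rowsRange_spec E RS 1500 414000 rows_276 v (by omega) (by omega)
                  · exact rowsRange_spec E RS 1500 415500 rows_277 v (by omega) (by omega)
              · rcases Nat.lt_or_ge v 418500 with h | h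
                · exact rowsRange_spec E RS 1500 417000 rows_278 v (by omega) (by omega)
                · rcases Nat.lt_or_ge v 420000 with h | h
                  · exact rowsRange_spec E RS 1500 418500 rows_279 v (by omega) (by omega)
                  · exact rowsRange_spec E RS 1500 420000 rows_280 v (by omega) (by omega)
          · rcases Nat.lt_or_ge v 430500 with h | h
            · rcases Nat.lt_or_ge v 426000 with h | h
              · rcases Nat.lt_or_ge v 423000 with h | h
                · exact rowsRange_spec E RS 1500 421500 rows_281 v (by omega) (by omega)
                · rcases Nat.lt_or_ge v 424500 with h | h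
                  · exact rowsRange_spec E RS 1500 423000 rows_282 v (by omega) (by omega)
                  · exact rowsRange_spec E RS 1500 424500 rows_283 v (by omega) (by omega)
              · rcases Nat.lt_or_ge v 427500 with h | h
                · exact rowsRange_spec E RS 1500 426000 rows_284 v (by omega) (by omega)
                · rcases Nat.lt_or_ge v 429000 with h | h
                  · exact rowsRange_spec E RS 1500 427500 rows_285 v (by omega) (by omega)
                  · exact rowsRange_spec E RS 1500 429000 rows_286 v (by omega) (by omega)
            · rcases Nat.lt_or_ge v 435000 with h | h
              · rcases Nat.lt_or_ge v 432000 with h | h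
                · exact rowsRange_spec E RS 1500 430500 rows_287 v (by omega) (by omega)
                · rcases Nat.lt_or_ge v 433500 with h | h
                  · exact rowsRange_spec E RS 1500 432000 rows_288 v (by omega) (by omega)
                  · exact rowsRange_spec E RS 1500 433500 rows_289 v (by omega) (by omega)
              · rcases Nat.lt_or_ge v 438000 with h | h
                · rcases Nat.lt_or_ge v 436500 with h | h
                  · exact rowsRange_spec E RS 1500 435000 rows_290 v (by omega) (by omega)
                  · exact rowsRange_spec E RS 1500 436500 rows_291 v (by omega) (by omega)
                · rcases Nat.lt_or_ge v 439500 with h | h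
                  · exact rowsRange_spec E RS 1500 438000 rows_292 v (by omega) (by omega)
                  · exact rowsRange_spec E RS 1500 439500 rows_293 v (by omega) (by omega)
    · rcases Nat.lt_or_ge v 514500 with h | h
      · rcases Nat.lt_or_ge v 477000 with h | h
        · rcases Nat.lt_or_ge v 459000 with h | h
          · rcases Nat.lt_or_ge v 450000 with h | h
            · rcases Nat.lt_or_ge v 445500 with h | h
              · rcases Nat.lt_or_ge v 442500 with h | h
                · exact rowsRange_spec E RS 1500 441000 rows_294 v (by omega) (by omega)
                · rcases Nat.lt_or_ge v 444000 with h | h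
                  · exact rowsRange_spec E RS 1500 442500 rows_295 v (by omega) (by omega)
                  · exact rowsRange_spec E RS 1500 444000 rows_296 v (by omega) (by omega)
              · rcases Nat.lt_or_ge v 447000 with h | h
                · exact rowsRange_spec E RS 1500 445500 rows_297 v (by omega) (by omega)
                · rcases Nat.lt_or_ge v 448500 with h | h
                  · exact rowsRange_spec E RS 1500 447000 rows_298 v (by omega) (by omega)
                  · exact rowsRange_spec E RS 1500 448500 rows_299 v (by omega) (by omega)
            · rcases Nat.lt_or_ge v 454500 with h | h
              · rcases Nat.lt_or_ge v 451500 with h | h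
                · exact rowsRange_spec E RS 1500 450000 rows_300 v (by omega) (by omega)
                · rcases Nat.lt_or_ge v 453000 with h | h
                  · exact rowsRange_spec E RS 1500 451500 rows_301 v (by omega) (by omega)
                  · exact rowsRange_spec E RS 1500 453000 rows_302 v (by omega) (by omega)
              · rcases Nat.lt_or_ge v 456000 with h | h
                · exact rowsRange_spec E RS 1500 454500 rows_303 v (by omega) (by omega)
                · rcases Nat.lt_or_ge v 457500 with h | h
                  · exact rowsRange_spec E RS 1500 456000 rows_304 v (by omega) (by omega)
                  · exact rowsRange_spec E RS 1500 457500 rows_305 v (by omega) (by omega)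
          · rcases Nat.lt_or_ge v 468000 with h | h
            · rcases Nat.lt_or_ge v 463500 with h | h
              · rcases Nat.lt_or_ge v 460500 with h | h
                · exact rowsRange_spec E RS 1500 459000 rows_306 v (by omega) (by omega)
                · rcases Nat.lt_or_ge v 462000 with h | h
                  · exact rowsRange_spec E RS 1500 460500 rows_307 v (by omega) (by omega)
                  · exact rowsRange_spec E RS 1500 462000 rows_308 v (by omega) (by omega)
              · rcases Nat.lt_or_ge v 465000 with h | h
                · exact rowsRange_spec E RS 1500 463500 rows_309 v (by omega) (by omega)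
                · rcases Nat.lt_or_ge v 466500 with h | h
                  · exact rowsRange_spec E RS 1500 465000 rows_310 v (by omega) (by omega)
                  · exact rowsRange_spec E RS 1500 466500 rows_311 v (by omega) (by omega)
            · rcases Nat.lt_or_ge v 472500 with h | h
              · rcases Nat.lt_or_ge v 469500 with h | h
                · exact rowsRange_spec E RS 1500 468000 rows_312 v (by omega) (by omega)
                · rcases Nat.lt_or_ge v 471000 with h | h
                  · exact rowsRange_spec E RS 1500 469500 rows_313 v (by omega) (by omega)
                  · exact rowsRange_spec E RS 1500 471000 rows_314 v (by omega) (by omega)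
              · rcases Nat.lt_or_ge v 474000 with h | h
                · exact rowsRange_spec E RS 1500 472500 rows_315 v (by omega) (by omega)
                · rcases Nat.lt_or_ge v 475500 with h | h
                  · exact rowsRange_spec E RS 1500 474000 rows_316 v (by omega) (by omega)
                  · exact rowsRange_spec E RS 1500 475500 rows_317 v (by omega) (by omega)
        · rcases Nat.lt_or_ge v 495000 with h | h
          · rcases Nat.lt_or_ge v 486000 with h | h
            · rcases Nat.lt_or_ge v 481500 with h | h
              · rcases Nat.lt_or_ge v 478500 with h | h
                · exact rowsRange_spec E RS 1500 477000 rows_318 v (by omega) (by omega)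
                · rcases Nat.lt_or_ge v 480000 with h | h
                  · exact rowsRange_spec E RS 1500 478500 rows_319 v (by omega) (by omega)
                  · exact rowsRange_spec E RS 1500 480000 rows_320 v (by omega) (by omega)
              · rcases Nat.lt_or_ge v 483000 with h | h
                · exact rowsRange_spec E RS 1500 481500 rows_321 v (by omega) (by omega)
                · rcases Nat.lt_or_ge v 484500 with h | h
                  · exact rowsRange_spec E RS 1500 483000 rows_322 v (by omega) (by omega)
                  · exact rowsRange_spec E RS 1500 484500 rows_323 v (by omega) (by omega)
            · rcases Nat.lt_or_ge v 490500 with h | h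
              · rcases Nat.lt_or_ge v 487500 with h | h
                · exact rowsRange_spec E RS 1500 486000 rows_324 v (by omega) (by omega)
                · rcases Nat.lt_or_ge v 489000 with h | h
                  · exact rowsRange_spec E RS 1500 487500 rows_325 v (by omega) (by omega)
                  · exact rowsRange_spec E RS 1500 489000 rows_326 v (by omega) (by omega)
              · rcases Nat.lt_or_ge v 492000 with h | h
                · exact rowsRange_spec E RS 1500 490500 rows_327 v (by omega) (by omega)
                · rcases Nat.lt_or_ge v 493500 with h | h
                  · exact rowsRange_spec E RS 1500 492000 rows_328 v (by omega) (by omega)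
                  · exact rowsRange_spec E RS 1500 493500 rows_329 v (by omega) (by omega)
          · rcases Nat.lt_or_ge v 504000 with h | h
            · rcases Nat.lt_or_ge v 499500 with h | h
              · rcases Nat.lt_or_ge v 496500 with h | h
                · exact rowsRange_spec E RS 1500 495000 rows_330 v (by omega) (by omega)
                · rcases Nat.lt_or_ge v 498000 with h | h
                  · exact rowsRange_spec E RS 1500 496500 rows_331 v (by omega) (by omega)
                  · exact rowsRange_spec E RS 1500 498000 rows_332 v (by omega) (by omega)
              · rcases Nat.lt_or_ge v 501000 with h | h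
                · exact rowsRange_spec E RS 1500 499500 rows_333 v (by omega) (by omega)
                · rcases Nat.lt_or_ge v 502500 with h | h
                  · exact rowsRange_spec E RS 1500 501000 rows_334 v (by omega) (by omega)
                  · exact rowsRange_spec E RS 1500 502500 rows_335 v (by omega) (by omega)
            · rcases Nat.lt_or_ge v 508500 with h | h
              · rcases Nat.lt_or_ge v 505500 with h | h
                · exact rowsRange_spec E RS 1500 504000 rows_336 v (by omega) (by omega)
                · rcases Nat.lt_or_ge v 507000 with h | h
                  · exact rowsRange_spec E RS 1500 505500 rows_337 v (by omega) (by omega)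
                  · exact rowsRange_spec E RS 1500 507000 rows_338 v (by omega) (by omega)
              · rcases Nat.lt_or_ge v 511500 with h | h
                · rcases Nat.lt_or_ge v 510000 with h | h
                  · exact rowsRange_spec E RS 1500 508500 rows_339 v (by omega) (by omega)
                  · exact rowsRange_spec E RS 1500 510000 rows_340 v (by omega) (by omega)
                · rcases Nat.lt_or_ge v 513000 with h | h
                  · exact rowsRange_spec E RS 1500 511500 rows_341 v (by omega) (by omega)
                  · exact rowsRange_spec E RS 1500 513000 rows_342 v (by omega) (by omega)
      · rcases Nat.lt_or_ge v 552000 with h | h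
        · rcases Nat.lt_or_ge v 532500 with h | h
          · rcases Nat.lt_or_ge v 523500 with h | h
            · rcases Nat.lt_or_ge v 519000 with h | h
              · rcases Nat.lt_or_ge v 516000 with h | h
                · exact rowsRange_spec E RS 1500 514500 rows_343 v (by omega) (by omega)
                · rcases Nat.lt_or_ge v 517500 with h | h
                  · exact rowsRange_spec E RS 1500 516000 rows_344 v (by omega) (by omega)
                  · exact rowsRange_spec E RS 1500 517500 rows_345 v (by omega) (by omega)
              · rcases Nat.lt_or_ge v 520500 with h | h
                · exact rowsRange_spec E RS 1500 519000 rows_346 v (by omega) (by omega)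
                · rcases Nat.lt_or_ge v 522000 with h | h
                  · exact rowsRange_spec E RS 1500 520500 rows_347 v (by omega) (by omega)
                  · exact rowsRange_spec E RS 1500 522000 rows_348 v (by omega) (by omega)
            · rcases Nat.lt_or_ge v 528000 with h | h
              · rcases Nat.lt_or_ge v 525000 with h | h
                · exact rowsRange_spec E RS 1500 523500 rows_349 v (by omega) (by omega)
                · rcases Nat.lt_or_ge v 526500 with h | h
                  · exact rowsRange_spec E RS 1500 525000 rows_350 v (by omega) (by omega)
                  · exact rowsRange_spec E RS 1500 526500 rows_351 v (by omega) (by omega)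
              · rcases Nat.lt_or_ge v 529500 with h | h
                · exact rowsRange_spec E RS 1500 528000 rows_352 v (by omega) (by omega)
                · rcases Nat.lt_or_ge v 531000 with h | h
                  · exact rowsRange_spec E RS 1500 529500 rows_353 v (by omega) (by omega)
                  · exact rowsRange_spec E RS 1500 531000 rows_354 v (by omega) (by omega)
          · rcases Nat.lt_or_ge v 541500 with h | h
            · rcases Nat.lt_or_ge v 537000 with h | h
              · rcases Nat.lt_or_ge v 534000 with h | h
                · exact rowsRange_spec E RS 1500 532500 rows_355 v (by omega) (by omega)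
                · rcases Nat.lt_or_ge v 535500 with h | h
                  · exact rowsRange_spec E RS 1500 534000 rows_356 v (by omega) (by omega)
                  · exact rowsRange_spec E RS 1500 535500 rows_357 v (by omega) (by omega)
              · rcases Nat.lt_or_ge v 538500 with h | h
                · exact rowsRange_spec E RS 1500 537000 rows_358 v (by omega) (by omega)
                · rcases Nat.lt_or_ge v 540000 with h | h
                  · exact rowsRange_spec E RS 1500 538500 rows_359 v (by omega) (by omega)
                  · exact rowsRange_spec E RS 1500 540000 rows_360 v (by omega) (by omega)
            · rcases Nat.lt_or_ge v 546000 with h | h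
              · rcases Nat.lt_or_ge v 543000 with h | h
                · exact rowsRange_spec E RS 1500 541500 rows_361 v (by omega) (by omega)
                · rcases Nat.lt_or_ge v 544500 with h | h
                  · exact rowsRange_spec E RS 1500 543000 rows_362 v (by omega) (by omega)
                  · exact rowsRange_spec E RS 1500 544500 rows_363 v (by omega) (by omega)
              · rcases Nat.lt_or_ge v 549000 with h | h
                · rcases Nat.lt_or_ge v 547500 with h | h
                  · exact rowsRange_spec E RS 1500 546000 rows_364 v (by omega) (by omega)
                  · exact rowsRange_spec E RS 1500 547500 rows_365 v (by omega) (by omega)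
                · rcases Nat.lt_or_ge v 550500 with h | h
                  · exact rowsRange_spec E RS 1500 549000 rows_366 v (by omega) (by omega)
                  · exact rowsRange_spec E RS 1500 550500 rows_367 v (by omega) (by omega)
        · rcases Nat.lt_or_ge v 570000 with h | h
          · rcases Nat.lt_or_ge v 561000 with h | h
            · rcases Nat.lt_or_ge v 556500 with h | h
              · rcases Nat.lt_or_ge v 553500 with h | h
                · exact rowsRange_spec E RS 1500 552000 rows_368 v (by omega) (by omega)
                · rcases Nat.lt_or_ge v 555000 with h | h
                  · exact rowsRange_spec E RS 1500 553500 rows_369 v (by omega) (by omega)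
                  · exact rowsRange_spec E RS 1500 555000 rows_370 v (by omega) (by omega)
              · rcases Nat.lt_or_ge v 558000 with h | h
                · exact rowsRange_spec E RS 1500 556500 rows_371 v (by omega) (by omega)
                · rcases Nat.lt_or_ge v 559500 with h | h
                  · exact rowsRange_spec E RS 1500 558000 rows_372 v (by omega) (by omega)
                  · exact rowsRange_spec E RS 1500 559500 rows_373 v (by omega) (by omega)
            · rcases Nat.lt_or_ge v 565500 with h | h
              · rcases Nat.lt_or_ge v 562500 with h | h
                · exact rowsRange_spec E RS 1500 561000 rows_374 v (by omega) (by omega)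
                · rcases Nat.lt_or_ge v 564000 with h | h
                  · exact rowsRange_spec E RS 1500 562500 rows_375 v (by omega) (by omega)
                  · exact rowsRange_spec E RS 1500 564000 rows_376 v (by omega) (by omega)
              · rcases Nat.lt_or_ge v 567000 with h | h
                · exact rowsRange_spec E RS 1500 565500 rows_377 v (by omega) (by omega)
                · rcases Nat.lt_or_ge v 568500 with h | h
                  · exact rowsRange_spec E RS 1500 567000 rows_378 v (by omega) (by omega)
                  · exact rowsRange_spec E RS 1500 568500 rows_379 v (by omega) (by omega)
          · rcases Nat.lt_or_ge v 579000 with h | h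
            · rcases Nat.lt_or_ge v 574500 with h | h
              · rcases Nat.lt_or_ge v 571500 with h | h
                · exact rowsRange_spec E RS 1500 570000 rows_380 v (by omega) (by omega)
                · rcases Nat.lt_or_ge v 573000 with h | h
                  · exact rowsRange_spec E RS 1500 571500 rows_381 v (by omega) (by omega)
                  · exact rowsRange_spec E RS 1500 573000 rows_382 v (by omega) (by omega)
              · rcases Nat.lt_or_ge v 576000 with h | h
                · exact rowsRange_spec E RS 1500 574500 rows_383 v (by omega) (by omega)
                · rcases Nat.lt_or_ge v 577500 with h | h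
                  · exact rowsRange_spec E RS 1500 576000 rows_384 v (by omega) (by omega)
                  · exact rowsRange_spec E RS 1500 577500 rows_385 v (by omega) (by omega)
            · rcases Nat.lt_or_ge v 583500 with h | h
              · rcases Nat.lt_or_ge v 580500 with h | h
                · exact rowsRange_spec E RS 1500 579000 rows_386 v (by omega) (by omega)
                · rcases Nat.lt_or_ge v 582000 with h | h
                  · exact rowsRange_spec E RS 1500 580500 rows_387 v (by omega) (by omega)
                  · exact rowsRange_spec E RS 1500 582000 rows_388 v (by omega) (by omega)
              · rcases Nat.lt_or_ge v 586500 with h | h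
                · rcases Nat.lt_or_ge v 585000 with h | h
                  · exact rowsRange_spec E RS 1500 583500 rows_389 v (by omega) (by omega)
                  · exact rowsRange_spec E RS 1500 585000 rows_390 v (by omega) (by omega)
                · rcases Nat.lt_or_ge v 588000 with h | h
                  · exact rowsRange_spec E RS 1500 586500 rows_391 v (by omega) (by omega)
                  · exact rowsRange_spec E RS 491 588000 rows_392 v (by omega) (by omega)

theorem cb_0 : cntBits RS 0 = 0 := rfl

theorem cb_1 : cntBits RS 20000 = 18286 := by
  have h := cntBits_step RS 0 20000
  rw [cb_0, cnt_0] at h
  exact h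

theorem cb_2 : cntBits RS 40000 = 33745 := by
  have h := cntBits_step RS 20000 20000
  rw [cb_1, cnt_1] at h
  exact h

theorem cb_3 : cntBits RS 60000 = 47203 := by
  have h := cntBits_step RS 40000 20000
  rw [cb_2, cnt_2] at h
  exact h

theorem cb_4 : cntBits RS 80000 = 59577 := by
  have h := cntBits_step RS 60000 20000
  rw [cb_3, cnt_3] at h
  exact h

theorem cb_5 : cntBits RS 100000 = 72034 := by
  have h := cntBits_step RS 80000 20000
  rw [cb_4, cnt_4] at h
  exact h

theorem cb_6 : cntBits RS 120000 = 82929 := by
  have h := cntBits_step RS 100000 20000
  rw [cb_5, cnt_5] at h
  exact h

theorem cb_7 : cntBits RS 140000 = 92597 := by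
  have h := cntBits_step RS 120000 20000
  rw [cb_6, cnt_6] at h
  exact h

theorem cb_8 : cntBits RS 160000 = 101580 := by
  have h := cntBits_step RS 140000 20000
  rw [cb_7, cnt_7] at h
  exact h

theorem cb_9 : cntBits RS 180000 = 110148 := by
  have h := cntBits_step RS 160000 20000
  rw [cb_8, cnt_8] at h
  exact h

theorem cb_10 : cntBits RS 200000 = 117563 := by
  have h := cntBits_step RS 180000 20000
  rw [cb_9, cnt_9] at h
  exact h

theorem cb_11 : cntBits RS 220000 = 125591 := by
  have h := cntBits_step RS 200000 20000
  rw [cb_10, cnt_10] at h
  exact h

theorem cb_12 : cntBits RS 240000 = 131740 := by
  have h := cntBits_step RS 220000 20000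
  rw [cb_11, cnt_11] at h
  exact h

theorem cb_13 : cntBits RS 260000 = 137034 := by
  have h := cntBits_step RS 240000 20000
  rw [cb_12, cnt_12] at h
  exact h

theorem cb_14 : cntBits RS 280000 = 142343 := by
  have h := cntBits_step RS 260000 20000
  rw [cb_13, cnt_13] at h
  exact h

theorem cb_15 : cntBits RS 300000 = 147410 := by
  have h := cntBits_step RS 280000 20000
  rw [cb_14, cnt_14] at h
  exact h

theorem cb_16 : cntBits RS 320000 = 153642 := by
  have h := cntBits_step RS 300000 20000
  rw [cb_15, cnt_15] at h
  exact h

theorem cb_17 : cntBits RS 340000 = 158811 := by
  have h := cntBits_step RS 320000 20000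
  rw [cb_16, cnt_16] at h
  exact h

theorem cb_18 : cntBits RS 360000 = 163930 := by
  have h := cntBits_step RS 340000 20000
  rw [cb_17, cnt_17] at h
  exact h

theorem cb_19 : cntBits RS 380000 = 169042 := by
  have h := cntBits_step RS 360000 20000
  rw [cb_18, cnt_18] at h
  exact h

theorem cb_20 : cntBits RS 400000 = 173871 := by
  have h := cntBits_step RS 380000 20000
  rw [cb_19, cnt_19] at h
  exact h

theorem cb_21 : cntBits RS 420000 = 177311 := by
  have h := cntBits_step RS 400000 20000
  rw [cb_20, cnt_20] at h
  exact h

theorem cb_22 : cntBits RS 440000 = 180927 := by
  have h := cntBits_step RS 420000 20000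
  rw [cb_21, cnt_21] at h
  exact h

theorem cb_23 : cntBits RS 460000 = 184829 := by
  have h := cntBits_step RS 440000 20000
  rw [cb_22, cnt_22] at h
  exact h

theorem cb_24 : cntBits RS 480000 = 188779 := by
  have h := cntBits_step RS 460000 20000
  rw [cb_23, cnt_23] at h
  exact h

theorem cb_25 : cntBits RS 500000 = 193286 := by
  have h := cntBits_step RS 480000 20000
  rw [cb_24, cnt_24] at h
  exact h

theorem cb_26 : cntBits RS 520000 = 196360 := by
  have h := cntBits_step RS 500000 20000
  rw [cb_25, cnt_25] at h
  exact h

theorem cb_27 : cntBits RS 540000 = 206370 := by
  have h := cntBits_step RS 520000 20000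
  rw [cb_26, cnt_26] at h
  exact h

theorem cb_28 : cntBits RS 560000 = 224814 := by
  have h := cntBits_step RS 540000 20000
  rw [cb_27, cnt_27] at h
  exact h

theorem cb_29 : cntBits RS 580000 = 243749 := by
  have h := cntBits_step RS 560000 20000
  rw [cb_28, cnt_28] at h
  exact h

theorem cb_30 : cntBits RS 588491 = 252000 := by
  have h := cntBits_step RS 580000 8491
  rw [cb_29, cnt_29] at h
  exact h

theorem set_ok : setOK 588491 252000 RS = true :=
  setOK_of_parts cb_30 set_zero set_lt

theorem relf_0 : ∀ v, v < 252000 → W_0 v = v := by
  intro v hv
  rcases Nat.lt_or_ge v 133332 with h | h
  · rcases Nat.lt_or_ge v 66666 with h | h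
    · rcases Nat.lt_or_ge v 33333 with h | h
      · exact fixPtsF_spec W_0 33333 0 relc_0_0 v (by omega) (by omega)
      · exact fixPtsF_spec W_0 33333 33333 relc_0_1 v (by omega) (by omega)
    · rcases Nat.lt_or_ge v 99999 with h | h
      · exact fixPtsF_spec W_0 33333 66666 relc_0_2 v (by omega) (by omega)
      · exact fixPtsF_spec W_0 33333 99999 relc_0_3 v (by omega) (by omega)
  · rcases Nat.lt_or_ge v 199998 with h | h
    · rcases Nat.lt_or_ge v 166665 with h | h
      · exact fixPtsF_spec W_0 33333 133332 relc_0_4 v (by omega) (by omega)
      · exact fixPtsF_spec W_0 33333 166665 relc_0_5 v (by omega) (by omega)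
    · rcases Nat.lt_or_ge v 233331 with h | h
      · exact fixPtsF_spec W_0 33333 199998 relc_0_6 v (by omega) (by omega)
      · exact fixPtsF_spec W_0 18669 233331 relc_0_7 v (by omega) (by omega)

set_option maxRecDepth 1000000 in
theorem walk_0 : ∀ v, walkT ctF (D.wlen 0) (D.wordP 0) v = W_0 v := by
  intro v
  simp only [W_0, forceL_eq]
  rfl

theorem relw_0 : ∀ v, v < 252000 → walkT ctF (D.wlen 0) (D.wordP 0) v = v := by
  intro v hv
  rw [walk_0]
  exact relf_0 v hv

theorem relf_1 : ∀ v, v < 252000 → W_1 v = v := by
  intro v hv
  rcases Nat.lt_or_ge v 133332 with h | h
  · rcases Nat.lt_or_ge v 66666 with h | h
    · rcases Nat.lt_or_ge v 33333 with h | h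
      · exact fixPtsF_spec W_1 33333 0 relc_1_0 v (by omega) (by omega)
      · exact fixPtsF_spec W_1 33333 33333 relc_1_1 v (by omega) (by omega)
    · rcases Nat.lt_or_ge v 99999 with h | h
      · exact fixPtsF_spec W_1 33333 66666 relc_1_2 v (by omega) (by omega)
      · exact fixPtsF_spec W_1 33333 99999 relc_1_3 v (by omega) (by omega)
  · rcases Nat.lt_or_ge v 199998 with h | h
    · rcases Nat.lt_or_ge v 166665 with h | h
      · exact fixPtsF_spec W_1 33333 133332 relc_1_4 v (by omega) (by omega)
      · exact fixPtsF_spec W_1 33333 166665 relc_1_5 v (by omega) (by omega)
    · rcases Nat.lt_or_ge v 233331 with h | h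
      · exact fixPtsF_spec W_1 33333 199998 relc_1_6 v (by omega) (by omega)
      · exact fixPtsF_spec W_1 18669 233331 relc_1_7 v (by omega) (by omega)

set_option maxRecDepth 1000000 in
theorem walk_1 : ∀ v, walkT ctF (D.wlen 1) (D.wordP 1) v = W_1 v := by
  intro v
  simp only [W_1, forceL_eq]
  rfl

theorem relw_1 : ∀ v, v < 252000 → walkT ctF (D.wlen 1) (D.wordP 1) v = v := by
  intro v hv
  rw [walk_1]
  exact relf_1 v hv

theorem relf_2 : ∀ v, v < 252000 → W_2 v = v := by
  intro v hv
  rcases Nat.lt_or_ge v 133328 with h | h
  · rcases Nat.lt_or_ge v 66664 with h | h
    · rcases Nat.lt_or_ge v 33332 with h | h
      · rcases Nat.lt_or_ge v 16666 with h | h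
        · exact fixPtsF_spec W_2 16666 0 relc_2_0 v (by omega) (by omega)
        · exact fixPtsF_spec W_2 16666 16666 relc_2_1 v (by omega) (by omega)
      · rcases Nat.lt_or_ge v 49998 with h | h
        · exact fixPtsF_spec W_2 16666 33332 relc_2_2 v (by omega) (by omega)
        · exact fixPtsF_spec W_2 16666 49998 relc_2_3 v (by omega) (by omega)
    · rcases Nat.lt_or_ge v 99996 with h | h
      · rcases Nat.lt_or_ge v 83330 with h | h
        · exact fixPtsF_spec W_2 16666 66664 relc_2_4 v (by omega) (by omega)
        · exact fixPtsF_spec W_2 16666 83330 relc_2_5 v (by omega) (by omega)
      · rcases Nat.lt_or_ge v 116662 with h | h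
        · exact fixPtsF_spec W_2 16666 99996 relc_2_6 v (by omega) (by omega)
        · exact fixPtsF_spec W_2 16666 116662 relc_2_7 v (by omega) (by omega)
  · rcases Nat.lt_or_ge v 199992 with h | h
    · rcases Nat.lt_or_ge v 166660 with h | h
      · rcases Nat.lt_or_ge v 149994 with h | h
        · exact fixPtsF_spec W_2 16666 133328 relc_2_8 v (by omega) (by omega)
        · exact fixPtsF_spec W_2 16666 149994 relc_2_9 v (by omega) (by omega)
      · rcases Nat.lt_or_ge v 183326 with h | h
        · exact fixPtsF_spec W_2 16666 166660 relc_2_10 v (by omega) (by omega)
        · exact fixPtsF_spec W_2 16666 183326 relc_2_11 v (by omega) (by omega)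
    · rcases Nat.lt_or_ge v 233324 with h | h
      · rcases Nat.lt_or_ge v 216658 with h | h
        · exact fixPtsF_spec W_2 16666 199992 relc_2_12 v (by omega) (by omega)
        · exact fixPtsF_spec W_2 16666 216658 relc_2_13 v (by omega) (by omega)
      · rcases Nat.lt_or_ge v 249990 with h | h
        · exact fixPtsF_spec W_2 16666 233324 relc_2_14 v (by omega) (by omega)
        · exact fixPtsF_spec W_2 2010 249990 relc_2_15 v (by omega) (by omega)

set_option maxRecDepth 1000000 in
theorem walk_2 : ∀ v, walkT ctF (D.wlen 2) (D.wordP 2) v = W_2 v := by
  intro v
  simp only [W_2, forceL_eq]
  rfl

theorem relw_2 : ∀ v, v < 252000 → walkT ctF (D.wlen 2) (D.wordP 2) v = v := by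
  intro v hv
  rw [walk_2]
  exact relf_2 v hv

theorem relf_3 : ∀ v, v < 252000 → W_3 v = v := by
  intro v hv
  rcases Nat.lt_or_ge v 123799 with h | h
  · rcases Nat.lt_or_ge v 57138 with h | h
    · rcases Nat.lt_or_ge v 28569 with h | h
      · rcases Nat.lt_or_ge v 9523 with h | h
        · exact fixPtsF_spec W_3 9523 0 relc_3_0 v (by omega) (by omega)
        · rcases Nat.lt_or_ge v 19046 with h | h
          · exact fixPtsF_spec W_3 9523 9523 relc_3_1 v (by omega) (by omega)
          · exact fixPtsF_spec W_3 9523 19046 relc_3_2 v (by omega) (by omega)
      · rcases Nat.lt_or_ge v 38092 with h | h
        · exact fixPtsF_spec W_3 9523 28569 relc_3_3 v (by omega) (by omega)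
        · rcases Nat.lt_or_ge v 47615 with h | h
          · exact fixPtsF_spec W_3 9523 38092 relc_3_4 v (by omega) (by omega)
          · exact fixPtsF_spec W_3 9523 47615 relc_3_5 v (by omega) (by omega)
    · rcases Nat.lt_or_ge v 85707 with h | h
      · rcases Nat.lt_or_ge v 66661 with h | h
        · exact fixPtsF_spec W_3 9523 57138 relc_3_6 v (by omega) (by omega)
        · rcases Nat.lt_or_ge v 76184 with h | h
          · exact fixPtsF_spec W_3 9523 66661 relc_3_7 v (by omega) (by omega)
          · exact fixPtsF_spec W_3 9523 76184 relc_3_8 v (by omega) (by omega)
      · rcases Nat.lt_or_ge v 104753 with h | h
        · rcases Nat.lt_or_ge v 95230 with h | h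
          · exact fixPtsF_spec W_3 9523 85707 relc_3_9 v (by omega) (by omega)
          · exact fixPtsF_spec W_3 9523 95230 relc_3_10 v (by omega) (by omega)
        · rcases Nat.lt_or_ge v 114276 with h | h
          · exact fixPtsF_spec W_3 9523 104753 relc_3_11 v (by omega) (by omega)
          · exact fixPtsF_spec W_3 9523 114276 relc_3_12 v (by omega) (by omega)
  · rcases Nat.lt_or_ge v 190460 with h | h
    · rcases Nat.lt_or_ge v 152368 with h | h
      · rcases Nat.lt_or_ge v 133322 with h | h
        · exact fixPtsF_spec W_3 9523 123799 relc_3_13 v (by omega) (by omega)
        · rcases Nat.lt_or_ge v 142845 with h | h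
          · exact fixPtsF_spec W_3 9523 133322 relc_3_14 v (by omega) (by omega)
          · exact fixPtsF_spec W_3 9523 142845 relc_3_15 v (by omega) (by omega)
      · rcases Nat.lt_or_ge v 171414 with h | h
        · rcases Nat.lt_or_ge v 161891 with h | h
          · exact fixPtsF_spec W_3 9523 152368 relc_3_16 v (by omega) (by omega)
          · exact fixPtsF_spec W_3 9523 161891 relc_3_17 v (by omega) (by omega)
        · rcases Nat.lt_or_ge v 180937 with h | h
          · exact fixPtsF_spec W_3 9523 171414 relc_3_18 v (by omega) (by omega)
          · exact fixPtsF_spec W_3 9523 180937 relc_3_19 v (by omega) (by omega)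
    · rcases Nat.lt_or_ge v 219029 with h | h
      · rcases Nat.lt_or_ge v 199983 with h | h
        · exact fixPtsF_spec W_3 9523 190460 relc_3_20 v (by omega) (by omega)
        · rcases Nat.lt_or_ge v 209506 with h | h
          · exact fixPtsF_spec W_3 9523 199983 relc_3_21 v (by omega) (by omega)
          · exact fixPtsF_spec W_3 9523 209506 relc_3_22 v (by omega) (by omega)
      · rcases Nat.lt_or_ge v 238075 with h | h
        · rcases Nat.lt_or_ge v 228552 with h | h
          · exact fixPtsF_spec W_3 9523 219029 relc_3_23 v (by omega) (by omega)
          · exact fixPtsF_spec W_3 9523 228552 relc_3_24 v (by omega) (by omega)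
        · rcases Nat.lt_or_ge v 247598 with h | h
          · exact fixPtsF_spec W_3 9523 238075 relc_3_25 v (by omega) (by omega)
          · exact fixPtsF_spec W_3 4402 247598 relc_3_26 v (by omega) (by omega)

set_option maxRecDepth 1000000 in
theorem walk_3 : ∀ v, walkT ctF (D.wlen 3) (D.wordP 3) v = W_3 v := by
  intro v
  simp only [W_3, forceL_eq]
  rfl

theorem relw_3 : ∀ v, v < 252000 → walkT ctF (D.wlen 3) (D.wordP 3) v = v := by
  intro v hv
  rw [walk_3]
  exact relf_3 v hv

theorem relf_4 : ∀ v, v < 252000 → W_4 v = v := by
  intro v hv
  rcases Nat.lt_or_ge v 125000 with h | h
  · rcases Nat.lt_or_ge v 62500 with h | h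
    · rcases Nat.lt_or_ge v 25000 with h | h
      · rcases Nat.lt_or_ge v 12500 with h | h
        · exact fixPtsF_spec W_4 12500 0 relc_4_0 v (by omega) (by omega)
        · exact fixPtsF_spec W_4 12500 12500 relc_4_1 v (by omega) (by omega)
      · rcases Nat.lt_or_ge v 37500 with h | h
        · exact fixPtsF_spec W_4 12500 25000 relc_4_2 v (by omega) (by omega)
        · rcases Nat.lt_or_ge v 50000 with h | h
          · exact fixPtsF_spec W_4 12500 37500 relc_4_3 v (by omega) (by omega)
          · exact fixPtsF_spec W_4 12500 50000 relc_4_4 v (by omega) (by omega)
    · rcases Nat.lt_or_ge v 87500 with h | h
      · rcases Nat.lt_or_ge v 75000 with h | h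
        · exact fixPtsF_spec W_4 12500 62500 relc_4_5 v (by omega) (by omega)
        · exact fixPtsF_spec W_4 12500 75000 relc_4_6 v (by omega) (by omega)
      · rcases Nat.lt_or_ge v 100000 with h | h
        · exact fixPtsF_spec W_4 12500 87500 relc_4_7 v (by omega) (by omega)
        · rcases Nat.lt_or_ge v 112500 with h | h
          · exact fixPtsF_spec W_4 12500 100000 relc_4_8 v (by omega) (by omega)
          · exact fixPtsF_spec W_4 12500 112500 relc_4_9 v (by omega) (by omega)
  · rcases Nat.lt_or_ge v 187500 with h | h
    · rcases Nat.lt_or_ge v 150000 with h | h
      · rcases Nat.lt_or_ge v 137500 with h | h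
        · exact fixPtsF_spec W_4 12500 125000 relc_4_10 v (by omega) (by omega)
        · exact fixPtsF_spec W_4 12500 137500 relc_4_11 v (by omega) (by omega)
      · rcases Nat.lt_or_ge v 162500 with h | h
        · exact fixPtsF_spec W_4 12500 150000 relc_4_12 v (by omega) (by omega)
        · rcases Nat.lt_or_ge v 175000 with h | h
          · exact fixPtsF_spec W_4 12500 162500 relc_4_13 v (by omega) (by omega)
          · exact fixPtsF_spec W_4 12500 175000 relc_4_14 v (by omega) (by omega)
    · rcases Nat.lt_or_ge v 225000 with h | h
      · rcases Nat.lt_or_ge v 200000 with h | h
        · exact fixPtsF_spec W_4 12500 187500 relc_4_15 v (by omega) (by omega)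
        · rcases Nat.lt_or_ge v 212500 with h | h
          · exact fixPtsF_spec W_4 12500 200000 relc_4_16 v (by omega) (by omega)
          · exact fixPtsF_spec W_4 12500 212500 relc_4_17 v (by omega) (by omega)
      · rcases Nat.lt_or_ge v 237500 with h | h
        · exact fixPtsF_spec W_4 12500 225000 relc_4_18 v (by omega) (by omega)
        · rcases Nat.lt_or_ge v 250000 with h | h
          · exact fixPtsF_spec W_4 12500 237500 relc_4_19 v (by omega) (by omega)
          · exact fixPtsF_spec W_4 2000 250000 relc_4_20 v (by omega) (by omega)

set_option maxRecDepth 1000000 in
theorem walk_4 : ∀ v, walkT ctF (D.wlen 4) (D.wordP 4) v = W_4 v := by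
  intro v
  simp only [W_4, forceL_eq]
  rfl

theorem relw_4 : ∀ v, v < 252000 → walkT ctF (D.wlen 4) (D.wordP 4) v = v := by
  intro v hv
  rw [walk_4]
  exact relf_4 v hv

theorem relf_5 : ∀ v, v < 252000 → W_5 v = v := by
  intro v hv
  rcases Nat.lt_or_ge v 124995 with h | h
  · rcases Nat.lt_or_ge v 58331 with h | h
    · rcases Nat.lt_or_ge v 24999 with h | h
      · rcases Nat.lt_or_ge v 8333 with h | h
        · exact fixPtsF_spec W_5 8333 0 relc_5_0 v (by omega) (by omega)
        · rcases Nat.lt_or_ge v 16666 with h | h
          · exact fixPtsF_spec W_5 8333 8333 relc_5_1 v (by omega) (by omega)
          · exact fixPtsF_spec W_5 8333 16666 relc_5_2 v (by omega) (by omega)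
      · rcases Nat.lt_or_ge v 41665 with h | h
        · rcases Nat.lt_or_ge v 33332 with h | h
          · exact fixPtsF_spec W_5 8333 24999 relc_5_3 v (by omega) (by omega)
          · exact fixPtsF_spec W_5 8333 33332 relc_5_4 v (by omega) (by omega)
        · rcases Nat.lt_or_ge v 49998 with h | h
          · exact fixPtsF_spec W_5 8333 41665 relc_5_5 v (by omega) (by omega)
          · exact fixPtsF_spec W_5 8333 49998 relc_5_6 v (by omega) (by omega)
    · rcases Nat.lt_or_ge v 91663 with h | h
      · rcases Nat.lt_or_ge v 74997 with h | h
        · rcases Nat.lt_or_ge v 66664 with h | h
          · exact fixPtsF_spec W_5 8333 58331 relc_5_7 v (by omega) (by omega)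
          · exact fixPtsF_spec W_5 8333 66664 relc_5_8 v (by omega) (by omega)
        · rcases Nat.lt_or_ge v 83330 with h | h
          · exact fixPtsF_spec W_5 8333 74997 relc_5_9 v (by omega) (by omega)
          · exact fixPtsF_spec W_5 8333 83330 relc_5_10 v (by omega) (by omega)
      · rcases Nat.lt_or_ge v 108329 with h | h
        · rcases Nat.lt_or_ge v 99996 with h | h
          · exact fixPtsF_spec W_5 8333 91663 relc_5_11 v (by omega) (by omega)
          · exact fixPtsF_spec W_5 8333 99996 relc_5_12 v (by omega) (by omega)
        · rcases Nat.lt_or_ge v 116662 with h | h
          · exact fixPtsF_spec W_5 8333 108329 relc_5_13 v (by omega) (by omega)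
          · exact fixPtsF_spec W_5 8333 116662 relc_5_14 v (by omega) (by omega)
  · rcases Nat.lt_or_ge v 191659 with h | h
    · rcases Nat.lt_or_ge v 158327 with h | h
      · rcases Nat.lt_or_ge v 141661 with h | h
        · rcases Nat.lt_or_ge v 133328 with h | h
          · exact fixPtsF_spec W_5 8333 124995 relc_5_15 v (by omega) (by omega)
          · exact fixPtsF_spec W_5 8333 133328 relc_5_16 v (by omega) (by omega)
        · rcases Nat.lt_or_ge v 149994 with h | h
          · exact fixPtsF_spec W_5 8333 141661 relc_5_17 v (by omega) (by omega)
          · exact fixPtsF_spec W_5 8333 149994 relc_5_18 v (by omega) (by omega)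
      · rcases Nat.lt_or_ge v 174993 with h | h
        · rcases Nat.lt_or_ge v 166660 with h | h
          · exact fixPtsF_spec W_5 8333 158327 relc_5_19 v (by omega) (by omega)
          · exact fixPtsF_spec W_5 8333 166660 relc_5_20 v (by omega) (by omega)
        · rcases Nat.lt_or_ge v 183326 with h | h
          · exact fixPtsF_spec W_5 8333 174993 relc_5_21 v (by omega) (by omega)
          · exact fixPtsF_spec W_5 8333 183326 relc_5_22 v (by omega) (by omega)
    · rcases Nat.lt_or_ge v 224991 with h | h
      · rcases Nat.lt_or_ge v 208325 with h | h
        · rcases Nat.lt_or_ge v 199992 with h | h
          · exact fixPtsF_spec W_5 8333 191659 relc_5_23 v (by omega) (by omega)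
          · exact fixPtsF_spec W_5 8333 199992 relc_5_24 v (by omega) (by omega)
        · rcases Nat.lt_or_ge v 216658 with h | h
          · exact fixPtsF_spec W_5 8333 208325 relc_5_25 v (by omega) (by omega)
          · exact fixPtsF_spec W_5 8333 216658 relc_5_26 v (by omega) (by omega)
      · rcases Nat.lt_or_ge v 241657 with h | h
        · rcases Nat.lt_or_ge v 233324 with h | h
          · exact fixPtsF_spec W_5 8333 224991 relc_5_27 v (by omega) (by omega)
          · exact fixPtsF_spec W_5 8333 233324 relc_5_28 v (by omega) (by omega)
        · rcases Nat.lt_or_ge v 249990 with h | h
          · exact fixPtsF_spec W_5 8333 241657 relc_5_29 v (by omega) (by omega)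
          · exact fixPtsF_spec W_5 2010 249990 relc_5_30 v (by omega) (by omega)

set_option maxRecDepth 1000000 in
theorem walk_5 : ∀ v, walkT ctF (D.wlen 5) (D.wordP 5) v = W_5 v := by
  intro v
  simp only [W_5, forceL_eq]
  rfl

theorem relw_5 : ∀ v, v < 252000 → walkT ctF (D.wlen 5) (D.wordP 5) v = v := by
  intro v hv
  rw [walk_5]
  exact relf_5 v hv

theorem relf_6 : ∀ v, v < 252000 → W_6 v = v := by
  intro v hv
  rcases Nat.lt_or_ge v 100000 with h | h
  · exact fixPtsF_spec W_6 100000 0 relc_6_0 v (by omega) (by omega)
  · rcases Nat.lt_or_ge v 200000 with h | h
    · exact fixPtsF_spec W_6 100000 100000 relc_6_1 v (by omega) (by omega)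
    · exact fixPtsF_spec W_6 52000 200000 relc_6_2 v (by omega) (by omega)

set_option maxRecDepth 1000000 in
theorem walk_6 : ∀ v, walkT ctF (D.wlen 6) (D.wordP 6) v = W_6 v := by
  intro v
  simp only [W_6, forceL_eq]
  rfl

theorem relw_6 : ∀ v, v < 252000 → walkT ctF (D.wlen 6) (D.wordP 6) v = v := by
  intro v hv
  rw [walk_6]
  exact relf_6 v hv

theorem relf_7 : ∀ v, v < 252000 → W_7 v = v := by
  intro v hv
  rcases Nat.lt_or_ge v 100000 with h | h
  · exact fixPtsF_spec W_7 100000 0 relc_7_0 v (by omega) (by omega)
  · rcases Nat.lt_or_ge v 200000 with h | h
    · exact fixPtsF_spec W_7 100000 100000 relc_7_1 v (by omega) (by omega)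
    · exact fixPtsF_spec W_7 52000 200000 relc_7_2 v (by omega) (by omega)

set_option maxRecDepth 1000000 in
theorem walk_7 : ∀ v, walkT ctF (D.wlen 7) (D.wordP 7) v = W_7 v := by
  intro v
  simp only [W_7, forceL_eq]
  rfl

theorem relw_7 : ∀ v, v < 252000 → walkT ctF (D.wlen 7) (D.wordP 7) v = v := by
  intro v hv
  rw [walk_7]
  exact relf_7 v hv

theorem relf_8 : ∀ v, v < 252000 → W_8 v = v := by
  intro v hv
  rcases Nat.lt_or_ge v 100000 with h | h
  · exact fixPtsF_spec W_8 100000 0 relc_8_0 v (by omega) (by omega)
  · rcases Nat.lt_or_ge v 200000 with h | h
    · exact fixPtsF_spec W_8 100000 100000 relc_8_1 v (by omega) (by omega)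
    · exact fixPtsF_spec W_8 52000 200000 relc_8_2 v (by omega) (by omega)

set_option maxRecDepth 1000000 in
theorem walk_8 : ∀ v, walkT ctF (D.wlen 8) (D.wordP 8) v = W_8 v := by
  intro v
  simp only [W_8, forceL_eq]
  rfl

theorem relw_8 : ∀ v, v < 252000 → walkT ctF (D.wlen 8) (D.wordP 8) v = v := by
  intro v hv
  rw [walk_8]
  exact relf_8 v hv

theorem relf_9 : ∀ v, v < 252000 → W_9 v = v := by
  intro v hv
  rcases Nat.lt_or_ge v 100000 with h | h
  · exact fixPtsF_spec W_9 100000 0 relc_9_0 v (by omega) (by omega)
  · rcases Nat.lt_or_ge v 200000 with h | h
    · exact fixPtsF_spec W_9 100000 100000 relc_9_1 v (by omega) (by omega)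
    · exact fixPtsF_spec W_9 52000 200000 relc_9_2 v (by omega) (by omega)

set_option maxRecDepth 1000000 in
theorem walk_9 : ∀ v, walkT ctF (D.wlen 9) (D.wordP 9) v = W_9 v := by
  intro v
  simp only [W_9, forceL_eq]
  rfl

theorem relw_9 : ∀ v, v < 252000 → walkT ctF (D.wlen 9) (D.wordP 9) v = v := by
  intro v hv
  rw [walk_9]
  exact relf_9 v hv

theorem invx_0 : ∀ v, v < 252000 → ctF 0 v < 252000 ∧ ctF 1 (ctF 0 v) = v := by
  intro v hv
  rcases Nat.lt_or_ge v 150000 with h | h
  · rcases Nat.lt_or_ge v 50000 with h | h
    · exact invRowFI_spec ctF 252000 0 1 50000 0 inv_0_0 v (by omega) (by omega)
    · rcases Nat.lt_or_ge v 100000 with h | h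
      · exact invRowFI_spec ctF 252000 0 1 50000 50000 inv_0_1 v (by omega) (by omega)
      · exact invRowFI_spec ctF 252000 0 1 50000 100000 inv_0_2 v (by omega) (by omega)
  · rcases Nat.lt_or_ge v 200000 with h | h
    · exact invRowFI_spec ctF 252000 0 1 50000 150000 inv_0_3 v (by omega) (by omega)
    · rcases Nat.lt_or_ge v 250000 with h | h
      · exact invRowFI_spec ctF 252000 0 1 50000 200000 inv_0_4 v (by omega) (by omega)
      · exact invRowFI_spec ctF 252000 0 1 2000 250000 inv_0_5 v (by omega) (by omega)

theorem invx_1 : ∀ v, v < 252000 → ctF 1 v < 252000 ∧ ctF 0 (ctF 1 v) = v := by
  intro v hv
  rcases Nat.lt_or_ge v 150000 with h | h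
  · rcases Nat.lt_or_ge v 50000 with h | h
    · exact invRowFI_spec ctF 252000 1 0 50000 0 inv_1_0 v (by omega) (by omega)
    · rcases Nat.lt_or_ge v 100000 with h | h
      · exact invRowFI_spec ctF 252000 1 0 50000 50000 inv_1_1 v (by omega) (by omega)
      · exact invRowFI_spec ctF 252000 1 0 50000 100000 inv_1_2 v (by omega) (by omega)
  · rcases Nat.lt_or_ge v 200000 with h | h
    · exact invRowFI_spec ctF 252000 1 0 50000 150000 inv_1_3 v (by omega) (by omega)
    · rcases Nat.lt_or_ge v 250000 with h | h
      · exact invRowFI_spec ctF 252000 1 0 50000 200000 inv_1_4 v (by omega) (by omega)
      · exact invRowFI_spec ctF 252000 1 0 2000 250000 inv_1_5 v (by omega) (by omega)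

theorem invx_2 : ∀ v, v < 252000 → ctF 2 v < 252000 ∧ ctF 3 (ctF 2 v) = v := by
  intro v hv
  rcases Nat.lt_or_ge v 150000 with h | h
  · rcases Nat.lt_or_ge v 50000 with h | h
    · exact invRowFI_spec ctF 252000 2 3 50000 0 inv_2_0 v (by omega) (by omega)
    · rcases Nat.lt_or_ge v 100000 with h | h
      · exact invRowFI_spec ctF 252000 2 3 50000 50000 inv_2_1 v (by omega) (by omega)
      · exact invRowFI_spec ctF 252000 2 3 50000 100000 inv_2_2 v (by omega) (by omega)
  · rcases Nat.lt_or_ge v 200000 with h | h
    · exact invRowFI_spec ctF 252000 2 3 50000 150000 inv_2_3 v (by omega) (by omega)
    · rcases Nat.lt_or_ge v 250000 with h | h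
      · exact invRowFI_spec ctF 252000 2 3 50000 200000 inv_2_4 v (by omega) (by omega)
      · exact invRowFI_spec ctF 252000 2 3 2000 250000 inv_2_5 v (by omega) (by omega)

theorem invx_3 : ∀ v, v < 252000 → ctF 3 v < 252000 ∧ ctF 2 (ctF 3 v) = v := by
  intro v hv
  rcases Nat.lt_or_ge v 150000 with h | h
  · rcases Nat.lt_or_ge v 50000 with h | h
    · exact invRowFI_spec ctF 252000 3 2 50000 0 inv_3_0 v (by omega) (by omega)
    · rcases Nat.lt_or_ge v 100000 with h | h
      · exact invRowFI_spec ctF 252000 3 2 50000 50000 inv_3_1 v (by omega) (by omega)
      · exact invRowFI_spec ctF 252000 3 2 50000 100000 inv_3_2 v (by omega) (by omega)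
  · rcases Nat.lt_or_ge v 200000 with h | h
    · exact invRowFI_spec ctF 252000 3 2 50000 150000 inv_3_3 v (by omega) (by omega)
    · rcases Nat.lt_or_ge v 250000 with h | h
      · exact invRowFI_spec ctF 252000 3 2 50000 200000 inv_3_4 v (by omega) (by omega)
      · exact invRowFI_spec ctF 252000 3 2 2000 250000 inv_3_5 v (by omega) (by omega)

theorem hconn : ∀ v, v < 252000 → v ≠ 0 → ∃ x, x < E.D.k ∧ ctF x v < v := by
  intro v hv
  rcases Nat.lt_or_ge v 150000 with h | h
  · rcases Nat.lt_or_ge v 50000 with h | h
    · exact connF_spec ctF 4 50000 0 conn_0 v (by omega) (by omega)
    · rcases Nat.lt_or_ge v 100000 with h | h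
      · exact connF_spec ctF 4 50000 50000 conn_1 v (by omega) (by omega)
      · exact connF_spec ctF 4 50000 100000 conn_2 v (by omega) (by omega)
  · rcases Nat.lt_or_ge v 200000 with h | h
    · exact connF_spec ctF 4 50000 150000 conn_3 v (by omega) (by omega)
    · rcases Nat.lt_or_ge v 250000 with h | h
      · exact connF_spec ctF 4 50000 200000 conn_4 v (by omega) (by omega)
      · exact connF_spec ctF 4 2000 250000 conn_5 v (by omega) (by omega)

theorem hE : ∀ v, v < E.M → ∀ x, x < E.D.k → edgeOKI iota E x v = true := by
  intro v hv x hx
  have hv' : v < 588491 := hv
  have hx' : x < 4 := hx
  interval_cases x
  · exact edgesx_0 v hv'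
  · exact edgesx_1 v hv'
  · exact edgesx_2 v hv'
  · exact edgesx_3 v hv'

theorem hA : ∀ v, v < E.M → aliasOK E v = true := fun v hv => hA0 v hv

theorem hrows : ∀ v, v < E.M → tb RS v = true → rowOK2 E RS v E.D.k = true := fun v hv => hrows0 v hv

theorem hT : ∀ x, x < E.D.k → ∀ v, v < 252000 → ctF x v < 252000 ∧ ctF (iota x) (ctF x v) = v := by
  intro x hx
  have hx' : x < 4 := hx
  interval_cases x
  · exact invx_0
  · exact invx_1
  · exact invx_2
  · exact invx_3

theorem hltr : ∀ j, j < E.D.nw → lettersOK E.D.k (E.D.wlen j) (E.D.wordP j) = true :=
  wordsOK_spec D D.nw words_ok

theorem hrelT : ∀ wi, wi < E.D.nrel → ∀ v, v < 252000 →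
    walkT ctF (E.D.wlen wi) (E.D.wordP wi) v = v := by
  intro wi hwi
  have hwi' : wi < 10 := hwi
  interval_cases wi
  · exact relw_0
  · exact relw_1
  · exact relw_2
  · exact relw_3
  · exact relw_4
  · exact relw_5
  · exact relw_6
  · exact relw_7
  · exact relw_8
  · exact relw_9

theorem hsubT : ∀ wi, wi < E.D.nw → E.D.nrel ≤ wi →
    walkT ctF (E.D.wlen wi) (E.D.wordP wi) 0 = 0 :=
  subAll_spec ctF D D.nw sub_ok

end

end Cfsg.Agent.Helper5.HNATC
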