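import Mathlib
import Cfsg.Prelude.Def_Spor_HN
import Cfsg.Agent.Helper5.HNOrd
import Cfsg.Agent.Helper5.TCIB

/-!
# The presented Harada–Norton group and the letters of the coset enumeration

The nine letters `x, x⁻¹, y, y⁻¹, z, t, t⁻¹, t², t⁻²` of the enumeration, the twenty-six relator
words (the fourteen relators and twelve consequences) and the universal property in the form needed
for the coset table.
-/

set_option autoImplicit false
set_option linter.unusedSimpArgs false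

namespace Cfsg.Agent.Helper5.HNGen

open Cfsg Cfsg.Spor Cfsg.Agent.Helper5.HNOrd Cfsg.Agent.Helper5.TC Cfsg.Agent.Helper5.TCI

section
variable {K : Type*} [Group K]

/-- the letters (as read by the enumerator). -/
def lt4 (x y z t : K) : ℕ → K
  | 0 => x
  | 1 => x⁻¹
  | 2 => y
  | 3 => y⁻¹
  | 4 => z
  | 5 => t
  | 6 => t⁻¹
  | 7 => t ^ 2
  | 8 => (t ^ 2)⁻¹
  | _ => 1

/-- evaluation of a word (read from left to right). -/
def evw4 (x y z t : K) (l : List ℕ) : K := (l.map (lt4 x y z t)).prod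

theorem evw4_cons (x y z t : K) (c : ℕ) (l : List ℕ) :
    evw4 x y z t (c :: l) = lt4 x y z t c * evw4 x y z t l := by
  simp [evw4]

/-- the pairing of the letters. -/
def io : ℕ → ℕ
  | 0 => 1
  | 1 => 0
  | 2 => 3
  | 3 => 2
  | 4 => 4
  | 5 => 6
  | 6 => 5
  | 7 => 8
  | 8 => 7
  | n => n

theorem io_io : ∀ c, io (io c) = c
  | 0 => rfl
  | 1 => rfl
  | 2 => rfl
  | 3 => rfl
  | 4 => rfl
  | 5 => rfl
  | 6 => rfl
  | 7 => rfl
  | 8 => rfl
  | _ + 9 => rfl

theorem lt4_io (x y z t : K) (hz : z⁻¹ = z) : ∀ c, lt4 x y z t (io c) = (lt4 x y z t c)⁻¹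
  | 0 => rfl
  | 1 => (inv_inv x).symm
  | 2 => rfl
  | 3 => (inv_inv y).symm
  | 4 => hz.symm
  | 5 => rfl
  | 6 => (inv_inv t).symm
  | 7 => rfl
  | 8 => (inv_inv (t ^ 2)).symm
  | _ + 9 => inv_one.symm

theorem map_lt4 {K' : Type*} [Group K'] (f : K →* K') (x y z t : K) :
    ∀ c, f (lt4 x y z t c) = lt4 (f x) (f y) (f z) (f t) c
  | 0 => rfl
  | 1 => map_inv f x
  | 2 => rfl
  | 3 => map_inv f y
  | 4 => rfl
  | 5 => rfl
  | 6 => map_inv f t
  | 7 => map_pow f t 2
  | 8 => by show f (t ^ 2)⁻¹ = (f t ^ 2)⁻¹; rw [map_inv, map_pow]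
  | _ + 9 => map_one f

/-- the twenty-six relator words. -/
def W : List (List ℕ) :=
  [[2, 2, 2, 2, 2, 2],
   [0, 0, 2, 0, 0, 3],
   [1, 3, 0, 2, 1, 3, 0, 2, 1, 3, 0, 2],
   [1, 2, 2, 0, 2, 2, 2, 1, 2, 2, 0, 2, 2, 2, 1, 2, 2, 0, 2, 2, 2],
   [0, 2, 0, 2, 0, 2, 0, 2, 0, 2, 0, 2, 0, 2, 0, 2],
   [0, 2, 0, 2, 2, 2, 0, 2, 0, 2, 2, 2, 0, 2, 0, 2, 2, 2, 0, 2, 0, 2, 2, 2],
   [4, 4],
   [4, 0, 4, 0],
   [4, 2, 1, 3, 3, 1, 3, 1, 3, 4, 2, 0, 2, 0, 2, 2, 0, 3, 1, 1],
   [4, 3, 1, 3, 1, 3, 3, 3, 4, 2, 2, 2, 0, 2, 0, 2, 0, 3, 1, 3, 1, 3, 3, 3, 4, 2, 2, 2, 0, 2, 0, 2, 0, 3, 1, 3, 1, 3, 3, 3, 4, 2, 2, 2, 0, 2, 0, 2, 0],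
   [5, 5, 5, 5, 5],
   [1, 5, 0, 5, 5],
   [6, 3, 5, 2],
   [4, 5, 4, 5, 4, 5],
   [0, 1],
   [2, 3],
   [5, 6],
   [7, 8],
   [5, 5, 8],
   [5, 7, 7],
   [8, 3, 7, 2],
   [1, 5, 0, 7],
   [1, 7, 0, 6],
   [4, 7, 4, 7, 4, 7, 4, 7, 4, 7],
   [7, 7, 7, 7, 7],
   [5, 7, 6, 8]]

/-- the relators of the presentation are the first fourteen words. -/
theorem lift_extra (f : HN.Gen → K) (hz : (f HN.Gen.z)⁻¹ = f HN.Gen.z) :
    ∀ i (hi : i < HN.extra.length), FreeGroup.lift f (HN.extra[i]) =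
      evw4 (f HN.Gen.x) (f HN.Gen.y) (f HN.Gen.z) (f HN.Gen.t) (W.getD i []) := by
  intro i hi
  have hi' : i < 14 := hi
  interval_cases i
  · simp only [HN.extra, List.getElem_cons_zero, List.getElem_cons_succ, W, List.getD_cons_zero, List.getD_cons_succ, HN.x, HN.y, HN.z, HN.t, map_mul, map_pow, map_inv, FreeGroup.lift_apply_of, evw4, lt4, List.map_cons, List.map_nil, List.prod_cons, List.prod_nil, mul_one, pow_succ, pow_zero, one_mul, mul_inv_rev, inv_inv, mul_assoc]
  · simp only [HN.extra, List.getElem_cons_zero, List.getElem_cons_succ, W, List.getD_cons_zero, List.getD_cons_succ, HN.x, HN.y, HN.z, HN.t, map_mul, map_pow, map_inv, FreeGroup.lift_apply_of, evw4, lt4, List.map_cons, List.map_nil, List.prod_cons, List.prod_nil, mul_one, pow_succ, pow_zero, one_mul, mul_inv_rev, inv_inv, mul_assoc]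
  · simp only [HN.extra, List.getElem_cons_zero, List.getElem_cons_succ, W, List.getD_cons_zero, List.getD_cons_succ, HN.x, HN.y, HN.z, HN.t, map_mul, map_pow, map_inv, FreeGroup.lift_apply_of, evw4, lt4, List.map_cons, List.map_nil, List.prod_cons, List.prod_nil, mul_one, pow_succ, pow_zero, one_mul, mul_inv_rev, inv_inv, mul_assoc]
  · simp only [HN.extra, List.getElem_cons_zero, List.getElem_cons_succ, W, List.getD_cons_zero, List.getD_cons_succ, HN.x, HN.y, HN.z, HN.t, map_mul, map_pow, map_inv, FreeGroup.lift_apply_of, evw4, lt4, List.map_cons, List.map_nil, List.prod_cons, List.prod_nil, mul_one, pow_succ, pow_zero, one_mul, mul_inv_rev, inv_inv, mul_assoc]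
  · simp only [HN.extra, List.getElem_cons_zero, List.getElem_cons_succ, W, List.getD_cons_zero, List.getD_cons_succ, HN.x, HN.y, HN.z, HN.t, map_mul, map_pow, map_inv, FreeGroup.lift_apply_of, evw4, lt4, List.map_cons, List.map_nil, List.prod_cons, List.prod_nil, mul_one, pow_succ, pow_zero, one_mul, mul_inv_rev, inv_inv, mul_assoc]
  · simp only [HN.extra, List.getElem_cons_zero, List.getElem_cons_succ, W, List.getD_cons_zero, List.getD_cons_succ, HN.x, HN.y, HN.z, HN.t, map_mul, map_pow, map_inv, FreeGroup.lift_apply_of, evw4, lt4, List.map_cons, List.map_nil, List.prod_cons, List.prod_nil, mul_one, pow_succ, pow_zero, one_mul, mul_inv_rev, inv_inv, mul_assoc]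
  · simp only [HN.extra, List.getElem_cons_zero, List.getElem_cons_succ, W, List.getD_cons_zero, List.getD_cons_succ, HN.x, HN.y, HN.z, HN.t, map_mul, map_pow, map_inv, FreeGroup.lift_apply_of, evw4, lt4, List.map_cons, List.map_nil, List.prod_cons, List.prod_nil, mul_one, pow_succ, pow_zero, one_mul, mul_inv_rev, inv_inv, mul_assoc]
  · simp only [HN.extra, List.getElem_cons_zero, List.getElem_cons_succ, W, List.getD_cons_zero, List.getD_cons_succ, HN.x, HN.y, HN.z, HN.t, map_mul, map_pow, map_inv, FreeGroup.lift_apply_of, evw4, lt4, List.map_cons, List.map_nil, List.prod_cons, List.prod_nil, mul_one, pow_succ, pow_zero, one_mul, mul_inv_rev, inv_inv, mul_assoc]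
  · simp only [HN.extra, List.getElem_cons_zero, List.getElem_cons_succ, W, List.getD_cons_zero, List.getD_cons_succ, HN.x, HN.y, HN.z, HN.t, map_mul, map_pow, map_inv, FreeGroup.lift_apply_of, evw4, lt4, List.map_cons, List.map_nil, List.prod_cons, List.prod_nil, mul_one, pow_succ, pow_zero, one_mul, mul_inv_rev, inv_inv, mul_assoc, hz]
  · simp only [HN.extra, List.getElem_cons_zero, List.getElem_cons_succ, W, List.getD_cons_zero, List.getD_cons_succ, HN.x, HN.y, HN.z, HN.t, map_mul, map_pow, map_inv, FreeGroup.lift_apply_of, evw4, lt4, List.map_cons, List.map_nil, List.prod_cons, List.prod_nil, mul_one, pow_succ, pow_zero, one_mul, mul_inv_rev, inv_inv, mul_assoc]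
  · simp only [HN.extra, List.getElem_cons_zero, List.getElem_cons_succ, W, List.getD_cons_zero, List.getD_cons_succ, HN.x, HN.y, HN.z, HN.t, map_mul, map_pow, map_inv, FreeGroup.lift_apply_of, evw4, lt4, List.map_cons, List.map_nil, List.prod_cons, List.prod_nil, mul_one, pow_succ, pow_zero, one_mul, mul_inv_rev, inv_inv, mul_assoc]
  · simp only [HN.extra, List.getElem_cons_zero, List.getElem_cons_succ, W, List.getD_cons_zero, List.getD_cons_succ, HN.x, HN.y, HN.z, HN.t, map_mul, map_pow, map_inv, FreeGroup.lift_apply_of, evw4, lt4, List.map_cons, List.map_nil, List.prod_cons, List.prod_nil, mul_one, pow_succ, pow_zero, one_mul, mul_inv_rev, inv_inv, mul_assoc]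
  · simp only [HN.extra, List.getElem_cons_zero, List.getElem_cons_succ, W, List.getD_cons_zero, List.getD_cons_succ, HN.x, HN.y, HN.z, HN.t, map_mul, map_pow, map_inv, FreeGroup.lift_apply_of, evw4, lt4, List.map_cons, List.map_nil, List.prod_cons, List.prod_nil, mul_one, pow_succ, pow_zero, one_mul, mul_inv_rev, inv_inv, mul_assoc]
  · simp only [HN.extra, List.getElem_cons_zero, List.getElem_cons_succ, W, List.getD_cons_zero, List.getD_cons_succ, HN.x, HN.y, HN.z, HN.t, map_mul, map_pow, map_inv, FreeGroup.lift_apply_of, evw4, lt4, List.map_cons, List.map_nil, List.prod_cons, List.prod_nil, mul_one, pow_succ, pow_zero, one_mul, mul_inv_rev, inv_inv, mul_assoc]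

end

/-! ### the relations in `G` -/

theorem evw4_G (i : ℕ) (hi : i < HN.extra.length) : evw4 xG yG zG tG (W.getD i []) = 1 := by
  have h := lift_extra (K := G) (fun a => PresentedGroup.of a) zG_inv i hi
  rw [lift_mk_of] at h
  exact h.symm.trans (rel_G i hi)

theorem tG_comm : yG * tG = tG * yG := by
  have h : (yG * tG)⁻¹ * (tG * yG) = 1 := by
    have := g12
    simpa [mul_assoc] using this
  exact inv_mul_eq_one.1 h

theorem zG_sq : zG * zG = 1 := by rw [← pow_two]; exact g6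

/-- `t z t = z t⁻¹ z`. -/
theorem tzt : tG * zG * tG = zG * tG⁻¹ * zG := by
  have h3 : zG * tG * (zG * tG) * (zG * tG) = 1 := by
    have := g13
    simpa [pow_succ] using this
  have h : (zG * tG * zG) * (tG * zG * tG) = 1 := by
    rw [← h3]
    simp only [mul_assoc]
  have h' : tG * zG * tG = (zG * tG * zG)⁻¹ := eq_inv_of_mul_eq_one_right h
  rw [h', mul_inv_rev, mul_inv_rev, zG_inv, mul_assoc]

/-- `z t²` is conjugate to `t⁻¹`. -/
theorem zt2_conj : zG * tG ^ 2 = (zG * tG * zG) * tG⁻¹ * (zG * tG * zG)⁻¹ := by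
  have e : (zG * tG * zG)⁻¹ = zG * tG⁻¹ * zG := by
    rw [mul_inv_rev, mul_inv_rev, zG_inv, mul_assoc]
  rw [e]
  calc zG * tG ^ 2 = zG * tG * (tG * zG * tG) * tG⁻¹ * zG := by
        rw [pow_two]
        have : zG * tG * (tG * zG * tG) * tG⁻¹ * zG = zG * tG * tG * (zG * (tG * tG⁻¹) * zG) := by
          simp only [mul_assoc]
        rw [this, mul_inv_cancel, mul_one, zG_sq, mul_one, mul_assoc]
    _ = zG * tG * (zG * tG⁻¹ * zG) * tG⁻¹ * zG := by rw [tzt]
    _ = zG * tG * zG * tG⁻¹ * (zG * tG⁻¹ * zG) := by simp only [mul_assoc]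

theorem zt2_pow : (zG * tG ^ 2) ^ 5 = 1 := by
  rw [zt2_conj, conj_pow, inv_pow, g10, inv_one, mul_one, mul_inv_cancel]

theorem evw4_G' : ∀ i, 14 ≤ i → i < 26 → evw4 xG yG zG tG (W.getD i []) = 1 := by
  intro i h1 h2
  interval_cases i
  · -- x x⁻¹
    simp [evw4, lt4, W]
  · simp [evw4, lt4, W]
  · simp [evw4, lt4, W]
  · simp [evw4, lt4, W]
  · -- t t t⁻²
    show evw4 xG yG zG tG [5, 5, 8] = 1
    simp only [evw4, lt4, List.map_cons, List.map_nil, List.prod_cons, List.prod_nil, mul_one]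
    rw [← mul_assoc, ← pow_two, mul_inv_cancel]
  · -- t t² t²
    show evw4 xG yG zG tG [5, 7, 7] = 1
    rw [← g10]
    simp only [evw4, lt4, List.map_cons, List.map_nil, List.prod_cons, List.prod_nil, mul_one,
      pow_succ, pow_zero, one_mul, mul_assoc]
  · -- t⁻² y⁻¹ t² y
    show evw4 xG yG zG tG [8, 3, 7, 2] = 1
    simp only [evw4, lt4, List.map_cons, List.map_nil, List.prod_cons, List.prod_nil, mul_one]
    have hc : Commute yG tG := tG_comm
    have h2 : yG * tG ^ 2 = tG ^ 2 * yG := (hc.pow_right 2).eq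
    rw [← h2, ← mul_assoc yG⁻¹, inv_mul_cancel, one_mul, inv_mul_cancel]
  · -- x⁻¹ t x t²
    show evw4 xG yG zG tG [1, 5, 0, 7] = 1
    rw [← g11]
    simp only [evw4, lt4, List.map_cons, List.map_nil, List.prod_cons, List.prod_nil, mul_one,
      mul_assoc]
  · -- x⁻¹ t² x t⁻¹
    show evw4 xG yG zG tG [1, 7, 0, 6] = 1
    simp only [evw4, lt4, List.map_cons, List.map_nil, List.prod_cons, List.prod_nil, mul_one]
    have h : xG⁻¹ * tG * xG = (tG ^ 2)⁻¹ := eq_inv_of_mul_eq_one_left g11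
    have e : xG⁻¹ * (tG ^ 2 * (xG * tG⁻¹)) = (xG⁻¹ * tG * xG) * (xG⁻¹ * tG * xG) * tG⁻¹ := by
      rw [pow_two]
      group
    rw [e, h]
    have e2 : (tG ^ 2)⁻¹ * (tG ^ 2)⁻¹ * tG⁻¹ = (tG ^ 5)⁻¹ := by
      simp only [pow_succ, pow_zero, one_mul, mul_inv_rev, mul_assoc]
    rw [e2, g10, inv_one]
  · -- (z t²)⁵
    show evw4 xG yG zG tG [4, 7, 4, 7, 4, 7, 4, 7, 4, 7] = 1
    rw [← zt2_pow]
    simp only [evw4, lt4, List.map_cons, List.map_nil, List.prod_cons, List.prod_nil, mul_one,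
      pow_succ, pow_zero, one_mul, mul_assoc]
  · -- (t²)⁵
    show evw4 xG yG zG tG [7, 7, 7, 7, 7] = 1
    have : (tG ^ 2) ^ 5 = 1 := by
      rw [← pow_mul, show 2 * 5 = 5 * 2 from rfl, pow_mul, g10, one_pow]
    rw [← this]
    simp only [evw4, lt4, List.map_cons, List.map_nil, List.prod_cons, List.prod_nil, mul_one,
      pow_succ, pow_zero, one_mul, mul_assoc]
  · -- t t² t⁻¹ t⁻²
    show evw4 xG yG zG tG [5, 7, 6, 8] = 1
    simp only [evw4, lt4, List.map_cons, List.map_nil, List.prod_cons, List.prod_nil, mul_one]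
    group

theorem evw4_G_all (i : ℕ) (hi : i < 26) : evw4 xG yG zG tG (W.getD i []) = 1 := by
  rcases Nat.lt_or_ge i 14 with h | h
  · exact evw4_G i h
  · exact evw4_G' i h hi

/-! ### the letters in `G` -/

/-- the letters as elements of `G` (the letter `c` is sent to the inverse of what the enumerator
reads, so that the words of the enumerator, read from right to left, are the relators). -/
def g (c : ℕ) : G := lt4 xG yG zG tG (io c)

theorem g_inv (c : ℕ) : g c * g (io c) = 1 := by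
  rw [g, g, io_io, lt4_io _ _ _ _ zG_inv, inv_mul_cancel]

theorem rprod_g : ∀ l : List ℕ, rprod g l = (evw4 xG yG zG tG l)⁻¹
  | [] => by simp [rprod, evw4]
  | c :: l => by
    rw [rprod, rprod_g l, evw4_cons, mul_inv_rev, g, lt4_io _ _ _ _ zG_inv]

theorem g_rel (i : ℕ) (hi : i < 26) : rprod g (W.getD i []) = 1 := by
  rw [rprod_g, evw4_G_all i hi, inv_one]

theorem xG_mem : xG ∈ Hs := by
  rw [Hs_eq]; exact Subgroup.subset_closure (by simp)
theorem yG_mem : yG ∈ Hs := by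
  rw [Hs_eq]; exact Subgroup.subset_closure (by simp)
theorem zG_mem : zG ∈ Hs := by
  rw [Hs_eq]; exact Subgroup.subset_closure (by simp)

theorem g_mem : ∀ c, c < 5 → g c ∈ Hs := by
  intro c hc
  interval_cases c
  · exact Hs.inv_mem xG_mem
  · exact xG_mem
  · exact Hs.inv_mem yG_mem
  · exact yG_mem
  · exact zG_mem

theorem g_gen : Subgroup.closure (g '' {c | c < 9}) = ⊤ := by
  rw [eq_top_iff, ← PresentedGroup.closure_range_of]
  apply Subgroup.closure_mono
  rintro _ ⟨a, rfl⟩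
  cases a
  · exact ⟨1, by norm_num, rfl⟩
  · exact ⟨3, by norm_num, rfl⟩
  · exact ⟨4, by norm_num, rfl⟩
  · exact ⟨6, by norm_num, rfl⟩

/-! ### the universal property -/

section univ
variable {K' : Type*} [Group K'] (γ : ℕ → K')

/-- the images of the generators. -/
def fγ : HN.Gen → K'
  | HN.Gen.x => γ 1
  | HN.Gen.y => γ 3
  | HN.Gen.z => γ 4
  | HN.Gen.t => γ 6

variable {γ}

theorem lt4_fγ (hγ : ∀ c, γ c * γ (io c) = 1) (h78 : γ 8 = γ 6 ^ 2) :
    ∀ c, c < 9 → lt4 (fγ γ HN.Gen.x) (fγ γ HN.Gen.y) (fγ γ HN.Gen.z) (fγ γ HN.Gen.t) (io c) = γ c := by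
  intro c hc
  have e : ∀ a b : K', a * b = 1 → b⁻¹ = a := fun a b h => (eq_inv_of_mul_eq_one_left h).symm
  interval_cases c
  · exact e _ _ (hγ 0)
  · rfl
  · exact e _ _ (hγ 2)
  · rfl
  · rfl
  · exact e _ _ (hγ 5)
  · rfl
  · show (γ 6 ^ 2)⁻¹ = γ 7
    rw [← h78]
    exact e _ _ (hγ 7)
  · exact h78.symm

theorem evw4_fγ (hγ : ∀ c, γ c * γ (io c) = 1) (h78 : γ 8 = γ 6 ^ 2) :
    ∀ l : List ℕ, (∀ c ∈ l, c < 9) →
      evw4 (fγ γ HN.Gen.x) (fγ γ HN.Gen.y) (fγ γ HN.Gen.z) (fγ γ HN.Gen.t) l = (rprod γ l)⁻¹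
  | [], _ => by simp [rprod, evw4]
  | c :: l, h => by
    have hc : c < 9 := h c List.mem_cons_self
    have hic : io c < 9 := by interval_cases c <;> decide
    rw [evw4_cons, evw4_fγ hγ h78 l (fun d hd => h d (List.mem_cons_of_mem _ hd)), rprod,
      mul_inv_rev]
    congr 1
    have := lt4_fγ hγ h78 (io c) hic
    rw [io_io] at this
    rw [this]
    have h2 := hγ c
    exact eq_inv_of_mul_eq_one_right h2

theorem W_lt : ∀ l ∈ W, ∀ c ∈ l, c < 9 := by decide

/-- **The universal property**: letters of a group satisfying the relator words define a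
homomorphism from `G`. -/
theorem univ (hγ : ∀ c, γ c * γ (io c) = 1)
    (hrel : ∀ i, i < 14 → rprod γ (W.getD i []) = 1) (h18 : rprod γ [5, 5, 8] = 1) :
    ∃ ρ : G →* K', ∀ c, c < 9 → ρ (g c) = γ c := by
  have h78 : γ 8 = γ 6 ^ 2 := by
    simp only [rprod, one_mul] at h18
    have h5 : (γ 5)⁻¹ = γ 6 := (eq_inv_of_mul_eq_one_right (hγ 5)).symm
    have : γ 8 = (γ 5)⁻¹ * (γ 5)⁻¹ := by
      have h' : γ 8 * (γ 5 * γ 5) = 1 := by rw [← mul_assoc]; exact h18
      rw [eq_inv_of_mul_eq_one_left h', mul_inv_rev]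
    rw [this, h5, pow_two]
  have hz : (fγ γ HN.Gen.z)⁻¹ = fγ γ HN.Gen.z := by
    have := hγ 4
    exact (eq_inv_of_mul_eq_one_left this).symm
  have hall : ∀ r ∈ relsG, FreeGroup.lift (fγ γ) r = 1 := by
    rintro r (hr | hr)
    · exfalso
      obtain ⟨a, ha, _⟩ := hr
      simp [coxNodes, HN.edges] at ha
    · obtain ⟨i, hi, rfl⟩ := List.getElem_of_mem hr
      have hi' : i < 14 := hi
      have hW : W.getD i [] ∈ W := by
        rw [List.getD_eq_getElem _ _ (show i < W.length by show i < 26; omega)]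
        exact List.getElem_mem _
      rw [lift_extra (fγ γ) hz i hi, evw4_fγ hγ h78 _ (W_lt _ hW), hrel i hi', inv_one]
  refine ⟨PresentedGroup.toGroup hall, ?_⟩
  intro c hc
  have e : ∀ a : HN.Gen, PresentedGroup.toGroup hall (PresentedGroup.of a) = fγ γ a :=
    fun a => PresentedGroup.toGroup.of hall
  rw [g, map_lt4]
  have ex : PresentedGroup.toGroup hall xG = fγ γ HN.Gen.x := e _
  have ey : PresentedGroup.toGroup hall yG = fγ γ HN.Gen.y := e _
  have ez : PresentedGroup.toGroup hall zG = fγ γ HN.Gen.z := e _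
  have et : PresentedGroup.toGroup hall tG = fγ γ HN.Gen.t := e _
  rw [ex, ey, ez, et]
  exact lt4_fγ hγ h78 c hc

end univ

end Cfsg.Agent.Helper5.HNGen
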