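import Cfsg.Agent.Helper5.HNMDatD
import Cfsg.Agent.Helper5.TC3A

/-! relator walks: HNM -/

set_option autoImplicit false
set_option Elab.async false

namespace Cfsg.Agent.Helper5.HNM
open Cfsg.Agent.Helper5.TC Cfsg.Agent.Helper5.TCI Cfsg.Agent.Helper5.TCS
noncomputable section

set_option maxRecDepth 1000000 in
def W_0 (v : ℕ) : ℕ := forceL (tg2F v) (fun a1 => forceL (tg2F a1) (fun a2 => forceL (tg2F a2) (fun a3 => forceL (tg2F a3) (fun a4 => forceL (tg2F a4) (fun a5 => forceL (tg2F a5) (fun a6 => a6))))))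
set_option maxRecDepth 1000000 in
def W_1 (v : ℕ) : ℕ := forceL (tg0F v) (fun a1 => forceL (tg0F a1) (fun a2 => forceL (tg2F a2) (fun a3 => forceL (tg0F a3) (fun a4 => forceL (tg0F a4) (fun a5 => forceL (tg3F a5) (fun a6 => a6))))))
set_option maxRecDepth 1000000 in
def W_2 (v : ℕ) : ℕ := forceL (tg1F v) (fun a1 => forceL (tg3F a1) (fun a2 => forceL (tg0F a2) (fun a3 => forceL (tg2F a3) (fun a4 => forceL (tg1F a4) (fun a5 => forceL (tg3F a5) (fun a6 => forceL (tg0F a6) (fun a7 => forceL (tg2F a7) (fun a8 => forceL (tg1F a8) (fun a9 => forceL (tg3F a9) (fun a10 => forceL (tg0F a10) (fun a11 => forceL (tg2F a11) (fun a12 => a12))))))))))))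
set_option maxRecDepth 1000000 in
def W_3 (v : ℕ) : ℕ := forceL (tg1F v) (fun a1 => forceL (tg2F a1) (fun a2 => forceL (tg2F a2) (fun a3 => forceL (tg0F a3) (fun a4 => forceL (tg2F a4) (fun a5 => forceL (tg2F a5) (fun a6 => forceL (tg2F a6) (fun a7 => forceL (tg1F a7) (fun a8 => forceL (tg2F a8) (fun a9 => forceL (tg2F a9) (fun a10 => forceL (tg0F a10) (fun a11 => forceL (tg2F a11) (fun a12 => forceL (tg2F a12) (fun a13 => forceL (tg2F a13) (fun a14 => forceL (tg1F a14) (fun a15 => forceL (tg2F a15) (fun a16 => forceL (tg2F a16) (fun a17 => forceL (tg0F a17) (fun a18 => forceL (tg2F a18) (fun a19 => forceL (tg2F a19) (fun a20 => forceL (tg2F a20) (fun a21 => a21)))))))))))))))))))))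
set_option maxRecDepth 1000000 in
def W_4 (v : ℕ) : ℕ := forceL (tg0F v) (fun a1 => forceL (tg2F a1) (fun a2 => forceL (tg0F a2) (fun a3 => forceL (tg2F a3) (fun a4 => forceL (tg0F a4) (fun a5 => forceL (tg2F a5) (fun a6 => forceL (tg0F a6) (fun a7 => forceL (tg2F a7) (fun a8 => forceL (tg0F a8) (fun a9 => forceL (tg2F a9) (fun a10 => forceL (tg0F a10) (fun a11 => forceL (tg2F a11) (fun a12 => forceL (tg0F a12) (fun a13 => forceL (tg2F a13) (fun a14 => forceL (tg0F a14) (fun a15 => forceL (tg2F a15) (fun a16 => a16))))))))))))))))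
set_option maxRecDepth 1000000 in
def W_5 (v : ℕ) : ℕ := forceL (tg0F v) (fun a1 => forceL (tg2F a1) (fun a2 => forceL (tg0F a2) (fun a3 => forceL (tg2F a3) (fun a4 => forceL (tg2F a4) (fun a5 => forceL (tg2F a5) (fun a6 => forceL (tg0F a6) (fun a7 => forceL (tg2F a7) (fun a8 => forceL (tg0F a8) (fun a9 => forceL (tg2F a9) (fun a10 => forceL (tg2F a10) (fun a11 => forceL (tg2F a11) (fun a12 => forceL (tg0F a12) (fun a13 => forceL (tg2F a13) (fun a14 => forceL (tg0F a14) (fun a15 => forceL (tg2F a15) (fun a16 => forceL (tg2F a16) (fun a17 => forceL (tg2F a17) (fun a18 => forceL (tg0F a18) (fun a19 => forceL (tg2F a19) (fun a20 => forceL (tg0F a20) (fun a21 => forceL (tg2F a21) (fun a22 => forceL (tg2F a22) (fun a23 => forceL (tg2F a23) (fun a24 => a24))))))))))))))))))))))))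
set_option maxRecDepth 1000000 in
def W_6 (v : ℕ) : ℕ := forceL (tg4F v) (fun a1 => forceL (tg4F a1) (fun a2 => a2))
set_option maxRecDepth 1000000 in
def W_7 (v : ℕ) : ℕ := forceL (tg4F v) (fun a1 => forceL (tg0F a1) (fun a2 => forceL (tg4F a2) (fun a3 => forceL (tg0F a3) (fun a4 => a4))))
set_option maxRecDepth 1000000 in
def W_8 (v : ℕ) : ℕ := forceL (tg4F v) (fun a1 => forceL (tg2F a1) (fun a2 => forceL (tg1F a2) (fun a3 => forceL (tg3F a3) (fun a4 => forceL (tg3F a4) (fun a5 => forceL (tg1F a5) (fun a6 => forceL (tg3F a6) (fun a7 => forceL (tg1F a7) (fun a8 => forceL (tg3F a8) (fun a9 => forceL (tg4F a9) (fun a10 => forceL (tg2F a10) (fun a11 => forceL (tg0F a11) (fun a12 => forceL (tg2F a12) (fun a13 => forceL (tg0F a13) (fun a14 => forceL (tg2F a14) (fun a15 => forceL (tg2F a15) (fun a16 => forceL (tg0F a16) (fun a17 => forceL (tg3F a17) (fun a18 => forceL (tg1F a18) (fun a19 => forceL (tg1F a19) (fun a20 => a20))))))))))))))))))))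
set_option maxRecDepth 1000000 in
def W_9 (v : ℕ) : ℕ := forceL (tg4F v) (fun a1 => forceL (tg3F a1) (fun a2 => forceL (tg1F a2) (fun a3 => forceL (tg3F a3) (fun a4 => forceL (tg1F a4) (fun a5 => forceL (tg3F a5) (fun a6 => forceL (tg3F a6) (fun a7 => forceL (tg3F a7) (fun a8 => forceL (tg4F a8) (fun a9 => forceL (tg2F a9) (fun a10 => forceL (tg2F a10) (fun a11 => forceL (tg2F a11) (fun a12 => forceL (tg0F a12) (fun a13 => forceL (tg2F a13) (fun a14 => forceL (tg0F a14) (fun a15 => forceL (tg2F a15) (fun a16 => forceL (tg0F a16) (fun a17 => forceL (tg3F a17) (fun a18 => forceL (tg1F a18) (fun a19 => forceL (tg3F a19) (fun a20 => forceL (tg1F a20) (fun a21 => forceL (tg3F a21) (fun a22 => forceL (tg3F a22) (fun a23 => forceL (tg3F a23) (fun a24 => forceL (tg4F a24) (fun a25 => forceL (tg2F a25) (fun a26 => forceL (tg2F a26) (fun a27 => forceL (tg2F a27) (fun a28 => forceL (tg0F a28) (fun a29 => forceL (tg2F a29) (fun a30 => forceL (tg0F a30) (fun a31 => forceL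 (tg2F a31) (fun a32 => forceL (tg0F a32) (fun a33 => forceL (tg3F a33) (fun a34 => forceL (tg1F a34) (fun a35 => forceL (tg3F a35) (fun a36 => forceL (tg1F a36) (fun a37 => forceL (tg3F a37) (fun a38 => forceL (tg3F a38) (fun a39 => forceL (tg3F a39) (fun a40 => forceL (tg4F a40) (fun a41 => forceL (tg2F a41) (fun a42 => forceL (tg2F a42) (fun a43 => forceL (tg2F a43) (fun a44 => forceL (tg0F a44) (fun a45 => forceL (tg2F a45) (fun a46 => forceL (tg0F a46) (fun a47 => forceL (tg2F a47) (fun a48 => forceL (tg0F a48) (fun a49 => a49)))))))))))))))))))))))))))))))))))))))))))))))))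
set_option maxRecDepth 1000000 in
def W_10 (v : ℕ) : ℕ := forceL (tg5F v) (fun a1 => forceL (tg5F a1) (fun a2 => forceL (tg5F a2) (fun a3 => forceL (tg5F a3) (fun a4 => forceL (tg5F a4) (fun a5 => a5)))))
set_option maxRecDepth 1000000 in
def W_11 (v : ℕ) : ℕ := forceL (tg1F v) (fun a1 => forceL (tg5F a1) (fun a2 => forceL (tg0F a2) (fun a3 => forceL (tg5F a3) (fun a4 => forceL (tg5F a4) (fun a5 => a5)))))
set_option maxRecDepth 1000000 in
def W_12 (v : ℕ) : ℕ := forceL (tg6F v) (fun a1 => forceL (tg3F a1) (fun a2 => forceL (tg5F a2) (fun a3 => forceL (tg2F a3) (fun a4 => a4))))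
set_option maxRecDepth 1000000 in
def W_13 (v : ℕ) : ℕ := forceL (tg4F v) (fun a1 => forceL (tg5F a1) (fun a2 => forceL (tg4F a2) (fun a3 => forceL (tg5F a3) (fun a4 => forceL (tg4F a4) (fun a5 => forceL (tg5F a5) (fun a6 => a6))))))
set_option maxRecDepth 1000000 in
def W_18 (v : ℕ) : ℕ := forceL (tg5F v) (fun a1 => forceL (tg5F a1) (fun a2 => forceL (tg8F a2) (fun a3 => a3)))

end

end Cfsg.Agent.Helper5.HNM
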