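import Cfsg.Agent.Helper5.HNMDatD
import Cfsg.Agent.Helper5.HNMDatT
import Cfsg.Agent.Helper5.TCIB

/-! kernel checks of words: HNM -/

set_option autoImplicit false
set_option Elab.async false

namespace Cfsg.Agent.Helper5.HNM
open Cfsg.Agent.Helper5.TC Cfsg.Agent.Helper5.TCI Cfsg.Agent.Helper5.TCS
noncomputable section

set_option maxRecDepth 1000000 in
theorem rev_ok : revOKI iota D D.nw = true := by decide +kernel

set_option maxRecDepth 1000000 in
theorem words_ok : wordsOK D D.nw = true := by decide +kernel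

theorem word_0 : unpack (D.wlen 0) (D.wordP 0) = [2, 2, 2, 2, 2, 2] := by decide +kernel

theorem word_1 : unpack (D.wlen 1) (D.wordP 1) = [0, 0, 2, 0, 0, 3] := by decide +kernel

theorem word_2 : unpack (D.wlen 2) (D.wordP 2) = [1, 3, 0, 2, 1, 3, 0, 2, 1, 3, 0, 2] := by decide +kernel

theorem word_3 : unpack (D.wlen 3) (D.wordP 3) = [1, 2, 2, 0, 2, 2, 2, 1, 2, 2, 0, 2, 2, 2, 1, 2, 2, 0, 2, 2, 2] := by decide +kernel

theorem word_4 : unpack (D.wlen 4) (D.wordP 4) = [0, 2, 0, 2, 0, 2, 0, 2, 0, 2, 0, 2, 0, 2, 0, 2] := by decide +kernel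

theorem word_5 : unpack (D.wlen 5) (D.wordP 5) = [0, 2, 0, 2, 2, 2, 0, 2, 0, 2, 2, 2, 0, 2, 0, 2, 2, 2, 0, 2, 0, 2, 2, 2] := by decide +kernel

theorem word_6 : unpack (D.wlen 6) (D.wordP 6) = [4, 4] := by decide +kernel

theorem word_7 : unpack (D.wlen 7) (D.wordP 7) = [4, 0, 4, 0] := by decide +kernel

theorem word_8 : unpack (D.wlen 8) (D.wordP 8) = [4, 2, 1, 3, 3, 1, 3, 1, 3, 4, 2, 0, 2, 0, 2, 2, 0, 3, 1, 1] := by decide +kernel

theorem word_9 : unpack (D.wlen 9) (D.wordP 9) = [4, 3, 1, 3, 1, 3, 3, 3, 4, 2, 2, 2, 0, 2, 0, 2, 0, 3, 1, 3, 1, 3, 3, 3, 4, 2, 2, 2, 0, 2, 0, 2, 0, 3, 1, 3, 1, 3, 3, 3, 4, 2, 2, 2, 0, 2, 0, 2, 0] := by decide +kernel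

theorem word_10 : unpack (D.wlen 10) (D.wordP 10) = [5, 5, 5, 5, 5] := by decide +kernel

theorem word_11 : unpack (D.wlen 11) (D.wordP 11) = [1, 5, 0, 5, 5] := by decide +kernel

theorem word_12 : unpack (D.wlen 12) (D.wordP 12) = [6, 3, 5, 2] := by decide +kernel

theorem word_13 : unpack (D.wlen 13) (D.wordP 13) = [4, 5, 4, 5, 4, 5] := by decide +kernel

theorem word_14 : unpack (D.wlen 14) (D.wordP 14) = [0, 1] := by decide +kernel

theorem word_15 : unpack (D.wlen 15) (D.wordP 15) = [2, 3] := by decide +kernel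

theorem word_16 : unpack (D.wlen 16) (D.wordP 16) = [5, 6] := by decide +kernel

theorem word_17 : unpack (D.wlen 17) (D.wordP 17) = [7, 8] := by decide +kernel

theorem word_18 : unpack (D.wlen 18) (D.wordP 18) = [5, 5, 8] := by decide +kernel

theorem word_19 : unpack (D.wlen 19) (D.wordP 19) = [5, 7, 7] := by decide +kernel

theorem word_20 : unpack (D.wlen 20) (D.wordP 20) = [8, 3, 7, 2] := by decide +kernel

theorem word_21 : unpack (D.wlen 21) (D.wordP 21) = [1, 5, 0, 7] := by decide +kernel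

theorem word_22 : unpack (D.wlen 22) (D.wordP 22) = [1, 7, 0, 6] := by decide +kernel

theorem word_23 : unpack (D.wlen 23) (D.wordP 23) = [4, 7, 4, 7, 4, 7, 4, 7, 4, 7] := by decide +kernel

theorem word_24 : unpack (D.wlen 24) (D.wordP 24) = [7, 7, 7, 7, 7] := by decide +kernel

theorem word_25 : unpack (D.wlen 25) (D.wordP 25) = [5, 7, 6, 8] := by decide +kernel

theorem word_26 : unpack (D.wlen 26) (D.wordP 26) = [0] := by decide +kernel

theorem word_27 : unpack (D.wlen 27) (D.wordP 27) = [2] := by decide +kernel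

theorem word_28 : unpack (D.wlen 28) (D.wordP 28) = [4] := by decide +kernel

theorem lo_0 : B.lo 0 = 0 := by decide +kernel
theorem hi_0 : B.hi 0 = 0 := by decide +kernel
theorem lo_1 : B.lo 1 = 1 := by decide +kernel
theorem hi_1 : B.hi 1 = 1409 := by decide +kernel
theorem r_1 : B.R 1 = 38 := by decide +kernel
theorem lo_2 : B.lo 2 = 1409 := by decide +kernel
theorem hi_2 : B.hi 2 = 36609 := by decide +kernel
theorem r_2 : B.R 2 = 36780 := by decide +kernel
theorem lo_3 : B.lo 3 = 36609 := by decide +kernel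
theorem hi_3 : B.hi 3 = 38809 := by decide +kernel
theorem r_3 : B.R 3 = 45182 := by decide +kernel
theorem lo_4 : B.lo 4 = 38809 := by decide +kernel
theorem hi_4 : B.hi 4 = 162009 := by decide +kernel
theorem r_4 : B.R 4 = 936340 := by decide +kernel
theorem lo_5 : B.lo 5 = 162009 := by decide +kernel
theorem hi_5 : B.hi 5 = 516825 := by decide +kernel
theorem r_5 : B.R 5 = 986742 := by decide +kernel
theorem lo_6 : B.lo 6 = 516825 := by decide +kernel
theorem hi_6 : B.hi 6 = 1256025 := by decide +kernel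
theorem r_6 : B.R 6 = 1490744 := by decide +kernel
theorem lo_7 : B.lo 7 = 1256025 := by decide +kernel
theorem hi_7 : B.hi 7 = 1533225 := by decide +kernel
theorem r_7 : B.R 7 = 7087246 := by decide +kernel
theorem lo_8 : B.lo 8 = 1533225 := by decide +kernel
theorem hi_8 : B.hi 8 = 1539000 := by decide +kernel
theorem r_8 : B.R 8 = 7188048 := by decide +kernel

end

end Cfsg.Agent.Helper5.HNM
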