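import Cfsg.Agent.Helper5.HNMDatD

/-! kernel checks of edges and trees: HNM -/

set_option autoImplicit false
set_option Elab.async false

namespace Cfsg.Agent.Helper5.HNM
open Cfsg.Agent.Helper5.TC Cfsg.Agent.Helper5.TCI Cfsg.Agent.Helper5.TCS
noncomputable section

set_option maxRecDepth 1000000 in
theorem sec_4_1 : secRange E 5 936340 38809 secF 50000 88810 = true := by decide +kernel

set_option maxRecDepth 1000000 in
theorem edges_7_47 : edgesRangeS iota B E 7 11618 631903 = true := by decide +kernel

set_option maxRecDepth 1000000 in
theorem edges_7_95 : edgesRangeS iota B E 7 11335 1177526 = true := by decide +kernel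

set_option maxRecDepth 1000000 in
theorem edges_7_96 : edgesRangeS iota B E 7 11214 1188861 = true := by decide +kernel

set_option maxRecDepth 1000000 in
theorem edges_5_111 : edgesRangeS iota B E 5 13301 1357998 = true := by decide +kernel

set_option maxRecDepth 1000000 in
theorem edges_4_48 : edgesRangeS iota B E 4 10174 1412009 = true := by decide +kernel

set_option maxRecDepth 1000000 in
theorem edges_6_76 : edgesRangeS iota B E 6 18479 1284077 = true := by decide +kernel

set_option maxRecDepth 1000000 in
theorem edges_8_83 : edgesRangeS iota B E 8 16015 1467795 = true := by decide +kernel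

set_option maxRecDepth 1000000 in
theorem edges_2_27 : edgesRangeS iota B E 2 39729 875724 = true := by decide +kernel

set_option maxRecDepth 1000000 in
theorem edges_5_82 : edgesRangeS iota B E 5 11250 1022122 = true := by decide +kernel

set_option maxRecDepth 1000000 in
theorem edges_7_110 : edgesRangeS iota B E 7 17101 1392819 = true := by decide +kernel

set_option maxRecDepth 1000000 in
theorem edges_0_28 : edgesRangeS iota B E 0 34585 732372 = true := by decide +kernel

set_option maxRecDepth 1000000 in
theorem edges_1_61 : edgesRangeS iota B E 1 12310 1464424 = true := by decide +kernel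

set_option maxRecDepth 1000000 in
theorem edges_3_11 : edgesRangeS iota B E 3 36255 336464 = true := by decide +kernel

set_option maxRecDepth 1000000 in
theorem edges_4_30 : edgesRangeS iota B E 4 36858 1166920 = true := by decide +kernel

set_option maxRecDepth 1000000 in
theorem edges_6_75 : edgesRangeS iota B E 6 18456 1265621 = true := by decide +kernel

set_option maxRecDepth 1000000 in
theorem edges_8_85 : edgesRangeS iota B E 8 17028 1499840 = true := by decide +kernel

end

end Cfsg.Agent.Helper5.HNM
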