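import Cfsg.Agent.Helper5.HNMDatD

/-! kernel checks of edges and trees: HNM -/

set_option autoImplicit false
set_option Elab.async false

namespace Cfsg.Agent.Helper5.HNM
open Cfsg.Agent.Helper5.TC Cfsg.Agent.Helper5.TCI Cfsg.Agent.Helper5.TCS
noncomputable section

set_option maxRecDepth 1000000 in
theorem sec_6_1 : secRange E 5 1490744 516825 secF 50000 566826 = true := by decide +kernel

set_option maxRecDepth 1000000 in
theorem edges_0_7 : edgesRangeS iota B E 0 12966 182338 = true := by decide +kernel

set_option maxRecDepth 1000000 in
theorem edges_4_46 : edgesRangeS iota B E 4 10200 1391799 = true := by decide +kernel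

set_option maxRecDepth 1000000 in
theorem edges_5_86 : edgesRangeS iota B E 5 11124 1067016 = true := by decide +kernel

set_option maxRecDepth 1000000 in
theorem edges_3_46 : edgesRangeS iota B E 3 13331 1370523 = true := by decide +kernel

set_option maxRecDepth 1000000 in
theorem edges_7_99 : edgesRangeS iota B E 7 11147 1222533 = true := by decide +kernel

set_option maxRecDepth 1000000 in
theorem edges_6_36 : edgesRangeS iota B E 6 15159 654202 = true := by decide +kernel

set_option maxRecDepth 1000000 in
theorem edges_8_39 : edgesRangeS iota B E 8 17043 755430 = true := by decide +kernel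

set_option maxRecDepth 1000000 in
theorem edges_1_53 : edgesRangeS iota B E 1 12225 1366144 = true := by decide +kernel

set_option maxRecDepth 1000000 in
theorem edges_5_40 : edgesRangeS iota B E 5 17203 545417 = true := by decide +kernel

set_option maxRecDepth 1000000 in
theorem edges_7_39 : edgesRangeS iota B E 7 17181 528077 = true := by decide +kernel

set_option maxRecDepth 1000000 in
theorem edges_0_9 : edgesRangeS iota B E 0 21944 208278 = true := by decide +kernel

set_option maxRecDepth 1000000 in
theorem edges_1_16 : edgesRangeS iota B E 1 32232 430944 = true := by decide +kernel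

set_option maxRecDepth 1000000 in
theorem edges_2_42 : edgesRangeS iota B E 2 13338 1317162 = true := by decide +kernel

set_option maxRecDepth 1000000 in
theorem edges_4_5 : edgesRangeS iota B E 4 32177 183605 = true := by decide +kernel

set_option maxRecDepth 1000000 in
theorem edges_6_8 : edgesRangeS iota B E 6 18543 173244 = true := by decide +kernel

set_option maxRecDepth 1000000 in
theorem edges_8_0 : edgesRangeS iota B E 8 39853 0 = true := by decide +kernel

end

end Cfsg.Agent.Helper5.HNM
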