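import Cfsg.Agent.Helper5.HNMDatD

/-! kernel checks of edges and trees: HNM -/

set_option autoImplicit false
set_option Elab.async false

namespace Cfsg.Agent.Helper5.HNM
open Cfsg.Agent.Helper5.TC Cfsg.Agent.Helper5.TCI Cfsg.Agent.Helper5.TCS
noncomputable section

set_option maxRecDepth 1000000 in
theorem sec_6_2 : secRange E 5 1490744 516825 secF 50000 616826 = true := by decide +kernel

set_option maxRecDepth 1000000 in
theorem edges_0_48 : edgesRangeS iota B E 0 13556 1310200 = true := by decide +kernel

set_option maxRecDepth 1000000 in
theorem edges_4_53 : edgesRangeS iota B E 4 10321 1463269 = true := by decide +kernel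

set_option maxRecDepth 1000000 in
theorem edges_5_88 : edgesRangeS iota B E 5 11084 1089191 = true := by decide +kernel

set_option maxRecDepth 1000000 in
theorem edges_3_47 : edgesRangeS iota B E 3 13336 1383854 = true := by decide +kernel

set_option maxRecDepth 1000000 in
theorem edges_7_106 : edgesRangeS iota B E 7 17185 1324162 = true := by decide +kernel

set_option maxRecDepth 1000000 in
theorem edges_6_39 : edgesRangeS iota B E 6 15073 699459 = true := by decide +kernel

set_option maxRecDepth 1000000 in
theorem edges_8_46 : edgesRangeS iota B E 8 16750 873539 = true := by decide +kernel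

set_option maxRecDepth 1000000 in
theorem edges_1_55 : edgesRangeS iota B E 1 12305 1390620 = true := by decide +kernel

set_option maxRecDepth 1000000 in
theorem edges_5_41 : edgesRangeS iota B E 5 17133 562620 = true := by decide +kernel

set_option maxRecDepth 1000000 in
theorem edges_7_45 : edgesRangeS iota B E 7 10441 610882 = true := by decide +kernel

set_option maxRecDepth 1000000 in
theorem edges_0_10 : edgesRangeS iota B E 0 31073 230222 = true := by decide +kernel

set_option maxRecDepth 1000000 in
theorem edges_1_20 : edgesRangeS iota B E 1 12852 533627 = true := by decide +kernel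

set_option maxRecDepth 1000000 in
theorem edges_2_44 : edgesRangeS iota B E 2 13336 1343838 = true := by decide +kernel

set_option maxRecDepth 1000000 in
theorem edges_4_6 : edgesRangeS iota B E 4 53149 215782 = true := by decide +kernel

set_option maxRecDepth 1000000 in
theorem edges_6_10 : edgesRangeS iota B E 6 19703 210247 = true := by decide +kernel

set_option maxRecDepth 1000000 in
theorem edges_8_3 : edgesRangeS iota B E 8 22142 82010 = true := by decide +kernel

end

end Cfsg.Agent.Helper5.HNM
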