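import Cfsg.Agent.Helper5.HNMDatD

/-! kernel checks of edges and trees: HNM -/

set_option autoImplicit false
set_option Elab.async false

namespace Cfsg.Agent.Helper5.HNM
open Cfsg.Agent.Helper5.TC Cfsg.Agent.Helper5.TCI Cfsg.Agent.Helper5.TCS
noncomputable section

set_option maxRecDepth 1000000 in
theorem sec_6_3 : secRange E 5 1490744 516825 secF 50000 666826 = true := by decide +kernel

set_option maxRecDepth 1000000 in
theorem edges_0_57 : edgesRangeS iota B E 0 13662 1431861 = true := by decide +kernel

set_option maxRecDepth 1000000 in
theorem edges_5_4 : edgesRangeS iota B E 5 15553 81662 = true := by decide +kernel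

set_option maxRecDepth 1000000 in
theorem edges_5_96 : edgesRangeS iota B E 5 10876 1177376 = true := by decide +kernel

set_option maxRecDepth 1000000 in
theorem edges_3_48 : edgesRangeS iota B E 3 13336 1397190 = true := by decide +kernel

set_option maxRecDepth 1000000 in
theorem edges_8_23 : edgesRangeS iota B E 8 17335 468771 = true := by decide +kernel

set_option maxRecDepth 1000000 in
theorem edges_6_47 : edgesRangeS iota B E 6 16076 827015 = true := by decide +kernel

set_option maxRecDepth 1000000 in
theorem edges_8_47 : edgesRangeS iota B E 8 16692 890289 = true := by decide +kernel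

set_option maxRecDepth 1000000 in
theorem edges_1_62 : edgesRangeS iota B E 1 12316 1476734 = true := by decide +kernel

set_option maxRecDepth 1000000 in
theorem edges_5_42 : edgesRangeS iota B E 5 9275 579753 = true := by decide +kernel

set_option maxRecDepth 1000000 in
theorem edges_7_61 : edgesRangeS iota B E 7 11357 790877 = true := by decide +kernel

set_option maxRecDepth 1000000 in
theorem edges_0_11 : edgesRangeS iota B E 0 34987 261295 = true := by decide +kernel

set_option maxRecDepth 1000000 in
theorem edges_1_21 : edgesRangeS iota B E 1 12934 546479 = true := by decide +kernel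

set_option maxRecDepth 1000000 in
theorem edges_2_45 : edgesRangeS iota B E 2 13325 1357174 = true := by decide +kernel

set_option maxRecDepth 1000000 in
theorem edges_4_8 : edgesRangeS iota B E 4 37716 307976 = true := by decide +kernel

set_option maxRecDepth 1000000 in
theorem edges_6_18 : edgesRangeS iota B E 6 17029 349450 = true := by decide +kernel

set_option maxRecDepth 1000000 in
theorem edges_8_7 : edgesRangeS iota B E 8 19994 164073 = true := by decide +kernel

end

end Cfsg.Agent.Helper5.HNM
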