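import Cfsg.Agent.Helper5.HNMDatD

/-! kernel checks of edges and trees: HNM -/

set_option autoImplicit false
set_option Elab.async false

namespace Cfsg.Agent.Helper5.HNM
open Cfsg.Agent.Helper5.TC Cfsg.Agent.Helper5.TCI Cfsg.Agent.Helper5.TCS
noncomputable section

set_option maxRecDepth 1000000 in
theorem sec_6_4 : secRange E 5 1490744 516825 secF 50000 716826 = true := by decide +kernel

set_option maxRecDepth 1000000 in
theorem edges_0_58 : edgesRangeS iota B E 0 13490 1445523 = true := by decide +kernel

set_option maxRecDepth 1000000 in
theorem edges_5_6 : edgesRangeS iota B E 5 14847 111936 = true := by decide +kernel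

set_option maxRecDepth 1000000 in
theorem edges_5_100 : edgesRangeS iota B E 5 10703 1220419 = true := by decide +kernel

set_option maxRecDepth 1000000 in
theorem edges_3_54 : edgesRangeS iota B E 3 13338 1477176 = true := by decide +kernel

set_option maxRecDepth 1000000 in
theorem edges_8_63 : edgesRangeS iota B E 8 15758 1151236 = true := by decide +kernel

set_option maxRecDepth 1000000 in
theorem edges_6_48 : edgesRangeS iota B E 6 15977 843091 = true := by decide +kernel

set_option maxRecDepth 1000000 in
theorem edges_8_59 : edgesRangeS iota B E 8 16309 1086664 = true := by decide +kernel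

set_option maxRecDepth 1000000 in
theorem edges_1_64 : edgesRangeS iota B E 1 20524 1501353 = true := by decide +kernel

set_option maxRecDepth 1000000 in
theorem edges_5_44 : edgesRangeS iota B E 5 9091 598208 = true := by decide +kernel

set_option maxRecDepth 1000000 in
theorem edges_7_69 : edgesRangeS iota B E 7 11319 881429 = true := by decide +kernel

set_option maxRecDepth 1000000 in
theorem edges_0_13 : edgesRangeS iota B E 0 34108 329704 = true := by decide +kernel

set_option maxRecDepth 1000000 in
theorem edges_1_24 : edgesRangeS iota B E 1 30000 592522 = true := by decide +kernel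

set_option maxRecDepth 1000000 in
theorem edges_2_46 : edgesRangeS iota B E 2 13329 1370499 = true := by decide +kernel

set_option maxRecDepth 1000000 in
theorem edges_4_9 : edgesRangeS iota B E 4 38718 345692 = true := by decide +kernel

set_option maxRecDepth 1000000 in
theorem edges_6_22 : edgesRangeS iota B E 6 16226 416447 = true := by decide +kernel

set_option maxRecDepth 1000000 in
theorem edges_8_11 : edgesRangeS iota B E 8 19228 245443 = true := by decide +kernel

end

end Cfsg.Agent.Helper5.HNM
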