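import Cfsg.Agent.Helper5.HNMDatD

/-! kernel checks of edges and trees: HNM -/

set_option autoImplicit false
set_option Elab.async false

namespace Cfsg.Agent.Helper5.HNM
open Cfsg.Agent.Helper5.TC Cfsg.Agent.Helper5.TCI Cfsg.Agent.Helper5.TCS
noncomputable section

set_option maxRecDepth 1000000 in
theorem sec_6_5 : secRange E 5 1490744 516825 secF 50000 766826 = true := by decide +kernel

set_option maxRecDepth 1000000 in
theorem edges_1_46 : edgesRangeS iota B E 1 12207 1279983 = true := by decide +kernel

set_option maxRecDepth 1000000 in
theorem edges_5_50 : edgesRangeS iota B E 5 12161 660126 = true := by decide +kernel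

set_option maxRecDepth 1000000 in
theorem edges_5_102 : edgesRangeS iota B E 5 10545 1241718 = true := by decide +kernel

set_option maxRecDepth 1000000 in
theorem edges_3_55 : edgesRangeS iota B E 3 13333 1490514 = true := by decide +kernel

set_option maxRecDepth 1000000 in
theorem edges_8_65 : edgesRangeS iota B E 8 15626 1182751 = true := by decide +kernel

set_option maxRecDepth 1000000 in
theorem edges_6_54 : edgesRangeS iota B E 6 15683 938575 = true := by decide +kernel

set_option maxRecDepth 1000000 in
theorem edges_8_61 : edgesRangeS iota B E 8 16120 1119236 = true := by decide +kernel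

set_option maxRecDepth 1000000 in
theorem edges_2_0 : edgesRangeS iota B E 2 37158 0 = true := by decide +kernel

set_option maxRecDepth 1000000 in
theorem edges_5_47 : edgesRangeS iota B E 5 10174 625304 = true := by decide +kernel

set_option maxRecDepth 1000000 in
theorem edges_7_72 : edgesRangeS iota B E 7 11102 915279 = true := by decide +kernel

set_option maxRecDepth 1000000 in
theorem edges_0_17 : edgesRangeS iota B E 0 32022 463221 = true := by decide +kernel

set_option maxRecDepth 1000000 in
theorem edges_1_25 : edgesRangeS iota B E 1 35348 622522 = true := by decide +kernel

set_option maxRecDepth 1000000 in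
theorem edges_2_47 : edgesRangeS iota B E 2 13332 1383828 = true := by decide +kernel

set_option maxRecDepth 1000000 in
theorem edges_4_10 : edgesRangeS iota B E 4 37824 384410 = true := by decide +kernel

set_option maxRecDepth 1000000 in
theorem edges_6_24 : edgesRangeS iota B E 6 15941 448769 = true := by decide +kernel

set_option maxRecDepth 1000000 in
theorem edges_8_12 : edgesRangeS iota B E 8 19388 264671 = true := by decide +kernel

end

end Cfsg.Agent.Helper5.HNM
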