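import Cfsg.Agent.Helper5.HNMDatD

/-! kernel checks of edges and trees: HNM -/

set_option autoImplicit false
set_option Elab.async false

namespace Cfsg.Agent.Helper5.HNM
open Cfsg.Agent.Helper5.TC Cfsg.Agent.Helper5.TCI Cfsg.Agent.Helper5.TCS
noncomputable section

set_option maxRecDepth 1000000 in
theorem sec_6_6 : secRange E 5 1490744 516825 secF 50000 816826 = true := by decide +kernel

set_option maxRecDepth 1000000 in
theorem edges_4_35 : edgesRangeS iota B E 4 10080 1281004 = true := by decide +kernel

set_option maxRecDepth 1000000 in
theorem edges_5_53 : edgesRangeS iota B E 5 12065 696330 = true := by decide +kernel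

set_option maxRecDepth 1000000 in
theorem edges_5_107 : edgesRangeS iota B E 5 13340 1304654 = true := by decide +kernel

set_option maxRecDepth 1000000 in
theorem edges_4_41 : edgesRangeS iota B E 4 10067 1341408 = true := by decide +kernel

set_option maxRecDepth 1000000 in
theorem edges_8_77 : edgesRangeS iota B E 8 16154 1371924 = true := by decide +kernel

set_option maxRecDepth 1000000 in
theorem edges_6_55 : edgesRangeS iota B E 6 15613 954258 = true := by decide +kernel

set_option maxRecDepth 1000000 in
theorem edges_8_66 : edgesRangeS iota B E 8 15446 1198377 = true := by decide +kernel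

set_option maxRecDepth 1000000 in
theorem edges_2_3 : edgesRangeS iota B E 2 36865 104639 = true := by decide +kernel

set_option maxRecDepth 1000000 in
theorem edges_5_48 : edgesRangeS iota B E 5 12474 635478 = true := by decide +kernel

set_option maxRecDepth 1000000 in
theorem edges_7_79 : edgesRangeS iota B E 7 11482 995689 = true := by decide +kernel

set_option maxRecDepth 1000000 in
theorem edges_0_21 : edgesRangeS iota B E 0 13002 547194 = true := by decide +kernel

set_option maxRecDepth 1000000 in
theorem edges_1_27 : edgesRangeS iota B E 1 35317 694837 = true := by decide +kernel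

set_option maxRecDepth 1000000 in
theorem edges_2_49 : edgesRangeS iota B E 2 13330 1410498 = true := by decide +kernel

set_option maxRecDepth 1000000 in
theorem edges_4_11 : edgesRangeS iota B E 4 35873 422234 = true := by decide +kernel

set_option maxRecDepth 1000000 in
theorem edges_6_28 : edgesRangeS iota B E 6 17357 511582 = true := by decide +kernel

set_option maxRecDepth 1000000 in
theorem edges_8_15 : edgesRangeS iota B E 8 19187 321748 = true := by decide +kernel

end

end Cfsg.Agent.Helper5.HNM
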