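import Cfsg.Agent.Helper5.HNMDatD

/-! kernel checks of edges and trees: HNM -/

set_option autoImplicit false
set_option Elab.async false

namespace Cfsg.Agent.Helper5.HNM
open Cfsg.Agent.Helper5.TC Cfsg.Agent.Helper5.TCI Cfsg.Agent.Helper5.TCS
noncomputable section

set_option maxRecDepth 1000000 in
theorem sec_6_8 : secRange E 5 1490744 516825 secF 50000 916826 = true := by decide +kernel

set_option maxRecDepth 1000000 in
theorem edges_4_57 : edgesRangeS iota B E 4 30201 1504290 = true := by decide +kernel

set_option maxRecDepth 1000000 in
theorem edges_5_62 : edgesRangeS iota B E 5 11052 797942 = true := by decide +kernel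

set_option maxRecDepth 1000000 in
theorem edges_5_113 : edgesRangeS iota B E 5 13336 1384609 = true := by decide +kernel

set_option maxRecDepth 1000000 in
theorem edges_5_9 : edgesRangeS iota B E 5 15788 156069 = true := by decide +kernel

set_option maxRecDepth 1000000 in
theorem edges_8_84 : edgesRangeS iota B E 8 16030 1483810 = true := by decide +kernel

set_option maxRecDepth 1000000 in
theorem edges_6_62 : edgesRangeS iota B E 6 15496 1062926 = true := by decide +kernel

set_option maxRecDepth 1000000 in
theorem edges_8_78 : edgesRangeS iota B E 8 15852 1388078 = true := by decide +kernel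

set_option maxRecDepth 1000000 in
theorem edges_2_13 : edgesRangeS iota B E 2 36245 412718 = true := by decide +kernel

set_option maxRecDepth 1000000 in
theorem edges_5_69 : edgesRangeS iota B E 5 11143 875255 = true := by decide +kernel

set_option maxRecDepth 1000000 in
theorem edges_7_83 : edgesRangeS iota B E 7 11354 1041579 = true := by decide +kernel

set_option maxRecDepth 1000000 in
theorem edges_0_25 : edgesRangeS iota B E 0 35826 624443 = true := by decide +kernel

set_option maxRecDepth 1000000 in
theorem edges_1_30 : edgesRangeS iota B E 1 34425 799279 = true := by decide +kernel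

set_option maxRecDepth 1000000 in
theorem edges_2_51 : edgesRangeS iota B E 2 13338 1437160 = true := by decide +kernel

set_option maxRecDepth 1000000 in
theorem edges_4_13 : edgesRangeS iota B E 4 30735 493496 = true := by decide +kernel

set_option maxRecDepth 1000000 in
theorem edges_6_31 : edgesRangeS iota B E 6 18449 566009 = true := by decide +kernel

set_option maxRecDepth 1000000 in
theorem edges_8_22 : edgesRangeS iota B E 8 17588 451183 = true := by decide +kernel

end

end Cfsg.Agent.Helper5.HNM
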