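import Cfsg.Agent.Helper5.HNMDatD

/-! kernel checks of edges and trees: HNM -/

set_option autoImplicit false
set_option Elab.async false

namespace Cfsg.Agent.Helper5.HNM
open Cfsg.Agent.Helper5.TC Cfsg.Agent.Helper5.TCI Cfsg.Agent.Helper5.TCS
noncomputable section

set_option maxRecDepth 1000000 in
theorem sec_6_9 : secRange E 5 1490744 516825 secF 50000 966826 = true := by decide +kernel

set_option maxRecDepth 1000000 in
theorem edges_5_1 : edgesRangeS iota B E 5 15963 35789 = true := by decide +kernel

set_option maxRecDepth 1000000 in
theorem edges_5_64 : edgesRangeS iota B E 5 11047 820035 = true := by decide +kernel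

set_option maxRecDepth 1000000 in
theorem edges_6_23 : edgesRangeS iota B E 6 16096 432673 = true := by decide +kernel

set_option maxRecDepth 1000000 in
theorem edges_5_11 : edgesRangeS iota B E 5 17129 189108 = true := by decide +kernel

set_option maxRecDepth 1000000 in
theorem edges_8_86 : edgesRangeS iota B E 8 16025 1516868 = true := by decide +kernel

set_option maxRecDepth 1000000 in
theorem edges_6_64 : edgesRangeS iota B E 6 15453 1093791 = true := by decide +kernel

set_option maxRecDepth 1000000 in
theorem edges_8_81 : edgesRangeS iota B E 8 16033 1435902 = true := by decide +kernel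

set_option maxRecDepth 1000000 in
theorem edges_2_22 : edgesRangeS iota B E 2 54746 652972 = true := by decide +kernel

set_option maxRecDepth 1000000 in
theorem edges_5_79 : edgesRangeS iota B E 5 11385 988134 = true := by decide +kernel

set_option maxRecDepth 1000000 in
theorem edges_7_100 : edgesRangeS iota B E 7 11049 1233680 = true := by decide +kernel

set_option maxRecDepth 1000000 in
theorem edges_0_26 : edgesRangeS iota B E 0 36904 660269 = true := by decide +kernel

set_option maxRecDepth 1000000 in
theorem edges_1_32 : edgesRangeS iota B E 1 34116 868029 = true := by decide +kernel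

set_option maxRecDepth 1000000 in
theorem edges_2_52 : edgesRangeS iota B E 2 13336 1450498 = true := by decide +kernel

set_option maxRecDepth 1000000 in
theorem edges_4_15 : edgesRangeS iota B E 4 32011 552578 = true := by decide +kernel

set_option maxRecDepth 1000000 in
theorem edges_6_32 : edgesRangeS iota B E 6 18834 584458 = true := by decide +kernel

set_option maxRecDepth 1000000 in
theorem edges_8_24 : edgesRangeS iota B E 8 16981 486106 = true := by decide +kernel

end

end Cfsg.Agent.Helper5.HNM
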