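import Cfsg.Agent.Helper5.HNMDatD

/-! kernel checks of edges and trees: HNM -/

set_option autoImplicit false
set_option Elab.async false

namespace Cfsg.Agent.Helper5.HNM
open Cfsg.Agent.Helper5.TC Cfsg.Agent.Helper5.TCI Cfsg.Agent.Helper5.TCS
noncomputable section

set_option maxRecDepth 1000000 in
theorem sec_6_10 : secRange E 5 1490744 516825 secF 50000 1016826 = true := by decide +kernel

set_option maxRecDepth 1000000 in
theorem edges_5_3 : edgesRangeS iota B E 5 15297 66365 = true := by decide +kernel

set_option maxRecDepth 1000000 in
theorem edges_5_74 : edgesRangeS iota B E 5 11390 931074 = true := by decide +kernel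

set_option maxRecDepth 1000000 in
theorem edges_6_63 : edgesRangeS iota B E 6 15369 1078422 = true := by decide +kernel

set_option maxRecDepth 1000000 in
theorem edges_5_15 : edgesRangeS iota B E 5 9871 240676 = true := by decide +kernel

set_option maxRecDepth 1000000 in
theorem edges_0_5 : edgesRangeS iota B E 0 21122 148241 = true := by decide +kernel

set_option maxRecDepth 1000000 in
theorem edges_5_112 : edgesRangeS iota B E 5 13310 1371299 = true := by decide +kernel

set_option maxRecDepth 1000000 in
theorem edges_7_91 : edgesRangeS iota B E 7 11571 1131613 = true := by decide +kernel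

set_option maxRecDepth 1000000 in
theorem edges_1_8 : edgesRangeS iota B E 1 12971 195275 = true := by decide +kernel

set_option maxRecDepth 1000000 in
theorem edges_4_26 : edgesRangeS iota B E 4 38161 1017258 = true := by decide +kernel

set_option maxRecDepth 1000000 in
theorem edges_6_65 : edgesRangeS iota B E 6 15423 1109244 = true := by decide +kernel

set_option maxRecDepth 1000000 in
theorem edges_8_45 : edgesRangeS iota B E 8 16730 856809 = true := by decide +kernel

set_option maxRecDepth 1000000 in
theorem edges_1_33 : edgesRangeS iota B E 1 33590 902145 = true := by decide +kernel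

set_option maxRecDepth 1000000 in
theorem edges_2_53 : edgesRangeS iota B E 2 13337 1463834 = true := by decide +kernel

set_option maxRecDepth 1000000 in
theorem edges_4_16 : edgesRangeS iota B E 4 57298 584589 = true := by decide +kernel

set_option maxRecDepth 1000000 in
theorem edges_6_35 : edgesRangeS iota B E 6 15141 639061 = true := by decide +kernel

set_option maxRecDepth 1000000 in
theorem edges_8_25 : edgesRangeS iota B E 8 17017 503087 = true := by decide +kernel

end

end Cfsg.Agent.Helper5.HNM
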