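import Cfsg.Agent.Helper5.HNMDatD

/-! kernel checks of edges and trees: HNM -/

set_option autoImplicit false
set_option Elab.async false

namespace Cfsg.Agent.Helper5.HNM
open Cfsg.Agent.Helper5.TC Cfsg.Agent.Helper5.TCI Cfsg.Agent.Helper5.TCS
noncomputable section

set_option maxRecDepth 1000000 in
theorem sec_5_0 : secRange E 5 986742 162009 secF 50000 162010 = true := by decide +kernel

set_option maxRecDepth 1000000 in
theorem edges_4_38 : edgesRangeS iota B E 4 9997 1311154 = true := by decide +kernel

set_option maxRecDepth 1000000 in
theorem edges_7_32 : edgesRangeS iota B E 7 12131 442452 = true := by decide +kernel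

set_option maxRecDepth 1000000 in
theorem edges_7_18 : edgesRangeS iota B E 7 12546 272774 = true := by decide +kernel

set_option maxRecDepth 1000000 in
theorem edges_5_57 : edgesRangeS iota B E 5 11034 742802 = true := by decide +kernel

set_option maxRecDepth 1000000 in
theorem edges_1_48 : edgesRangeS iota B E 1 12359 1304574 = true := by decide +kernel

set_option maxRecDepth 1000000 in
theorem edges_6_15 : edgesRangeS iota B E 6 16183 299400 = true := by decide +kernel

set_option maxRecDepth 1000000 in
theorem edges_8_14 : edgesRangeS iota B E 8 18560 303188 = true := by decide +kernel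

set_option maxRecDepth 1000000 in
theorem edges_1_31 : edgesRangeS iota B E 1 34325 833704 = true := by decide +kernel

set_option maxRecDepth 1000000 in
theorem edges_5_12 : edgesRangeS iota B E 5 13644 206237 = true := by decide +kernel

set_option maxRecDepth 1000000 in
theorem edges_7_17 : edgesRangeS iota B E 7 12806 259968 = true := by decide +kernel

set_option maxRecDepth 1000000 in
theorem edges_8_68 : edgesRangeS iota B E 8 15328 1229037 = true := by decide +kernel

set_option maxRecDepth 1000000 in
theorem edges_2_1 : edgesRangeS iota B E 2 23827 37158 = true := by decide +kernel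

set_option maxRecDepth 1000000 in
theorem edges_3_13 : edgesRangeS iota B E 3 36812 408278 = true := by decide +kernel

set_option maxRecDepth 1000000 in
theorem edges_4_34 : edgesRangeS iota B E 4 9932 1271072 = true := by decide +kernel

set_option maxRecDepth 1000000 in
theorem edges_6_84 : edgesRangeS iota B E 6 18382 1431745 = true := by decide +kernel

set_option maxRecDepth 1000000 in
theorem edges_6_89 : edgesRangeS iota B E 6 14568 1524432 = true := by decide +kernel

end

end Cfsg.Agent.Helper5.HNM
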