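import Cfsg.Agent.Helper5.HNMDatD

/-! kernel checks of edges and trees: HNM -/

set_option autoImplicit false
set_option Elab.async false

namespace Cfsg.Agent.Helper5.HNM
open Cfsg.Agent.Helper5.TC Cfsg.Agent.Helper5.TCI Cfsg.Agent.Helper5.TCS
noncomputable section

set_option maxRecDepth 1000000 in
theorem sec_6_11 : secRange E 5 1490744 516825 secF 50000 1066826 = true := by decide +kernel

set_option maxRecDepth 1000000 in
theorem edges_5_35 : edgesRangeS iota B E 5 11160 480275 = true := by decide +kernel

set_option maxRecDepth 1000000 in
theorem edges_5_122 : edgesRangeS iota B E 5 9295 1504654 = true := by decide +kernel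

set_option maxRecDepth 1000000 in
theorem edges_6_77 : edgesRangeS iota B E 6 18525 1302556 = true := by decide +kernel

set_option maxRecDepth 1000000 in
theorem edges_5_28 : edgesRangeS iota B E 5 11560 398783 = true := by decide +kernel

set_option maxRecDepth 1000000 in
theorem edges_0_49 : edgesRangeS iota B E 0 13519 1323756 = true := by decide +kernel

set_option maxRecDepth 1000000 in
theorem edges_5_116 : edgesRangeS iota B E 5 13314 1424648 = true := by decide +kernel

set_option maxRecDepth 1000000 in
theorem edges_7_93 : edgesRangeS iota B E 7 11480 1154662 = true := by decide +kernel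

set_option maxRecDepth 1000000 in
theorem edges_1_11 : edgesRangeS iota B E 1 34984 261248 = true := by decide +kernel

set_option maxRecDepth 1000000 in
theorem edges_4_29 : edgesRangeS iota B E 4 37292 1129628 = true := by decide +kernel

set_option maxRecDepth 1000000 in
theorem edges_6_69 : edgesRangeS iota B E 6 15615 1171709 = true := by decide +kernel

set_option maxRecDepth 1000000 in
theorem edges_8_49 : edgesRangeS iota B E 8 16340 923715 = true := by decide +kernel

set_option maxRecDepth 1000000 in
theorem edges_1_35 : edgesRangeS iota B E 1 32198 967993 = true := by decide +kernel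

set_option maxRecDepth 1000000 in
theorem edges_2_54 : edgesRangeS iota B E 2 13332 1477171 = true := by decide +kernel

set_option maxRecDepth 1000000 in
theorem edges_4_19 : edgesRangeS iota B E 4 42886 729696 = true := by decide +kernel

set_option maxRecDepth 1000000 in
theorem edges_6_38 : edgesRangeS iota B E 6 15077 684382 = true := by decide +kernel

set_option maxRecDepth 1000000 in
theorem edges_8_27 : edgesRangeS iota B E 8 19996 540065 = true := by decide +kernel

end

end Cfsg.Agent.Helper5.HNM
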