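import Cfsg.Agent.Helper5.HNMDatD

/-! kernel checks of edges and trees: HNM -/

set_option autoImplicit false
set_option Elab.async false

namespace Cfsg.Agent.Helper5.HNM
open Cfsg.Agent.Helper5.TC Cfsg.Agent.Helper5.TCI Cfsg.Agent.Helper5.TCS
noncomputable section

set_option maxRecDepth 1000000 in
theorem sec_6_12 : secRange E 5 1490744 516825 secF 50000 1116826 = true := by decide +kernel

set_option maxRecDepth 1000000 in
theorem edges_5_66 : edgesRangeS iota B E 5 10998 842067 = true := by decide +kernel

set_option maxRecDepth 1000000 in
theorem edges_6_16 : edgesRangeS iota B E 6 16586 315583 = true := by decide +kernel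

set_option maxRecDepth 1000000 in
theorem edges_6_79 : edgesRangeS iota B E 6 18476 1339425 = true := by decide +kernel

set_option maxRecDepth 1000000 in
theorem edges_5_29 : edgesRangeS iota B E 5 11337 410343 = true := by decide +kernel

set_option maxRecDepth 1000000 in
theorem edges_0_50 : edgesRangeS iota B E 0 13485 1337275 = true := by decide +kernel

set_option maxRecDepth 1000000 in
theorem edges_5_119 : edgesRangeS iota B E 5 13360 1464660 = true := by decide +kernel

set_option maxRecDepth 1000000 in
theorem edges_7_105 : edgesRangeS iota B E 7 17110 1307052 = true := by decide +kernel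

set_option maxRecDepth 1000000 in
theorem edges_1_14 : edgesRangeS iota B E 1 33831 363764 = true := by decide +kernel

set_option maxRecDepth 1000000 in
theorem edges_4_31 : edgesRangeS iota B E 4 35522 1203778 = true := by decide +kernel

set_option maxRecDepth 1000000 in
theorem edges_6_70 : edgesRangeS iota B E 6 15544 1187324 = true := by decide +kernel

set_option maxRecDepth 1000000 in
theorem edges_8_52 : edgesRangeS iota B E 8 16287 972651 = true := by decide +kernel

set_option maxRecDepth 1000000 in
theorem edges_1_37 : edgesRangeS iota B E 1 32004 1032263 = true := by decide +kernel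

set_option maxRecDepth 1000000 in
theorem edges_2_55 : edgesRangeS iota B E 2 13332 1490503 = true := by decide +kernel

set_option maxRecDepth 1000000 in
theorem edges_4_20 : edgesRangeS iota B E 4 42102 772582 = true := by decide +kernel

set_option maxRecDepth 1000000 in
theorem edges_6_44 : edgesRangeS iota B E 6 16067 778806 = true := by decide +kernel

set_option maxRecDepth 1000000 in
theorem edges_8_41 : edgesRangeS iota B E 8 16928 789390 = true := by decide +kernel

end

end Cfsg.Agent.Helper5.HNM
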