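import Cfsg.Agent.Helper5.HNMDatD

/-! kernel checks of edges and trees: HNM -/

set_option autoImplicit false
set_option Elab.async false

namespace Cfsg.Agent.Helper5.HNM
open Cfsg.Agent.Helper5.TC Cfsg.Agent.Helper5.TCI Cfsg.Agent.Helper5.TCS
noncomputable section

set_option maxRecDepth 1000000 in
theorem sec_6_13 : secRange E 5 1490744 516825 secF 50000 1166826 = true := by decide +kernel

set_option maxRecDepth 1000000 in
theorem edges_5_67 : edgesRangeS iota B E 5 11112 853065 = true := by decide +kernel

set_option maxRecDepth 1000000 in
theorem edges_6_37 : edgesRangeS iota B E 6 15021 669361 = true := by decide +kernel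

set_option maxRecDepth 1000000 in
theorem edges_6_81 : edgesRangeS iota B E 6 18374 1376294 = true := by decide +kernel

set_option maxRecDepth 1000000 in
theorem edges_5_31 : edgesRangeS iota B E 5 12290 433095 = true := by decide +kernel

set_option maxRecDepth 1000000 in
theorem edges_0_54 : edgesRangeS iota B E 0 13493 1391405 = true := by decide +kernel

set_option maxRecDepth 1000000 in
theorem edges_6_4 : edgesRangeS iota B E 6 18694 97882 = true := by decide +kernel

set_option maxRecDepth 1000000 in
theorem edges_7_108 : edgesRangeS iota B E 7 17136 1358487 = true := by decide +kernel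

set_option maxRecDepth 1000000 in
theorem edges_1_15 : edgesRangeS iota B E 1 33349 397595 = true := by decide +kernel

set_option maxRecDepth 1000000 in
theorem edges_4_33 : edgesRangeS iota B E 4 9960 1261112 = true := by decide +kernel

set_option maxRecDepth 1000000 in
theorem edges_6_72 : edgesRangeS iota B E 6 15253 1218278 = true := by decide +kernel

set_option maxRecDepth 1000000 in
theorem edges_8_53 : edgesRangeS iota B E 8 16321 988938 = true := by decide +kernel

set_option maxRecDepth 1000000 in
theorem edges_1_38 : edgesRangeS iota B E 1 31893 1064267 = true := by decide +kernel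

set_option maxRecDepth 1000000 in
theorem edges_3_0 : edgesRangeS iota B E 3 37147 0 = true := by decide +kernel

set_option maxRecDepth 1000000 in
theorem edges_4_21 : edgesRangeS iota B E 4 41615 814684 = true := by decide +kernel

set_option maxRecDepth 1000000 in
theorem edges_6_45 : edgesRangeS iota B E 6 16131 794873 = true := by decide +kernel

set_option maxRecDepth 1000000 in
theorem edges_8_43 : edgesRangeS iota B E 8 16855 823126 = true := by decide +kernel

end

end Cfsg.Agent.Helper5.HNM
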