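import Cfsg.Agent.Helper5.HNMDatD

/-! kernel checks of edges and trees: HNM -/

set_option autoImplicit false
set_option Elab.async false

namespace Cfsg.Agent.Helper5.HNM
open Cfsg.Agent.Helper5.TC Cfsg.Agent.Helper5.TCI Cfsg.Agent.Helper5.TCS
noncomputable section

set_option maxRecDepth 1000000 in
theorem sec_7_0 : secRange E 5 7087246 1256025 secF 50000 1256026 = true := by decide +kernel

set_option maxRecDepth 1000000 in
theorem edges_5_73 : edgesRangeS iota B E 5 11145 919929 = true := by decide +kernel

set_option maxRecDepth 1000000 in
theorem edges_6_43 : edgesRangeS iota B E 6 16235 762571 = true := by decide +kernel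

set_option maxRecDepth 1000000 in
theorem edges_6_82 : edgesRangeS iota B E 6 18591 1394668 = true := by decide +kernel

set_option maxRecDepth 1000000 in
theorem edges_5_33 : edgesRangeS iota B E 5 11572 457287 = true := by decide +kernel

set_option maxRecDepth 1000000 in
theorem edges_0_56 : edgesRangeS iota B E 0 13460 1418401 = true := by decide +kernel

set_option maxRecDepth 1000000 in
theorem edges_6_5 : edgesRangeS iota B E 6 18943 116576 = true := by decide +kernel

set_option maxRecDepth 1000000 in
theorem edges_7_111 : edgesRangeS iota B E 7 17124 1409920 = true := by decide +kernel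

set_option maxRecDepth 1000000 in
theorem edges_1_17 : edgesRangeS iota B E 1 32023 463176 = true := by decide +kernel

set_option maxRecDepth 1000000 in
theorem edges_4_49 : edgesRangeS iota B E 4 10246 1422183 = true := by decide +kernel

set_option maxRecDepth 1000000 in
theorem edges_6_74 : edgesRangeS iota B E 6 16933 1248688 = true := by decide +kernel

set_option maxRecDepth 1000000 in
theorem edges_8_54 : edgesRangeS iota B E 8 16307 1005259 = true := by decide +kernel

set_option maxRecDepth 1000000 in
theorem edges_1_39 : edgesRangeS iota B E 1 31818 1096160 = true := by decide +kernel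

set_option maxRecDepth 1000000 in
theorem edges_3_1 : edgesRangeS iota B E 3 23873 37147 = true := by decide +kernel

set_option maxRecDepth 1000000 in
theorem edges_4_22 : edgesRangeS iota B E 4 41387 856299 = true := by decide +kernel

set_option maxRecDepth 1000000 in
theorem edges_6_46 : edgesRangeS iota B E 6 16011 811004 = true := by decide +kernel

set_option maxRecDepth 1000000 in
theorem edges_8_48 : edgesRangeS iota B E 8 16734 906981 = true := by decide +kernel

end

end Cfsg.Agent.Helper5.HNM
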