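import Cfsg.Agent.Helper5.HNMDatD

/-! kernel checks of edges and trees: HNM -/

set_option autoImplicit false
set_option Elab.async false

namespace Cfsg.Agent.Helper5.HNM
open Cfsg.Agent.Helper5.TC Cfsg.Agent.Helper5.TCI Cfsg.Agent.Helper5.TCS
noncomputable section

set_option maxRecDepth 1000000 in
theorem sec_7_1 : secRange E 5 7087246 1256025 secF 50000 1306026 = true := by decide +kernel

set_option maxRecDepth 1000000 in
theorem edges_5_87 : edgesRangeS iota B E 5 11051 1078140 = true := by decide +kernel

set_option maxRecDepth 1000000 in
theorem edges_6_71 : edgesRangeS iota B E 6 15410 1202868 = true := by decide +kernel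

set_option maxRecDepth 1000000 in
theorem edges_6_86 : edgesRangeS iota B E 6 18410 1468726 = true := by decide +kernel

set_option maxRecDepth 1000000 in
theorem edges_5_39 : edgesRangeS iota B E 5 17053 528364 = true := by decide +kernel

set_option maxRecDepth 1000000 in
theorem edges_0_59 : edgesRangeS iota B E 0 13542 1459013 = true := by decide +kernel

set_option maxRecDepth 1000000 in
theorem edges_6_9 : edgesRangeS iota B E 6 18460 191787 = true := by decide +kernel

set_option maxRecDepth 1000000 in
theorem edges_7_113 : edgesRangeS iota B E 7 17102 1444223 = true := by decide +kernel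

set_option maxRecDepth 1000000 in
theorem edges_1_22 : edgesRangeS iota B E 1 12934 559413 = true := by decide +kernel

set_option maxRecDepth 1000000 in
theorem edges_4_54 : edgesRangeS iota B E 4 10239 1473590 = true := by decide +kernel

set_option maxRecDepth 1000000 in
theorem edges_6_78 : edgesRangeS iota B E 6 18344 1321081 = true := by decide +kernel

set_option maxRecDepth 1000000 in
theorem edges_8_56 : edgesRangeS iota B E 8 16280 1037768 = true := by decide +kernel

set_option maxRecDepth 1000000 in
theorem edges_1_42 : edgesRangeS iota B E 1 31408 1191286 = true := by decide +kernel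

set_option maxRecDepth 1000000 in
theorem edges_3_6 : edgesRangeS iota B E 3 13334 180928 = true := by decide +kernel

set_option maxRecDepth 1000000 in
theorem edges_4_23 : edgesRangeS iota B E 4 40583 897686 = true := by decide +kernel

set_option maxRecDepth 1000000 in
theorem edges_6_53 : edgesRangeS iota B E 6 15845 922730 = true := by decide +kernel

set_option maxRecDepth 1000000 in
theorem edges_8_50 : edgesRangeS iota B E 8 16245 940055 = true := by decide +kernel

end

end Cfsg.Agent.Helper5.HNM
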