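import Cfsg.Agent.Helper5.HNMDatD

/-! kernel checks of edges and trees: HNM -/

set_option autoImplicit false
set_option Elab.async false

namespace Cfsg.Agent.Helper5.HNM
open Cfsg.Agent.Helper5.TC Cfsg.Agent.Helper5.TCI Cfsg.Agent.Helper5.TCS
noncomputable section

set_option maxRecDepth 1000000 in
theorem sec_7_2 : secRange E 5 7087246 1256025 secF 50000 1356026 = true := by decide +kernel

set_option maxRecDepth 1000000 in
theorem edges_5_103 : edgesRangeS iota B E 5 12372 1252263 = true := by decide +kernel

set_option maxRecDepth 1000000 in
theorem edges_6_80 : edgesRangeS iota B E 6 18393 1357901 = true := by decide +kernel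

set_option maxRecDepth 1000000 in
theorem edges_7_10 : edgesRangeS iota B E 7 17148 166093 = true := by decide +kernel

set_option maxRecDepth 1000000 in
theorem edges_5_52 : edgesRangeS iota B E 5 11972 684358 = true := by decide +kernel

set_option maxRecDepth 1000000 in
theorem edges_1_6 : edgesRangeS iota B E 1 12965 169335 = true := by decide +kernel

set_option maxRecDepth 1000000 in
theorem edges_6_11 : edgesRangeS iota B E 6 19205 229950 = true := by decide +kernel

set_option maxRecDepth 1000000 in
theorem edges_8_4 : edgesRangeS iota B E 8 19752 104152 = true := by decide +kernel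

set_option maxRecDepth 1000000 in
theorem edges_1_23 : edgesRangeS iota B E 1 20175 572347 = true := by decide +kernel

set_option maxRecDepth 1000000 in
theorem edges_4_55 : edgesRangeS iota B E 4 10190 1483829 = true := by decide +kernel

set_option maxRecDepth 1000000 in
theorem edges_6_85 : edgesRangeS iota B E 6 18599 1450127 = true := by decide +kernel

set_option maxRecDepth 1000000 in
theorem edges_8_62 : edgesRangeS iota B E 8 15880 1135356 = true := by decide +kernel

set_option maxRecDepth 1000000 in
theorem edges_1_50 : edgesRangeS iota B E 1 12318 1329143 = true := by decide +kernel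

set_option maxRecDepth 1000000 in
theorem edges_3_7 : edgesRangeS iota B E 3 13333 194262 = true := by decide +kernel

set_option maxRecDepth 1000000 in
theorem edges_4_24 : edgesRangeS iota B E 4 40030 938269 = true := by decide +kernel

set_option maxRecDepth 1000000 in
theorem edges_6_56 : edgesRangeS iota B E 6 15598 969871 = true := by decide +kernel

set_option maxRecDepth 1000000 in
theorem edges_8_51 : edgesRangeS iota B E 8 16351 956300 = true := by decide +kernel

end

end Cfsg.Agent.Helper5.HNM
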