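import Cfsg.Agent.Helper5.HNMDatD

/-! kernel checks of edges and trees: HNM -/

set_option autoImplicit false
set_option Elab.async false

namespace Cfsg.Agent.Helper5.HNM
open Cfsg.Agent.Helper5.TC Cfsg.Agent.Helper5.TCI Cfsg.Agent.Helper5.TCS
noncomputable section

set_option maxRecDepth 1000000 in
theorem sec_7_3 : secRange E 5 7087246 1256025 secF 50000 1406026 = true := by decide +kernel

set_option maxRecDepth 1000000 in
theorem edges_7_116 : edgesRangeS iota B E 7 14221 1495608 = true := by decide +kernel

set_option maxRecDepth 1000000 in
theorem edges_7_28 : edgesRangeS iota B E 7 12006 394733 = true := by decide +kernel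

set_option maxRecDepth 1000000 in
theorem edges_7_16 : edgesRangeS iota B E 7 11359 248609 = true := by decide +kernel

set_option maxRecDepth 1000000 in
theorem edges_5_56 : edgesRangeS iota B E 5 10968 731834 = true := by decide +kernel

set_option maxRecDepth 1000000 in
theorem edges_1_7 : edgesRangeS iota B E 1 12975 182300 = true := by decide +kernel

set_option maxRecDepth 1000000 in
theorem edges_6_12 : edgesRangeS iota B E 6 17079 249155 = true := by decide +kernel

set_option maxRecDepth 1000000 in
theorem edges_8_6 : edgesRangeS iota B E 8 19958 144115 = true := by decide +kernel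

set_option maxRecDepth 1000000 in
theorem edges_1_26 : edgesRangeS iota B E 1 36967 657870 = true := by decide +kernel

set_option maxRecDepth 1000000 in
theorem edges_5_7 : edgesRangeS iota B E 5 15079 126783 = true := by decide +kernel

set_option maxRecDepth 1000000 in
theorem edges_7_4 : edgesRangeS iota B E 7 14370 80544 = true := by decide +kernel

set_option maxRecDepth 1000000 in
theorem edges_8_64 : edgesRangeS iota B E 8 15757 1166994 = true := by decide +kernel

set_option maxRecDepth 1000000 in
theorem edges_1_51 : edgesRangeS iota B E 1 12338 1341461 = true := by decide +kernel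

set_option maxRecDepth 1000000 in
theorem edges_3_8 : edgesRangeS iota B E 3 32379 207595 = true := by decide +kernel

set_option maxRecDepth 1000000 in
theorem edges_4_25 : edgesRangeS iota B E 4 38959 978299 = true := by decide +kernel

set_option maxRecDepth 1000000 in
theorem edges_6_66 : edgesRangeS iota B E 6 15676 1124667 = true := by decide +kernel

set_option maxRecDepth 1000000 in
theorem edges_8_55 : edgesRangeS iota B E 8 16202 1021566 = true := by decide +kernel

end

end Cfsg.Agent.Helper5.HNM
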