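import Cfsg.Agent.Helper5.HNMDatD

/-! kernel checks of edges and trees: HNM -/

set_option autoImplicit false
set_option Elab.async false

namespace Cfsg.Agent.Helper5.HNM
open Cfsg.Agent.Helper5.TC Cfsg.Agent.Helper5.TCI Cfsg.Agent.Helper5.TCS
noncomputable section

set_option maxRecDepth 1000000 in
theorem sec_7_4 : secRange E 5 7087246 1256025 secF 50000 1456026 = true := by decide +kernel

set_option maxRecDepth 1000000 in
theorem edges_0_22 : edgesRangeS iota B E 0 12985 560196 = true := by decide +kernel

set_option maxRecDepth 1000000 in
theorem edges_4_43 : edgesRangeS iota B E 4 10039 1361547 = true := by decide +kernel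

set_option maxRecDepth 1000000 in
theorem edges_5_71 : edgesRangeS iota B E 5 11198 897543 = true := by decide +kernel

set_option maxRecDepth 1000000 in
theorem edges_3_44 : edgesRangeS iota B E 3 13335 1343846 = true := by decide +kernel

set_option maxRecDepth 1000000 in
theorem edges_7_75 : edgesRangeS iota B E 7 11728 949491 = true := by decide +kernel

set_option maxRecDepth 1000000 in
theorem edges_6_13 : edgesRangeS iota B E 6 16656 266234 = true := by decide +kernel

set_option maxRecDepth 1000000 in
theorem edges_8_8 : edgesRangeS iota B E 8 20036 184067 = true := by decide +kernel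

set_option maxRecDepth 1000000 in
theorem edges_1_29 : edgesRangeS iota B E 1 34541 764738 = true := by decide +kernel

set_option maxRecDepth 1000000 in
theorem edges_5_10 : edgesRangeS iota B E 5 17251 171857 = true := by decide +kernel

set_option maxRecDepth 1000000 in
theorem edges_7_5 : edgesRangeS iota B E 7 14130 94914 = true := by decide +kernel

set_option maxRecDepth 1000000 in
theorem edges_8_67 : edgesRangeS iota B E 8 15214 1213823 = true := by decide +kernel

set_option maxRecDepth 1000000 in
theorem edges_1_57 : edgesRangeS iota B E 1 12341 1415262 = true := by decide +kernel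

set_option maxRecDepth 1000000 in
theorem edges_3_9 : edgesRangeS iota B E 3 52082 239974 = true := by decide +kernel

set_option maxRecDepth 1000000 in
theorem edges_4_27 : edgesRangeS iota B E 4 37453 1055419 = true := by decide +kernel

set_option maxRecDepth 1000000 in
theorem edges_6_67 : edgesRangeS iota B E 6 15668 1140343 = true := by decide +kernel

set_option maxRecDepth 1000000 in
theorem edges_8_69 : edgesRangeS iota B E 8 15483 1244365 = true := by decide +kernel

end

end Cfsg.Agent.Helper5.HNM
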