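import Cfsg.Agent.Helper5.HNMDatD

/-! kernel checks of edges and trees: HNM -/

set_option autoImplicit false
set_option Elab.async false

namespace Cfsg.Agent.Helper5.HNM
open Cfsg.Agent.Helper5.TC Cfsg.Agent.Helper5.TCI Cfsg.Agent.Helper5.TCS
noncomputable section

set_option maxRecDepth 1000000 in
theorem tree_0 : treeRange E 50000 1 = true := by decide +kernel

set_option maxRecDepth 1000000 in
theorem tree_20 : treeRange E 50000 1000001 = true := by decide +kernel

set_option maxRecDepth 1000000 in
theorem edges_1_54 : edgesRangeS iota B E 1 12251 1378369 = true := by decide +kernel

set_option maxRecDepth 1000000 in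
theorem edges_7_11 : edgesRangeS iota B E 7 17147 183241 = true := by decide +kernel

set_option maxRecDepth 1000000 in
theorem edges_5_49 : edgesRangeS iota B E 5 12174 647952 = true := by decide +kernel

set_option maxRecDepth 1000000 in
theorem edges_7_44 : edgesRangeS iota B E 7 10418 600464 = true := by decide +kernel

set_option maxRecDepth 1000000 in
theorem edges_0_23 : edgesRangeS iota B E 0 21262 573181 = true := by decide +kernel

set_option maxRecDepth 1000000 in
theorem edges_3_20 : edgesRangeS iota B E 3 26830 570893 = true := by decide +kernel

set_option maxRecDepth 1000000 in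
theorem edges_6_14 : edgesRangeS iota B E 6 16510 282890 = true := by decide +kernel

set_option maxRecDepth 1000000 in
theorem edges_8_21 : edgesRangeS iota B E 8 17749 433434 = true := by decide +kernel

set_option maxRecDepth 1000000 in
theorem edges_0_46 : edgesRangeS iota B E 0 13537 1283160 = true := by decide +kernel

set_option maxRecDepth 1000000 in
theorem edges_2_20 : edgesRangeS iota B E 2 26867 570881 = true := by decide +kernel

set_option maxRecDepth 1000000 in
theorem edges_3_35 : edgesRangeS iota B E 3 35010 1171538 = true := by decide +kernel

set_option maxRecDepth 1000000 in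
theorem edges_5_72 : edgesRangeS iota B E 5 11188 908741 = true := by decide +kernel

set_option maxRecDepth 1000000 in
theorem edges_7_56 : edgesRangeS iota B E 7 11606 733230 = true := by decide +kernel

end

end Cfsg.Agent.Helper5.HNM
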