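import Cfsg.Agent.Helper5.HNMDatD

/-! kernel checks of edges and trees: HNM -/

set_option autoImplicit false
set_option Elab.async false

namespace Cfsg.Agent.Helper5.HNM
open Cfsg.Agent.Helper5.TC Cfsg.Agent.Helper5.TCI Cfsg.Agent.Helper5.TCS
noncomputable section

set_option maxRecDepth 1000000 in
theorem tree_1 : treeRange E 50000 50001 = true := by decide +kernel

set_option maxRecDepth 1000000 in
theorem tree_21 : treeRange E 50000 1050001 = true := by decide +kernel

set_option maxRecDepth 1000000 in
theorem edges_1_56 : edgesRangeS iota B E 1 12337 1402925 = true := by decide +kernel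

set_option maxRecDepth 1000000 in
theorem edges_7_25 : edgesRangeS iota B E 7 12219 358465 = true := by decide +kernel

set_option maxRecDepth 1000000 in
theorem edges_5_51 : edgesRangeS iota B E 5 12071 672287 = true := by decide +kernel

set_option maxRecDepth 1000000 in
theorem edges_7_49 : edgesRangeS iota B E 7 11297 654964 = true := by decide +kernel

set_option maxRecDepth 1000000 in
theorem edges_0_29 : edgesRangeS iota B E 0 34526 766957 = true := by decide +kernel

set_option maxRecDepth 1000000 in
theorem edges_3_25 : edgesRangeS iota B E 3 37892 790013 = true := by decide +kernel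

set_option maxRecDepth 1000000 in
theorem edges_6_17 : edgesRangeS iota B E 6 17281 332169 = true := by decide +kernel

set_option maxRecDepth 1000000 in
theorem edges_8_26 : edgesRangeS iota B E 8 19961 520104 = true := by decide +kernel

set_option maxRecDepth 1000000 in
theorem edges_0_47 : edgesRangeS iota B E 0 13503 1296697 = true := by decide +kernel

set_option maxRecDepth 1000000 in
theorem edges_2_21 : edgesRangeS iota B E 2 55224 597748 = true := by decide +kernel

set_option maxRecDepth 1000000 in
theorem edges_3_36 : edgesRangeS iota B E 3 34977 1206548 = true := by decide +kernel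

set_option maxRecDepth 1000000 in
theorem edges_5_76 : edgesRangeS iota B E 5 11378 953919 = true := by decide +kernel

set_option maxRecDepth 1000000 in
theorem edges_7_58 : edgesRangeS iota B E 7 11612 756372 = true := by decide +kernel

end

end Cfsg.Agent.Helper5.HNM
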