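import Cfsg.Agent.Helper5.HNMDatD

/-! kernel checks of edges and trees: HNM -/

set_option autoImplicit false
set_option Elab.async false

namespace Cfsg.Agent.Helper5.HNM
open Cfsg.Agent.Helper5.TC Cfsg.Agent.Helper5.TCI Cfsg.Agent.Helper5.TCS
noncomputable section

set_option maxRecDepth 1000000 in
theorem sec_5_1 : secRange E 5 986742 162009 secF 50000 212010 = true := by decide +kernel

set_option maxRecDepth 1000000 in
theorem edges_4_45 : edgesRangeS iota B E 4 10104 1381695 = true := by decide +kernel

set_option maxRecDepth 1000000 in
theorem edges_7_51 : edgesRangeS iota B E 7 11120 677413 = true := by decide +kernel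

set_option maxRecDepth 1000000 in
theorem edges_7_23 : edgesRangeS iota B E 7 12554 333534 = true := by decide +kernel

set_option maxRecDepth 1000000 in
theorem edges_5_63 : edgesRangeS iota B E 5 11041 808994 = true := by decide +kernel

set_option maxRecDepth 1000000 in
theorem edges_1_59 : edgesRangeS iota B E 1 12228 1439893 = true := by decide +kernel

set_option maxRecDepth 1000000 in
theorem edges_6_19 : edgesRangeS iota B E 6 16852 366479 = true := by decide +kernel

set_option maxRecDepth 1000000 in
theorem edges_8_17 : edgesRangeS iota B E 8 18752 360089 = true := by decide +kernel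

set_option maxRecDepth 1000000 in
theorem edges_1_34 : edgesRangeS iota B E 1 32258 935735 = true := by decide +kernel

set_option maxRecDepth 1000000 in
theorem edges_5_17 : edgesRangeS iota B E 5 13548 262505 = true := by decide +kernel

set_option maxRecDepth 1000000 in
theorem edges_7_20 : edgesRangeS iota B E 7 11968 297592 = true := by decide +kernel

set_option maxRecDepth 1000000 in
theorem edges_8_70 : edgesRangeS iota B E 8 16060 1259848 = true := by decide +kernel

set_option maxRecDepth 1000000 in
theorem edges_2_2 : edgesRangeS iota B E 2 43654 60985 = true := by decide +kernel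

set_option maxRecDepth 1000000 in
theorem edges_3_14 : edgesRangeS iota B E 3 37727 445090 = true := by decide +kernel

set_option maxRecDepth 1000000 in
theorem edges_4_37 : edgesRangeS iota B E 4 10057 1301097 = true := by decide +kernel

set_option maxRecDepth 1000000 in
theorem edges_6_88 : edgesRangeS iota B E 6 18806 1505626 = true := by decide +kernel

set_option maxRecDepth 1000000 in
theorem edges_0_63 : edgesRangeS iota B E 0 19730 1519270 = true := by decide +kernel

end

end Cfsg.Agent.Helper5.HNM
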