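import Cfsg.Agent.Helper5.HNMDatD

/-! kernel checks of edges and trees: HNM -/

set_option autoImplicit false
set_option Elab.async false

namespace Cfsg.Agent.Helper5.HNM
open Cfsg.Agent.Helper5.TC Cfsg.Agent.Helper5.TCI Cfsg.Agent.Helper5.TCS
noncomputable section

set_option maxRecDepth 1000000 in
theorem tree_2 : treeRange E 50000 100001 = true := by decide +kernel

set_option maxRecDepth 1000000 in
theorem tree_22 : treeRange E 50000 1100001 = true := by decide +kernel

set_option maxRecDepth 1000000 in
theorem edges_1_58 : edgesRangeS iota B E 1 12290 1427603 = true := by decide +kernel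

set_option maxRecDepth 1000000 in
theorem edges_7_35 : edgesRangeS iota B E 7 11628 478215 = true := by decide +kernel

set_option maxRecDepth 1000000 in
theorem edges_5_55 : edgesRangeS iota B E 5 11354 720480 = true := by decide +kernel

set_option maxRecDepth 1000000 in
theorem edges_7_50 : edgesRangeS iota B E 7 11152 666261 = true := by decide +kernel

set_option maxRecDepth 1000000 in
theorem edges_0_31 : edgesRangeS iota B E 0 34319 835902 = true := by decide +kernel

set_option maxRecDepth 1000000 in
theorem edges_3_30 : edgesRangeS iota B E 3 39912 980708 = true := by decide +kernel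

set_option maxRecDepth 1000000 in
theorem edges_6_25 : edgesRangeS iota B E 6 15718 464710 = true := by decide +kernel

set_option maxRecDepth 1000000 in
theorem edges_8_29 : edgesRangeS iota B E 8 18692 580043 = true := by decide +kernel

set_option maxRecDepth 1000000 in
theorem edges_0_51 : edgesRangeS iota B E 0 13512 1350760 = true := by decide +kernel

set_option maxRecDepth 1000000 in
theorem edges_2_23 : edgesRangeS iota B E 2 45433 707718 = true := by decide +kernel

set_option maxRecDepth 1000000 in
theorem edges_3_38 : edgesRangeS iota B E 3 13330 1263848 = true := by decide +kernel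

set_option maxRecDepth 1000000 in
theorem edges_5_78 : edgesRangeS iota B E 5 11431 976703 = true := by decide +kernel

set_option maxRecDepth 1000000 in
theorem edges_7_59 : edgesRangeS iota B E 7 11491 767984 = true := by decide +kernel

end

end Cfsg.Agent.Helper5.HNM
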