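import Cfsg.Agent.Helper5.HNMDatD

/-! kernel checks of edges and trees: HNM -/

set_option autoImplicit false
set_option Elab.async false

namespace Cfsg.Agent.Helper5.HNM
open Cfsg.Agent.Helper5.TC Cfsg.Agent.Helper5.TCI Cfsg.Agent.Helper5.TCS
noncomputable section

set_option maxRecDepth 1000000 in
theorem tree_3 : treeRange E 50000 150001 = true := by decide +kernel

set_option maxRecDepth 1000000 in
theorem tree_23 : treeRange E 50000 1150001 = true := by decide +kernel

set_option maxRecDepth 1000000 in
theorem edges_2_7 : edgesRangeS iota B E 2 13335 194256 = true := by decide +kernel

set_option maxRecDepth 1000000 in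
theorem edges_7_37 : edgesRangeS iota B E 7 11530 501435 = true := by decide +kernel

set_option maxRecDepth 1000000 in
theorem edges_5_58 : edgesRangeS iota B E 5 11014 753836 = true := by decide +kernel

set_option maxRecDepth 1000000 in
theorem edges_7_55 : edgesRangeS iota B E 7 11367 721863 = true := by decide +kernel

set_option maxRecDepth 1000000 in
theorem edges_0_32 : edgesRangeS iota B E 0 34117 870221 = true := by decide +kernel

set_option maxRecDepth 1000000 in
theorem edges_3_31 : edgesRangeS iota B E 3 39333 1020620 = true := by decide +kernel

set_option maxRecDepth 1000000 in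
theorem edges_6_42 : edgesRangeS iota B E 6 16216 746355 = true := by decide +kernel

set_option maxRecDepth 1000000 in
theorem edges_8_30 : edgesRangeS iota B E 8 18422 598735 = true := by decide +kernel

set_option maxRecDepth 1000000 in
theorem edges_0_52 : edgesRangeS iota B E 0 13565 1364272 = true := by decide +kernel

set_option maxRecDepth 1000000 in
theorem edges_2_24 : edgesRangeS iota B E 2 41481 753151 = true := by decide +kernel

set_option maxRecDepth 1000000 in
theorem edges_3_39 : edgesRangeS iota B E 3 13329 1277178 = true := by decide +kernel

set_option maxRecDepth 1000000 in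
theorem edges_5_89 : edgesRangeS iota B E 5 11032 1100275 = true := by decide +kernel

set_option maxRecDepth 1000000 in
theorem edges_7_64 : edgesRangeS iota B E 7 11267 825035 = true := by decide +kernel

end

end Cfsg.Agent.Helper5.HNM
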