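import Cfsg.Agent.Helper5.HNMDatD

/-! kernel checks of edges and trees: HNM -/

set_option autoImplicit false
set_option Elab.async false

namespace Cfsg.Agent.Helper5.HNM
open Cfsg.Agent.Helper5.TC Cfsg.Agent.Helper5.TCI Cfsg.Agent.Helper5.TCS
noncomputable section

set_option maxRecDepth 1000000 in
theorem tree_4 : treeRange E 50000 200001 = true := by decide +kernel

set_option maxRecDepth 1000000 in
theorem tree_24 : treeRange E 50000 1200001 = true := by decide +kernel

set_option maxRecDepth 1000000 in
theorem edges_2_38 : edgesRangeS iota B E 2 13339 1263830 = true := by decide +kernel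

set_option maxRecDepth 1000000 in
theorem edges_7_42 : edgesRangeS iota B E 7 10411 579524 = true := by decide +kernel

set_option maxRecDepth 1000000 in
theorem edges_5_75 : edgesRangeS iota B E 5 11455 942464 = true := by decide +kernel

set_option maxRecDepth 1000000 in
theorem edges_7_63 : edgesRangeS iota B E 7 11412 813623 = true := by decide +kernel

set_option maxRecDepth 1000000 in
theorem edges_0_34 : edgesRangeS iota B E 0 32262 937799 = true := by decide +kernel

set_option maxRecDepth 1000000 in
theorem edges_3_32 : edgesRangeS iota B E 3 38405 1059953 = true := by decide +kernel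

set_option maxRecDepth 1000000 in
theorem edges_6_49 : edgesRangeS iota B E 6 15941 859068 = true := by decide +kernel

set_option maxRecDepth 1000000 in
theorem edges_8_31 : edgesRangeS iota B E 8 18147 617157 = true := by decide +kernel

set_option maxRecDepth 1000000 in
theorem edges_0_53 : edgesRangeS iota B E 0 13568 1377837 = true := by decide +kernel

set_option maxRecDepth 1000000 in
theorem edges_2_25 : edgesRangeS iota B E 2 41010 794632 = true := by decide +kernel

set_option maxRecDepth 1000000 in
theorem edges_3_40 : edgesRangeS iota B E 3 13331 1290507 = true := by decide +kernel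

set_option maxRecDepth 1000000 in
theorem edges_5_94 : edgesRangeS iota B E 5 10974 1155483 = true := by decide +kernel

set_option maxRecDepth 1000000 in
theorem edges_7_67 : edgesRangeS iota B E 7 11222 858916 = true := by decide +kernel

end

end Cfsg.Agent.Helper5.HNM
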