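import Cfsg.Agent.Helper5.HNMDatD

/-! kernel checks of edges and trees: HNM -/

set_option autoImplicit false
set_option Elab.async false

namespace Cfsg.Agent.Helper5.HNM
open Cfsg.Agent.Helper5.TC Cfsg.Agent.Helper5.TCI Cfsg.Agent.Helper5.TCS
noncomputable section

set_option maxRecDepth 1000000 in
theorem tree_6 : treeRange E 50000 300001 = true := by decide +kernel

set_option maxRecDepth 1000000 in
theorem tree_26 : treeRange E 50000 1300001 = true := by decide +kernel

set_option maxRecDepth 1000000 in
theorem edges_2_48 : edgesRangeS iota B E 2 13338 1397160 = true := by decide +kernel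

set_option maxRecDepth 1000000 in
theorem edges_7_46 : edgesRangeS iota B E 7 10580 621323 = true := by decide +kernel

set_option maxRecDepth 1000000 in
theorem edges_5_80 : edgesRangeS iota B E 5 11334 999519 = true := by decide +kernel

set_option maxRecDepth 1000000 in
theorem edges_7_71 : edgesRangeS iota B E 7 11239 904040 = true := by decide +kernel

set_option maxRecDepth 1000000 in
theorem edges_0_39 : edgesRangeS iota B E 0 31807 1098205 = true := by decide +kernel

set_option maxRecDepth 1000000 in
theorem edges_4_2 : edgesRangeS iota B E 4 40352 80846 = true := by decide +kernel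

set_option maxRecDepth 1000000 in
theorem edges_6_51 : edgesRangeS iota B E 6 15926 890855 = true := by decide +kernel

set_option maxRecDepth 1000000 in
theorem edges_8_37 : edgesRangeS iota B E 8 17286 720999 = true := by decide +kernel

set_option maxRecDepth 1000000 in
theorem edges_0_62 : edgesRangeS iota B E 0 19652 1499618 = true := by decide +kernel

set_option maxRecDepth 1000000 in
theorem edges_2_30 : edgesRangeS iota B E 2 37148 992543 = true := by decide +kernel

set_option maxRecDepth 1000000 in
theorem edges_3_45 : edgesRangeS iota B E 3 13342 1357181 = true := by decide +kernel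

set_option maxRecDepth 1000000 in
theorem edges_5_99 : edgesRangeS iota B E 5 10613 1209806 = true := by decide +kernel

set_option maxRecDepth 1000000 in
theorem edges_7_77 : edgesRangeS iota B E 7 11619 972637 = true := by decide +kernel

end

end Cfsg.Agent.Helper5.HNM
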