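import Cfsg.Agent.Helper5.HNMDatD

/-! kernel checks of edges and trees: HNM -/

set_option autoImplicit false
set_option Elab.async false

namespace Cfsg.Agent.Helper5.HNM
open Cfsg.Agent.Helper5.TC Cfsg.Agent.Helper5.TCI Cfsg.Agent.Helper5.TCS
noncomputable section

set_option maxRecDepth 1000000 in
theorem tree_7 : treeRange E 50000 350001 = true := by decide +kernel

set_option maxRecDepth 1000000 in
theorem tree_27 : treeRange E 50000 1350001 = true := by decide +kernel

set_option maxRecDepth 1000000 in
theorem edges_3_5 : edgesRangeS iota B E 3 13335 167593 = true := by decide +kernel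

set_option maxRecDepth 1000000 in
theorem edges_7_62 : edgesRangeS iota B E 7 11389 802234 = true := by decide +kernel

set_option maxRecDepth 1000000 in
theorem edges_5_83 : edgesRangeS iota B E 5 11266 1033372 = true := by decide +kernel

set_option maxRecDepth 1000000 in
theorem edges_7_74 : edgesRangeS iota B E 7 11566 937925 = true := by decide +kernel

set_option maxRecDepth 1000000 in
theorem edges_0_41 : edgesRangeS iota B E 0 31570 1161739 = true := by decide +kernel

set_option maxRecDepth 1000000 in
theorem edges_4_3 : edgesRangeS iota B E 4 37039 121198 = true := by decide +kernel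

set_option maxRecDepth 1000000 in
theorem edges_6_52 : edgesRangeS iota B E 6 15949 906781 = true := by decide +kernel

set_option maxRecDepth 1000000 in
theorem edges_8_38 : edgesRangeS iota B E 8 17145 738285 = true := by decide +kernel

set_option maxRecDepth 1000000 in
theorem edges_1_0 : edgesRangeS iota B E 1 30796 0 = true := by decide +kernel

set_option maxRecDepth 1000000 in
theorem edges_2_31 : edgesRangeS iota B E 2 36190 1029691 = true := by decide +kernel

set_option maxRecDepth 1000000 in
theorem edges_3_49 : edgesRangeS iota B E 3 13334 1410526 = true := by decide +kernel

set_option maxRecDepth 1000000 in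
theorem edges_5_115 : edgesRangeS iota B E 5 13346 1411302 = true := by decide +kernel

set_option maxRecDepth 1000000 in
theorem edges_7_88 : edgesRangeS iota B E 7 11242 1097958 = true := by decide +kernel

end

end Cfsg.Agent.Helper5.HNM
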