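import Cfsg.Agent.Helper5.HNMDatD

/-! kernel checks of edges and trees: HNM -/

set_option autoImplicit false
set_option Elab.async false

namespace Cfsg.Agent.Helper5.HNM
open Cfsg.Agent.Helper5.TC Cfsg.Agent.Helper5.TCI Cfsg.Agent.Helper5.TCS
noncomputable section

set_option maxRecDepth 1000000 in
theorem tree_8 : treeRange E 50000 400001 = true := by decide +kernel

set_option maxRecDepth 1000000 in
theorem tree_28 : treeRange E 50000 1400001 = true := by decide +kernel

set_option maxRecDepth 1000000 in
theorem edges_3_19 : edgesRangeS iota B E 3 13333 557560 = true := by decide +kernel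

set_option maxRecDepth 1000000 in
theorem edges_7_65 : edgesRangeS iota B E 7 11319 836302 = true := by decide +kernel

set_option maxRecDepth 1000000 in
theorem edges_5_84 : edgesRangeS iota B E 5 11227 1044638 = true := by decide +kernel

set_option maxRecDepth 1000000 in
theorem edges_7_76 : edgesRangeS iota B E 7 11418 961219 = true := by decide +kernel

set_option maxRecDepth 1000000 in
theorem edges_1_1 : edgesRangeS iota B E 1 17726 30796 = true := by decide +kernel

set_option maxRecDepth 1000000 in
theorem edges_4_7 : edgesRangeS iota B E 4 39045 268931 = true := by decide +kernel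

set_option maxRecDepth 1000000 in
theorem edges_6_59 : edgesRangeS iota B E 6 15540 1016546 = true := by decide +kernel

set_option maxRecDepth 1000000 in
theorem edges_8_40 : edgesRangeS iota B E 8 16917 772473 = true := by decide +kernel

set_option maxRecDepth 1000000 in
theorem edges_1_4 : edgesRangeS iota B E 1 31971 116228 = true := by decide +kernel

set_option maxRecDepth 1000000 in
theorem edges_2_33 : edgesRangeS iota B E 2 34790 1101054 = true := by decide +kernel

set_option maxRecDepth 1000000 in
theorem edges_3_50 : edgesRangeS iota B E 3 13332 1423860 = true := by decide +kernel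

set_option maxRecDepth 1000000 in
theorem edges_5_120 : edgesRangeS iota B E 5 13304 1478020 = true := by decide +kernel

set_option maxRecDepth 1000000 in
theorem edges_7_101 : edgesRangeS iota B E 7 11029 1244729 = true := by decide +kernel

end

end Cfsg.Agent.Helper5.HNM
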