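import Cfsg.Agent.Helper5.HNMDatD

/-! kernel checks of edges and trees: HNM -/

set_option autoImplicit false
set_option Elab.async false

namespace Cfsg.Agent.Helper5.HNM
open Cfsg.Agent.Helper5.TC Cfsg.Agent.Helper5.TCI Cfsg.Agent.Helper5.TCS
noncomputable section

set_option maxRecDepth 1000000 in
theorem tree_9 : treeRange E 50000 450001 = true := by decide +kernel

set_option maxRecDepth 1000000 in
theorem tree_29 : treeRange E 50000 1450001 = true := by decide +kernel

set_option maxRecDepth 1000000 in
theorem edges_3_41 : edgesRangeS iota B E 3 13347 1303838 = true := by decide +kernel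

set_option maxRecDepth 1000000 in
theorem edges_7_68 : edgesRangeS iota B E 7 11291 870138 = true := by decide +kernel

set_option maxRecDepth 1000000 in
theorem edges_5_92 : edgesRangeS iota B E 5 11023 1133466 = true := by decide +kernel

set_option maxRecDepth 1000000 in
theorem edges_7_85 : edgesRangeS iota B E 7 11328 1064204 = true := by decide +kernel

set_option maxRecDepth 1000000 in
theorem edges_1_2 : edgesRangeS iota B E 1 34149 48522 = true := by decide +kernel

set_option maxRecDepth 1000000 in
theorem edges_4_17 : edgesRangeS iota B E 4 45853 641887 = true := by decide +kernel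

set_option maxRecDepth 1000000 in
theorem edges_6_60 : edgesRangeS iota B E 6 15432 1032086 = true := by decide +kernel

set_option maxRecDepth 1000000 in
theorem edges_8_42 : edgesRangeS iota B E 8 16808 806318 = true := by decide +kernel

set_option maxRecDepth 1000000 in
theorem edges_1_5 : edgesRangeS iota B E 1 21136 148199 = true := by decide +kernel

set_option maxRecDepth 1000000 in
theorem edges_2_35 : edgesRangeS iota B E 2 35064 1171808 = true := by decide +kernel

set_option maxRecDepth 1000000 in
theorem edges_3_51 : edgesRangeS iota B E 3 13325 1437192 = true := by decide +kernel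

set_option maxRecDepth 1000000 in
theorem edges_5_121 : edgesRangeS iota B E 5 13330 1491324 = true := by decide +kernel

set_option maxRecDepth 1000000 in
theorem edges_7_102 : edgesRangeS iota B E 7 17001 1255758 = true := by decide +kernel

end

end Cfsg.Agent.Helper5.HNM
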