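import Cfsg.Agent.Helper5.HNMDatD

/-! kernel checks of edges and trees: HNM -/

set_option autoImplicit false
set_option Elab.async false

namespace Cfsg.Agent.Helper5.HNM
open Cfsg.Agent.Helper5.TC Cfsg.Agent.Helper5.TCI Cfsg.Agent.Helper5.TCS
noncomputable section

set_option maxRecDepth 1000000 in
theorem tree_10 : treeRange E 50000 500001 = true := by decide +kernel

set_option maxRecDepth 1000000 in
theorem sec_6_14 : secRange E 5 1490744 516825 secF 39199 1216826 = true := by decide +kernel

set_option maxRecDepth 1000000 in
theorem edges_1_18 : edgesRangeS iota B E 1 25626 495199 = true := by decide +kernel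

set_option maxRecDepth 1000000 in
theorem edges_6_68 : edgesRangeS iota B E 6 15698 1156011 = true := by decide +kernel

set_option maxRecDepth 1000000 in
theorem edges_5_37 : edgesRangeS iota B E 5 10814 502560 = true := by decide +kernel

set_option maxRecDepth 1000000 in
theorem edges_7_34 : edgesRangeS iota B E 7 11698 466517 = true := by decide +kernel

set_option maxRecDepth 1000000 in
theorem edges_0_18 : edgesRangeS iota B E 0 25777 495243 = true := by decide +kernel

set_option maxRecDepth 1000000 in
theorem edges_3_4 : edgesRangeS iota B E 3 26058 141535 = true := by decide +kernel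

set_option maxRecDepth 1000000 in
theorem edges_5_124 : edgesRangeS iota B E 5 8882 1521861 = true := by decide +kernel

set_option maxRecDepth 1000000 in
theorem edges_8_13 : edgesRangeS iota B E 8 19129 284059 = true := by decide +kernel

set_option maxRecDepth 1000000 in
theorem edges_0_43 : edgesRangeS iota B E 0 31436 1224705 = true := by decide +kernel

set_option maxRecDepth 1000000 in
theorem edges_2_18 : edgesRangeS iota B E 2 13333 544214 = true := by decide +kernel

set_option maxRecDepth 1000000 in
theorem edges_3_29 : edgesRangeS iota B E 3 40668 940040 = true := by decide +kernel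

set_option maxRecDepth 1000000 in
theorem edges_5_68 : edgesRangeS iota B E 5 11078 864177 = true := by decide +kernel

set_option maxRecDepth 1000000 in
theorem edges_7_41 : edgesRangeS iota B E 7 17146 562378 = true := by decide +kernel

end

end Cfsg.Agent.Helper5.HNM
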