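import Cfsg.Agent.Helper5.HNMDatD

/-! kernel checks of edges and trees: HNM -/

set_option autoImplicit false
set_option Elab.async false

namespace Cfsg.Agent.Helper5.HNM
open Cfsg.Agent.Helper5.TC Cfsg.Agent.Helper5.TCI Cfsg.Agent.Helper5.TCS
noncomputable section

set_option maxRecDepth 1000000 in
theorem tree_11 : treeRange E 50000 550001 = true := by decide +kernel

set_option maxRecDepth 1000000 in
theorem sec_2_0 : secRange E 5 36780 1409 secF 35199 1410 = true := by decide +kernel

set_option maxRecDepth 1000000 in
theorem edges_8_16 : edgesRangeS iota B E 8 19154 340935 = true := by decide +kernel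

set_option maxRecDepth 1000000 in
theorem edges_5_118 : edgesRangeS iota B E 5 13359 1451301 = true := by decide +kernel

set_option maxRecDepth 1000000 in
theorem edges_4_51 : edgesRangeS iota B E 4 10285 1442692 = true := by decide +kernel

set_option maxRecDepth 1000000 in
theorem edges_6_87 : edgesRangeS iota B E 6 18490 1487136 = true := by decide +kernel

set_option maxRecDepth 1000000 in
theorem edges_0_1 : edgesRangeS iota B E 0 17716 30826 = true := by decide +kernel

set_option maxRecDepth 1000000 in
theorem edges_2_28 : edgesRangeS iota B E 2 39249 915453 = true := by decide +kernel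

set_option maxRecDepth 1000000 in
theorem edges_5_90 : edgesRangeS iota B E 5 11069 1111307 = true := by decide +kernel

set_option maxRecDepth 1000000 in
theorem edges_7_112 : edgesRangeS iota B E 7 17179 1427044 = true := by decide +kernel

set_option maxRecDepth 1000000 in
theorem edges_0_30 : edgesRangeS iota B E 0 34419 801483 = true := by decide +kernel

set_option maxRecDepth 1000000 in
theorem edges_2_9 : edgesRangeS iota B E 2 51985 239977 = true := by decide +kernel

set_option maxRecDepth 1000000 in
theorem edges_3_21 : edgesRangeS iota B E 3 55332 597723 = true := by decide +kernel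

set_option maxRecDepth 1000000 in
theorem edges_5_13 : edgesRangeS iota B E 5 10560 219881 = true := by decide +kernel

set_option maxRecDepth 1000000 in
theorem edges_7_3 : edgesRangeS iota B E 7 14011 66533 = true := by decide +kernel

set_option maxRecDepth 1000000 in
theorem edges_2_57 : edgesRangeS iota B E 2 8567 1530433 = true := by decide +kernel

end

end Cfsg.Agent.Helper5.HNM
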