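import Cfsg.Agent.Helper5.HNMDatD

/-! kernel checks of edges and trees: HNM -/

set_option autoImplicit false
set_option Elab.async false

namespace Cfsg.Agent.Helper5.HNM
open Cfsg.Agent.Helper5.TC Cfsg.Agent.Helper5.TCI Cfsg.Agent.Helper5.TCS
noncomputable section

set_option maxRecDepth 1000000 in
theorem sec_5_2 : secRange E 5 986742 162009 secF 50000 262010 = true := by decide +kernel

set_option maxRecDepth 1000000 in
theorem edges_5_14 : edgesRangeS iota B E 5 10235 230441 = true := by decide +kernel

set_option maxRecDepth 1000000 in
theorem edges_7_52 : edgesRangeS iota B E 7 11100 688533 = true := by decide +kernel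

set_option maxRecDepth 1000000 in
theorem edges_7_53 : edgesRangeS iota B E 7 11101 699633 = true := by decide +kernel

set_option maxRecDepth 1000000 in
theorem edges_5_65 : edgesRangeS iota B E 5 10985 831082 = true := by decide +kernel

set_option maxRecDepth 1000000 in
theorem edges_2_15 : edgesRangeS iota B E 2 33681 483870 = true := by decide +kernel

set_option maxRecDepth 1000000 in
theorem edges_6_21 : edgesRangeS iota B E 6 16423 400024 = true := by decide +kernel

set_option maxRecDepth 1000000 in
theorem edges_8_19 : edgesRangeS iota B E 8 18219 397317 = true := by decide +kernel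

set_option maxRecDepth 1000000 in
theorem edges_1_36 : edgesRangeS iota B E 1 32072 1000191 = true := by decide +kernel

set_option maxRecDepth 1000000 in
theorem edges_5_18 : edgesRangeS iota B E 5 13115 276053 = true := by decide +kernel

set_option maxRecDepth 1000000 in
theorem edges_7_22 : edgesRangeS iota B E 7 12369 321165 = true := by decide +kernel

set_option maxRecDepth 1000000 in
theorem edges_8_73 : edgesRangeS iota B E 8 15873 1307879 = true := by decide +kernel

set_option maxRecDepth 1000000 in
theorem edges_2_5 : edgesRangeS iota B E 2 13332 167592 = true := by decide +kernel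

set_option maxRecDepth 1000000 in
theorem edges_3_16 : edgesRangeS iota B E 3 13335 517555 = true := by decide +kernel

set_option maxRecDepth 1000000 in
theorem edges_4_52 : edgesRangeS iota B E 4 10292 1452977 = true := by decide +kernel

set_option maxRecDepth 1000000 in
theorem edges_7_0 : edgesRangeS iota B E 7 36388 0 = true := by decide +kernel

set_option maxRecDepth 1000000 in
theorem edges_1_65 : edgesRangeS iota B E 1 17123 1521877 = true := by decide +kernel

end

end Cfsg.Agent.Helper5.HNM
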