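import Cfsg.Agent.Helper5.HNMDatD

/-! kernel checks of edges and trees: HNM -/

set_option autoImplicit false
set_option Elab.async false

namespace Cfsg.Agent.Helper5.HNM
open Cfsg.Agent.Helper5.TC Cfsg.Agent.Helper5.TCI Cfsg.Agent.Helper5.TCS
noncomputable section

set_option maxRecDepth 1000000 in
theorem tree_12 : treeRange E 50000 600001 = true := by decide +kernel

set_option maxRecDepth 1000000 in
theorem tree_30 : treeRange E 38999 1500001 = true := by decide +kernel

set_option maxRecDepth 1000000 in
theorem edges_5_46 : edgesRangeS iota B E 5 8975 616329 = true := by decide +kernel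

set_option maxRecDepth 1000000 in
theorem edges_3_43 : edgesRangeS iota B E 3 13330 1330516 = true := by decide +kernel

set_option maxRecDepth 1000000 in
theorem edges_7_70 : edgesRangeS iota B E 7 11292 892748 = true := by decide +kernel

set_option maxRecDepth 1000000 in
theorem edges_5_93 : edgesRangeS iota B E 5 10994 1144489 = true := by decide +kernel

set_option maxRecDepth 1000000 in
theorem edges_7_89 : edgesRangeS iota B E 7 11204 1109200 = true := by decide +kernel

set_option maxRecDepth 1000000 in
theorem edges_1_3 : edgesRangeS iota B E 1 33557 82671 = true := by decide +kernel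

set_option maxRecDepth 1000000 in
theorem edges_4_18 : edgesRangeS iota B E 4 41956 687740 = true := by decide +kernel

set_option maxRecDepth 1000000 in
theorem edges_6_61 : edgesRangeS iota B E 6 15408 1047518 = true := by decide +kernel

set_option maxRecDepth 1000000 in
theorem edges_8_44 : edgesRangeS iota B E 8 16828 839981 = true := by decide +kernel

set_option maxRecDepth 1000000 in
theorem edges_1_9 : edgesRangeS iota B E 1 21934 208246 = true := by decide +kernel

set_option maxRecDepth 1000000 in
theorem edges_2_36 : edgesRangeS iota B E 2 35084 1206872 = true := by decide +kernel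

set_option maxRecDepth 1000000 in
theorem edges_3_52 : edgesRangeS iota B E 3 13330 1450517 = true := by decide +kernel

set_option maxRecDepth 1000000 in
theorem edges_6_0 : edgesRangeS iota B E 6 39867 0 = true := by decide +kernel

set_option maxRecDepth 1000000 in
theorem edges_7_103 : edgesRangeS iota B E 7 17136 1272759 = true := by decide +kernel

end

end Cfsg.Agent.Helper5.HNM
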