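import Cfsg.Agent.Helper5.HNMDatD

/-! kernel checks of edges and trees: HNM -/

set_option autoImplicit false
set_option Elab.async false

namespace Cfsg.Agent.Helper5.HNM
open Cfsg.Agent.Helper5.TC Cfsg.Agent.Helper5.TCI Cfsg.Agent.Helper5.TCS
noncomputable section

set_option maxRecDepth 1000000 in
theorem tree_13 : treeRange E 50000 650001 = true := by decide +kernel

set_option maxRecDepth 1000000 in
theorem sec_7_5 : secRange E 5 7087246 1256025 secF 27199 1506026 = true := by decide +kernel

set_option maxRecDepth 1000000 in
theorem edges_4_42 : edgesRangeS iota B E 4 10072 1351475 = true := by decide +kernel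

set_option maxRecDepth 1000000 in
theorem edges_1_52 : edgesRangeS iota B E 1 12345 1353799 = true := by decide +kernel

set_option maxRecDepth 1000000 in
theorem edges_7_9 : edgesRangeS iota B E 7 14690 151403 = true := by decide +kernel

set_option maxRecDepth 1000000 in
theorem edges_5_45 : edgesRangeS iota B E 5 9030 607299 = true := by decide +kernel

set_option maxRecDepth 1000000 in
theorem edges_7_40 : edgesRangeS iota B E 7 17120 545258 = true := by decide +kernel

set_option maxRecDepth 1000000 in
theorem edges_0_20 : edgesRangeS iota B E 0 13076 534118 = true := by decide +kernel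

set_option maxRecDepth 1000000 in
theorem edges_3_12 : edgesRangeS iota B E 3 35559 372719 = true := by decide +kernel

set_option maxRecDepth 1000000 in
theorem edges_6_3 : edgesRangeS iota B E 6 19756 78126 = true := by decide +kernel

set_option maxRecDepth 1000000 in
theorem edges_8_20 : edgesRangeS iota B E 8 17898 415536 = true := by decide +kernel

set_option maxRecDepth 1000000 in
theorem edges_0_45 : edgesRangeS iota B E 0 13522 1269638 = true := by decide +kernel

set_option maxRecDepth 1000000 in
theorem edges_2_19 : edgesRangeS iota B E 2 13334 557547 = true := by decide +kernel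

set_option maxRecDepth 1000000 in
theorem edges_3_34 : edgesRangeS iota B E 3 35653 1135885 = true := by decide +kernel

set_option maxRecDepth 1000000 in
theorem edges_5_70 : edgesRangeS iota B E 5 11145 886398 = true := by decide +kernel

set_option maxRecDepth 1000000 in
theorem edges_7_48 : edgesRangeS iota B E 7 11443 643521 = true := by decide +kernel

end

end Cfsg.Agent.Helper5.HNM
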