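import Cfsg.Agent.Helper5.HNMDatD

/-! kernel checks of edges and trees: HNM -/

set_option autoImplicit false
set_option Elab.async false

namespace Cfsg.Agent.Helper5.HNM
open Cfsg.Agent.Helper5.TC Cfsg.Agent.Helper5.TCI Cfsg.Agent.Helper5.TCS
noncomputable section

set_option maxRecDepth 1000000 in
theorem tree_14 : treeRange E 50000 700001 = true := by decide +kernel

set_option maxRecDepth 1000000 in
theorem sec_4_2 : secRange E 5 936340 38809 secF 23199 138810 = true := by decide +kernel

set_option maxRecDepth 1000000 in
theorem edges_8_71 : edgesRangeS iota B E 8 15956 1275908 = true := by decide +kernel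

set_option maxRecDepth 1000000 in
theorem edges_8_57 : edgesRangeS iota B E 8 16271 1054048 = true := by decide +kernel

set_option maxRecDepth 1000000 in
theorem edges_5_123 : edgesRangeS iota B E 5 7912 1513949 = true := by decide +kernel

set_option maxRecDepth 1000000 in
theorem edges_4_56 : edgesRangeS iota B E 4 10271 1494019 = true := by decide +kernel

set_option maxRecDepth 1000000 in
theorem edges_7_7 : edgesRangeS iota B E 7 14517 123015 = true := by decide +kernel

set_option maxRecDepth 1000000 in
theorem edges_0_6 : edgesRangeS iota B E 0 12975 169363 = true := by decide +kernel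

set_option maxRecDepth 1000000 in
theorem edges_2_32 : edgesRangeS iota B E 2 35173 1065881 = true := by decide +kernel

set_option maxRecDepth 1000000 in
theorem edges_5_91 : edgesRangeS iota B E 5 11090 1122376 = true := by decide +kernel

set_option maxRecDepth 1000000 in
theorem edges_7_115 : edgesRangeS iota B E 7 17161 1478447 = true := by decide +kernel

set_option maxRecDepth 1000000 in
theorem edges_0_33 : edgesRangeS iota B E 0 33461 904338 = true := by decide +kernel

set_option maxRecDepth 1000000 in
theorem edges_2_10 : edgesRangeS iota B E 2 45402 291962 = true := by decide +kernel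

set_option maxRecDepth 1000000 in
theorem edges_3_22 : edgesRangeS iota B E 3 54754 653055 = true := by decide +kernel

set_option maxRecDepth 1000000 in
theorem edges_5_22 : edgesRangeS iota B E 5 12651 325628 = true := by decide +kernel

set_option maxRecDepth 1000000 in
theorem edges_7_6 : edgesRangeS iota B E 7 13971 109044 = true := by decide +kernel

set_option maxRecDepth 1000000 in
theorem sec_8_0 : secRange E 5 7188048 1533225 secF 5774 1533226 = true := by decide +kernel

end

end Cfsg.Agent.Helper5.HNM
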