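import Cfsg.Agent.Helper5.HNMDatD

/-! kernel checks of edges and trees: HNM -/

set_option autoImplicit false
set_option Elab.async false

namespace Cfsg.Agent.Helper5.HNM
open Cfsg.Agent.Helper5.TC Cfsg.Agent.Helper5.TCI Cfsg.Agent.Helper5.TCS
noncomputable section

set_option maxRecDepth 1000000 in
theorem tree_15 : treeRange E 50000 750001 = true := by decide +kernel

set_option maxRecDepth 1000000 in
theorem edges_4_14 : edgesRangeS iota B E 4 28347 524231 = true := by decide +kernel

set_option maxRecDepth 1000000 in
theorem edges_3_15 : edgesRangeS iota B E 3 34738 482817 = true := by decide +kernel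

set_option maxRecDepth 1000000 in
theorem edges_4_0 : edgesRangeS iota B E 4 39585 0 = true := by decide +kernel

set_option maxRecDepth 1000000 in
theorem edges_0_55 : edgesRangeS iota B E 0 13503 1404898 = true := by decide +kernel

set_option maxRecDepth 1000000 in
theorem edges_6_58 : edgesRangeS iota B E 6 15545 1001001 = true := by decide +kernel

set_option maxRecDepth 1000000 in
theorem edges_5_32 : edgesRangeS iota B E 5 11902 445385 = true := by decide +kernel

set_option maxRecDepth 1000000 in
theorem edges_7_27 : edgesRangeS iota B E 7 11960 382773 = true := by decide +kernel

set_option maxRecDepth 1000000 in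
theorem edges_0_16 : edgesRangeS iota B E 0 32231 430990 = true := by decide +kernel

set_option maxRecDepth 1000000 in
theorem edges_3_3 : edgesRangeS iota B E 3 39324 102211 = true := by decide +kernel

set_option maxRecDepth 1000000 in
theorem edges_5_114 : edgesRangeS iota B E 5 13357 1397945 = true := by decide +kernel

set_option maxRecDepth 1000000 in
theorem edges_8_10 : edgesRangeS iota B E 8 20651 224792 = true := by decide +kernel

set_option maxRecDepth 1000000 in
theorem edges_0_42 : edgesRangeS iota B E 0 31396 1193309 = true := by decide +kernel

set_option maxRecDepth 1000000 in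
theorem edges_2_17 : edgesRangeS iota B E 2 13332 530882 = true := by decide +kernel

set_option maxRecDepth 1000000 in
theorem edges_3_28 : edgesRangeS iota B E 3 38152 901888 = true := by decide +kernel

set_option maxRecDepth 1000000 in
theorem edges_5_60 : edgesRangeS iota B E 5 11032 775876 = true := by decide +kernel

set_option maxRecDepth 1000000 in
theorem edges_7_38 : edgesRangeS iota B E 7 15112 512965 = true := by decide +kernel

set_option maxRecDepth 1000000 in
theorem sec_3_0 : secRange E 5 45182 36609 secF 2199 36610 = true := by decide +kernel

set_option maxRecDepth 1000000 in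
theorem sec_1_0 : secRange E 5 38 1 secF 1407 2 = true := by decide +kernel

end

end Cfsg.Agent.Helper5.HNM
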