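import Cfsg.Agent.Helper5.HNMDatD

/-! kernel checks of edges and trees: HNM -/

set_option autoImplicit false
set_option Elab.async false

namespace Cfsg.Agent.Helper5.HNM
open Cfsg.Agent.Helper5.TC Cfsg.Agent.Helper5.TCI Cfsg.Agent.Helper5.TCS
noncomputable section

set_option maxRecDepth 1000000 in
theorem tree_16 : treeRange E 50000 800001 = true := by decide +kernel

set_option maxRecDepth 1000000 in
theorem edges_4_36 : edgesRangeS iota B E 4 10013 1291084 = true := by decide +kernel

set_option maxRecDepth 1000000 in
theorem edges_1_19 : edgesRangeS iota B E 1 12802 520825 = true := by decide +kernel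

set_option maxRecDepth 1000000 in
theorem edges_1_63 : edgesRangeS iota B E 1 12303 1489050 = true := by decide +kernel

set_option maxRecDepth 1000000 in
theorem edges_8_72 : edgesRangeS iota B E 8 16015 1291864 = true := by decide +kernel

set_option maxRecDepth 1000000 in
theorem edges_6_40 : edgesRangeS iota B E 6 15494 714532 = true := by decide +kernel

set_option maxRecDepth 1000000 in
theorem edges_5_24 : edgesRangeS iota B E 5 12341 350813 = true := by decide +kernel

set_option maxRecDepth 1000000 in
theorem edges_7_19 : edgesRangeS iota B E 7 12272 285320 = true := by decide +kernel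

set_option maxRecDepth 1000000 in
theorem edges_0_14 : edgesRangeS iota B E 0 33827 363812 = true := by decide +kernel

set_option maxRecDepth 1000000 in
theorem edges_2_56 : edgesRangeS iota B E 2 26598 1503835 = true := by decide +kernel

set_option maxRecDepth 1000000 in
theorem edges_5_104 : edgesRangeS iota B E 5 13343 1264635 = true := by decide +kernel

set_option maxRecDepth 1000000 in
theorem edges_8_5 : edgesRangeS iota B E 8 20211 123904 = true := by decide +kernel

set_option maxRecDepth 1000000 in
theorem edges_0_38 : edgesRangeS iota B E 0 31885 1066320 = true := by decide +kernel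

set_option maxRecDepth 1000000 in
theorem edges_2_14 : edgesRangeS iota B E 2 34907 448963 = true := by decide +kernel

set_option maxRecDepth 1000000 in
theorem edges_3_26 : edgesRangeS iota B E 3 37269 827905 = true := by decide +kernel

set_option maxRecDepth 1000000 in
theorem edges_5_27 : edgesRangeS iota B E 5 11681 387102 = true := by decide +kernel

set_option maxRecDepth 1000000 in
theorem edges_7_24 : edgesRangeS iota B E 7 12377 346088 = true := by decide +kernel

set_option maxRecDepth 1000000 in
theorem sec_5_7 : secRange E 5 986742 162009 secF 4815 512010 = true := by decide +kernel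

end

end Cfsg.Agent.Helper5.HNM
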