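import Cfsg.Agent.Helper5.HNMDatD

/-! kernel checks of edges and trees: HNM -/

set_option autoImplicit false
set_option Elab.async false

namespace Cfsg.Agent.Helper5.HNM
open Cfsg.Agent.Helper5.TC Cfsg.Agent.Helper5.TCI Cfsg.Agent.Helper5.TCS
noncomputable section

set_option maxRecDepth 1000000 in
theorem tree_17 : treeRange E 50000 850001 = true := by decide +kernel

set_option maxRecDepth 1000000 in
theorem edges_7_84 : edgesRangeS iota B E 7 11271 1052933 = true := by decide +kernel

set_option maxRecDepth 1000000 in
theorem edges_1_47 : edgesRangeS iota B E 1 12384 1292190 = true := by decide +kernel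

set_option maxRecDepth 1000000 in
theorem edges_3_37 : edgesRangeS iota B E 3 22323 1241525 = true := by decide +kernel

set_option maxRecDepth 1000000 in
theorem edges_8_76 : edgesRangeS iota B E 8 16071 1355853 = true := by decide +kernel

set_option maxRecDepth 1000000 in
theorem edges_6_41 : edgesRangeS iota B E 6 16329 730026 = true := by decide +kernel

set_option maxRecDepth 1000000 in
theorem edges_5_26 : edgesRangeS iota B E 5 11845 375257 = true := by decide +kernel

set_option maxRecDepth 1000000 in
theorem edges_7_21 : edgesRangeS iota B E 7 11605 309560 = true := by decide +kernel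

set_option maxRecDepth 1000000 in
theorem edges_0_15 : edgesRangeS iota B E 0 33351 397639 = true := by decide +kernel

set_option maxRecDepth 1000000 in
theorem edges_3_2 : edgesRangeS iota B E 3 41191 61020 = true := by decide +kernel

set_option maxRecDepth 1000000 in
theorem edges_5_108 : edgesRangeS iota B E 5 13313 1317994 = true := by decide +kernel

set_option maxRecDepth 1000000 in
theorem edges_8_9 : edgesRangeS iota B E 8 20689 204103 = true := by decide +kernel

set_option maxRecDepth 1000000 in
theorem edges_0_40 : edgesRangeS iota B E 0 31727 1130012 = true := by decide +kernel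

set_option maxRecDepth 1000000 in
theorem edges_2_16 : edgesRangeS iota B E 2 13331 517551 = true := by decide +kernel

set_option maxRecDepth 1000000 in
theorem edges_3_27 : edgesRangeS iota B E 3 36714 865174 = true := by decide +kernel

set_option maxRecDepth 1000000 in
theorem edges_5_59 : edgesRangeS iota B E 5 11026 764850 = true := by decide +kernel

set_option maxRecDepth 1000000 in
theorem edges_7_33 : edgesRangeS iota B E 7 11934 454583 = true := by decide +kernel

set_option maxRecDepth 1000000 in
theorem edges_8_87 : edgesRangeS iota B E 8 6107 1532893 = true := by decide +kernel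

end

end Cfsg.Agent.Helper5.HNM
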