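import Cfsg.Agent.Helper5.HNMDatD

/-! kernel checks of edges and trees: HNM -/

set_option autoImplicit false
set_option Elab.async false

namespace Cfsg.Agent.Helper5.HNM
open Cfsg.Agent.Helper5.TC Cfsg.Agent.Helper5.TCI Cfsg.Agent.Helper5.TCS
noncomputable section

set_option maxRecDepth 1000000 in
theorem tree_18 : treeRange E 50000 900001 = true := by decide +kernel

set_option maxRecDepth 1000000 in
theorem edges_7_92 : edgesRangeS iota B E 7 11478 1143184 = true := by decide +kernel

set_option maxRecDepth 1000000 in
theorem edges_0_44 : edgesRangeS iota B E 0 13497 1256141 = true := by decide +kernel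

set_option maxRecDepth 1000000 in
theorem edges_0_19 : edgesRangeS iota B E 0 13098 521020 = true := by decide +kernel

set_option maxRecDepth 1000000 in
theorem edges_8_58 : edgesRangeS iota B E 8 16345 1070319 = true := by decide +kernel

set_option maxRecDepth 1000000 in
theorem edges_6_6 : edgesRangeS iota B E 6 19097 135519 = true := by decide +kernel

set_option maxRecDepth 1000000 in
theorem edges_5_8 : edgesRangeS iota B E 5 14207 141862 = true := by decide +kernel

set_option maxRecDepth 1000000 in
theorem edges_7_8 : edgesRangeS iota B E 7 13871 137532 = true := by decide +kernel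

set_option maxRecDepth 1000000 in
theorem edges_0_8 : edgesRangeS iota B E 0 12974 195304 = true := by decide +kernel

set_option maxRecDepth 1000000 in
theorem edges_2_34 : edgesRangeS iota B E 2 35964 1135844 = true := by decide +kernel

set_option maxRecDepth 1000000 in
theorem edges_5_98 : edgesRangeS iota B E 5 10784 1199022 = true := by decide +kernel

set_option maxRecDepth 1000000 in
theorem edges_8_1 : edgesRangeS iota B E 8 21247 39853 = true := by decide +kernel

set_option maxRecDepth 1000000 in
theorem edges_0_36 : edgesRangeS iota B E 0 32067 1002243 = true := by decide +kernel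

set_option maxRecDepth 1000000 in
theorem edges_2_11 : edgesRangeS iota B E 2 38226 337364 = true := by decide +kernel

set_option maxRecDepth 1000000 in
theorem edges_3_23 : edgesRangeS iota B E 3 43666 707809 = true := by decide +kernel

set_option maxRecDepth 1000000 in
theorem edges_5_23 : edgesRangeS iota B E 5 12534 338279 = true := by decide +kernel

set_option maxRecDepth 1000000 in
theorem edges_7_13 : edgesRangeS iota B E 7 10789 216198 = true := by decide +kernel

set_option maxRecDepth 1000000 in
theorem edges_3_57 : edgesRangeS iota B E 3 8564 1530436 = true := by decide +kernel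

end

end Cfsg.Agent.Helper5.HNM
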