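import Cfsg.Agent.Helper5.HNMDatD

/-! kernel checks of edges and trees: HNM -/

set_option autoImplicit false
set_option Elab.async false

namespace Cfsg.Agent.Helper5.HNM
open Cfsg.Agent.Helper5.TC Cfsg.Agent.Helper5.TCI Cfsg.Agent.Helper5.TCS
noncomputable section

set_option maxRecDepth 1000000 in
theorem tree_19 : treeRange E 50000 950001 = true := by decide +kernel

set_option maxRecDepth 1000000 in
theorem edges_7_117 : edgesRangeS iota B E 7 6457 1509829 = true := by decide +kernel

set_option maxRecDepth 1000000 in
theorem edges_0_61 : edgesRangeS iota B E 0 13538 1486080 = true := by decide +kernel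

set_option maxRecDepth 1000000 in
theorem edges_1_49 : edgesRangeS iota B E 1 12210 1316933 = true := by decide +kernel

set_option maxRecDepth 1000000 in
theorem edges_8_60 : edgesRangeS iota B E 8 16263 1102973 = true := by decide +kernel

set_option maxRecDepth 1000000 in
theorem edges_6_20 : edgesRangeS iota B E 6 16693 383331 = true := by decide +kernel

set_option maxRecDepth 1000000 in
theorem edges_5_20 : edgesRangeS iota B E 5 12141 301749 = true := by decide +kernel

set_option maxRecDepth 1000000 in
theorem edges_7_15 : edgesRangeS iota B E 7 10725 237884 = true := by decide +kernel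

set_option maxRecDepth 1000000 in
theorem edges_0_12 : edgesRangeS iota B E 0 33422 296282 = true := by decide +kernel

set_option maxRecDepth 1000000 in
theorem edges_2_37 : edgesRangeS iota B E 2 21874 1241956 = true := by decide +kernel

set_option maxRecDepth 1000000 in
theorem edges_5_101 : edgesRangeS iota B E 5 10596 1231122 = true := by decide +kernel

set_option maxRecDepth 1000000 in
theorem edges_8_2 : edgesRangeS iota B E 8 20910 61100 = true := by decide +kernel

set_option maxRecDepth 1000000 in
theorem edges_0_37 : edgesRangeS iota B E 0 32010 1034310 = true := by decide +kernel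

set_option maxRecDepth 1000000 in
theorem edges_2_12 : edgesRangeS iota B E 2 37128 375590 = true := by decide +kernel

set_option maxRecDepth 1000000 in
theorem edges_3_24 : edgesRangeS iota B E 3 38538 751475 = true := by decide +kernel

set_option maxRecDepth 1000000 in
theorem edges_5_25 : edgesRangeS iota B E 5 12103 363154 = true := by decide +kernel

set_option maxRecDepth 1000000 in
theorem edges_7_14 : edgesRangeS iota B E 7 10897 226987 = true := by decide +kernel

set_option maxRecDepth 1000000 in
theorem edges_4_58 : edgesRangeS iota B E 4 4509 1534491 = true := by decide +kernel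

end

end Cfsg.Agent.Helper5.HNM
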