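import Cfsg.Agent.Helper5.HNMDatD

/-! kernel checks of edges and trees: HNM -/

set_option autoImplicit false
set_option Elab.async false

namespace Cfsg.Agent.Helper5.HNM
open Cfsg.Agent.Helper5.TC Cfsg.Agent.Helper5.TCI Cfsg.Agent.Helper5.TCS
noncomputable section

set_option maxRecDepth 1000000 in
theorem sec_5_3 : secRange E 5 986742 162009 secF 50000 312010 = true := by decide +kernel

set_option maxRecDepth 1000000 in
theorem edges_5_16 : edgesRangeS iota B E 5 11958 250547 = true := by decide +kernel

set_option maxRecDepth 1000000 in
theorem edges_7_54 : edgesRangeS iota B E 7 11129 710734 = true := by decide +kernel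

set_option maxRecDepth 1000000 in
theorem edges_7_60 : edgesRangeS iota B E 7 11402 779475 = true := by decide +kernel

set_option maxRecDepth 1000000 in
theorem edges_5_85 : edgesRangeS iota B E 5 11151 1055865 = true := by decide +kernel

set_option maxRecDepth 1000000 in
theorem edges_4_4 : edgesRangeS iota B E 4 25368 158237 = true := by decide +kernel

set_option maxRecDepth 1000000 in
theorem edges_6_26 : edgesRangeS iota B E 6 15655 480428 = true := by decide +kernel

set_option maxRecDepth 1000000 in
theorem edges_8_28 : edgesRangeS iota B E 8 19982 560061 = true := by decide +kernel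

set_option maxRecDepth 1000000 in
theorem edges_1_40 : edgesRangeS iota B E 1 31736 1127978 = true := by decide +kernel

set_option maxRecDepth 1000000 in
theorem edges_5_19 : edgesRangeS iota B E 5 12581 289168 = true := by decide +kernel

set_option maxRecDepth 1000000 in
theorem edges_7_26 : edgesRangeS iota B E 7 12089 370684 = true := by decide +kernel

set_option maxRecDepth 1000000 in
theorem edges_8_74 : edgesRangeS iota B E 8 16121 1323752 = true := by decide +kernel

set_option maxRecDepth 1000000 in
theorem edges_2_6 : edgesRangeS iota B E 2 13332 180924 = true := by decide +kernel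

set_option maxRecDepth 1000000 in
theorem edges_3_17 : edgesRangeS iota B E 3 13336 530890 = true := by decide +kernel

set_option maxRecDepth 1000000 in
theorem edges_5_2 : edgesRangeS iota B E 5 14613 51752 = true := by decide +kernel

set_option maxRecDepth 1000000 in
theorem edges_7_1 : edgesRangeS iota B E 7 16396 36388 = true := by decide +kernel

set_option maxRecDepth 1000000 in
theorem edges_7_120 : edgesRangeS iota B E 7 9055 1529945 = true := by decide +kernel

end

end Cfsg.Agent.Helper5.HNM
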