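import Cfsg.Agent.Helper5.HNMDatD

/-! kernel checks of edges and trees: HNM -/

set_option autoImplicit false
set_option Elab.async false

namespace Cfsg.Agent.Helper5.HNM
open Cfsg.Agent.Helper5.TC Cfsg.Agent.Helper5.TCI Cfsg.Agent.Helper5.TCS
noncomputable section

set_option maxRecDepth 1000000 in
theorem sec_5_4 : secRange E 5 986742 162009 secF 50000 362010 = true := by decide +kernel

set_option maxRecDepth 1000000 in
theorem edges_5_36 : edgesRangeS iota B E 5 11125 491435 = true := by decide +kernel

set_option maxRecDepth 1000000 in
theorem edges_7_57 : edgesRangeS iota B E 7 11536 744836 = true := by decide +kernel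

set_option maxRecDepth 1000000 in
theorem edges_7_78 : edgesRangeS iota B E 7 11433 984256 = true := by decide +kernel

set_option maxRecDepth 1000000 in
theorem edges_5_97 : edgesRangeS iota B E 5 10770 1188252 = true := by decide +kernel

set_option maxRecDepth 1000000 in
theorem edges_4_32 : edgesRangeS iota B E 4 21812 1239300 = true := by decide +kernel

set_option maxRecDepth 1000000 in
theorem edges_6_27 : edgesRangeS iota B E 6 15499 496083 = true := by decide +kernel

set_option maxRecDepth 1000000 in
theorem edges_8_32 : edgesRangeS iota B E 8 17346 635304 = true := by decide +kernel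

set_option maxRecDepth 1000000 in
theorem edges_1_41 : edgesRangeS iota B E 1 31572 1159714 = true := by decide +kernel

set_option maxRecDepth 1000000 in
theorem edges_5_21 : edgesRangeS iota B E 5 11738 313890 = true := by decide +kernel

set_option maxRecDepth 1000000 in
theorem edges_7_29 : edgesRangeS iota B E 7 11752 406739 = true := by decide +kernel

set_option maxRecDepth 1000000 in
theorem edges_8_80 : edgesRangeS iota B E 8 15998 1419904 = true := by decide +kernel

set_option maxRecDepth 1000000 in
theorem edges_2_8 : edgesRangeS iota B E 2 32386 207591 = true := by decide +kernel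

set_option maxRecDepth 1000000 in
theorem edges_3_18 : edgesRangeS iota B E 3 13334 544226 = true := by decide +kernel

set_option maxRecDepth 1000000 in
theorem edges_5_5 : edgesRangeS iota B E 5 14721 97215 = true := by decide +kernel

set_option maxRecDepth 1000000 in
theorem edges_7_2 : edgesRangeS iota B E 7 13749 52784 = true := by decide +kernel

set_option maxRecDepth 1000000 in
theorem edges_5_125 : edgesRangeS iota B E 5 8257 1530743 = true := by decide +kernel

end

end Cfsg.Agent.Helper5.HNM
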