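import Cfsg.Agent.Helper5.HNMDatD

/-! kernel checks of edges and trees: HNM -/

set_option autoImplicit false
set_option Elab.async false

namespace Cfsg.Agent.Helper5.HNM
open Cfsg.Agent.Helper5.TC Cfsg.Agent.Helper5.TCI Cfsg.Agent.Helper5.TCS
noncomputable section

set_option maxRecDepth 1000000 in
theorem sec_5_5 : secRange E 5 986742 162009 secF 50000 412010 = true := by decide +kernel

set_option maxRecDepth 1000000 in
theorem edges_5_43 : edgesRangeS iota B E 5 9180 589028 = true := by decide +kernel

set_option maxRecDepth 1000000 in
theorem edges_7_80 : edgesRangeS iota B E 7 11482 1007171 = true := by decide +kernel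

set_option maxRecDepth 1000000 in
theorem edges_7_82 : edgesRangeS iota B E 7 11417 1030162 = true := by decide +kernel

set_option maxRecDepth 1000000 in
theorem edges_5_105 : edgesRangeS iota B E 5 13339 1277978 = true := by decide +kernel

set_option maxRecDepth 1000000 in
theorem edges_4_40 : edgesRangeS iota B E 4 10116 1331292 = true := by decide +kernel

set_option maxRecDepth 1000000 in
theorem edges_6_29 : edgesRangeS iota B E 6 18288 528939 = true := by decide +kernel

set_option maxRecDepth 1000000 in
theorem edges_8_33 : edgesRangeS iota B E 8 17099 652650 = true := by decide +kernel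

set_option maxRecDepth 1000000 in
theorem edges_1_43 : edgesRangeS iota B E 1 31568 1222694 = true := by decide +kernel

set_option maxRecDepth 1000000 in
theorem edges_5_30 : edgesRangeS iota B E 5 11415 421680 = true := by decide +kernel

set_option maxRecDepth 1000000 in
theorem edges_7_30 : edgesRangeS iota B E 7 11637 418491 = true := by decide +kernel

set_option maxRecDepth 1000000 in
theorem edges_0_2 : edgesRangeS iota B E 0 34173 48542 = true := by decide +kernel

set_option maxRecDepth 1000000 in
theorem edges_1_10 : edgesRangeS iota B E 1 31068 230180 = true := by decide +kernel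

set_option maxRecDepth 1000000 in
theorem edges_2_39 : edgesRangeS iota B E 2 13332 1277169 = true := by decide +kernel

set_option maxRecDepth 1000000 in
theorem edges_3_53 : edgesRangeS iota B E 3 13329 1463847 = true := by decide +kernel

set_option maxRecDepth 1000000 in
theorem edges_6_1 : edgesRangeS iota B E 6 19897 39867 = true := by decide +kernel

set_option maxRecDepth 1000000 in
theorem edges_7_107 : edgesRangeS iota B E 7 17140 1341347 = true := by decide +kernel

end

end Cfsg.Agent.Helper5.HNM
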