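import Cfsg.Agent.Helper5.HNMDatD

/-! kernel checks of edges and trees: HNM -/

set_option autoImplicit false
set_option Elab.async false

namespace Cfsg.Agent.Helper5.HNM
open Cfsg.Agent.Helper5.TC Cfsg.Agent.Helper5.TCI Cfsg.Agent.Helper5.TCS
noncomputable section

set_option maxRecDepth 1000000 in
theorem sec_5_6 : secRange E 5 986742 162009 secF 50000 462010 = true := by decide +kernel

set_option maxRecDepth 1000000 in
theorem edges_7_12 : edgesRangeS iota B E 7 15810 200388 = true := by decide +kernel

set_option maxRecDepth 1000000 in
theorem edges_7_90 : edgesRangeS iota B E 7 11209 1120404 = true := by decide +kernel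

set_option maxRecDepth 1000000 in
theorem edges_7_86 : edgesRangeS iota B E 7 11169 1075532 = true := by decide +kernel

set_option maxRecDepth 1000000 in
theorem edges_5_106 : edgesRangeS iota B E 5 13337 1291317 = true := by decide +kernel

set_option maxRecDepth 1000000 in
theorem edges_4_44 : edgesRangeS iota B E 4 10109 1371586 = true := by decide +kernel

set_option maxRecDepth 1000000 in
theorem edges_6_33 : edgesRangeS iota B E 6 18787 603292 = true := by decide +kernel

set_option maxRecDepth 1000000 in
theorem edges_8_34 : edgesRangeS iota B E 8 17050 669749 = true := by decide +kernel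

set_option maxRecDepth 1000000 in
theorem edges_1_44 : edgesRangeS iota B E 1 13416 1254262 = true := by decide +kernel

set_option maxRecDepth 1000000 in
theorem edges_5_34 : edgesRangeS iota B E 5 11416 468859 = true := by decide +kernel

set_option maxRecDepth 1000000 in
theorem edges_7_31 : edgesRangeS iota B E 7 12324 430128 = true := by decide +kernel

set_option maxRecDepth 1000000 in
theorem edges_0_3 : edgesRangeS iota B E 0 33558 82715 = true := by decide +kernel

set_option maxRecDepth 1000000 in
theorem edges_1_12 : edgesRangeS iota B E 1 33423 296232 = true := by decide +kernel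

set_option maxRecDepth 1000000 in
theorem edges_2_40 : edgesRangeS iota B E 2 13336 1290501 = true := by decide +kernel

set_option maxRecDepth 1000000 in
theorem edges_3_56 : edgesRangeS iota B E 3 26589 1503847 = true := by decide +kernel

set_option maxRecDepth 1000000 in
theorem edges_6_2 : edgesRangeS iota B E 6 18362 59764 = true := by decide +kernel

set_option maxRecDepth 1000000 in
theorem edges_7_114 : edgesRangeS iota B E 7 17122 1461325 = true := by decide +kernel

end

end Cfsg.Agent.Helper5.HNM
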