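import Cfsg.Agent.Helper5.HNMDatD

/-! kernel checks of edges and trees: HNM -/

set_option autoImplicit false
set_option Elab.async false

namespace Cfsg.Agent.Helper5.HNM
open Cfsg.Agent.Helper5.TC Cfsg.Agent.Helper5.TCI Cfsg.Agent.Helper5.TCS
noncomputable section

set_option maxRecDepth 1000000 in
theorem sec_6_0 : secRange E 5 1490744 516825 secF 50000 516826 = true := by decide +kernel

set_option maxRecDepth 1000000 in
theorem edges_7_97 : edgesRangeS iota B E 7 11231 1200075 = true := by decide +kernel

set_option maxRecDepth 1000000 in
theorem edges_7_94 : edgesRangeS iota B E 7 11384 1166142 = true := by decide +kernel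

set_option maxRecDepth 1000000 in
theorem edges_7_87 : edgesRangeS iota B E 7 11257 1086701 = true := by decide +kernel

set_option maxRecDepth 1000000 in
theorem edges_5_110 : edgesRangeS iota B E 5 13351 1344647 = true := by decide +kernel

set_option maxRecDepth 1000000 in
theorem edges_4_47 : edgesRangeS iota B E 4 10010 1401999 = true := by decide +kernel

set_option maxRecDepth 1000000 in
theorem edges_6_34 : edgesRangeS iota B E 6 16982 622079 = true := by decide +kernel

set_option maxRecDepth 1000000 in
theorem edges_8_35 : edgesRangeS iota B E 8 17093 686799 = true := by decide +kernel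

set_option maxRecDepth 1000000 in
theorem edges_1_45 : edgesRangeS iota B E 1 12305 1267678 = true := by decide +kernel

set_option maxRecDepth 1000000 in
theorem edges_5_38 : edgesRangeS iota B E 5 14990 513374 = true := by decide +kernel

set_option maxRecDepth 1000000 in
theorem edges_7_36 : edgesRangeS iota B E 7 11592 489843 = true := by decide +kernel

set_option maxRecDepth 1000000 in
theorem edges_0_4 : edgesRangeS iota B E 0 31968 116273 = true := by decide +kernel

set_option maxRecDepth 1000000 in
theorem edges_1_13 : edgesRangeS iota B E 1 34109 329655 = true := by decide +kernel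

set_option maxRecDepth 1000000 in
theorem edges_2_41 : edgesRangeS iota B E 2 13325 1303837 = true := by decide +kernel

set_option maxRecDepth 1000000 in
theorem edges_4_1 : edgesRangeS iota B E 4 41261 39585 = true := by decide +kernel

set_option maxRecDepth 1000000 in
theorem edges_6_7 : edgesRangeS iota B E 6 18628 154616 = true := by decide +kernel

set_option maxRecDepth 1000000 in
theorem edges_7_119 : edgesRangeS iota B E 7 7231 1522714 = true := by decide +kernel

end

end Cfsg.Agent.Helper5.HNM
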