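import Cfsg.Agent.Helper5.HNMDatD
import Cfsg.Agent.Helper5.HNMDatT
import Cfsg.Agent.Helper5.TCIB

/-! kernel checks of the coset table: HNM -/

set_option autoImplicit false
set_option Elab.async false

namespace Cfsg.Agent.Helper5.HNM
open Cfsg.Agent.Helper5.TC Cfsg.Agent.Helper5.TCI Cfsg.Agent.Helper5.TCS
noncomputable section

set_option maxRecDepth 1000000 in
theorem relc_6_0 : fixPtsF W_6 200000 0 = true := by decide +kernel

set_option maxRecDepth 1000000 in
theorem relc_0_2 : fixPtsF W_0 66666 133332 = true := by decide +kernel

set_option maxRecDepth 1000000 in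
theorem relc_13_4 : fixPtsF W_13 66666 266664 = true := by decide +kernel

set_option maxRecDepth 1000000 in
theorem relc_2_29 : fixPtsF W_2 33333 966657 = true := by decide +kernel

set_option maxRecDepth 1000000 in
theorem relc_4_31 : fixPtsF W_4 25000 775000 = true := by decide +kernel

set_option maxRecDepth 1000000 in
theorem relc_8_18 : fixPtsF W_8 20000 360000 = true := by decide +kernel

set_option maxRecDepth 1000000 in
theorem relc_8_66 : fixPtsF W_8 20000 1320000 = true := by decide +kernel

set_option maxRecDepth 1000000 in
theorem relc_3_38 : fixPtsF W_3 19047 723786 = true := by decide +kernel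

set_option maxRecDepth 1000000 in
theorem relc_5_6 : fixPtsF W_5 16666 99996 = true := by decide +kernel

set_option maxRecDepth 1000000 in
theorem relc_5_54 : fixPtsF W_5 16666 899964 = true := by decide +kernel

set_option maxRecDepth 1000000 in
theorem relc_9_8 : fixPtsF W_9 8163 65304 = true := by decide +kernel

set_option maxRecDepth 1000000 in
theorem relc_9_56 : fixPtsF W_9 8163 457128 = true := by decide +kernel

set_option maxRecDepth 1000000 in
theorem relc_9_104 : fixPtsF W_9 8163 848952 = true := by decide +kernel

set_option maxRecDepth 1000000 in
theorem relc_9_152 : fixPtsF W_9 8163 1240776 = true := by decide +kernel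

set_option maxRecDepth 1000000 in
theorem inv_0_4 : invRowFI tgF 1539000 0 1 50000 200000 = true := by decide +kernel

set_option maxRecDepth 1000000 in
theorem inv_0_22 : invRowFI tgF 1539000 0 1 50000 1100000 = true := by decide +kernel

set_option maxRecDepth 1000000 in
theorem inv_2_10 : invRowFI tgF 1539000 2 3 50000 500000 = true := by decide +kernel

set_option maxRecDepth 1000000 in
theorem inv_3_28 : invRowFI tgF 1539000 3 2 50000 1400000 = true := by decide +kernel

set_option maxRecDepth 1000000 in
theorem inv_5_16 : invRowFI tgF 1539000 5 6 50000 800000 = true := by decide +kernel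

set_option maxRecDepth 1000000 in
theorem inv_7_4 : invRowFI tgF 1539000 7 8 50000 200000 = true := by decide +kernel

set_option maxRecDepth 1000000 in
theorem inv_8_22 : invRowFI tgF 1539000 8 7 50000 1100000 = true := by decide +kernel

end

end Cfsg.Agent.Helper5.HNM
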