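import Cfsg.Agent.Helper5.HNMDatD
import Cfsg.Agent.Helper5.HNMDatT
import Cfsg.Agent.Helper5.TCIB

/-! kernel checks of the coset table: HNM -/

set_option autoImplicit false
set_option Elab.async false

namespace Cfsg.Agent.Helper5.HNM
open Cfsg.Agent.Helper5.TC Cfsg.Agent.Helper5.TCI Cfsg.Agent.Helper5.TCS
noncomputable section

set_option maxRecDepth 1000000 in
theorem relc_6_1 : fixPtsF W_6 200000 200000 = true := by decide +kernel

set_option maxRecDepth 1000000 in
theorem relc_0_3 : fixPtsF W_0 66666 199998 = true := by decide +kernel

set_option maxRecDepth 1000000 in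
theorem relc_13_5 : fixPtsF W_13 66666 333330 = true := by decide +kernel

set_option maxRecDepth 1000000 in
theorem relc_2_30 : fixPtsF W_2 33333 999990 = true := by decide +kernel

set_option maxRecDepth 1000000 in
theorem relc_4_32 : fixPtsF W_4 25000 800000 = true := by decide +kernel

set_option maxRecDepth 1000000 in
theorem relc_8_19 : fixPtsF W_8 20000 380000 = true := by decide +kernel

set_option maxRecDepth 1000000 in
theorem relc_8_67 : fixPtsF W_8 20000 1340000 = true := by decide +kernel

set_option maxRecDepth 1000000 in
theorem relc_3_39 : fixPtsF W_3 19047 742833 = true := by decide +kernel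

set_option maxRecDepth 1000000 in
theorem relc_5_7 : fixPtsF W_5 16666 116662 = true := by decide +kernel

set_option maxRecDepth 1000000 in
theorem relc_5_55 : fixPtsF W_5 16666 916630 = true := by decide +kernel

set_option maxRecDepth 1000000 in
theorem relc_9_9 : fixPtsF W_9 8163 73467 = true := by decide +kernel

set_option maxRecDepth 1000000 in
theorem relc_9_57 : fixPtsF W_9 8163 465291 = true := by decide +kernel

set_option maxRecDepth 1000000 in
theorem relc_9_105 : fixPtsF W_9 8163 857115 = true := by decide +kernel

set_option maxRecDepth 1000000 in
theorem relc_9_153 : fixPtsF W_9 8163 1248939 = true := by decide +kernel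

set_option maxRecDepth 1000000 in
theorem inv_0_5 : invRowFI tgF 1539000 0 1 50000 250000 = true := by decide +kernel

set_option maxRecDepth 1000000 in
theorem inv_0_23 : invRowFI tgF 1539000 0 1 50000 1150000 = true := by decide +kernel

set_option maxRecDepth 1000000 in
theorem inv_2_11 : invRowFI tgF 1539000 2 3 50000 550000 = true := by decide +kernel

set_option maxRecDepth 1000000 in
theorem inv_3_29 : invRowFI tgF 1539000 3 2 50000 1450000 = true := by decide +kernel

set_option maxRecDepth 1000000 in
theorem inv_5_17 : invRowFI tgF 1539000 5 6 50000 850000 = true := by decide +kernel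

set_option maxRecDepth 1000000 in
theorem inv_7_5 : invRowFI tgF 1539000 7 8 50000 250000 = true := by decide +kernel

set_option maxRecDepth 1000000 in
theorem inv_8_23 : invRowFI tgF 1539000 8 7 50000 1150000 = true := by decide +kernel

end

end Cfsg.Agent.Helper5.HNM
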