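import Cfsg.Agent.Helper5.HNMDatD
import Cfsg.Agent.Helper5.HNMDatT
import Cfsg.Agent.Helper5.TCIB

/-! kernel checks of the coset table: HNM -/

set_option autoImplicit false
set_option Elab.async false

namespace Cfsg.Agent.Helper5.HNM
open Cfsg.Agent.Helper5.TC Cfsg.Agent.Helper5.TCI Cfsg.Agent.Helper5.TCS
noncomputable section

set_option maxRecDepth 1000000 in
theorem relc_18_3 : fixPtsF W_18 133333 399999 = true := by decide +kernel

set_option maxRecDepth 1000000 in
theorem relc_11_13 : fixPtsF W_11 80000 1040000 = true := by decide +kernel

set_option maxRecDepth 1000000 in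
theorem relc_1_21 : fixPtsF W_1 66666 1399986 = true := by decide +kernel

set_option maxRecDepth 1000000 in
theorem relc_2_23 : fixPtsF W_2 33333 766659 = true := by decide +kernel

set_option maxRecDepth 1000000 in
theorem relc_4_13 : fixPtsF W_4 25000 325000 = true := by decide +kernel

set_option maxRecDepth 1000000 in
theorem relc_8_0 : fixPtsF W_8 20000 0 = true := by decide +kernel

set_option maxRecDepth 1000000 in
theorem relc_8_45 : fixPtsF W_8 20000 900000 = true := by decide +kernel

set_option maxRecDepth 1000000 in
theorem relc_3_17 : fixPtsF W_3 19047 323799 = true := by decide +kernel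

set_option maxRecDepth 1000000 in
theorem relc_3_65 : fixPtsF W_3 19047 1238055 = true := by decide +kernel

set_option maxRecDepth 1000000 in
theorem relc_5_36 : fixPtsF W_5 16666 599976 = true := by decide +kernel

set_option maxRecDepth 1000000 in
theorem relc_5_84 : fixPtsF W_5 16666 1399944 = true := by decide +kernel

set_option maxRecDepth 1000000 in
theorem relc_9_48 : fixPtsF W_9 8163 391824 = true := by decide +kernel

set_option maxRecDepth 1000000 in
theorem relc_9_96 : fixPtsF W_9 8163 783648 = true := by decide +kernel

set_option maxRecDepth 1000000 in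
theorem relc_9_144 : fixPtsF W_9 8163 1175472 = true := by decide +kernel

set_option maxRecDepth 1000000 in
theorem relc_9_188 : fixPtsF W_9 4356 1534644 = true := by decide +kernel

set_option maxRecDepth 1000000 in
theorem inv_0_18 : invRowFI tgF 1539000 0 1 50000 900000 = true := by decide +kernel

set_option maxRecDepth 1000000 in
theorem inv_1_24 : invRowFI tgF 1539000 1 0 50000 1200000 = true := by decide +kernel

set_option maxRecDepth 1000000 in
theorem inv_3_12 : invRowFI tgF 1539000 3 2 50000 600000 = true := by decide +kernel

set_option maxRecDepth 1000000 in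
theorem inv_5_0 : invRowFI tgF 1539000 5 6 50000 0 = true := by decide +kernel

set_option maxRecDepth 1000000 in
theorem inv_6_18 : invRowFI tgF 1539000 6 5 50000 900000 = true := by decide +kernel

set_option maxRecDepth 1000000 in
theorem inv_8_6 : invRowFI tgF 1539000 8 7 50000 300000 = true := by decide +kernel

end

end Cfsg.Agent.Helper5.HNM
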