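import Cfsg.Agent.Helper5.HNMDatD
import Cfsg.Agent.Helper5.HNMDatT
import Cfsg.Agent.Helper5.TCIB

/-! kernel checks of the coset table: HNM -/

set_option autoImplicit false
set_option Elab.async false

namespace Cfsg.Agent.Helper5.HNM
open Cfsg.Agent.Helper5.TC Cfsg.Agent.Helper5.TCI Cfsg.Agent.Helper5.TCS
noncomputable section

set_option maxRecDepth 1000000 in
theorem relc_18_4 : fixPtsF W_18 133333 533332 = true := by decide +kernel

set_option maxRecDepth 1000000 in
theorem relc_11_14 : fixPtsF W_11 80000 1120000 = true := by decide +kernel

set_option maxRecDepth 1000000 in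
theorem relc_1_22 : fixPtsF W_1 66666 1466652 = true := by decide +kernel

set_option maxRecDepth 1000000 in
theorem relc_2_24 : fixPtsF W_2 33333 799992 = true := by decide +kernel

set_option maxRecDepth 1000000 in
theorem relc_4_14 : fixPtsF W_4 25000 350000 = true := by decide +kernel

set_option maxRecDepth 1000000 in
theorem relc_8_1 : fixPtsF W_8 20000 20000 = true := by decide +kernel

set_option maxRecDepth 1000000 in
theorem relc_8_46 : fixPtsF W_8 20000 920000 = true := by decide +kernel

set_option maxRecDepth 1000000 in
theorem relc_3_18 : fixPtsF W_3 19047 342846 = true := by decide +kernel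

set_option maxRecDepth 1000000 in
theorem relc_3_66 : fixPtsF W_3 19047 1257102 = true := by decide +kernel

set_option maxRecDepth 1000000 in
theorem relc_5_37 : fixPtsF W_5 16666 616642 = true := by decide +kernel

set_option maxRecDepth 1000000 in
theorem relc_5_85 : fixPtsF W_5 16666 1416610 = true := by decide +kernel

set_option maxRecDepth 1000000 in
theorem relc_9_49 : fixPtsF W_9 8163 399987 = true := by decide +kernel

set_option maxRecDepth 1000000 in
theorem relc_9_97 : fixPtsF W_9 8163 791811 = true := by decide +kernel

set_option maxRecDepth 1000000 in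
theorem relc_9_145 : fixPtsF W_9 8163 1183635 = true := by decide +kernel

set_option maxRecDepth 1000000 in
theorem relc_5_92 : fixPtsF W_5 5728 1533272 = true := by decide +kernel

set_option maxRecDepth 1000000 in
theorem inv_0_17 : invRowFI tgF 1539000 0 1 50000 850000 = true := by decide +kernel

set_option maxRecDepth 1000000 in
theorem inv_1_5 : invRowFI tgF 1539000 1 0 50000 250000 = true := by decide +kernel

set_option maxRecDepth 1000000 in
theorem inv_2_23 : invRowFI tgF 1539000 2 3 50000 1150000 = true := by decide +kernel

set_option maxRecDepth 1000000 in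
theorem inv_4_11 : invRowFI tgF 1539000 4 4 50000 550000 = true := by decide +kernel

set_option maxRecDepth 1000000 in
theorem inv_5_29 : invRowFI tgF 1539000 5 6 50000 1450000 = true := by decide +kernel

set_option maxRecDepth 1000000 in
theorem inv_7_17 : invRowFI tgF 1539000 7 8 50000 850000 = true := by decide +kernel

set_option maxRecDepth 1000000 in
theorem inv_5_30 : invRowFI tgF 1539000 5 6 39000 1500000 = true := by decide +kernel

end

end Cfsg.Agent.Helper5.HNM
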