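import Cfsg.Agent.Helper5.HNMDatD
import Cfsg.Agent.Helper5.HNMDatT
import Cfsg.Agent.Helper5.TCIB

/-! kernel checks of the coset table: HNM -/

set_option autoImplicit false
set_option Elab.async false

namespace Cfsg.Agent.Helper5.HNM
open Cfsg.Agent.Helper5.TC Cfsg.Agent.Helper5.TCI Cfsg.Agent.Helper5.TCS
noncomputable section

set_option maxRecDepth 1000000 in
theorem relc_18_5 : fixPtsF W_18 133333 666665 = true := by decide +kernel

set_option maxRecDepth 1000000 in
theorem relc_11_15 : fixPtsF W_11 80000 1200000 = true := by decide +kernel

set_option maxRecDepth 1000000 in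
theorem relc_13_0 : fixPtsF W_13 66666 0 = true := by decide +kernel

set_option maxRecDepth 1000000 in
theorem relc_2_25 : fixPtsF W_2 33333 833325 = true := by decide +kernel

set_option maxRecDepth 1000000 in
theorem relc_4_15 : fixPtsF W_4 25000 375000 = true := by decide +kernel

set_option maxRecDepth 1000000 in
theorem relc_8_2 : fixPtsF W_8 20000 40000 = true := by decide +kernel

set_option maxRecDepth 1000000 in
theorem relc_8_47 : fixPtsF W_8 20000 940000 = true := by decide +kernel

set_option maxRecDepth 1000000 in
theorem relc_3_19 : fixPtsF W_3 19047 361893 = true := by decide +kernel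

set_option maxRecDepth 1000000 in
theorem relc_3_67 : fixPtsF W_3 19047 1276149 = true := by decide +kernel

set_option maxRecDepth 1000000 in
theorem relc_5_38 : fixPtsF W_5 16666 633308 = true := by decide +kernel

set_option maxRecDepth 1000000 in
theorem relc_5_86 : fixPtsF W_5 16666 1433276 = true := by decide +kernel

set_option maxRecDepth 1000000 in
theorem relc_9_50 : fixPtsF W_9 8163 408150 = true := by decide +kernel

set_option maxRecDepth 1000000 in
theorem relc_9_98 : fixPtsF W_9 8163 799974 = true := by decide +kernel

set_option maxRecDepth 1000000 in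
theorem relc_9_146 : fixPtsF W_9 8163 1191798 = true := by decide +kernel

set_option maxRecDepth 1000000 in
theorem relc_10_19 : fixPtsF W_10 19000 1520000 = true := by decide +kernel

set_option maxRecDepth 1000000 in
theorem inv_0_15 : invRowFI tgF 1539000 0 1 50000 750000 = true := by decide +kernel

set_option maxRecDepth 1000000 in
theorem inv_1_3 : invRowFI tgF 1539000 1 0 50000 150000 = true := by decide +kernel

set_option maxRecDepth 1000000 in
theorem inv_2_21 : invRowFI tgF 1539000 2 3 50000 1050000 = true := by decide +kernel

set_option maxRecDepth 1000000 in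
theorem inv_4_9 : invRowFI tgF 1539000 4 4 50000 450000 = true := by decide +kernel

set_option maxRecDepth 1000000 in
theorem inv_5_27 : invRowFI tgF 1539000 5 6 50000 1350000 = true := by decide +kernel

set_option maxRecDepth 1000000 in
theorem inv_7_15 : invRowFI tgF 1539000 7 8 50000 750000 = true := by decide +kernel

set_option maxRecDepth 1000000 in
theorem inv_3_30 : invRowFI tgF 1539000 3 2 39000 1500000 = true := by decide +kernel

end

end Cfsg.Agent.Helper5.HNM
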