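import Cfsg.Agent.Helper5.HNMDatD
import Cfsg.Agent.Helper5.HNMDatT
import Cfsg.Agent.Helper5.TCIB

/-! kernel checks of the coset table: HNM -/

set_option autoImplicit false
set_option Elab.async false

namespace Cfsg.Agent.Helper5.HNM
open Cfsg.Agent.Helper5.TC Cfsg.Agent.Helper5.TCI Cfsg.Agent.Helper5.TCS
noncomputable section

set_option maxRecDepth 1000000 in
theorem relc_18_6 : fixPtsF W_18 133333 799998 = true := by decide +kernel

set_option maxRecDepth 1000000 in
theorem relc_11_16 : fixPtsF W_11 80000 1280000 = true := by decide +kernel

set_option maxRecDepth 1000000 in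
theorem relc_13_1 : fixPtsF W_13 66666 66666 = true := by decide +kernel

set_option maxRecDepth 1000000 in
theorem relc_2_26 : fixPtsF W_2 33333 866658 = true := by decide +kernel

set_option maxRecDepth 1000000 in
theorem relc_4_16 : fixPtsF W_4 25000 400000 = true := by decide +kernel

set_option maxRecDepth 1000000 in
theorem relc_8_3 : fixPtsF W_8 20000 60000 = true := by decide +kernel

set_option maxRecDepth 1000000 in
theorem relc_8_48 : fixPtsF W_8 20000 960000 = true := by decide +kernel

set_option maxRecDepth 1000000 in
theorem relc_3_20 : fixPtsF W_3 19047 380940 = true := by decide +kernel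

set_option maxRecDepth 1000000 in
theorem relc_3_68 : fixPtsF W_3 19047 1295196 = true := by decide +kernel

set_option maxRecDepth 1000000 in
theorem relc_5_39 : fixPtsF W_5 16666 649974 = true := by decide +kernel

set_option maxRecDepth 1000000 in
theorem relc_5_87 : fixPtsF W_5 16666 1449942 = true := by decide +kernel

set_option maxRecDepth 1000000 in
theorem relc_9_51 : fixPtsF W_9 8163 416313 = true := by decide +kernel

set_option maxRecDepth 1000000 in
theorem relc_9_99 : fixPtsF W_9 8163 808137 = true := by decide +kernel

set_option maxRecDepth 1000000 in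
theorem relc_9_147 : fixPtsF W_9 8163 1199961 = true := by decide +kernel

set_option maxRecDepth 1000000 in
theorem relc_11_19 : fixPtsF W_11 19000 1520000 = true := by decide +kernel

set_option maxRecDepth 1000000 in
theorem inv_0_16 : invRowFI tgF 1539000 0 1 50000 800000 = true := by decide +kernel

set_option maxRecDepth 1000000 in
theorem inv_1_4 : invRowFI tgF 1539000 1 0 50000 200000 = true := by decide +kernel

set_option maxRecDepth 1000000 in
theorem inv_2_22 : invRowFI tgF 1539000 2 3 50000 1100000 = true := by decide +kernel

set_option maxRecDepth 1000000 in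
theorem inv_4_10 : invRowFI tgF 1539000 4 4 50000 500000 = true := by decide +kernel

set_option maxRecDepth 1000000 in
theorem inv_5_28 : invRowFI tgF 1539000 5 6 50000 1400000 = true := by decide +kernel

set_option maxRecDepth 1000000 in
theorem inv_7_16 : invRowFI tgF 1539000 7 8 50000 800000 = true := by decide +kernel

set_option maxRecDepth 1000000 in
theorem inv_4_30 : invRowFI tgF 1539000 4 4 39000 1500000 = true := by decide +kernel

end

end Cfsg.Agent.Helper5.HNM
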