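import Cfsg.Agent.Helper5.HNMDatD
import Cfsg.Agent.Helper5.HNMDatT
import Cfsg.Agent.Helper5.TCIB

/-! kernel checks of the coset table: HNM -/

set_option autoImplicit false
set_option Elab.async false

namespace Cfsg.Agent.Helper5.HNM
open Cfsg.Agent.Helper5.TC Cfsg.Agent.Helper5.TCI Cfsg.Agent.Helper5.TCS
noncomputable section

set_option maxRecDepth 1000000 in
theorem relc_18_7 : fixPtsF W_18 133333 933331 = true := by decide +kernel

set_option maxRecDepth 1000000 in
theorem relc_11_17 : fixPtsF W_11 80000 1360000 = true := by decide +kernel

set_option maxRecDepth 1000000 in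
theorem relc_13_2 : fixPtsF W_13 66666 133332 = true := by decide +kernel

set_option maxRecDepth 1000000 in
theorem relc_2_27 : fixPtsF W_2 33333 899991 = true := by decide +kernel

set_option maxRecDepth 1000000 in
theorem relc_4_17 : fixPtsF W_4 25000 425000 = true := by decide +kernel

set_option maxRecDepth 1000000 in
theorem relc_8_4 : fixPtsF W_8 20000 80000 = true := by decide +kernel

set_option maxRecDepth 1000000 in
theorem relc_8_49 : fixPtsF W_8 20000 980000 = true := by decide +kernel

set_option maxRecDepth 1000000 in
theorem relc_3_21 : fixPtsF W_3 19047 399987 = true := by decide +kernel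

set_option maxRecDepth 1000000 in
theorem relc_3_69 : fixPtsF W_3 19047 1314243 = true := by decide +kernel

set_option maxRecDepth 1000000 in
theorem relc_5_40 : fixPtsF W_5 16666 666640 = true := by decide +kernel

set_option maxRecDepth 1000000 in
theorem relc_5_88 : fixPtsF W_5 16666 1466608 = true := by decide +kernel

set_option maxRecDepth 1000000 in
theorem relc_9_52 : fixPtsF W_9 8163 424476 = true := by decide +kernel

set_option maxRecDepth 1000000 in
theorem relc_9_100 : fixPtsF W_9 8163 816300 = true := by decide +kernel

set_option maxRecDepth 1000000 in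
theorem relc_9_148 : fixPtsF W_9 8163 1208124 = true := by decide +kernel

set_option maxRecDepth 1000000 in
theorem inv_0_0 : invRowFI tgF 1539000 0 1 50000 0 = true := by decide +kernel

set_option maxRecDepth 1000000 in
theorem inv_0_11 : invRowFI tgF 1539000 0 1 50000 550000 = true := by decide +kernel

set_option maxRecDepth 1000000 in
theorem inv_0_29 : invRowFI tgF 1539000 0 1 50000 1450000 = true := by decide +kernel

set_option maxRecDepth 1000000 in
theorem inv_2_17 : invRowFI tgF 1539000 2 3 50000 850000 = true := by decide +kernel

set_option maxRecDepth 1000000 in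
theorem inv_4_5 : invRowFI tgF 1539000 4 4 50000 250000 = true := by decide +kernel

set_option maxRecDepth 1000000 in
theorem inv_5_23 : invRowFI tgF 1539000 5 6 50000 1150000 = true := by decide +kernel

set_option maxRecDepth 1000000 in
theorem inv_7_11 : invRowFI tgF 1539000 7 8 50000 550000 = true := by decide +kernel

set_option maxRecDepth 1000000 in
theorem inv_8_29 : invRowFI tgF 1539000 8 7 50000 1450000 = true := by decide +kernel

end

end Cfsg.Agent.Helper5.HNM
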