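import Cfsg.Agent.Helper5.HNMDatD
import Cfsg.Agent.Helper5.HNMDatT
import Cfsg.Agent.Helper5.TCIB

/-! kernel checks of the coset table: HNM -/

set_option autoImplicit false
set_option Elab.async false

namespace Cfsg.Agent.Helper5.HNM
open Cfsg.Agent.Helper5.TC Cfsg.Agent.Helper5.TCI Cfsg.Agent.Helper5.TCS
noncomputable section

set_option maxRecDepth 1000000 in
theorem relc_18_8 : fixPtsF W_18 133333 1066664 = true := by decide +kernel

set_option maxRecDepth 1000000 in
theorem relc_11_18 : fixPtsF W_11 80000 1440000 = true := by decide +kernel

set_option maxRecDepth 1000000 in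
theorem relc_13_3 : fixPtsF W_13 66666 199998 = true := by decide +kernel

set_option maxRecDepth 1000000 in
theorem relc_2_28 : fixPtsF W_2 33333 933324 = true := by decide +kernel

set_option maxRecDepth 1000000 in
theorem relc_4_18 : fixPtsF W_4 25000 450000 = true := by decide +kernel

set_option maxRecDepth 1000000 in
theorem relc_8_5 : fixPtsF W_8 20000 100000 = true := by decide +kernel

set_option maxRecDepth 1000000 in
theorem relc_8_50 : fixPtsF W_8 20000 1000000 = true := by decide +kernel

set_option maxRecDepth 1000000 in
theorem relc_3_22 : fixPtsF W_3 19047 419034 = true := by decide +kernel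

set_option maxRecDepth 1000000 in
theorem relc_3_70 : fixPtsF W_3 19047 1333290 = true := by decide +kernel

set_option maxRecDepth 1000000 in
theorem relc_5_41 : fixPtsF W_5 16666 683306 = true := by decide +kernel

set_option maxRecDepth 1000000 in
theorem relc_5_89 : fixPtsF W_5 16666 1483274 = true := by decide +kernel

set_option maxRecDepth 1000000 in
theorem relc_9_53 : fixPtsF W_9 8163 432639 = true := by decide +kernel

set_option maxRecDepth 1000000 in
theorem relc_9_101 : fixPtsF W_9 8163 824463 = true := by decide +kernel

set_option maxRecDepth 1000000 in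
theorem relc_9_149 : fixPtsF W_9 8163 1216287 = true := by decide +kernel

set_option maxRecDepth 1000000 in
theorem inv_0_1 : invRowFI tgF 1539000 0 1 50000 50000 = true := by decide +kernel

set_option maxRecDepth 1000000 in
theorem inv_0_12 : invRowFI tgF 1539000 0 1 50000 600000 = true := by decide +kernel

set_option maxRecDepth 1000000 in
theorem inv_1_0 : invRowFI tgF 1539000 1 0 50000 0 = true := by decide +kernel

set_option maxRecDepth 1000000 in
theorem inv_2_18 : invRowFI tgF 1539000 2 3 50000 900000 = true := by decide +kernel

set_option maxRecDepth 1000000 in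
theorem inv_4_6 : invRowFI tgF 1539000 4 4 50000 300000 = true := by decide +kernel

set_option maxRecDepth 1000000 in
theorem inv_5_24 : invRowFI tgF 1539000 5 6 50000 1200000 = true := by decide +kernel

set_option maxRecDepth 1000000 in
theorem inv_7_12 : invRowFI tgF 1539000 7 8 50000 600000 = true := by decide +kernel

set_option maxRecDepth 1000000 in
theorem inv_0_30 : invRowFI tgF 1539000 0 1 39000 1500000 = true := by decide +kernel

end

end Cfsg.Agent.Helper5.HNM
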