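import Cfsg.Agent.Helper5.HNMDatD
import Cfsg.Agent.Helper5.HNMDatT
import Cfsg.Agent.Helper5.TCIB

/-! kernel checks of the coset table: HNM -/

set_option autoImplicit false
set_option Elab.async false

namespace Cfsg.Agent.Helper5.HNM
open Cfsg.Agent.Helper5.TC Cfsg.Agent.Helper5.TCI Cfsg.Agent.Helper5.TCS
noncomputable section

set_option maxRecDepth 1000000 in
theorem relc_18_9 : fixPtsF W_18 133333 1199997 = true := by decide +kernel

set_option maxRecDepth 1000000 in
theorem relc_0_0 : fixPtsF W_0 66666 0 = true := by decide +kernel

set_option maxRecDepth 1000000 in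
theorem relc_1_16 : fixPtsF W_1 66666 1066656 = true := by decide +kernel

set_option maxRecDepth 1000000 in
theorem relc_2_18 : fixPtsF W_2 33333 599994 = true := by decide +kernel

set_option maxRecDepth 1000000 in
theorem relc_4_8 : fixPtsF W_4 25000 200000 = true := by decide +kernel

set_option maxRecDepth 1000000 in
theorem relc_4_56 : fixPtsF W_4 25000 1400000 = true := by decide +kernel

set_option maxRecDepth 1000000 in
theorem relc_8_43 : fixPtsF W_8 20000 860000 = true := by decide +kernel

set_option maxRecDepth 1000000 in
theorem relc_3_15 : fixPtsF W_3 19047 285705 = true := by decide +kernel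

set_option maxRecDepth 1000000 in
theorem relc_3_63 : fixPtsF W_3 19047 1199961 = true := by decide +kernel

set_option maxRecDepth 1000000 in
theorem relc_5_31 : fixPtsF W_5 16666 516646 = true := by decide +kernel

set_option maxRecDepth 1000000 in
theorem relc_5_79 : fixPtsF W_5 16666 1316614 = true := by decide +kernel

set_option maxRecDepth 1000000 in
theorem relc_9_38 : fixPtsF W_9 8163 310194 = true := by decide +kernel

set_option maxRecDepth 1000000 in
theorem relc_9_86 : fixPtsF W_9 8163 702018 = true := by decide +kernel

set_option maxRecDepth 1000000 in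
theorem relc_9_134 : fixPtsF W_9 8163 1093842 = true := by decide +kernel

set_option maxRecDepth 1000000 in
theorem relc_9_182 : fixPtsF W_9 8163 1485666 = true := by decide +kernel

set_option maxRecDepth 1000000 in
theorem inv_2_1 : invRowFI tgF 1539000 2 3 50000 50000 = true := by decide +kernel

set_option maxRecDepth 1000000 in
theorem inv_3_19 : invRowFI tgF 1539000 3 2 50000 950000 = true := by decide +kernel

set_option maxRecDepth 1000000 in
theorem inv_5_7 : invRowFI tgF 1539000 5 6 50000 350000 = true := by decide +kernel

set_option maxRecDepth 1000000 in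
theorem inv_6_25 : invRowFI tgF 1539000 6 5 50000 1250000 = true := by decide +kernel

set_option maxRecDepth 1000000 in
theorem inv_8_13 : invRowFI tgF 1539000 8 7 50000 650000 = true := by decide +kernel

end

end Cfsg.Agent.Helper5.HNM
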