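import Cfsg.Agent.Helper5.HNMDatD
import Cfsg.Agent.Helper5.HNMDatT
import Cfsg.Agent.Helper5.TCIB

/-! kernel checks of the coset table: HNM -/

set_option autoImplicit false
set_option Elab.async false

namespace Cfsg.Agent.Helper5.HNM
open Cfsg.Agent.Helper5.TC Cfsg.Agent.Helper5.TCI Cfsg.Agent.Helper5.TCS
noncomputable section

set_option maxRecDepth 1000000 in
theorem relc_18_10 : fixPtsF W_18 133333 1333330 = true := by decide +kernel

set_option maxRecDepth 1000000 in
theorem relc_0_1 : fixPtsF W_0 66666 66666 = true := by decide +kernel

set_option maxRecDepth 1000000 in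
theorem relc_1_17 : fixPtsF W_1 66666 1133322 = true := by decide +kernel

set_option maxRecDepth 1000000 in
theorem relc_2_19 : fixPtsF W_2 33333 633327 = true := by decide +kernel

set_option maxRecDepth 1000000 in
theorem relc_4_9 : fixPtsF W_4 25000 225000 = true := by decide +kernel

set_option maxRecDepth 1000000 in
theorem relc_4_57 : fixPtsF W_4 25000 1425000 = true := by decide +kernel

set_option maxRecDepth 1000000 in
theorem relc_8_44 : fixPtsF W_8 20000 880000 = true := by decide +kernel

set_option maxRecDepth 1000000 in
theorem relc_3_16 : fixPtsF W_3 19047 304752 = true := by decide +kernel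

set_option maxRecDepth 1000000 in
theorem relc_3_64 : fixPtsF W_3 19047 1219008 = true := by decide +kernel

set_option maxRecDepth 1000000 in
theorem relc_5_32 : fixPtsF W_5 16666 533312 = true := by decide +kernel

set_option maxRecDepth 1000000 in
theorem relc_5_80 : fixPtsF W_5 16666 1333280 = true := by decide +kernel

set_option maxRecDepth 1000000 in
theorem relc_9_39 : fixPtsF W_9 8163 318357 = true := by decide +kernel

set_option maxRecDepth 1000000 in
theorem relc_9_87 : fixPtsF W_9 8163 710181 = true := by decide +kernel

set_option maxRecDepth 1000000 in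
theorem relc_9_135 : fixPtsF W_9 8163 1102005 = true := by decide +kernel

set_option maxRecDepth 1000000 in
theorem relc_9_183 : fixPtsF W_9 8163 1493829 = true := by decide +kernel

set_option maxRecDepth 1000000 in
theorem inv_2_2 : invRowFI tgF 1539000 2 3 50000 100000 = true := by decide +kernel

set_option maxRecDepth 1000000 in
theorem inv_3_20 : invRowFI tgF 1539000 3 2 50000 1000000 = true := by decide +kernel

set_option maxRecDepth 1000000 in
theorem inv_5_8 : invRowFI tgF 1539000 5 6 50000 400000 = true := by decide +kernel

set_option maxRecDepth 1000000 in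
theorem inv_6_26 : invRowFI tgF 1539000 6 5 50000 1300000 = true := by decide +kernel

set_option maxRecDepth 1000000 in
theorem inv_8_14 : invRowFI tgF 1539000 8 7 50000 700000 = true := by decide +kernel

end

end Cfsg.Agent.Helper5.HNM
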