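import Cfsg.Agent.Helper5.HNMDatD
import Cfsg.Agent.Helper5.HNMDatT
import Cfsg.Agent.Helper5.TCIB

/-! kernel checks of the coset table: HNM -/

set_option autoImplicit false
set_option Elab.async false

namespace Cfsg.Agent.Helper5.HNM
open Cfsg.Agent.Helper5.TC Cfsg.Agent.Helper5.TCI Cfsg.Agent.Helper5.TCS
noncomputable section

set_option maxRecDepth 1000000 in
theorem relc_7_0 : fixPtsF W_7 100000 0 = true := by decide +kernel

set_option maxRecDepth 1000000 in
theorem relc_6_7 : fixPtsF W_6 139000 1400000 = true := by decide +kernel

set_option maxRecDepth 1000000 in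
theorem relc_1_15 : fixPtsF W_1 66666 999990 = true := by decide +kernel

set_option maxRecDepth 1000000 in
theorem relc_2_17 : fixPtsF W_2 33333 566661 = true := by decide +kernel

set_option maxRecDepth 1000000 in
theorem relc_4_7 : fixPtsF W_4 25000 175000 = true := by decide +kernel

set_option maxRecDepth 1000000 in
theorem relc_4_55 : fixPtsF W_4 25000 1375000 = true := by decide +kernel

set_option maxRecDepth 1000000 in
theorem relc_8_42 : fixPtsF W_8 20000 840000 = true := by decide +kernel

set_option maxRecDepth 1000000 in
theorem relc_3_14 : fixPtsF W_3 19047 266658 = true := by decide +kernel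

set_option maxRecDepth 1000000 in
theorem relc_3_62 : fixPtsF W_3 19047 1180914 = true := by decide +kernel

set_option maxRecDepth 1000000 in
theorem relc_5_30 : fixPtsF W_5 16666 499980 = true := by decide +kernel

set_option maxRecDepth 1000000 in
theorem relc_5_78 : fixPtsF W_5 16666 1299948 = true := by decide +kernel

set_option maxRecDepth 1000000 in
theorem relc_9_32 : fixPtsF W_9 8163 261216 = true := by decide +kernel

set_option maxRecDepth 1000000 in
theorem relc_9_80 : fixPtsF W_9 8163 653040 = true := by decide +kernel

set_option maxRecDepth 1000000 in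
theorem relc_9_128 : fixPtsF W_9 8163 1044864 = true := by decide +kernel

set_option maxRecDepth 1000000 in
theorem relc_9_176 : fixPtsF W_9 8163 1436688 = true := by decide +kernel

set_option maxRecDepth 1000000 in
theorem inv_1_25 : invRowFI tgF 1539000 1 0 50000 1250000 = true := by decide +kernel

set_option maxRecDepth 1000000 in
theorem inv_3_13 : invRowFI tgF 1539000 3 2 50000 650000 = true := by decide +kernel

set_option maxRecDepth 1000000 in
theorem inv_5_1 : invRowFI tgF 1539000 5 6 50000 50000 = true := by decide +kernel

set_option maxRecDepth 1000000 in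
theorem inv_6_19 : invRowFI tgF 1539000 6 5 50000 950000 = true := by decide +kernel

set_option maxRecDepth 1000000 in
theorem inv_8_7 : invRowFI tgF 1539000 8 7 50000 350000 = true := by decide +kernel

end

end Cfsg.Agent.Helper5.HNM
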