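import Cfsg.Agent.Helper5.HNMDatD
import Cfsg.Agent.Helper5.HNMDatT
import Cfsg.Agent.Helper5.TCIB

/-! kernel checks of the coset table: HNM -/

set_option autoImplicit false
set_option Elab.async false

namespace Cfsg.Agent.Helper5.HNM
open Cfsg.Agent.Helper5.TC Cfsg.Agent.Helper5.TCI Cfsg.Agent.Helper5.TCS
noncomputable section

set_option maxRecDepth 1000000 in
theorem relc_7_2 : fixPtsF W_7 100000 200000 = true := by decide +kernel

set_option maxRecDepth 1000000 in
theorem relc_10_1 : fixPtsF W_10 80000 80000 = true := by decide +kernel

set_option maxRecDepth 1000000 in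
theorem relc_0_10 : fixPtsF W_0 66666 666660 = true := by decide +kernel

set_option maxRecDepth 1000000 in
theorem relc_13_12 : fixPtsF W_13 66666 799992 = true := by decide +kernel

set_option maxRecDepth 1000000 in
theorem relc_4_20 : fixPtsF W_4 25000 500000 = true := by decide +kernel

set_option maxRecDepth 1000000 in
theorem relc_8_7 : fixPtsF W_8 20000 140000 = true := by decide +kernel

set_option maxRecDepth 1000000 in
theorem relc_8_52 : fixPtsF W_8 20000 1040000 = true := by decide +kernel

set_option maxRecDepth 1000000 in
theorem relc_3_24 : fixPtsF W_3 19047 457128 = true := by decide +kernel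

set_option maxRecDepth 1000000 in
theorem relc_3_72 : fixPtsF W_3 19047 1371384 = true := by decide +kernel

set_option maxRecDepth 1000000 in
theorem relc_5_43 : fixPtsF W_5 16666 716638 = true := by decide +kernel

set_option maxRecDepth 1000000 in
theorem relc_5_91 : fixPtsF W_5 16666 1516606 = true := by decide +kernel

set_option maxRecDepth 1000000 in
theorem relc_9_55 : fixPtsF W_9 8163 448965 = true := by decide +kernel

set_option maxRecDepth 1000000 in
theorem relc_9_103 : fixPtsF W_9 8163 840789 = true := by decide +kernel

set_option maxRecDepth 1000000 in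
theorem relc_9_151 : fixPtsF W_9 8163 1232613 = true := by decide +kernel

set_option maxRecDepth 1000000 in
theorem inv_0_3 : invRowFI tgF 1539000 0 1 50000 150000 = true := by decide +kernel

set_option maxRecDepth 1000000 in
theorem inv_0_14 : invRowFI tgF 1539000 0 1 50000 700000 = true := by decide +kernel

set_option maxRecDepth 1000000 in
theorem inv_1_2 : invRowFI tgF 1539000 1 0 50000 100000 = true := by decide +kernel

set_option maxRecDepth 1000000 in
theorem inv_2_20 : invRowFI tgF 1539000 2 3 50000 1000000 = true := by decide +kernel

set_option maxRecDepth 1000000 in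
theorem inv_4_8 : invRowFI tgF 1539000 4 4 50000 400000 = true := by decide +kernel

set_option maxRecDepth 1000000 in
theorem inv_5_26 : invRowFI tgF 1539000 5 6 50000 1300000 = true := by decide +kernel

set_option maxRecDepth 1000000 in
theorem inv_7_14 : invRowFI tgF 1539000 7 8 50000 700000 = true := by decide +kernel

set_option maxRecDepth 1000000 in
theorem inv_2_30 : invRowFI tgF 1539000 2 3 39000 1500000 = true := by decide +kernel

end

end Cfsg.Agent.Helper5.HNM
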