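import Cfsg.Agent.Helper5.HNMDatD
import Cfsg.Agent.Helper5.HNMDatT
import Cfsg.Agent.Helper5.TCIB

/-! kernel checks of the coset table: HNM -/

set_option autoImplicit false
set_option Elab.async false

namespace Cfsg.Agent.Helper5.HNM
open Cfsg.Agent.Helper5.TC Cfsg.Agent.Helper5.TCI Cfsg.Agent.Helper5.TCS
noncomputable section

set_option maxRecDepth 1000000 in
theorem relc_7_3 : fixPtsF W_7 100000 300000 = true := by decide +kernel

set_option maxRecDepth 1000000 in
theorem relc_10_2 : fixPtsF W_10 80000 160000 = true := by decide +kernel

set_option maxRecDepth 1000000 in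
theorem relc_0_11 : fixPtsF W_0 66666 733326 = true := by decide +kernel

set_option maxRecDepth 1000000 in
theorem relc_13_13 : fixPtsF W_13 66666 866658 = true := by decide +kernel

set_option maxRecDepth 1000000 in
theorem relc_4_21 : fixPtsF W_4 25000 525000 = true := by decide +kernel

set_option maxRecDepth 1000000 in
theorem relc_8_8 : fixPtsF W_8 20000 160000 = true := by decide +kernel

set_option maxRecDepth 1000000 in
theorem relc_8_53 : fixPtsF W_8 20000 1060000 = true := by decide +kernel

set_option maxRecDepth 1000000 in
theorem relc_3_25 : fixPtsF W_3 19047 476175 = true := by decide +kernel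

set_option maxRecDepth 1000000 in
theorem relc_3_73 : fixPtsF W_3 19047 1390431 = true := by decide +kernel

set_option maxRecDepth 1000000 in
theorem relc_5_44 : fixPtsF W_5 16666 733304 = true := by decide +kernel

set_option maxRecDepth 1000000 in
theorem relc_8_76 : fixPtsF W_8 19000 1520000 = true := by decide +kernel

set_option maxRecDepth 1000000 in
theorem relc_9_44 : fixPtsF W_9 8163 359172 = true := by decide +kernel

set_option maxRecDepth 1000000 in
theorem relc_9_92 : fixPtsF W_9 8163 750996 = true := by decide +kernel

set_option maxRecDepth 1000000 in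
theorem relc_9_140 : fixPtsF W_9 8163 1142820 = true := by decide +kernel

set_option maxRecDepth 1000000 in
theorem relc_3_80 : fixPtsF W_3 15240 1523760 = true := by decide +kernel

set_option maxRecDepth 1000000 in
theorem inv_1_13 : invRowFI tgF 1539000 1 0 50000 650000 = true := by decide +kernel

set_option maxRecDepth 1000000 in
theorem inv_3_1 : invRowFI tgF 1539000 3 2 50000 50000 = true := by decide +kernel

set_option maxRecDepth 1000000 in
theorem inv_4_19 : invRowFI tgF 1539000 4 4 50000 950000 = true := by decide +kernel

set_option maxRecDepth 1000000 in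
theorem inv_6_7 : invRowFI tgF 1539000 6 5 50000 350000 = true := by decide +kernel

set_option maxRecDepth 1000000 in
theorem inv_7_25 : invRowFI tgF 1539000 7 8 50000 1250000 = true := by decide +kernel

end

end Cfsg.Agent.Helper5.HNM
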