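import Cfsg.Agent.Helper5.HNMDatD
import Cfsg.Agent.Helper5.HNMDatT
import Cfsg.Agent.Helper5.TCIB

/-! kernel checks of the coset table: HNM -/

set_option autoImplicit false
set_option Elab.async false

namespace Cfsg.Agent.Helper5.HNM
open Cfsg.Agent.Helper5.TC Cfsg.Agent.Helper5.TCI Cfsg.Agent.Helper5.TCS
noncomputable section

set_option maxRecDepth 1000000 in
theorem relc_7_4 : fixPtsF W_7 100000 400000 = true := by decide +kernel

set_option maxRecDepth 1000000 in
theorem relc_10_3 : fixPtsF W_10 80000 240000 = true := by decide +kernel

set_option maxRecDepth 1000000 in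
theorem relc_0_12 : fixPtsF W_0 66666 799992 = true := by decide +kernel

set_option maxRecDepth 1000000 in
theorem relc_13_14 : fixPtsF W_13 66666 933324 = true := by decide +kernel

set_option maxRecDepth 1000000 in
theorem relc_4_22 : fixPtsF W_4 25000 550000 = true := by decide +kernel

set_option maxRecDepth 1000000 in
theorem relc_8_9 : fixPtsF W_8 20000 180000 = true := by decide +kernel

set_option maxRecDepth 1000000 in
theorem relc_8_54 : fixPtsF W_8 20000 1080000 = true := by decide +kernel

set_option maxRecDepth 1000000 in
theorem relc_3_26 : fixPtsF W_3 19047 495222 = true := by decide +kernel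

set_option maxRecDepth 1000000 in
theorem relc_3_74 : fixPtsF W_3 19047 1409478 = true := by decide +kernel

set_option maxRecDepth 1000000 in
theorem relc_5_45 : fixPtsF W_5 16666 749970 = true := by decide +kernel

set_option maxRecDepth 1000000 in
theorem relc_18_11 : fixPtsF W_18 72337 1466663 = true := by decide +kernel

set_option maxRecDepth 1000000 in
theorem relc_9_43 : fixPtsF W_9 8163 351009 = true := by decide +kernel

set_option maxRecDepth 1000000 in
theorem relc_9_91 : fixPtsF W_9 8163 742833 = true := by decide +kernel

set_option maxRecDepth 1000000 in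
theorem relc_9_139 : fixPtsF W_9 8163 1134657 = true := by decide +kernel

set_option maxRecDepth 1000000 in
theorem relc_9_187 : fixPtsF W_9 8163 1526481 = true := by decide +kernel

set_option maxRecDepth 1000000 in
theorem inv_2_6 : invRowFI tgF 1539000 2 3 50000 300000 = true := by decide +kernel

set_option maxRecDepth 1000000 in
theorem inv_3_24 : invRowFI tgF 1539000 3 2 50000 1200000 = true := by decide +kernel

set_option maxRecDepth 1000000 in
theorem inv_5_12 : invRowFI tgF 1539000 5 6 50000 600000 = true := by decide +kernel

set_option maxRecDepth 1000000 in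
theorem inv_7_0 : invRowFI tgF 1539000 7 8 50000 0 = true := by decide +kernel

set_option maxRecDepth 1000000 in
theorem inv_8_18 : invRowFI tgF 1539000 8 7 50000 900000 = true := by decide +kernel

end

end Cfsg.Agent.Helper5.HNM
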