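import Cfsg.Agent.Helper5.HNMDatD
import Cfsg.Agent.Helper5.HNMDatT
import Cfsg.Agent.Helper5.TCIB

/-! kernel checks of the coset table: HNM -/

set_option autoImplicit false
set_option Elab.async false

namespace Cfsg.Agent.Helper5.HNM
open Cfsg.Agent.Helper5.TC Cfsg.Agent.Helper5.TCI Cfsg.Agent.Helper5.TCS
noncomputable section

set_option maxRecDepth 1000000 in
theorem relc_7_5 : fixPtsF W_7 100000 500000 = true := by decide +kernel

set_option maxRecDepth 1000000 in
theorem relc_10_4 : fixPtsF W_10 80000 320000 = true := by decide +kernel

set_option maxRecDepth 1000000 in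
theorem relc_0_13 : fixPtsF W_0 66666 866658 = true := by decide +kernel

set_option maxRecDepth 1000000 in
theorem relc_13_15 : fixPtsF W_13 66666 999990 = true := by decide +kernel

set_option maxRecDepth 1000000 in
theorem relc_4_23 : fixPtsF W_4 25000 575000 = true := by decide +kernel

set_option maxRecDepth 1000000 in
theorem relc_8_10 : fixPtsF W_8 20000 200000 = true := by decide +kernel

set_option maxRecDepth 1000000 in
theorem relc_8_55 : fixPtsF W_8 20000 1100000 = true := by decide +kernel

set_option maxRecDepth 1000000 in
theorem relc_3_27 : fixPtsF W_3 19047 514269 = true := by decide +kernel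

set_option maxRecDepth 1000000 in
theorem relc_3_75 : fixPtsF W_3 19047 1428525 = true := by decide +kernel

set_option maxRecDepth 1000000 in
theorem relc_5_46 : fixPtsF W_5 16666 766636 = true := by decide +kernel

set_option maxRecDepth 1000000 in
theorem relc_9_0 : fixPtsF W_9 8163 0 = true := by decide +kernel

set_option maxRecDepth 1000000 in
theorem relc_9_33 : fixPtsF W_9 8163 269379 = true := by decide +kernel

set_option maxRecDepth 1000000 in
theorem relc_9_81 : fixPtsF W_9 8163 661203 = true := by decide +kernel

set_option maxRecDepth 1000000 in
theorem relc_9_129 : fixPtsF W_9 8163 1053027 = true := by decide +kernel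

set_option maxRecDepth 1000000 in
theorem relc_9_177 : fixPtsF W_9 8163 1444851 = true := by decide +kernel

set_option maxRecDepth 1000000 in
theorem inv_1_26 : invRowFI tgF 1539000 1 0 50000 1300000 = true := by decide +kernel

set_option maxRecDepth 1000000 in
theorem inv_3_14 : invRowFI tgF 1539000 3 2 50000 700000 = true := by decide +kernel

set_option maxRecDepth 1000000 in
theorem inv_5_2 : invRowFI tgF 1539000 5 6 50000 100000 = true := by decide +kernel

set_option maxRecDepth 1000000 in
theorem inv_6_20 : invRowFI tgF 1539000 6 5 50000 1000000 = true := by decide +kernel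

set_option maxRecDepth 1000000 in
theorem inv_8_8 : invRowFI tgF 1539000 8 7 50000 400000 = true := by decide +kernel

end

end Cfsg.Agent.Helper5.HNM
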