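import Cfsg.Agent.Helper5.HNMDatD
import Cfsg.Agent.Helper5.HNMDatT
import Cfsg.Agent.Helper5.TCIB

/-! kernel checks of the coset table: HNM -/

set_option autoImplicit false
set_option Elab.async false

namespace Cfsg.Agent.Helper5.HNM
open Cfsg.Agent.Helper5.TC Cfsg.Agent.Helper5.TCI Cfsg.Agent.Helper5.TCS
noncomputable section

set_option maxRecDepth 1000000 in
theorem relc_7_6 : fixPtsF W_7 100000 600000 = true := by decide +kernel

set_option maxRecDepth 1000000 in
theorem relc_10_5 : fixPtsF W_10 80000 400000 = true := by decide +kernel

set_option maxRecDepth 1000000 in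
theorem relc_0_14 : fixPtsF W_0 66666 933324 = true := by decide +kernel

set_option maxRecDepth 1000000 in
theorem relc_13_16 : fixPtsF W_13 66666 1066656 = true := by decide +kernel

set_option maxRecDepth 1000000 in
theorem relc_4_24 : fixPtsF W_4 25000 600000 = true := by decide +kernel

set_option maxRecDepth 1000000 in
theorem relc_8_11 : fixPtsF W_8 20000 220000 = true := by decide +kernel

set_option maxRecDepth 1000000 in
theorem relc_8_56 : fixPtsF W_8 20000 1120000 = true := by decide +kernel

set_option maxRecDepth 1000000 in
theorem relc_3_28 : fixPtsF W_3 19047 533316 = true := by decide +kernel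

set_option maxRecDepth 1000000 in
theorem relc_3_76 : fixPtsF W_3 19047 1447572 = true := by decide +kernel

set_option maxRecDepth 1000000 in
theorem relc_5_47 : fixPtsF W_5 16666 783302 = true := by decide +kernel

set_option maxRecDepth 1000000 in
theorem relc_9_1 : fixPtsF W_9 8163 8163 = true := by decide +kernel

set_option maxRecDepth 1000000 in
theorem relc_9_34 : fixPtsF W_9 8163 277542 = true := by decide +kernel

set_option maxRecDepth 1000000 in
theorem relc_9_82 : fixPtsF W_9 8163 669366 = true := by decide +kernel

set_option maxRecDepth 1000000 in
theorem relc_9_130 : fixPtsF W_9 8163 1061190 = true := by decide +kernel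

set_option maxRecDepth 1000000 in
theorem relc_9_178 : fixPtsF W_9 8163 1453014 = true := by decide +kernel

set_option maxRecDepth 1000000 in
theorem inv_1_27 : invRowFI tgF 1539000 1 0 50000 1350000 = true := by decide +kernel

set_option maxRecDepth 1000000 in
theorem inv_3_15 : invRowFI tgF 1539000 3 2 50000 750000 = true := by decide +kernel

set_option maxRecDepth 1000000 in
theorem inv_5_3 : invRowFI tgF 1539000 5 6 50000 150000 = true := by decide +kernel

set_option maxRecDepth 1000000 in
theorem inv_6_21 : invRowFI tgF 1539000 6 5 50000 1050000 = true := by decide +kernel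

set_option maxRecDepth 1000000 in
theorem inv_8_9 : invRowFI tgF 1539000 8 7 50000 450000 = true := by decide +kernel

end

end Cfsg.Agent.Helper5.HNM
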