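import Cfsg.Agent.Helper5.HNMDatD
import Cfsg.Agent.Helper5.HNMDatT
import Cfsg.Agent.Helper5.TCIB

/-! kernel checks of the coset table: HNM -/

set_option autoImplicit false
set_option Elab.async false

namespace Cfsg.Agent.Helper5.HNM
open Cfsg.Agent.Helper5.TC Cfsg.Agent.Helper5.TCI Cfsg.Agent.Helper5.TCS
noncomputable section

set_option maxRecDepth 1000000 in
theorem relc_7_7 : fixPtsF W_7 100000 700000 = true := by decide +kernel

set_option maxRecDepth 1000000 in
theorem relc_10_6 : fixPtsF W_10 80000 480000 = true := by decide +kernel

set_option maxRecDepth 1000000 in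
theorem relc_0_15 : fixPtsF W_0 66666 999990 = true := by decide +kernel

set_option maxRecDepth 1000000 in
theorem relc_13_17 : fixPtsF W_13 66666 1133322 = true := by decide +kernel

set_option maxRecDepth 1000000 in
theorem relc_4_25 : fixPtsF W_4 25000 625000 = true := by decide +kernel

set_option maxRecDepth 1000000 in
theorem relc_8_12 : fixPtsF W_8 20000 240000 = true := by decide +kernel

set_option maxRecDepth 1000000 in
theorem relc_8_57 : fixPtsF W_8 20000 1140000 = true := by decide +kernel

set_option maxRecDepth 1000000 in
theorem relc_3_29 : fixPtsF W_3 19047 552363 = true := by decide +kernel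

set_option maxRecDepth 1000000 in
theorem relc_3_77 : fixPtsF W_3 19047 1466619 = true := by decide +kernel

set_option maxRecDepth 1000000 in
theorem relc_5_48 : fixPtsF W_5 16666 799968 = true := by decide +kernel

set_option maxRecDepth 1000000 in
theorem relc_9_2 : fixPtsF W_9 8163 16326 = true := by decide +kernel

set_option maxRecDepth 1000000 in
theorem relc_9_35 : fixPtsF W_9 8163 285705 = true := by decide +kernel

set_option maxRecDepth 1000000 in
theorem relc_9_83 : fixPtsF W_9 8163 677529 = true := by decide +kernel

set_option maxRecDepth 1000000 in
theorem relc_9_131 : fixPtsF W_9 8163 1069353 = true := by decide +kernel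

set_option maxRecDepth 1000000 in
theorem relc_9_179 : fixPtsF W_9 8163 1461177 = true := by decide +kernel

set_option maxRecDepth 1000000 in
theorem inv_1_28 : invRowFI tgF 1539000 1 0 50000 1400000 = true := by decide +kernel

set_option maxRecDepth 1000000 in
theorem inv_3_16 : invRowFI tgF 1539000 3 2 50000 800000 = true := by decide +kernel

set_option maxRecDepth 1000000 in
theorem inv_5_4 : invRowFI tgF 1539000 5 6 50000 200000 = true := by decide +kernel

set_option maxRecDepth 1000000 in
theorem inv_6_22 : invRowFI tgF 1539000 6 5 50000 1100000 = true := by decide +kernel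

set_option maxRecDepth 1000000 in
theorem inv_8_10 : invRowFI tgF 1539000 8 7 50000 500000 = true := by decide +kernel

end

end Cfsg.Agent.Helper5.HNM
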