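import Cfsg.Agent.Helper5.HNMDatD
import Cfsg.Agent.Helper5.HNMDatT
import Cfsg.Agent.Helper5.TCIB

/-! kernel checks of the coset table: HNM -/

set_option autoImplicit false
set_option Elab.async false

namespace Cfsg.Agent.Helper5.HNM
open Cfsg.Agent.Helper5.TC Cfsg.Agent.Helper5.TCI Cfsg.Agent.Helper5.TCS
noncomputable section

set_option maxRecDepth 1000000 in
theorem relc_7_8 : fixPtsF W_7 100000 800000 = true := by decide +kernel

set_option maxRecDepth 1000000 in
theorem relc_10_7 : fixPtsF W_10 80000 560000 = true := by decide +kernel

set_option maxRecDepth 1000000 in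
theorem relc_0_16 : fixPtsF W_0 66666 1066656 = true := by decide +kernel

set_option maxRecDepth 1000000 in
theorem relc_13_18 : fixPtsF W_13 66666 1199988 = true := by decide +kernel

set_option maxRecDepth 1000000 in
theorem relc_4_26 : fixPtsF W_4 25000 650000 = true := by decide +kernel

set_option maxRecDepth 1000000 in
theorem relc_8_13 : fixPtsF W_8 20000 260000 = true := by decide +kernel

set_option maxRecDepth 1000000 in
theorem relc_8_58 : fixPtsF W_8 20000 1160000 = true := by decide +kernel

set_option maxRecDepth 1000000 in
theorem relc_3_30 : fixPtsF W_3 19047 571410 = true := by decide +kernel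

set_option maxRecDepth 1000000 in
theorem relc_3_78 : fixPtsF W_3 19047 1485666 = true := by decide +kernel

set_option maxRecDepth 1000000 in
theorem relc_5_49 : fixPtsF W_5 16666 816634 = true := by decide +kernel

set_option maxRecDepth 1000000 in
theorem relc_9_3 : fixPtsF W_9 8163 24489 = true := by decide +kernel

set_option maxRecDepth 1000000 in
theorem relc_9_36 : fixPtsF W_9 8163 293868 = true := by decide +kernel

set_option maxRecDepth 1000000 in
theorem relc_9_84 : fixPtsF W_9 8163 685692 = true := by decide +kernel

set_option maxRecDepth 1000000 in
theorem relc_9_132 : fixPtsF W_9 8163 1077516 = true := by decide +kernel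

set_option maxRecDepth 1000000 in
theorem relc_9_180 : fixPtsF W_9 8163 1469340 = true := by decide +kernel

set_option maxRecDepth 1000000 in
theorem inv_1_29 : invRowFI tgF 1539000 1 0 50000 1450000 = true := by decide +kernel

set_option maxRecDepth 1000000 in
theorem inv_3_17 : invRowFI tgF 1539000 3 2 50000 850000 = true := by decide +kernel

set_option maxRecDepth 1000000 in
theorem inv_5_5 : invRowFI tgF 1539000 5 6 50000 250000 = true := by decide +kernel

set_option maxRecDepth 1000000 in
theorem inv_6_23 : invRowFI tgF 1539000 6 5 50000 1150000 = true := by decide +kernel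

set_option maxRecDepth 1000000 in
theorem inv_8_11 : invRowFI tgF 1539000 8 7 50000 550000 = true := by decide +kernel

end

end Cfsg.Agent.Helper5.HNM
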