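import Cfsg.Agent.Helper5.HNMDatD
import Cfsg.Agent.Helper5.HNMDatT
import Cfsg.Agent.Helper5.TCIB

/-! kernel checks of the coset table: HNM -/

set_option autoImplicit false
set_option Elab.async false

namespace Cfsg.Agent.Helper5.HNM
open Cfsg.Agent.Helper5.TC Cfsg.Agent.Helper5.TCI Cfsg.Agent.Helper5.TCS
noncomputable section

set_option maxRecDepth 1000000 in
theorem relc_7_9 : fixPtsF W_7 100000 900000 = true := by decide +kernel

set_option maxRecDepth 1000000 in
theorem relc_10_8 : fixPtsF W_10 80000 640000 = true := by decide +kernel

set_option maxRecDepth 1000000 in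
theorem relc_0_17 : fixPtsF W_0 66666 1133322 = true := by decide +kernel

set_option maxRecDepth 1000000 in
theorem relc_13_19 : fixPtsF W_13 66666 1266654 = true := by decide +kernel

set_option maxRecDepth 1000000 in
theorem relc_4_27 : fixPtsF W_4 25000 675000 = true := by decide +kernel

set_option maxRecDepth 1000000 in
theorem relc_8_14 : fixPtsF W_8 20000 280000 = true := by decide +kernel

set_option maxRecDepth 1000000 in
theorem relc_8_59 : fixPtsF W_8 20000 1180000 = true := by decide +kernel

set_option maxRecDepth 1000000 in
theorem relc_3_31 : fixPtsF W_3 19047 590457 = true := by decide +kernel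

set_option maxRecDepth 1000000 in
theorem relc_3_79 : fixPtsF W_3 19047 1504713 = true := by decide +kernel

set_option maxRecDepth 1000000 in
theorem relc_5_50 : fixPtsF W_5 16666 833300 = true := by decide +kernel

set_option maxRecDepth 1000000 in
theorem relc_9_4 : fixPtsF W_9 8163 32652 = true := by decide +kernel

set_option maxRecDepth 1000000 in
theorem relc_9_37 : fixPtsF W_9 8163 302031 = true := by decide +kernel

set_option maxRecDepth 1000000 in
theorem relc_9_85 : fixPtsF W_9 8163 693855 = true := by decide +kernel

set_option maxRecDepth 1000000 in
theorem relc_9_133 : fixPtsF W_9 8163 1085679 = true := by decide +kernel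

set_option maxRecDepth 1000000 in
theorem relc_9_181 : fixPtsF W_9 8163 1477503 = true := by decide +kernel

set_option maxRecDepth 1000000 in
theorem inv_2_0 : invRowFI tgF 1539000 2 3 50000 0 = true := by decide +kernel

set_option maxRecDepth 1000000 in
theorem inv_3_18 : invRowFI tgF 1539000 3 2 50000 900000 = true := by decide +kernel

set_option maxRecDepth 1000000 in
theorem inv_5_6 : invRowFI tgF 1539000 5 6 50000 300000 = true := by decide +kernel

set_option maxRecDepth 1000000 in
theorem inv_6_24 : invRowFI tgF 1539000 6 5 50000 1200000 = true := by decide +kernel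

set_option maxRecDepth 1000000 in
theorem inv_8_12 : invRowFI tgF 1539000 8 7 50000 600000 = true := by decide +kernel

end

end Cfsg.Agent.Helper5.HNM
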