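import Cfsg.Agent.Helper5.HNMDatD
import Cfsg.Agent.Helper5.HNMDatT
import Cfsg.Agent.Helper5.TCIB

/-! kernel checks of the coset table: HNM -/

set_option autoImplicit false
set_option Elab.async false

namespace Cfsg.Agent.Helper5.HNM
open Cfsg.Agent.Helper5.TC Cfsg.Agent.Helper5.TCI Cfsg.Agent.Helper5.TCS
noncomputable section

set_option maxRecDepth 1000000 in
theorem relc_7_10 : fixPtsF W_7 100000 1000000 = true := by decide +kernel

set_option maxRecDepth 1000000 in
theorem relc_10_9 : fixPtsF W_10 80000 720000 = true := by decide +kernel

set_option maxRecDepth 1000000 in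
theorem relc_0_18 : fixPtsF W_0 66666 1199988 = true := by decide +kernel

set_option maxRecDepth 1000000 in
theorem relc_13_20 : fixPtsF W_13 66666 1333320 = true := by decide +kernel

set_option maxRecDepth 1000000 in
theorem relc_4_28 : fixPtsF W_4 25000 700000 = true := by decide +kernel

set_option maxRecDepth 1000000 in
theorem relc_8_15 : fixPtsF W_8 20000 300000 = true := by decide +kernel

set_option maxRecDepth 1000000 in
theorem relc_8_60 : fixPtsF W_8 20000 1200000 = true := by decide +kernel

set_option maxRecDepth 1000000 in
theorem relc_3_32 : fixPtsF W_3 19047 609504 = true := by decide +kernel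

set_option maxRecDepth 1000000 in
theorem relc_5_0 : fixPtsF W_5 16666 0 = true := by decide +kernel

set_option maxRecDepth 1000000 in
theorem relc_5_33 : fixPtsF W_5 16666 549978 = true := by decide +kernel

set_option maxRecDepth 1000000 in
theorem relc_5_81 : fixPtsF W_5 16666 1349946 = true := by decide +kernel

set_option maxRecDepth 1000000 in
theorem relc_9_45 : fixPtsF W_9 8163 367335 = true := by decide +kernel

set_option maxRecDepth 1000000 in
theorem relc_9_93 : fixPtsF W_9 8163 759159 = true := by decide +kernel

set_option maxRecDepth 1000000 in
theorem relc_9_141 : fixPtsF W_9 8163 1150983 = true := by decide +kernel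

set_option maxRecDepth 1000000 in
theorem relc_7_15 : fixPtsF W_7 39000 1500000 = true := by decide +kernel

set_option maxRecDepth 1000000 in
theorem inv_0_20 : invRowFI tgF 1539000 0 1 50000 1000000 = true := by decide +kernel

set_option maxRecDepth 1000000 in
theorem inv_2_8 : invRowFI tgF 1539000 2 3 50000 400000 = true := by decide +kernel

set_option maxRecDepth 1000000 in
theorem inv_3_26 : invRowFI tgF 1539000 3 2 50000 1300000 = true := by decide +kernel

set_option maxRecDepth 1000000 in
theorem inv_5_14 : invRowFI tgF 1539000 5 6 50000 700000 = true := by decide +kernel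

set_option maxRecDepth 1000000 in
theorem inv_7_2 : invRowFI tgF 1539000 7 8 50000 100000 = true := by decide +kernel

set_option maxRecDepth 1000000 in
theorem inv_8_20 : invRowFI tgF 1539000 8 7 50000 1000000 = true := by decide +kernel

end

end Cfsg.Agent.Helper5.HNM
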