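import Cfsg.Agent.Helper5.HNMDatD
import Cfsg.Agent.Helper5.HNMDatT
import Cfsg.Agent.Helper5.TCIB

/-! kernel checks of the coset table: HNM -/

set_option autoImplicit false
set_option Elab.async false

namespace Cfsg.Agent.Helper5.HNM
open Cfsg.Agent.Helper5.TC Cfsg.Agent.Helper5.TCI Cfsg.Agent.Helper5.TCS
noncomputable section

set_option maxRecDepth 1000000 in
theorem relc_7_11 : fixPtsF W_7 100000 1100000 = true := by decide +kernel

set_option maxRecDepth 1000000 in
theorem relc_10_10 : fixPtsF W_10 80000 800000 = true := by decide +kernel

set_option maxRecDepth 1000000 in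
theorem relc_0_19 : fixPtsF W_0 66666 1266654 = true := by decide +kernel

set_option maxRecDepth 1000000 in
theorem relc_13_21 : fixPtsF W_13 66666 1399986 = true := by decide +kernel

set_option maxRecDepth 1000000 in
theorem relc_4_29 : fixPtsF W_4 25000 725000 = true := by decide +kernel

set_option maxRecDepth 1000000 in
theorem relc_8_16 : fixPtsF W_8 20000 320000 = true := by decide +kernel

set_option maxRecDepth 1000000 in
theorem relc_8_61 : fixPtsF W_8 20000 1220000 = true := by decide +kernel

set_option maxRecDepth 1000000 in
theorem relc_3_33 : fixPtsF W_3 19047 628551 = true := by decide +kernel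

set_option maxRecDepth 1000000 in
theorem relc_5_1 : fixPtsF W_5 16666 16666 = true := by decide +kernel

set_option maxRecDepth 1000000 in
theorem relc_5_34 : fixPtsF W_5 16666 566644 = true := by decide +kernel

set_option maxRecDepth 1000000 in
theorem relc_5_82 : fixPtsF W_5 16666 1366612 = true := by decide +kernel

set_option maxRecDepth 1000000 in
theorem relc_9_46 : fixPtsF W_9 8163 375498 = true := by decide +kernel

set_option maxRecDepth 1000000 in
theorem relc_9_94 : fixPtsF W_9 8163 767322 = true := by decide +kernel

set_option maxRecDepth 1000000 in
theorem relc_9_142 : fixPtsF W_9 8163 1159146 = true := by decide +kernel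

set_option maxRecDepth 1000000 in
theorem relc_12_15 : fixPtsF W_12 39000 1500000 = true := by decide +kernel

set_option maxRecDepth 1000000 in
theorem inv_0_21 : invRowFI tgF 1539000 0 1 50000 1050000 = true := by decide +kernel

set_option maxRecDepth 1000000 in
theorem inv_2_9 : invRowFI tgF 1539000 2 3 50000 450000 = true := by decide +kernel

set_option maxRecDepth 1000000 in
theorem inv_3_27 : invRowFI tgF 1539000 3 2 50000 1350000 = true := by decide +kernel

set_option maxRecDepth 1000000 in
theorem inv_5_15 : invRowFI tgF 1539000 5 6 50000 750000 = true := by decide +kernel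

set_option maxRecDepth 1000000 in
theorem inv_7_3 : invRowFI tgF 1539000 7 8 50000 150000 = true := by decide +kernel

set_option maxRecDepth 1000000 in
theorem inv_8_21 : invRowFI tgF 1539000 8 7 50000 1050000 = true := by decide +kernel

end

end Cfsg.Agent.Helper5.HNM
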