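import Cfsg.Agent.Helper5.HNMDatD
import Cfsg.Agent.Helper5.HNMDatT
import Cfsg.Agent.Helper5.TCIB

/-! kernel checks of the coset table: HNM -/

set_option autoImplicit false
set_option Elab.async false

namespace Cfsg.Agent.Helper5.HNM
open Cfsg.Agent.Helper5.TC Cfsg.Agent.Helper5.TCI Cfsg.Agent.Helper5.TCS
noncomputable section

set_option maxRecDepth 1000000 in
theorem relc_6_3 : fixPtsF W_6 200000 600000 = true := by decide +kernel

set_option maxRecDepth 1000000 in
theorem relc_0_5 : fixPtsF W_0 66666 333330 = true := by decide +kernel

set_option maxRecDepth 1000000 in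
theorem relc_13_7 : fixPtsF W_13 66666 466662 = true := by decide +kernel

set_option maxRecDepth 1000000 in
theorem relc_2_32 : fixPtsF W_2 33333 1066656 = true := by decide +kernel

set_option maxRecDepth 1000000 in
theorem relc_4_34 : fixPtsF W_4 25000 850000 = true := by decide +kernel

set_option maxRecDepth 1000000 in
theorem relc_8_21 : fixPtsF W_8 20000 420000 = true := by decide +kernel

set_option maxRecDepth 1000000 in
theorem relc_8_69 : fixPtsF W_8 20000 1380000 = true := by decide +kernel

set_option maxRecDepth 1000000 in
theorem relc_3_41 : fixPtsF W_3 19047 780927 = true := by decide +kernel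

set_option maxRecDepth 1000000 in
theorem relc_5_9 : fixPtsF W_5 16666 149994 = true := by decide +kernel

set_option maxRecDepth 1000000 in
theorem relc_5_57 : fixPtsF W_5 16666 949962 = true := by decide +kernel

set_option maxRecDepth 1000000 in
theorem relc_9_11 : fixPtsF W_9 8163 89793 = true := by decide +kernel

set_option maxRecDepth 1000000 in
theorem relc_9_59 : fixPtsF W_9 8163 481617 = true := by decide +kernel

set_option maxRecDepth 1000000 in
theorem relc_9_107 : fixPtsF W_9 8163 873441 = true := by decide +kernel

set_option maxRecDepth 1000000 in
theorem relc_9_155 : fixPtsF W_9 8163 1265265 = true := by decide +kernel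

set_option maxRecDepth 1000000 in
theorem inv_0_7 : invRowFI tgF 1539000 0 1 50000 350000 = true := by decide +kernel

set_option maxRecDepth 1000000 in
theorem inv_0_25 : invRowFI tgF 1539000 0 1 50000 1250000 = true := by decide +kernel

set_option maxRecDepth 1000000 in
theorem inv_2_13 : invRowFI tgF 1539000 2 3 50000 650000 = true := by decide +kernel

set_option maxRecDepth 1000000 in
theorem inv_4_1 : invRowFI tgF 1539000 4 4 50000 50000 = true := by decide +kernel

set_option maxRecDepth 1000000 in
theorem inv_5_19 : invRowFI tgF 1539000 5 6 50000 950000 = true := by decide +kernel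

set_option maxRecDepth 1000000 in
theorem inv_7_7 : invRowFI tgF 1539000 7 8 50000 350000 = true := by decide +kernel

set_option maxRecDepth 1000000 in
theorem inv_8_25 : invRowFI tgF 1539000 8 7 50000 1250000 = true := by decide +kernel

end

end Cfsg.Agent.Helper5.HNM
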