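import Cfsg.Agent.Helper5.HNMDatD
import Cfsg.Agent.Helper5.HNMDatT
import Cfsg.Agent.Helper5.TCIB

/-! kernel checks of the coset table: HNM -/

set_option autoImplicit false
set_option Elab.async false

namespace Cfsg.Agent.Helper5.HNM
open Cfsg.Agent.Helper5.TC Cfsg.Agent.Helper5.TCI Cfsg.Agent.Helper5.TCS
noncomputable section

set_option maxRecDepth 1000000 in
theorem relc_7_12 : fixPtsF W_7 100000 1200000 = true := by decide +kernel

set_option maxRecDepth 1000000 in
theorem relc_10_11 : fixPtsF W_10 80000 880000 = true := by decide +kernel

set_option maxRecDepth 1000000 in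
theorem relc_0_20 : fixPtsF W_0 66666 1333320 = true := by decide +kernel

set_option maxRecDepth 1000000 in
theorem relc_13_22 : fixPtsF W_13 66666 1466652 = true := by decide +kernel

set_option maxRecDepth 1000000 in
theorem relc_4_30 : fixPtsF W_4 25000 750000 = true := by decide +kernel

set_option maxRecDepth 1000000 in
theorem relc_8_17 : fixPtsF W_8 20000 340000 = true := by decide +kernel

set_option maxRecDepth 1000000 in
theorem relc_8_62 : fixPtsF W_8 20000 1240000 = true := by decide +kernel

set_option maxRecDepth 1000000 in
theorem relc_3_34 : fixPtsF W_3 19047 647598 = true := by decide +kernel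

set_option maxRecDepth 1000000 in
theorem relc_5_2 : fixPtsF W_5 16666 33332 = true := by decide +kernel

set_option maxRecDepth 1000000 in
theorem relc_5_35 : fixPtsF W_5 16666 583310 = true := by decide +kernel

set_option maxRecDepth 1000000 in
theorem relc_5_83 : fixPtsF W_5 16666 1383278 = true := by decide +kernel

set_option maxRecDepth 1000000 in
theorem relc_9_47 : fixPtsF W_9 8163 383661 = true := by decide +kernel

set_option maxRecDepth 1000000 in
theorem relc_9_95 : fixPtsF W_9 8163 775485 = true := by decide +kernel

set_option maxRecDepth 1000000 in
theorem relc_9_143 : fixPtsF W_9 8163 1167309 = true := by decide +kernel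

set_option maxRecDepth 1000000 in
theorem relc_4_61 : fixPtsF W_4 14000 1525000 = true := by decide +kernel

set_option maxRecDepth 1000000 in
theorem inv_0_19 : invRowFI tgF 1539000 0 1 50000 950000 = true := by decide +kernel

set_option maxRecDepth 1000000 in
theorem inv_2_7 : invRowFI tgF 1539000 2 3 50000 350000 = true := by decide +kernel

set_option maxRecDepth 1000000 in
theorem inv_3_25 : invRowFI tgF 1539000 3 2 50000 1250000 = true := by decide +kernel

set_option maxRecDepth 1000000 in
theorem inv_5_13 : invRowFI tgF 1539000 5 6 50000 650000 = true := by decide +kernel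

set_option maxRecDepth 1000000 in
theorem inv_7_1 : invRowFI tgF 1539000 7 8 50000 50000 = true := by decide +kernel

set_option maxRecDepth 1000000 in
theorem inv_8_19 : invRowFI tgF 1539000 8 7 50000 950000 = true := by decide +kernel

end

end Cfsg.Agent.Helper5.HNM
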