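import Cfsg.Agent.Helper5.HNMDatD
import Cfsg.Agent.Helper5.HNMDatT
import Cfsg.Agent.Helper5.TCIB

/-! kernel checks of the coset table: HNM -/

set_option autoImplicit false
set_option Elab.async false

namespace Cfsg.Agent.Helper5.HNM
open Cfsg.Agent.Helper5.TC Cfsg.Agent.Helper5.TCI Cfsg.Agent.Helper5.TCS
noncomputable section

set_option maxRecDepth 1000000 in
theorem relc_7_13 : fixPtsF W_7 100000 1300000 = true := by decide +kernel

set_option maxRecDepth 1000000 in
theorem relc_10_12 : fixPtsF W_10 80000 960000 = true := by decide +kernel

set_option maxRecDepth 1000000 in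
theorem relc_0_21 : fixPtsF W_0 66666 1399986 = true := by decide +kernel

set_option maxRecDepth 1000000 in
theorem relc_2_0 : fixPtsF W_2 33333 0 = true := by decide +kernel

set_option maxRecDepth 1000000 in
theorem relc_2_36 : fixPtsF W_2 33333 1199988 = true := by decide +kernel

set_option maxRecDepth 1000000 in
theorem relc_4_45 : fixPtsF W_4 25000 1125000 = true := by decide +kernel

set_option maxRecDepth 1000000 in
theorem relc_8_32 : fixPtsF W_8 20000 640000 = true := by decide +kernel

set_option maxRecDepth 1000000 in
theorem relc_3_4 : fixPtsF W_3 19047 76188 = true := by decide +kernel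

set_option maxRecDepth 1000000 in
theorem relc_3_52 : fixPtsF W_3 19047 990444 = true := by decide +kernel

set_option maxRecDepth 1000000 in
theorem relc_5_20 : fixPtsF W_5 16666 333320 = true := by decide +kernel

set_option maxRecDepth 1000000 in
theorem relc_5_68 : fixPtsF W_5 16666 1133288 = true := by decide +kernel

set_option maxRecDepth 1000000 in
theorem relc_9_22 : fixPtsF W_9 8163 179586 = true := by decide +kernel

set_option maxRecDepth 1000000 in
theorem relc_9_70 : fixPtsF W_9 8163 571410 = true := by decide +kernel

set_option maxRecDepth 1000000 in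
theorem relc_9_118 : fixPtsF W_9 8163 963234 = true := by decide +kernel

set_option maxRecDepth 1000000 in
theorem relc_9_166 : fixPtsF W_9 8163 1355058 = true := by decide +kernel

set_option maxRecDepth 1000000 in
theorem inv_1_14 : invRowFI tgF 1539000 1 0 50000 700000 = true := by decide +kernel

set_option maxRecDepth 1000000 in
theorem inv_3_2 : invRowFI tgF 1539000 3 2 50000 100000 = true := by decide +kernel

set_option maxRecDepth 1000000 in
theorem inv_4_20 : invRowFI tgF 1539000 4 4 50000 1000000 = true := by decide +kernel

set_option maxRecDepth 1000000 in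
theorem inv_6_8 : invRowFI tgF 1539000 6 5 50000 400000 = true := by decide +kernel

set_option maxRecDepth 1000000 in
theorem inv_7_26 : invRowFI tgF 1539000 7 8 50000 1300000 = true := by decide +kernel

end

end Cfsg.Agent.Helper5.HNM
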