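import Cfsg.Agent.Helper5.HNMDatD
import Cfsg.Agent.Helper5.HNMDatT
import Cfsg.Agent.Helper5.TCIB

/-! kernel checks of the coset table: HNM -/

set_option autoImplicit false
set_option Elab.async false

namespace Cfsg.Agent.Helper5.HNM
open Cfsg.Agent.Helper5.TC Cfsg.Agent.Helper5.TCI Cfsg.Agent.Helper5.TCS
noncomputable section

set_option maxRecDepth 1000000 in
theorem relc_7_14 : fixPtsF W_7 100000 1400000 = true := by decide +kernel

set_option maxRecDepth 1000000 in
theorem relc_10_13 : fixPtsF W_10 80000 1040000 = true := by decide +kernel

set_option maxRecDepth 1000000 in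
theorem relc_0_22 : fixPtsF W_0 66666 1466652 = true := by decide +kernel

set_option maxRecDepth 1000000 in
theorem relc_2_1 : fixPtsF W_2 33333 33333 = true := by decide +kernel

set_option maxRecDepth 1000000 in
theorem relc_2_37 : fixPtsF W_2 33333 1233321 = true := by decide +kernel

set_option maxRecDepth 1000000 in
theorem relc_4_46 : fixPtsF W_4 25000 1150000 = true := by decide +kernel

set_option maxRecDepth 1000000 in
theorem relc_8_33 : fixPtsF W_8 20000 660000 = true := by decide +kernel

set_option maxRecDepth 1000000 in
theorem relc_3_5 : fixPtsF W_3 19047 95235 = true := by decide +kernel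

set_option maxRecDepth 1000000 in
theorem relc_3_53 : fixPtsF W_3 19047 1009491 = true := by decide +kernel

set_option maxRecDepth 1000000 in
theorem relc_5_21 : fixPtsF W_5 16666 349986 = true := by decide +kernel

set_option maxRecDepth 1000000 in
theorem relc_5_69 : fixPtsF W_5 16666 1149954 = true := by decide +kernel

set_option maxRecDepth 1000000 in
theorem relc_9_23 : fixPtsF W_9 8163 187749 = true := by decide +kernel

set_option maxRecDepth 1000000 in
theorem relc_9_71 : fixPtsF W_9 8163 579573 = true := by decide +kernel

set_option maxRecDepth 1000000 in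
theorem relc_9_119 : fixPtsF W_9 8163 971397 = true := by decide +kernel

set_option maxRecDepth 1000000 in
theorem relc_9_167 : fixPtsF W_9 8163 1363221 = true := by decide +kernel

set_option maxRecDepth 1000000 in
theorem inv_1_15 : invRowFI tgF 1539000 1 0 50000 750000 = true := by decide +kernel

set_option maxRecDepth 1000000 in
theorem inv_3_3 : invRowFI tgF 1539000 3 2 50000 150000 = true := by decide +kernel

set_option maxRecDepth 1000000 in
theorem inv_4_21 : invRowFI tgF 1539000 4 4 50000 1050000 = true := by decide +kernel

set_option maxRecDepth 1000000 in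
theorem inv_6_9 : invRowFI tgF 1539000 6 5 50000 450000 = true := by decide +kernel

set_option maxRecDepth 1000000 in
theorem inv_7_27 : invRowFI tgF 1539000 7 8 50000 1350000 = true := by decide +kernel

end

end Cfsg.Agent.Helper5.HNM
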