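import Cfsg.Agent.Helper5.HNMDatD
import Cfsg.Agent.Helper5.HNMDatT
import Cfsg.Agent.Helper5.TCIB

/-! kernel checks of the coset table: HNM -/

set_option autoImplicit false
set_option Elab.async false

namespace Cfsg.Agent.Helper5.HNM
open Cfsg.Agent.Helper5.TC Cfsg.Agent.Helper5.TCI Cfsg.Agent.Helper5.TCS
noncomputable section

set_option maxRecDepth 1000000 in
theorem relc_12_0 : fixPtsF W_12 100000 0 = true := by decide +kernel

set_option maxRecDepth 1000000 in
theorem relc_10_14 : fixPtsF W_10 80000 1120000 = true := by decide +kernel

set_option maxRecDepth 1000000 in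
theorem relc_1_0 : fixPtsF W_1 66666 0 = true := by decide +kernel

set_option maxRecDepth 1000000 in
theorem relc_2_2 : fixPtsF W_2 33333 66666 = true := by decide +kernel

set_option maxRecDepth 1000000 in
theorem relc_2_38 : fixPtsF W_2 33333 1266654 = true := by decide +kernel

set_option maxRecDepth 1000000 in
theorem relc_4_47 : fixPtsF W_4 25000 1175000 = true := by decide +kernel

set_option maxRecDepth 1000000 in
theorem relc_8_34 : fixPtsF W_8 20000 680000 = true := by decide +kernel

set_option maxRecDepth 1000000 in
theorem relc_3_6 : fixPtsF W_3 19047 114282 = true := by decide +kernel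

set_option maxRecDepth 1000000 in
theorem relc_3_54 : fixPtsF W_3 19047 1028538 = true := by decide +kernel

set_option maxRecDepth 1000000 in
theorem relc_5_22 : fixPtsF W_5 16666 366652 = true := by decide +kernel

set_option maxRecDepth 1000000 in
theorem relc_5_70 : fixPtsF W_5 16666 1166620 = true := by decide +kernel

set_option maxRecDepth 1000000 in
theorem relc_9_24 : fixPtsF W_9 8163 195912 = true := by decide +kernel

set_option maxRecDepth 1000000 in
theorem relc_9_72 : fixPtsF W_9 8163 587736 = true := by decide +kernel

set_option maxRecDepth 1000000 in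
theorem relc_9_120 : fixPtsF W_9 8163 979560 = true := by decide +kernel

set_option maxRecDepth 1000000 in
theorem relc_9_168 : fixPtsF W_9 8163 1371384 = true := by decide +kernel

set_option maxRecDepth 1000000 in
theorem inv_1_16 : invRowFI tgF 1539000 1 0 50000 800000 = true := by decide +kernel

set_option maxRecDepth 1000000 in
theorem inv_3_4 : invRowFI tgF 1539000 3 2 50000 200000 = true := by decide +kernel

set_option maxRecDepth 1000000 in
theorem inv_4_22 : invRowFI tgF 1539000 4 4 50000 1100000 = true := by decide +kernel

set_option maxRecDepth 1000000 in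
theorem inv_6_10 : invRowFI tgF 1539000 6 5 50000 500000 = true := by decide +kernel

set_option maxRecDepth 1000000 in
theorem inv_7_28 : invRowFI tgF 1539000 7 8 50000 1400000 = true := by decide +kernel

end

end Cfsg.Agent.Helper5.HNM
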