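import Cfsg.Agent.Helper5.HNMDatD
import Cfsg.Agent.Helper5.HNMDatT
import Cfsg.Agent.Helper5.TCIB

/-! kernel checks of the coset table: HNM -/

set_option autoImplicit false
set_option Elab.async false

namespace Cfsg.Agent.Helper5.HNM
open Cfsg.Agent.Helper5.TC Cfsg.Agent.Helper5.TCI Cfsg.Agent.Helper5.TCS
noncomputable section

set_option maxRecDepth 1000000 in
theorem relc_12_1 : fixPtsF W_12 100000 100000 = true := by decide +kernel

set_option maxRecDepth 1000000 in
theorem relc_10_15 : fixPtsF W_10 80000 1200000 = true := by decide +kernel

set_option maxRecDepth 1000000 in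
theorem relc_1_1 : fixPtsF W_1 66666 66666 = true := by decide +kernel

set_option maxRecDepth 1000000 in
theorem relc_2_3 : fixPtsF W_2 33333 99999 = true := by decide +kernel

set_option maxRecDepth 1000000 in
theorem relc_2_39 : fixPtsF W_2 33333 1299987 = true := by decide +kernel

set_option maxRecDepth 1000000 in
theorem relc_4_48 : fixPtsF W_4 25000 1200000 = true := by decide +kernel

set_option maxRecDepth 1000000 in
theorem relc_8_35 : fixPtsF W_8 20000 700000 = true := by decide +kernel

set_option maxRecDepth 1000000 in
theorem relc_3_7 : fixPtsF W_3 19047 133329 = true := by decide +kernel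

set_option maxRecDepth 1000000 in
theorem relc_3_55 : fixPtsF W_3 19047 1047585 = true := by decide +kernel

set_option maxRecDepth 1000000 in
theorem relc_5_23 : fixPtsF W_5 16666 383318 = true := by decide +kernel

set_option maxRecDepth 1000000 in
theorem relc_5_71 : fixPtsF W_5 16666 1183286 = true := by decide +kernel

set_option maxRecDepth 1000000 in
theorem relc_9_25 : fixPtsF W_9 8163 204075 = true := by decide +kernel

set_option maxRecDepth 1000000 in
theorem relc_9_73 : fixPtsF W_9 8163 595899 = true := by decide +kernel

set_option maxRecDepth 1000000 in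
theorem relc_9_121 : fixPtsF W_9 8163 987723 = true := by decide +kernel

set_option maxRecDepth 1000000 in
theorem relc_9_169 : fixPtsF W_9 8163 1379547 = true := by decide +kernel

set_option maxRecDepth 1000000 in
theorem inv_1_17 : invRowFI tgF 1539000 1 0 50000 850000 = true := by decide +kernel

set_option maxRecDepth 1000000 in
theorem inv_3_5 : invRowFI tgF 1539000 3 2 50000 250000 = true := by decide +kernel

set_option maxRecDepth 1000000 in
theorem inv_4_23 : invRowFI tgF 1539000 4 4 50000 1150000 = true := by decide +kernel

set_option maxRecDepth 1000000 in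
theorem inv_6_11 : invRowFI tgF 1539000 6 5 50000 550000 = true := by decide +kernel

set_option maxRecDepth 1000000 in
theorem inv_7_29 : invRowFI tgF 1539000 7 8 50000 1450000 = true := by decide +kernel

end

end Cfsg.Agent.Helper5.HNM
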