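import Cfsg.Agent.Helper5.HNMDatD
import Cfsg.Agent.Helper5.HNMDatT
import Cfsg.Agent.Helper5.TCIB

/-! kernel checks of the coset table: HNM -/

set_option autoImplicit false
set_option Elab.async false

namespace Cfsg.Agent.Helper5.HNM
open Cfsg.Agent.Helper5.TC Cfsg.Agent.Helper5.TCI Cfsg.Agent.Helper5.TCS
noncomputable section

set_option maxRecDepth 1000000 in
theorem relc_12_2 : fixPtsF W_12 100000 200000 = true := by decide +kernel

set_option maxRecDepth 1000000 in
theorem relc_10_16 : fixPtsF W_10 80000 1280000 = true := by decide +kernel

set_option maxRecDepth 1000000 in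
theorem relc_1_2 : fixPtsF W_1 66666 133332 = true := by decide +kernel

set_option maxRecDepth 1000000 in
theorem relc_2_4 : fixPtsF W_2 33333 133332 = true := by decide +kernel

set_option maxRecDepth 1000000 in
theorem relc_2_40 : fixPtsF W_2 33333 1333320 = true := by decide +kernel

set_option maxRecDepth 1000000 in
theorem relc_4_49 : fixPtsF W_4 25000 1225000 = true := by decide +kernel

set_option maxRecDepth 1000000 in
theorem relc_8_36 : fixPtsF W_8 20000 720000 = true := by decide +kernel

set_option maxRecDepth 1000000 in
theorem relc_3_8 : fixPtsF W_3 19047 152376 = true := by decide +kernel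

set_option maxRecDepth 1000000 in
theorem relc_3_56 : fixPtsF W_3 19047 1066632 = true := by decide +kernel

set_option maxRecDepth 1000000 in
theorem relc_5_24 : fixPtsF W_5 16666 399984 = true := by decide +kernel

set_option maxRecDepth 1000000 in
theorem relc_5_72 : fixPtsF W_5 16666 1199952 = true := by decide +kernel

set_option maxRecDepth 1000000 in
theorem relc_9_26 : fixPtsF W_9 8163 212238 = true := by decide +kernel

set_option maxRecDepth 1000000 in
theorem relc_9_74 : fixPtsF W_9 8163 604062 = true := by decide +kernel

set_option maxRecDepth 1000000 in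
theorem relc_9_122 : fixPtsF W_9 8163 995886 = true := by decide +kernel

set_option maxRecDepth 1000000 in
theorem relc_9_170 : fixPtsF W_9 8163 1387710 = true := by decide +kernel

set_option maxRecDepth 1000000 in
theorem inv_1_18 : invRowFI tgF 1539000 1 0 50000 900000 = true := by decide +kernel

set_option maxRecDepth 1000000 in
theorem inv_3_6 : invRowFI tgF 1539000 3 2 50000 300000 = true := by decide +kernel

set_option maxRecDepth 1000000 in
theorem inv_4_24 : invRowFI tgF 1539000 4 4 50000 1200000 = true := by decide +kernel

set_option maxRecDepth 1000000 in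
theorem inv_6_12 : invRowFI tgF 1539000 6 5 50000 600000 = true := by decide +kernel

set_option maxRecDepth 1000000 in
theorem inv_8_0 : invRowFI tgF 1539000 8 7 50000 0 = true := by decide +kernel

end

end Cfsg.Agent.Helper5.HNM
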