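import Cfsg.Agent.Helper5.HNMDatD
import Cfsg.Agent.Helper5.HNMDatT
import Cfsg.Agent.Helper5.TCIB

/-! kernel checks of the coset table: HNM -/

set_option autoImplicit false
set_option Elab.async false

namespace Cfsg.Agent.Helper5.HNM
open Cfsg.Agent.Helper5.TC Cfsg.Agent.Helper5.TCI Cfsg.Agent.Helper5.TCS
noncomputable section

set_option maxRecDepth 1000000 in
theorem relc_12_4 : fixPtsF W_12 100000 400000 = true := by decide +kernel

set_option maxRecDepth 1000000 in
theorem relc_10_18 : fixPtsF W_10 80000 1440000 = true := by decide +kernel

set_option maxRecDepth 1000000 in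
theorem relc_1_4 : fixPtsF W_1 66666 266664 = true := by decide +kernel

set_option maxRecDepth 1000000 in
theorem relc_2_6 : fixPtsF W_2 33333 199998 = true := by decide +kernel

set_option maxRecDepth 1000000 in
theorem relc_2_42 : fixPtsF W_2 33333 1399986 = true := by decide +kernel

set_option maxRecDepth 1000000 in
theorem relc_4_51 : fixPtsF W_4 25000 1275000 = true := by decide +kernel

set_option maxRecDepth 1000000 in
theorem relc_8_38 : fixPtsF W_8 20000 760000 = true := by decide +kernel

set_option maxRecDepth 1000000 in
theorem relc_3_10 : fixPtsF W_3 19047 190470 = true := by decide +kernel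

set_option maxRecDepth 1000000 in
theorem relc_3_58 : fixPtsF W_3 19047 1104726 = true := by decide +kernel

set_option maxRecDepth 1000000 in
theorem relc_5_26 : fixPtsF W_5 16666 433316 = true := by decide +kernel

set_option maxRecDepth 1000000 in
theorem relc_5_74 : fixPtsF W_5 16666 1233284 = true := by decide +kernel

set_option maxRecDepth 1000000 in
theorem relc_9_28 : fixPtsF W_9 8163 228564 = true := by decide +kernel

set_option maxRecDepth 1000000 in
theorem relc_9_76 : fixPtsF W_9 8163 620388 = true := by decide +kernel

set_option maxRecDepth 1000000 in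
theorem relc_9_124 : fixPtsF W_9 8163 1012212 = true := by decide +kernel

set_option maxRecDepth 1000000 in
theorem relc_9_172 : fixPtsF W_9 8163 1404036 = true := by decide +kernel

set_option maxRecDepth 1000000 in
theorem inv_1_20 : invRowFI tgF 1539000 1 0 50000 1000000 = true := by decide +kernel

set_option maxRecDepth 1000000 in
theorem inv_3_8 : invRowFI tgF 1539000 3 2 50000 400000 = true := by decide +kernel

set_option maxRecDepth 1000000 in
theorem inv_4_26 : invRowFI tgF 1539000 4 4 50000 1300000 = true := by decide +kernel

set_option maxRecDepth 1000000 in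
theorem inv_6_14 : invRowFI tgF 1539000 6 5 50000 700000 = true := by decide +kernel

set_option maxRecDepth 1000000 in
theorem inv_8_2 : invRowFI tgF 1539000 8 7 50000 100000 = true := by decide +kernel

end

end Cfsg.Agent.Helper5.HNM
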