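import Cfsg.Agent.Helper5.HNMDatD
import Cfsg.Agent.Helper5.HNMDatT
import Cfsg.Agent.Helper5.TCIB

/-! kernel checks of the coset table: HNM -/

set_option autoImplicit false
set_option Elab.async false

namespace Cfsg.Agent.Helper5.HNM
open Cfsg.Agent.Helper5.TC Cfsg.Agent.Helper5.TCI Cfsg.Agent.Helper5.TCS
noncomputable section

set_option maxRecDepth 1000000 in
theorem relc_12_5 : fixPtsF W_12 100000 500000 = true := by decide +kernel

set_option maxRecDepth 1000000 in
theorem relc_11_0 : fixPtsF W_11 80000 0 = true := by decide +kernel

set_option maxRecDepth 1000000 in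
theorem relc_1_5 : fixPtsF W_1 66666 333330 = true := by decide +kernel

set_option maxRecDepth 1000000 in
theorem relc_2_7 : fixPtsF W_2 33333 233331 = true := by decide +kernel

set_option maxRecDepth 1000000 in
theorem relc_2_43 : fixPtsF W_2 33333 1433319 = true := by decide +kernel

set_option maxRecDepth 1000000 in
theorem relc_4_52 : fixPtsF W_4 25000 1300000 = true := by decide +kernel

set_option maxRecDepth 1000000 in
theorem relc_8_39 : fixPtsF W_8 20000 780000 = true := by decide +kernel

set_option maxRecDepth 1000000 in
theorem relc_3_11 : fixPtsF W_3 19047 209517 = true := by decide +kernel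

set_option maxRecDepth 1000000 in
theorem relc_3_59 : fixPtsF W_3 19047 1123773 = true := by decide +kernel

set_option maxRecDepth 1000000 in
theorem relc_5_27 : fixPtsF W_5 16666 449982 = true := by decide +kernel

set_option maxRecDepth 1000000 in
theorem relc_5_75 : fixPtsF W_5 16666 1249950 = true := by decide +kernel

set_option maxRecDepth 1000000 in
theorem relc_9_29 : fixPtsF W_9 8163 236727 = true := by decide +kernel

set_option maxRecDepth 1000000 in
theorem relc_9_77 : fixPtsF W_9 8163 628551 = true := by decide +kernel

set_option maxRecDepth 1000000 in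
theorem relc_9_125 : fixPtsF W_9 8163 1020375 = true := by decide +kernel

set_option maxRecDepth 1000000 in
theorem relc_9_173 : fixPtsF W_9 8163 1412199 = true := by decide +kernel

set_option maxRecDepth 1000000 in
theorem inv_1_21 : invRowFI tgF 1539000 1 0 50000 1050000 = true := by decide +kernel

set_option maxRecDepth 1000000 in
theorem inv_3_9 : invRowFI tgF 1539000 3 2 50000 450000 = true := by decide +kernel

set_option maxRecDepth 1000000 in
theorem inv_4_27 : invRowFI tgF 1539000 4 4 50000 1350000 = true := by decide +kernel

set_option maxRecDepth 1000000 in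
theorem inv_6_15 : invRowFI tgF 1539000 6 5 50000 750000 = true := by decide +kernel

set_option maxRecDepth 1000000 in
theorem inv_8_3 : invRowFI tgF 1539000 8 7 50000 150000 = true := by decide +kernel

end

end Cfsg.Agent.Helper5.HNM
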