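import Cfsg.Agent.Helper5.HNMDatD
import Cfsg.Agent.Helper5.HNMDatT
import Cfsg.Agent.Helper5.TCIB

/-! kernel checks of the coset table: HNM -/

set_option autoImplicit false
set_option Elab.async false

namespace Cfsg.Agent.Helper5.HNM
open Cfsg.Agent.Helper5.TC Cfsg.Agent.Helper5.TCI Cfsg.Agent.Helper5.TCS
noncomputable section

set_option maxRecDepth 1000000 in
theorem relc_12_6 : fixPtsF W_12 100000 600000 = true := by decide +kernel

set_option maxRecDepth 1000000 in
theorem relc_11_1 : fixPtsF W_11 80000 80000 = true := by decide +kernel

set_option maxRecDepth 1000000 in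
theorem relc_1_6 : fixPtsF W_1 66666 399996 = true := by decide +kernel

set_option maxRecDepth 1000000 in
theorem relc_2_8 : fixPtsF W_2 33333 266664 = true := by decide +kernel

set_option maxRecDepth 1000000 in
theorem relc_2_44 : fixPtsF W_2 33333 1466652 = true := by decide +kernel

set_option maxRecDepth 1000000 in
theorem relc_4_53 : fixPtsF W_4 25000 1325000 = true := by decide +kernel

set_option maxRecDepth 1000000 in
theorem relc_8_40 : fixPtsF W_8 20000 800000 = true := by decide +kernel

set_option maxRecDepth 1000000 in
theorem relc_3_12 : fixPtsF W_3 19047 228564 = true := by decide +kernel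

set_option maxRecDepth 1000000 in
theorem relc_3_60 : fixPtsF W_3 19047 1142820 = true := by decide +kernel

set_option maxRecDepth 1000000 in
theorem relc_5_28 : fixPtsF W_5 16666 466648 = true := by decide +kernel

set_option maxRecDepth 1000000 in
theorem relc_5_76 : fixPtsF W_5 16666 1266616 = true := by decide +kernel

set_option maxRecDepth 1000000 in
theorem relc_9_30 : fixPtsF W_9 8163 244890 = true := by decide +kernel

set_option maxRecDepth 1000000 in
theorem relc_9_78 : fixPtsF W_9 8163 636714 = true := by decide +kernel

set_option maxRecDepth 1000000 in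
theorem relc_9_126 : fixPtsF W_9 8163 1028538 = true := by decide +kernel

set_option maxRecDepth 1000000 in
theorem relc_9_174 : fixPtsF W_9 8163 1420362 = true := by decide +kernel

set_option maxRecDepth 1000000 in
theorem inv_1_22 : invRowFI tgF 1539000 1 0 50000 1100000 = true := by decide +kernel

set_option maxRecDepth 1000000 in
theorem inv_3_10 : invRowFI tgF 1539000 3 2 50000 500000 = true := by decide +kernel

set_option maxRecDepth 1000000 in
theorem inv_4_28 : invRowFI tgF 1539000 4 4 50000 1400000 = true := by decide +kernel

set_option maxRecDepth 1000000 in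
theorem inv_6_16 : invRowFI tgF 1539000 6 5 50000 800000 = true := by decide +kernel

set_option maxRecDepth 1000000 in
theorem inv_8_4 : invRowFI tgF 1539000 8 7 50000 200000 = true := by decide +kernel

end

end Cfsg.Agent.Helper5.HNM
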