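import Cfsg.Agent.Helper5.HNMDatD
import Cfsg.Agent.Helper5.HNMDatT
import Cfsg.Agent.Helper5.TCIB

/-! kernel checks of the coset table: HNM -/

set_option autoImplicit false
set_option Elab.async false

namespace Cfsg.Agent.Helper5.HNM
open Cfsg.Agent.Helper5.TC Cfsg.Agent.Helper5.TCI Cfsg.Agent.Helper5.TCS
noncomputable section

set_option maxRecDepth 1000000 in
theorem relc_6_4 : fixPtsF W_6 200000 800000 = true := by decide +kernel

set_option maxRecDepth 1000000 in
theorem relc_0_6 : fixPtsF W_0 66666 399996 = true := by decide +kernel

set_option maxRecDepth 1000000 in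
theorem relc_13_8 : fixPtsF W_13 66666 533328 = true := by decide +kernel

set_option maxRecDepth 1000000 in
theorem relc_2_33 : fixPtsF W_2 33333 1099989 = true := by decide +kernel

set_option maxRecDepth 1000000 in
theorem relc_4_35 : fixPtsF W_4 25000 875000 = true := by decide +kernel

set_option maxRecDepth 1000000 in
theorem relc_8_22 : fixPtsF W_8 20000 440000 = true := by decide +kernel

set_option maxRecDepth 1000000 in
theorem relc_8_70 : fixPtsF W_8 20000 1400000 = true := by decide +kernel

set_option maxRecDepth 1000000 in
theorem relc_3_42 : fixPtsF W_3 19047 799974 = true := by decide +kernel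

set_option maxRecDepth 1000000 in
theorem relc_5_10 : fixPtsF W_5 16666 166660 = true := by decide +kernel

set_option maxRecDepth 1000000 in
theorem relc_5_58 : fixPtsF W_5 16666 966628 = true := by decide +kernel

set_option maxRecDepth 1000000 in
theorem relc_9_12 : fixPtsF W_9 8163 97956 = true := by decide +kernel

set_option maxRecDepth 1000000 in
theorem relc_9_60 : fixPtsF W_9 8163 489780 = true := by decide +kernel

set_option maxRecDepth 1000000 in
theorem relc_9_108 : fixPtsF W_9 8163 881604 = true := by decide +kernel

set_option maxRecDepth 1000000 in
theorem relc_9_156 : fixPtsF W_9 8163 1273428 = true := by decide +kernel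

set_option maxRecDepth 1000000 in
theorem inv_0_8 : invRowFI tgF 1539000 0 1 50000 400000 = true := by decide +kernel

set_option maxRecDepth 1000000 in
theorem inv_0_26 : invRowFI tgF 1539000 0 1 50000 1300000 = true := by decide +kernel

set_option maxRecDepth 1000000 in
theorem inv_2_14 : invRowFI tgF 1539000 2 3 50000 700000 = true := by decide +kernel

set_option maxRecDepth 1000000 in
theorem inv_4_2 : invRowFI tgF 1539000 4 4 50000 100000 = true := by decide +kernel

set_option maxRecDepth 1000000 in
theorem inv_5_20 : invRowFI tgF 1539000 5 6 50000 1000000 = true := by decide +kernel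

set_option maxRecDepth 1000000 in
theorem inv_7_8 : invRowFI tgF 1539000 7 8 50000 400000 = true := by decide +kernel

set_option maxRecDepth 1000000 in
theorem inv_8_26 : invRowFI tgF 1539000 8 7 50000 1300000 = true := by decide +kernel

end

end Cfsg.Agent.Helper5.HNM
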