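import Cfsg.Agent.Helper5.HNMDatD
import Cfsg.Agent.Helper5.HNMDatT
import Cfsg.Agent.Helper5.TCIB

/-! kernel checks of the coset table: HNM -/

set_option autoImplicit false
set_option Elab.async false

namespace Cfsg.Agent.Helper5.HNM
open Cfsg.Agent.Helper5.TC Cfsg.Agent.Helper5.TCI Cfsg.Agent.Helper5.TCS
noncomputable section

set_option maxRecDepth 1000000 in
theorem relc_12_7 : fixPtsF W_12 100000 700000 = true := by decide +kernel

set_option maxRecDepth 1000000 in
theorem relc_11_2 : fixPtsF W_11 80000 160000 = true := by decide +kernel

set_option maxRecDepth 1000000 in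
theorem relc_1_7 : fixPtsF W_1 66666 466662 = true := by decide +kernel

set_option maxRecDepth 1000000 in
theorem relc_2_9 : fixPtsF W_2 33333 299997 = true := by decide +kernel

set_option maxRecDepth 1000000 in
theorem relc_2_45 : fixPtsF W_2 33333 1499985 = true := by decide +kernel

set_option maxRecDepth 1000000 in
theorem relc_4_54 : fixPtsF W_4 25000 1350000 = true := by decide +kernel

set_option maxRecDepth 1000000 in
theorem relc_8_41 : fixPtsF W_8 20000 820000 = true := by decide +kernel

set_option maxRecDepth 1000000 in
theorem relc_3_13 : fixPtsF W_3 19047 247611 = true := by decide +kernel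

set_option maxRecDepth 1000000 in
theorem relc_3_61 : fixPtsF W_3 19047 1161867 = true := by decide +kernel

set_option maxRecDepth 1000000 in
theorem relc_5_29 : fixPtsF W_5 16666 483314 = true := by decide +kernel

set_option maxRecDepth 1000000 in
theorem relc_5_77 : fixPtsF W_5 16666 1283282 = true := by decide +kernel

set_option maxRecDepth 1000000 in
theorem relc_9_31 : fixPtsF W_9 8163 253053 = true := by decide +kernel

set_option maxRecDepth 1000000 in
theorem relc_9_79 : fixPtsF W_9 8163 644877 = true := by decide +kernel

set_option maxRecDepth 1000000 in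
theorem relc_9_127 : fixPtsF W_9 8163 1036701 = true := by decide +kernel

set_option maxRecDepth 1000000 in
theorem relc_9_175 : fixPtsF W_9 8163 1428525 = true := by decide +kernel

set_option maxRecDepth 1000000 in
theorem inv_1_23 : invRowFI tgF 1539000 1 0 50000 1150000 = true := by decide +kernel

set_option maxRecDepth 1000000 in
theorem inv_3_11 : invRowFI tgF 1539000 3 2 50000 550000 = true := by decide +kernel

set_option maxRecDepth 1000000 in
theorem inv_4_29 : invRowFI tgF 1539000 4 4 50000 1450000 = true := by decide +kernel

set_option maxRecDepth 1000000 in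
theorem inv_6_17 : invRowFI tgF 1539000 6 5 50000 850000 = true := by decide +kernel

set_option maxRecDepth 1000000 in
theorem inv_8_5 : invRowFI tgF 1539000 8 7 50000 250000 = true := by decide +kernel

end

end Cfsg.Agent.Helper5.HNM
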