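import Cfsg.Agent.Helper5.HNMDatD
import Cfsg.Agent.Helper5.HNMDatT
import Cfsg.Agent.Helper5.TCIB

/-! kernel checks of the coset table: HNM -/

set_option autoImplicit false
set_option Elab.async false

namespace Cfsg.Agent.Helper5.HNM
open Cfsg.Agent.Helper5.TC Cfsg.Agent.Helper5.TCI Cfsg.Agent.Helper5.TCS
noncomputable section

set_option maxRecDepth 1000000 in
theorem relc_12_8 : fixPtsF W_12 100000 800000 = true := by decide +kernel

set_option maxRecDepth 1000000 in
theorem relc_11_3 : fixPtsF W_11 80000 240000 = true := by decide +kernel

set_option maxRecDepth 1000000 in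
theorem relc_1_8 : fixPtsF W_1 66666 533328 = true := by decide +kernel

set_option maxRecDepth 1000000 in
theorem relc_2_10 : fixPtsF W_2 33333 333330 = true := by decide +kernel

set_option maxRecDepth 1000000 in
theorem relc_4_0 : fixPtsF W_4 25000 0 = true := by decide +kernel

set_option maxRecDepth 1000000 in
theorem relc_4_38 : fixPtsF W_4 25000 950000 = true := by decide +kernel

set_option maxRecDepth 1000000 in
theorem relc_8_25 : fixPtsF W_8 20000 500000 = true := by decide +kernel

set_option maxRecDepth 1000000 in
theorem relc_8_73 : fixPtsF W_8 20000 1460000 = true := by decide +kernel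

set_option maxRecDepth 1000000 in
theorem relc_3_49 : fixPtsF W_3 19047 933303 = true := by decide +kernel

set_option maxRecDepth 1000000 in
theorem relc_5_17 : fixPtsF W_5 16666 283322 = true := by decide +kernel

set_option maxRecDepth 1000000 in
theorem relc_5_65 : fixPtsF W_5 16666 1083290 = true := by decide +kernel

set_option maxRecDepth 1000000 in
theorem relc_9_19 : fixPtsF W_9 8163 155097 = true := by decide +kernel

set_option maxRecDepth 1000000 in
theorem relc_9_67 : fixPtsF W_9 8163 546921 = true := by decide +kernel

set_option maxRecDepth 1000000 in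
theorem relc_9_115 : fixPtsF W_9 8163 938745 = true := by decide +kernel

set_option maxRecDepth 1000000 in
theorem relc_9_163 : fixPtsF W_9 8163 1330569 = true := by decide +kernel

set_option maxRecDepth 1000000 in
theorem inv_1_10 : invRowFI tgF 1539000 1 0 50000 500000 = true := by decide +kernel

set_option maxRecDepth 1000000 in
theorem inv_2_28 : invRowFI tgF 1539000 2 3 50000 1400000 = true := by decide +kernel

set_option maxRecDepth 1000000 in
theorem inv_4_16 : invRowFI tgF 1539000 4 4 50000 800000 = true := by decide +kernel

set_option maxRecDepth 1000000 in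
theorem inv_6_4 : invRowFI tgF 1539000 6 5 50000 200000 = true := by decide +kernel

set_option maxRecDepth 1000000 in
theorem inv_7_22 : invRowFI tgF 1539000 7 8 50000 1100000 = true := by decide +kernel

set_option maxRecDepth 1000000 in
theorem relc_0_23 : fixPtsF W_0 5682 1533318 = true := by decide +kernel

end

end Cfsg.Agent.Helper5.HNM
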