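import Cfsg.Agent.Helper5.HNMDatD
import Cfsg.Agent.Helper5.HNMDatT
import Cfsg.Agent.Helper5.TCIB

/-! kernel checks of the coset table: HNM -/

set_option autoImplicit false
set_option Elab.async false

namespace Cfsg.Agent.Helper5.HNM
open Cfsg.Agent.Helper5.TC Cfsg.Agent.Helper5.TCI Cfsg.Agent.Helper5.TCS
noncomputable section

set_option maxRecDepth 1000000 in
theorem relc_12_9 : fixPtsF W_12 100000 900000 = true := by decide +kernel

set_option maxRecDepth 1000000 in
theorem relc_11_4 : fixPtsF W_11 80000 320000 = true := by decide +kernel

set_option maxRecDepth 1000000 in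
theorem relc_1_9 : fixPtsF W_1 66666 599994 = true := by decide +kernel

set_option maxRecDepth 1000000 in
theorem relc_2_11 : fixPtsF W_2 33333 366663 = true := by decide +kernel

set_option maxRecDepth 1000000 in
theorem relc_4_1 : fixPtsF W_4 25000 25000 = true := by decide +kernel

set_option maxRecDepth 1000000 in
theorem relc_4_39 : fixPtsF W_4 25000 975000 = true := by decide +kernel

set_option maxRecDepth 1000000 in
theorem relc_8_26 : fixPtsF W_8 20000 520000 = true := by decide +kernel

set_option maxRecDepth 1000000 in
theorem relc_8_74 : fixPtsF W_8 20000 1480000 = true := by decide +kernel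

set_option maxRecDepth 1000000 in
theorem relc_3_50 : fixPtsF W_3 19047 952350 = true := by decide +kernel

set_option maxRecDepth 1000000 in
theorem relc_5_18 : fixPtsF W_5 16666 299988 = true := by decide +kernel

set_option maxRecDepth 1000000 in
theorem relc_5_66 : fixPtsF W_5 16666 1099956 = true := by decide +kernel

set_option maxRecDepth 1000000 in
theorem relc_9_20 : fixPtsF W_9 8163 163260 = true := by decide +kernel

set_option maxRecDepth 1000000 in
theorem relc_9_68 : fixPtsF W_9 8163 555084 = true := by decide +kernel

set_option maxRecDepth 1000000 in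
theorem relc_9_116 : fixPtsF W_9 8163 946908 = true := by decide +kernel

set_option maxRecDepth 1000000 in
theorem relc_9_164 : fixPtsF W_9 8163 1338732 = true := by decide +kernel

set_option maxRecDepth 1000000 in
theorem inv_1_11 : invRowFI tgF 1539000 1 0 50000 550000 = true := by decide +kernel

set_option maxRecDepth 1000000 in
theorem inv_2_29 : invRowFI tgF 1539000 2 3 50000 1450000 = true := by decide +kernel

set_option maxRecDepth 1000000 in
theorem inv_4_17 : invRowFI tgF 1539000 4 4 50000 850000 = true := by decide +kernel

set_option maxRecDepth 1000000 in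
theorem inv_6_5 : invRowFI tgF 1539000 6 5 50000 250000 = true := by decide +kernel

set_option maxRecDepth 1000000 in
theorem inv_7_23 : invRowFI tgF 1539000 7 8 50000 1150000 = true := by decide +kernel

set_option maxRecDepth 1000000 in
theorem relc_1_23 : fixPtsF W_1 5682 1533318 = true := by decide +kernel

end

end Cfsg.Agent.Helper5.HNM
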