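import Cfsg.Agent.Helper5.HNMDatD
import Cfsg.Agent.Helper5.HNMDatT
import Cfsg.Agent.Helper5.TCIB

/-! kernel checks of the coset table: HNM -/

set_option autoImplicit false
set_option Elab.async false

namespace Cfsg.Agent.Helper5.HNM
open Cfsg.Agent.Helper5.TC Cfsg.Agent.Helper5.TCI Cfsg.Agent.Helper5.TCS
noncomputable section

set_option maxRecDepth 1000000 in
theorem relc_12_10 : fixPtsF W_12 100000 1000000 = true := by decide +kernel

set_option maxRecDepth 1000000 in
theorem relc_11_5 : fixPtsF W_11 80000 400000 = true := by decide +kernel

set_option maxRecDepth 1000000 in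
theorem relc_1_10 : fixPtsF W_1 66666 666660 = true := by decide +kernel

set_option maxRecDepth 1000000 in
theorem relc_2_12 : fixPtsF W_2 33333 399996 = true := by decide +kernel

set_option maxRecDepth 1000000 in
theorem relc_4_2 : fixPtsF W_4 25000 50000 = true := by decide +kernel

set_option maxRecDepth 1000000 in
theorem relc_4_40 : fixPtsF W_4 25000 1000000 = true := by decide +kernel

set_option maxRecDepth 1000000 in
theorem relc_8_27 : fixPtsF W_8 20000 540000 = true := by decide +kernel

set_option maxRecDepth 1000000 in
theorem relc_8_75 : fixPtsF W_8 20000 1500000 = true := by decide +kernel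

set_option maxRecDepth 1000000 in
theorem relc_3_51 : fixPtsF W_3 19047 971397 = true := by decide +kernel

set_option maxRecDepth 1000000 in
theorem relc_5_19 : fixPtsF W_5 16666 316654 = true := by decide +kernel

set_option maxRecDepth 1000000 in
theorem relc_5_67 : fixPtsF W_5 16666 1116622 = true := by decide +kernel

set_option maxRecDepth 1000000 in
theorem relc_9_21 : fixPtsF W_9 8163 171423 = true := by decide +kernel

set_option maxRecDepth 1000000 in
theorem relc_9_69 : fixPtsF W_9 8163 563247 = true := by decide +kernel

set_option maxRecDepth 1000000 in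
theorem relc_9_117 : fixPtsF W_9 8163 955071 = true := by decide +kernel

set_option maxRecDepth 1000000 in
theorem relc_9_165 : fixPtsF W_9 8163 1346895 = true := by decide +kernel

set_option maxRecDepth 1000000 in
theorem inv_1_12 : invRowFI tgF 1539000 1 0 50000 600000 = true := by decide +kernel

set_option maxRecDepth 1000000 in
theorem inv_3_0 : invRowFI tgF 1539000 3 2 50000 0 = true := by decide +kernel

set_option maxRecDepth 1000000 in
theorem inv_4_18 : invRowFI tgF 1539000 4 4 50000 900000 = true := by decide +kernel

set_option maxRecDepth 1000000 in
theorem inv_6_6 : invRowFI tgF 1539000 6 5 50000 300000 = true := by decide +kernel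

set_option maxRecDepth 1000000 in
theorem inv_7_24 : invRowFI tgF 1539000 7 8 50000 1200000 = true := by decide +kernel

set_option maxRecDepth 1000000 in
theorem relc_13_23 : fixPtsF W_13 5682 1533318 = true := by decide +kernel

end

end Cfsg.Agent.Helper5.HNM
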