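import Cfsg.Agent.Helper5.HNMDatD
import Cfsg.Agent.Helper5.HNMDatT
import Cfsg.Agent.Helper5.TCIB

/-! kernel checks of the coset table: HNM -/

set_option autoImplicit false
set_option Elab.async false

namespace Cfsg.Agent.Helper5.HNM
open Cfsg.Agent.Helper5.TC Cfsg.Agent.Helper5.TCI Cfsg.Agent.Helper5.TCS
noncomputable section

set_option maxRecDepth 1000000 in
theorem relc_12_11 : fixPtsF W_12 100000 1100000 = true := by decide +kernel

set_option maxRecDepth 1000000 in
theorem relc_11_6 : fixPtsF W_11 80000 480000 = true := by decide +kernel

set_option maxRecDepth 1000000 in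
theorem relc_1_11 : fixPtsF W_1 66666 733326 = true := by decide +kernel

set_option maxRecDepth 1000000 in
theorem relc_2_13 : fixPtsF W_2 33333 433329 = true := by decide +kernel

set_option maxRecDepth 1000000 in
theorem relc_4_3 : fixPtsF W_4 25000 75000 = true := by decide +kernel

set_option maxRecDepth 1000000 in
theorem relc_4_41 : fixPtsF W_4 25000 1025000 = true := by decide +kernel

set_option maxRecDepth 1000000 in
theorem relc_8_28 : fixPtsF W_8 20000 560000 = true := by decide +kernel

set_option maxRecDepth 1000000 in
theorem relc_3_0 : fixPtsF W_3 19047 0 = true := by decide +kernel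

set_option maxRecDepth 1000000 in
theorem relc_3_45 : fixPtsF W_3 19047 857115 = true := by decide +kernel

set_option maxRecDepth 1000000 in
theorem relc_5_13 : fixPtsF W_5 16666 216658 = true := by decide +kernel

set_option maxRecDepth 1000000 in
theorem relc_5_61 : fixPtsF W_5 16666 1016626 = true := by decide +kernel

set_option maxRecDepth 1000000 in
theorem relc_9_15 : fixPtsF W_9 8163 122445 = true := by decide +kernel

set_option maxRecDepth 1000000 in
theorem relc_9_63 : fixPtsF W_9 8163 514269 = true := by decide +kernel

set_option maxRecDepth 1000000 in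
theorem relc_9_111 : fixPtsF W_9 8163 906093 = true := by decide +kernel

set_option maxRecDepth 1000000 in
theorem relc_9_159 : fixPtsF W_9 8163 1297917 = true := by decide +kernel

set_option maxRecDepth 1000000 in
theorem inv_1_6 : invRowFI tgF 1539000 1 0 50000 300000 = true := by decide +kernel

set_option maxRecDepth 1000000 in
theorem inv_2_24 : invRowFI tgF 1539000 2 3 50000 1200000 = true := by decide +kernel

set_option maxRecDepth 1000000 in
theorem inv_4_12 : invRowFI tgF 1539000 4 4 50000 600000 = true := by decide +kernel

set_option maxRecDepth 1000000 in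
theorem inv_6_0 : invRowFI tgF 1539000 6 5 50000 0 = true := by decide +kernel

set_option maxRecDepth 1000000 in
theorem inv_7_18 : invRowFI tgF 1539000 7 8 50000 900000 = true := by decide +kernel

set_option maxRecDepth 1000000 in
theorem inv_6_30 : invRowFI tgF 1539000 6 5 39000 1500000 = true := by decide +kernel

end

end Cfsg.Agent.Helper5.HNM
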