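import Cfsg.Agent.Helper5.HNMDatD
import Cfsg.Agent.Helper5.HNMDatT
import Cfsg.Agent.Helper5.TCIB

/-! kernel checks of the coset table: HNM -/

set_option autoImplicit false
set_option Elab.async false

namespace Cfsg.Agent.Helper5.HNM
open Cfsg.Agent.Helper5.TC Cfsg.Agent.Helper5.TCI Cfsg.Agent.Helper5.TCS
noncomputable section

set_option maxRecDepth 1000000 in
theorem relc_12_12 : fixPtsF W_12 100000 1200000 = true := by decide +kernel

set_option maxRecDepth 1000000 in
theorem relc_11_7 : fixPtsF W_11 80000 560000 = true := by decide +kernel

set_option maxRecDepth 1000000 in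
theorem relc_1_12 : fixPtsF W_1 66666 799992 = true := by decide +kernel

set_option maxRecDepth 1000000 in
theorem relc_2_14 : fixPtsF W_2 33333 466662 = true := by decide +kernel

set_option maxRecDepth 1000000 in
theorem relc_4_4 : fixPtsF W_4 25000 100000 = true := by decide +kernel

set_option maxRecDepth 1000000 in
theorem relc_4_42 : fixPtsF W_4 25000 1050000 = true := by decide +kernel

set_option maxRecDepth 1000000 in
theorem relc_8_29 : fixPtsF W_8 20000 580000 = true := by decide +kernel

set_option maxRecDepth 1000000 in
theorem relc_3_1 : fixPtsF W_3 19047 19047 = true := by decide +kernel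

set_option maxRecDepth 1000000 in
theorem relc_3_46 : fixPtsF W_3 19047 876162 = true := by decide +kernel

set_option maxRecDepth 1000000 in
theorem relc_5_14 : fixPtsF W_5 16666 233324 = true := by decide +kernel

set_option maxRecDepth 1000000 in
theorem relc_5_62 : fixPtsF W_5 16666 1033292 = true := by decide +kernel

set_option maxRecDepth 1000000 in
theorem relc_9_16 : fixPtsF W_9 8163 130608 = true := by decide +kernel

set_option maxRecDepth 1000000 in
theorem relc_9_64 : fixPtsF W_9 8163 522432 = true := by decide +kernel

set_option maxRecDepth 1000000 in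
theorem relc_9_112 : fixPtsF W_9 8163 914256 = true := by decide +kernel

set_option maxRecDepth 1000000 in
theorem relc_9_160 : fixPtsF W_9 8163 1306080 = true := by decide +kernel

set_option maxRecDepth 1000000 in
theorem inv_1_7 : invRowFI tgF 1539000 1 0 50000 350000 = true := by decide +kernel

set_option maxRecDepth 1000000 in
theorem inv_2_25 : invRowFI tgF 1539000 2 3 50000 1250000 = true := by decide +kernel

set_option maxRecDepth 1000000 in
theorem inv_4_13 : invRowFI tgF 1539000 4 4 50000 650000 = true := by decide +kernel

set_option maxRecDepth 1000000 in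
theorem inv_6_1 : invRowFI tgF 1539000 6 5 50000 50000 = true := by decide +kernel

set_option maxRecDepth 1000000 in
theorem inv_7_19 : invRowFI tgF 1539000 7 8 50000 950000 = true := by decide +kernel

set_option maxRecDepth 1000000 in
theorem inv_7_30 : invRowFI tgF 1539000 7 8 39000 1500000 = true := by decide +kernel

end

end Cfsg.Agent.Helper5.HNM
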