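import Cfsg.Agent.Helper5.HNMDatD
import Cfsg.Agent.Helper5.HNMDatT
import Cfsg.Agent.Helper5.TCIB

/-! kernel checks of the coset table: HNM -/

set_option autoImplicit false
set_option Elab.async false

namespace Cfsg.Agent.Helper5.HNM
open Cfsg.Agent.Helper5.TC Cfsg.Agent.Helper5.TCI Cfsg.Agent.Helper5.TCS
noncomputable section

set_option maxRecDepth 1000000 in
theorem relc_12_13 : fixPtsF W_12 100000 1300000 = true := by decide +kernel

set_option maxRecDepth 1000000 in
theorem relc_11_8 : fixPtsF W_11 80000 640000 = true := by decide +kernel

set_option maxRecDepth 1000000 in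
theorem relc_1_13 : fixPtsF W_1 66666 866658 = true := by decide +kernel

set_option maxRecDepth 1000000 in
theorem relc_2_15 : fixPtsF W_2 33333 499995 = true := by decide +kernel

set_option maxRecDepth 1000000 in
theorem relc_4_5 : fixPtsF W_4 25000 125000 = true := by decide +kernel

set_option maxRecDepth 1000000 in
theorem relc_4_43 : fixPtsF W_4 25000 1075000 = true := by decide +kernel

set_option maxRecDepth 1000000 in
theorem relc_8_30 : fixPtsF W_8 20000 600000 = true := by decide +kernel

set_option maxRecDepth 1000000 in
theorem relc_3_2 : fixPtsF W_3 19047 38094 = true := by decide +kernel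

set_option maxRecDepth 1000000 in
theorem relc_3_47 : fixPtsF W_3 19047 895209 = true := by decide +kernel

set_option maxRecDepth 1000000 in
theorem relc_5_15 : fixPtsF W_5 16666 249990 = true := by decide +kernel

set_option maxRecDepth 1000000 in
theorem relc_5_63 : fixPtsF W_5 16666 1049958 = true := by decide +kernel

set_option maxRecDepth 1000000 in
theorem relc_9_17 : fixPtsF W_9 8163 138771 = true := by decide +kernel

set_option maxRecDepth 1000000 in
theorem relc_9_65 : fixPtsF W_9 8163 530595 = true := by decide +kernel

set_option maxRecDepth 1000000 in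
theorem relc_9_113 : fixPtsF W_9 8163 922419 = true := by decide +kernel

set_option maxRecDepth 1000000 in
theorem relc_9_161 : fixPtsF W_9 8163 1314243 = true := by decide +kernel

set_option maxRecDepth 1000000 in
theorem inv_1_8 : invRowFI tgF 1539000 1 0 50000 400000 = true := by decide +kernel

set_option maxRecDepth 1000000 in
theorem inv_2_26 : invRowFI tgF 1539000 2 3 50000 1300000 = true := by decide +kernel

set_option maxRecDepth 1000000 in
theorem inv_4_14 : invRowFI tgF 1539000 4 4 50000 700000 = true := by decide +kernel

set_option maxRecDepth 1000000 in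
theorem inv_6_2 : invRowFI tgF 1539000 6 5 50000 100000 = true := by decide +kernel

set_option maxRecDepth 1000000 in
theorem inv_7_20 : invRowFI tgF 1539000 7 8 50000 1000000 = true := by decide +kernel

set_option maxRecDepth 1000000 in
theorem inv_8_30 : invRowFI tgF 1539000 8 7 39000 1500000 = true := by decide +kernel

end

end Cfsg.Agent.Helper5.HNM
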