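import Cfsg.Agent.Helper5.HNMDatD
import Cfsg.Agent.Helper5.HNMDatT
import Cfsg.Agent.Helper5.TCIB

/-! kernel checks of the coset table: HNM -/

set_option autoImplicit false
set_option Elab.async false

namespace Cfsg.Agent.Helper5.HNM
open Cfsg.Agent.Helper5.TC Cfsg.Agent.Helper5.TCI Cfsg.Agent.Helper5.TCS
noncomputable section

set_option maxRecDepth 1000000 in
theorem relc_12_14 : fixPtsF W_12 100000 1400000 = true := by decide +kernel

set_option maxRecDepth 1000000 in
theorem relc_11_9 : fixPtsF W_11 80000 720000 = true := by decide +kernel

set_option maxRecDepth 1000000 in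
theorem relc_1_14 : fixPtsF W_1 66666 933324 = true := by decide +kernel

set_option maxRecDepth 1000000 in
theorem relc_2_16 : fixPtsF W_2 33333 533328 = true := by decide +kernel

set_option maxRecDepth 1000000 in
theorem relc_4_6 : fixPtsF W_4 25000 150000 = true := by decide +kernel

set_option maxRecDepth 1000000 in
theorem relc_4_44 : fixPtsF W_4 25000 1100000 = true := by decide +kernel

set_option maxRecDepth 1000000 in
theorem relc_8_31 : fixPtsF W_8 20000 620000 = true := by decide +kernel

set_option maxRecDepth 1000000 in
theorem relc_3_3 : fixPtsF W_3 19047 57141 = true := by decide +kernel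

set_option maxRecDepth 1000000 in
theorem relc_3_48 : fixPtsF W_3 19047 914256 = true := by decide +kernel

set_option maxRecDepth 1000000 in
theorem relc_5_16 : fixPtsF W_5 16666 266656 = true := by decide +kernel

set_option maxRecDepth 1000000 in
theorem relc_5_64 : fixPtsF W_5 16666 1066624 = true := by decide +kernel

set_option maxRecDepth 1000000 in
theorem relc_9_18 : fixPtsF W_9 8163 146934 = true := by decide +kernel

set_option maxRecDepth 1000000 in
theorem relc_9_66 : fixPtsF W_9 8163 538758 = true := by decide +kernel

set_option maxRecDepth 1000000 in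
theorem relc_9_114 : fixPtsF W_9 8163 930582 = true := by decide +kernel

set_option maxRecDepth 1000000 in
theorem relc_9_162 : fixPtsF W_9 8163 1322406 = true := by decide +kernel

set_option maxRecDepth 1000000 in
theorem inv_1_9 : invRowFI tgF 1539000 1 0 50000 450000 = true := by decide +kernel

set_option maxRecDepth 1000000 in
theorem inv_2_27 : invRowFI tgF 1539000 2 3 50000 1350000 = true := by decide +kernel

set_option maxRecDepth 1000000 in
theorem inv_4_15 : invRowFI tgF 1539000 4 4 50000 750000 = true := by decide +kernel

set_option maxRecDepth 1000000 in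
theorem inv_6_3 : invRowFI tgF 1539000 6 5 50000 150000 = true := by decide +kernel

set_option maxRecDepth 1000000 in
theorem inv_7_21 : invRowFI tgF 1539000 7 8 50000 1050000 = true := by decide +kernel

set_option maxRecDepth 1000000 in
theorem relc_2_46 : fixPtsF W_2 5682 1533318 = true := by decide +kernel

end

end Cfsg.Agent.Helper5.HNM
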