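import Cfsg.Agent.Helper5.HNMDatD
import Cfsg.Agent.Helper5.HNMDatT
import Cfsg.Agent.Helper5.TCIB

/-! kernel checks of the coset table: HNM -/

set_option autoImplicit false
set_option Elab.async false

namespace Cfsg.Agent.Helper5.HNM
open Cfsg.Agent.Helper5.TC Cfsg.Agent.Helper5.TCI Cfsg.Agent.Helper5.TCS
noncomputable section

set_option maxRecDepth 1000000 in
theorem relc_6_5 : fixPtsF W_6 200000 1000000 = true := by decide +kernel

set_option maxRecDepth 1000000 in
theorem relc_0_7 : fixPtsF W_0 66666 466662 = true := by decide +kernel

set_option maxRecDepth 1000000 in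
theorem relc_13_9 : fixPtsF W_13 66666 599994 = true := by decide +kernel

set_option maxRecDepth 1000000 in
theorem relc_2_34 : fixPtsF W_2 33333 1133322 = true := by decide +kernel

set_option maxRecDepth 1000000 in
theorem relc_4_36 : fixPtsF W_4 25000 900000 = true := by decide +kernel

set_option maxRecDepth 1000000 in
theorem relc_8_23 : fixPtsF W_8 20000 460000 = true := by decide +kernel

set_option maxRecDepth 1000000 in
theorem relc_8_71 : fixPtsF W_8 20000 1420000 = true := by decide +kernel

set_option maxRecDepth 1000000 in
theorem relc_3_43 : fixPtsF W_3 19047 819021 = true := by decide +kernel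

set_option maxRecDepth 1000000 in
theorem relc_5_11 : fixPtsF W_5 16666 183326 = true := by decide +kernel

set_option maxRecDepth 1000000 in
theorem relc_5_59 : fixPtsF W_5 16666 983294 = true := by decide +kernel

set_option maxRecDepth 1000000 in
theorem relc_9_13 : fixPtsF W_9 8163 106119 = true := by decide +kernel

set_option maxRecDepth 1000000 in
theorem relc_9_61 : fixPtsF W_9 8163 497943 = true := by decide +kernel

set_option maxRecDepth 1000000 in
theorem relc_9_109 : fixPtsF W_9 8163 889767 = true := by decide +kernel

set_option maxRecDepth 1000000 in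
theorem relc_9_157 : fixPtsF W_9 8163 1281591 = true := by decide +kernel

set_option maxRecDepth 1000000 in
theorem inv_0_9 : invRowFI tgF 1539000 0 1 50000 450000 = true := by decide +kernel

set_option maxRecDepth 1000000 in
theorem inv_0_27 : invRowFI tgF 1539000 0 1 50000 1350000 = true := by decide +kernel

set_option maxRecDepth 1000000 in
theorem inv_2_15 : invRowFI tgF 1539000 2 3 50000 750000 = true := by decide +kernel

set_option maxRecDepth 1000000 in
theorem inv_4_3 : invRowFI tgF 1539000 4 4 50000 150000 = true := by decide +kernel

set_option maxRecDepth 1000000 in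
theorem inv_5_21 : invRowFI tgF 1539000 5 6 50000 1050000 = true := by decide +kernel

set_option maxRecDepth 1000000 in
theorem inv_7_9 : invRowFI tgF 1539000 7 8 50000 450000 = true := by decide +kernel

set_option maxRecDepth 1000000 in
theorem inv_8_27 : invRowFI tgF 1539000 8 7 50000 1350000 = true := by decide +kernel

end

end Cfsg.Agent.Helper5.HNM
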