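import Cfsg.Agent.Helper5.HNMDatD
import Cfsg.Agent.Helper5.HNMDatT
import Cfsg.Agent.Helper5.TCIB

/-! kernel checks of the coset table: HNM -/

set_option autoImplicit false
set_option Elab.async false

namespace Cfsg.Agent.Helper5.HNM
open Cfsg.Agent.Helper5.TC Cfsg.Agent.Helper5.TCI Cfsg.Agent.Helper5.TCS
noncomputable section

set_option maxRecDepth 1000000 in
theorem relc_6_6 : fixPtsF W_6 200000 1200000 = true := by decide +kernel

set_option maxRecDepth 1000000 in
theorem relc_0_8 : fixPtsF W_0 66666 533328 = true := by decide +kernel

set_option maxRecDepth 1000000 in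
theorem relc_13_10 : fixPtsF W_13 66666 666660 = true := by decide +kernel

set_option maxRecDepth 1000000 in
theorem relc_2_35 : fixPtsF W_2 33333 1166655 = true := by decide +kernel

set_option maxRecDepth 1000000 in
theorem relc_4_37 : fixPtsF W_4 25000 925000 = true := by decide +kernel

set_option maxRecDepth 1000000 in
theorem relc_8_24 : fixPtsF W_8 20000 480000 = true := by decide +kernel

set_option maxRecDepth 1000000 in
theorem relc_8_72 : fixPtsF W_8 20000 1440000 = true := by decide +kernel

set_option maxRecDepth 1000000 in
theorem relc_3_44 : fixPtsF W_3 19047 838068 = true := by decide +kernel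

set_option maxRecDepth 1000000 in
theorem relc_5_12 : fixPtsF W_5 16666 199992 = true := by decide +kernel

set_option maxRecDepth 1000000 in
theorem relc_5_60 : fixPtsF W_5 16666 999960 = true := by decide +kernel

set_option maxRecDepth 1000000 in
theorem relc_9_14 : fixPtsF W_9 8163 114282 = true := by decide +kernel

set_option maxRecDepth 1000000 in
theorem relc_9_62 : fixPtsF W_9 8163 506106 = true := by decide +kernel

set_option maxRecDepth 1000000 in
theorem relc_9_110 : fixPtsF W_9 8163 897930 = true := by decide +kernel

set_option maxRecDepth 1000000 in
theorem relc_9_158 : fixPtsF W_9 8163 1289754 = true := by decide +kernel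

set_option maxRecDepth 1000000 in
theorem inv_0_10 : invRowFI tgF 1539000 0 1 50000 500000 = true := by decide +kernel

set_option maxRecDepth 1000000 in
theorem inv_0_28 : invRowFI tgF 1539000 0 1 50000 1400000 = true := by decide +kernel

set_option maxRecDepth 1000000 in
theorem inv_2_16 : invRowFI tgF 1539000 2 3 50000 800000 = true := by decide +kernel

set_option maxRecDepth 1000000 in
theorem inv_4_4 : invRowFI tgF 1539000 4 4 50000 200000 = true := by decide +kernel

set_option maxRecDepth 1000000 in
theorem inv_5_22 : invRowFI tgF 1539000 5 6 50000 1100000 = true := by decide +kernel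

set_option maxRecDepth 1000000 in
theorem inv_7_10 : invRowFI tgF 1539000 7 8 50000 500000 = true := by decide +kernel

set_option maxRecDepth 1000000 in
theorem inv_8_28 : invRowFI tgF 1539000 8 7 50000 1400000 = true := by decide +kernel

end

end Cfsg.Agent.Helper5.HNM
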