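import Cfsg.Agent.Helper5.HNMDatD
import Cfsg.Agent.Helper5.HNMDatT
import Cfsg.Agent.Helper5.TCIB

/-! kernel checks of the coset table: HNM -/

set_option autoImplicit false
set_option Elab.async false

namespace Cfsg.Agent.Helper5.HNM
open Cfsg.Agent.Helper5.TC Cfsg.Agent.Helper5.TCI Cfsg.Agent.Helper5.TCS
noncomputable section

set_option maxRecDepth 1000000 in
theorem relc_18_0 : fixPtsF W_18 133333 0 = true := by decide +kernel

set_option maxRecDepth 1000000 in
theorem relc_11_10 : fixPtsF W_11 80000 800000 = true := by decide +kernel

set_option maxRecDepth 1000000 in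
theorem relc_1_18 : fixPtsF W_1 66666 1199988 = true := by decide +kernel

set_option maxRecDepth 1000000 in
theorem relc_2_20 : fixPtsF W_2 33333 666660 = true := by decide +kernel

set_option maxRecDepth 1000000 in
theorem relc_4_10 : fixPtsF W_4 25000 250000 = true := by decide +kernel

set_option maxRecDepth 1000000 in
theorem relc_4_58 : fixPtsF W_4 25000 1450000 = true := by decide +kernel

set_option maxRecDepth 1000000 in
theorem relc_8_63 : fixPtsF W_8 20000 1260000 = true := by decide +kernel

set_option maxRecDepth 1000000 in
theorem relc_3_35 : fixPtsF W_3 19047 666645 = true := by decide +kernel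

set_option maxRecDepth 1000000 in
theorem relc_5_3 : fixPtsF W_5 16666 49998 = true := by decide +kernel

set_option maxRecDepth 1000000 in
theorem relc_5_51 : fixPtsF W_5 16666 849966 = true := by decide +kernel

set_option maxRecDepth 1000000 in
theorem relc_9_5 : fixPtsF W_9 8163 40815 = true := by decide +kernel

set_option maxRecDepth 1000000 in
theorem relc_9_40 : fixPtsF W_9 8163 326520 = true := by decide +kernel

set_option maxRecDepth 1000000 in
theorem relc_9_88 : fixPtsF W_9 8163 718344 = true := by decide +kernel

set_option maxRecDepth 1000000 in
theorem relc_9_136 : fixPtsF W_9 8163 1110168 = true := by decide +kernel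

set_option maxRecDepth 1000000 in
theorem relc_9_184 : fixPtsF W_9 8163 1501992 = true := by decide +kernel

set_option maxRecDepth 1000000 in
theorem inv_2_3 : invRowFI tgF 1539000 2 3 50000 150000 = true := by decide +kernel

set_option maxRecDepth 1000000 in
theorem inv_3_21 : invRowFI tgF 1539000 3 2 50000 1050000 = true := by decide +kernel

set_option maxRecDepth 1000000 in
theorem inv_5_9 : invRowFI tgF 1539000 5 6 50000 450000 = true := by decide +kernel

set_option maxRecDepth 1000000 in
theorem inv_6_27 : invRowFI tgF 1539000 6 5 50000 1350000 = true := by decide +kernel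

set_option maxRecDepth 1000000 in
theorem inv_8_15 : invRowFI tgF 1539000 8 7 50000 750000 = true := by decide +kernel

end

end Cfsg.Agent.Helper5.HNM
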