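import Cfsg.Agent.Helper5.HNMDatD
import Cfsg.Agent.Helper5.HNMDatT
import Cfsg.Agent.Helper5.TCIB

/-! kernel checks of the coset table: HNM -/

set_option autoImplicit false
set_option Elab.async false

namespace Cfsg.Agent.Helper5.HNM
open Cfsg.Agent.Helper5.TC Cfsg.Agent.Helper5.TCI Cfsg.Agent.Helper5.TCS
noncomputable section

set_option maxRecDepth 1000000 in
theorem relc_18_1 : fixPtsF W_18 133333 133333 = true := by decide +kernel

set_option maxRecDepth 1000000 in
theorem relc_11_11 : fixPtsF W_11 80000 880000 = true := by decide +kernel

set_option maxRecDepth 1000000 in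
theorem relc_1_19 : fixPtsF W_1 66666 1266654 = true := by decide +kernel

set_option maxRecDepth 1000000 in
theorem relc_2_21 : fixPtsF W_2 33333 699993 = true := by decide +kernel

set_option maxRecDepth 1000000 in
theorem relc_4_11 : fixPtsF W_4 25000 275000 = true := by decide +kernel

set_option maxRecDepth 1000000 in
theorem relc_4_59 : fixPtsF W_4 25000 1475000 = true := by decide +kernel

set_option maxRecDepth 1000000 in
theorem relc_8_64 : fixPtsF W_8 20000 1280000 = true := by decide +kernel

set_option maxRecDepth 1000000 in
theorem relc_3_36 : fixPtsF W_3 19047 685692 = true := by decide +kernel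

set_option maxRecDepth 1000000 in
theorem relc_5_4 : fixPtsF W_5 16666 66664 = true := by decide +kernel

set_option maxRecDepth 1000000 in
theorem relc_5_52 : fixPtsF W_5 16666 866632 = true := by decide +kernel

set_option maxRecDepth 1000000 in
theorem relc_9_6 : fixPtsF W_9 8163 48978 = true := by decide +kernel

set_option maxRecDepth 1000000 in
theorem relc_9_41 : fixPtsF W_9 8163 334683 = true := by decide +kernel

set_option maxRecDepth 1000000 in
theorem relc_9_89 : fixPtsF W_9 8163 726507 = true := by decide +kernel

set_option maxRecDepth 1000000 in
theorem relc_9_137 : fixPtsF W_9 8163 1118331 = true := by decide +kernel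

set_option maxRecDepth 1000000 in
theorem relc_9_185 : fixPtsF W_9 8163 1510155 = true := by decide +kernel

set_option maxRecDepth 1000000 in
theorem inv_2_4 : invRowFI tgF 1539000 2 3 50000 200000 = true := by decide +kernel

set_option maxRecDepth 1000000 in
theorem inv_3_22 : invRowFI tgF 1539000 3 2 50000 1100000 = true := by decide +kernel

set_option maxRecDepth 1000000 in
theorem inv_5_10 : invRowFI tgF 1539000 5 6 50000 500000 = true := by decide +kernel

set_option maxRecDepth 1000000 in
theorem inv_6_28 : invRowFI tgF 1539000 6 5 50000 1400000 = true := by decide +kernel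

set_option maxRecDepth 1000000 in
theorem inv_8_16 : invRowFI tgF 1539000 8 7 50000 800000 = true := by decide +kernel

end

end Cfsg.Agent.Helper5.HNM
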