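import Cfsg.Agent.Helper5.HNMDatD
import Cfsg.Agent.Helper5.HNMDatT
import Cfsg.Agent.Helper5.TCIB

/-! kernel checks of the coset table: HNM -/

set_option autoImplicit false
set_option Elab.async false

namespace Cfsg.Agent.Helper5.HNM
open Cfsg.Agent.Helper5.TC Cfsg.Agent.Helper5.TCI Cfsg.Agent.Helper5.TCS
noncomputable section

set_option maxRecDepth 1000000 in
theorem relc_18_2 : fixPtsF W_18 133333 266666 = true := by decide +kernel

set_option maxRecDepth 1000000 in
theorem relc_11_12 : fixPtsF W_11 80000 960000 = true := by decide +kernel

set_option maxRecDepth 1000000 in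
theorem relc_1_20 : fixPtsF W_1 66666 1333320 = true := by decide +kernel

set_option maxRecDepth 1000000 in
theorem relc_2_22 : fixPtsF W_2 33333 733326 = true := by decide +kernel

set_option maxRecDepth 1000000 in
theorem relc_4_12 : fixPtsF W_4 25000 300000 = true := by decide +kernel

set_option maxRecDepth 1000000 in
theorem relc_4_60 : fixPtsF W_4 25000 1500000 = true := by decide +kernel

set_option maxRecDepth 1000000 in
theorem relc_8_65 : fixPtsF W_8 20000 1300000 = true := by decide +kernel

set_option maxRecDepth 1000000 in
theorem relc_3_37 : fixPtsF W_3 19047 704739 = true := by decide +kernel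

set_option maxRecDepth 1000000 in
theorem relc_5_5 : fixPtsF W_5 16666 83330 = true := by decide +kernel

set_option maxRecDepth 1000000 in
theorem relc_5_53 : fixPtsF W_5 16666 883298 = true := by decide +kernel

set_option maxRecDepth 1000000 in
theorem relc_9_7 : fixPtsF W_9 8163 57141 = true := by decide +kernel

set_option maxRecDepth 1000000 in
theorem relc_9_42 : fixPtsF W_9 8163 342846 = true := by decide +kernel

set_option maxRecDepth 1000000 in
theorem relc_9_90 : fixPtsF W_9 8163 734670 = true := by decide +kernel

set_option maxRecDepth 1000000 in
theorem relc_9_138 : fixPtsF W_9 8163 1126494 = true := by decide +kernel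

set_option maxRecDepth 1000000 in
theorem relc_9_186 : fixPtsF W_9 8163 1518318 = true := by decide +kernel

set_option maxRecDepth 1000000 in
theorem inv_2_5 : invRowFI tgF 1539000 2 3 50000 250000 = true := by decide +kernel

set_option maxRecDepth 1000000 in
theorem inv_3_23 : invRowFI tgF 1539000 3 2 50000 1150000 = true := by decide +kernel

set_option maxRecDepth 1000000 in
theorem inv_5_11 : invRowFI tgF 1539000 5 6 50000 550000 = true := by decide +kernel

set_option maxRecDepth 1000000 in
theorem inv_6_29 : invRowFI tgF 1539000 6 5 50000 1450000 = true := by decide +kernel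

set_option maxRecDepth 1000000 in
theorem inv_8_17 : invRowFI tgF 1539000 8 7 50000 850000 = true := by decide +kernel

end

end Cfsg.Agent.Helper5.HNM
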