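import Cfsg.Agent.Helper5.HNMChkE0
import Cfsg.Agent.Helper5.HNMChkE1
import Cfsg.Agent.Helper5.HNMChkE2
import Cfsg.Agent.Helper5.HNMChkE3
import Cfsg.Agent.Helper5.HNMChkE4
import Cfsg.Agent.Helper5.HNMChkE5
import Cfsg.Agent.Helper5.HNMChkE6
import Cfsg.Agent.Helper5.HNMChkE7
import Cfsg.Agent.Helper5.HNMChkE8
import Cfsg.Agent.Helper5.HNMChkE9
import Cfsg.Agent.Helper5.HNMChkE10
import Cfsg.Agent.Helper5.HNMChkE11
import Cfsg.Agent.Helper5.HNMChkE12
import Cfsg.Agent.Helper5.HNMChkE13
import Cfsg.Agent.Helper5.HNMChkE14
import Cfsg.Agent.Helper5.HNMChkE15
import Cfsg.Agent.Helper5.HNMChkE16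
import Cfsg.Agent.Helper5.HNMChkE17
import Cfsg.Agent.Helper5.HNMChkE18
import Cfsg.Agent.Helper5.HNMChkE19
import Cfsg.Agent.Helper5.HNMChkE20
import Cfsg.Agent.Helper5.HNMChkE21
import Cfsg.Agent.Helper5.HNMChkE22
import Cfsg.Agent.Helper5.HNMChkE23
import Cfsg.Agent.Helper5.HNMChkE24
import Cfsg.Agent.Helper5.HNMChkE25
import Cfsg.Agent.Helper5.HNMChkE26
import Cfsg.Agent.Helper5.HNMChkE27
import Cfsg.Agent.Helper5.HNMChkE28
import Cfsg.Agent.Helper5.HNMChkE29
import Cfsg.Agent.Helper5.HNMChkE30
import Cfsg.Agent.Helper5.HNMChkE31
import Cfsg.Agent.Helper5.HNMChkE32
import Cfsg.Agent.Helper5.HNMChkE33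
import Cfsg.Agent.Helper5.HNMChkE34
import Cfsg.Agent.Helper5.HNMChkE35
import Cfsg.Agent.Helper5.HNMChkE36
import Cfsg.Agent.Helper5.HNMChkE37
import Cfsg.Agent.Helper5.HNMChkE38
import Cfsg.Agent.Helper5.HNMChkE39
import Cfsg.Agent.Helper5.HNMChkE40
import Cfsg.Agent.Helper5.HNMChkE41
import Cfsg.Agent.Helper5.HNMChkE42
import Cfsg.Agent.Helper5.HNMChkE43
import Cfsg.Agent.Helper5.HNMChkE44
import Cfsg.Agent.Helper5.HNMChkE45
import Cfsg.Agent.Helper5.HNMChkE46
import Cfsg.Agent.Helper5.HNMChkE47
import Cfsg.Agent.Helper5.HNMChkR0
import Cfsg.Agent.Helper5.HNMChkR1
import Cfsg.Agent.Helper5.HNMChkR2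
import Cfsg.Agent.Helper5.HNMChkR3
import Cfsg.Agent.Helper5.HNMChkR4
import Cfsg.Agent.Helper5.HNMChkR5
import Cfsg.Agent.Helper5.HNMChkR6
import Cfsg.Agent.Helper5.HNMChkR7
import Cfsg.Agent.Helper5.HNMChkR8
import Cfsg.Agent.Helper5.HNMChkR9
import Cfsg.Agent.Helper5.HNMChkR10
import Cfsg.Agent.Helper5.HNMChkR11
import Cfsg.Agent.Helper5.HNMChkR12
import Cfsg.Agent.Helper5.HNMChkR13
import Cfsg.Agent.Helper5.HNMChkR14
import Cfsg.Agent.Helper5.HNMChkR15
import Cfsg.Agent.Helper5.HNMChkR16
import Cfsg.Agent.Helper5.HNMChkR17
import Cfsg.Agent.Helper5.HNMChkR18
import Cfsg.Agent.Helper5.HNMChkR19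
import Cfsg.Agent.Helper5.HNMChkR20
import Cfsg.Agent.Helper5.HNMChkR21
import Cfsg.Agent.Helper5.HNMChkR22
import Cfsg.Agent.Helper5.HNMChkR23
import Cfsg.Agent.Helper5.HNMChkR24
import Cfsg.Agent.Helper5.HNMChkR25
import Cfsg.Agent.Helper5.HNMChkR26
import Cfsg.Agent.Helper5.HNMChkR27
import Cfsg.Agent.Helper5.HNMChkR28
import Cfsg.Agent.Helper5.HNMChkR29
import Cfsg.Agent.Helper5.HNMChkR30
import Cfsg.Agent.Helper5.HNMChkR31
import Cfsg.Agent.Helper5.HNMChkR32
import Cfsg.Agent.Helper5.HNMChkR33
import Cfsg.Agent.Helper5.HNMChkR34
import Cfsg.Agent.Helper5.HNMChkR35
import Cfsg.Agent.Helper5.HNMChkR36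
import Cfsg.Agent.Helper5.HNMChkR37
import Cfsg.Agent.Helper5.HNMChkR38
import Cfsg.Agent.Helper5.HNMChkR39
import Cfsg.Agent.Helper5.HNMChkR40
import Cfsg.Agent.Helper5.HNMChkR41
import Cfsg.Agent.Helper5.HNMChkR42
import Cfsg.Agent.Helper5.HNMChkR43
import Cfsg.Agent.Helper5.HNMChkR44
import Cfsg.Agent.Helper5.HNMChkR45
import Cfsg.Agent.Helper5.HNMChkR46
import Cfsg.Agent.Helper5.HNMChkR47
import Cfsg.Agent.Helper5.HNMChkA
import Cfsg.Agent.Helper5.TCIB

/-! summary of the kernel checks: HNM -/

set_option autoImplicit false
set_option Elab.async false

namespace Cfsg.Agent.Helper5.HNM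
open Cfsg.Agent.Helper5.TC Cfsg.Agent.Helper5.TCI Cfsg.Agent.Helper5.TCS
noncomputable section

theorem edgesx_0 : ∀ v, v < 1539000 → edgeOKS iota B E 0 v = true := by
  intro v hv
  rcases Nat.lt_or_ge v 870221 with h | h
  · rcases Nat.lt_or_ge v 430990 with h | h
    · rcases Nat.lt_or_ge v 195304 with h | h
      · rcases Nat.lt_or_ge v 116273 with h | h
        · rcases Nat.lt_or_ge v 48542 with h | h
          · rcases Nat.lt_or_ge v 30826 with h | h
            · exact edgesRangeS_spec iota B E 0 30826 0 edges_0_0 v (by omega) (by omega)
            · exact edgesRangeS_spec iota B E 0 17716 30826 edges_0_1 v (by omega) (by omega)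
          · rcases Nat.lt_or_ge v 82715 with h | h
            · exact edgesRangeS_spec iota B E 0 34173 48542 edges_0_2 v (by omega) (by omega)
            · exact edgesRangeS_spec iota B E 0 33558 82715 edges_0_3 v (by omega) (by omega)
        · rcases Nat.lt_or_ge v 169363 with h | h
          · rcases Nat.lt_or_ge v 148241 with h | h
            · exact edgesRangeS_spec iota B E 0 31968 116273 edges_0_4 v (by omega) (by omega)
            · exact edgesRangeS_spec iota B E 0 21122 148241 edges_0_5 v (by omega) (by omega)
          · rcases Nat.lt_or_ge v 182338 with h | h
            · exact edgesRangeS_spec iota B E 0 12975 169363 edges_0_6 v (by omega) (by omega)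
            · exact edgesRangeS_spec iota B E 0 12966 182338 edges_0_7 v (by omega) (by omega)
      · rcases Nat.lt_or_ge v 296282 with h | h
        · rcases Nat.lt_or_ge v 230222 with h | h
          · rcases Nat.lt_or_ge v 208278 with h | h
            · exact edgesRangeS_spec iota B E 0 12974 195304 edges_0_8 v (by omega) (by omega)
            · exact edgesRangeS_spec iota B E 0 21944 208278 edges_0_9 v (by omega) (by omega)
          · rcases Nat.lt_or_ge v 261295 with h | h
            · exact edgesRangeS_spec iota B E 0 31073 230222 edges_0_10 v (by omega) (by omega)
            · exact edgesRangeS_spec iota B E 0 34987 261295 edges_0_11 v (by omega) (by omega)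
        · rcases Nat.lt_or_ge v 363812 with h | h
          · rcases Nat.lt_or_ge v 329704 with h | h
            · exact edgesRangeS_spec iota B E 0 33422 296282 edges_0_12 v (by omega) (by omega)
            · exact edgesRangeS_spec iota B E 0 34108 329704 edges_0_13 v (by omega) (by omega)
          · rcases Nat.lt_or_ge v 397639 with h | h
            · exact edgesRangeS_spec iota B E 0 33827 363812 edges_0_14 v (by omega) (by omega)
            · exact edgesRangeS_spec iota B E 0 33351 397639 edges_0_15 v (by omega) (by omega)
    · rcases Nat.lt_or_ge v 594443 with h | h
      · rcases Nat.lt_or_ge v 534118 with h | h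
        · rcases Nat.lt_or_ge v 495243 with h | h
          · rcases Nat.lt_or_ge v 463221 with h | h
            · exact edgesRangeS_spec iota B E 0 32231 430990 edges_0_16 v (by omega) (by omega)
            · exact edgesRangeS_spec iota B E 0 32022 463221 edges_0_17 v (by omega) (by omega)
          · rcases Nat.lt_or_ge v 521020 with h | h
            · exact edgesRangeS_spec iota B E 0 25777 495243 edges_0_18 v (by omega) (by omega)
            · exact edgesRangeS_spec iota B E 0 13098 521020 edges_0_19 v (by omega) (by omega)
        · rcases Nat.lt_or_ge v 560196 with h | h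
          · rcases Nat.lt_or_ge v 547194 with h | h
            · exact edgesRangeS_spec iota B E 0 13076 534118 edges_0_20 v (by omega) (by omega)
            · exact edgesRangeS_spec iota B E 0 13002 547194 edges_0_21 v (by omega) (by omega)
          · rcases Nat.lt_or_ge v 573181 with h | h
            · exact edgesRangeS_spec iota B E 0 12985 560196 edges_0_22 v (by omega) (by omega)
            · exact edgesRangeS_spec iota B E 0 21262 573181 edges_0_23 v (by omega) (by omega)
      · rcases Nat.lt_or_ge v 732372 with h | h
        · rcases Nat.lt_or_ge v 660269 with h | h
          · rcases Nat.lt_or_ge v 624443 with h | h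
            · exact edgesRangeS_spec iota B E 0 30000 594443 edges_0_24 v (by omega) (by omega)
            · exact edgesRangeS_spec iota B E 0 35826 624443 edges_0_25 v (by omega) (by omega)
          · rcases Nat.lt_or_ge v 697173 with h | h
            · exact edgesRangeS_spec iota B E 0 36904 660269 edges_0_26 v (by omega) (by omega)
            · exact edgesRangeS_spec iota B E 0 35199 697173 edges_0_27 v (by omega) (by omega)
        · rcases Nat.lt_or_ge v 801483 with h | h
          · rcases Nat.lt_or_ge v 766957 with h | h
            · exact edgesRangeS_spec iota B E 0 34585 732372 edges_0_28 v (by omega) (by omega)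
            · exact edgesRangeS_spec iota B E 0 34526 766957 edges_0_29 v (by omega) (by omega)
          · rcases Nat.lt_or_ge v 835902 with h | h
            · exact edgesRangeS_spec iota B E 0 34419 801483 edges_0_30 v (by omega) (by omega)
            · exact edgesRangeS_spec iota B E 0 34319 835902 edges_0_31 v (by omega) (by omega)
  · rcases Nat.lt_or_ge v 1310200 with h | h
    · rcases Nat.lt_or_ge v 1130012 with h | h
      · rcases Nat.lt_or_ge v 1002243 with h | h
        · rcases Nat.lt_or_ge v 937799 with h | h
          · rcases Nat.lt_or_ge v 904338 with h | h
            · exact edgesRangeS_spec iota B E 0 34117 870221 edges_0_32 v (by omega) (by omega)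
            · exact edgesRangeS_spec iota B E 0 33461 904338 edges_0_33 v (by omega) (by omega)
          · rcases Nat.lt_or_ge v 970061 with h | h
            · exact edgesRangeS_spec iota B E 0 32262 937799 edges_0_34 v (by omega) (by omega)
            · exact edgesRangeS_spec iota B E 0 32182 970061 edges_0_35 v (by omega) (by omega)
        · rcases Nat.lt_or_ge v 1066320 with h | h
          · rcases Nat.lt_or_ge v 1034310 with h | h
            · exact edgesRangeS_spec iota B E 0 32067 1002243 edges_0_36 v (by omega) (by omega)
            · exact edgesRangeS_spec iota B E 0 32010 1034310 edges_0_37 v (by omega) (by omega)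
          · rcases Nat.lt_or_ge v 1098205 with h | h
            · exact edgesRangeS_spec iota B E 0 31885 1066320 edges_0_38 v (by omega) (by omega)
            · exact edgesRangeS_spec iota B E 0 31807 1098205 edges_0_39 v (by omega) (by omega)
      · rcases Nat.lt_or_ge v 1256141 with h | h
        · rcases Nat.lt_or_ge v 1193309 with h | h
          · rcases Nat.lt_or_ge v 1161739 with h | h
            · exact edgesRangeS_spec iota B E 0 31727 1130012 edges_0_40 v (by omega) (by omega)
            · exact edgesRangeS_spec iota B E 0 31570 1161739 edges_0_41 v (by omega) (by omega)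
          · rcases Nat.lt_or_ge v 1224705 with h | h
            · exact edgesRangeS_spec iota B E 0 31396 1193309 edges_0_42 v (by omega) (by omega)
            · exact edgesRangeS_spec iota B E 0 31436 1224705 edges_0_43 v (by omega) (by omega)
        · rcases Nat.lt_or_ge v 1283160 with h | h
          · rcases Nat.lt_or_ge v 1269638 with h | h
            · exact edgesRangeS_spec iota B E 0 13497 1256141 edges_0_44 v (by omega) (by omega)
            · exact edgesRangeS_spec iota B E 0 13522 1269638 edges_0_45 v (by omega) (by omega)
          · rcases Nat.lt_or_ge v 1296697 with h | h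
            · exact edgesRangeS_spec iota B E 0 13537 1283160 edges_0_46 v (by omega) (by omega)
            · exact edgesRangeS_spec iota B E 0 13503 1296697 edges_0_47 v (by omega) (by omega)
    · rcases Nat.lt_or_ge v 1418401 with h | h
      · rcases Nat.lt_or_ge v 1364272 with h | h
        · rcases Nat.lt_or_ge v 1337275 with h | h
          · rcases Nat.lt_or_ge v 1323756 with h | h
            · exact edgesRangeS_spec iota B E 0 13556 1310200 edges_0_48 v (by omega) (by omega)
            · exact edgesRangeS_spec iota B E 0 13519 1323756 edges_0_49 v (by omega) (by omega)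
          · rcases Nat.lt_or_ge v 1350760 with h | h
            · exact edgesRangeS_spec iota B E 0 13485 1337275 edges_0_50 v (by omega) (by omega)
            · exact edgesRangeS_spec iota B E 0 13512 1350760 edges_0_51 v (by omega) (by omega)
        · rcases Nat.lt_or_ge v 1391405 with h | h
          · rcases Nat.lt_or_ge v 1377837 with h | h
            · exact edgesRangeS_spec iota B E 0 13565 1364272 edges_0_52 v (by omega) (by omega)
            · exact edgesRangeS_spec iota B E 0 13568 1377837 edges_0_53 v (by omega) (by omega)
          · rcases Nat.lt_or_ge v 1404898 with h | h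
            · exact edgesRangeS_spec iota B E 0 13493 1391405 edges_0_54 v (by omega) (by omega)
            · exact edgesRangeS_spec iota B E 0 13503 1404898 edges_0_55 v (by omega) (by omega)
      · rcases Nat.lt_or_ge v 1472555 with h | h
        · rcases Nat.lt_or_ge v 1445523 with h | h
          · rcases Nat.lt_or_ge v 1431861 with h | h
            · exact edgesRangeS_spec iota B E 0 13460 1418401 edges_0_56 v (by omega) (by omega)
            · exact edgesRangeS_spec iota B E 0 13662 1431861 edges_0_57 v (by omega) (by omega)
          · rcases Nat.lt_or_ge v 1459013 with h | h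
            · exact edgesRangeS_spec iota B E 0 13490 1445523 edges_0_58 v (by omega) (by omega)
            · exact edgesRangeS_spec iota B E 0 13542 1459013 edges_0_59 v (by omega) (by omega)
        · rcases Nat.lt_or_ge v 1499618 with h | h
          · rcases Nat.lt_or_ge v 1486080 with h | h
            · exact edgesRangeS_spec iota B E 0 13525 1472555 edges_0_60 v (by omega) (by omega)
            · exact edgesRangeS_spec iota B E 0 13538 1486080 edges_0_61 v (by omega) (by omega)
          · rcases Nat.lt_or_ge v 1519270 with h | h
            · exact edgesRangeS_spec iota B E 0 19652 1499618 edges_0_62 v (by omega) (by omega)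
            · exact edgesRangeS_spec iota B E 0 19730 1519270 edges_0_63 v (by omega) (by omega)

theorem edgesx_1 : ∀ v, v < 1539000 → edgeOKS iota B E 1 v = true := by
  intro v hv
  rcases Nat.lt_or_ge v 902145 with h | h
  · rcases Nat.lt_or_ge v 430944 with h | h
    · rcases Nat.lt_or_ge v 195275 with h | h
      · rcases Nat.lt_or_ge v 116228 with h | h
        · rcases Nat.lt_or_ge v 48522 with h | h
          · rcases Nat.lt_or_ge v 30796 with h | h
            · exact edgesRangeS_spec iota B E 1 30796 0 edges_1_0 v (by omega) (by omega)
            · exact edgesRangeS_spec iota B E 1 17726 30796 edges_1_1 v (by omega) (by omega)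
          · rcases Nat.lt_or_ge v 82671 with h | h
            · exact edgesRangeS_spec iota B E 1 34149 48522 edges_1_2 v (by omega) (by omega)
            · exact edgesRangeS_spec iota B E 1 33557 82671 edges_1_3 v (by omega) (by omega)
        · rcases Nat.lt_or_ge v 169335 with h | h
          · rcases Nat.lt_or_ge v 148199 with h | h
            · exact edgesRangeS_spec iota B E 1 31971 116228 edges_1_4 v (by omega) (by omega)
            · exact edgesRangeS_spec iota B E 1 21136 148199 edges_1_5 v (by omega) (by omega)
          · rcases Nat.lt_or_ge v 182300 with h | h
            · exact edgesRangeS_spec iota B E 1 12965 169335 edges_1_6 v (by omega) (by omega)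
            · exact edgesRangeS_spec iota B E 1 12975 182300 edges_1_7 v (by omega) (by omega)
      · rcases Nat.lt_or_ge v 296232 with h | h
        · rcases Nat.lt_or_ge v 230180 with h | h
          · rcases Nat.lt_or_ge v 208246 with h | h
            · exact edgesRangeS_spec iota B E 1 12971 195275 edges_1_8 v (by omega) (by omega)
            · exact edgesRangeS_spec iota B E 1 21934 208246 edges_1_9 v (by omega) (by omega)
          · rcases Nat.lt_or_ge v 261248 with h | h
            · exact edgesRangeS_spec iota B E 1 31068 230180 edges_1_10 v (by omega) (by omega)
            · exact edgesRangeS_spec iota B E 1 34984 261248 edges_1_11 v (by omega) (by omega)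
        · rcases Nat.lt_or_ge v 363764 with h | h
          · rcases Nat.lt_or_ge v 329655 with h | h
            · exact edgesRangeS_spec iota B E 1 33423 296232 edges_1_12 v (by omega) (by omega)
            · exact edgesRangeS_spec iota B E 1 34109 329655 edges_1_13 v (by omega) (by omega)
          · rcases Nat.lt_or_ge v 397595 with h | h
            · exact edgesRangeS_spec iota B E 1 33831 363764 edges_1_14 v (by omega) (by omega)
            · exact edgesRangeS_spec iota B E 1 33349 397595 edges_1_15 v (by omega) (by omega)
    · rcases Nat.lt_or_ge v 592522 with h | h
      · rcases Nat.lt_or_ge v 533627 with h | h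
        · rcases Nat.lt_or_ge v 495199 with h | h
          · rcases Nat.lt_or_ge v 463176 with h | h
            · exact edgesRangeS_spec iota B E 1 32232 430944 edges_1_16 v (by omega) (by omega)
            · exact edgesRangeS_spec iota B E 1 32023 463176 edges_1_17 v (by omega) (by omega)
          · rcases Nat.lt_or_ge v 520825 with h | h
            · exact edgesRangeS_spec iota B E 1 25626 495199 edges_1_18 v (by omega) (by omega)
            · exact edgesRangeS_spec iota B E 1 12802 520825 edges_1_19 v (by omega) (by omega)
        · rcases Nat.lt_or_ge v 559413 with h | h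
          · rcases Nat.lt_or_ge v 546479 with h | h
            · exact edgesRangeS_spec iota B E 1 12852 533627 edges_1_20 v (by omega) (by omega)
            · exact edgesRangeS_spec iota B E 1 12934 546479 edges_1_21 v (by omega) (by omega)
          · rcases Nat.lt_or_ge v 572347 with h | h
            · exact edgesRangeS_spec iota B E 1 12934 559413 edges_1_22 v (by omega) (by omega)
            · exact edgesRangeS_spec iota B E 1 20175 572347 edges_1_23 v (by omega) (by omega)
      · rcases Nat.lt_or_ge v 730154 with h | h
        · rcases Nat.lt_or_ge v 657870 with h | h
          · rcases Nat.lt_or_ge v 622522 with h | h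
            · exact edgesRangeS_spec iota B E 1 30000 592522 edges_1_24 v (by omega) (by omega)
            · exact edgesRangeS_spec iota B E 1 35348 622522 edges_1_25 v (by omega) (by omega)
          · rcases Nat.lt_or_ge v 694837 with h | h
            · exact edgesRangeS_spec iota B E 1 36967 657870 edges_1_26 v (by omega) (by omega)
            · exact edgesRangeS_spec iota B E 1 35317 694837 edges_1_27 v (by omega) (by omega)
        · rcases Nat.lt_or_ge v 799279 with h | h
          · rcases Nat.lt_or_ge v 764738 with h | h
            · exact edgesRangeS_spec iota B E 1 34584 730154 edges_1_28 v (by omega) (by omega)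
            · exact edgesRangeS_spec iota B E 1 34541 764738 edges_1_29 v (by omega) (by omega)
          · rcases Nat.lt_or_ge v 833704 with h | h
            · exact edgesRangeS_spec iota B E 1 34425 799279 edges_1_30 v (by omega) (by omega)
            · rcases Nat.lt_or_ge v 868029 with h | h
              · exact edgesRangeS_spec iota B E 1 34325 833704 edges_1_31 v (by omega) (by omega)
              · exact edgesRangeS_spec iota B E 1 34116 868029 edges_1_32 v (by omega) (by omega)
  · rcases Nat.lt_or_ge v 1316933 with h | h
    · rcases Nat.lt_or_ge v 1159714 with h | h
      · rcases Nat.lt_or_ge v 1032263 with h | h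
        · rcases Nat.lt_or_ge v 967993 with h | h
          · rcases Nat.lt_or_ge v 935735 with h | h
            · exact edgesRangeS_spec iota B E 1 33590 902145 edges_1_33 v (by omega) (by omega)
            · exact edgesRangeS_spec iota B E 1 32258 935735 edges_1_34 v (by omega) (by omega)
          · rcases Nat.lt_or_ge v 1000191 with h | h
            · exact edgesRangeS_spec iota B E 1 32198 967993 edges_1_35 v (by omega) (by omega)
            · exact edgesRangeS_spec iota B E 1 32072 1000191 edges_1_36 v (by omega) (by omega)
        · rcases Nat.lt_or_ge v 1096160 with h | h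
          · rcases Nat.lt_or_ge v 1064267 with h | h
            · exact edgesRangeS_spec iota B E 1 32004 1032263 edges_1_37 v (by omega) (by omega)
            · exact edgesRangeS_spec iota B E 1 31893 1064267 edges_1_38 v (by omega) (by omega)
          · rcases Nat.lt_or_ge v 1127978 with h | h
            · exact edgesRangeS_spec iota B E 1 31818 1096160 edges_1_39 v (by omega) (by omega)
            · exact edgesRangeS_spec iota B E 1 31736 1127978 edges_1_40 v (by omega) (by omega)
      · rcases Nat.lt_or_ge v 1267678 with h | h
        · rcases Nat.lt_or_ge v 1222694 with h | h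
          · rcases Nat.lt_or_ge v 1191286 with h | h
            · exact edgesRangeS_spec iota B E 1 31572 1159714 edges_1_41 v (by omega) (by omega)
            · exact edgesRangeS_spec iota B E 1 31408 1191286 edges_1_42 v (by omega) (by omega)
          · rcases Nat.lt_or_ge v 1254262 with h | h
            · exact edgesRangeS_spec iota B E 1 31568 1222694 edges_1_43 v (by omega) (by omega)
            · exact edgesRangeS_spec iota B E 1 13416 1254262 edges_1_44 v (by omega) (by omega)
        · rcases Nat.lt_or_ge v 1292190 with h | h
          · rcases Nat.lt_or_ge v 1279983 with h | h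
            · exact edgesRangeS_spec iota B E 1 12305 1267678 edges_1_45 v (by omega) (by omega)
            · exact edgesRangeS_spec iota B E 1 12207 1279983 edges_1_46 v (by omega) (by omega)
          · rcases Nat.lt_or_ge v 1304574 with h | h
            · exact edgesRangeS_spec iota B E 1 12384 1292190 edges_1_47 v (by omega) (by omega)
            · exact edgesRangeS_spec iota B E 1 12359 1304574 edges_1_48 v (by omega) (by omega)
    · rcases Nat.lt_or_ge v 1415262 with h | h
      · rcases Nat.lt_or_ge v 1366144 with h | h
        · rcases Nat.lt_or_ge v 1341461 with h | h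
          · rcases Nat.lt_or_ge v 1329143 with h | h
            · exact edgesRangeS_spec iota B E 1 12210 1316933 edges_1_49 v (by omega) (by omega)
            · exact edgesRangeS_spec iota B E 1 12318 1329143 edges_1_50 v (by omega) (by omega)
          · rcases Nat.lt_or_ge v 1353799 with h | h
            · exact edgesRangeS_spec iota B E 1 12338 1341461 edges_1_51 v (by omega) (by omega)
            · exact edgesRangeS_spec iota B E 1 12345 1353799 edges_1_52 v (by omega) (by omega)
        · rcases Nat.lt_or_ge v 1390620 with h | h
          · rcases Nat.lt_or_ge v 1378369 with h | h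
            · exact edgesRangeS_spec iota B E 1 12225 1366144 edges_1_53 v (by omega) (by omega)
            · exact edgesRangeS_spec iota B E 1 12251 1378369 edges_1_54 v (by omega) (by omega)
          · rcases Nat.lt_or_ge v 1402925 with h | h
            · exact edgesRangeS_spec iota B E 1 12305 1390620 edges_1_55 v (by omega) (by omega)
            · exact edgesRangeS_spec iota B E 1 12337 1402925 edges_1_56 v (by omega) (by omega)
      · rcases Nat.lt_or_ge v 1464424 with h | h
        · rcases Nat.lt_or_ge v 1439893 with h | h
          · rcases Nat.lt_or_ge v 1427603 with h | h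
            · exact edgesRangeS_spec iota B E 1 12341 1415262 edges_1_57 v (by omega) (by omega)
            · exact edgesRangeS_spec iota B E 1 12290 1427603 edges_1_58 v (by omega) (by omega)
          · rcases Nat.lt_or_ge v 1452121 with h | h
            · exact edgesRangeS_spec iota B E 1 12228 1439893 edges_1_59 v (by omega) (by omega)
            · exact edgesRangeS_spec iota B E 1 12303 1452121 edges_1_60 v (by omega) (by omega)
        · rcases Nat.lt_or_ge v 1489050 with h | h
          · rcases Nat.lt_or_ge v 1476734 with h | h
            · exact edgesRangeS_spec iota B E 1 12310 1464424 edges_1_61 v (by omega) (by omega)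
            · exact edgesRangeS_spec iota B E 1 12316 1476734 edges_1_62 v (by omega) (by omega)
          · rcases Nat.lt_or_ge v 1501353 with h | h
            · exact edgesRangeS_spec iota B E 1 12303 1489050 edges_1_63 v (by omega) (by omega)
            · rcases Nat.lt_or_ge v 1521877 with h | h
              · exact edgesRangeS_spec iota B E 1 20524 1501353 edges_1_64 v (by omega) (by omega)
              · exact edgesRangeS_spec iota B E 1 17123 1521877 edges_1_65 v (by omega) (by omega)

theorem edgesx_2 : ∀ v, v < 1539000 → edgeOKS iota B E 2 v = true := by
  intro v hv
  rcases Nat.lt_or_ge v 954702 with h | h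
  · rcases Nat.lt_or_ge v 448963 with h | h
    · rcases Nat.lt_or_ge v 194256 with h | h
      · rcases Nat.lt_or_ge v 104639 with h | h
        · rcases Nat.lt_or_ge v 37158 with h | h
          · exact edgesRangeS_spec iota B E 2 37158 0 edges_2_0 v (by omega) (by omega)
          · rcases Nat.lt_or_ge v 60985 with h | h
            · exact edgesRangeS_spec iota B E 2 23827 37158 edges_2_1 v (by omega) (by omega)
            · exact edgesRangeS_spec iota B E 2 43654 60985 edges_2_2 v (by omega) (by omega)
        · rcases Nat.lt_or_ge v 167592 with h | h
          · rcases Nat.lt_or_ge v 141504 with h | h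
            · exact edgesRangeS_spec iota B E 2 36865 104639 edges_2_3 v (by omega) (by omega)
            · exact edgesRangeS_spec iota B E 2 26088 141504 edges_2_4 v (by omega) (by omega)
          · rcases Nat.lt_or_ge v 180924 with h | h
            · exact edgesRangeS_spec iota B E 2 13332 167592 edges_2_5 v (by omega) (by omega)
            · exact edgesRangeS_spec iota B E 2 13332 180924 edges_2_6 v (by omega) (by omega)
      · rcases Nat.lt_or_ge v 291962 with h | h
        · rcases Nat.lt_or_ge v 207591 with h | h
          · exact edgesRangeS_spec iota B E 2 13335 194256 edges_2_7 v (by omega) (by omega)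
          · rcases Nat.lt_or_ge v 239977 with h | h
            · exact edgesRangeS_spec iota B E 2 32386 207591 edges_2_8 v (by omega) (by omega)
            · exact edgesRangeS_spec iota B E 2 51985 239977 edges_2_9 v (by omega) (by omega)
        · rcases Nat.lt_or_ge v 375590 with h | h
          · rcases Nat.lt_or_ge v 337364 with h | h
            · exact edgesRangeS_spec iota B E 2 45402 291962 edges_2_10 v (by omega) (by omega)
            · exact edgesRangeS_spec iota B E 2 38226 337364 edges_2_11 v (by omega) (by omega)
          · rcases Nat.lt_or_ge v 412718 with h | h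
            · exact edgesRangeS_spec iota B E 2 37128 375590 edges_2_12 v (by omega) (by omega)
            · exact edgesRangeS_spec iota B E 2 36245 412718 edges_2_13 v (by omega) (by omega)
    · rcases Nat.lt_or_ge v 597748 with h | h
      · rcases Nat.lt_or_ge v 530882 with h | h
        · rcases Nat.lt_or_ge v 483870 with h | h
          · exact edgesRangeS_spec iota B E 2 34907 448963 edges_2_14 v (by omega) (by omega)
          · rcases Nat.lt_or_ge v 517551 with h | h
            · exact edgesRangeS_spec iota B E 2 33681 483870 edges_2_15 v (by omega) (by omega)
            · exact edgesRangeS_spec iota B E 2 13331 517551 edges_2_16 v (by omega) (by omega)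
        · rcases Nat.lt_or_ge v 557547 with h | h
          · rcases Nat.lt_or_ge v 544214 with h | h
            · exact edgesRangeS_spec iota B E 2 13332 530882 edges_2_17 v (by omega) (by omega)
            · exact edgesRangeS_spec iota B E 2 13333 544214 edges_2_18 v (by omega) (by omega)
          · rcases Nat.lt_or_ge v 570881 with h | h
            · exact edgesRangeS_spec iota B E 2 13334 557547 edges_2_19 v (by omega) (by omega)
            · exact edgesRangeS_spec iota B E 2 26867 570881 edges_2_20 v (by omega) (by omega)
      · rcases Nat.lt_or_ge v 794632 with h | h
        · rcases Nat.lt_or_ge v 707718 with h | h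
          · rcases Nat.lt_or_ge v 652972 with h | h
            · exact edgesRangeS_spec iota B E 2 55224 597748 edges_2_21 v (by omega) (by omega)
            · exact edgesRangeS_spec iota B E 2 54746 652972 edges_2_22 v (by omega) (by omega)
          · rcases Nat.lt_or_ge v 753151 with h | h
            · exact edgesRangeS_spec iota B E 2 45433 707718 edges_2_23 v (by omega) (by omega)
            · exact edgesRangeS_spec iota B E 2 41481 753151 edges_2_24 v (by omega) (by omega)
        · rcases Nat.lt_or_ge v 875724 with h | h
          · rcases Nat.lt_or_ge v 835642 with h | h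
            · exact edgesRangeS_spec iota B E 2 41010 794632 edges_2_25 v (by omega) (by omega)
            · exact edgesRangeS_spec iota B E 2 40082 835642 edges_2_26 v (by omega) (by omega)
          · rcases Nat.lt_or_ge v 915453 with h | h
            · exact edgesRangeS_spec iota B E 2 39729 875724 edges_2_27 v (by omega) (by omega)
            · exact edgesRangeS_spec iota B E 2 39249 915453 edges_2_28 v (by omega) (by omega)
  · rcases Nat.lt_or_ge v 1330500 with h | h
    · rcases Nat.lt_or_ge v 1206872 with h | h
      · rcases Nat.lt_or_ge v 1065881 with h | h
        · rcases Nat.lt_or_ge v 992543 with h | h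
          · exact edgesRangeS_spec iota B E 2 37841 954702 edges_2_29 v (by omega) (by omega)
          · rcases Nat.lt_or_ge v 1029691 with h | h
            · exact edgesRangeS_spec iota B E 2 37148 992543 edges_2_30 v (by omega) (by omega)
            · exact edgesRangeS_spec iota B E 2 36190 1029691 edges_2_31 v (by omega) (by omega)
        · rcases Nat.lt_or_ge v 1135844 with h | h
          · rcases Nat.lt_or_ge v 1101054 with h | h
            · exact edgesRangeS_spec iota B E 2 35173 1065881 edges_2_32 v (by omega) (by omega)
            · exact edgesRangeS_spec iota B E 2 34790 1101054 edges_2_33 v (by omega) (by omega)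
          · rcases Nat.lt_or_ge v 1171808 with h | h
            · exact edgesRangeS_spec iota B E 2 35964 1135844 edges_2_34 v (by omega) (by omega)
            · exact edgesRangeS_spec iota B E 2 35064 1171808 edges_2_35 v (by omega) (by omega)
      · rcases Nat.lt_or_ge v 1277169 with h | h
        · rcases Nat.lt_or_ge v 1241956 with h | h
          · exact edgesRangeS_spec iota B E 2 35084 1206872 edges_2_36 v (by omega) (by omega)
          · rcases Nat.lt_or_ge v 1263830 with h | h
            · exact edgesRangeS_spec iota B E 2 21874 1241956 edges_2_37 v (by omega) (by omega)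
            · exact edgesRangeS_spec iota B E 2 13339 1263830 edges_2_38 v (by omega) (by omega)
        · rcases Nat.lt_or_ge v 1303837 with h | h
          · rcases Nat.lt_or_ge v 1290501 with h | h
            · exact edgesRangeS_spec iota B E 2 13332 1277169 edges_2_39 v (by omega) (by omega)
            · exact edgesRangeS_spec iota B E 2 13336 1290501 edges_2_40 v (by omega) (by omega)
          · rcases Nat.lt_or_ge v 1317162 with h | h
            · exact edgesRangeS_spec iota B E 2 13325 1303837 edges_2_41 v (by omega) (by omega)
            · exact edgesRangeS_spec iota B E 2 13338 1317162 edges_2_42 v (by omega) (by omega)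
    · rcases Nat.lt_or_ge v 1423828 with h | h
      · rcases Nat.lt_or_ge v 1370499 with h | h
        · rcases Nat.lt_or_ge v 1343838 with h | h
          · exact edgesRangeS_spec iota B E 2 13338 1330500 edges_2_43 v (by omega) (by omega)
          · rcases Nat.lt_or_ge v 1357174 with h | h
            · exact edgesRangeS_spec iota B E 2 13336 1343838 edges_2_44 v (by omega) (by omega)
            · exact edgesRangeS_spec iota B E 2 13325 1357174 edges_2_45 v (by omega) (by omega)
        · rcases Nat.lt_or_ge v 1397160 with h | h
          · rcases Nat.lt_or_ge v 1383828 with h | h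
            · exact edgesRangeS_spec iota B E 2 13329 1370499 edges_2_46 v (by omega) (by omega)
            · exact edgesRangeS_spec iota B E 2 13332 1383828 edges_2_47 v (by omega) (by omega)
          · rcases Nat.lt_or_ge v 1410498 with h | h
            · exact edgesRangeS_spec iota B E 2 13338 1397160 edges_2_48 v (by omega) (by omega)
            · exact edgesRangeS_spec iota B E 2 13330 1410498 edges_2_49 v (by omega) (by omega)
      · rcases Nat.lt_or_ge v 1477171 with h | h
        · rcases Nat.lt_or_ge v 1450498 with h | h
          · rcases Nat.lt_or_ge v 1437160 with h | h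
            · exact edgesRangeS_spec iota B E 2 13332 1423828 edges_2_50 v (by omega) (by omega)
            · exact edgesRangeS_spec iota B E 2 13338 1437160 edges_2_51 v (by omega) (by omega)
          · rcases Nat.lt_or_ge v 1463834 with h | h
            · exact edgesRangeS_spec iota B E 2 13336 1450498 edges_2_52 v (by omega) (by omega)
            · exact edgesRangeS_spec iota B E 2 13337 1463834 edges_2_53 v (by omega) (by omega)
        · rcases Nat.lt_or_ge v 1503835 with h | h
          · rcases Nat.lt_or_ge v 1490503 with h | h
            · exact edgesRangeS_spec iota B E 2 13332 1477171 edges_2_54 v (by omega) (by omega)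
            · exact edgesRangeS_spec iota B E 2 13332 1490503 edges_2_55 v (by omega) (by omega)
          · rcases Nat.lt_or_ge v 1530433 with h | h
            · exact edgesRangeS_spec iota B E 2 26598 1503835 edges_2_56 v (by omega) (by omega)
            · exact edgesRangeS_spec iota B E 2 8567 1530433 edges_2_57 v (by omega) (by omega)

theorem edgesx_3 : ∀ v, v < 1539000 → edgeOKS iota B E 3 v = true := by
  intro v hv
  rcases Nat.lt_or_ge v 940040 with h | h
  · rcases Nat.lt_or_ge v 445090 with h | h
    · rcases Nat.lt_or_ge v 194262 with h | h
      · rcases Nat.lt_or_ge v 102211 with h | h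
        · rcases Nat.lt_or_ge v 37147 with h | h
          · exact edgesRangeS_spec iota B E 3 37147 0 edges_3_0 v (by omega) (by omega)
          · rcases Nat.lt_or_ge v 61020 with h | h
            · exact edgesRangeS_spec iota B E 3 23873 37147 edges_3_1 v (by omega) (by omega)
            · exact edgesRangeS_spec iota B E 3 41191 61020 edges_3_2 v (by omega) (by omega)
        · rcases Nat.lt_or_ge v 167593 with h | h
          · rcases Nat.lt_or_ge v 141535 with h | h
            · exact edgesRangeS_spec iota B E 3 39324 102211 edges_3_3 v (by omega) (by omega)
            · exact edgesRangeS_spec iota B E 3 26058 141535 edges_3_4 v (by omega) (by omega)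
          · rcases Nat.lt_or_ge v 180928 with h | h
            · exact edgesRangeS_spec iota B E 3 13335 167593 edges_3_5 v (by omega) (by omega)
            · exact edgesRangeS_spec iota B E 3 13334 180928 edges_3_6 v (by omega) (by omega)
      · rcases Nat.lt_or_ge v 292056 with h | h
        · rcases Nat.lt_or_ge v 207595 with h | h
          · exact edgesRangeS_spec iota B E 3 13333 194262 edges_3_7 v (by omega) (by omega)
          · rcases Nat.lt_or_ge v 239974 with h | h
            · exact edgesRangeS_spec iota B E 3 32379 207595 edges_3_8 v (by omega) (by omega)
            · exact edgesRangeS_spec iota B E 3 52082 239974 edges_3_9 v (by omega) (by omega)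
        · rcases Nat.lt_or_ge v 372719 with h | h
          · rcases Nat.lt_or_ge v 336464 with h | h
            · exact edgesRangeS_spec iota B E 3 44408 292056 edges_3_10 v (by omega) (by omega)
            · exact edgesRangeS_spec iota B E 3 36255 336464 edges_3_11 v (by omega) (by omega)
          · rcases Nat.lt_or_ge v 408278 with h | h
            · exact edgesRangeS_spec iota B E 3 35559 372719 edges_3_12 v (by omega) (by omega)
            · exact edgesRangeS_spec iota B E 3 36812 408278 edges_3_13 v (by omega) (by omega)
    · rcases Nat.lt_or_ge v 597723 with h | h
      · rcases Nat.lt_or_ge v 530890 with h | h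
        · rcases Nat.lt_or_ge v 482817 with h | h
          · exact edgesRangeS_spec iota B E 3 37727 445090 edges_3_14 v (by omega) (by omega)
          · rcases Nat.lt_or_ge v 517555 with h | h
            · exact edgesRangeS_spec iota B E 3 34738 482817 edges_3_15 v (by omega) (by omega)
            · exact edgesRangeS_spec iota B E 3 13335 517555 edges_3_16 v (by omega) (by omega)
        · rcases Nat.lt_or_ge v 557560 with h | h
          · rcases Nat.lt_or_ge v 544226 with h | h
            · exact edgesRangeS_spec iota B E 3 13336 530890 edges_3_17 v (by omega) (by omega)
            · exact edgesRangeS_spec iota B E 3 13334 544226 edges_3_18 v (by omega) (by omega)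
          · rcases Nat.lt_or_ge v 570893 with h | h
            · exact edgesRangeS_spec iota B E 3 13333 557560 edges_3_19 v (by omega) (by omega)
            · exact edgesRangeS_spec iota B E 3 26830 570893 edges_3_20 v (by omega) (by omega)
      · rcases Nat.lt_or_ge v 790013 with h | h
        · rcases Nat.lt_or_ge v 707809 with h | h
          · rcases Nat.lt_or_ge v 653055 with h | h
            · exact edgesRangeS_spec iota B E 3 55332 597723 edges_3_21 v (by omega) (by omega)
            · exact edgesRangeS_spec iota B E 3 54754 653055 edges_3_22 v (by omega) (by omega)
          · rcases Nat.lt_or_ge v 751475 with h | h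
            · exact edgesRangeS_spec iota B E 3 43666 707809 edges_3_23 v (by omega) (by omega)
            · exact edgesRangeS_spec iota B E 3 38538 751475 edges_3_24 v (by omega) (by omega)
        · rcases Nat.lt_or_ge v 865174 with h | h
          · rcases Nat.lt_or_ge v 827905 with h | h
            · exact edgesRangeS_spec iota B E 3 37892 790013 edges_3_25 v (by omega) (by omega)
            · exact edgesRangeS_spec iota B E 3 37269 827905 edges_3_26 v (by omega) (by omega)
          · rcases Nat.lt_or_ge v 901888 with h | h
            · exact edgesRangeS_spec iota B E 3 36714 865174 edges_3_27 v (by omega) (by omega)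
            · exact edgesRangeS_spec iota B E 3 38152 901888 edges_3_28 v (by omega) (by omega)
  · rcases Nat.lt_or_ge v 1330516 with h | h
    · rcases Nat.lt_or_ge v 1206548 with h | h
      · rcases Nat.lt_or_ge v 1059953 with h | h
        · rcases Nat.lt_or_ge v 980708 with h | h
          · exact edgesRangeS_spec iota B E 3 40668 940040 edges_3_29 v (by omega) (by omega)
          · rcases Nat.lt_or_ge v 1020620 with h | h
            · exact edgesRangeS_spec iota B E 3 39912 980708 edges_3_30 v (by omega) (by omega)
            · exact edgesRangeS_spec iota B E 3 39333 1020620 edges_3_31 v (by omega) (by omega)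
        · rcases Nat.lt_or_ge v 1135885 with h | h
          · rcases Nat.lt_or_ge v 1098358 with h | h
            · exact edgesRangeS_spec iota B E 3 38405 1059953 edges_3_32 v (by omega) (by omega)
            · exact edgesRangeS_spec iota B E 3 37527 1098358 edges_3_33 v (by omega) (by omega)
          · rcases Nat.lt_or_ge v 1171538 with h | h
            · exact edgesRangeS_spec iota B E 3 35653 1135885 edges_3_34 v (by omega) (by omega)
            · exact edgesRangeS_spec iota B E 3 35010 1171538 edges_3_35 v (by omega) (by omega)
      · rcases Nat.lt_or_ge v 1277178 with h | h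
        · rcases Nat.lt_or_ge v 1241525 with h | h
          · exact edgesRangeS_spec iota B E 3 34977 1206548 edges_3_36 v (by omega) (by omega)
          · rcases Nat.lt_or_ge v 1263848 with h | h
            · exact edgesRangeS_spec iota B E 3 22323 1241525 edges_3_37 v (by omega) (by omega)
            · exact edgesRangeS_spec iota B E 3 13330 1263848 edges_3_38 v (by omega) (by omega)
        · rcases Nat.lt_or_ge v 1303838 with h | h
          · rcases Nat.lt_or_ge v 1290507 with h | h
            · exact edgesRangeS_spec iota B E 3 13329 1277178 edges_3_39 v (by omega) (by omega)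
            · exact edgesRangeS_spec iota B E 3 13331 1290507 edges_3_40 v (by omega) (by omega)
          · rcases Nat.lt_or_ge v 1317185 with h | h
            · exact edgesRangeS_spec iota B E 3 13347 1303838 edges_3_41 v (by omega) (by omega)
            · exact edgesRangeS_spec iota B E 3 13331 1317185 edges_3_42 v (by omega) (by omega)
    · rcases Nat.lt_or_ge v 1423860 with h | h
      · rcases Nat.lt_or_ge v 1370523 with h | h
        · rcases Nat.lt_or_ge v 1343846 with h | h
          · exact edgesRangeS_spec iota B E 3 13330 1330516 edges_3_43 v (by omega) (by omega)
          · rcases Nat.lt_or_ge v 1357181 with h | h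
            · exact edgesRangeS_spec iota B E 3 13335 1343846 edges_3_44 v (by omega) (by omega)
            · exact edgesRangeS_spec iota B E 3 13342 1357181 edges_3_45 v (by omega) (by omega)
        · rcases Nat.lt_or_ge v 1397190 with h | h
          · rcases Nat.lt_or_ge v 1383854 with h | h
            · exact edgesRangeS_spec iota B E 3 13331 1370523 edges_3_46 v (by omega) (by omega)
            · exact edgesRangeS_spec iota B E 3 13336 1383854 edges_3_47 v (by omega) (by omega)
          · rcases Nat.lt_or_ge v 1410526 with h | h
            · exact edgesRangeS_spec iota B E 3 13336 1397190 edges_3_48 v (by omega) (by omega)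
            · exact edgesRangeS_spec iota B E 3 13334 1410526 edges_3_49 v (by omega) (by omega)
      · rcases Nat.lt_or_ge v 1477176 with h | h
        · rcases Nat.lt_or_ge v 1450517 with h | h
          · rcases Nat.lt_or_ge v 1437192 with h | h
            · exact edgesRangeS_spec iota B E 3 13332 1423860 edges_3_50 v (by omega) (by omega)
            · exact edgesRangeS_spec iota B E 3 13325 1437192 edges_3_51 v (by omega) (by omega)
          · rcases Nat.lt_or_ge v 1463847 with h | h
            · exact edgesRangeS_spec iota B E 3 13330 1450517 edges_3_52 v (by omega) (by omega)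
            · exact edgesRangeS_spec iota B E 3 13329 1463847 edges_3_53 v (by omega) (by omega)
        · rcases Nat.lt_or_ge v 1503847 with h | h
          · rcases Nat.lt_or_ge v 1490514 with h | h
            · exact edgesRangeS_spec iota B E 3 13338 1477176 edges_3_54 v (by omega) (by omega)
            · exact edgesRangeS_spec iota B E 3 13333 1490514 edges_3_55 v (by omega) (by omega)
          · rcases Nat.lt_or_ge v 1530436 with h | h
            · exact edgesRangeS_spec iota B E 3 26589 1503847 edges_3_56 v (by omega) (by omega)
            · exact edgesRangeS_spec iota B E 3 8564 1530436 edges_3_57 v (by omega) (by omega)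

theorem edgesx_4 : ∀ v, v < 1539000 → edgeOKS iota B E 4 v = true := by
  intro v hv
  rcases Nat.lt_or_ge v 1129628 with h | h
  · rcases Nat.lt_or_ge v 524231 with h | h
    · rcases Nat.lt_or_ge v 268931 with h | h
      · rcases Nat.lt_or_ge v 121198 with h | h
        · rcases Nat.lt_or_ge v 39585 with h | h
          · exact edgesRangeS_spec iota B E 4 39585 0 edges_4_0 v (by omega) (by omega)
          · rcases Nat.lt_or_ge v 80846 with h | h
            · exact edgesRangeS_spec iota B E 4 41261 39585 edges_4_1 v (by omega) (by omega)
            · exact edgesRangeS_spec iota B E 4 40352 80846 edges_4_2 v (by omega) (by omega)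
        · rcases Nat.lt_or_ge v 183605 with h | h
          · rcases Nat.lt_or_ge v 158237 with h | h
            · exact edgesRangeS_spec iota B E 4 37039 121198 edges_4_3 v (by omega) (by omega)
            · exact edgesRangeS_spec iota B E 4 25368 158237 edges_4_4 v (by omega) (by omega)
          · rcases Nat.lt_or_ge v 215782 with h | h
            · exact edgesRangeS_spec iota B E 4 32177 183605 edges_4_5 v (by omega) (by omega)
            · exact edgesRangeS_spec iota B E 4 53149 215782 edges_4_6 v (by omega) (by omega)
      · rcases Nat.lt_or_ge v 384410 with h | h
        · rcases Nat.lt_or_ge v 307976 with h | h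
          · exact edgesRangeS_spec iota B E 4 39045 268931 edges_4_7 v (by omega) (by omega)
          · rcases Nat.lt_or_ge v 345692 with h | h
            · exact edgesRangeS_spec iota B E 4 37716 307976 edges_4_8 v (by omega) (by omega)
            · exact edgesRangeS_spec iota B E 4 38718 345692 edges_4_9 v (by omega) (by omega)
        · rcases Nat.lt_or_ge v 458107 with h | h
          · rcases Nat.lt_or_ge v 422234 with h | h
            · exact edgesRangeS_spec iota B E 4 37824 384410 edges_4_10 v (by omega) (by omega)
            · exact edgesRangeS_spec iota B E 4 35873 422234 edges_4_11 v (by omega) (by omega)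
          · rcases Nat.lt_or_ge v 493496 with h | h
            · exact edgesRangeS_spec iota B E 4 35389 458107 edges_4_12 v (by omega) (by omega)
            · exact edgesRangeS_spec iota B E 4 30735 493496 edges_4_13 v (by omega) (by omega)
    · rcases Nat.lt_or_ge v 814684 with h | h
      · rcases Nat.lt_or_ge v 641887 with h | h
        · rcases Nat.lt_or_ge v 552578 with h | h
          · exact edgesRangeS_spec iota B E 4 28347 524231 edges_4_14 v (by omega) (by omega)
          · rcases Nat.lt_or_ge v 584589 with h | h
            · exact edgesRangeS_spec iota B E 4 32011 552578 edges_4_15 v (by omega) (by omega)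
            · exact edgesRangeS_spec iota B E 4 57298 584589 edges_4_16 v (by omega) (by omega)
        · rcases Nat.lt_or_ge v 729696 with h | h
          · rcases Nat.lt_or_ge v 687740 with h | h
            · exact edgesRangeS_spec iota B E 4 45853 641887 edges_4_17 v (by omega) (by omega)
            · exact edgesRangeS_spec iota B E 4 41956 687740 edges_4_18 v (by omega) (by omega)
          · rcases Nat.lt_or_ge v 772582 with h | h
            · exact edgesRangeS_spec iota B E 4 42886 729696 edges_4_19 v (by omega) (by omega)
            · exact edgesRangeS_spec iota B E 4 42102 772582 edges_4_20 v (by omega) (by omega)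
      · rcases Nat.lt_or_ge v 978299 with h | h
        · rcases Nat.lt_or_ge v 897686 with h | h
          · rcases Nat.lt_or_ge v 856299 with h | h
            · exact edgesRangeS_spec iota B E 4 41615 814684 edges_4_21 v (by omega) (by omega)
            · exact edgesRangeS_spec iota B E 4 41387 856299 edges_4_22 v (by omega) (by omega)
          · rcases Nat.lt_or_ge v 938269 with h | h
            · exact edgesRangeS_spec iota B E 4 40583 897686 edges_4_23 v (by omega) (by omega)
            · exact edgesRangeS_spec iota B E 4 40030 938269 edges_4_24 v (by omega) (by omega)
        · rcases Nat.lt_or_ge v 1055419 with h | h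
          · rcases Nat.lt_or_ge v 1017258 with h | h
            · exact edgesRangeS_spec iota B E 4 38959 978299 edges_4_25 v (by omega) (by omega)
            · exact edgesRangeS_spec iota B E 4 38161 1017258 edges_4_26 v (by omega) (by omega)
          · rcases Nat.lt_or_ge v 1092872 with h | h
            · exact edgesRangeS_spec iota B E 4 37453 1055419 edges_4_27 v (by omega) (by omega)
            · exact edgesRangeS_spec iota B E 4 36756 1092872 edges_4_28 v (by omega) (by omega)
  · rcases Nat.lt_or_ge v 1371586 with h | h
    · rcases Nat.lt_or_ge v 1291084 with h | h
      · rcases Nat.lt_or_ge v 1239300 with h | h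
        · rcases Nat.lt_or_ge v 1166920 with h | h
          · exact edgesRangeS_spec iota B E 4 37292 1129628 edges_4_29 v (by omega) (by omega)
          · rcases Nat.lt_or_ge v 1203778 with h | h
            · exact edgesRangeS_spec iota B E 4 36858 1166920 edges_4_30 v (by omega) (by omega)
            · exact edgesRangeS_spec iota B E 4 35522 1203778 edges_4_31 v (by omega) (by omega)
        · rcases Nat.lt_or_ge v 1271072 with h | h
          · rcases Nat.lt_or_ge v 1261112 with h | h
            · exact edgesRangeS_spec iota B E 4 21812 1239300 edges_4_32 v (by omega) (by omega)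
            · exact edgesRangeS_spec iota B E 4 9960 1261112 edges_4_33 v (by omega) (by omega)
          · rcases Nat.lt_or_ge v 1281004 with h | h
            · exact edgesRangeS_spec iota B E 4 9932 1271072 edges_4_34 v (by omega) (by omega)
            · exact edgesRangeS_spec iota B E 4 10080 1281004 edges_4_35 v (by omega) (by omega)
      · rcases Nat.lt_or_ge v 1331292 with h | h
        · rcases Nat.lt_or_ge v 1311154 with h | h
          · rcases Nat.lt_or_ge v 1301097 with h | h
            · exact edgesRangeS_spec iota B E 4 10013 1291084 edges_4_36 v (by omega) (by omega)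
            · exact edgesRangeS_spec iota B E 4 10057 1301097 edges_4_37 v (by omega) (by omega)
          · rcases Nat.lt_or_ge v 1321151 with h | h
            · exact edgesRangeS_spec iota B E 4 9997 1311154 edges_4_38 v (by omega) (by omega)
            · exact edgesRangeS_spec iota B E 4 10141 1321151 edges_4_39 v (by omega) (by omega)
        · rcases Nat.lt_or_ge v 1351475 with h | h
          · rcases Nat.lt_or_ge v 1341408 with h | h
            · exact edgesRangeS_spec iota B E 4 10116 1331292 edges_4_40 v (by omega) (by omega)
            · exact edgesRangeS_spec iota B E 4 10067 1341408 edges_4_41 v (by omega) (by omega)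
          · rcases Nat.lt_or_ge v 1361547 with h | h
            · exact edgesRangeS_spec iota B E 4 10072 1351475 edges_4_42 v (by omega) (by omega)
            · exact edgesRangeS_spec iota B E 4 10039 1361547 edges_4_43 v (by omega) (by omega)
    · rcases Nat.lt_or_ge v 1442692 with h | h
      · rcases Nat.lt_or_ge v 1401999 with h | h
        · rcases Nat.lt_or_ge v 1381695 with h | h
          · exact edgesRangeS_spec iota B E 4 10109 1371586 edges_4_44 v (by omega) (by omega)
          · rcases Nat.lt_or_ge v 1391799 with h | h
            · exact edgesRangeS_spec iota B E 4 10104 1381695 edges_4_45 v (by omega) (by omega)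
            · exact edgesRangeS_spec iota B E 4 10200 1391799 edges_4_46 v (by omega) (by omega)
        · rcases Nat.lt_or_ge v 1422183 with h | h
          · rcases Nat.lt_or_ge v 1412009 with h | h
            · exact edgesRangeS_spec iota B E 4 10010 1401999 edges_4_47 v (by omega) (by omega)
            · exact edgesRangeS_spec iota B E 4 10174 1412009 edges_4_48 v (by omega) (by omega)
          · rcases Nat.lt_or_ge v 1432429 with h | h
            · exact edgesRangeS_spec iota B E 4 10246 1422183 edges_4_49 v (by omega) (by omega)
            · exact edgesRangeS_spec iota B E 4 10263 1432429 edges_4_50 v (by omega) (by omega)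
      · rcases Nat.lt_or_ge v 1483829 with h | h
        · rcases Nat.lt_or_ge v 1463269 with h | h
          · rcases Nat.lt_or_ge v 1452977 with h | h
            · exact edgesRangeS_spec iota B E 4 10285 1442692 edges_4_51 v (by omega) (by omega)
            · exact edgesRangeS_spec iota B E 4 10292 1452977 edges_4_52 v (by omega) (by omega)
          · rcases Nat.lt_or_ge v 1473590 with h | h
            · exact edgesRangeS_spec iota B E 4 10321 1463269 edges_4_53 v (by omega) (by omega)
            · exact edgesRangeS_spec iota B E 4 10239 1473590 edges_4_54 v (by omega) (by omega)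
        · rcases Nat.lt_or_ge v 1504290 with h | h
          · rcases Nat.lt_or_ge v 1494019 with h | h
            · exact edgesRangeS_spec iota B E 4 10190 1483829 edges_4_55 v (by omega) (by omega)
            · exact edgesRangeS_spec iota B E 4 10271 1494019 edges_4_56 v (by omega) (by omega)
          · rcases Nat.lt_or_ge v 1534491 with h | h
            · exact edgesRangeS_spec iota B E 4 30201 1504290 edges_4_57 v (by omega) (by omega)
            · exact edgesRangeS_spec iota B E 4 4509 1534491 edges_4_58 v (by omega) (by omega)

theorem edgesx_5 : ∀ v, v < 1539000 → edgeOKS iota B E 5 v = true := by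
  intro v hv
  rcases Nat.lt_or_ge v 808994 with h | h
  · rcases Nat.lt_or_ge v 433095 with h | h
    · rcases Nat.lt_or_ge v 240676 with h | h
      · rcases Nat.lt_or_ge v 126783 with h | h
        · rcases Nat.lt_or_ge v 66365 with h | h
          · rcases Nat.lt_or_ge v 35789 with h | h
            · exact edgesRangeS_spec iota B E 5 35789 0 edges_5_0 v (by omega) (by omega)
            · rcases Nat.lt_or_ge v 51752 with h | h
              · exact edgesRangeS_spec iota B E 5 15963 35789 edges_5_1 v (by omega) (by omega)
              · exact edgesRangeS_spec iota B E 5 14613 51752 edges_5_2 v (by omega) (by omega)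
          · rcases Nat.lt_or_ge v 97215 with h | h
            · rcases Nat.lt_or_ge v 81662 with h | h
              · exact edgesRangeS_spec iota B E 5 15297 66365 edges_5_3 v (by omega) (by omega)
              · exact edgesRangeS_spec iota B E 5 15553 81662 edges_5_4 v (by omega) (by omega)
            · rcases Nat.lt_or_ge v 111936 with h | h
              · exact edgesRangeS_spec iota B E 5 14721 97215 edges_5_5 v (by omega) (by omega)
              · exact edgesRangeS_spec iota B E 5 14847 111936 edges_5_6 v (by omega) (by omega)
        · rcases Nat.lt_or_ge v 189108 with h | h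
          · rcases Nat.lt_or_ge v 156069 with h | h
            · rcases Nat.lt_or_ge v 141862 with h | h
              · exact edgesRangeS_spec iota B E 5 15079 126783 edges_5_7 v (by omega) (by omega)
              · exact edgesRangeS_spec iota B E 5 14207 141862 edges_5_8 v (by omega) (by omega)
            · rcases Nat.lt_or_ge v 171857 with h | h
              · exact edgesRangeS_spec iota B E 5 15788 156069 edges_5_9 v (by omega) (by omega)
              · exact edgesRangeS_spec iota B E 5 17251 171857 edges_5_10 v (by omega) (by omega)
          · rcases Nat.lt_or_ge v 219881 with h | h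
            · rcases Nat.lt_or_ge v 206237 with h | h
              · exact edgesRangeS_spec iota B E 5 17129 189108 edges_5_11 v (by omega) (by omega)
              · exact edgesRangeS_spec iota B E 5 13644 206237 edges_5_12 v (by omega) (by omega)
            · rcases Nat.lt_or_ge v 230441 with h | h
              · exact edgesRangeS_spec iota B E 5 10560 219881 edges_5_13 v (by omega) (by omega)
              · exact edgesRangeS_spec iota B E 5 10235 230441 edges_5_14 v (by omega) (by omega)
      · rcases Nat.lt_or_ge v 338279 with h | h
        · rcases Nat.lt_or_ge v 289168 with h | h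
          · rcases Nat.lt_or_ge v 262505 with h | h
            · rcases Nat.lt_or_ge v 250547 with h | h
              · exact edgesRangeS_spec iota B E 5 9871 240676 edges_5_15 v (by omega) (by omega)
              · exact edgesRangeS_spec iota B E 5 11958 250547 edges_5_16 v (by omega) (by omega)
            · rcases Nat.lt_or_ge v 276053 with h | h
              · exact edgesRangeS_spec iota B E 5 13548 262505 edges_5_17 v (by omega) (by omega)
              · exact edgesRangeS_spec iota B E 5 13115 276053 edges_5_18 v (by omega) (by omega)
          · rcases Nat.lt_or_ge v 313890 with h | h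
            · rcases Nat.lt_or_ge v 301749 with h | h
              · exact edgesRangeS_spec iota B E 5 12581 289168 edges_5_19 v (by omega) (by omega)
              · exact edgesRangeS_spec iota B E 5 12141 301749 edges_5_20 v (by omega) (by omega)
            · rcases Nat.lt_or_ge v 325628 with h | h
              · exact edgesRangeS_spec iota B E 5 11738 313890 edges_5_21 v (by omega) (by omega)
              · exact edgesRangeS_spec iota B E 5 12651 325628 edges_5_22 v (by omega) (by omega)
        · rcases Nat.lt_or_ge v 387102 with h | h
          · rcases Nat.lt_or_ge v 363154 with h | h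
            · rcases Nat.lt_or_ge v 350813 with h | h
              · exact edgesRangeS_spec iota B E 5 12534 338279 edges_5_23 v (by omega) (by omega)
              · exact edgesRangeS_spec iota B E 5 12341 350813 edges_5_24 v (by omega) (by omega)
            · rcases Nat.lt_or_ge v 375257 with h | h
              · exact edgesRangeS_spec iota B E 5 12103 363154 edges_5_25 v (by omega) (by omega)
              · exact edgesRangeS_spec iota B E 5 11845 375257 edges_5_26 v (by omega) (by omega)
          · rcases Nat.lt_or_ge v 410343 with h | h
            · rcases Nat.lt_or_ge v 398783 with h | h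
              · exact edgesRangeS_spec iota B E 5 11681 387102 edges_5_27 v (by omega) (by omega)
              · exact edgesRangeS_spec iota B E 5 11560 398783 edges_5_28 v (by omega) (by omega)
            · rcases Nat.lt_or_ge v 421680 with h | h
              · exact edgesRangeS_spec iota B E 5 11337 410343 edges_5_29 v (by omega) (by omega)
              · exact edgesRangeS_spec iota B E 5 11415 421680 edges_5_30 v (by omega) (by omega)
    · rcases Nat.lt_or_ge v 625304 with h | h
      · rcases Nat.lt_or_ge v 528364 with h | h
        · rcases Nat.lt_or_ge v 480275 with h | h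
          · rcases Nat.lt_or_ge v 457287 with h | h
            · rcases Nat.lt_or_ge v 445385 with h | h
              · exact edgesRangeS_spec iota B E 5 12290 433095 edges_5_31 v (by omega) (by omega)
              · exact edgesRangeS_spec iota B E 5 11902 445385 edges_5_32 v (by omega) (by omega)
            · rcases Nat.lt_or_ge v 468859 with h | h
              · exact edgesRangeS_spec iota B E 5 11572 457287 edges_5_33 v (by omega) (by omega)
              · exact edgesRangeS_spec iota B E 5 11416 468859 edges_5_34 v (by omega) (by omega)
          · rcases Nat.lt_or_ge v 502560 with h | h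
            · rcases Nat.lt_or_ge v 491435 with h | h
              · exact edgesRangeS_spec iota B E 5 11160 480275 edges_5_35 v (by omega) (by omega)
              · exact edgesRangeS_spec iota B E 5 11125 491435 edges_5_36 v (by omega) (by omega)
            · rcases Nat.lt_or_ge v 513374 with h | h
              · exact edgesRangeS_spec iota B E 5 10814 502560 edges_5_37 v (by omega) (by omega)
              · exact edgesRangeS_spec iota B E 5 14990 513374 edges_5_38 v (by omega) (by omega)
        · rcases Nat.lt_or_ge v 589028 with h | h
          · rcases Nat.lt_or_ge v 562620 with h | h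
            · rcases Nat.lt_or_ge v 545417 with h | h
              · exact edgesRangeS_spec iota B E 5 17053 528364 edges_5_39 v (by omega) (by omega)
              · exact edgesRangeS_spec iota B E 5 17203 545417 edges_5_40 v (by omega) (by omega)
            · rcases Nat.lt_or_ge v 579753 with h | h
              · exact edgesRangeS_spec iota B E 5 17133 562620 edges_5_41 v (by omega) (by omega)
              · exact edgesRangeS_spec iota B E 5 9275 579753 edges_5_42 v (by omega) (by omega)
          · rcases Nat.lt_or_ge v 607299 with h | h
            · rcases Nat.lt_or_ge v 598208 with h | h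
              · exact edgesRangeS_spec iota B E 5 9180 589028 edges_5_43 v (by omega) (by omega)
              · exact edgesRangeS_spec iota B E 5 9091 598208 edges_5_44 v (by omega) (by omega)
            · rcases Nat.lt_or_ge v 616329 with h | h
              · exact edgesRangeS_spec iota B E 5 9030 607299 edges_5_45 v (by omega) (by omega)
              · exact edgesRangeS_spec iota B E 5 8975 616329 edges_5_46 v (by omega) (by omega)
      · rcases Nat.lt_or_ge v 720480 with h | h
        · rcases Nat.lt_or_ge v 672287 with h | h
          · rcases Nat.lt_or_ge v 647952 with h | h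
            · rcases Nat.lt_or_ge v 635478 with h | h
              · exact edgesRangeS_spec iota B E 5 10174 625304 edges_5_47 v (by omega) (by omega)
              · exact edgesRangeS_spec iota B E 5 12474 635478 edges_5_48 v (by omega) (by omega)
            · rcases Nat.lt_or_ge v 660126 with h | h
              · exact edgesRangeS_spec iota B E 5 12174 647952 edges_5_49 v (by omega) (by omega)
              · exact edgesRangeS_spec iota B E 5 12161 660126 edges_5_50 v (by omega) (by omega)
          · rcases Nat.lt_or_ge v 696330 with h | h
            · rcases Nat.lt_or_ge v 684358 with h | h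
              · exact edgesRangeS_spec iota B E 5 12071 672287 edges_5_51 v (by omega) (by omega)
              · exact edgesRangeS_spec iota B E 5 11972 684358 edges_5_52 v (by omega) (by omega)
            · rcases Nat.lt_or_ge v 708395 with h | h
              · exact edgesRangeS_spec iota B E 5 12065 696330 edges_5_53 v (by omega) (by omega)
              · exact edgesRangeS_spec iota B E 5 12085 708395 edges_5_54 v (by omega) (by omega)
        · rcases Nat.lt_or_ge v 764850 with h | h
          · rcases Nat.lt_or_ge v 742802 with h | h
            · rcases Nat.lt_or_ge v 731834 with h | h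
              · exact edgesRangeS_spec iota B E 5 11354 720480 edges_5_55 v (by omega) (by omega)
              · exact edgesRangeS_spec iota B E 5 10968 731834 edges_5_56 v (by omega) (by omega)
            · rcases Nat.lt_or_ge v 753836 with h | h
              · exact edgesRangeS_spec iota B E 5 11034 742802 edges_5_57 v (by omega) (by omega)
              · exact edgesRangeS_spec iota B E 5 11014 753836 edges_5_58 v (by omega) (by omega)
          · rcases Nat.lt_or_ge v 786908 with h | h
            · rcases Nat.lt_or_ge v 775876 with h | h
              · exact edgesRangeS_spec iota B E 5 11026 764850 edges_5_59 v (by omega) (by omega)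
              · exact edgesRangeS_spec iota B E 5 11032 775876 edges_5_60 v (by omega) (by omega)
            · rcases Nat.lt_or_ge v 797942 with h | h
              · exact edgesRangeS_spec iota B E 5 11034 786908 edges_5_61 v (by omega) (by omega)
              · exact edgesRangeS_spec iota B E 5 11052 797942 edges_5_62 v (by omega) (by omega)
  · rcases Nat.lt_or_ge v 1155483 with h | h
    · rcases Nat.lt_or_ge v 976703 with h | h
      · rcases Nat.lt_or_ge v 886398 with h | h
        · rcases Nat.lt_or_ge v 842067 with h | h
          · rcases Nat.lt_or_ge v 820035 with h | h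
            · exact edgesRangeS_spec iota B E 5 11041 808994 edges_5_63 v (by omega) (by omega)
            · rcases Nat.lt_or_ge v 831082 with h | h
              · exact edgesRangeS_spec iota B E 5 11047 820035 edges_5_64 v (by omega) (by omega)
              · exact edgesRangeS_spec iota B E 5 10985 831082 edges_5_65 v (by omega) (by omega)
          · rcases Nat.lt_or_ge v 864177 with h | h
            · rcases Nat.lt_or_ge v 853065 with h | h
              · exact edgesRangeS_spec iota B E 5 10998 842067 edges_5_66 v (by omega) (by omega)
              · exact edgesRangeS_spec iota B E 5 11112 853065 edges_5_67 v (by omega) (by omega)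
            · rcases Nat.lt_or_ge v 875255 with h | h
              · exact edgesRangeS_spec iota B E 5 11078 864177 edges_5_68 v (by omega) (by omega)
              · exact edgesRangeS_spec iota B E 5 11143 875255 edges_5_69 v (by omega) (by omega)
        · rcases Nat.lt_or_ge v 931074 with h | h
          · rcases Nat.lt_or_ge v 908741 with h | h
            · rcases Nat.lt_or_ge v 897543 with h | h
              · exact edgesRangeS_spec iota B E 5 11145 886398 edges_5_70 v (by omega) (by omega)
              · exact edgesRangeS_spec iota B E 5 11198 897543 edges_5_71 v (by omega) (by omega)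
            · rcases Nat.lt_or_ge v 919929 with h | h
              · exact edgesRangeS_spec iota B E 5 11188 908741 edges_5_72 v (by omega) (by omega)
              · exact edgesRangeS_spec iota B E 5 11145 919929 edges_5_73 v (by omega) (by omega)
          · rcases Nat.lt_or_ge v 953919 with h | h
            · rcases Nat.lt_or_ge v 942464 with h | h
              · exact edgesRangeS_spec iota B E 5 11390 931074 edges_5_74 v (by omega) (by omega)
              · exact edgesRangeS_spec iota B E 5 11455 942464 edges_5_75 v (by omega) (by omega)
            · rcases Nat.lt_or_ge v 965297 with h | h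
              · exact edgesRangeS_spec iota B E 5 11378 953919 edges_5_76 v (by omega) (by omega)
              · exact edgesRangeS_spec iota B E 5 11406 965297 edges_5_77 v (by omega) (by omega)
      · rcases Nat.lt_or_ge v 1067016 with h | h
        · rcases Nat.lt_or_ge v 1022122 with h | h
          · rcases Nat.lt_or_ge v 999519 with h | h
            · rcases Nat.lt_or_ge v 988134 with h | h
              · exact edgesRangeS_spec iota B E 5 11431 976703 edges_5_78 v (by omega) (by omega)
              · exact edgesRangeS_spec iota B E 5 11385 988134 edges_5_79 v (by omega) (by omega)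
            · rcases Nat.lt_or_ge v 1010853 with h | h
              · exact edgesRangeS_spec iota B E 5 11334 999519 edges_5_80 v (by omega) (by omega)
              · exact edgesRangeS_spec iota B E 5 11269 1010853 edges_5_81 v (by omega) (by omega)
          · rcases Nat.lt_or_ge v 1044638 with h | h
            · rcases Nat.lt_or_ge v 1033372 with h | h
              · exact edgesRangeS_spec iota B E 5 11250 1022122 edges_5_82 v (by omega) (by omega)
              · exact edgesRangeS_spec iota B E 5 11266 1033372 edges_5_83 v (by omega) (by omega)
            · rcases Nat.lt_or_ge v 1055865 with h | h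
              · exact edgesRangeS_spec iota B E 5 11227 1044638 edges_5_84 v (by omega) (by omega)
              · exact edgesRangeS_spec iota B E 5 11151 1055865 edges_5_85 v (by omega) (by omega)
        · rcases Nat.lt_or_ge v 1111307 with h | h
          · rcases Nat.lt_or_ge v 1089191 with h | h
            · rcases Nat.lt_or_ge v 1078140 with h | h
              · exact edgesRangeS_spec iota B E 5 11124 1067016 edges_5_86 v (by omega) (by omega)
              · exact edgesRangeS_spec iota B E 5 11051 1078140 edges_5_87 v (by omega) (by omega)
            · rcases Nat.lt_or_ge v 1100275 with h | h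
              · exact edgesRangeS_spec iota B E 5 11084 1089191 edges_5_88 v (by omega) (by omega)
              · exact edgesRangeS_spec iota B E 5 11032 1100275 edges_5_89 v (by omega) (by omega)
          · rcases Nat.lt_or_ge v 1133466 with h | h
            · rcases Nat.lt_or_ge v 1122376 with h | h
              · exact edgesRangeS_spec iota B E 5 11069 1111307 edges_5_90 v (by omega) (by omega)
              · exact edgesRangeS_spec iota B E 5 11090 1122376 edges_5_91 v (by omega) (by omega)
            · rcases Nat.lt_or_ge v 1144489 with h | h
              · exact edgesRangeS_spec iota B E 5 11023 1133466 edges_5_92 v (by omega) (by omega)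
              · exact edgesRangeS_spec iota B E 5 10994 1144489 edges_5_93 v (by omega) (by omega)
    · rcases Nat.lt_or_ge v 1344647 with h | h
      · rcases Nat.lt_or_ge v 1241718 with h | h
        · rcases Nat.lt_or_ge v 1199022 with h | h
          · rcases Nat.lt_or_ge v 1177376 with h | h
            · rcases Nat.lt_or_ge v 1166457 with h | h
              · exact edgesRangeS_spec iota B E 5 10974 1155483 edges_5_94 v (by omega) (by omega)
              · exact edgesRangeS_spec iota B E 5 10919 1166457 edges_5_95 v (by omega) (by omega)
            · rcases Nat.lt_or_ge v 1188252 with h | h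
              · exact edgesRangeS_spec iota B E 5 10876 1177376 edges_5_96 v (by omega) (by omega)
              · exact edgesRangeS_spec iota B E 5 10770 1188252 edges_5_97 v (by omega) (by omega)
          · rcases Nat.lt_or_ge v 1220419 with h | h
            · rcases Nat.lt_or_ge v 1209806 with h | h
              · exact edgesRangeS_spec iota B E 5 10784 1199022 edges_5_98 v (by omega) (by omega)
              · exact edgesRangeS_spec iota B E 5 10613 1209806 edges_5_99 v (by omega) (by omega)
            · rcases Nat.lt_or_ge v 1231122 with h | h
              · exact edgesRangeS_spec iota B E 5 10703 1220419 edges_5_100 v (by omega) (by omega)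
              · exact edgesRangeS_spec iota B E 5 10596 1231122 edges_5_101 v (by omega) (by omega)
        · rcases Nat.lt_or_ge v 1291317 with h | h
          · rcases Nat.lt_or_ge v 1264635 with h | h
            · rcases Nat.lt_or_ge v 1252263 with h | h
              · exact edgesRangeS_spec iota B E 5 10545 1241718 edges_5_102 v (by omega) (by omega)
              · exact edgesRangeS_spec iota B E 5 12372 1252263 edges_5_103 v (by omega) (by omega)
            · rcases Nat.lt_or_ge v 1277978 with h | h
              · exact edgesRangeS_spec iota B E 5 13343 1264635 edges_5_104 v (by omega) (by omega)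
              · exact edgesRangeS_spec iota B E 5 13339 1277978 edges_5_105 v (by omega) (by omega)
          · rcases Nat.lt_or_ge v 1317994 with h | h
            · rcases Nat.lt_or_ge v 1304654 with h | h
              · exact edgesRangeS_spec iota B E 5 13337 1291317 edges_5_106 v (by omega) (by omega)
              · exact edgesRangeS_spec iota B E 5 13340 1304654 edges_5_107 v (by omega) (by omega)
            · rcases Nat.lt_or_ge v 1331307 with h | h
              · exact edgesRangeS_spec iota B E 5 13313 1317994 edges_5_108 v (by omega) (by omega)
              · exact edgesRangeS_spec iota B E 5 13340 1331307 edges_5_109 v (by omega) (by omega)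
      · rcases Nat.lt_or_ge v 1451301 with h | h
        · rcases Nat.lt_or_ge v 1397945 with h | h
          · rcases Nat.lt_or_ge v 1371299 with h | h
            · rcases Nat.lt_or_ge v 1357998 with h | h
              · exact edgesRangeS_spec iota B E 5 13351 1344647 edges_5_110 v (by omega) (by omega)
              · exact edgesRangeS_spec iota B E 5 13301 1357998 edges_5_111 v (by omega) (by omega)
            · rcases Nat.lt_or_ge v 1384609 with h | h
              · exact edgesRangeS_spec iota B E 5 13310 1371299 edges_5_112 v (by omega) (by omega)
              · exact edgesRangeS_spec iota B E 5 13336 1384609 edges_5_113 v (by omega) (by omega)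
          · rcases Nat.lt_or_ge v 1424648 with h | h
            · rcases Nat.lt_or_ge v 1411302 with h | h
              · exact edgesRangeS_spec iota B E 5 13357 1397945 edges_5_114 v (by omega) (by omega)
              · exact edgesRangeS_spec iota B E 5 13346 1411302 edges_5_115 v (by omega) (by omega)
            · rcases Nat.lt_or_ge v 1437962 with h | h
              · exact edgesRangeS_spec iota B E 5 13314 1424648 edges_5_116 v (by omega) (by omega)
              · exact edgesRangeS_spec iota B E 5 13339 1437962 edges_5_117 v (by omega) (by omega)
        · rcases Nat.lt_or_ge v 1504654 with h | h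
          · rcases Nat.lt_or_ge v 1478020 with h | h
            · rcases Nat.lt_or_ge v 1464660 with h | h
              · exact edgesRangeS_spec iota B E 5 13359 1451301 edges_5_118 v (by omega) (by omega)
              · exact edgesRangeS_spec iota B E 5 13360 1464660 edges_5_119 v (by omega) (by omega)
            · rcases Nat.lt_or_ge v 1491324 with h | h
              · exact edgesRangeS_spec iota B E 5 13304 1478020 edges_5_120 v (by omega) (by omega)
              · exact edgesRangeS_spec iota B E 5 13330 1491324 edges_5_121 v (by omega) (by omega)
          · rcases Nat.lt_or_ge v 1521861 with h | h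
            · rcases Nat.lt_or_ge v 1513949 with h | h
              · exact edgesRangeS_spec iota B E 5 9295 1504654 edges_5_122 v (by omega) (by omega)
              · exact edgesRangeS_spec iota B E 5 7912 1513949 edges_5_123 v (by omega) (by omega)
            · rcases Nat.lt_or_ge v 1530743 with h | h
              · exact edgesRangeS_spec iota B E 5 8882 1521861 edges_5_124 v (by omega) (by omega)
              · exact edgesRangeS_spec iota B E 5 8257 1530743 edges_5_125 v (by omega) (by omega)

theorem edgesx_6 : ∀ v, v < 1539000 → edgeOKS iota B E 6 v = true := by
  intro v hv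
  rcases Nat.lt_or_ge v 794873 with h | h
  · rcases Nat.lt_or_ge v 416447 with h | h
    · rcases Nat.lt_or_ge v 229950 with h | h
      · rcases Nat.lt_or_ge v 116576 with h | h
        · rcases Nat.lt_or_ge v 59764 with h | h
          · rcases Nat.lt_or_ge v 39867 with h | h
            · exact edgesRangeS_spec iota B E 6 39867 0 edges_6_0 v (by omega) (by omega)
            · exact edgesRangeS_spec iota B E 6 19897 39867 edges_6_1 v (by omega) (by omega)
          · rcases Nat.lt_or_ge v 78126 with h | h
            · exact edgesRangeS_spec iota B E 6 18362 59764 edges_6_2 v (by omega) (by omega)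
            · rcases Nat.lt_or_ge v 97882 with h | h
              · exact edgesRangeS_spec iota B E 6 19756 78126 edges_6_3 v (by omega) (by omega)
              · exact edgesRangeS_spec iota B E 6 18694 97882 edges_6_4 v (by omega) (by omega)
        · rcases Nat.lt_or_ge v 173244 with h | h
          · rcases Nat.lt_or_ge v 135519 with h | h
            · exact edgesRangeS_spec iota B E 6 18943 116576 edges_6_5 v (by omega) (by omega)
            · rcases Nat.lt_or_ge v 154616 with h | h
              · exact edgesRangeS_spec iota B E 6 19097 135519 edges_6_6 v (by omega) (by omega)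
              · exact edgesRangeS_spec iota B E 6 18628 154616 edges_6_7 v (by omega) (by omega)
          · rcases Nat.lt_or_ge v 191787 with h | h
            · exact edgesRangeS_spec iota B E 6 18543 173244 edges_6_8 v (by omega) (by omega)
            · rcases Nat.lt_or_ge v 210247 with h | h
              · exact edgesRangeS_spec iota B E 6 18460 191787 edges_6_9 v (by omega) (by omega)
              · exact edgesRangeS_spec iota B E 6 19703 210247 edges_6_10 v (by omega) (by omega)
      · rcases Nat.lt_or_ge v 315583 with h | h
        · rcases Nat.lt_or_ge v 266234 with h | h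
          · rcases Nat.lt_or_ge v 249155 with h | h
            · exact edgesRangeS_spec iota B E 6 19205 229950 edges_6_11 v (by omega) (by omega)
            · exact edgesRangeS_spec iota B E 6 17079 249155 edges_6_12 v (by omega) (by omega)
          · rcases Nat.lt_or_ge v 282890 with h | h
            · exact edgesRangeS_spec iota B E 6 16656 266234 edges_6_13 v (by omega) (by omega)
            · rcases Nat.lt_or_ge v 299400 with h | h
              · exact edgesRangeS_spec iota B E 6 16510 282890 edges_6_14 v (by omega) (by omega)
              · exact edgesRangeS_spec iota B E 6 16183 299400 edges_6_15 v (by omega) (by omega)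
        · rcases Nat.lt_or_ge v 366479 with h | h
          · rcases Nat.lt_or_ge v 332169 with h | h
            · exact edgesRangeS_spec iota B E 6 16586 315583 edges_6_16 v (by omega) (by omega)
            · rcases Nat.lt_or_ge v 349450 with h | h
              · exact edgesRangeS_spec iota B E 6 17281 332169 edges_6_17 v (by omega) (by omega)
              · exact edgesRangeS_spec iota B E 6 17029 349450 edges_6_18 v (by omega) (by omega)
          · rcases Nat.lt_or_ge v 383331 with h | h
            · exact edgesRangeS_spec iota B E 6 16852 366479 edges_6_19 v (by omega) (by omega)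
            · rcases Nat.lt_or_ge v 400024 with h | h
              · exact edgesRangeS_spec iota B E 6 16693 383331 edges_6_20 v (by omega) (by omega)
              · exact edgesRangeS_spec iota B E 6 16423 400024 edges_6_21 v (by omega) (by omega)
    · rcases Nat.lt_or_ge v 603292 with h | h
      · rcases Nat.lt_or_ge v 496083 with h | h
        · rcases Nat.lt_or_ge v 448769 with h | h
          · rcases Nat.lt_or_ge v 432673 with h | h
            · exact edgesRangeS_spec iota B E 6 16226 416447 edges_6_22 v (by omega) (by omega)
            · exact edgesRangeS_spec iota B E 6 16096 432673 edges_6_23 v (by omega) (by omega)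
          · rcases Nat.lt_or_ge v 464710 with h | h
            · exact edgesRangeS_spec iota B E 6 15941 448769 edges_6_24 v (by omega) (by omega)
            · rcases Nat.lt_or_ge v 480428 with h | h
              · exact edgesRangeS_spec iota B E 6 15718 464710 edges_6_25 v (by omega) (by omega)
              · exact edgesRangeS_spec iota B E 6 15655 480428 edges_6_26 v (by omega) (by omega)
        · rcases Nat.lt_or_ge v 547227 with h | h
          · rcases Nat.lt_or_ge v 511582 with h | h
            · exact edgesRangeS_spec iota B E 6 15499 496083 edges_6_27 v (by omega) (by omega)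
            · rcases Nat.lt_or_ge v 528939 with h | h
              · exact edgesRangeS_spec iota B E 6 17357 511582 edges_6_28 v (by omega) (by omega)
              · exact edgesRangeS_spec iota B E 6 18288 528939 edges_6_29 v (by omega) (by omega)
          · rcases Nat.lt_or_ge v 566009 with h | h
            · exact edgesRangeS_spec iota B E 6 18782 547227 edges_6_30 v (by omega) (by omega)
            · rcases Nat.lt_or_ge v 584458 with h | h
              · exact edgesRangeS_spec iota B E 6 18449 566009 edges_6_31 v (by omega) (by omega)
              · exact edgesRangeS_spec iota B E 6 18834 584458 edges_6_32 v (by omega) (by omega)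
      · rcases Nat.lt_or_ge v 699459 with h | h
        · rcases Nat.lt_or_ge v 654202 with h | h
          · rcases Nat.lt_or_ge v 622079 with h | h
            · exact edgesRangeS_spec iota B E 6 18787 603292 edges_6_33 v (by omega) (by omega)
            · rcases Nat.lt_or_ge v 639061 with h | h
              · exact edgesRangeS_spec iota B E 6 16982 622079 edges_6_34 v (by omega) (by omega)
              · exact edgesRangeS_spec iota B E 6 15141 639061 edges_6_35 v (by omega) (by omega)
          · rcases Nat.lt_or_ge v 669361 with h | h
            · exact edgesRangeS_spec iota B E 6 15159 654202 edges_6_36 v (by omega) (by omega)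
            · rcases Nat.lt_or_ge v 684382 with h | h
              · exact edgesRangeS_spec iota B E 6 15021 669361 edges_6_37 v (by omega) (by omega)
              · exact edgesRangeS_spec iota B E 6 15077 684382 edges_6_38 v (by omega) (by omega)
        · rcases Nat.lt_or_ge v 746355 with h | h
          · rcases Nat.lt_or_ge v 714532 with h | h
            · exact edgesRangeS_spec iota B E 6 15073 699459 edges_6_39 v (by omega) (by omega)
            · rcases Nat.lt_or_ge v 730026 with h | h
              · exact edgesRangeS_spec iota B E 6 15494 714532 edges_6_40 v (by omega) (by omega)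
              · exact edgesRangeS_spec iota B E 6 16329 730026 edges_6_41 v (by omega) (by omega)
          · rcases Nat.lt_or_ge v 762571 with h | h
            · exact edgesRangeS_spec iota B E 6 16216 746355 edges_6_42 v (by omega) (by omega)
            · rcases Nat.lt_or_ge v 778806 with h | h
              · exact edgesRangeS_spec iota B E 6 16235 762571 edges_6_43 v (by omega) (by omega)
              · exact edgesRangeS_spec iota B E 6 16067 778806 edges_6_44 v (by omega) (by omega)
  · rcases Nat.lt_or_ge v 1140343 with h | h
    · rcases Nat.lt_or_ge v 969871 with h | h
      · rcases Nat.lt_or_ge v 875009 with h | h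
        · rcases Nat.lt_or_ge v 827015 with h | h
          · rcases Nat.lt_or_ge v 811004 with h | h
            · exact edgesRangeS_spec iota B E 6 16131 794873 edges_6_45 v (by omega) (by omega)
            · exact edgesRangeS_spec iota B E 6 16011 811004 edges_6_46 v (by omega) (by omega)
          · rcases Nat.lt_or_ge v 843091 with h | h
            · exact edgesRangeS_spec iota B E 6 16076 827015 edges_6_47 v (by omega) (by omega)
            · rcases Nat.lt_or_ge v 859068 with h | h
              · exact edgesRangeS_spec iota B E 6 15977 843091 edges_6_48 v (by omega) (by omega)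
              · exact edgesRangeS_spec iota B E 6 15941 859068 edges_6_49 v (by omega) (by omega)
        · rcases Nat.lt_or_ge v 922730 with h | h
          · rcases Nat.lt_or_ge v 890855 with h | h
            · exact edgesRangeS_spec iota B E 6 15846 875009 edges_6_50 v (by omega) (by omega)
            · rcases Nat.lt_or_ge v 906781 with h | h
              · exact edgesRangeS_spec iota B E 6 15926 890855 edges_6_51 v (by omega) (by omega)
              · exact edgesRangeS_spec iota B E 6 15949 906781 edges_6_52 v (by omega) (by omega)
          · rcases Nat.lt_or_ge v 938575 with h | h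
            · exact edgesRangeS_spec iota B E 6 15845 922730 edges_6_53 v (by omega) (by omega)
            · rcases Nat.lt_or_ge v 954258 with h | h
              · exact edgesRangeS_spec iota B E 6 15683 938575 edges_6_54 v (by omega) (by omega)
              · exact edgesRangeS_spec iota B E 6 15613 954258 edges_6_55 v (by omega) (by omega)
      · rcases Nat.lt_or_ge v 1047518 with h | h
        · rcases Nat.lt_or_ge v 1001001 with h | h
          · rcases Nat.lt_or_ge v 985469 with h | h
            · exact edgesRangeS_spec iota B E 6 15598 969871 edges_6_56 v (by omega) (by omega)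
            · exact edgesRangeS_spec iota B E 6 15532 985469 edges_6_57 v (by omega) (by omega)
          · rcases Nat.lt_or_ge v 1016546 with h | h
            · exact edgesRangeS_spec iota B E 6 15545 1001001 edges_6_58 v (by omega) (by omega)
            · rcases Nat.lt_or_ge v 1032086 with h | h
              · exact edgesRangeS_spec iota B E 6 15540 1016546 edges_6_59 v (by omega) (by omega)
              · exact edgesRangeS_spec iota B E 6 15432 1032086 edges_6_60 v (by omega) (by omega)
        · rcases Nat.lt_or_ge v 1093791 with h | h
          · rcases Nat.lt_or_ge v 1062926 with h | h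
            · exact edgesRangeS_spec iota B E 6 15408 1047518 edges_6_61 v (by omega) (by omega)
            · rcases Nat.lt_or_ge v 1078422 with h | h
              · exact edgesRangeS_spec iota B E 6 15496 1062926 edges_6_62 v (by omega) (by omega)
              · exact edgesRangeS_spec iota B E 6 15369 1078422 edges_6_63 v (by omega) (by omega)
          · rcases Nat.lt_or_ge v 1109244 with h | h
            · exact edgesRangeS_spec iota B E 6 15453 1093791 edges_6_64 v (by omega) (by omega)
            · rcases Nat.lt_or_ge v 1124667 with h | h
              · exact edgesRangeS_spec iota B E 6 15423 1109244 edges_6_65 v (by omega) (by omega)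
              · exact edgesRangeS_spec iota B E 6 15676 1124667 edges_6_66 v (by omega) (by omega)
    · rcases Nat.lt_or_ge v 1321081 with h | h
      · rcases Nat.lt_or_ge v 1218278 with h | h
        · rcases Nat.lt_or_ge v 1171709 with h | h
          · rcases Nat.lt_or_ge v 1156011 with h | h
            · exact edgesRangeS_spec iota B E 6 15668 1140343 edges_6_67 v (by omega) (by omega)
            · exact edgesRangeS_spec iota B E 6 15698 1156011 edges_6_68 v (by omega) (by omega)
          · rcases Nat.lt_or_ge v 1187324 with h | h
            · exact edgesRangeS_spec iota B E 6 15615 1171709 edges_6_69 v (by omega) (by omega)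
            · rcases Nat.lt_or_ge v 1202868 with h | h
              · exact edgesRangeS_spec iota B E 6 15544 1187324 edges_6_70 v (by omega) (by omega)
              · exact edgesRangeS_spec iota B E 6 15410 1202868 edges_6_71 v (by omega) (by omega)
        · rcases Nat.lt_or_ge v 1265621 with h | h
          · rcases Nat.lt_or_ge v 1233531 with h | h
            · exact edgesRangeS_spec iota B E 6 15253 1218278 edges_6_72 v (by omega) (by omega)
            · rcases Nat.lt_or_ge v 1248688 with h | h
              · exact edgesRangeS_spec iota B E 6 15157 1233531 edges_6_73 v (by omega) (by omega)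
              · exact edgesRangeS_spec iota B E 6 16933 1248688 edges_6_74 v (by omega) (by omega)
          · rcases Nat.lt_or_ge v 1284077 with h | h
            · exact edgesRangeS_spec iota B E 6 18456 1265621 edges_6_75 v (by omega) (by omega)
            · rcases Nat.lt_or_ge v 1302556 with h | h
              · exact edgesRangeS_spec iota B E 6 18479 1284077 edges_6_76 v (by omega) (by omega)
              · exact edgesRangeS_spec iota B E 6 18525 1302556 edges_6_77 v (by omega) (by omega)
      · rcases Nat.lt_or_ge v 1431745 with h | h
        · rcases Nat.lt_or_ge v 1376294 with h | h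
          · rcases Nat.lt_or_ge v 1339425 with h | h
            · exact edgesRangeS_spec iota B E 6 18344 1321081 edges_6_78 v (by omega) (by omega)
            · rcases Nat.lt_or_ge v 1357901 with h | h
              · exact edgesRangeS_spec iota B E 6 18476 1339425 edges_6_79 v (by omega) (by omega)
              · exact edgesRangeS_spec iota B E 6 18393 1357901 edges_6_80 v (by omega) (by omega)
          · rcases Nat.lt_or_ge v 1394668 with h | h
            · exact edgesRangeS_spec iota B E 6 18374 1376294 edges_6_81 v (by omega) (by omega)
            · rcases Nat.lt_or_ge v 1413259 with h | h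
              · exact edgesRangeS_spec iota B E 6 18591 1394668 edges_6_82 v (by omega) (by omega)
              · exact edgesRangeS_spec iota B E 6 18486 1413259 edges_6_83 v (by omega) (by omega)
        · rcases Nat.lt_or_ge v 1487136 with h | h
          · rcases Nat.lt_or_ge v 1450127 with h | h
            · exact edgesRangeS_spec iota B E 6 18382 1431745 edges_6_84 v (by omega) (by omega)
            · rcases Nat.lt_or_ge v 1468726 with h | h
              · exact edgesRangeS_spec iota B E 6 18599 1450127 edges_6_85 v (by omega) (by omega)
              · exact edgesRangeS_spec iota B E 6 18410 1468726 edges_6_86 v (by omega) (by omega)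
          · rcases Nat.lt_or_ge v 1505626 with h | h
            · exact edgesRangeS_spec iota B E 6 18490 1487136 edges_6_87 v (by omega) (by omega)
            · rcases Nat.lt_or_ge v 1524432 with h | h
              · exact edgesRangeS_spec iota B E 6 18806 1505626 edges_6_88 v (by omega) (by omega)
              · exact edgesRangeS_spec iota B E 6 14568 1524432 edges_6_89 v (by omega) (by omega)

theorem edgesx_7 : ∀ v, v < 1539000 → edgeOKS iota B E 7 v = true := by
  intro v hv
  rcases Nat.lt_or_ge v 779475 with h | h
  · rcases Nat.lt_or_ge v 418491 with h | h
    · rcases Nat.lt_or_ge v 237884 with h | h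
      · rcases Nat.lt_or_ge v 123015 with h | h
        · rcases Nat.lt_or_ge v 66533 with h | h
          · rcases Nat.lt_or_ge v 36388 with h | h
            · exact edgesRangeS_spec iota B E 7 36388 0 edges_7_0 v (by omega) (by omega)
            · rcases Nat.lt_or_ge v 52784 with h | h
              · exact edgesRangeS_spec iota B E 7 16396 36388 edges_7_1 v (by omega) (by omega)
              · exact edgesRangeS_spec iota B E 7 13749 52784 edges_7_2 v (by omega) (by omega)
          · rcases Nat.lt_or_ge v 94914 with h | h
            · rcases Nat.lt_or_ge v 80544 with h | h
              · exact edgesRangeS_spec iota B E 7 14011 66533 edges_7_3 v (by omega) (by omega)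
              · exact edgesRangeS_spec iota B E 7 14370 80544 edges_7_4 v (by omega) (by omega)
            · rcases Nat.lt_or_ge v 109044 with h | h
              · exact edgesRangeS_spec iota B E 7 14130 94914 edges_7_5 v (by omega) (by omega)
              · exact edgesRangeS_spec iota B E 7 13971 109044 edges_7_6 v (by omega) (by omega)
        · rcases Nat.lt_or_ge v 183241 with h | h
          · rcases Nat.lt_or_ge v 151403 with h | h
            · rcases Nat.lt_or_ge v 137532 with h | h
              · exact edgesRangeS_spec iota B E 7 14517 123015 edges_7_7 v (by omega) (by omega)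
              · exact edgesRangeS_spec iota B E 7 13871 137532 edges_7_8 v (by omega) (by omega)
            · rcases Nat.lt_or_ge v 166093 with h | h
              · exact edgesRangeS_spec iota B E 7 14690 151403 edges_7_9 v (by omega) (by omega)
              · exact edgesRangeS_spec iota B E 7 17148 166093 edges_7_10 v (by omega) (by omega)
          · rcases Nat.lt_or_ge v 216198 with h | h
            · rcases Nat.lt_or_ge v 200388 with h | h
              · exact edgesRangeS_spec iota B E 7 17147 183241 edges_7_11 v (by omega) (by omega)
              · exact edgesRangeS_spec iota B E 7 15810 200388 edges_7_12 v (by omega) (by omega)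
            · rcases Nat.lt_or_ge v 226987 with h | h
              · exact edgesRangeS_spec iota B E 7 10789 216198 edges_7_13 v (by omega) (by omega)
              · exact edgesRangeS_spec iota B E 7 10897 226987 edges_7_14 v (by omega) (by omega)
      · rcases Nat.lt_or_ge v 321165 with h | h
        · rcases Nat.lt_or_ge v 272774 with h | h
          · rcases Nat.lt_or_ge v 248609 with h | h
            · exact edgesRangeS_spec iota B E 7 10725 237884 edges_7_15 v (by omega) (by omega)
            · rcases Nat.lt_or_ge v 259968 with h | h
              · exact edgesRangeS_spec iota B E 7 11359 248609 edges_7_16 v (by omega) (by omega)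
              · exact edgesRangeS_spec iota B E 7 12806 259968 edges_7_17 v (by omega) (by omega)
          · rcases Nat.lt_or_ge v 297592 with h | h
            · rcases Nat.lt_or_ge v 285320 with h | h
              · exact edgesRangeS_spec iota B E 7 12546 272774 edges_7_18 v (by omega) (by omega)
              · exact edgesRangeS_spec iota B E 7 12272 285320 edges_7_19 v (by omega) (by omega)
            · rcases Nat.lt_or_ge v 309560 with h | h
              · exact edgesRangeS_spec iota B E 7 11968 297592 edges_7_20 v (by omega) (by omega)
              · exact edgesRangeS_spec iota B E 7 11605 309560 edges_7_21 v (by omega) (by omega)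
        · rcases Nat.lt_or_ge v 370684 with h | h
          · rcases Nat.lt_or_ge v 346088 with h | h
            · rcases Nat.lt_or_ge v 333534 with h | h
              · exact edgesRangeS_spec iota B E 7 12369 321165 edges_7_22 v (by omega) (by omega)
              · exact edgesRangeS_spec iota B E 7 12554 333534 edges_7_23 v (by omega) (by omega)
            · rcases Nat.lt_or_ge v 358465 with h | h
              · exact edgesRangeS_spec iota B E 7 12377 346088 edges_7_24 v (by omega) (by omega)
              · exact edgesRangeS_spec iota B E 7 12219 358465 edges_7_25 v (by omega) (by omega)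
          · rcases Nat.lt_or_ge v 394733 with h | h
            · rcases Nat.lt_or_ge v 382773 with h | h
              · exact edgesRangeS_spec iota B E 7 12089 370684 edges_7_26 v (by omega) (by omega)
              · exact edgesRangeS_spec iota B E 7 11960 382773 edges_7_27 v (by omega) (by omega)
            · rcases Nat.lt_or_ge v 406739 with h | h
              · exact edgesRangeS_spec iota B E 7 12006 394733 edges_7_28 v (by omega) (by omega)
              · exact edgesRangeS_spec iota B E 7 11752 406739 edges_7_29 v (by omega) (by omega)
    · rcases Nat.lt_or_ge v 610882 with h | h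
      · rcases Nat.lt_or_ge v 501435 with h | h
        · rcases Nat.lt_or_ge v 454583 with h | h
          · rcases Nat.lt_or_ge v 430128 with h | h
            · exact edgesRangeS_spec iota B E 7 11637 418491 edges_7_30 v (by omega) (by omega)
            · rcases Nat.lt_or_ge v 442452 with h | h
              · exact edgesRangeS_spec iota B E 7 12324 430128 edges_7_31 v (by omega) (by omega)
              · exact edgesRangeS_spec iota B E 7 12131 442452 edges_7_32 v (by omega) (by omega)
          · rcases Nat.lt_or_ge v 478215 with h | h
            · rcases Nat.lt_or_ge v 466517 with h | h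
              · exact edgesRangeS_spec iota B E 7 11934 454583 edges_7_33 v (by omega) (by omega)
              · exact edgesRangeS_spec iota B E 7 11698 466517 edges_7_34 v (by omega) (by omega)
            · rcases Nat.lt_or_ge v 489843 with h | h
              · exact edgesRangeS_spec iota B E 7 11628 478215 edges_7_35 v (by omega) (by omega)
              · exact edgesRangeS_spec iota B E 7 11592 489843 edges_7_36 v (by omega) (by omega)
        · rcases Nat.lt_or_ge v 562378 with h | h
          · rcases Nat.lt_or_ge v 528077 with h | h
            · rcases Nat.lt_or_ge v 512965 with h | h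
              · exact edgesRangeS_spec iota B E 7 11530 501435 edges_7_37 v (by omega) (by omega)
              · exact edgesRangeS_spec iota B E 7 15112 512965 edges_7_38 v (by omega) (by omega)
            · rcases Nat.lt_or_ge v 545258 with h | h
              · exact edgesRangeS_spec iota B E 7 17181 528077 edges_7_39 v (by omega) (by omega)
              · exact edgesRangeS_spec iota B E 7 17120 545258 edges_7_40 v (by omega) (by omega)
          · rcases Nat.lt_or_ge v 589935 with h | h
            · rcases Nat.lt_or_ge v 579524 with h | h
              · exact edgesRangeS_spec iota B E 7 17146 562378 edges_7_41 v (by omega) (by omega)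
              · exact edgesRangeS_spec iota B E 7 10411 579524 edges_7_42 v (by omega) (by omega)
            · rcases Nat.lt_or_ge v 600464 with h | h
              · exact edgesRangeS_spec iota B E 7 10529 589935 edges_7_43 v (by omega) (by omega)
              · exact edgesRangeS_spec iota B E 7 10418 600464 edges_7_44 v (by omega) (by omega)
      · rcases Nat.lt_or_ge v 688533 with h | h
        · rcases Nat.lt_or_ge v 643521 with h | h
          · rcases Nat.lt_or_ge v 621323 with h | h
            · exact edgesRangeS_spec iota B E 7 10441 610882 edges_7_45 v (by omega) (by omega)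
            · rcases Nat.lt_or_ge v 631903 with h | h
              · exact edgesRangeS_spec iota B E 7 10580 621323 edges_7_46 v (by omega) (by omega)
              · exact edgesRangeS_spec iota B E 7 11618 631903 edges_7_47 v (by omega) (by omega)
          · rcases Nat.lt_or_ge v 666261 with h | h
            · rcases Nat.lt_or_ge v 654964 with h | h
              · exact edgesRangeS_spec iota B E 7 11443 643521 edges_7_48 v (by omega) (by omega)
              · exact edgesRangeS_spec iota B E 7 11297 654964 edges_7_49 v (by omega) (by omega)
            · rcases Nat.lt_or_ge v 677413 with h | h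
              · exact edgesRangeS_spec iota B E 7 11152 666261 edges_7_50 v (by omega) (by omega)
              · exact edgesRangeS_spec iota B E 7 11120 677413 edges_7_51 v (by omega) (by omega)
        · rcases Nat.lt_or_ge v 733230 with h | h
          · rcases Nat.lt_or_ge v 710734 with h | h
            · rcases Nat.lt_or_ge v 699633 with h | h
              · exact edgesRangeS_spec iota B E 7 11100 688533 edges_7_52 v (by omega) (by omega)
              · exact edgesRangeS_spec iota B E 7 11101 699633 edges_7_53 v (by omega) (by omega)
            · rcases Nat.lt_or_ge v 721863 with h | h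
              · exact edgesRangeS_spec iota B E 7 11129 710734 edges_7_54 v (by omega) (by omega)
              · exact edgesRangeS_spec iota B E 7 11367 721863 edges_7_55 v (by omega) (by omega)
          · rcases Nat.lt_or_ge v 756372 with h | h
            · rcases Nat.lt_or_ge v 744836 with h | h
              · exact edgesRangeS_spec iota B E 7 11606 733230 edges_7_56 v (by omega) (by omega)
              · exact edgesRangeS_spec iota B E 7 11536 744836 edges_7_57 v (by omega) (by omega)
            · rcases Nat.lt_or_ge v 767984 with h | h
              · exact edgesRangeS_spec iota B E 7 11612 756372 edges_7_58 v (by omega) (by omega)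
              · exact edgesRangeS_spec iota B E 7 11491 767984 edges_7_59 v (by omega) (by omega)
  · rcases Nat.lt_or_ge v 1120404 with h | h
    · rcases Nat.lt_or_ge v 949491 with h | h
      · rcases Nat.lt_or_ge v 858916 with h | h
        · rcases Nat.lt_or_ge v 813623 with h | h
          · rcases Nat.lt_or_ge v 790877 with h | h
            · exact edgesRangeS_spec iota B E 7 11402 779475 edges_7_60 v (by omega) (by omega)
            · rcases Nat.lt_or_ge v 802234 with h | h
              · exact edgesRangeS_spec iota B E 7 11357 790877 edges_7_61 v (by omega) (by omega)
              · exact edgesRangeS_spec iota B E 7 11389 802234 edges_7_62 v (by omega) (by omega)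
          · rcases Nat.lt_or_ge v 836302 with h | h
            · rcases Nat.lt_or_ge v 825035 with h | h
              · exact edgesRangeS_spec iota B E 7 11412 813623 edges_7_63 v (by omega) (by omega)
              · exact edgesRangeS_spec iota B E 7 11267 825035 edges_7_64 v (by omega) (by omega)
            · rcases Nat.lt_or_ge v 847621 with h | h
              · exact edgesRangeS_spec iota B E 7 11319 836302 edges_7_65 v (by omega) (by omega)
              · exact edgesRangeS_spec iota B E 7 11295 847621 edges_7_66 v (by omega) (by omega)
        · rcases Nat.lt_or_ge v 904040 with h | h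
          · rcases Nat.lt_or_ge v 881429 with h | h
            · rcases Nat.lt_or_ge v 870138 with h | h
              · exact edgesRangeS_spec iota B E 7 11222 858916 edges_7_67 v (by omega) (by omega)
              · exact edgesRangeS_spec iota B E 7 11291 870138 edges_7_68 v (by omega) (by omega)
            · rcases Nat.lt_or_ge v 892748 with h | h
              · exact edgesRangeS_spec iota B E 7 11319 881429 edges_7_69 v (by omega) (by omega)
              · exact edgesRangeS_spec iota B E 7 11292 892748 edges_7_70 v (by omega) (by omega)
          · rcases Nat.lt_or_ge v 926381 with h | h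
            · rcases Nat.lt_or_ge v 915279 with h | h
              · exact edgesRangeS_spec iota B E 7 11239 904040 edges_7_71 v (by omega) (by omega)
              · exact edgesRangeS_spec iota B E 7 11102 915279 edges_7_72 v (by omega) (by omega)
            · rcases Nat.lt_or_ge v 937925 with h | h
              · exact edgesRangeS_spec iota B E 7 11544 926381 edges_7_73 v (by omega) (by omega)
              · exact edgesRangeS_spec iota B E 7 11566 937925 edges_7_74 v (by omega) (by omega)
      · rcases Nat.lt_or_ge v 1030162 with h | h
        · rcases Nat.lt_or_ge v 984256 with h | h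
          · rcases Nat.lt_or_ge v 961219 with h | h
            · exact edgesRangeS_spec iota B E 7 11728 949491 edges_7_75 v (by omega) (by omega)
            · rcases Nat.lt_or_ge v 972637 with h | h
              · exact edgesRangeS_spec iota B E 7 11418 961219 edges_7_76 v (by omega) (by omega)
              · exact edgesRangeS_spec iota B E 7 11619 972637 edges_7_77 v (by omega) (by omega)
          · rcases Nat.lt_or_ge v 1007171 with h | h
            · rcases Nat.lt_or_ge v 995689 with h | h
              · exact edgesRangeS_spec iota B E 7 11433 984256 edges_7_78 v (by omega) (by omega)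
              · exact edgesRangeS_spec iota B E 7 11482 995689 edges_7_79 v (by omega) (by omega)
            · rcases Nat.lt_or_ge v 1018653 with h | h
              · exact edgesRangeS_spec iota B E 7 11482 1007171 edges_7_80 v (by omega) (by omega)
              · exact edgesRangeS_spec iota B E 7 11509 1018653 edges_7_81 v (by omega) (by omega)
        · rcases Nat.lt_or_ge v 1075532 with h | h
          · rcases Nat.lt_or_ge v 1052933 with h | h
            · rcases Nat.lt_or_ge v 1041579 with h | h
              · exact edgesRangeS_spec iota B E 7 11417 1030162 edges_7_82 v (by omega) (by omega)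
              · exact edgesRangeS_spec iota B E 7 11354 1041579 edges_7_83 v (by omega) (by omega)
            · rcases Nat.lt_or_ge v 1064204 with h | h
              · exact edgesRangeS_spec iota B E 7 11271 1052933 edges_7_84 v (by omega) (by omega)
              · exact edgesRangeS_spec iota B E 7 11328 1064204 edges_7_85 v (by omega) (by omega)
          · rcases Nat.lt_or_ge v 1097958 with h | h
            · rcases Nat.lt_or_ge v 1086701 with h | h
              · exact edgesRangeS_spec iota B E 7 11169 1075532 edges_7_86 v (by omega) (by omega)
              · exact edgesRangeS_spec iota B E 7 11257 1086701 edges_7_87 v (by omega) (by omega)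
            · rcases Nat.lt_or_ge v 1109200 with h | h
              · exact edgesRangeS_spec iota B E 7 11242 1097958 edges_7_88 v (by omega) (by omega)
              · exact edgesRangeS_spec iota B E 7 11204 1109200 edges_7_89 v (by omega) (by omega)
    · rcases Nat.lt_or_ge v 1307052 with h | h
      · rcases Nat.lt_or_ge v 1200075 with h | h
        · rcases Nat.lt_or_ge v 1154662 with h | h
          · rcases Nat.lt_or_ge v 1131613 with h | h
            · exact edgesRangeS_spec iota B E 7 11209 1120404 edges_7_90 v (by omega) (by omega)
            · rcases Nat.lt_or_ge v 1143184 with h | h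
              · exact edgesRangeS_spec iota B E 7 11571 1131613 edges_7_91 v (by omega) (by omega)
              · exact edgesRangeS_spec iota B E 7 11478 1143184 edges_7_92 v (by omega) (by omega)
          · rcases Nat.lt_or_ge v 1177526 with h | h
            · rcases Nat.lt_or_ge v 1166142 with h | h
              · exact edgesRangeS_spec iota B E 7 11480 1154662 edges_7_93 v (by omega) (by omega)
              · exact edgesRangeS_spec iota B E 7 11384 1166142 edges_7_94 v (by omega) (by omega)
            · rcases Nat.lt_or_ge v 1188861 with h | h
              · exact edgesRangeS_spec iota B E 7 11335 1177526 edges_7_95 v (by omega) (by omega)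
              · exact edgesRangeS_spec iota B E 7 11214 1188861 edges_7_96 v (by omega) (by omega)
        · rcases Nat.lt_or_ge v 1244729 with h | h
          · rcases Nat.lt_or_ge v 1222533 with h | h
            · rcases Nat.lt_or_ge v 1211306 with h | h
              · exact edgesRangeS_spec iota B E 7 11231 1200075 edges_7_97 v (by omega) (by omega)
              · exact edgesRangeS_spec iota B E 7 11227 1211306 edges_7_98 v (by omega) (by omega)
            · rcases Nat.lt_or_ge v 1233680 with h | h
              · exact edgesRangeS_spec iota B E 7 11147 1222533 edges_7_99 v (by omega) (by omega)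
              · exact edgesRangeS_spec iota B E 7 11049 1233680 edges_7_100 v (by omega) (by omega)
          · rcases Nat.lt_or_ge v 1272759 with h | h
            · rcases Nat.lt_or_ge v 1255758 with h | h
              · exact edgesRangeS_spec iota B E 7 11029 1244729 edges_7_101 v (by omega) (by omega)
              · exact edgesRangeS_spec iota B E 7 17001 1255758 edges_7_102 v (by omega) (by omega)
            · rcases Nat.lt_or_ge v 1289895 with h | h
              · exact edgesRangeS_spec iota B E 7 17136 1272759 edges_7_103 v (by omega) (by omega)
              · exact edgesRangeS_spec iota B E 7 17157 1289895 edges_7_104 v (by omega) (by omega)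
      · rcases Nat.lt_or_ge v 1444223 with h | h
        · rcases Nat.lt_or_ge v 1375623 with h | h
          · rcases Nat.lt_or_ge v 1341347 with h | h
            · rcases Nat.lt_or_ge v 1324162 with h | h
              · exact edgesRangeS_spec iota B E 7 17110 1307052 edges_7_105 v (by omega) (by omega)
              · exact edgesRangeS_spec iota B E 7 17185 1324162 edges_7_106 v (by omega) (by omega)
            · rcases Nat.lt_or_ge v 1358487 with h | h
              · exact edgesRangeS_spec iota B E 7 17140 1341347 edges_7_107 v (by omega) (by omega)
              · exact edgesRangeS_spec iota B E 7 17136 1358487 edges_7_108 v (by omega) (by omega)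
          · rcases Nat.lt_or_ge v 1409920 with h | h
            · rcases Nat.lt_or_ge v 1392819 with h | h
              · exact edgesRangeS_spec iota B E 7 17196 1375623 edges_7_109 v (by omega) (by omega)
              · exact edgesRangeS_spec iota B E 7 17101 1392819 edges_7_110 v (by omega) (by omega)
            · rcases Nat.lt_or_ge v 1427044 with h | h
              · exact edgesRangeS_spec iota B E 7 17124 1409920 edges_7_111 v (by omega) (by omega)
              · exact edgesRangeS_spec iota B E 7 17179 1427044 edges_7_112 v (by omega) (by omega)
        · rcases Nat.lt_or_ge v 1509829 with h | h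
          · rcases Nat.lt_or_ge v 1478447 with h | h
            · rcases Nat.lt_or_ge v 1461325 with h | h
              · exact edgesRangeS_spec iota B E 7 17102 1444223 edges_7_113 v (by omega) (by omega)
              · exact edgesRangeS_spec iota B E 7 17122 1461325 edges_7_114 v (by omega) (by omega)
            · rcases Nat.lt_or_ge v 1495608 with h | h
              · exact edgesRangeS_spec iota B E 7 17161 1478447 edges_7_115 v (by omega) (by omega)
              · exact edgesRangeS_spec iota B E 7 14221 1495608 edges_7_116 v (by omega) (by omega)
          · rcases Nat.lt_or_ge v 1522714 with h | h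
            · rcases Nat.lt_or_ge v 1516286 with h | h
              · exact edgesRangeS_spec iota B E 7 6457 1509829 edges_7_117 v (by omega) (by omega)
              · exact edgesRangeS_spec iota B E 7 6428 1516286 edges_7_118 v (by omega) (by omega)
            · rcases Nat.lt_or_ge v 1529945 with h | h
              · exact edgesRangeS_spec iota B E 7 7231 1522714 edges_7_119 v (by omega) (by omega)
              · exact edgesRangeS_spec iota B E 7 9055 1529945 edges_7_120 v (by omega) (by omega)

theorem edgesx_8 : ∀ v, v < 1539000 → edgeOKS iota B E 8 v = true := by
  intro v hv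
  rcases Nat.lt_or_ge v 839981 with h | h
  · rcases Nat.lt_or_ge v 451183 with h | h
    · rcases Nat.lt_or_ge v 245443 with h | h
      · rcases Nat.lt_or_ge v 123904 with h | h
        · rcases Nat.lt_or_ge v 61100 with h | h
          · rcases Nat.lt_or_ge v 39853 with h | h
            · exact edgesRangeS_spec iota B E 8 39853 0 edges_8_0 v (by omega) (by omega)
            · exact edgesRangeS_spec iota B E 8 21247 39853 edges_8_1 v (by omega) (by omega)
          · rcases Nat.lt_or_ge v 82010 with h | h
            · exact edgesRangeS_spec iota B E 8 20910 61100 edges_8_2 v (by omega) (by omega)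
            · rcases Nat.lt_or_ge v 104152 with h | h
              · exact edgesRangeS_spec iota B E 8 22142 82010 edges_8_3 v (by omega) (by omega)
              · exact edgesRangeS_spec iota B E 8 19752 104152 edges_8_4 v (by omega) (by omega)
        · rcases Nat.lt_or_ge v 184067 with h | h
          · rcases Nat.lt_or_ge v 144115 with h | h
            · exact edgesRangeS_spec iota B E 8 20211 123904 edges_8_5 v (by omega) (by omega)
            · rcases Nat.lt_or_ge v 164073 with h | h
              · exact edgesRangeS_spec iota B E 8 19958 144115 edges_8_6 v (by omega) (by omega)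
              · exact edgesRangeS_spec iota B E 8 19994 164073 edges_8_7 v (by omega) (by omega)
          · rcases Nat.lt_or_ge v 204103 with h | h
            · exact edgesRangeS_spec iota B E 8 20036 184067 edges_8_8 v (by omega) (by omega)
            · rcases Nat.lt_or_ge v 224792 with h | h
              · exact edgesRangeS_spec iota B E 8 20689 204103 edges_8_9 v (by omega) (by omega)
              · exact edgesRangeS_spec iota B E 8 20651 224792 edges_8_10 v (by omega) (by omega)
      · rcases Nat.lt_or_ge v 340935 with h | h
        · rcases Nat.lt_or_ge v 284059 with h | h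
          · rcases Nat.lt_or_ge v 264671 with h | h
            · exact edgesRangeS_spec iota B E 8 19228 245443 edges_8_11 v (by omega) (by omega)
            · exact edgesRangeS_spec iota B E 8 19388 264671 edges_8_12 v (by omega) (by omega)
          · rcases Nat.lt_or_ge v 303188 with h | h
            · exact edgesRangeS_spec iota B E 8 19129 284059 edges_8_13 v (by omega) (by omega)
            · rcases Nat.lt_or_ge v 321748 with h | h
              · exact edgesRangeS_spec iota B E 8 18560 303188 edges_8_14 v (by omega) (by omega)
              · exact edgesRangeS_spec iota B E 8 19187 321748 edges_8_15 v (by omega) (by omega)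
        · rcases Nat.lt_or_ge v 397317 with h | h
          · rcases Nat.lt_or_ge v 360089 with h | h
            · exact edgesRangeS_spec iota B E 8 19154 340935 edges_8_16 v (by omega) (by omega)
            · rcases Nat.lt_or_ge v 378841 with h | h
              · exact edgesRangeS_spec iota B E 8 18752 360089 edges_8_17 v (by omega) (by omega)
              · exact edgesRangeS_spec iota B E 8 18476 378841 edges_8_18 v (by omega) (by omega)
          · rcases Nat.lt_or_ge v 415536 with h | h
            · exact edgesRangeS_spec iota B E 8 18219 397317 edges_8_19 v (by omega) (by omega)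
            · rcases Nat.lt_or_ge v 433434 with h | h
              · exact edgesRangeS_spec iota B E 8 17898 415536 edges_8_20 v (by omega) (by omega)
              · exact edgesRangeS_spec iota B E 8 17749 433434 edges_8_21 v (by omega) (by omega)
    · rcases Nat.lt_or_ge v 652650 with h | h
      · rcases Nat.lt_or_ge v 540065 with h | h
        · rcases Nat.lt_or_ge v 486106 with h | h
          · rcases Nat.lt_or_ge v 468771 with h | h
            · exact edgesRangeS_spec iota B E 8 17588 451183 edges_8_22 v (by omega) (by omega)
            · exact edgesRangeS_spec iota B E 8 17335 468771 edges_8_23 v (by omega) (by omega)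
          · rcases Nat.lt_or_ge v 503087 with h | h
            · exact edgesRangeS_spec iota B E 8 16981 486106 edges_8_24 v (by omega) (by omega)
            · rcases Nat.lt_or_ge v 520104 with h | h
              · exact edgesRangeS_spec iota B E 8 17017 503087 edges_8_25 v (by omega) (by omega)
              · exact edgesRangeS_spec iota B E 8 19961 520104 edges_8_26 v (by omega) (by omega)
        · rcases Nat.lt_or_ge v 598735 with h | h
          · rcases Nat.lt_or_ge v 560061 with h | h
            · exact edgesRangeS_spec iota B E 8 19996 540065 edges_8_27 v (by omega) (by omega)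
            · rcases Nat.lt_or_ge v 580043 with h | h
              · exact edgesRangeS_spec iota B E 8 19982 560061 edges_8_28 v (by omega) (by omega)
              · exact edgesRangeS_spec iota B E 8 18692 580043 edges_8_29 v (by omega) (by omega)
          · rcases Nat.lt_or_ge v 617157 with h | h
            · exact edgesRangeS_spec iota B E 8 18422 598735 edges_8_30 v (by omega) (by omega)
            · rcases Nat.lt_or_ge v 635304 with h | h
              · exact edgesRangeS_spec iota B E 8 18147 617157 edges_8_31 v (by omega) (by omega)
              · exact edgesRangeS_spec iota B E 8 17346 635304 edges_8_32 v (by omega) (by omega)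
      · rcases Nat.lt_or_ge v 738285 with h | h
        · rcases Nat.lt_or_ge v 686799 with h | h
          · rcases Nat.lt_or_ge v 669749 with h | h
            · exact edgesRangeS_spec iota B E 8 17099 652650 edges_8_33 v (by omega) (by omega)
            · exact edgesRangeS_spec iota B E 8 17050 669749 edges_8_34 v (by omega) (by omega)
          · rcases Nat.lt_or_ge v 703892 with h | h
            · exact edgesRangeS_spec iota B E 8 17093 686799 edges_8_35 v (by omega) (by omega)
            · rcases Nat.lt_or_ge v 720999 with h | h
              · exact edgesRangeS_spec iota B E 8 17107 703892 edges_8_36 v (by omega) (by omega)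
              · exact edgesRangeS_spec iota B E 8 17286 720999 edges_8_37 v (by omega) (by omega)
        · rcases Nat.lt_or_ge v 789390 with h | h
          · rcases Nat.lt_or_ge v 755430 with h | h
            · exact edgesRangeS_spec iota B E 8 17145 738285 edges_8_38 v (by omega) (by omega)
            · rcases Nat.lt_or_ge v 772473 with h | h
              · exact edgesRangeS_spec iota B E 8 17043 755430 edges_8_39 v (by omega) (by omega)
              · exact edgesRangeS_spec iota B E 8 16917 772473 edges_8_40 v (by omega) (by omega)
          · rcases Nat.lt_or_ge v 806318 with h | h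
            · exact edgesRangeS_spec iota B E 8 16928 789390 edges_8_41 v (by omega) (by omega)
            · rcases Nat.lt_or_ge v 823126 with h | h
              · exact edgesRangeS_spec iota B E 8 16808 806318 edges_8_42 v (by omega) (by omega)
              · exact edgesRangeS_spec iota B E 8 16855 823126 edges_8_43 v (by omega) (by omega)
  · rcases Nat.lt_or_ge v 1198377 with h | h
    · rcases Nat.lt_or_ge v 1021566 with h | h
      · rcases Nat.lt_or_ge v 923715 with h | h
        · rcases Nat.lt_or_ge v 873539 with h | h
          · rcases Nat.lt_or_ge v 856809 with h | h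
            · exact edgesRangeS_spec iota B E 8 16828 839981 edges_8_44 v (by omega) (by omega)
            · exact edgesRangeS_spec iota B E 8 16730 856809 edges_8_45 v (by omega) (by omega)
          · rcases Nat.lt_or_ge v 890289 with h | h
            · exact edgesRangeS_spec iota B E 8 16750 873539 edges_8_46 v (by omega) (by omega)
            · rcases Nat.lt_or_ge v 906981 with h | h
              · exact edgesRangeS_spec iota B E 8 16692 890289 edges_8_47 v (by omega) (by omega)
              · exact edgesRangeS_spec iota B E 8 16734 906981 edges_8_48 v (by omega) (by omega)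
        · rcases Nat.lt_or_ge v 972651 with h | h
          · rcases Nat.lt_or_ge v 940055 with h | h
            · exact edgesRangeS_spec iota B E 8 16340 923715 edges_8_49 v (by omega) (by omega)
            · rcases Nat.lt_or_ge v 956300 with h | h
              · exact edgesRangeS_spec iota B E 8 16245 940055 edges_8_50 v (by omega) (by omega)
              · exact edgesRangeS_spec iota B E 8 16351 956300 edges_8_51 v (by omega) (by omega)
          · rcases Nat.lt_or_ge v 988938 with h | h
            · exact edgesRangeS_spec iota B E 8 16287 972651 edges_8_52 v (by omega) (by omega)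
            · rcases Nat.lt_or_ge v 1005259 with h | h
              · exact edgesRangeS_spec iota B E 8 16321 988938 edges_8_53 v (by omega) (by omega)
              · exact edgesRangeS_spec iota B E 8 16307 1005259 edges_8_54 v (by omega) (by omega)
      · rcases Nat.lt_or_ge v 1102973 with h | h
        · rcases Nat.lt_or_ge v 1054048 with h | h
          · rcases Nat.lt_or_ge v 1037768 with h | h
            · exact edgesRangeS_spec iota B E 8 16202 1021566 edges_8_55 v (by omega) (by omega)
            · exact edgesRangeS_spec iota B E 8 16280 1037768 edges_8_56 v (by omega) (by omega)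
          · rcases Nat.lt_or_ge v 1070319 with h | h
            · exact edgesRangeS_spec iota B E 8 16271 1054048 edges_8_57 v (by omega) (by omega)
            · rcases Nat.lt_or_ge v 1086664 with h | h
              · exact edgesRangeS_spec iota B E 8 16345 1070319 edges_8_58 v (by omega) (by omega)
              · exact edgesRangeS_spec iota B E 8 16309 1086664 edges_8_59 v (by omega) (by omega)
        · rcases Nat.lt_or_ge v 1151236 with h | h
          · rcases Nat.lt_or_ge v 1119236 with h | h
            · exact edgesRangeS_spec iota B E 8 16263 1102973 edges_8_60 v (by omega) (by omega)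
            · rcases Nat.lt_or_ge v 1135356 with h | h
              · exact edgesRangeS_spec iota B E 8 16120 1119236 edges_8_61 v (by omega) (by omega)
              · exact edgesRangeS_spec iota B E 8 15880 1135356 edges_8_62 v (by omega) (by omega)
          · rcases Nat.lt_or_ge v 1166994 with h | h
            · exact edgesRangeS_spec iota B E 8 15758 1151236 edges_8_63 v (by omega) (by omega)
            · rcases Nat.lt_or_ge v 1182751 with h | h
              · exact edgesRangeS_spec iota B E 8 15757 1166994 edges_8_64 v (by omega) (by omega)
              · exact edgesRangeS_spec iota B E 8 15626 1182751 edges_8_65 v (by omega) (by omega)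
    · rcases Nat.lt_or_ge v 1371924 with h | h
      · rcases Nat.lt_or_ge v 1275908 with h | h
        · rcases Nat.lt_or_ge v 1229037 with h | h
          · rcases Nat.lt_or_ge v 1213823 with h | h
            · exact edgesRangeS_spec iota B E 8 15446 1198377 edges_8_66 v (by omega) (by omega)
            · exact edgesRangeS_spec iota B E 8 15214 1213823 edges_8_67 v (by omega) (by omega)
          · rcases Nat.lt_or_ge v 1244365 with h | h
            · exact edgesRangeS_spec iota B E 8 15328 1229037 edges_8_68 v (by omega) (by omega)
            · rcases Nat.lt_or_ge v 1259848 with h | h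
              · exact edgesRangeS_spec iota B E 8 15483 1244365 edges_8_69 v (by omega) (by omega)
              · exact edgesRangeS_spec iota B E 8 16060 1259848 edges_8_70 v (by omega) (by omega)
        · rcases Nat.lt_or_ge v 1323752 with h | h
          · rcases Nat.lt_or_ge v 1291864 with h | h
            · exact edgesRangeS_spec iota B E 8 15956 1275908 edges_8_71 v (by omega) (by omega)
            · rcases Nat.lt_or_ge v 1307879 with h | h
              · exact edgesRangeS_spec iota B E 8 16015 1291864 edges_8_72 v (by omega) (by omega)
              · exact edgesRangeS_spec iota B E 8 15873 1307879 edges_8_73 v (by omega) (by omega)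
          · rcases Nat.lt_or_ge v 1339873 with h | h
            · exact edgesRangeS_spec iota B E 8 16121 1323752 edges_8_74 v (by omega) (by omega)
            · rcases Nat.lt_or_ge v 1355853 with h | h
              · exact edgesRangeS_spec iota B E 8 15980 1339873 edges_8_75 v (by omega) (by omega)
              · exact edgesRangeS_spec iota B E 8 16071 1355853 edges_8_76 v (by omega) (by omega)
      · rcases Nat.lt_or_ge v 1451935 with h | h
        · rcases Nat.lt_or_ge v 1403930 with h | h
          · rcases Nat.lt_or_ge v 1388078 with h | h
            · exact edgesRangeS_spec iota B E 8 16154 1371924 edges_8_77 v (by omega) (by omega)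
            · exact edgesRangeS_spec iota B E 8 15852 1388078 edges_8_78 v (by omega) (by omega)
          · rcases Nat.lt_or_ge v 1419904 with h | h
            · exact edgesRangeS_spec iota B E 8 15974 1403930 edges_8_79 v (by omega) (by omega)
            · rcases Nat.lt_or_ge v 1435902 with h | h
              · exact edgesRangeS_spec iota B E 8 15998 1419904 edges_8_80 v (by omega) (by omega)
              · exact edgesRangeS_spec iota B E 8 16033 1435902 edges_8_81 v (by omega) (by omega)
        · rcases Nat.lt_or_ge v 1499840 with h | h
          · rcases Nat.lt_or_ge v 1467795 with h | h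
            · exact edgesRangeS_spec iota B E 8 15860 1451935 edges_8_82 v (by omega) (by omega)
            · rcases Nat.lt_or_ge v 1483810 with h | h
              · exact edgesRangeS_spec iota B E 8 16015 1467795 edges_8_83 v (by omega) (by omega)
              · exact edgesRangeS_spec iota B E 8 16030 1483810 edges_8_84 v (by omega) (by omega)
          · rcases Nat.lt_or_ge v 1516868 with h | h
            · exact edgesRangeS_spec iota B E 8 17028 1499840 edges_8_85 v (by omega) (by omega)
            · rcases Nat.lt_or_ge v 1532893 with h | h
              · exact edgesRangeS_spec iota B E 8 16025 1516868 edges_8_86 v (by omega) (by omega)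
              · exact edgesRangeS_spec iota B E 8 6107 1532893 edges_8_87 v (by omega) (by omega)

theorem tree_ok : ∀ v, 0 < v → v < 1539000 → E.D.par v < v ∧ E.D.gen v < E.D.k ∧ E.D.tgt (E.D.gen v) (E.D.par v) = v := by
  intro v h0 hv
  rcases Nat.lt_or_ge v 750001 with h | h
  · rcases Nat.lt_or_ge v 350001 with h | h
    · rcases Nat.lt_or_ge v 150001 with h | h
      · rcases Nat.lt_or_ge v 50001 with h | h
        · exact treeRange_spec E 50000 1 tree_0 v (by omega) (by omega)
        · rcases Nat.lt_or_ge v 100001 with h | h
          · exact treeRange_spec E 50000 50001 tree_1 v (by omega) (by omega)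
          · exact treeRange_spec E 50000 100001 tree_2 v (by omega) (by omega)
      · rcases Nat.lt_or_ge v 250001 with h | h
        · rcases Nat.lt_or_ge v 200001 with h | h
          · exact treeRange_spec E 50000 150001 tree_3 v (by omega) (by omega)
          · exact treeRange_spec E 50000 200001 tree_4 v (by omega) (by omega)
        · rcases Nat.lt_or_ge v 300001 with h | h
          · exact treeRange_spec E 50000 250001 tree_5 v (by omega) (by omega)
          · exact treeRange_spec E 50000 300001 tree_6 v (by omega) (by omega)
    · rcases Nat.lt_or_ge v 550001 with h | h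
      · rcases Nat.lt_or_ge v 450001 with h | h
        · rcases Nat.lt_or_ge v 400001 with h | h
          · exact treeRange_spec E 50000 350001 tree_7 v (by omega) (by omega)
          · exact treeRange_spec E 50000 400001 tree_8 v (by omega) (by omega)
        · rcases Nat.lt_or_ge v 500001 with h | h
          · exact treeRange_spec E 50000 450001 tree_9 v (by omega) (by omega)
          · exact treeRange_spec E 50000 500001 tree_10 v (by omega) (by omega)
      · rcases Nat.lt_or_ge v 650001 with h | h
        · rcases Nat.lt_or_ge v 600001 with h | h
          · exact treeRange_spec E 50000 550001 tree_11 v (by omega) (by omega)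
          · exact treeRange_spec E 50000 600001 tree_12 v (by omega) (by omega)
        · rcases Nat.lt_or_ge v 700001 with h | h
          · exact treeRange_spec E 50000 650001 tree_13 v (by omega) (by omega)
          · exact treeRange_spec E 50000 700001 tree_14 v (by omega) (by omega)
  · rcases Nat.lt_or_ge v 1150001 with h | h
    · rcases Nat.lt_or_ge v 950001 with h | h
      · rcases Nat.lt_or_ge v 850001 with h | h
        · rcases Nat.lt_or_ge v 800001 with h | h
          · exact treeRange_spec E 50000 750001 tree_15 v (by omega) (by omega)
          · exact treeRange_spec E 50000 800001 tree_16 v (by omega) (by omega)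
        · rcases Nat.lt_or_ge v 900001 with h | h
          · exact treeRange_spec E 50000 850001 tree_17 v (by omega) (by omega)
          · exact treeRange_spec E 50000 900001 tree_18 v (by omega) (by omega)
      · rcases Nat.lt_or_ge v 1050001 with h | h
        · rcases Nat.lt_or_ge v 1000001 with h | h
          · exact treeRange_spec E 50000 950001 tree_19 v (by omega) (by omega)
          · exact treeRange_spec E 50000 1000001 tree_20 v (by omega) (by omega)
        · rcases Nat.lt_or_ge v 1100001 with h | h
          · exact treeRange_spec E 50000 1050001 tree_21 v (by omega) (by omega)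
          · exact treeRange_spec E 50000 1100001 tree_22 v (by omega) (by omega)
    · rcases Nat.lt_or_ge v 1350001 with h | h
      · rcases Nat.lt_or_ge v 1250001 with h | h
        · rcases Nat.lt_or_ge v 1200001 with h | h
          · exact treeRange_spec E 50000 1150001 tree_23 v (by omega) (by omega)
          · exact treeRange_spec E 50000 1200001 tree_24 v (by omega) (by omega)
        · rcases Nat.lt_or_ge v 1300001 with h | h
          · exact treeRange_spec E 50000 1250001 tree_25 v (by omega) (by omega)
          · exact treeRange_spec E 50000 1300001 tree_26 v (by omega) (by omega)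
      · rcases Nat.lt_or_ge v 1450001 with h | h
        · rcases Nat.lt_or_ge v 1400001 with h | h
          · exact treeRange_spec E 50000 1350001 tree_27 v (by omega) (by omega)
          · exact treeRange_spec E 50000 1400001 tree_28 v (by omega) (by omega)
        · rcases Nat.lt_or_ge v 1500001 with h | h
          · exact treeRange_spec E 50000 1450001 tree_29 v (by omega) (by omega)
          · exact treeRange_spec E 38999 1500001 tree_30 v (by omega) (by omega)

theorem sec_ok_1 : ∀ v, 1 < v → v < 1409 → 1 ≤ secF v % 2097152 ∧ secF v % 2097152 < v ∧ secF v / 2097152 < 5 ∧ E.rank (secF v / 2097152) (secF v % 2097152) < 38 ∧ E.D.tgt (secF v / 2097152) (secF v % 2097152) = v := by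
  intro v h0 hv
  exact secRange_spec E 5 38 1 secF 1407 2 sec_1_0 v (by omega) (by omega)

theorem sec_ok_2 : ∀ v, 1409 < v → v < 36609 → 1409 ≤ secF v % 2097152 ∧ secF v % 2097152 < v ∧ secF v / 2097152 < 5 ∧ E.rank (secF v / 2097152) (secF v % 2097152) < 36780 ∧ E.D.tgt (secF v / 2097152) (secF v % 2097152) = v := by
  intro v h0 hv
  exact secRange_spec E 5 36780 1409 secF 35199 1410 sec_2_0 v (by omega) (by omega)

theorem sec_ok_3 : ∀ v, 36609 < v → v < 38809 → 36609 ≤ secF v % 2097152 ∧ secF v % 2097152 < v ∧ secF v / 2097152 < 5 ∧ E.rank (secF v / 2097152) (secF v % 2097152) < 45182 ∧ E.D.tgt (secF v / 2097152) (secF v % 2097152) = v := by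
  intro v h0 hv
  exact secRange_spec E 5 45182 36609 secF 2199 36610 sec_3_0 v (by omega) (by omega)

theorem sec_ok_4 : ∀ v, 38809 < v → v < 162009 → 38809 ≤ secF v % 2097152 ∧ secF v % 2097152 < v ∧ secF v / 2097152 < 5 ∧ E.rank (secF v / 2097152) (secF v % 2097152) < 936340 ∧ E.D.tgt (secF v / 2097152) (secF v % 2097152) = v := by
  intro v h0 hv
  rcases Nat.lt_or_ge v 88810 with h | h
  · exact secRange_spec E 5 936340 38809 secF 50000 38810 sec_4_0 v (by omega) (by omega)
  · rcases Nat.lt_or_ge v 138810 with h | h
    · exact secRange_spec E 5 936340 38809 secF 50000 88810 sec_4_1 v (by omega) (by omega)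
    · exact secRange_spec E 5 936340 38809 secF 23199 138810 sec_4_2 v (by omega) (by omega)

theorem sec_ok_5 : ∀ v, 162009 < v → v < 516825 → 162009 ≤ secF v % 2097152 ∧ secF v % 2097152 < v ∧ secF v / 2097152 < 5 ∧ E.rank (secF v / 2097152) (secF v % 2097152) < 986742 ∧ E.D.tgt (secF v / 2097152) (secF v % 2097152) = v := by
  intro v h0 hv
  rcases Nat.lt_or_ge v 362010 with h | h
  · rcases Nat.lt_or_ge v 262010 with h | h
    · rcases Nat.lt_or_ge v 212010 with h | h
      · exact secRange_spec E 5 986742 162009 secF 50000 162010 sec_5_0 v (by omega) (by omega)
      · exact secRange_spec E 5 986742 162009 secF 50000 212010 sec_5_1 v (by omega) (by omega)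
    · rcases Nat.lt_or_ge v 312010 with h | h
      · exact secRange_spec E 5 986742 162009 secF 50000 262010 sec_5_2 v (by omega) (by omega)
      · exact secRange_spec E 5 986742 162009 secF 50000 312010 sec_5_3 v (by omega) (by omega)
  · rcases Nat.lt_or_ge v 462010 with h | h
    · rcases Nat.lt_or_ge v 412010 with h | h
      · exact secRange_spec E 5 986742 162009 secF 50000 362010 sec_5_4 v (by omega) (by omega)
      · exact secRange_spec E 5 986742 162009 secF 50000 412010 sec_5_5 v (by omega) (by omega)
    · rcases Nat.lt_or_ge v 512010 with h | h
      · exact secRange_spec E 5 986742 162009 secF 50000 462010 sec_5_6 v (by omega) (by omega)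
      · exact secRange_spec E 5 986742 162009 secF 4815 512010 sec_5_7 v (by omega) (by omega)

theorem sec_ok_6 : ∀ v, 516825 < v → v < 1256025 → 516825 ≤ secF v % 2097152 ∧ secF v % 2097152 < v ∧ secF v / 2097152 < 5 ∧ E.rank (secF v / 2097152) (secF v % 2097152) < 1490744 ∧ E.D.tgt (secF v / 2097152) (secF v % 2097152) = v := by
  intro v h0 hv
  rcases Nat.lt_or_ge v 866826 with h | h
  · rcases Nat.lt_or_ge v 666826 with h | h
    · rcases Nat.lt_or_ge v 566826 with h | h
      · exact secRange_spec E 5 1490744 516825 secF 50000 516826 sec_6_0 v (by omega) (by omega)
      · rcases Nat.lt_or_ge v 616826 with h | h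
        · exact secRange_spec E 5 1490744 516825 secF 50000 566826 sec_6_1 v (by omega) (by omega)
        · exact secRange_spec E 5 1490744 516825 secF 50000 616826 sec_6_2 v (by omega) (by omega)
    · rcases Nat.lt_or_ge v 766826 with h | h
      · rcases Nat.lt_or_ge v 716826 with h | h
        · exact secRange_spec E 5 1490744 516825 secF 50000 666826 sec_6_3 v (by omega) (by omega)
        · exact secRange_spec E 5 1490744 516825 secF 50000 716826 sec_6_4 v (by omega) (by omega)
      · rcases Nat.lt_or_ge v 816826 with h | h
        · exact secRange_spec E 5 1490744 516825 secF 50000 766826 sec_6_5 v (by omega) (by omega)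
        · exact secRange_spec E 5 1490744 516825 secF 50000 816826 sec_6_6 v (by omega) (by omega)
  · rcases Nat.lt_or_ge v 1066826 with h | h
    · rcases Nat.lt_or_ge v 966826 with h | h
      · rcases Nat.lt_or_ge v 916826 with h | h
        · exact secRange_spec E 5 1490744 516825 secF 50000 866826 sec_6_7 v (by omega) (by omega)
        · exact secRange_spec E 5 1490744 516825 secF 50000 916826 sec_6_8 v (by omega) (by omega)
      · rcases Nat.lt_or_ge v 1016826 with h | h
        · exact secRange_spec E 5 1490744 516825 secF 50000 966826 sec_6_9 v (by omega) (by omega)
        · exact secRange_spec E 5 1490744 516825 secF 50000 1016826 sec_6_10 v (by omega) (by omega)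
    · rcases Nat.lt_or_ge v 1166826 with h | h
      · rcases Nat.lt_or_ge v 1116826 with h | h
        · exact secRange_spec E 5 1490744 516825 secF 50000 1066826 sec_6_11 v (by omega) (by omega)
        · exact secRange_spec E 5 1490744 516825 secF 50000 1116826 sec_6_12 v (by omega) (by omega)
      · rcases Nat.lt_or_ge v 1216826 with h | h
        · exact secRange_spec E 5 1490744 516825 secF 50000 1166826 sec_6_13 v (by omega) (by omega)
        · exact secRange_spec E 5 1490744 516825 secF 39199 1216826 sec_6_14 v (by omega) (by omega)

theorem sec_ok_7 : ∀ v, 1256025 < v → v < 1533225 → 1256025 ≤ secF v % 2097152 ∧ secF v % 2097152 < v ∧ secF v / 2097152 < 5 ∧ E.rank (secF v / 2097152) (secF v % 2097152) < 7087246 ∧ E.D.tgt (secF v / 2097152) (secF v % 2097152) = v := by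
  intro v h0 hv
  rcases Nat.lt_or_ge v 1406026 with h | h
  · rcases Nat.lt_or_ge v 1306026 with h | h
    · exact secRange_spec E 5 7087246 1256025 secF 50000 1256026 sec_7_0 v (by omega) (by omega)
    · rcases Nat.lt_or_ge v 1356026 with h | h
      · exact secRange_spec E 5 7087246 1256025 secF 50000 1306026 sec_7_1 v (by omega) (by omega)
      · exact secRange_spec E 5 7087246 1256025 secF 50000 1356026 sec_7_2 v (by omega) (by omega)
  · rcases Nat.lt_or_ge v 1456026 with h | h
    · exact secRange_spec E 5 7087246 1256025 secF 50000 1406026 sec_7_3 v (by omega) (by omega)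
    · rcases Nat.lt_or_ge v 1506026 with h | h
      · exact secRange_spec E 5 7087246 1256025 secF 50000 1456026 sec_7_4 v (by omega) (by omega)
      · exact secRange_spec E 5 7087246 1256025 secF 27199 1506026 sec_7_5 v (by omega) (by omega)

theorem sec_ok_8 : ∀ v, 1533225 < v → v < 1539000 → 1533225 ≤ secF v % 2097152 ∧ secF v % 2097152 < v ∧ secF v / 2097152 < 5 ∧ E.rank (secF v / 2097152) (secF v % 2097152) < 7188048 ∧ E.D.tgt (secF v / 2097152) (secF v % 2097152) = v := by
  intro v h0 hv
  exact secRange_spec E 5 7188048 1533225 secF 5774 1533226 sec_8_0 v (by omega) (by omega)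

theorem relf_0 : ∀ v, v < 1539000 → W_0 v = v := by
  intro v hv
  rcases Nat.lt_or_ge v 799992 with h | h
  · rcases Nat.lt_or_ge v 399996 with h | h
    · rcases Nat.lt_or_ge v 199998 with h | h
      · rcases Nat.lt_or_ge v 66666 with h | h
        · exact fixPtsF_spec W_0 66666 0 relc_0_0 v (by omega) (by omega)
        · rcases Nat.lt_or_ge v 133332 with h | h
          · exact fixPtsF_spec W_0 66666 66666 relc_0_1 v (by omega) (by omega)
          · exact fixPtsF_spec W_0 66666 133332 relc_0_2 v (by omega) (by omega)
      · rcases Nat.lt_or_ge v 266664 with h | h
        · exact fixPtsF_spec W_0 66666 199998 relc_0_3 v (by omega) (by omega)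
        · rcases Nat.lt_or_ge v 333330 with h | h
          · exact fixPtsF_spec W_0 66666 266664 relc_0_4 v (by omega) (by omega)
          · exact fixPtsF_spec W_0 66666 333330 relc_0_5 v (by omega) (by omega)
    · rcases Nat.lt_or_ge v 599994 with h | h
      · rcases Nat.lt_or_ge v 466662 with h | h
        · exact fixPtsF_spec W_0 66666 399996 relc_0_6 v (by omega) (by omega)
        · rcases Nat.lt_or_ge v 533328 with h | h
          · exact fixPtsF_spec W_0 66666 466662 relc_0_7 v (by omega) (by omega)
          · exact fixPtsF_spec W_0 66666 533328 relc_0_8 v (by omega) (by omega)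
      · rcases Nat.lt_or_ge v 666660 with h | h
        · exact fixPtsF_spec W_0 66666 599994 relc_0_9 v (by omega) (by omega)
        · rcases Nat.lt_or_ge v 733326 with h | h
          · exact fixPtsF_spec W_0 66666 666660 relc_0_10 v (by omega) (by omega)
          · exact fixPtsF_spec W_0 66666 733326 relc_0_11 v (by omega) (by omega)
  · rcases Nat.lt_or_ge v 1199988 with h | h
    · rcases Nat.lt_or_ge v 999990 with h | h
      · rcases Nat.lt_or_ge v 866658 with h | h
        · exact fixPtsF_spec W_0 66666 799992 relc_0_12 v (by omega) (by omega)
        · rcases Nat.lt_or_ge v 933324 with h | h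
          · exact fixPtsF_spec W_0 66666 866658 relc_0_13 v (by omega) (by omega)
          · exact fixPtsF_spec W_0 66666 933324 relc_0_14 v (by omega) (by omega)
      · rcases Nat.lt_or_ge v 1066656 with h | h
        · exact fixPtsF_spec W_0 66666 999990 relc_0_15 v (by omega) (by omega)
        · rcases Nat.lt_or_ge v 1133322 with h | h
          · exact fixPtsF_spec W_0 66666 1066656 relc_0_16 v (by omega) (by omega)
          · exact fixPtsF_spec W_0 66666 1133322 relc_0_17 v (by omega) (by omega)
    · rcases Nat.lt_or_ge v 1399986 with h | h
      · rcases Nat.lt_or_ge v 1266654 with h | h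
        · exact fixPtsF_spec W_0 66666 1199988 relc_0_18 v (by omega) (by omega)
        · rcases Nat.lt_or_ge v 1333320 with h | h
          · exact fixPtsF_spec W_0 66666 1266654 relc_0_19 v (by omega) (by omega)
          · exact fixPtsF_spec W_0 66666 1333320 relc_0_20 v (by omega) (by omega)
      · rcases Nat.lt_or_ge v 1466652 with h | h
        · exact fixPtsF_spec W_0 66666 1399986 relc_0_21 v (by omega) (by omega)
        · rcases Nat.lt_or_ge v 1533318 with h | h
          · exact fixPtsF_spec W_0 66666 1466652 relc_0_22 v (by omega) (by omega)
          · exact fixPtsF_spec W_0 5682 1533318 relc_0_23 v (by omega) (by omega)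

set_option maxRecDepth 1000000 in
theorem walk_0 : ∀ v, walkT tgF (D.wlen 0) (D.wordP 0) v = W_0 v := by
  intro v
  simp only [W_0, forceL_eq]
  rfl

theorem relw_0 : ∀ v, v < 1539000 → walkT tgF (D.wlen 0) (D.wordP 0) v = v := by
  intro v hv
  rw [walk_0]
  exact relf_0 v hv

theorem relf_1 : ∀ v, v < 1539000 → W_1 v = v := by
  intro v hv
  rcases Nat.lt_or_ge v 799992 with h | h
  · rcases Nat.lt_or_ge v 399996 with h | h
    · rcases Nat.lt_or_ge v 199998 with h | h
      · rcases Nat.lt_or_ge v 66666 with h | h
        · exact fixPtsF_spec W_1 66666 0 relc_1_0 v (by omega) (by omega)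
        · rcases Nat.lt_or_ge v 133332 with h | h
          · exact fixPtsF_spec W_1 66666 66666 relc_1_1 v (by omega) (by omega)
          · exact fixPtsF_spec W_1 66666 133332 relc_1_2 v (by omega) (by omega)
      · rcases Nat.lt_or_ge v 266664 with h | h
        · exact fixPtsF_spec W_1 66666 199998 relc_1_3 v (by omega) (by omega)
        · rcases Nat.lt_or_ge v 333330 with h | h
          · exact fixPtsF_spec W_1 66666 266664 relc_1_4 v (by omega) (by omega)
          · exact fixPtsF_spec W_1 66666 333330 relc_1_5 v (by omega) (by omega)
    · rcases Nat.lt_or_ge v 599994 with h | h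
      · rcases Nat.lt_or_ge v 466662 with h | h
        · exact fixPtsF_spec W_1 66666 399996 relc_1_6 v (by omega) (by omega)
        · rcases Nat.lt_or_ge v 533328 with h | h
          · exact fixPtsF_spec W_1 66666 466662 relc_1_7 v (by omega) (by omega)
          · exact fixPtsF_spec W_1 66666 533328 relc_1_8 v (by omega) (by omega)
      · rcases Nat.lt_or_ge v 666660 with h | h
        · exact fixPtsF_spec W_1 66666 599994 relc_1_9 v (by omega) (by omega)
        · rcases Nat.lt_or_ge v 733326 with h | h
          · exact fixPtsF_spec W_1 66666 666660 relc_1_10 v (by omega) (by omega)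
          · exact fixPtsF_spec W_1 66666 733326 relc_1_11 v (by omega) (by omega)
  · rcases Nat.lt_or_ge v 1199988 with h | h
    · rcases Nat.lt_or_ge v 999990 with h | h
      · rcases Nat.lt_or_ge v 866658 with h | h
        · exact fixPtsF_spec W_1 66666 799992 relc_1_12 v (by omega) (by omega)
        · rcases Nat.lt_or_ge v 933324 with h | h
          · exact fixPtsF_spec W_1 66666 866658 relc_1_13 v (by omega) (by omega)
          · exact fixPtsF_spec W_1 66666 933324 relc_1_14 v (by omega) (by omega)
      · rcases Nat.lt_or_ge v 1066656 with h | h
        · exact fixPtsF_spec W_1 66666 999990 relc_1_15 v (by omega) (by omega)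
        · rcases Nat.lt_or_ge v 1133322 with h | h
          · exact fixPtsF_spec W_1 66666 1066656 relc_1_16 v (by omega) (by omega)
          · exact fixPtsF_spec W_1 66666 1133322 relc_1_17 v (by omega) (by omega)
    · rcases Nat.lt_or_ge v 1399986 with h | h
      · rcases Nat.lt_or_ge v 1266654 with h | h
        · exact fixPtsF_spec W_1 66666 1199988 relc_1_18 v (by omega) (by omega)
        · rcases Nat.lt_or_ge v 1333320 with h | h
          · exact fixPtsF_spec W_1 66666 1266654 relc_1_19 v (by omega) (by omega)
          · exact fixPtsF_spec W_1 66666 1333320 relc_1_20 v (by omega) (by omega)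
      · rcases Nat.lt_or_ge v 1466652 with h | h
        · exact fixPtsF_spec W_1 66666 1399986 relc_1_21 v (by omega) (by omega)
        · rcases Nat.lt_or_ge v 1533318 with h | h
          · exact fixPtsF_spec W_1 66666 1466652 relc_1_22 v (by omega) (by omega)
          · exact fixPtsF_spec W_1 5682 1533318 relc_1_23 v (by omega) (by omega)

set_option maxRecDepth 1000000 in
theorem walk_1 : ∀ v, walkT tgF (D.wlen 1) (D.wordP 1) v = W_1 v := by
  intro v
  simp only [W_1, forceL_eq]
  rfl

theorem relw_1 : ∀ v, v < 1539000 → walkT tgF (D.wlen 1) (D.wordP 1) v = v := by
  intro v hv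
  rw [walk_1]
  exact relf_1 v hv

theorem relf_2 : ∀ v, v < 1539000 → W_2 v = v := by
  intro v hv
  rcases Nat.lt_or_ge v 766659 with h | h
  · rcases Nat.lt_or_ge v 366663 with h | h
    · rcases Nat.lt_or_ge v 166665 with h | h
      · rcases Nat.lt_or_ge v 66666 with h | h
        · rcases Nat.lt_or_ge v 33333 with h | h
          · exact fixPtsF_spec W_2 33333 0 relc_2_0 v (by omega) (by omega)
          · exact fixPtsF_spec W_2 33333 33333 relc_2_1 v (by omega) (by omega)
        · rcases Nat.lt_or_ge v 99999 with h | h
          · exact fixPtsF_spec W_2 33333 66666 relc_2_2 v (by omega) (by omega)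
          · rcases Nat.lt_or_ge v 133332 with h | h
            · exact fixPtsF_spec W_2 33333 99999 relc_2_3 v (by omega) (by omega)
            · exact fixPtsF_spec W_2 33333 133332 relc_2_4 v (by omega) (by omega)
      · rcases Nat.lt_or_ge v 266664 with h | h
        · rcases Nat.lt_or_ge v 199998 with h | h
          · exact fixPtsF_spec W_2 33333 166665 relc_2_5 v (by omega) (by omega)
          · rcases Nat.lt_or_ge v 233331 with h | h
            · exact fixPtsF_spec W_2 33333 199998 relc_2_6 v (by omega) (by omega)
            · exact fixPtsF_spec W_2 33333 233331 relc_2_7 v (by omega) (by omega)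
        · rcases Nat.lt_or_ge v 299997 with h | h
          · exact fixPtsF_spec W_2 33333 266664 relc_2_8 v (by omega) (by omega)
          · rcases Nat.lt_or_ge v 333330 with h | h
            · exact fixPtsF_spec W_2 33333 299997 relc_2_9 v (by omega) (by omega)
            · exact fixPtsF_spec W_2 33333 333330 relc_2_10 v (by omega) (by omega)
    · rcases Nat.lt_or_ge v 566661 with h | h
      · rcases Nat.lt_or_ge v 466662 with h | h
        · rcases Nat.lt_or_ge v 399996 with h | h
          · exact fixPtsF_spec W_2 33333 366663 relc_2_11 v (by omega) (by omega)
          · rcases Nat.lt_or_ge v 433329 with h | h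
            · exact fixPtsF_spec W_2 33333 399996 relc_2_12 v (by omega) (by omega)
            · exact fixPtsF_spec W_2 33333 433329 relc_2_13 v (by omega) (by omega)
        · rcases Nat.lt_or_ge v 499995 with h | h
          · exact fixPtsF_spec W_2 33333 466662 relc_2_14 v (by omega) (by omega)
          · rcases Nat.lt_or_ge v 533328 with h | h
            · exact fixPtsF_spec W_2 33333 499995 relc_2_15 v (by omega) (by omega)
            · exact fixPtsF_spec W_2 33333 533328 relc_2_16 v (by omega) (by omega)
      · rcases Nat.lt_or_ge v 666660 with h | h
        · rcases Nat.lt_or_ge v 599994 with h | h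
          · exact fixPtsF_spec W_2 33333 566661 relc_2_17 v (by omega) (by omega)
          · rcases Nat.lt_or_ge v 633327 with h | h
            · exact fixPtsF_spec W_2 33333 599994 relc_2_18 v (by omega) (by omega)
            · exact fixPtsF_spec W_2 33333 633327 relc_2_19 v (by omega) (by omega)
        · rcases Nat.lt_or_ge v 699993 with h | h
          · exact fixPtsF_spec W_2 33333 666660 relc_2_20 v (by omega) (by omega)
          · rcases Nat.lt_or_ge v 733326 with h | h
            · exact fixPtsF_spec W_2 33333 699993 relc_2_21 v (by omega) (by omega)
            · exact fixPtsF_spec W_2 33333 733326 relc_2_22 v (by omega) (by omega)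
  · rcases Nat.lt_or_ge v 1166655 with h | h
    · rcases Nat.lt_or_ge v 966657 with h | h
      · rcases Nat.lt_or_ge v 866658 with h | h
        · rcases Nat.lt_or_ge v 799992 with h | h
          · exact fixPtsF_spec W_2 33333 766659 relc_2_23 v (by omega) (by omega)
          · rcases Nat.lt_or_ge v 833325 with h | h
            · exact fixPtsF_spec W_2 33333 799992 relc_2_24 v (by omega) (by omega)
            · exact fixPtsF_spec W_2 33333 833325 relc_2_25 v (by omega) (by omega)
        · rcases Nat.lt_or_ge v 899991 with h | h
          · exact fixPtsF_spec W_2 33333 866658 relc_2_26 v (by omega) (by omega)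
          · rcases Nat.lt_or_ge v 933324 with h | h
            · exact fixPtsF_spec W_2 33333 899991 relc_2_27 v (by omega) (by omega)
            · exact fixPtsF_spec W_2 33333 933324 relc_2_28 v (by omega) (by omega)
      · rcases Nat.lt_or_ge v 1066656 with h | h
        · rcases Nat.lt_or_ge v 999990 with h | h
          · exact fixPtsF_spec W_2 33333 966657 relc_2_29 v (by omega) (by omega)
          · rcases Nat.lt_or_ge v 1033323 with h | h
            · exact fixPtsF_spec W_2 33333 999990 relc_2_30 v (by omega) (by omega)
            · exact fixPtsF_spec W_2 33333 1033323 relc_2_31 v (by omega) (by omega)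
        · rcases Nat.lt_or_ge v 1099989 with h | h
          · exact fixPtsF_spec W_2 33333 1066656 relc_2_32 v (by omega) (by omega)
          · rcases Nat.lt_or_ge v 1133322 with h | h
            · exact fixPtsF_spec W_2 33333 1099989 relc_2_33 v (by omega) (by omega)
            · exact fixPtsF_spec W_2 33333 1133322 relc_2_34 v (by omega) (by omega)
    · rcases Nat.lt_or_ge v 1366653 with h | h
      · rcases Nat.lt_or_ge v 1266654 with h | h
        · rcases Nat.lt_or_ge v 1199988 with h | h
          · exact fixPtsF_spec W_2 33333 1166655 relc_2_35 v (by omega) (by omega)
          · rcases Nat.lt_or_ge v 1233321 with h | h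
            · exact fixPtsF_spec W_2 33333 1199988 relc_2_36 v (by omega) (by omega)
            · exact fixPtsF_spec W_2 33333 1233321 relc_2_37 v (by omega) (by omega)
        · rcases Nat.lt_or_ge v 1299987 with h | h
          · exact fixPtsF_spec W_2 33333 1266654 relc_2_38 v (by omega) (by omega)
          · rcases Nat.lt_or_ge v 1333320 with h | h
            · exact fixPtsF_spec W_2 33333 1299987 relc_2_39 v (by omega) (by omega)
            · exact fixPtsF_spec W_2 33333 1333320 relc_2_40 v (by omega) (by omega)
      · rcases Nat.lt_or_ge v 1466652 with h | h
        · rcases Nat.lt_or_ge v 1399986 with h | h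
          · exact fixPtsF_spec W_2 33333 1366653 relc_2_41 v (by omega) (by omega)
          · rcases Nat.lt_or_ge v 1433319 with h | h
            · exact fixPtsF_spec W_2 33333 1399986 relc_2_42 v (by omega) (by omega)
            · exact fixPtsF_spec W_2 33333 1433319 relc_2_43 v (by omega) (by omega)
        · rcases Nat.lt_or_ge v 1499985 with h | h
          · exact fixPtsF_spec W_2 33333 1466652 relc_2_44 v (by omega) (by omega)
          · rcases Nat.lt_or_ge v 1533318 with h | h
            · exact fixPtsF_spec W_2 33333 1499985 relc_2_45 v (by omega) (by omega)
            · exact fixPtsF_spec W_2 5682 1533318 relc_2_46 v (by omega) (by omega)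

set_option maxRecDepth 1000000 in
theorem walk_2 : ∀ v, walkT tgF (D.wlen 2) (D.wordP 2) v = W_2 v := by
  intro v
  simp only [W_2, forceL_eq]
  rfl

theorem relw_2 : ∀ v, v < 1539000 → walkT tgF (D.wlen 2) (D.wordP 2) v = v := by
  intro v hv
  rw [walk_2]
  exact relf_2 v hv

theorem relf_3 : ∀ v, v < 1539000 → W_3 v = v := by
  intro v hv
  rcases Nat.lt_or_ge v 761880 with h | h
  · rcases Nat.lt_or_ge v 380940 with h | h
    · rcases Nat.lt_or_ge v 190470 with h | h
      · rcases Nat.lt_or_ge v 95235 with h | h
        · rcases Nat.lt_or_ge v 38094 with h | h
          · rcases Nat.lt_or_ge v 19047 with h | h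
            · exact fixPtsF_spec W_3 19047 0 relc_3_0 v (by omega) (by omega)
            · exact fixPtsF_spec W_3 19047 19047 relc_3_1 v (by omega) (by omega)
          · rcases Nat.lt_or_ge v 57141 with h | h
            · exact fixPtsF_spec W_3 19047 38094 relc_3_2 v (by omega) (by omega)
            · rcases Nat.lt_or_ge v 76188 with h | h
              · exact fixPtsF_spec W_3 19047 57141 relc_3_3 v (by omega) (by omega)
              · exact fixPtsF_spec W_3 19047 76188 relc_3_4 v (by omega) (by omega)
        · rcases Nat.lt_or_ge v 133329 with h | h
          · rcases Nat.lt_or_ge v 114282 with h | h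
            · exact fixPtsF_spec W_3 19047 95235 relc_3_5 v (by omega) (by omega)
            · exact fixPtsF_spec W_3 19047 114282 relc_3_6 v (by omega) (by omega)
          · rcases Nat.lt_or_ge v 152376 with h | h
            · exact fixPtsF_spec W_3 19047 133329 relc_3_7 v (by omega) (by omega)
            · rcases Nat.lt_or_ge v 171423 with h | h
              · exact fixPtsF_spec W_3 19047 152376 relc_3_8 v (by omega) (by omega)
              · exact fixPtsF_spec W_3 19047 171423 relc_3_9 v (by omega) (by omega)
      · rcases Nat.lt_or_ge v 285705 with h | h
        · rcases Nat.lt_or_ge v 228564 with h | h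
          · rcases Nat.lt_or_ge v 209517 with h | h
            · exact fixPtsF_spec W_3 19047 190470 relc_3_10 v (by omega) (by omega)
            · exact fixPtsF_spec W_3 19047 209517 relc_3_11 v (by omega) (by omega)
          · rcases Nat.lt_or_ge v 247611 with h | h
            · exact fixPtsF_spec W_3 19047 228564 relc_3_12 v (by omega) (by omega)
            · rcases Nat.lt_or_ge v 266658 with h | h
              · exact fixPtsF_spec W_3 19047 247611 relc_3_13 v (by omega) (by omega)
              · exact fixPtsF_spec W_3 19047 266658 relc_3_14 v (by omega) (by omega)
        · rcases Nat.lt_or_ge v 323799 with h | h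
          · rcases Nat.lt_or_ge v 304752 with h | h
            · exact fixPtsF_spec W_3 19047 285705 relc_3_15 v (by omega) (by omega)
            · exact fixPtsF_spec W_3 19047 304752 relc_3_16 v (by omega) (by omega)
          · rcases Nat.lt_or_ge v 342846 with h | h
            · exact fixPtsF_spec W_3 19047 323799 relc_3_17 v (by omega) (by omega)
            · rcases Nat.lt_or_ge v 361893 with h | h
              · exact fixPtsF_spec W_3 19047 342846 relc_3_18 v (by omega) (by omega)
              · exact fixPtsF_spec W_3 19047 361893 relc_3_19 v (by omega) (by omega)
    · rcases Nat.lt_or_ge v 571410 with h | h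
      · rcases Nat.lt_or_ge v 476175 with h | h
        · rcases Nat.lt_or_ge v 419034 with h | h
          · rcases Nat.lt_or_ge v 399987 with h | h
            · exact fixPtsF_spec W_3 19047 380940 relc_3_20 v (by omega) (by omega)
            · exact fixPtsF_spec W_3 19047 399987 relc_3_21 v (by omega) (by omega)
          · rcases Nat.lt_or_ge v 438081 with h | h
            · exact fixPtsF_spec W_3 19047 419034 relc_3_22 v (by omega) (by omega)
            · rcases Nat.lt_or_ge v 457128 with h | h
              · exact fixPtsF_spec W_3 19047 438081 relc_3_23 v (by omega) (by omega)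
              · exact fixPtsF_spec W_3 19047 457128 relc_3_24 v (by omega) (by omega)
        · rcases Nat.lt_or_ge v 514269 with h | h
          · rcases Nat.lt_or_ge v 495222 with h | h
            · exact fixPtsF_spec W_3 19047 476175 relc_3_25 v (by omega) (by omega)
            · exact fixPtsF_spec W_3 19047 495222 relc_3_26 v (by omega) (by omega)
          · rcases Nat.lt_or_ge v 533316 with h | h
            · exact fixPtsF_spec W_3 19047 514269 relc_3_27 v (by omega) (by omega)
            · rcases Nat.lt_or_ge v 552363 with h | h
              · exact fixPtsF_spec W_3 19047 533316 relc_3_28 v (by omega) (by omega)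
              · exact fixPtsF_spec W_3 19047 552363 relc_3_29 v (by omega) (by omega)
      · rcases Nat.lt_or_ge v 666645 with h | h
        · rcases Nat.lt_or_ge v 609504 with h | h
          · rcases Nat.lt_or_ge v 590457 with h | h
            · exact fixPtsF_spec W_3 19047 571410 relc_3_30 v (by omega) (by omega)
            · exact fixPtsF_spec W_3 19047 590457 relc_3_31 v (by omega) (by omega)
          · rcases Nat.lt_or_ge v 628551 with h | h
            · exact fixPtsF_spec W_3 19047 609504 relc_3_32 v (by omega) (by omega)
            · rcases Nat.lt_or_ge v 647598 with h | h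
              · exact fixPtsF_spec W_3 19047 628551 relc_3_33 v (by omega) (by omega)
              · exact fixPtsF_spec W_3 19047 647598 relc_3_34 v (by omega) (by omega)
        · rcases Nat.lt_or_ge v 704739 with h | h
          · rcases Nat.lt_or_ge v 685692 with h | h
            · exact fixPtsF_spec W_3 19047 666645 relc_3_35 v (by omega) (by omega)
            · exact fixPtsF_spec W_3 19047 685692 relc_3_36 v (by omega) (by omega)
          · rcases Nat.lt_or_ge v 723786 with h | h
            · exact fixPtsF_spec W_3 19047 704739 relc_3_37 v (by omega) (by omega)
            · rcases Nat.lt_or_ge v 742833 with h | h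
              · exact fixPtsF_spec W_3 19047 723786 relc_3_38 v (by omega) (by omega)
              · exact fixPtsF_spec W_3 19047 742833 relc_3_39 v (by omega) (by omega)
  · rcases Nat.lt_or_ge v 1142820 with h | h
    · rcases Nat.lt_or_ge v 952350 with h | h
      · rcases Nat.lt_or_ge v 857115 with h | h
        · rcases Nat.lt_or_ge v 799974 with h | h
          · rcases Nat.lt_or_ge v 780927 with h | h
            · exact fixPtsF_spec W_3 19047 761880 relc_3_40 v (by omega) (by omega)
            · exact fixPtsF_spec W_3 19047 780927 relc_3_41 v (by omega) (by omega)
          · rcases Nat.lt_or_ge v 819021 with h | h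
            · exact fixPtsF_spec W_3 19047 799974 relc_3_42 v (by omega) (by omega)
            · rcases Nat.lt_or_ge v 838068 with h | h
              · exact fixPtsF_spec W_3 19047 819021 relc_3_43 v (by omega) (by omega)
              · exact fixPtsF_spec W_3 19047 838068 relc_3_44 v (by omega) (by omega)
        · rcases Nat.lt_or_ge v 895209 with h | h
          · rcases Nat.lt_or_ge v 876162 with h | h
            · exact fixPtsF_spec W_3 19047 857115 relc_3_45 v (by omega) (by omega)
            · exact fixPtsF_spec W_3 19047 876162 relc_3_46 v (by omega) (by omega)
          · rcases Nat.lt_or_ge v 914256 with h | h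
            · exact fixPtsF_spec W_3 19047 895209 relc_3_47 v (by omega) (by omega)
            · rcases Nat.lt_or_ge v 933303 with h | h
              · exact fixPtsF_spec W_3 19047 914256 relc_3_48 v (by omega) (by omega)
              · exact fixPtsF_spec W_3 19047 933303 relc_3_49 v (by omega) (by omega)
      · rcases Nat.lt_or_ge v 1047585 with h | h
        · rcases Nat.lt_or_ge v 990444 with h | h
          · rcases Nat.lt_or_ge v 971397 with h | h
            · exact fixPtsF_spec W_3 19047 952350 relc_3_50 v (by omega) (by omega)
            · exact fixPtsF_spec W_3 19047 971397 relc_3_51 v (by omega) (by omega)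
          · rcases Nat.lt_or_ge v 1009491 with h | h
            · exact fixPtsF_spec W_3 19047 990444 relc_3_52 v (by omega) (by omega)
            · rcases Nat.lt_or_ge v 1028538 with h | h
              · exact fixPtsF_spec W_3 19047 1009491 relc_3_53 v (by omega) (by omega)
              · exact fixPtsF_spec W_3 19047 1028538 relc_3_54 v (by omega) (by omega)
        · rcases Nat.lt_or_ge v 1085679 with h | h
          · rcases Nat.lt_or_ge v 1066632 with h | h
            · exact fixPtsF_spec W_3 19047 1047585 relc_3_55 v (by omega) (by omega)
            · exact fixPtsF_spec W_3 19047 1066632 relc_3_56 v (by omega) (by omega)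
          · rcases Nat.lt_or_ge v 1104726 with h | h
            · exact fixPtsF_spec W_3 19047 1085679 relc_3_57 v (by omega) (by omega)
            · rcases Nat.lt_or_ge v 1123773 with h | h
              · exact fixPtsF_spec W_3 19047 1104726 relc_3_58 v (by omega) (by omega)
              · exact fixPtsF_spec W_3 19047 1123773 relc_3_59 v (by omega) (by omega)
    · rcases Nat.lt_or_ge v 1333290 with h | h
      · rcases Nat.lt_or_ge v 1238055 with h | h
        · rcases Nat.lt_or_ge v 1180914 with h | h
          · rcases Nat.lt_or_ge v 1161867 with h | h
            · exact fixPtsF_spec W_3 19047 1142820 relc_3_60 v (by omega) (by omega)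
            · exact fixPtsF_spec W_3 19047 1161867 relc_3_61 v (by omega) (by omega)
          · rcases Nat.lt_or_ge v 1199961 with h | h
            · exact fixPtsF_spec W_3 19047 1180914 relc_3_62 v (by omega) (by omega)
            · rcases Nat.lt_or_ge v 1219008 with h | h
              · exact fixPtsF_spec W_3 19047 1199961 relc_3_63 v (by omega) (by omega)
              · exact fixPtsF_spec W_3 19047 1219008 relc_3_64 v (by omega) (by omega)
        · rcases Nat.lt_or_ge v 1276149 with h | h
          · rcases Nat.lt_or_ge v 1257102 with h | h
            · exact fixPtsF_spec W_3 19047 1238055 relc_3_65 v (by omega) (by omega)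
            · exact fixPtsF_spec W_3 19047 1257102 relc_3_66 v (by omega) (by omega)
          · rcases Nat.lt_or_ge v 1295196 with h | h
            · exact fixPtsF_spec W_3 19047 1276149 relc_3_67 v (by omega) (by omega)
            · rcases Nat.lt_or_ge v 1314243 with h | h
              · exact fixPtsF_spec W_3 19047 1295196 relc_3_68 v (by omega) (by omega)
              · exact fixPtsF_spec W_3 19047 1314243 relc_3_69 v (by omega) (by omega)
      · rcases Nat.lt_or_ge v 1428525 with h | h
        · rcases Nat.lt_or_ge v 1371384 with h | h
          · rcases Nat.lt_or_ge v 1352337 with h | h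
            · exact fixPtsF_spec W_3 19047 1333290 relc_3_70 v (by omega) (by omega)
            · exact fixPtsF_spec W_3 19047 1352337 relc_3_71 v (by omega) (by omega)
          · rcases Nat.lt_or_ge v 1390431 with h | h
            · exact fixPtsF_spec W_3 19047 1371384 relc_3_72 v (by omega) (by omega)
            · rcases Nat.lt_or_ge v 1409478 with h | h
              · exact fixPtsF_spec W_3 19047 1390431 relc_3_73 v (by omega) (by omega)
              · exact fixPtsF_spec W_3 19047 1409478 relc_3_74 v (by omega) (by omega)
        · rcases Nat.lt_or_ge v 1485666 with h | h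
          · rcases Nat.lt_or_ge v 1447572 with h | h
            · exact fixPtsF_spec W_3 19047 1428525 relc_3_75 v (by omega) (by omega)
            · rcases Nat.lt_or_ge v 1466619 with h | h
              · exact fixPtsF_spec W_3 19047 1447572 relc_3_76 v (by omega) (by omega)
              · exact fixPtsF_spec W_3 19047 1466619 relc_3_77 v (by omega) (by omega)
          · rcases Nat.lt_or_ge v 1504713 with h | h
            · exact fixPtsF_spec W_3 19047 1485666 relc_3_78 v (by omega) (by omega)
            · rcases Nat.lt_or_ge v 1523760 with h | h
              · exact fixPtsF_spec W_3 19047 1504713 relc_3_79 v (by omega) (by omega)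
              · exact fixPtsF_spec W_3 15240 1523760 relc_3_80 v (by omega) (by omega)

set_option maxRecDepth 1000000 in
theorem walk_3 : ∀ v, walkT tgF (D.wlen 3) (D.wordP 3) v = W_3 v := by
  intro v
  simp only [W_3, forceL_eq]
  rfl

theorem relw_3 : ∀ v, v < 1539000 → walkT tgF (D.wlen 3) (D.wordP 3) v = v := by
  intro v hv
  rw [walk_3]
  exact relf_3 v hv

theorem relf_4 : ∀ v, v < 1539000 → W_4 v = v := by
  intro v hv
  rcases Nat.lt_or_ge v 775000 with h | h
  · rcases Nat.lt_or_ge v 375000 with h | h
    · rcases Nat.lt_or_ge v 175000 with h | h
      · rcases Nat.lt_or_ge v 75000 with h | h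
        · rcases Nat.lt_or_ge v 25000 with h | h
          · exact fixPtsF_spec W_4 25000 0 relc_4_0 v (by omega) (by omega)
          · rcases Nat.lt_or_ge v 50000 with h | h
            · exact fixPtsF_spec W_4 25000 25000 relc_4_1 v (by omega) (by omega)
            · exact fixPtsF_spec W_4 25000 50000 relc_4_2 v (by omega) (by omega)
        · rcases Nat.lt_or_ge v 125000 with h | h
          · rcases Nat.lt_or_ge v 100000 with h | h
            · exact fixPtsF_spec W_4 25000 75000 relc_4_3 v (by omega) (by omega)
            · exact fixPtsF_spec W_4 25000 100000 relc_4_4 v (by omega) (by omega)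
          · rcases Nat.lt_or_ge v 150000 with h | h
            · exact fixPtsF_spec W_4 25000 125000 relc_4_5 v (by omega) (by omega)
            · exact fixPtsF_spec W_4 25000 150000 relc_4_6 v (by omega) (by omega)
      · rcases Nat.lt_or_ge v 275000 with h | h
        · rcases Nat.lt_or_ge v 225000 with h | h
          · rcases Nat.lt_or_ge v 200000 with h | h
            · exact fixPtsF_spec W_4 25000 175000 relc_4_7 v (by omega) (by omega)
            · exact fixPtsF_spec W_4 25000 200000 relc_4_8 v (by omega) (by omega)
          · rcases Nat.lt_or_ge v 250000 with h | h
            · exact fixPtsF_spec W_4 25000 225000 relc_4_9 v (by omega) (by omega)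
            · exact fixPtsF_spec W_4 25000 250000 relc_4_10 v (by omega) (by omega)
        · rcases Nat.lt_or_ge v 325000 with h | h
          · rcases Nat.lt_or_ge v 300000 with h | h
            · exact fixPtsF_spec W_4 25000 275000 relc_4_11 v (by omega) (by omega)
            · exact fixPtsF_spec W_4 25000 300000 relc_4_12 v (by omega) (by omega)
          · rcases Nat.lt_or_ge v 350000 with h | h
            · exact fixPtsF_spec W_4 25000 325000 relc_4_13 v (by omega) (by omega)
            · exact fixPtsF_spec W_4 25000 350000 relc_4_14 v (by omega) (by omega)
    · rcases Nat.lt_or_ge v 575000 with h | h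
      · rcases Nat.lt_or_ge v 475000 with h | h
        · rcases Nat.lt_or_ge v 425000 with h | h
          · rcases Nat.lt_or_ge v 400000 with h | h
            · exact fixPtsF_spec W_4 25000 375000 relc_4_15 v (by omega) (by omega)
            · exact fixPtsF_spec W_4 25000 400000 relc_4_16 v (by omega) (by omega)
          · rcases Nat.lt_or_ge v 450000 with h | h
            · exact fixPtsF_spec W_4 25000 425000 relc_4_17 v (by omega) (by omega)
            · exact fixPtsF_spec W_4 25000 450000 relc_4_18 v (by omega) (by omega)
        · rcases Nat.lt_or_ge v 525000 with h | h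
          · rcases Nat.lt_or_ge v 500000 with h | h
            · exact fixPtsF_spec W_4 25000 475000 relc_4_19 v (by omega) (by omega)
            · exact fixPtsF_spec W_4 25000 500000 relc_4_20 v (by omega) (by omega)
          · rcases Nat.lt_or_ge v 550000 with h | h
            · exact fixPtsF_spec W_4 25000 525000 relc_4_21 v (by omega) (by omega)
            · exact fixPtsF_spec W_4 25000 550000 relc_4_22 v (by omega) (by omega)
      · rcases Nat.lt_or_ge v 675000 with h | h
        · rcases Nat.lt_or_ge v 625000 with h | h
          · rcases Nat.lt_or_ge v 600000 with h | h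
            · exact fixPtsF_spec W_4 25000 575000 relc_4_23 v (by omega) (by omega)
            · exact fixPtsF_spec W_4 25000 600000 relc_4_24 v (by omega) (by omega)
          · rcases Nat.lt_or_ge v 650000 with h | h
            · exact fixPtsF_spec W_4 25000 625000 relc_4_25 v (by omega) (by omega)
            · exact fixPtsF_spec W_4 25000 650000 relc_4_26 v (by omega) (by omega)
        · rcases Nat.lt_or_ge v 725000 with h | h
          · rcases Nat.lt_or_ge v 700000 with h | h
            · exact fixPtsF_spec W_4 25000 675000 relc_4_27 v (by omega) (by omega)
            · exact fixPtsF_spec W_4 25000 700000 relc_4_28 v (by omega) (by omega)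
          · rcases Nat.lt_or_ge v 750000 with h | h
            · exact fixPtsF_spec W_4 25000 725000 relc_4_29 v (by omega) (by omega)
            · exact fixPtsF_spec W_4 25000 750000 relc_4_30 v (by omega) (by omega)
  · rcases Nat.lt_or_ge v 1150000 with h | h
    · rcases Nat.lt_or_ge v 950000 with h | h
      · rcases Nat.lt_or_ge v 850000 with h | h
        · rcases Nat.lt_or_ge v 800000 with h | h
          · exact fixPtsF_spec W_4 25000 775000 relc_4_31 v (by omega) (by omega)
          · rcases Nat.lt_or_ge v 825000 with h | h
            · exact fixPtsF_spec W_4 25000 800000 relc_4_32 v (by omega) (by omega)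
            · exact fixPtsF_spec W_4 25000 825000 relc_4_33 v (by omega) (by omega)
        · rcases Nat.lt_or_ge v 900000 with h | h
          · rcases Nat.lt_or_ge v 875000 with h | h
            · exact fixPtsF_spec W_4 25000 850000 relc_4_34 v (by omega) (by omega)
            · exact fixPtsF_spec W_4 25000 875000 relc_4_35 v (by omega) (by omega)
          · rcases Nat.lt_or_ge v 925000 with h | h
            · exact fixPtsF_spec W_4 25000 900000 relc_4_36 v (by omega) (by omega)
            · exact fixPtsF_spec W_4 25000 925000 relc_4_37 v (by omega) (by omega)
      · rcases Nat.lt_or_ge v 1050000 with h | h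
        · rcases Nat.lt_or_ge v 1000000 with h | h
          · rcases Nat.lt_or_ge v 975000 with h | h
            · exact fixPtsF_spec W_4 25000 950000 relc_4_38 v (by omega) (by omega)
            · exact fixPtsF_spec W_4 25000 975000 relc_4_39 v (by omega) (by omega)
          · rcases Nat.lt_or_ge v 1025000 with h | h
            · exact fixPtsF_spec W_4 25000 1000000 relc_4_40 v (by omega) (by omega)
            · exact fixPtsF_spec W_4 25000 1025000 relc_4_41 v (by omega) (by omega)
        · rcases Nat.lt_or_ge v 1100000 with h | h
          · rcases Nat.lt_or_ge v 1075000 with h | h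
            · exact fixPtsF_spec W_4 25000 1050000 relc_4_42 v (by omega) (by omega)
            · exact fixPtsF_spec W_4 25000 1075000 relc_4_43 v (by omega) (by omega)
          · rcases Nat.lt_or_ge v 1125000 with h | h
            · exact fixPtsF_spec W_4 25000 1100000 relc_4_44 v (by omega) (by omega)
            · exact fixPtsF_spec W_4 25000 1125000 relc_4_45 v (by omega) (by omega)
    · rcases Nat.lt_or_ge v 1350000 with h | h
      · rcases Nat.lt_or_ge v 1250000 with h | h
        · rcases Nat.lt_or_ge v 1200000 with h | h
          · rcases Nat.lt_or_ge v 1175000 with h | h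
            · exact fixPtsF_spec W_4 25000 1150000 relc_4_46 v (by omega) (by omega)
            · exact fixPtsF_spec W_4 25000 1175000 relc_4_47 v (by omega) (by omega)
          · rcases Nat.lt_or_ge v 1225000 with h | h
            · exact fixPtsF_spec W_4 25000 1200000 relc_4_48 v (by omega) (by omega)
            · exact fixPtsF_spec W_4 25000 1225000 relc_4_49 v (by omega) (by omega)
        · rcases Nat.lt_or_ge v 1300000 with h | h
          · rcases Nat.lt_or_ge v 1275000 with h | h
            · exact fixPtsF_spec W_4 25000 1250000 relc_4_50 v (by omega) (by omega)
            · exact fixPtsF_spec W_4 25000 1275000 relc_4_51 v (by omega) (by omega)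
          · rcases Nat.lt_or_ge v 1325000 with h | h
            · exact fixPtsF_spec W_4 25000 1300000 relc_4_52 v (by omega) (by omega)
            · exact fixPtsF_spec W_4 25000 1325000 relc_4_53 v (by omega) (by omega)
      · rcases Nat.lt_or_ge v 1450000 with h | h
        · rcases Nat.lt_or_ge v 1400000 with h | h
          · rcases Nat.lt_or_ge v 1375000 with h | h
            · exact fixPtsF_spec W_4 25000 1350000 relc_4_54 v (by omega) (by omega)
            · exact fixPtsF_spec W_4 25000 1375000 relc_4_55 v (by omega) (by omega)
          · rcases Nat.lt_or_ge v 1425000 with h | h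
            · exact fixPtsF_spec W_4 25000 1400000 relc_4_56 v (by omega) (by omega)
            · exact fixPtsF_spec W_4 25000 1425000 relc_4_57 v (by omega) (by omega)
        · rcases Nat.lt_or_ge v 1500000 with h | h
          · rcases Nat.lt_or_ge v 1475000 with h | h
            · exact fixPtsF_spec W_4 25000 1450000 relc_4_58 v (by omega) (by omega)
            · exact fixPtsF_spec W_4 25000 1475000 relc_4_59 v (by omega) (by omega)
          · rcases Nat.lt_or_ge v 1525000 with h | h
            · exact fixPtsF_spec W_4 25000 1500000 relc_4_60 v (by omega) (by omega)
            · exact fixPtsF_spec W_4 14000 1525000 relc_4_61 v (by omega) (by omega)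

set_option maxRecDepth 1000000 in
theorem walk_4 : ∀ v, walkT tgF (D.wlen 4) (D.wordP 4) v = W_4 v := by
  intro v
  simp only [W_4, forceL_eq]
  rfl

theorem relw_4 : ∀ v, v < 1539000 → walkT tgF (D.wlen 4) (D.wordP 4) v = v := by
  intro v hv
  rw [walk_4]
  exact relf_4 v hv

theorem relf_5 : ∀ v, v < 1539000 → W_5 v = v := by
  intro v hv
  rcases Nat.lt_or_ge v 766636 with h | h
  · rcases Nat.lt_or_ge v 383318 with h | h
    · rcases Nat.lt_or_ge v 183326 with h | h
      · rcases Nat.lt_or_ge v 83330 with h | h
        · rcases Nat.lt_or_ge v 33332 with h | h
          · rcases Nat.lt_or_ge v 16666 with h | h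
            · exact fixPtsF_spec W_5 16666 0 relc_5_0 v (by omega) (by omega)
            · exact fixPtsF_spec W_5 16666 16666 relc_5_1 v (by omega) (by omega)
          · rcases Nat.lt_or_ge v 49998 with h | h
            · exact fixPtsF_spec W_5 16666 33332 relc_5_2 v (by omega) (by omega)
            · rcases Nat.lt_or_ge v 66664 with h | h
              · exact fixPtsF_spec W_5 16666 49998 relc_5_3 v (by omega) (by omega)
              · exact fixPtsF_spec W_5 16666 66664 relc_5_4 v (by omega) (by omega)
        · rcases Nat.lt_or_ge v 133328 with h | h
          · rcases Nat.lt_or_ge v 99996 with h | h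
            · exact fixPtsF_spec W_5 16666 83330 relc_5_5 v (by omega) (by omega)
            · rcases Nat.lt_or_ge v 116662 with h | h
              · exact fixPtsF_spec W_5 16666 99996 relc_5_6 v (by omega) (by omega)
              · exact fixPtsF_spec W_5 16666 116662 relc_5_7 v (by omega) (by omega)
          · rcases Nat.lt_or_ge v 149994 with h | h
            · exact fixPtsF_spec W_5 16666 133328 relc_5_8 v (by omega) (by omega)
            · rcases Nat.lt_or_ge v 166660 with h | h
              · exact fixPtsF_spec W_5 16666 149994 relc_5_9 v (by omega) (by omega)
              · exact fixPtsF_spec W_5 16666 166660 relc_5_10 v (by omega) (by omega)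
      · rcases Nat.lt_or_ge v 283322 with h | h
        · rcases Nat.lt_or_ge v 233324 with h | h
          · rcases Nat.lt_or_ge v 199992 with h | h
            · exact fixPtsF_spec W_5 16666 183326 relc_5_11 v (by omega) (by omega)
            · rcases Nat.lt_or_ge v 216658 with h | h
              · exact fixPtsF_spec W_5 16666 199992 relc_5_12 v (by omega) (by omega)
              · exact fixPtsF_spec W_5 16666 216658 relc_5_13 v (by omega) (by omega)
          · rcases Nat.lt_or_ge v 249990 with h | h
            · exact fixPtsF_spec W_5 16666 233324 relc_5_14 v (by omega) (by omega)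
            · rcases Nat.lt_or_ge v 266656 with h | h
              · exact fixPtsF_spec W_5 16666 249990 relc_5_15 v (by omega) (by omega)
              · exact fixPtsF_spec W_5 16666 266656 relc_5_16 v (by omega) (by omega)
        · rcases Nat.lt_or_ge v 333320 with h | h
          · rcases Nat.lt_or_ge v 299988 with h | h
            · exact fixPtsF_spec W_5 16666 283322 relc_5_17 v (by omega) (by omega)
            · rcases Nat.lt_or_ge v 316654 with h | h
              · exact fixPtsF_spec W_5 16666 299988 relc_5_18 v (by omega) (by omega)
              · exact fixPtsF_spec W_5 16666 316654 relc_5_19 v (by omega) (by omega)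
          · rcases Nat.lt_or_ge v 349986 with h | h
            · exact fixPtsF_spec W_5 16666 333320 relc_5_20 v (by omega) (by omega)
            · rcases Nat.lt_or_ge v 366652 with h | h
              · exact fixPtsF_spec W_5 16666 349986 relc_5_21 v (by omega) (by omega)
              · exact fixPtsF_spec W_5 16666 366652 relc_5_22 v (by omega) (by omega)
    · rcases Nat.lt_or_ge v 566644 with h | h
      · rcases Nat.lt_or_ge v 466648 with h | h
        · rcases Nat.lt_or_ge v 416650 with h | h
          · rcases Nat.lt_or_ge v 399984 with h | h
            · exact fixPtsF_spec W_5 16666 383318 relc_5_23 v (by omega) (by omega)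
            · exact fixPtsF_spec W_5 16666 399984 relc_5_24 v (by omega) (by omega)
          · rcases Nat.lt_or_ge v 433316 with h | h
            · exact fixPtsF_spec W_5 16666 416650 relc_5_25 v (by omega) (by omega)
            · rcases Nat.lt_or_ge v 449982 with h | h
              · exact fixPtsF_spec W_5 16666 433316 relc_5_26 v (by omega) (by omega)
              · exact fixPtsF_spec W_5 16666 449982 relc_5_27 v (by omega) (by omega)
        · rcases Nat.lt_or_ge v 516646 with h | h
          · rcases Nat.lt_or_ge v 483314 with h | h
            · exact fixPtsF_spec W_5 16666 466648 relc_5_28 v (by omega) (by omega)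
            · rcases Nat.lt_or_ge v 499980 with h | h
              · exact fixPtsF_spec W_5 16666 483314 relc_5_29 v (by omega) (by omega)
              · exact fixPtsF_spec W_5 16666 499980 relc_5_30 v (by omega) (by omega)
          · rcases Nat.lt_or_ge v 533312 with h | h
            · exact fixPtsF_spec W_5 16666 516646 relc_5_31 v (by omega) (by omega)
            · rcases Nat.lt_or_ge v 549978 with h | h
              · exact fixPtsF_spec W_5 16666 533312 relc_5_32 v (by omega) (by omega)
              · exact fixPtsF_spec W_5 16666 549978 relc_5_33 v (by omega) (by omega)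
      · rcases Nat.lt_or_ge v 666640 with h | h
        · rcases Nat.lt_or_ge v 616642 with h | h
          · rcases Nat.lt_or_ge v 583310 with h | h
            · exact fixPtsF_spec W_5 16666 566644 relc_5_34 v (by omega) (by omega)
            · rcases Nat.lt_or_ge v 599976 with h | h
              · exact fixPtsF_spec W_5 16666 583310 relc_5_35 v (by omega) (by omega)
              · exact fixPtsF_spec W_5 16666 599976 relc_5_36 v (by omega) (by omega)
          · rcases Nat.lt_or_ge v 633308 with h | h
            · exact fixPtsF_spec W_5 16666 616642 relc_5_37 v (by omega) (by omega)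
            · rcases Nat.lt_or_ge v 649974 with h | h
              · exact fixPtsF_spec W_5 16666 633308 relc_5_38 v (by omega) (by omega)
              · exact fixPtsF_spec W_5 16666 649974 relc_5_39 v (by omega) (by omega)
        · rcases Nat.lt_or_ge v 716638 with h | h
          · rcases Nat.lt_or_ge v 683306 with h | h
            · exact fixPtsF_spec W_5 16666 666640 relc_5_40 v (by omega) (by omega)
            · rcases Nat.lt_or_ge v 699972 with h | h
              · exact fixPtsF_spec W_5 16666 683306 relc_5_41 v (by omega) (by omega)
              · exact fixPtsF_spec W_5 16666 699972 relc_5_42 v (by omega) (by omega)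
          · rcases Nat.lt_or_ge v 733304 with h | h
            · exact fixPtsF_spec W_5 16666 716638 relc_5_43 v (by omega) (by omega)
            · rcases Nat.lt_or_ge v 749970 with h | h
              · exact fixPtsF_spec W_5 16666 733304 relc_5_44 v (by omega) (by omega)
              · exact fixPtsF_spec W_5 16666 749970 relc_5_45 v (by omega) (by omega)
  · rcases Nat.lt_or_ge v 1149954 with h | h
    · rcases Nat.lt_or_ge v 949962 with h | h
      · rcases Nat.lt_or_ge v 849966 with h | h
        · rcases Nat.lt_or_ge v 799968 with h | h
          · rcases Nat.lt_or_ge v 783302 with h | h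
            · exact fixPtsF_spec W_5 16666 766636 relc_5_46 v (by omega) (by omega)
            · exact fixPtsF_spec W_5 16666 783302 relc_5_47 v (by omega) (by omega)
          · rcases Nat.lt_or_ge v 816634 with h | h
            · exact fixPtsF_spec W_5 16666 799968 relc_5_48 v (by omega) (by omega)
            · rcases Nat.lt_or_ge v 833300 with h | h
              · exact fixPtsF_spec W_5 16666 816634 relc_5_49 v (by omega) (by omega)
              · exact fixPtsF_spec W_5 16666 833300 relc_5_50 v (by omega) (by omega)
        · rcases Nat.lt_or_ge v 899964 with h | h
          · rcases Nat.lt_or_ge v 866632 with h | h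
            · exact fixPtsF_spec W_5 16666 849966 relc_5_51 v (by omega) (by omega)
            · rcases Nat.lt_or_ge v 883298 with h | h
              · exact fixPtsF_spec W_5 16666 866632 relc_5_52 v (by omega) (by omega)
              · exact fixPtsF_spec W_5 16666 883298 relc_5_53 v (by omega) (by omega)
          · rcases Nat.lt_or_ge v 916630 with h | h
            · exact fixPtsF_spec W_5 16666 899964 relc_5_54 v (by omega) (by omega)
            · rcases Nat.lt_or_ge v 933296 with h | h
              · exact fixPtsF_spec W_5 16666 916630 relc_5_55 v (by omega) (by omega)
              · exact fixPtsF_spec W_5 16666 933296 relc_5_56 v (by omega) (by omega)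
      · rcases Nat.lt_or_ge v 1049958 with h | h
        · rcases Nat.lt_or_ge v 999960 with h | h
          · rcases Nat.lt_or_ge v 966628 with h | h
            · exact fixPtsF_spec W_5 16666 949962 relc_5_57 v (by omega) (by omega)
            · rcases Nat.lt_or_ge v 983294 with h | h
              · exact fixPtsF_spec W_5 16666 966628 relc_5_58 v (by omega) (by omega)
              · exact fixPtsF_spec W_5 16666 983294 relc_5_59 v (by omega) (by omega)
          · rcases Nat.lt_or_ge v 1016626 with h | h
            · exact fixPtsF_spec W_5 16666 999960 relc_5_60 v (by omega) (by omega)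
            · rcases Nat.lt_or_ge v 1033292 with h | h
              · exact fixPtsF_spec W_5 16666 1016626 relc_5_61 v (by omega) (by omega)
              · exact fixPtsF_spec W_5 16666 1033292 relc_5_62 v (by omega) (by omega)
        · rcases Nat.lt_or_ge v 1099956 with h | h
          · rcases Nat.lt_or_ge v 1066624 with h | h
            · exact fixPtsF_spec W_5 16666 1049958 relc_5_63 v (by omega) (by omega)
            · rcases Nat.lt_or_ge v 1083290 with h | h
              · exact fixPtsF_spec W_5 16666 1066624 relc_5_64 v (by omega) (by omega)
              · exact fixPtsF_spec W_5 16666 1083290 relc_5_65 v (by omega) (by omega)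
          · rcases Nat.lt_or_ge v 1116622 with h | h
            · exact fixPtsF_spec W_5 16666 1099956 relc_5_66 v (by omega) (by omega)
            · rcases Nat.lt_or_ge v 1133288 with h | h
              · exact fixPtsF_spec W_5 16666 1116622 relc_5_67 v (by omega) (by omega)
              · exact fixPtsF_spec W_5 16666 1133288 relc_5_68 v (by omega) (by omega)
    · rcases Nat.lt_or_ge v 1349946 with h | h
      · rcases Nat.lt_or_ge v 1249950 with h | h
        · rcases Nat.lt_or_ge v 1199952 with h | h
          · rcases Nat.lt_or_ge v 1166620 with h | h
            · exact fixPtsF_spec W_5 16666 1149954 relc_5_69 v (by omega) (by omega)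
            · rcases Nat.lt_or_ge v 1183286 with h | h
              · exact fixPtsF_spec W_5 16666 1166620 relc_5_70 v (by omega) (by omega)
              · exact fixPtsF_spec W_5 16666 1183286 relc_5_71 v (by omega) (by omega)
          · rcases Nat.lt_or_ge v 1216618 with h | h
            · exact fixPtsF_spec W_5 16666 1199952 relc_5_72 v (by omega) (by omega)
            · rcases Nat.lt_or_ge v 1233284 with h | h
              · exact fixPtsF_spec W_5 16666 1216618 relc_5_73 v (by omega) (by omega)
              · exact fixPtsF_spec W_5 16666 1233284 relc_5_74 v (by omega) (by omega)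
        · rcases Nat.lt_or_ge v 1299948 with h | h
          · rcases Nat.lt_or_ge v 1266616 with h | h
            · exact fixPtsF_spec W_5 16666 1249950 relc_5_75 v (by omega) (by omega)
            · rcases Nat.lt_or_ge v 1283282 with h | h
              · exact fixPtsF_spec W_5 16666 1266616 relc_5_76 v (by omega) (by omega)
              · exact fixPtsF_spec W_5 16666 1283282 relc_5_77 v (by omega) (by omega)
          · rcases Nat.lt_or_ge v 1316614 with h | h
            · exact fixPtsF_spec W_5 16666 1299948 relc_5_78 v (by omega) (by omega)
            · rcases Nat.lt_or_ge v 1333280 with h | h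
              · exact fixPtsF_spec W_5 16666 1316614 relc_5_79 v (by omega) (by omega)
              · exact fixPtsF_spec W_5 16666 1333280 relc_5_80 v (by omega) (by omega)
      · rcases Nat.lt_or_ge v 1449942 with h | h
        · rcases Nat.lt_or_ge v 1399944 with h | h
          · rcases Nat.lt_or_ge v 1366612 with h | h
            · exact fixPtsF_spec W_5 16666 1349946 relc_5_81 v (by omega) (by omega)
            · rcases Nat.lt_or_ge v 1383278 with h | h
              · exact fixPtsF_spec W_5 16666 1366612 relc_5_82 v (by omega) (by omega)
              · exact fixPtsF_spec W_5 16666 1383278 relc_5_83 v (by omega) (by omega)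
          · rcases Nat.lt_or_ge v 1416610 with h | h
            · exact fixPtsF_spec W_5 16666 1399944 relc_5_84 v (by omega) (by omega)
            · rcases Nat.lt_or_ge v 1433276 with h | h
              · exact fixPtsF_spec W_5 16666 1416610 relc_5_85 v (by omega) (by omega)
              · exact fixPtsF_spec W_5 16666 1433276 relc_5_86 v (by omega) (by omega)
        · rcases Nat.lt_or_ge v 1499940 with h | h
          · rcases Nat.lt_or_ge v 1466608 with h | h
            · exact fixPtsF_spec W_5 16666 1449942 relc_5_87 v (by omega) (by omega)
            · rcases Nat.lt_or_ge v 1483274 with h | h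
              · exact fixPtsF_spec W_5 16666 1466608 relc_5_88 v (by omega) (by omega)
              · exact fixPtsF_spec W_5 16666 1483274 relc_5_89 v (by omega) (by omega)
          · rcases Nat.lt_or_ge v 1516606 with h | h
            · exact fixPtsF_spec W_5 16666 1499940 relc_5_90 v (by omega) (by omega)
            · rcases Nat.lt_or_ge v 1533272 with h | h
              · exact fixPtsF_spec W_5 16666 1516606 relc_5_91 v (by omega) (by omega)
              · exact fixPtsF_spec W_5 5728 1533272 relc_5_92 v (by omega) (by omega)

set_option maxRecDepth 1000000 in
theorem walk_5 : ∀ v, walkT tgF (D.wlen 5) (D.wordP 5) v = W_5 v := by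
  intro v
  simp only [W_5, forceL_eq]
  rfl

theorem relw_5 : ∀ v, v < 1539000 → walkT tgF (D.wlen 5) (D.wordP 5) v = v := by
  intro v hv
  rw [walk_5]
  exact relf_5 v hv

theorem relf_6 : ∀ v, v < 1539000 → W_6 v = v := by
  intro v hv
  rcases Nat.lt_or_ge v 800000 with h | h
  · rcases Nat.lt_or_ge v 400000 with h | h
    · rcases Nat.lt_or_ge v 200000 with h | h
      · exact fixPtsF_spec W_6 200000 0 relc_6_0 v (by omega) (by omega)
      · exact fixPtsF_spec W_6 200000 200000 relc_6_1 v (by omega) (by omega)
    · rcases Nat.lt_or_ge v 600000 with h | h
      · exact fixPtsF_spec W_6 200000 400000 relc_6_2 v (by omega) (by omega)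
      · exact fixPtsF_spec W_6 200000 600000 relc_6_3 v (by omega) (by omega)
  · rcases Nat.lt_or_ge v 1200000 with h | h
    · rcases Nat.lt_or_ge v 1000000 with h | h
      · exact fixPtsF_spec W_6 200000 800000 relc_6_4 v (by omega) (by omega)
      · exact fixPtsF_spec W_6 200000 1000000 relc_6_5 v (by omega) (by omega)
    · rcases Nat.lt_or_ge v 1400000 with h | h
      · exact fixPtsF_spec W_6 200000 1200000 relc_6_6 v (by omega) (by omega)
      · exact fixPtsF_spec W_6 139000 1400000 relc_6_7 v (by omega) (by omega)

set_option maxRecDepth 1000000 in
theorem walk_6 : ∀ v, walkT tgF (D.wlen 6) (D.wordP 6) v = W_6 v := by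
  intro v
  simp only [W_6, forceL_eq]
  rfl

theorem relw_6 : ∀ v, v < 1539000 → walkT tgF (D.wlen 6) (D.wordP 6) v = v := by
  intro v hv
  rw [walk_6]
  exact relf_6 v hv

theorem relf_7 : ∀ v, v < 1539000 → W_7 v = v := by
  intro v hv
  rcases Nat.lt_or_ge v 800000 with h | h
  · rcases Nat.lt_or_ge v 400000 with h | h
    · rcases Nat.lt_or_ge v 200000 with h | h
      · rcases Nat.lt_or_ge v 100000 with h | h
        · exact fixPtsF_spec W_7 100000 0 relc_7_0 v (by omega) (by omega)
        · exact fixPtsF_spec W_7 100000 100000 relc_7_1 v (by omega) (by omega)
      · rcases Nat.lt_or_ge v 300000 with h | h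
        · exact fixPtsF_spec W_7 100000 200000 relc_7_2 v (by omega) (by omega)
        · exact fixPtsF_spec W_7 100000 300000 relc_7_3 v (by omega) (by omega)
    · rcases Nat.lt_or_ge v 600000 with h | h
      · rcases Nat.lt_or_ge v 500000 with h | h
        · exact fixPtsF_spec W_7 100000 400000 relc_7_4 v (by omega) (by omega)
        · exact fixPtsF_spec W_7 100000 500000 relc_7_5 v (by omega) (by omega)
      · rcases Nat.lt_or_ge v 700000 with h | h
        · exact fixPtsF_spec W_7 100000 600000 relc_7_6 v (by omega) (by omega)
        · exact fixPtsF_spec W_7 100000 700000 relc_7_7 v (by omega) (by omega)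
  · rcases Nat.lt_or_ge v 1200000 with h | h
    · rcases Nat.lt_or_ge v 1000000 with h | h
      · rcases Nat.lt_or_ge v 900000 with h | h
        · exact fixPtsF_spec W_7 100000 800000 relc_7_8 v (by omega) (by omega)
        · exact fixPtsF_spec W_7 100000 900000 relc_7_9 v (by omega) (by omega)
      · rcases Nat.lt_or_ge v 1100000 with h | h
        · exact fixPtsF_spec W_7 100000 1000000 relc_7_10 v (by omega) (by omega)
        · exact fixPtsF_spec W_7 100000 1100000 relc_7_11 v (by omega) (by omega)
    · rcases Nat.lt_or_ge v 1400000 with h | h
      · rcases Nat.lt_or_ge v 1300000 with h | h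
        · exact fixPtsF_spec W_7 100000 1200000 relc_7_12 v (by omega) (by omega)
        · exact fixPtsF_spec W_7 100000 1300000 relc_7_13 v (by omega) (by omega)
      · rcases Nat.lt_or_ge v 1500000 with h | h
        · exact fixPtsF_spec W_7 100000 1400000 relc_7_14 v (by omega) (by omega)
        · exact fixPtsF_spec W_7 39000 1500000 relc_7_15 v (by omega) (by omega)

set_option maxRecDepth 1000000 in
theorem walk_7 : ∀ v, walkT tgF (D.wlen 7) (D.wordP 7) v = W_7 v := by
  intro v
  simp only [W_7, forceL_eq]
  rfl

theorem relw_7 : ∀ v, v < 1539000 → walkT tgF (D.wlen 7) (D.wordP 7) v = v := by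
  intro v hv
  rw [walk_7]
  exact relf_7 v hv

theorem relf_8 : ∀ v, v < 1539000 → W_8 v = v := by
  intro v hv
  rcases Nat.lt_or_ge v 760000 with h | h
  · rcases Nat.lt_or_ge v 380000 with h | h
    · rcases Nat.lt_or_ge v 180000 with h | h
      · rcases Nat.lt_or_ge v 80000 with h | h
        · rcases Nat.lt_or_ge v 40000 with h | h
          · rcases Nat.lt_or_ge v 20000 with h | h
            · exact fixPtsF_spec W_8 20000 0 relc_8_0 v (by omega) (by omega)
            · exact fixPtsF_spec W_8 20000 20000 relc_8_1 v (by omega) (by omega)
          · rcases Nat.lt_or_ge v 60000 with h | h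
            · exact fixPtsF_spec W_8 20000 40000 relc_8_2 v (by omega) (by omega)
            · exact fixPtsF_spec W_8 20000 60000 relc_8_3 v (by omega) (by omega)
        · rcases Nat.lt_or_ge v 120000 with h | h
          · rcases Nat.lt_or_ge v 100000 with h | h
            · exact fixPtsF_spec W_8 20000 80000 relc_8_4 v (by omega) (by omega)
            · exact fixPtsF_spec W_8 20000 100000 relc_8_5 v (by omega) (by omega)
          · rcases Nat.lt_or_ge v 140000 with h | h
            · exact fixPtsF_spec W_8 20000 120000 relc_8_6 v (by omega) (by omega)
            · rcases Nat.lt_or_ge v 160000 with h | h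
              · exact fixPtsF_spec W_8 20000 140000 relc_8_7 v (by omega) (by omega)
              · exact fixPtsF_spec W_8 20000 160000 relc_8_8 v (by omega) (by omega)
      · rcases Nat.lt_or_ge v 280000 with h | h
        · rcases Nat.lt_or_ge v 220000 with h | h
          · rcases Nat.lt_or_ge v 200000 with h | h
            · exact fixPtsF_spec W_8 20000 180000 relc_8_9 v (by omega) (by omega)
            · exact fixPtsF_spec W_8 20000 200000 relc_8_10 v (by omega) (by omega)
          · rcases Nat.lt_or_ge v 240000 with h | h
            · exact fixPtsF_spec W_8 20000 220000 relc_8_11 v (by omega) (by omega)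
            · rcases Nat.lt_or_ge v 260000 with h | h
              · exact fixPtsF_spec W_8 20000 240000 relc_8_12 v (by omega) (by omega)
              · exact fixPtsF_spec W_8 20000 260000 relc_8_13 v (by omega) (by omega)
        · rcases Nat.lt_or_ge v 320000 with h | h
          · rcases Nat.lt_or_ge v 300000 with h | h
            · exact fixPtsF_spec W_8 20000 280000 relc_8_14 v (by omega) (by omega)
            · exact fixPtsF_spec W_8 20000 300000 relc_8_15 v (by omega) (by omega)
          · rcases Nat.lt_or_ge v 340000 with h | h
            · exact fixPtsF_spec W_8 20000 320000 relc_8_16 v (by omega) (by omega)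
            · rcases Nat.lt_or_ge v 360000 with h | h
              · exact fixPtsF_spec W_8 20000 340000 relc_8_17 v (by omega) (by omega)
              · exact fixPtsF_spec W_8 20000 360000 relc_8_18 v (by omega) (by omega)
    · rcases Nat.lt_or_ge v 560000 with h | h
      · rcases Nat.lt_or_ge v 460000 with h | h
        · rcases Nat.lt_or_ge v 420000 with h | h
          · rcases Nat.lt_or_ge v 400000 with h | h
            · exact fixPtsF_spec W_8 20000 380000 relc_8_19 v (by omega) (by omega)
            · exact fixPtsF_spec W_8 20000 400000 relc_8_20 v (by omega) (by omega)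
          · rcases Nat.lt_or_ge v 440000 with h | h
            · exact fixPtsF_spec W_8 20000 420000 relc_8_21 v (by omega) (by omega)
            · exact fixPtsF_spec W_8 20000 440000 relc_8_22 v (by omega) (by omega)
        · rcases Nat.lt_or_ge v 500000 with h | h
          · rcases Nat.lt_or_ge v 480000 with h | h
            · exact fixPtsF_spec W_8 20000 460000 relc_8_23 v (by omega) (by omega)
            · exact fixPtsF_spec W_8 20000 480000 relc_8_24 v (by omega) (by omega)
          · rcases Nat.lt_or_ge v 520000 with h | h
            · exact fixPtsF_spec W_8 20000 500000 relc_8_25 v (by omega) (by omega)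
            · rcases Nat.lt_or_ge v 540000 with h | h
              · exact fixPtsF_spec W_8 20000 520000 relc_8_26 v (by omega) (by omega)
              · exact fixPtsF_spec W_8 20000 540000 relc_8_27 v (by omega) (by omega)
      · rcases Nat.lt_or_ge v 660000 with h | h
        · rcases Nat.lt_or_ge v 600000 with h | h
          · rcases Nat.lt_or_ge v 580000 with h | h
            · exact fixPtsF_spec W_8 20000 560000 relc_8_28 v (by omega) (by omega)
            · exact fixPtsF_spec W_8 20000 580000 relc_8_29 v (by omega) (by omega)
          · rcases Nat.lt_or_ge v 620000 with h | h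
            · exact fixPtsF_spec W_8 20000 600000 relc_8_30 v (by omega) (by omega)
            · rcases Nat.lt_or_ge v 640000 with h | h
              · exact fixPtsF_spec W_8 20000 620000 relc_8_31 v (by omega) (by omega)
              · exact fixPtsF_spec W_8 20000 640000 relc_8_32 v (by omega) (by omega)
        · rcases Nat.lt_or_ge v 700000 with h | h
          · rcases Nat.lt_or_ge v 680000 with h | h
            · exact fixPtsF_spec W_8 20000 660000 relc_8_33 v (by omega) (by omega)
            · exact fixPtsF_spec W_8 20000 680000 relc_8_34 v (by omega) (by omega)
          · rcases Nat.lt_or_ge v 720000 with h | h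
            · exact fixPtsF_spec W_8 20000 700000 relc_8_35 v (by omega) (by omega)
            · rcases Nat.lt_or_ge v 740000 with h | h
              · exact fixPtsF_spec W_8 20000 720000 relc_8_36 v (by omega) (by omega)
              · exact fixPtsF_spec W_8 20000 740000 relc_8_37 v (by omega) (by omega)
  · rcases Nat.lt_or_ge v 1140000 with h | h
    · rcases Nat.lt_or_ge v 940000 with h | h
      · rcases Nat.lt_or_ge v 840000 with h | h
        · rcases Nat.lt_or_ge v 800000 with h | h
          · rcases Nat.lt_or_ge v 780000 with h | h
            · exact fixPtsF_spec W_8 20000 760000 relc_8_38 v (by omega) (by omega)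
            · exact fixPtsF_spec W_8 20000 780000 relc_8_39 v (by omega) (by omega)
          · rcases Nat.lt_or_ge v 820000 with h | h
            · exact fixPtsF_spec W_8 20000 800000 relc_8_40 v (by omega) (by omega)
            · exact fixPtsF_spec W_8 20000 820000 relc_8_41 v (by omega) (by omega)
        · rcases Nat.lt_or_ge v 880000 with h | h
          · rcases Nat.lt_or_ge v 860000 with h | h
            · exact fixPtsF_spec W_8 20000 840000 relc_8_42 v (by omega) (by omega)
            · exact fixPtsF_spec W_8 20000 860000 relc_8_43 v (by omega) (by omega)
          · rcases Nat.lt_or_ge v 900000 with h | h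
            · exact fixPtsF_spec W_8 20000 880000 relc_8_44 v (by omega) (by omega)
            · rcases Nat.lt_or_ge v 920000 with h | h
              · exact fixPtsF_spec W_8 20000 900000 relc_8_45 v (by omega) (by omega)
              · exact fixPtsF_spec W_8 20000 920000 relc_8_46 v (by omega) (by omega)
      · rcases Nat.lt_or_ge v 1040000 with h | h
        · rcases Nat.lt_or_ge v 980000 with h | h
          · rcases Nat.lt_or_ge v 960000 with h | h
            · exact fixPtsF_spec W_8 20000 940000 relc_8_47 v (by omega) (by omega)
            · exact fixPtsF_spec W_8 20000 960000 relc_8_48 v (by omega) (by omega)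
          · rcases Nat.lt_or_ge v 1000000 with h | h
            · exact fixPtsF_spec W_8 20000 980000 relc_8_49 v (by omega) (by omega)
            · rcases Nat.lt_or_ge v 1020000 with h | h
              · exact fixPtsF_spec W_8 20000 1000000 relc_8_50 v (by omega) (by omega)
              · exact fixPtsF_spec W_8 20000 1020000 relc_8_51 v (by omega) (by omega)
        · rcases Nat.lt_or_ge v 1080000 with h | h
          · rcases Nat.lt_or_ge v 1060000 with h | h
            · exact fixPtsF_spec W_8 20000 1040000 relc_8_52 v (by omega) (by omega)
            · exact fixPtsF_spec W_8 20000 1060000 relc_8_53 v (by omega) (by omega)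
          · rcases Nat.lt_or_ge v 1100000 with h | h
            · exact fixPtsF_spec W_8 20000 1080000 relc_8_54 v (by omega) (by omega)
            · rcases Nat.lt_or_ge v 1120000 with h | h
              · exact fixPtsF_spec W_8 20000 1100000 relc_8_55 v (by omega) (by omega)
              · exact fixPtsF_spec W_8 20000 1120000 relc_8_56 v (by omega) (by omega)
    · rcases Nat.lt_or_ge v 1340000 with h | h
      · rcases Nat.lt_or_ge v 1240000 with h | h
        · rcases Nat.lt_or_ge v 1180000 with h | h
          · rcases Nat.lt_or_ge v 1160000 with h | h
            · exact fixPtsF_spec W_8 20000 1140000 relc_8_57 v (by omega) (by omega)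
            · exact fixPtsF_spec W_8 20000 1160000 relc_8_58 v (by omega) (by omega)
          · rcases Nat.lt_or_ge v 1200000 with h | h
            · exact fixPtsF_spec W_8 20000 1180000 relc_8_59 v (by omega) (by omega)
            · rcases Nat.lt_or_ge v 1220000 with h | h
              · exact fixPtsF_spec W_8 20000 1200000 relc_8_60 v (by omega) (by omega)
              · exact fixPtsF_spec W_8 20000 1220000 relc_8_61 v (by omega) (by omega)
        · rcases Nat.lt_or_ge v 1280000 with h | h
          · rcases Nat.lt_or_ge v 1260000 with h | h
            · exact fixPtsF_spec W_8 20000 1240000 relc_8_62 v (by omega) (by omega)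
            · exact fixPtsF_spec W_8 20000 1260000 relc_8_63 v (by omega) (by omega)
          · rcases Nat.lt_or_ge v 1300000 with h | h
            · exact fixPtsF_spec W_8 20000 1280000 relc_8_64 v (by omega) (by omega)
            · rcases Nat.lt_or_ge v 1320000 with h | h
              · exact fixPtsF_spec W_8 20000 1300000 relc_8_65 v (by omega) (by omega)
              · exact fixPtsF_spec W_8 20000 1320000 relc_8_66 v (by omega) (by omega)
      · rcases Nat.lt_or_ge v 1440000 with h | h
        · rcases Nat.lt_or_ge v 1380000 with h | h
          · rcases Nat.lt_or_ge v 1360000 with h | h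
            · exact fixPtsF_spec W_8 20000 1340000 relc_8_67 v (by omega) (by omega)
            · exact fixPtsF_spec W_8 20000 1360000 relc_8_68 v (by omega) (by omega)
          · rcases Nat.lt_or_ge v 1400000 with h | h
            · exact fixPtsF_spec W_8 20000 1380000 relc_8_69 v (by omega) (by omega)
            · rcases Nat.lt_or_ge v 1420000 with h | h
              · exact fixPtsF_spec W_8 20000 1400000 relc_8_70 v (by omega) (by omega)
              · exact fixPtsF_spec W_8 20000 1420000 relc_8_71 v (by omega) (by omega)
        · rcases Nat.lt_or_ge v 1480000 with h | h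
          · rcases Nat.lt_or_ge v 1460000 with h | h
            · exact fixPtsF_spec W_8 20000 1440000 relc_8_72 v (by omega) (by omega)
            · exact fixPtsF_spec W_8 20000 1460000 relc_8_73 v (by omega) (by omega)
          · rcases Nat.lt_or_ge v 1500000 with h | h
            · exact fixPtsF_spec W_8 20000 1480000 relc_8_74 v (by omega) (by omega)
            · rcases Nat.lt_or_ge v 1520000 with h | h
              · exact fixPtsF_spec W_8 20000 1500000 relc_8_75 v (by omega) (by omega)
              · exact fixPtsF_spec W_8 19000 1520000 relc_8_76 v (by omega) (by omega)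

set_option maxRecDepth 1000000 in
theorem walk_8 : ∀ v, walkT tgF (D.wlen 8) (D.wordP 8) v = W_8 v := by
  intro v
  simp only [W_8, forceL_eq]
  rfl

theorem relw_8 : ∀ v, v < 1539000 → walkT tgF (D.wlen 8) (D.wordP 8) v = v := by
  intro v hv
  rw [walk_8]
  exact relf_8 v hv

theorem relf_9 : ∀ v, v < 1539000 → W_9 v = v := by
  intro v hv
  rcases Nat.lt_or_ge v 767322 with h | h
  · rcases Nat.lt_or_ge v 383661 with h | h
    · rcases Nat.lt_or_ge v 187749 with h | h
      · rcases Nat.lt_or_ge v 89793 with h | h
        · rcases Nat.lt_or_ge v 40815 with h | h
          · rcases Nat.lt_or_ge v 16326 with h | h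
            · rcases Nat.lt_or_ge v 8163 with h | h
              · exact fixPtsF_spec W_9 8163 0 relc_9_0 v (by omega) (by omega)
              · exact fixPtsF_spec W_9 8163 8163 relc_9_1 v (by omega) (by omega)
            · rcases Nat.lt_or_ge v 24489 with h | h
              · exact fixPtsF_spec W_9 8163 16326 relc_9_2 v (by omega) (by omega)
              · rcases Nat.lt_or_ge v 32652 with h | h
                · exact fixPtsF_spec W_9 8163 24489 relc_9_3 v (by omega) (by omega)
                · exact fixPtsF_spec W_9 8163 32652 relc_9_4 v (by omega) (by omega)
          · rcases Nat.lt_or_ge v 65304 with h | h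
            · rcases Nat.lt_or_ge v 48978 with h | h
              · exact fixPtsF_spec W_9 8163 40815 relc_9_5 v (by omega) (by omega)
              · rcases Nat.lt_or_ge v 57141 with h | h
                · exact fixPtsF_spec W_9 8163 48978 relc_9_6 v (by omega) (by omega)
                · exact fixPtsF_spec W_9 8163 57141 relc_9_7 v (by omega) (by omega)
            · rcases Nat.lt_or_ge v 73467 with h | h
              · exact fixPtsF_spec W_9 8163 65304 relc_9_8 v (by omega) (by omega)
              · rcases Nat.lt_or_ge v 81630 with h | h
                · exact fixPtsF_spec W_9 8163 73467 relc_9_9 v (by omega) (by omega)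
                · exact fixPtsF_spec W_9 8163 81630 relc_9_10 v (by omega) (by omega)
        · rcases Nat.lt_or_ge v 138771 with h | h
          · rcases Nat.lt_or_ge v 114282 with h | h
            · rcases Nat.lt_or_ge v 97956 with h | h
              · exact fixPtsF_spec W_9 8163 89793 relc_9_11 v (by omega) (by omega)
              · rcases Nat.lt_or_ge v 106119 with h | h
                · exact fixPtsF_spec W_9 8163 97956 relc_9_12 v (by omega) (by omega)
                · exact fixPtsF_spec W_9 8163 106119 relc_9_13 v (by omega) (by omega)
            · rcases Nat.lt_or_ge v 122445 with h | h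
              · exact fixPtsF_spec W_9 8163 114282 relc_9_14 v (by omega) (by omega)
              · rcases Nat.lt_or_ge v 130608 with h | h
                · exact fixPtsF_spec W_9 8163 122445 relc_9_15 v (by omega) (by omega)
                · exact fixPtsF_spec W_9 8163 130608 relc_9_16 v (by omega) (by omega)
          · rcases Nat.lt_or_ge v 163260 with h | h
            · rcases Nat.lt_or_ge v 146934 with h | h
              · exact fixPtsF_spec W_9 8163 138771 relc_9_17 v (by omega) (by omega)
              · rcases Nat.lt_or_ge v 155097 with h | h
                · exact fixPtsF_spec W_9 8163 146934 relc_9_18 v (by omega) (by omega)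
                · exact fixPtsF_spec W_9 8163 155097 relc_9_19 v (by omega) (by omega)
            · rcases Nat.lt_or_ge v 171423 with h | h
              · exact fixPtsF_spec W_9 8163 163260 relc_9_20 v (by omega) (by omega)
              · rcases Nat.lt_or_ge v 179586 with h | h
                · exact fixPtsF_spec W_9 8163 171423 relc_9_21 v (by omega) (by omega)
                · exact fixPtsF_spec W_9 8163 179586 relc_9_22 v (by omega) (by omega)
      · rcases Nat.lt_or_ge v 285705 with h | h
        · rcases Nat.lt_or_ge v 236727 with h | h
          · rcases Nat.lt_or_ge v 212238 with h | h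
            · rcases Nat.lt_or_ge v 195912 with h | h
              · exact fixPtsF_spec W_9 8163 187749 relc_9_23 v (by omega) (by omega)
              · rcases Nat.lt_or_ge v 204075 with h | h
                · exact fixPtsF_spec W_9 8163 195912 relc_9_24 v (by omega) (by omega)
                · exact fixPtsF_spec W_9 8163 204075 relc_9_25 v (by omega) (by omega)
            · rcases Nat.lt_or_ge v 220401 with h | h
              · exact fixPtsF_spec W_9 8163 212238 relc_9_26 v (by omega) (by omega)
              · rcases Nat.lt_or_ge v 228564 with h | h
                · exact fixPtsF_spec W_9 8163 220401 relc_9_27 v (by omega) (by omega)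
                · exact fixPtsF_spec W_9 8163 228564 relc_9_28 v (by omega) (by omega)
          · rcases Nat.lt_or_ge v 261216 with h | h
            · rcases Nat.lt_or_ge v 244890 with h | h
              · exact fixPtsF_spec W_9 8163 236727 relc_9_29 v (by omega) (by omega)
              · rcases Nat.lt_or_ge v 253053 with h | h
                · exact fixPtsF_spec W_9 8163 244890 relc_9_30 v (by omega) (by omega)
                · exact fixPtsF_spec W_9 8163 253053 relc_9_31 v (by omega) (by omega)
            · rcases Nat.lt_or_ge v 269379 with h | h
              · exact fixPtsF_spec W_9 8163 261216 relc_9_32 v (by omega) (by omega)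
              · rcases Nat.lt_or_ge v 277542 with h | h
                · exact fixPtsF_spec W_9 8163 269379 relc_9_33 v (by omega) (by omega)
                · exact fixPtsF_spec W_9 8163 277542 relc_9_34 v (by omega) (by omega)
        · rcases Nat.lt_or_ge v 334683 with h | h
          · rcases Nat.lt_or_ge v 310194 with h | h
            · rcases Nat.lt_or_ge v 293868 with h | h
              · exact fixPtsF_spec W_9 8163 285705 relc_9_35 v (by omega) (by omega)
              · rcases Nat.lt_or_ge v 302031 with h | h
                · exact fixPtsF_spec W_9 8163 293868 relc_9_36 v (by omega) (by omega)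
                · exact fixPtsF_spec W_9 8163 302031 relc_9_37 v (by omega) (by omega)
            · rcases Nat.lt_or_ge v 318357 with h | h
              · exact fixPtsF_spec W_9 8163 310194 relc_9_38 v (by omega) (by omega)
              · rcases Nat.lt_or_ge v 326520 with h | h
                · exact fixPtsF_spec W_9 8163 318357 relc_9_39 v (by omega) (by omega)
                · exact fixPtsF_spec W_9 8163 326520 relc_9_40 v (by omega) (by omega)
          · rcases Nat.lt_or_ge v 359172 with h | h
            · rcases Nat.lt_or_ge v 342846 with h | h
              · exact fixPtsF_spec W_9 8163 334683 relc_9_41 v (by omega) (by omega)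
              · rcases Nat.lt_or_ge v 351009 with h | h
                · exact fixPtsF_spec W_9 8163 342846 relc_9_42 v (by omega) (by omega)
                · exact fixPtsF_spec W_9 8163 351009 relc_9_43 v (by omega) (by omega)
            · rcases Nat.lt_or_ge v 367335 with h | h
              · exact fixPtsF_spec W_9 8163 359172 relc_9_44 v (by omega) (by omega)
              · rcases Nat.lt_or_ge v 375498 with h | h
                · exact fixPtsF_spec W_9 8163 367335 relc_9_45 v (by omega) (by omega)
                · exact fixPtsF_spec W_9 8163 375498 relc_9_46 v (by omega) (by omega)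
    · rcases Nat.lt_or_ge v 571410 with h | h
      · rcases Nat.lt_or_ge v 473454 with h | h
        · rcases Nat.lt_or_ge v 424476 with h | h
          · rcases Nat.lt_or_ge v 399987 with h | h
            · rcases Nat.lt_or_ge v 391824 with h | h
              · exact fixPtsF_spec W_9 8163 383661 relc_9_47 v (by omega) (by omega)
              · exact fixPtsF_spec W_9 8163 391824 relc_9_48 v (by omega) (by omega)
            · rcases Nat.lt_or_ge v 408150 with h | h
              · exact fixPtsF_spec W_9 8163 399987 relc_9_49 v (by omega) (by omega)
              · rcases Nat.lt_or_ge v 416313 with h | h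
                · exact fixPtsF_spec W_9 8163 408150 relc_9_50 v (by omega) (by omega)
                · exact fixPtsF_spec W_9 8163 416313 relc_9_51 v (by omega) (by omega)
          · rcases Nat.lt_or_ge v 448965 with h | h
            · rcases Nat.lt_or_ge v 432639 with h | h
              · exact fixPtsF_spec W_9 8163 424476 relc_9_52 v (by omega) (by omega)
              · rcases Nat.lt_or_ge v 440802 with h | h
                · exact fixPtsF_spec W_9 8163 432639 relc_9_53 v (by omega) (by omega)
                · exact fixPtsF_spec W_9 8163 440802 relc_9_54 v (by omega) (by omega)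
            · rcases Nat.lt_or_ge v 457128 with h | h
              · exact fixPtsF_spec W_9 8163 448965 relc_9_55 v (by omega) (by omega)
              · rcases Nat.lt_or_ge v 465291 with h | h
                · exact fixPtsF_spec W_9 8163 457128 relc_9_56 v (by omega) (by omega)
                · exact fixPtsF_spec W_9 8163 465291 relc_9_57 v (by omega) (by omega)
        · rcases Nat.lt_or_ge v 522432 with h | h
          · rcases Nat.lt_or_ge v 497943 with h | h
            · rcases Nat.lt_or_ge v 481617 with h | h
              · exact fixPtsF_spec W_9 8163 473454 relc_9_58 v (by omega) (by omega)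
              · rcases Nat.lt_or_ge v 489780 with h | h
                · exact fixPtsF_spec W_9 8163 481617 relc_9_59 v (by omega) (by omega)
                · exact fixPtsF_spec W_9 8163 489780 relc_9_60 v (by omega) (by omega)
            · rcases Nat.lt_or_ge v 506106 with h | h
              · exact fixPtsF_spec W_9 8163 497943 relc_9_61 v (by omega) (by omega)
              · rcases Nat.lt_or_ge v 514269 with h | h
                · exact fixPtsF_spec W_9 8163 506106 relc_9_62 v (by omega) (by omega)
                · exact fixPtsF_spec W_9 8163 514269 relc_9_63 v (by omega) (by omega)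
          · rcases Nat.lt_or_ge v 546921 with h | h
            · rcases Nat.lt_or_ge v 530595 with h | h
              · exact fixPtsF_spec W_9 8163 522432 relc_9_64 v (by omega) (by omega)
              · rcases Nat.lt_or_ge v 538758 with h | h
                · exact fixPtsF_spec W_9 8163 530595 relc_9_65 v (by omega) (by omega)
                · exact fixPtsF_spec W_9 8163 538758 relc_9_66 v (by omega) (by omega)
            · rcases Nat.lt_or_ge v 555084 with h | h
              · exact fixPtsF_spec W_9 8163 546921 relc_9_67 v (by omega) (by omega)
              · rcases Nat.lt_or_ge v 563247 with h | h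
                · exact fixPtsF_spec W_9 8163 555084 relc_9_68 v (by omega) (by omega)
                · exact fixPtsF_spec W_9 8163 563247 relc_9_69 v (by omega) (by omega)
      · rcases Nat.lt_or_ge v 669366 with h | h
        · rcases Nat.lt_or_ge v 620388 with h | h
          · rcases Nat.lt_or_ge v 595899 with h | h
            · rcases Nat.lt_or_ge v 579573 with h | h
              · exact fixPtsF_spec W_9 8163 571410 relc_9_70 v (by omega) (by omega)
              · rcases Nat.lt_or_ge v 587736 with h | h
                · exact fixPtsF_spec W_9 8163 579573 relc_9_71 v (by omega) (by omega)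
                · exact fixPtsF_spec W_9 8163 587736 relc_9_72 v (by omega) (by omega)
            · rcases Nat.lt_or_ge v 604062 with h | h
              · exact fixPtsF_spec W_9 8163 595899 relc_9_73 v (by omega) (by omega)
              · rcases Nat.lt_or_ge v 612225 with h | h
                · exact fixPtsF_spec W_9 8163 604062 relc_9_74 v (by omega) (by omega)
                · exact fixPtsF_spec W_9 8163 612225 relc_9_75 v (by omega) (by omega)
          · rcases Nat.lt_or_ge v 644877 with h | h
            · rcases Nat.lt_or_ge v 628551 with h | h
              · exact fixPtsF_spec W_9 8163 620388 relc_9_76 v (by omega) (by omega)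
              · rcases Nat.lt_or_ge v 636714 with h | h
                · exact fixPtsF_spec W_9 8163 628551 relc_9_77 v (by omega) (by omega)
                · exact fixPtsF_spec W_9 8163 636714 relc_9_78 v (by omega) (by omega)
            · rcases Nat.lt_or_ge v 653040 with h | h
              · exact fixPtsF_spec W_9 8163 644877 relc_9_79 v (by omega) (by omega)
              · rcases Nat.lt_or_ge v 661203 with h | h
                · exact fixPtsF_spec W_9 8163 653040 relc_9_80 v (by omega) (by omega)
                · exact fixPtsF_spec W_9 8163 661203 relc_9_81 v (by omega) (by omega)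
        · rcases Nat.lt_or_ge v 718344 with h | h
          · rcases Nat.lt_or_ge v 693855 with h | h
            · rcases Nat.lt_or_ge v 677529 with h | h
              · exact fixPtsF_spec W_9 8163 669366 relc_9_82 v (by omega) (by omega)
              · rcases Nat.lt_or_ge v 685692 with h | h
                · exact fixPtsF_spec W_9 8163 677529 relc_9_83 v (by omega) (by omega)
                · exact fixPtsF_spec W_9 8163 685692 relc_9_84 v (by omega) (by omega)
            · rcases Nat.lt_or_ge v 702018 with h | h
              · exact fixPtsF_spec W_9 8163 693855 relc_9_85 v (by omega) (by omega)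
              · rcases Nat.lt_or_ge v 710181 with h | h
                · exact fixPtsF_spec W_9 8163 702018 relc_9_86 v (by omega) (by omega)
                · exact fixPtsF_spec W_9 8163 710181 relc_9_87 v (by omega) (by omega)
          · rcases Nat.lt_or_ge v 742833 with h | h
            · rcases Nat.lt_or_ge v 726507 with h | h
              · exact fixPtsF_spec W_9 8163 718344 relc_9_88 v (by omega) (by omega)
              · rcases Nat.lt_or_ge v 734670 with h | h
                · exact fixPtsF_spec W_9 8163 726507 relc_9_89 v (by omega) (by omega)
                · exact fixPtsF_spec W_9 8163 734670 relc_9_90 v (by omega) (by omega)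
            · rcases Nat.lt_or_ge v 750996 with h | h
              · exact fixPtsF_spec W_9 8163 742833 relc_9_91 v (by omega) (by omega)
              · rcases Nat.lt_or_ge v 759159 with h | h
                · exact fixPtsF_spec W_9 8163 750996 relc_9_92 v (by omega) (by omega)
                · exact fixPtsF_spec W_9 8163 759159 relc_9_93 v (by omega) (by omega)
  · rcases Nat.lt_or_ge v 1150983 with h | h
    · rcases Nat.lt_or_ge v 955071 with h | h
      · rcases Nat.lt_or_ge v 857115 with h | h
        · rcases Nat.lt_or_ge v 808137 with h | h
          · rcases Nat.lt_or_ge v 783648 with h | h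
            · rcases Nat.lt_or_ge v 775485 with h | h
              · exact fixPtsF_spec W_9 8163 767322 relc_9_94 v (by omega) (by omega)
              · exact fixPtsF_spec W_9 8163 775485 relc_9_95 v (by omega) (by omega)
            · rcases Nat.lt_or_ge v 791811 with h | h
              · exact fixPtsF_spec W_9 8163 783648 relc_9_96 v (by omega) (by omega)
              · rcases Nat.lt_or_ge v 799974 with h | h
                · exact fixPtsF_spec W_9 8163 791811 relc_9_97 v (by omega) (by omega)
                · exact fixPtsF_spec W_9 8163 799974 relc_9_98 v (by omega) (by omega)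
          · rcases Nat.lt_or_ge v 832626 with h | h
            · rcases Nat.lt_or_ge v 816300 with h | h
              · exact fixPtsF_spec W_9 8163 808137 relc_9_99 v (by omega) (by omega)
              · rcases Nat.lt_or_ge v 824463 with h | h
                · exact fixPtsF_spec W_9 8163 816300 relc_9_100 v (by omega) (by omega)
                · exact fixPtsF_spec W_9 8163 824463 relc_9_101 v (by omega) (by omega)
            · rcases Nat.lt_or_ge v 840789 with h | h
              · exact fixPtsF_spec W_9 8163 832626 relc_9_102 v (by omega) (by omega)
              · rcases Nat.lt_or_ge v 848952 with h | h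
                · exact fixPtsF_spec W_9 8163 840789 relc_9_103 v (by omega) (by omega)
                · exact fixPtsF_spec W_9 8163 848952 relc_9_104 v (by omega) (by omega)
        · rcases Nat.lt_or_ge v 906093 with h | h
          · rcases Nat.lt_or_ge v 881604 with h | h
            · rcases Nat.lt_or_ge v 865278 with h | h
              · exact fixPtsF_spec W_9 8163 857115 relc_9_105 v (by omega) (by omega)
              · rcases Nat.lt_or_ge v 873441 with h | h
                · exact fixPtsF_spec W_9 8163 865278 relc_9_106 v (by omega) (by omega)
                · exact fixPtsF_spec W_9 8163 873441 relc_9_107 v (by omega) (by omega)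
            · rcases Nat.lt_or_ge v 889767 with h | h
              · exact fixPtsF_spec W_9 8163 881604 relc_9_108 v (by omega) (by omega)
              · rcases Nat.lt_or_ge v 897930 with h | h
                · exact fixPtsF_spec W_9 8163 889767 relc_9_109 v (by omega) (by omega)
                · exact fixPtsF_spec W_9 8163 897930 relc_9_110 v (by omega) (by omega)
          · rcases Nat.lt_or_ge v 930582 with h | h
            · rcases Nat.lt_or_ge v 914256 with h | h
              · exact fixPtsF_spec W_9 8163 906093 relc_9_111 v (by omega) (by omega)
              · rcases Nat.lt_or_ge v 922419 with h | h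
                · exact fixPtsF_spec W_9 8163 914256 relc_9_112 v (by omega) (by omega)
                · exact fixPtsF_spec W_9 8163 922419 relc_9_113 v (by omega) (by omega)
            · rcases Nat.lt_or_ge v 938745 with h | h
              · exact fixPtsF_spec W_9 8163 930582 relc_9_114 v (by omega) (by omega)
              · rcases Nat.lt_or_ge v 946908 with h | h
                · exact fixPtsF_spec W_9 8163 938745 relc_9_115 v (by omega) (by omega)
                · exact fixPtsF_spec W_9 8163 946908 relc_9_116 v (by omega) (by omega)
      · rcases Nat.lt_or_ge v 1053027 with h | h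
        · rcases Nat.lt_or_ge v 1004049 with h | h
          · rcases Nat.lt_or_ge v 979560 with h | h
            · rcases Nat.lt_or_ge v 963234 with h | h
              · exact fixPtsF_spec W_9 8163 955071 relc_9_117 v (by omega) (by omega)
              · rcases Nat.lt_or_ge v 971397 with h | h
                · exact fixPtsF_spec W_9 8163 963234 relc_9_118 v (by omega) (by omega)
                · exact fixPtsF_spec W_9 8163 971397 relc_9_119 v (by omega) (by omega)
            · rcases Nat.lt_or_ge v 987723 with h | h
              · exact fixPtsF_spec W_9 8163 979560 relc_9_120 v (by omega) (by omega)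
              · rcases Nat.lt_or_ge v 995886 with h | h
                · exact fixPtsF_spec W_9 8163 987723 relc_9_121 v (by omega) (by omega)
                · exact fixPtsF_spec W_9 8163 995886 relc_9_122 v (by omega) (by omega)
          · rcases Nat.lt_or_ge v 1028538 with h | h
            · rcases Nat.lt_or_ge v 1012212 with h | h
              · exact fixPtsF_spec W_9 8163 1004049 relc_9_123 v (by omega) (by omega)
              · rcases Nat.lt_or_ge v 1020375 with h | h
                · exact fixPtsF_spec W_9 8163 1012212 relc_9_124 v (by omega) (by omega)
                · exact fixPtsF_spec W_9 8163 1020375 relc_9_125 v (by omega) (by omega)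
            · rcases Nat.lt_or_ge v 1036701 with h | h
              · exact fixPtsF_spec W_9 8163 1028538 relc_9_126 v (by omega) (by omega)
              · rcases Nat.lt_or_ge v 1044864 with h | h
                · exact fixPtsF_spec W_9 8163 1036701 relc_9_127 v (by omega) (by omega)
                · exact fixPtsF_spec W_9 8163 1044864 relc_9_128 v (by omega) (by omega)
        · rcases Nat.lt_or_ge v 1102005 with h | h
          · rcases Nat.lt_or_ge v 1077516 with h | h
            · rcases Nat.lt_or_ge v 1061190 with h | h
              · exact fixPtsF_spec W_9 8163 1053027 relc_9_129 v (by omega) (by omega)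
              · rcases Nat.lt_or_ge v 1069353 with h | h
                · exact fixPtsF_spec W_9 8163 1061190 relc_9_130 v (by omega) (by omega)
                · exact fixPtsF_spec W_9 8163 1069353 relc_9_131 v (by omega) (by omega)
            · rcases Nat.lt_or_ge v 1085679 with h | h
              · exact fixPtsF_spec W_9 8163 1077516 relc_9_132 v (by omega) (by omega)
              · rcases Nat.lt_or_ge v 1093842 with h | h
                · exact fixPtsF_spec W_9 8163 1085679 relc_9_133 v (by omega) (by omega)
                · exact fixPtsF_spec W_9 8163 1093842 relc_9_134 v (by omega) (by omega)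
          · rcases Nat.lt_or_ge v 1126494 with h | h
            · rcases Nat.lt_or_ge v 1110168 with h | h
              · exact fixPtsF_spec W_9 8163 1102005 relc_9_135 v (by omega) (by omega)
              · rcases Nat.lt_or_ge v 1118331 with h | h
                · exact fixPtsF_spec W_9 8163 1110168 relc_9_136 v (by omega) (by omega)
                · exact fixPtsF_spec W_9 8163 1118331 relc_9_137 v (by omega) (by omega)
            · rcases Nat.lt_or_ge v 1134657 with h | h
              · exact fixPtsF_spec W_9 8163 1126494 relc_9_138 v (by omega) (by omega)
              · rcases Nat.lt_or_ge v 1142820 with h | h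
                · exact fixPtsF_spec W_9 8163 1134657 relc_9_139 v (by omega) (by omega)
                · exact fixPtsF_spec W_9 8163 1142820 relc_9_140 v (by omega) (by omega)
    · rcases Nat.lt_or_ge v 1346895 with h | h
      · rcases Nat.lt_or_ge v 1248939 with h | h
        · rcases Nat.lt_or_ge v 1199961 with h | h
          · rcases Nat.lt_or_ge v 1175472 with h | h
            · rcases Nat.lt_or_ge v 1159146 with h | h
              · exact fixPtsF_spec W_9 8163 1150983 relc_9_141 v (by omega) (by omega)
              · rcases Nat.lt_or_ge v 1167309 with h | h
                · exact fixPtsF_spec W_9 8163 1159146 relc_9_142 v (by omega) (by omega)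
                · exact fixPtsF_spec W_9 8163 1167309 relc_9_143 v (by omega) (by omega)
            · rcases Nat.lt_or_ge v 1183635 with h | h
              · exact fixPtsF_spec W_9 8163 1175472 relc_9_144 v (by omega) (by omega)
              · rcases Nat.lt_or_ge v 1191798 with h | h
                · exact fixPtsF_spec W_9 8163 1183635 relc_9_145 v (by omega) (by omega)
                · exact fixPtsF_spec W_9 8163 1191798 relc_9_146 v (by omega) (by omega)
          · rcases Nat.lt_or_ge v 1224450 with h | h
            · rcases Nat.lt_or_ge v 1208124 with h | h
              · exact fixPtsF_spec W_9 8163 1199961 relc_9_147 v (by omega) (by omega)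
              · rcases Nat.lt_or_ge v 1216287 with h | h
                · exact fixPtsF_spec W_9 8163 1208124 relc_9_148 v (by omega) (by omega)
                · exact fixPtsF_spec W_9 8163 1216287 relc_9_149 v (by omega) (by omega)
            · rcases Nat.lt_or_ge v 1232613 with h | h
              · exact fixPtsF_spec W_9 8163 1224450 relc_9_150 v (by omega) (by omega)
              · rcases Nat.lt_or_ge v 1240776 with h | h
                · exact fixPtsF_spec W_9 8163 1232613 relc_9_151 v (by omega) (by omega)
                · exact fixPtsF_spec W_9 8163 1240776 relc_9_152 v (by omega) (by omega)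
        · rcases Nat.lt_or_ge v 1297917 with h | h
          · rcases Nat.lt_or_ge v 1273428 with h | h
            · rcases Nat.lt_or_ge v 1257102 with h | h
              · exact fixPtsF_spec W_9 8163 1248939 relc_9_153 v (by omega) (by omega)
              · rcases Nat.lt_or_ge v 1265265 with h | h
                · exact fixPtsF_spec W_9 8163 1257102 relc_9_154 v (by omega) (by omega)
                · exact fixPtsF_spec W_9 8163 1265265 relc_9_155 v (by omega) (by omega)
            · rcases Nat.lt_or_ge v 1281591 with h | h
              · exact fixPtsF_spec W_9 8163 1273428 relc_9_156 v (by omega) (by omega)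
              · rcases Nat.lt_or_ge v 1289754 with h | h
                · exact fixPtsF_spec W_9 8163 1281591 relc_9_157 v (by omega) (by omega)
                · exact fixPtsF_spec W_9 8163 1289754 relc_9_158 v (by omega) (by omega)
          · rcases Nat.lt_or_ge v 1322406 with h | h
            · rcases Nat.lt_or_ge v 1306080 with h | h
              · exact fixPtsF_spec W_9 8163 1297917 relc_9_159 v (by omega) (by omega)
              · rcases Nat.lt_or_ge v 1314243 with h | h
                · exact fixPtsF_spec W_9 8163 1306080 relc_9_160 v (by omega) (by omega)
                · exact fixPtsF_spec W_9 8163 1314243 relc_9_161 v (by omega) (by omega)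
            · rcases Nat.lt_or_ge v 1330569 with h | h
              · exact fixPtsF_spec W_9 8163 1322406 relc_9_162 v (by omega) (by omega)
              · rcases Nat.lt_or_ge v 1338732 with h | h
                · exact fixPtsF_spec W_9 8163 1330569 relc_9_163 v (by omega) (by omega)
                · exact fixPtsF_spec W_9 8163 1338732 relc_9_164 v (by omega) (by omega)
      · rcases Nat.lt_or_ge v 1444851 with h | h
        · rcases Nat.lt_or_ge v 1395873 with h | h
          · rcases Nat.lt_or_ge v 1371384 with h | h
            · rcases Nat.lt_or_ge v 1355058 with h | h
              · exact fixPtsF_spec W_9 8163 1346895 relc_9_165 v (by omega) (by omega)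
              · rcases Nat.lt_or_ge v 1363221 with h | h
                · exact fixPtsF_spec W_9 8163 1355058 relc_9_166 v (by omega) (by omega)
                · exact fixPtsF_spec W_9 8163 1363221 relc_9_167 v (by omega) (by omega)
            · rcases Nat.lt_or_ge v 1379547 with h | h
              · exact fixPtsF_spec W_9 8163 1371384 relc_9_168 v (by omega) (by omega)
              · rcases Nat.lt_or_ge v 1387710 with h | h
                · exact fixPtsF_spec W_9 8163 1379547 relc_9_169 v (by omega) (by omega)
                · exact fixPtsF_spec W_9 8163 1387710 relc_9_170 v (by omega) (by omega)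
          · rcases Nat.lt_or_ge v 1420362 with h | h
            · rcases Nat.lt_or_ge v 1404036 with h | h
              · exact fixPtsF_spec W_9 8163 1395873 relc_9_171 v (by omega) (by omega)
              · rcases Nat.lt_or_ge v 1412199 with h | h
                · exact fixPtsF_spec W_9 8163 1404036 relc_9_172 v (by omega) (by omega)
                · exact fixPtsF_spec W_9 8163 1412199 relc_9_173 v (by omega) (by omega)
            · rcases Nat.lt_or_ge v 1428525 with h | h
              · exact fixPtsF_spec W_9 8163 1420362 relc_9_174 v (by omega) (by omega)
              · rcases Nat.lt_or_ge v 1436688 with h | h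
                · exact fixPtsF_spec W_9 8163 1428525 relc_9_175 v (by omega) (by omega)
                · exact fixPtsF_spec W_9 8163 1436688 relc_9_176 v (by omega) (by omega)
        · rcases Nat.lt_or_ge v 1493829 with h | h
          · rcases Nat.lt_or_ge v 1469340 with h | h
            · rcases Nat.lt_or_ge v 1453014 with h | h
              · exact fixPtsF_spec W_9 8163 1444851 relc_9_177 v (by omega) (by omega)
              · rcases Nat.lt_or_ge v 1461177 with h | h
                · exact fixPtsF_spec W_9 8163 1453014 relc_9_178 v (by omega) (by omega)
                · exact fixPtsF_spec W_9 8163 1461177 relc_9_179 v (by omega) (by omega)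
            · rcases Nat.lt_or_ge v 1477503 with h | h
              · exact fixPtsF_spec W_9 8163 1469340 relc_9_180 v (by omega) (by omega)
              · rcases Nat.lt_or_ge v 1485666 with h | h
                · exact fixPtsF_spec W_9 8163 1477503 relc_9_181 v (by omega) (by omega)
                · exact fixPtsF_spec W_9 8163 1485666 relc_9_182 v (by omega) (by omega)
          · rcases Nat.lt_or_ge v 1518318 with h | h
            · rcases Nat.lt_or_ge v 1501992 with h | h
              · exact fixPtsF_spec W_9 8163 1493829 relc_9_183 v (by omega) (by omega)
              · rcases Nat.lt_or_ge v 1510155 with h | h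
                · exact fixPtsF_spec W_9 8163 1501992 relc_9_184 v (by omega) (by omega)
                · exact fixPtsF_spec W_9 8163 1510155 relc_9_185 v (by omega) (by omega)
            · rcases Nat.lt_or_ge v 1526481 with h | h
              · exact fixPtsF_spec W_9 8163 1518318 relc_9_186 v (by omega) (by omega)
              · rcases Nat.lt_or_ge v 1534644 with h | h
                · exact fixPtsF_spec W_9 8163 1526481 relc_9_187 v (by omega) (by omega)
                · exact fixPtsF_spec W_9 4356 1534644 relc_9_188 v (by omega) (by omega)

set_option maxRecDepth 1000000 in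
theorem walk_9 : ∀ v, walkT tgF (D.wlen 9) (D.wordP 9) v = W_9 v := by
  intro v
  simp only [W_9, forceL_eq]
  rfl

theorem relw_9 : ∀ v, v < 1539000 → walkT tgF (D.wlen 9) (D.wordP 9) v = v := by
  intro v hv
  rw [walk_9]
  exact relf_9 v hv

theorem relf_10 : ∀ v, v < 1539000 → W_10 v = v := by
  intro v hv
  rcases Nat.lt_or_ge v 800000 with h | h
  · rcases Nat.lt_or_ge v 400000 with h | h
    · rcases Nat.lt_or_ge v 160000 with h | h
      · rcases Nat.lt_or_ge v 80000 with h | h
        · exact fixPtsF_spec W_10 80000 0 relc_10_0 v (by omega) (by omega)
        · exact fixPtsF_spec W_10 80000 80000 relc_10_1 v (by omega) (by omega)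
      · rcases Nat.lt_or_ge v 240000 with h | h
        · exact fixPtsF_spec W_10 80000 160000 relc_10_2 v (by omega) (by omega)
        · rcases Nat.lt_or_ge v 320000 with h | h
          · exact fixPtsF_spec W_10 80000 240000 relc_10_3 v (by omega) (by omega)
          · exact fixPtsF_spec W_10 80000 320000 relc_10_4 v (by omega) (by omega)
    · rcases Nat.lt_or_ge v 560000 with h | h
      · rcases Nat.lt_or_ge v 480000 with h | h
        · exact fixPtsF_spec W_10 80000 400000 relc_10_5 v (by omega) (by omega)
        · exact fixPtsF_spec W_10 80000 480000 relc_10_6 v (by omega) (by omega)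
      · rcases Nat.lt_or_ge v 640000 with h | h
        · exact fixPtsF_spec W_10 80000 560000 relc_10_7 v (by omega) (by omega)
        · rcases Nat.lt_or_ge v 720000 with h | h
          · exact fixPtsF_spec W_10 80000 640000 relc_10_8 v (by omega) (by omega)
          · exact fixPtsF_spec W_10 80000 720000 relc_10_9 v (by omega) (by omega)
  · rcases Nat.lt_or_ge v 1200000 with h | h
    · rcases Nat.lt_or_ge v 960000 with h | h
      · rcases Nat.lt_or_ge v 880000 with h | h
        · exact fixPtsF_spec W_10 80000 800000 relc_10_10 v (by omega) (by omega)
        · exact fixPtsF_spec W_10 80000 880000 relc_10_11 v (by omega) (by omega)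
      · rcases Nat.lt_or_ge v 1040000 with h | h
        · exact fixPtsF_spec W_10 80000 960000 relc_10_12 v (by omega) (by omega)
        · rcases Nat.lt_or_ge v 1120000 with h | h
          · exact fixPtsF_spec W_10 80000 1040000 relc_10_13 v (by omega) (by omega)
          · exact fixPtsF_spec W_10 80000 1120000 relc_10_14 v (by omega) (by omega)
    · rcases Nat.lt_or_ge v 1360000 with h | h
      · rcases Nat.lt_or_ge v 1280000 with h | h
        · exact fixPtsF_spec W_10 80000 1200000 relc_10_15 v (by omega) (by omega)
        · exact fixPtsF_spec W_10 80000 1280000 relc_10_16 v (by omega) (by omega)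
      · rcases Nat.lt_or_ge v 1440000 with h | h
        · exact fixPtsF_spec W_10 80000 1360000 relc_10_17 v (by omega) (by omega)
        · rcases Nat.lt_or_ge v 1520000 with h | h
          · exact fixPtsF_spec W_10 80000 1440000 relc_10_18 v (by omega) (by omega)
          · exact fixPtsF_spec W_10 19000 1520000 relc_10_19 v (by omega) (by omega)

set_option maxRecDepth 1000000 in
theorem walk_10 : ∀ v, walkT tgF (D.wlen 10) (D.wordP 10) v = W_10 v := by
  intro v
  simp only [W_10, forceL_eq]
  rfl

theorem relw_10 : ∀ v, v < 1539000 → walkT tgF (D.wlen 10) (D.wordP 10) v = v := by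
  intro v hv
  rw [walk_10]
  exact relf_10 v hv

theorem relf_11 : ∀ v, v < 1539000 → W_11 v = v := by
  intro v hv
  rcases Nat.lt_or_ge v 800000 with h | h
  · rcases Nat.lt_or_ge v 400000 with h | h
    · rcases Nat.lt_or_ge v 160000 with h | h
      · rcases Nat.lt_or_ge v 80000 with h | h
        · exact fixPtsF_spec W_11 80000 0 relc_11_0 v (by omega) (by omega)
        · exact fixPtsF_spec W_11 80000 80000 relc_11_1 v (by omega) (by omega)
      · rcases Nat.lt_or_ge v 240000 with h | h
        · exact fixPtsF_spec W_11 80000 160000 relc_11_2 v (by omega) (by omega)
        · rcases Nat.lt_or_ge v 320000 with h | h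
          · exact fixPtsF_spec W_11 80000 240000 relc_11_3 v (by omega) (by omega)
          · exact fixPtsF_spec W_11 80000 320000 relc_11_4 v (by omega) (by omega)
    · rcases Nat.lt_or_ge v 560000 with h | h
      · rcases Nat.lt_or_ge v 480000 with h | h
        · exact fixPtsF_spec W_11 80000 400000 relc_11_5 v (by omega) (by omega)
        · exact fixPtsF_spec W_11 80000 480000 relc_11_6 v (by omega) (by omega)
      · rcases Nat.lt_or_ge v 640000 with h | h
        · exact fixPtsF_spec W_11 80000 560000 relc_11_7 v (by omega) (by omega)
        · rcases Nat.lt_or_ge v 720000 with h | h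
          · exact fixPtsF_spec W_11 80000 640000 relc_11_8 v (by omega) (by omega)
          · exact fixPtsF_spec W_11 80000 720000 relc_11_9 v (by omega) (by omega)
  · rcases Nat.lt_or_ge v 1200000 with h | h
    · rcases Nat.lt_or_ge v 960000 with h | h
      · rcases Nat.lt_or_ge v 880000 with h | h
        · exact fixPtsF_spec W_11 80000 800000 relc_11_10 v (by omega) (by omega)
        · exact fixPtsF_spec W_11 80000 880000 relc_11_11 v (by omega) (by omega)
      · rcases Nat.lt_or_ge v 1040000 with h | h
        · exact fixPtsF_spec W_11 80000 960000 relc_11_12 v (by omega) (by omega)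
        · rcases Nat.lt_or_ge v 1120000 with h | h
          · exact fixPtsF_spec W_11 80000 1040000 relc_11_13 v (by omega) (by omega)
          · exact fixPtsF_spec W_11 80000 1120000 relc_11_14 v (by omega) (by omega)
    · rcases Nat.lt_or_ge v 1360000 with h | h
      · rcases Nat.lt_or_ge v 1280000 with h | h
        · exact fixPtsF_spec W_11 80000 1200000 relc_11_15 v (by omega) (by omega)
        · exact fixPtsF_spec W_11 80000 1280000 relc_11_16 v (by omega) (by omega)
      · rcases Nat.lt_or_ge v 1440000 with h | h
        · exact fixPtsF_spec W_11 80000 1360000 relc_11_17 v (by omega) (by omega)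
        · rcases Nat.lt_or_ge v 1520000 with h | h
          · exact fixPtsF_spec W_11 80000 1440000 relc_11_18 v (by omega) (by omega)
          · exact fixPtsF_spec W_11 19000 1520000 relc_11_19 v (by omega) (by omega)

set_option maxRecDepth 1000000 in
theorem walk_11 : ∀ v, walkT tgF (D.wlen 11) (D.wordP 11) v = W_11 v := by
  intro v
  simp only [W_11, forceL_eq]
  rfl

theorem relw_11 : ∀ v, v < 1539000 → walkT tgF (D.wlen 11) (D.wordP 11) v = v := by
  intro v hv
  rw [walk_11]
  exact relf_11 v hv

theorem relf_12 : ∀ v, v < 1539000 → W_12 v = v := by
  intro v hv
  rcases Nat.lt_or_ge v 800000 with h | h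
  · rcases Nat.lt_or_ge v 400000 with h | h
    · rcases Nat.lt_or_ge v 200000 with h | h
      · rcases Nat.lt_or_ge v 100000 with h | h
        · exact fixPtsF_spec W_12 100000 0 relc_12_0 v (by omega) (by omega)
        · exact fixPtsF_spec W_12 100000 100000 relc_12_1 v (by omega) (by omega)
      · rcases Nat.lt_or_ge v 300000 with h | h
        · exact fixPtsF_spec W_12 100000 200000 relc_12_2 v (by omega) (by omega)
        · exact fixPtsF_spec W_12 100000 300000 relc_12_3 v (by omega) (by omega)
    · rcases Nat.lt_or_ge v 600000 with h | h
      · rcases Nat.lt_or_ge v 500000 with h | h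
        · exact fixPtsF_spec W_12 100000 400000 relc_12_4 v (by omega) (by omega)
        · exact fixPtsF_spec W_12 100000 500000 relc_12_5 v (by omega) (by omega)
      · rcases Nat.lt_or_ge v 700000 with h | h
        · exact fixPtsF_spec W_12 100000 600000 relc_12_6 v (by omega) (by omega)
        · exact fixPtsF_spec W_12 100000 700000 relc_12_7 v (by omega) (by omega)
  · rcases Nat.lt_or_ge v 1200000 with h | h
    · rcases Nat.lt_or_ge v 1000000 with h | h
      · rcases Nat.lt_or_ge v 900000 with h | h
        · exact fixPtsF_spec W_12 100000 800000 relc_12_8 v (by omega) (by omega)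
        · exact fixPtsF_spec W_12 100000 900000 relc_12_9 v (by omega) (by omega)
      · rcases Nat.lt_or_ge v 1100000 with h | h
        · exact fixPtsF_spec W_12 100000 1000000 relc_12_10 v (by omega) (by omega)
        · exact fixPtsF_spec W_12 100000 1100000 relc_12_11 v (by omega) (by omega)
    · rcases Nat.lt_or_ge v 1400000 with h | h
      · rcases Nat.lt_or_ge v 1300000 with h | h
        · exact fixPtsF_spec W_12 100000 1200000 relc_12_12 v (by omega) (by omega)
        · exact fixPtsF_spec W_12 100000 1300000 relc_12_13 v (by omega) (by omega)
      · rcases Nat.lt_or_ge v 1500000 with h | h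
        · exact fixPtsF_spec W_12 100000 1400000 relc_12_14 v (by omega) (by omega)
        · exact fixPtsF_spec W_12 39000 1500000 relc_12_15 v (by omega) (by omega)

set_option maxRecDepth 1000000 in
theorem walk_12 : ∀ v, walkT tgF (D.wlen 12) (D.wordP 12) v = W_12 v := by
  intro v
  simp only [W_12, forceL_eq]
  rfl

theorem relw_12 : ∀ v, v < 1539000 → walkT tgF (D.wlen 12) (D.wordP 12) v = v := by
  intro v hv
  rw [walk_12]
  exact relf_12 v hv

theorem relf_13 : ∀ v, v < 1539000 → W_13 v = v := by
  intro v hv
  rcases Nat.lt_or_ge v 799992 with h | h
  · rcases Nat.lt_or_ge v 399996 with h | h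
    · rcases Nat.lt_or_ge v 199998 with h | h
      · rcases Nat.lt_or_ge v 66666 with h | h
        · exact fixPtsF_spec W_13 66666 0 relc_13_0 v (by omega) (by omega)
        · rcases Nat.lt_or_ge v 133332 with h | h
          · exact fixPtsF_spec W_13 66666 66666 relc_13_1 v (by omega) (by omega)
          · exact fixPtsF_spec W_13 66666 133332 relc_13_2 v (by omega) (by omega)
      · rcases Nat.lt_or_ge v 266664 with h | h
        · exact fixPtsF_spec W_13 66666 199998 relc_13_3 v (by omega) (by omega)
        · rcases Nat.lt_or_ge v 333330 with h | h
          · exact fixPtsF_spec W_13 66666 266664 relc_13_4 v (by omega) (by omega)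
          · exact fixPtsF_spec W_13 66666 333330 relc_13_5 v (by omega) (by omega)
    · rcases Nat.lt_or_ge v 599994 with h | h
      · rcases Nat.lt_or_ge v 466662 with h | h
        · exact fixPtsF_spec W_13 66666 399996 relc_13_6 v (by omega) (by omega)
        · rcases Nat.lt_or_ge v 533328 with h | h
          · exact fixPtsF_spec W_13 66666 466662 relc_13_7 v (by omega) (by omega)
          · exact fixPtsF_spec W_13 66666 533328 relc_13_8 v (by omega) (by omega)
      · rcases Nat.lt_or_ge v 666660 with h | h
        · exact fixPtsF_spec W_13 66666 599994 relc_13_9 v (by omega) (by omega)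
        · rcases Nat.lt_or_ge v 733326 with h | h
          · exact fixPtsF_spec W_13 66666 666660 relc_13_10 v (by omega) (by omega)
          · exact fixPtsF_spec W_13 66666 733326 relc_13_11 v (by omega) (by omega)
  · rcases Nat.lt_or_ge v 1199988 with h | h
    · rcases Nat.lt_or_ge v 999990 with h | h
      · rcases Nat.lt_or_ge v 866658 with h | h
        · exact fixPtsF_spec W_13 66666 799992 relc_13_12 v (by omega) (by omega)
        · rcases Nat.lt_or_ge v 933324 with h | h
          · exact fixPtsF_spec W_13 66666 866658 relc_13_13 v (by omega) (by omega)
          · exact fixPtsF_spec W_13 66666 933324 relc_13_14 v (by omega) (by omega)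
      · rcases Nat.lt_or_ge v 1066656 with h | h
        · exact fixPtsF_spec W_13 66666 999990 relc_13_15 v (by omega) (by omega)
        · rcases Nat.lt_or_ge v 1133322 with h | h
          · exact fixPtsF_spec W_13 66666 1066656 relc_13_16 v (by omega) (by omega)
          · exact fixPtsF_spec W_13 66666 1133322 relc_13_17 v (by omega) (by omega)
    · rcases Nat.lt_or_ge v 1399986 with h | h
      · rcases Nat.lt_or_ge v 1266654 with h | h
        · exact fixPtsF_spec W_13 66666 1199988 relc_13_18 v (by omega) (by omega)
        · rcases Nat.lt_or_ge v 1333320 with h | h
          · exact fixPtsF_spec W_13 66666 1266654 relc_13_19 v (by omega) (by omega)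
          · exact fixPtsF_spec W_13 66666 1333320 relc_13_20 v (by omega) (by omega)
      · rcases Nat.lt_or_ge v 1466652 with h | h
        · exact fixPtsF_spec W_13 66666 1399986 relc_13_21 v (by omega) (by omega)
        · rcases Nat.lt_or_ge v 1533318 with h | h
          · exact fixPtsF_spec W_13 66666 1466652 relc_13_22 v (by omega) (by omega)
          · exact fixPtsF_spec W_13 5682 1533318 relc_13_23 v (by omega) (by omega)

set_option maxRecDepth 1000000 in
theorem walk_13 : ∀ v, walkT tgF (D.wlen 13) (D.wordP 13) v = W_13 v := by
  intro v
  simp only [W_13, forceL_eq]
  rfl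

theorem relw_13 : ∀ v, v < 1539000 → walkT tgF (D.wlen 13) (D.wordP 13) v = v := by
  intro v hv
  rw [walk_13]
  exact relf_13 v hv

theorem relf_18 : ∀ v, v < 1539000 → W_18 v = v := by
  intro v hv
  rcases Nat.lt_or_ge v 799998 with h | h
  · rcases Nat.lt_or_ge v 399999 with h | h
    · rcases Nat.lt_or_ge v 133333 with h | h
      · exact fixPtsF_spec W_18 133333 0 relc_18_0 v (by omega) (by omega)
      · rcases Nat.lt_or_ge v 266666 with h | h
        · exact fixPtsF_spec W_18 133333 133333 relc_18_1 v (by omega) (by omega)
        · exact fixPtsF_spec W_18 133333 266666 relc_18_2 v (by omega) (by omega)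
    · rcases Nat.lt_or_ge v 533332 with h | h
      · exact fixPtsF_spec W_18 133333 399999 relc_18_3 v (by omega) (by omega)
      · rcases Nat.lt_or_ge v 666665 with h | h
        · exact fixPtsF_spec W_18 133333 533332 relc_18_4 v (by omega) (by omega)
        · exact fixPtsF_spec W_18 133333 666665 relc_18_5 v (by omega) (by omega)
  · rcases Nat.lt_or_ge v 1199997 with h | h
    · rcases Nat.lt_or_ge v 933331 with h | h
      · exact fixPtsF_spec W_18 133333 799998 relc_18_6 v (by omega) (by omega)
      · rcases Nat.lt_or_ge v 1066664 with h | h
        · exact fixPtsF_spec W_18 133333 933331 relc_18_7 v (by omega) (by omega)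
        · exact fixPtsF_spec W_18 133333 1066664 relc_18_8 v (by omega) (by omega)
    · rcases Nat.lt_or_ge v 1333330 with h | h
      · exact fixPtsF_spec W_18 133333 1199997 relc_18_9 v (by omega) (by omega)
      · rcases Nat.lt_or_ge v 1466663 with h | h
        · exact fixPtsF_spec W_18 133333 1333330 relc_18_10 v (by omega) (by omega)
        · exact fixPtsF_spec W_18 72337 1466663 relc_18_11 v (by omega) (by omega)

set_option maxRecDepth 1000000 in
theorem walk_18 : ∀ v, walkT tgF (D.wlen 18) (D.wordP 18) v = W_18 v := by
  intro v
  simp only [W_18, forceL_eq]
  rfl

theorem relw_18 : ∀ v, v < 1539000 → walkT tgF (D.wlen 18) (D.wordP 18) v = v := by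
  intro v hv
  rw [walk_18]
  exact relf_18 v hv

theorem invx_0 : ∀ v, v < 1539000 → tgF 0 v < 1539000 ∧ tgF 1 (tgF 0 v) = v := by
  intro v hv
  rcases Nat.lt_or_ge v 750000 with h | h
  · rcases Nat.lt_or_ge v 350000 with h | h
    · rcases Nat.lt_or_ge v 150000 with h | h
      · rcases Nat.lt_or_ge v 50000 with h | h
        · exact invRowFI_spec tgF 1539000 0 1 50000 0 inv_0_0 v (by omega) (by omega)
        · rcases Nat.lt_or_ge v 100000 with h | h
          · exact invRowFI_spec tgF 1539000 0 1 50000 50000 inv_0_1 v (by omega) (by omega)
          · exact invRowFI_spec tgF 1539000 0 1 50000 100000 inv_0_2 v (by omega) (by omega)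
      · rcases Nat.lt_or_ge v 250000 with h | h
        · rcases Nat.lt_or_ge v 200000 with h | h
          · exact invRowFI_spec tgF 1539000 0 1 50000 150000 inv_0_3 v (by omega) (by omega)
          · exact invRowFI_spec tgF 1539000 0 1 50000 200000 inv_0_4 v (by omega) (by omega)
        · rcases Nat.lt_or_ge v 300000 with h | h
          · exact invRowFI_spec tgF 1539000 0 1 50000 250000 inv_0_5 v (by omega) (by omega)
          · exact invRowFI_spec tgF 1539000 0 1 50000 300000 inv_0_6 v (by omega) (by omega)
    · rcases Nat.lt_or_ge v 550000 with h | h
      · rcases Nat.lt_or_ge v 450000 with h | h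
        · rcases Nat.lt_or_ge v 400000 with h | h
          · exact invRowFI_spec tgF 1539000 0 1 50000 350000 inv_0_7 v (by omega) (by omega)
          · exact invRowFI_spec tgF 1539000 0 1 50000 400000 inv_0_8 v (by omega) (by omega)
        · rcases Nat.lt_or_ge v 500000 with h | h
          · exact invRowFI_spec tgF 1539000 0 1 50000 450000 inv_0_9 v (by omega) (by omega)
          · exact invRowFI_spec tgF 1539000 0 1 50000 500000 inv_0_10 v (by omega) (by omega)
      · rcases Nat.lt_or_ge v 650000 with h | h
        · rcases Nat.lt_or_ge v 600000 with h | h
          · exact invRowFI_spec tgF 1539000 0 1 50000 550000 inv_0_11 v (by omega) (by omega)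
          · exact invRowFI_spec tgF 1539000 0 1 50000 600000 inv_0_12 v (by omega) (by omega)
        · rcases Nat.lt_or_ge v 700000 with h | h
          · exact invRowFI_spec tgF 1539000 0 1 50000 650000 inv_0_13 v (by omega) (by omega)
          · exact invRowFI_spec tgF 1539000 0 1 50000 700000 inv_0_14 v (by omega) (by omega)
  · rcases Nat.lt_or_ge v 1150000 with h | h
    · rcases Nat.lt_or_ge v 950000 with h | h
      · rcases Nat.lt_or_ge v 850000 with h | h
        · rcases Nat.lt_or_ge v 800000 with h | h
          · exact invRowFI_spec tgF 1539000 0 1 50000 750000 inv_0_15 v (by omega) (by omega)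
          · exact invRowFI_spec tgF 1539000 0 1 50000 800000 inv_0_16 v (by omega) (by omega)
        · rcases Nat.lt_or_ge v 900000 with h | h
          · exact invRowFI_spec tgF 1539000 0 1 50000 850000 inv_0_17 v (by omega) (by omega)
          · exact invRowFI_spec tgF 1539000 0 1 50000 900000 inv_0_18 v (by omega) (by omega)
      · rcases Nat.lt_or_ge v 1050000 with h | h
        · rcases Nat.lt_or_ge v 1000000 with h | h
          · exact invRowFI_spec tgF 1539000 0 1 50000 950000 inv_0_19 v (by omega) (by omega)
          · exact invRowFI_spec tgF 1539000 0 1 50000 1000000 inv_0_20 v (by omega) (by omega)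
        · rcases Nat.lt_or_ge v 1100000 with h | h
          · exact invRowFI_spec tgF 1539000 0 1 50000 1050000 inv_0_21 v (by omega) (by omega)
          · exact invRowFI_spec tgF 1539000 0 1 50000 1100000 inv_0_22 v (by omega) (by omega)
    · rcases Nat.lt_or_ge v 1350000 with h | h
      · rcases Nat.lt_or_ge v 1250000 with h | h
        · rcases Nat.lt_or_ge v 1200000 with h | h
          · exact invRowFI_spec tgF 1539000 0 1 50000 1150000 inv_0_23 v (by omega) (by omega)
          · exact invRowFI_spec tgF 1539000 0 1 50000 1200000 inv_0_24 v (by omega) (by omega)
        · rcases Nat.lt_or_ge v 1300000 with h | h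
          · exact invRowFI_spec tgF 1539000 0 1 50000 1250000 inv_0_25 v (by omega) (by omega)
          · exact invRowFI_spec tgF 1539000 0 1 50000 1300000 inv_0_26 v (by omega) (by omega)
      · rcases Nat.lt_or_ge v 1450000 with h | h
        · rcases Nat.lt_or_ge v 1400000 with h | h
          · exact invRowFI_spec tgF 1539000 0 1 50000 1350000 inv_0_27 v (by omega) (by omega)
          · exact invRowFI_spec tgF 1539000 0 1 50000 1400000 inv_0_28 v (by omega) (by omega)
        · rcases Nat.lt_or_ge v 1500000 with h | h
          · exact invRowFI_spec tgF 1539000 0 1 50000 1450000 inv_0_29 v (by omega) (by omega)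
          · exact invRowFI_spec tgF 1539000 0 1 39000 1500000 inv_0_30 v (by omega) (by omega)

theorem invx_1 : ∀ v, v < 1539000 → tgF 1 v < 1539000 ∧ tgF 0 (tgF 1 v) = v := by
  intro v hv
  rcases Nat.lt_or_ge v 750000 with h | h
  · rcases Nat.lt_or_ge v 350000 with h | h
    · rcases Nat.lt_or_ge v 150000 with h | h
      · rcases Nat.lt_or_ge v 50000 with h | h
        · exact invRowFI_spec tgF 1539000 1 0 50000 0 inv_1_0 v (by omega) (by omega)
        · rcases Nat.lt_or_ge v 100000 with h | h
          · exact invRowFI_spec tgF 1539000 1 0 50000 50000 inv_1_1 v (by omega) (by omega)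
          · exact invRowFI_spec tgF 1539000 1 0 50000 100000 inv_1_2 v (by omega) (by omega)
      · rcases Nat.lt_or_ge v 250000 with h | h
        · rcases Nat.lt_or_ge v 200000 with h | h
          · exact invRowFI_spec tgF 1539000 1 0 50000 150000 inv_1_3 v (by omega) (by omega)
          · exact invRowFI_spec tgF 1539000 1 0 50000 200000 inv_1_4 v (by omega) (by omega)
        · rcases Nat.lt_or_ge v 300000 with h | h
          · exact invRowFI_spec tgF 1539000 1 0 50000 250000 inv_1_5 v (by omega) (by omega)
          · exact invRowFI_spec tgF 1539000 1 0 50000 300000 inv_1_6 v (by omega) (by omega)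
    · rcases Nat.lt_or_ge v 550000 with h | h
      · rcases Nat.lt_or_ge v 450000 with h | h
        · rcases Nat.lt_or_ge v 400000 with h | h
          · exact invRowFI_spec tgF 1539000 1 0 50000 350000 inv_1_7 v (by omega) (by omega)
          · exact invRowFI_spec tgF 1539000 1 0 50000 400000 inv_1_8 v (by omega) (by omega)
        · rcases Nat.lt_or_ge v 500000 with h | h
          · exact invRowFI_spec tgF 1539000 1 0 50000 450000 inv_1_9 v (by omega) (by omega)
          · exact invRowFI_spec tgF 1539000 1 0 50000 500000 inv_1_10 v (by omega) (by omega)
      · rcases Nat.lt_or_ge v 650000 with h | h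
        · rcases Nat.lt_or_ge v 600000 with h | h
          · exact invRowFI_spec tgF 1539000 1 0 50000 550000 inv_1_11 v (by omega) (by omega)
          · exact invRowFI_spec tgF 1539000 1 0 50000 600000 inv_1_12 v (by omega) (by omega)
        · rcases Nat.lt_or_ge v 700000 with h | h
          · exact invRowFI_spec tgF 1539000 1 0 50000 650000 inv_1_13 v (by omega) (by omega)
          · exact invRowFI_spec tgF 1539000 1 0 50000 700000 inv_1_14 v (by omega) (by omega)
  · rcases Nat.lt_or_ge v 1150000 with h | h
    · rcases Nat.lt_or_ge v 950000 with h | h
      · rcases Nat.lt_or_ge v 850000 with h | h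
        · rcases Nat.lt_or_ge v 800000 with h | h
          · exact invRowFI_spec tgF 1539000 1 0 50000 750000 inv_1_15 v (by omega) (by omega)
          · exact invRowFI_spec tgF 1539000 1 0 50000 800000 inv_1_16 v (by omega) (by omega)
        · rcases Nat.lt_or_ge v 900000 with h | h
          · exact invRowFI_spec tgF 1539000 1 0 50000 850000 inv_1_17 v (by omega) (by omega)
          · exact invRowFI_spec tgF 1539000 1 0 50000 900000 inv_1_18 v (by omega) (by omega)
      · rcases Nat.lt_or_ge v 1050000 with h | h
        · rcases Nat.lt_or_ge v 1000000 with h | h
          · exact invRowFI_spec tgF 1539000 1 0 50000 950000 inv_1_19 v (by omega) (by omega)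
          · exact invRowFI_spec tgF 1539000 1 0 50000 1000000 inv_1_20 v (by omega) (by omega)
        · rcases Nat.lt_or_ge v 1100000 with h | h
          · exact invRowFI_spec tgF 1539000 1 0 50000 1050000 inv_1_21 v (by omega) (by omega)
          · exact invRowFI_spec tgF 1539000 1 0 50000 1100000 inv_1_22 v (by omega) (by omega)
    · rcases Nat.lt_or_ge v 1350000 with h | h
      · rcases Nat.lt_or_ge v 1250000 with h | h
        · rcases Nat.lt_or_ge v 1200000 with h | h
          · exact invRowFI_spec tgF 1539000 1 0 50000 1150000 inv_1_23 v (by omega) (by omega)
          · exact invRowFI_spec tgF 1539000 1 0 50000 1200000 inv_1_24 v (by omega) (by omega)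
        · rcases Nat.lt_or_ge v 1300000 with h | h
          · exact invRowFI_spec tgF 1539000 1 0 50000 1250000 inv_1_25 v (by omega) (by omega)
          · exact invRowFI_spec tgF 1539000 1 0 50000 1300000 inv_1_26 v (by omega) (by omega)
      · rcases Nat.lt_or_ge v 1450000 with h | h
        · rcases Nat.lt_or_ge v 1400000 with h | h
          · exact invRowFI_spec tgF 1539000 1 0 50000 1350000 inv_1_27 v (by omega) (by omega)
          · exact invRowFI_spec tgF 1539000 1 0 50000 1400000 inv_1_28 v (by omega) (by omega)
        · rcases Nat.lt_or_ge v 1500000 with h | h
          · exact invRowFI_spec tgF 1539000 1 0 50000 1450000 inv_1_29 v (by omega) (by omega)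
          · exact invRowFI_spec tgF 1539000 1 0 39000 1500000 inv_1_30 v (by omega) (by omega)

theorem invx_2 : ∀ v, v < 1539000 → tgF 2 v < 1539000 ∧ tgF 3 (tgF 2 v) = v := by
  intro v hv
  rcases Nat.lt_or_ge v 750000 with h | h
  · rcases Nat.lt_or_ge v 350000 with h | h
    · rcases Nat.lt_or_ge v 150000 with h | h
      · rcases Nat.lt_or_ge v 50000 with h | h
        · exact invRowFI_spec tgF 1539000 2 3 50000 0 inv_2_0 v (by omega) (by omega)
        · rcases Nat.lt_or_ge v 100000 with h | h
          · exact invRowFI_spec tgF 1539000 2 3 50000 50000 inv_2_1 v (by omega) (by omega)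
          · exact invRowFI_spec tgF 1539000 2 3 50000 100000 inv_2_2 v (by omega) (by omega)
      · rcases Nat.lt_or_ge v 250000 with h | h
        · rcases Nat.lt_or_ge v 200000 with h | h
          · exact invRowFI_spec tgF 1539000 2 3 50000 150000 inv_2_3 v (by omega) (by omega)
          · exact invRowFI_spec tgF 1539000 2 3 50000 200000 inv_2_4 v (by omega) (by omega)
        · rcases Nat.lt_or_ge v 300000 with h | h
          · exact invRowFI_spec tgF 1539000 2 3 50000 250000 inv_2_5 v (by omega) (by omega)
          · exact invRowFI_spec tgF 1539000 2 3 50000 300000 inv_2_6 v (by omega) (by omega)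
    · rcases Nat.lt_or_ge v 550000 with h | h
      · rcases Nat.lt_or_ge v 450000 with h | h
        · rcases Nat.lt_or_ge v 400000 with h | h
          · exact invRowFI_spec tgF 1539000 2 3 50000 350000 inv_2_7 v (by omega) (by omega)
          · exact invRowFI_spec tgF 1539000 2 3 50000 400000 inv_2_8 v (by omega) (by omega)
        · rcases Nat.lt_or_ge v 500000 with h | h
          · exact invRowFI_spec tgF 1539000 2 3 50000 450000 inv_2_9 v (by omega) (by omega)
          · exact invRowFI_spec tgF 1539000 2 3 50000 500000 inv_2_10 v (by omega) (by omega)
      · rcases Nat.lt_or_ge v 650000 with h | h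
        · rcases Nat.lt_or_ge v 600000 with h | h
          · exact invRowFI_spec tgF 1539000 2 3 50000 550000 inv_2_11 v (by omega) (by omega)
          · exact invRowFI_spec tgF 1539000 2 3 50000 600000 inv_2_12 v (by omega) (by omega)
        · rcases Nat.lt_or_ge v 700000 with h | h
          · exact invRowFI_spec tgF 1539000 2 3 50000 650000 inv_2_13 v (by omega) (by omega)
          · exact invRowFI_spec tgF 1539000 2 3 50000 700000 inv_2_14 v (by omega) (by omega)
  · rcases Nat.lt_or_ge v 1150000 with h | h
    · rcases Nat.lt_or_ge v 950000 with h | h
      · rcases Nat.lt_or_ge v 850000 with h | h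
        · rcases Nat.lt_or_ge v 800000 with h | h
          · exact invRowFI_spec tgF 1539000 2 3 50000 750000 inv_2_15 v (by omega) (by omega)
          · exact invRowFI_spec tgF 1539000 2 3 50000 800000 inv_2_16 v (by omega) (by omega)
        · rcases Nat.lt_or_ge v 900000 with h | h
          · exact invRowFI_spec tgF 1539000 2 3 50000 850000 inv_2_17 v (by omega) (by omega)
          · exact invRowFI_spec tgF 1539000 2 3 50000 900000 inv_2_18 v (by omega) (by omega)
      · rcases Nat.lt_or_ge v 1050000 with h | h
        · rcases Nat.lt_or_ge v 1000000 with h | h
          · exact invRowFI_spec tgF 1539000 2 3 50000 950000 inv_2_19 v (by omega) (by omega)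
          · exact invRowFI_spec tgF 1539000 2 3 50000 1000000 inv_2_20 v (by omega) (by omega)
        · rcases Nat.lt_or_ge v 1100000 with h | h
          · exact invRowFI_spec tgF 1539000 2 3 50000 1050000 inv_2_21 v (by omega) (by omega)
          · exact invRowFI_spec tgF 1539000 2 3 50000 1100000 inv_2_22 v (by omega) (by omega)
    · rcases Nat.lt_or_ge v 1350000 with h | h
      · rcases Nat.lt_or_ge v 1250000 with h | h
        · rcases Nat.lt_or_ge v 1200000 with h | h
          · exact invRowFI_spec tgF 1539000 2 3 50000 1150000 inv_2_23 v (by omega) (by omega)
          · exact invRowFI_spec tgF 1539000 2 3 50000 1200000 inv_2_24 v (by omega) (by omega)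
        · rcases Nat.lt_or_ge v 1300000 with h | h
          · exact invRowFI_spec tgF 1539000 2 3 50000 1250000 inv_2_25 v (by omega) (by omega)
          · exact invRowFI_spec tgF 1539000 2 3 50000 1300000 inv_2_26 v (by omega) (by omega)
      · rcases Nat.lt_or_ge v 1450000 with h | h
        · rcases Nat.lt_or_ge v 1400000 with h | h
          · exact invRowFI_spec tgF 1539000 2 3 50000 1350000 inv_2_27 v (by omega) (by omega)
          · exact invRowFI_spec tgF 1539000 2 3 50000 1400000 inv_2_28 v (by omega) (by omega)
        · rcases Nat.lt_or_ge v 1500000 with h | h
          · exact invRowFI_spec tgF 1539000 2 3 50000 1450000 inv_2_29 v (by omega) (by omega)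
          · exact invRowFI_spec tgF 1539000 2 3 39000 1500000 inv_2_30 v (by omega) (by omega)

theorem invx_3 : ∀ v, v < 1539000 → tgF 3 v < 1539000 ∧ tgF 2 (tgF 3 v) = v := by
  intro v hv
  rcases Nat.lt_or_ge v 750000 with h | h
  · rcases Nat.lt_or_ge v 350000 with h | h
    · rcases Nat.lt_or_ge v 150000 with h | h
      · rcases Nat.lt_or_ge v 50000 with h | h
        · exact invRowFI_spec tgF 1539000 3 2 50000 0 inv_3_0 v (by omega) (by omega)
        · rcases Nat.lt_or_ge v 100000 with h | h
          · exact invRowFI_spec tgF 1539000 3 2 50000 50000 inv_3_1 v (by omega) (by omega)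
          · exact invRowFI_spec tgF 1539000 3 2 50000 100000 inv_3_2 v (by omega) (by omega)
      · rcases Nat.lt_or_ge v 250000 with h | h
        · rcases Nat.lt_or_ge v 200000 with h | h
          · exact invRowFI_spec tgF 1539000 3 2 50000 150000 inv_3_3 v (by omega) (by omega)
          · exact invRowFI_spec tgF 1539000 3 2 50000 200000 inv_3_4 v (by omega) (by omega)
        · rcases Nat.lt_or_ge v 300000 with h | h
          · exact invRowFI_spec tgF 1539000 3 2 50000 250000 inv_3_5 v (by omega) (by omega)
          · exact invRowFI_spec tgF 1539000 3 2 50000 300000 inv_3_6 v (by omega) (by omega)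
    · rcases Nat.lt_or_ge v 550000 with h | h
      · rcases Nat.lt_or_ge v 450000 with h | h
        · rcases Nat.lt_or_ge v 400000 with h | h
          · exact invRowFI_spec tgF 1539000 3 2 50000 350000 inv_3_7 v (by omega) (by omega)
          · exact invRowFI_spec tgF 1539000 3 2 50000 400000 inv_3_8 v (by omega) (by omega)
        · rcases Nat.lt_or_ge v 500000 with h | h
          · exact invRowFI_spec tgF 1539000 3 2 50000 450000 inv_3_9 v (by omega) (by omega)
          · exact invRowFI_spec tgF 1539000 3 2 50000 500000 inv_3_10 v (by omega) (by omega)
      · rcases Nat.lt_or_ge v 650000 with h | h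
        · rcases Nat.lt_or_ge v 600000 with h | h
          · exact invRowFI_spec tgF 1539000 3 2 50000 550000 inv_3_11 v (by omega) (by omega)
          · exact invRowFI_spec tgF 1539000 3 2 50000 600000 inv_3_12 v (by omega) (by omega)
        · rcases Nat.lt_or_ge v 700000 with h | h
          · exact invRowFI_spec tgF 1539000 3 2 50000 650000 inv_3_13 v (by omega) (by omega)
          · exact invRowFI_spec tgF 1539000 3 2 50000 700000 inv_3_14 v (by omega) (by omega)
  · rcases Nat.lt_or_ge v 1150000 with h | h
    · rcases Nat.lt_or_ge v 950000 with h | h
      · rcases Nat.lt_or_ge v 850000 with h | h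
        · rcases Nat.lt_or_ge v 800000 with h | h
          · exact invRowFI_spec tgF 1539000 3 2 50000 750000 inv_3_15 v (by omega) (by omega)
          · exact invRowFI_spec tgF 1539000 3 2 50000 800000 inv_3_16 v (by omega) (by omega)
        · rcases Nat.lt_or_ge v 900000 with h | h
          · exact invRowFI_spec tgF 1539000 3 2 50000 850000 inv_3_17 v (by omega) (by omega)
          · exact invRowFI_spec tgF 1539000 3 2 50000 900000 inv_3_18 v (by omega) (by omega)
      · rcases Nat.lt_or_ge v 1050000 with h | h
        · rcases Nat.lt_or_ge v 1000000 with h | h
          · exact invRowFI_spec tgF 1539000 3 2 50000 950000 inv_3_19 v (by omega) (by omega)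
          · exact invRowFI_spec tgF 1539000 3 2 50000 1000000 inv_3_20 v (by omega) (by omega)
        · rcases Nat.lt_or_ge v 1100000 with h | h
          · exact invRowFI_spec tgF 1539000 3 2 50000 1050000 inv_3_21 v (by omega) (by omega)
          · exact invRowFI_spec tgF 1539000 3 2 50000 1100000 inv_3_22 v (by omega) (by omega)
    · rcases Nat.lt_or_ge v 1350000 with h | h
      · rcases Nat.lt_or_ge v 1250000 with h | h
        · rcases Nat.lt_or_ge v 1200000 with h | h
          · exact invRowFI_spec tgF 1539000 3 2 50000 1150000 inv_3_23 v (by omega) (by omega)
          · exact invRowFI_spec tgF 1539000 3 2 50000 1200000 inv_3_24 v (by omega) (by omega)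
        · rcases Nat.lt_or_ge v 1300000 with h | h
          · exact invRowFI_spec tgF 1539000 3 2 50000 1250000 inv_3_25 v (by omega) (by omega)
          · exact invRowFI_spec tgF 1539000 3 2 50000 1300000 inv_3_26 v (by omega) (by omega)
      · rcases Nat.lt_or_ge v 1450000 with h | h
        · rcases Nat.lt_or_ge v 1400000 with h | h
          · exact invRowFI_spec tgF 1539000 3 2 50000 1350000 inv_3_27 v (by omega) (by omega)
          · exact invRowFI_spec tgF 1539000 3 2 50000 1400000 inv_3_28 v (by omega) (by omega)
        · rcases Nat.lt_or_ge v 1500000 with h | h
          · exact invRowFI_spec tgF 1539000 3 2 50000 1450000 inv_3_29 v (by omega) (by omega)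
          · exact invRowFI_spec tgF 1539000 3 2 39000 1500000 inv_3_30 v (by omega) (by omega)

theorem invx_4 : ∀ v, v < 1539000 → tgF 4 v < 1539000 ∧ tgF 4 (tgF 4 v) = v := by
  intro v hv
  rcases Nat.lt_or_ge v 750000 with h | h
  · rcases Nat.lt_or_ge v 350000 with h | h
    · rcases Nat.lt_or_ge v 150000 with h | h
      · rcases Nat.lt_or_ge v 50000 with h | h
        · exact invRowFI_spec tgF 1539000 4 4 50000 0 inv_4_0 v (by omega) (by omega)
        · rcases Nat.lt_or_ge v 100000 with h | h
          · exact invRowFI_spec tgF 1539000 4 4 50000 50000 inv_4_1 v (by omega) (by omega)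
          · exact invRowFI_spec tgF 1539000 4 4 50000 100000 inv_4_2 v (by omega) (by omega)
      · rcases Nat.lt_or_ge v 250000 with h | h
        · rcases Nat.lt_or_ge v 200000 with h | h
          · exact invRowFI_spec tgF 1539000 4 4 50000 150000 inv_4_3 v (by omega) (by omega)
          · exact invRowFI_spec tgF 1539000 4 4 50000 200000 inv_4_4 v (by omega) (by omega)
        · rcases Nat.lt_or_ge v 300000 with h | h
          · exact invRowFI_spec tgF 1539000 4 4 50000 250000 inv_4_5 v (by omega) (by omega)
          · exact invRowFI_spec tgF 1539000 4 4 50000 300000 inv_4_6 v (by omega) (by omega)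
    · rcases Nat.lt_or_ge v 550000 with h | h
      · rcases Nat.lt_or_ge v 450000 with h | h
        · rcases Nat.lt_or_ge v 400000 with h | h
          · exact invRowFI_spec tgF 1539000 4 4 50000 350000 inv_4_7 v (by omega) (by omega)
          · exact invRowFI_spec tgF 1539000 4 4 50000 400000 inv_4_8 v (by omega) (by omega)
        · rcases Nat.lt_or_ge v 500000 with h | h
          · exact invRowFI_spec tgF 1539000 4 4 50000 450000 inv_4_9 v (by omega) (by omega)
          · exact invRowFI_spec tgF 1539000 4 4 50000 500000 inv_4_10 v (by omega) (by omega)
      · rcases Nat.lt_or_ge v 650000 with h | h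
        · rcases Nat.lt_or_ge v 600000 with h | h
          · exact invRowFI_spec tgF 1539000 4 4 50000 550000 inv_4_11 v (by omega) (by omega)
          · exact invRowFI_spec tgF 1539000 4 4 50000 600000 inv_4_12 v (by omega) (by omega)
        · rcases Nat.lt_or_ge v 700000 with h | h
          · exact invRowFI_spec tgF 1539000 4 4 50000 650000 inv_4_13 v (by omega) (by omega)
          · exact invRowFI_spec tgF 1539000 4 4 50000 700000 inv_4_14 v (by omega) (by omega)
  · rcases Nat.lt_or_ge v 1150000 with h | h
    · rcases Nat.lt_or_ge v 950000 with h | h
      · rcases Nat.lt_or_ge v 850000 with h | h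
        · rcases Nat.lt_or_ge v 800000 with h | h
          · exact invRowFI_spec tgF 1539000 4 4 50000 750000 inv_4_15 v (by omega) (by omega)
          · exact invRowFI_spec tgF 1539000 4 4 50000 800000 inv_4_16 v (by omega) (by omega)
        · rcases Nat.lt_or_ge v 900000 with h | h
          · exact invRowFI_spec tgF 1539000 4 4 50000 850000 inv_4_17 v (by omega) (by omega)
          · exact invRowFI_spec tgF 1539000 4 4 50000 900000 inv_4_18 v (by omega) (by omega)
      · rcases Nat.lt_or_ge v 1050000 with h | h
        · rcases Nat.lt_or_ge v 1000000 with h | h
          · exact invRowFI_spec tgF 1539000 4 4 50000 950000 inv_4_19 v (by omega) (by omega)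
          · exact invRowFI_spec tgF 1539000 4 4 50000 1000000 inv_4_20 v (by omega) (by omega)
        · rcases Nat.lt_or_ge v 1100000 with h | h
          · exact invRowFI_spec tgF 1539000 4 4 50000 1050000 inv_4_21 v (by omega) (by omega)
          · exact invRowFI_spec tgF 1539000 4 4 50000 1100000 inv_4_22 v (by omega) (by omega)
    · rcases Nat.lt_or_ge v 1350000 with h | h
      · rcases Nat.lt_or_ge v 1250000 with h | h
        · rcases Nat.lt_or_ge v 1200000 with h | h
          · exact invRowFI_spec tgF 1539000 4 4 50000 1150000 inv_4_23 v (by omega) (by omega)
          · exact invRowFI_spec tgF 1539000 4 4 50000 1200000 inv_4_24 v (by omega) (by omega)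
        · rcases Nat.lt_or_ge v 1300000 with h | h
          · exact invRowFI_spec tgF 1539000 4 4 50000 1250000 inv_4_25 v (by omega) (by omega)
          · exact invRowFI_spec tgF 1539000 4 4 50000 1300000 inv_4_26 v (by omega) (by omega)
      · rcases Nat.lt_or_ge v 1450000 with h | h
        · rcases Nat.lt_or_ge v 1400000 with h | h
          · exact invRowFI_spec tgF 1539000 4 4 50000 1350000 inv_4_27 v (by omega) (by omega)
          · exact invRowFI_spec tgF 1539000 4 4 50000 1400000 inv_4_28 v (by omega) (by omega)
        · rcases Nat.lt_or_ge v 1500000 with h | h
          · exact invRowFI_spec tgF 1539000 4 4 50000 1450000 inv_4_29 v (by omega) (by omega)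
          · exact invRowFI_spec tgF 1539000 4 4 39000 1500000 inv_4_30 v (by omega) (by omega)

theorem invx_5 : ∀ v, v < 1539000 → tgF 5 v < 1539000 ∧ tgF 6 (tgF 5 v) = v := by
  intro v hv
  rcases Nat.lt_or_ge v 750000 with h | h
  · rcases Nat.lt_or_ge v 350000 with h | h
    · rcases Nat.lt_or_ge v 150000 with h | h
      · rcases Nat.lt_or_ge v 50000 with h | h
        · exact invRowFI_spec tgF 1539000 5 6 50000 0 inv_5_0 v (by omega) (by omega)
        · rcases Nat.lt_or_ge v 100000 with h | h
          · exact invRowFI_spec tgF 1539000 5 6 50000 50000 inv_5_1 v (by omega) (by omega)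
          · exact invRowFI_spec tgF 1539000 5 6 50000 100000 inv_5_2 v (by omega) (by omega)
      · rcases Nat.lt_or_ge v 250000 with h | h
        · rcases Nat.lt_or_ge v 200000 with h | h
          · exact invRowFI_spec tgF 1539000 5 6 50000 150000 inv_5_3 v (by omega) (by omega)
          · exact invRowFI_spec tgF 1539000 5 6 50000 200000 inv_5_4 v (by omega) (by omega)
        · rcases Nat.lt_or_ge v 300000 with h | h
          · exact invRowFI_spec tgF 1539000 5 6 50000 250000 inv_5_5 v (by omega) (by omega)
          · exact invRowFI_spec tgF 1539000 5 6 50000 300000 inv_5_6 v (by omega) (by omega)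
    · rcases Nat.lt_or_ge v 550000 with h | h
      · rcases Nat.lt_or_ge v 450000 with h | h
        · rcases Nat.lt_or_ge v 400000 with h | h
          · exact invRowFI_spec tgF 1539000 5 6 50000 350000 inv_5_7 v (by omega) (by omega)
          · exact invRowFI_spec tgF 1539000 5 6 50000 400000 inv_5_8 v (by omega) (by omega)
        · rcases Nat.lt_or_ge v 500000 with h | h
          · exact invRowFI_spec tgF 1539000 5 6 50000 450000 inv_5_9 v (by omega) (by omega)
          · exact invRowFI_spec tgF 1539000 5 6 50000 500000 inv_5_10 v (by omega) (by omega)
      · rcases Nat.lt_or_ge v 650000 with h | h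
        · rcases Nat.lt_or_ge v 600000 with h | h
          · exact invRowFI_spec tgF 1539000 5 6 50000 550000 inv_5_11 v (by omega) (by omega)
          · exact invRowFI_spec tgF 1539000 5 6 50000 600000 inv_5_12 v (by omega) (by omega)
        · rcases Nat.lt_or_ge v 700000 with h | h
          · exact invRowFI_spec tgF 1539000 5 6 50000 650000 inv_5_13 v (by omega) (by omega)
          · exact invRowFI_spec tgF 1539000 5 6 50000 700000 inv_5_14 v (by omega) (by omega)
  · rcases Nat.lt_or_ge v 1150000 with h | h
    · rcases Nat.lt_or_ge v 950000 with h | h
      · rcases Nat.lt_or_ge v 850000 with h | h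
        · rcases Nat.lt_or_ge v 800000 with h | h
          · exact invRowFI_spec tgF 1539000 5 6 50000 750000 inv_5_15 v (by omega) (by omega)
          · exact invRowFI_spec tgF 1539000 5 6 50000 800000 inv_5_16 v (by omega) (by omega)
        · rcases Nat.lt_or_ge v 900000 with h | h
          · exact invRowFI_spec tgF 1539000 5 6 50000 850000 inv_5_17 v (by omega) (by omega)
          · exact invRowFI_spec tgF 1539000 5 6 50000 900000 inv_5_18 v (by omega) (by omega)
      · rcases Nat.lt_or_ge v 1050000 with h | h
        · rcases Nat.lt_or_ge v 1000000 with h | h
          · exact invRowFI_spec tgF 1539000 5 6 50000 950000 inv_5_19 v (by omega) (by omega)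
          · exact invRowFI_spec tgF 1539000 5 6 50000 1000000 inv_5_20 v (by omega) (by omega)
        · rcases Nat.lt_or_ge v 1100000 with h | h
          · exact invRowFI_spec tgF 1539000 5 6 50000 1050000 inv_5_21 v (by omega) (by omega)
          · exact invRowFI_spec tgF 1539000 5 6 50000 1100000 inv_5_22 v (by omega) (by omega)
    · rcases Nat.lt_or_ge v 1350000 with h | h
      · rcases Nat.lt_or_ge v 1250000 with h | h
        · rcases Nat.lt_or_ge v 1200000 with h | h
          · exact invRowFI_spec tgF 1539000 5 6 50000 1150000 inv_5_23 v (by omega) (by omega)
          · exact invRowFI_spec tgF 1539000 5 6 50000 1200000 inv_5_24 v (by omega) (by omega)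
        · rcases Nat.lt_or_ge v 1300000 with h | h
          · exact invRowFI_spec tgF 1539000 5 6 50000 1250000 inv_5_25 v (by omega) (by omega)
          · exact invRowFI_spec tgF 1539000 5 6 50000 1300000 inv_5_26 v (by omega) (by omega)
      · rcases Nat.lt_or_ge v 1450000 with h | h
        · rcases Nat.lt_or_ge v 1400000 with h | h
          · exact invRowFI_spec tgF 1539000 5 6 50000 1350000 inv_5_27 v (by omega) (by omega)
          · exact invRowFI_spec tgF 1539000 5 6 50000 1400000 inv_5_28 v (by omega) (by omega)
        · rcases Nat.lt_or_ge v 1500000 with h | h
          · exact invRowFI_spec tgF 1539000 5 6 50000 1450000 inv_5_29 v (by omega) (by omega)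
          · exact invRowFI_spec tgF 1539000 5 6 39000 1500000 inv_5_30 v (by omega) (by omega)

theorem invx_6 : ∀ v, v < 1539000 → tgF 6 v < 1539000 ∧ tgF 5 (tgF 6 v) = v := by
  intro v hv
  rcases Nat.lt_or_ge v 750000 with h | h
  · rcases Nat.lt_or_ge v 350000 with h | h
    · rcases Nat.lt_or_ge v 150000 with h | h
      · rcases Nat.lt_or_ge v 50000 with h | h
        · exact invRowFI_spec tgF 1539000 6 5 50000 0 inv_6_0 v (by omega) (by omega)
        · rcases Nat.lt_or_ge v 100000 with h | h
          · exact invRowFI_spec tgF 1539000 6 5 50000 50000 inv_6_1 v (by omega) (by omega)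
          · exact invRowFI_spec tgF 1539000 6 5 50000 100000 inv_6_2 v (by omega) (by omega)
      · rcases Nat.lt_or_ge v 250000 with h | h
        · rcases Nat.lt_or_ge v 200000 with h | h
          · exact invRowFI_spec tgF 1539000 6 5 50000 150000 inv_6_3 v (by omega) (by omega)
          · exact invRowFI_spec tgF 1539000 6 5 50000 200000 inv_6_4 v (by omega) (by omega)
        · rcases Nat.lt_or_ge v 300000 with h | h
          · exact invRowFI_spec tgF 1539000 6 5 50000 250000 inv_6_5 v (by omega) (by omega)
          · exact invRowFI_spec tgF 1539000 6 5 50000 300000 inv_6_6 v (by omega) (by omega)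
    · rcases Nat.lt_or_ge v 550000 with h | h
      · rcases Nat.lt_or_ge v 450000 with h | h
        · rcases Nat.lt_or_ge v 400000 with h | h
          · exact invRowFI_spec tgF 1539000 6 5 50000 350000 inv_6_7 v (by omega) (by omega)
          · exact invRowFI_spec tgF 1539000 6 5 50000 400000 inv_6_8 v (by omega) (by omega)
        · rcases Nat.lt_or_ge v 500000 with h | h
          · exact invRowFI_spec tgF 1539000 6 5 50000 450000 inv_6_9 v (by omega) (by omega)
          · exact invRowFI_spec tgF 1539000 6 5 50000 500000 inv_6_10 v (by omega) (by omega)
      · rcases Nat.lt_or_ge v 650000 with h | h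
        · rcases Nat.lt_or_ge v 600000 with h | h
          · exact invRowFI_spec tgF 1539000 6 5 50000 550000 inv_6_11 v (by omega) (by omega)
          · exact invRowFI_spec tgF 1539000 6 5 50000 600000 inv_6_12 v (by omega) (by omega)
        · rcases Nat.lt_or_ge v 700000 with h | h
          · exact invRowFI_spec tgF 1539000 6 5 50000 650000 inv_6_13 v (by omega) (by omega)
          · exact invRowFI_spec tgF 1539000 6 5 50000 700000 inv_6_14 v (by omega) (by omega)
  · rcases Nat.lt_or_ge v 1150000 with h | h
    · rcases Nat.lt_or_ge v 950000 with h | h
      · rcases Nat.lt_or_ge v 850000 with h | h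
        · rcases Nat.lt_or_ge v 800000 with h | h
          · exact invRowFI_spec tgF 1539000 6 5 50000 750000 inv_6_15 v (by omega) (by omega)
          · exact invRowFI_spec tgF 1539000 6 5 50000 800000 inv_6_16 v (by omega) (by omega)
        · rcases Nat.lt_or_ge v 900000 with h | h
          · exact invRowFI_spec tgF 1539000 6 5 50000 850000 inv_6_17 v (by omega) (by omega)
          · exact invRowFI_spec tgF 1539000 6 5 50000 900000 inv_6_18 v (by omega) (by omega)
      · rcases Nat.lt_or_ge v 1050000 with h | h
        · rcases Nat.lt_or_ge v 1000000 with h | h
          · exact invRowFI_spec tgF 1539000 6 5 50000 950000 inv_6_19 v (by omega) (by omega)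
          · exact invRowFI_spec tgF 1539000 6 5 50000 1000000 inv_6_20 v (by omega) (by omega)
        · rcases Nat.lt_or_ge v 1100000 with h | h
          · exact invRowFI_spec tgF 1539000 6 5 50000 1050000 inv_6_21 v (by omega) (by omega)
          · exact invRowFI_spec tgF 1539000 6 5 50000 1100000 inv_6_22 v (by omega) (by omega)
    · rcases Nat.lt_or_ge v 1350000 with h | h
      · rcases Nat.lt_or_ge v 1250000 with h | h
        · rcases Nat.lt_or_ge v 1200000 with h | h
          · exact invRowFI_spec tgF 1539000 6 5 50000 1150000 inv_6_23 v (by omega) (by omega)
          · exact invRowFI_spec tgF 1539000 6 5 50000 1200000 inv_6_24 v (by omega) (by omega)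
        · rcases Nat.lt_or_ge v 1300000 with h | h
          · exact invRowFI_spec tgF 1539000 6 5 50000 1250000 inv_6_25 v (by omega) (by omega)
          · exact invRowFI_spec tgF 1539000 6 5 50000 1300000 inv_6_26 v (by omega) (by omega)
      · rcases Nat.lt_or_ge v 1450000 with h | h
        · rcases Nat.lt_or_ge v 1400000 with h | h
          · exact invRowFI_spec tgF 1539000 6 5 50000 1350000 inv_6_27 v (by omega) (by omega)
          · exact invRowFI_spec tgF 1539000 6 5 50000 1400000 inv_6_28 v (by omega) (by omega)
        · rcases Nat.lt_or_ge v 1500000 with h | h
          · exact invRowFI_spec tgF 1539000 6 5 50000 1450000 inv_6_29 v (by omega) (by omega)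
          · exact invRowFI_spec tgF 1539000 6 5 39000 1500000 inv_6_30 v (by omega) (by omega)

theorem invx_7 : ∀ v, v < 1539000 → tgF 7 v < 1539000 ∧ tgF 8 (tgF 7 v) = v := by
  intro v hv
  rcases Nat.lt_or_ge v 750000 with h | h
  · rcases Nat.lt_or_ge v 350000 with h | h
    · rcases Nat.lt_or_ge v 150000 with h | h
      · rcases Nat.lt_or_ge v 50000 with h | h
        · exact invRowFI_spec tgF 1539000 7 8 50000 0 inv_7_0 v (by omega) (by omega)
        · rcases Nat.lt_or_ge v 100000 with h | h
          · exact invRowFI_spec tgF 1539000 7 8 50000 50000 inv_7_1 v (by omega) (by omega)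
          · exact invRowFI_spec tgF 1539000 7 8 50000 100000 inv_7_2 v (by omega) (by omega)
      · rcases Nat.lt_or_ge v 250000 with h | h
        · rcases Nat.lt_or_ge v 200000 with h | h
          · exact invRowFI_spec tgF 1539000 7 8 50000 150000 inv_7_3 v (by omega) (by omega)
          · exact invRowFI_spec tgF 1539000 7 8 50000 200000 inv_7_4 v (by omega) (by omega)
        · rcases Nat.lt_or_ge v 300000 with h | h
          · exact invRowFI_spec tgF 1539000 7 8 50000 250000 inv_7_5 v (by omega) (by omega)
          · exact invRowFI_spec tgF 1539000 7 8 50000 300000 inv_7_6 v (by omega) (by omega)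
    · rcases Nat.lt_or_ge v 550000 with h | h
      · rcases Nat.lt_or_ge v 450000 with h | h
        · rcases Nat.lt_or_ge v 400000 with h | h
          · exact invRowFI_spec tgF 1539000 7 8 50000 350000 inv_7_7 v (by omega) (by omega)
          · exact invRowFI_spec tgF 1539000 7 8 50000 400000 inv_7_8 v (by omega) (by omega)
        · rcases Nat.lt_or_ge v 500000 with h | h
          · exact invRowFI_spec tgF 1539000 7 8 50000 450000 inv_7_9 v (by omega) (by omega)
          · exact invRowFI_spec tgF 1539000 7 8 50000 500000 inv_7_10 v (by omega) (by omega)
      · rcases Nat.lt_or_ge v 650000 with h | h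
        · rcases Nat.lt_or_ge v 600000 with h | h
          · exact invRowFI_spec tgF 1539000 7 8 50000 550000 inv_7_11 v (by omega) (by omega)
          · exact invRowFI_spec tgF 1539000 7 8 50000 600000 inv_7_12 v (by omega) (by omega)
        · rcases Nat.lt_or_ge v 700000 with h | h
          · exact invRowFI_spec tgF 1539000 7 8 50000 650000 inv_7_13 v (by omega) (by omega)
          · exact invRowFI_spec tgF 1539000 7 8 50000 700000 inv_7_14 v (by omega) (by omega)
  · rcases Nat.lt_or_ge v 1150000 with h | h
    · rcases Nat.lt_or_ge v 950000 with h | h
      · rcases Nat.lt_or_ge v 850000 with h | h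
        · rcases Nat.lt_or_ge v 800000 with h | h
          · exact invRowFI_spec tgF 1539000 7 8 50000 750000 inv_7_15 v (by omega) (by omega)
          · exact invRowFI_spec tgF 1539000 7 8 50000 800000 inv_7_16 v (by omega) (by omega)
        · rcases Nat.lt_or_ge v 900000 with h | h
          · exact invRowFI_spec tgF 1539000 7 8 50000 850000 inv_7_17 v (by omega) (by omega)
          · exact invRowFI_spec tgF 1539000 7 8 50000 900000 inv_7_18 v (by omega) (by omega)
      · rcases Nat.lt_or_ge v 1050000 with h | h
        · rcases Nat.lt_or_ge v 1000000 with h | h
          · exact invRowFI_spec tgF 1539000 7 8 50000 950000 inv_7_19 v (by omega) (by omega)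
          · exact invRowFI_spec tgF 1539000 7 8 50000 1000000 inv_7_20 v (by omega) (by omega)
        · rcases Nat.lt_or_ge v 1100000 with h | h
          · exact invRowFI_spec tgF 1539000 7 8 50000 1050000 inv_7_21 v (by omega) (by omega)
          · exact invRowFI_spec tgF 1539000 7 8 50000 1100000 inv_7_22 v (by omega) (by omega)
    · rcases Nat.lt_or_ge v 1350000 with h | h
      · rcases Nat.lt_or_ge v 1250000 with h | h
        · rcases Nat.lt_or_ge v 1200000 with h | h
          · exact invRowFI_spec tgF 1539000 7 8 50000 1150000 inv_7_23 v (by omega) (by omega)
          · exact invRowFI_spec tgF 1539000 7 8 50000 1200000 inv_7_24 v (by omega) (by omega)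
        · rcases Nat.lt_or_ge v 1300000 with h | h
          · exact invRowFI_spec tgF 1539000 7 8 50000 1250000 inv_7_25 v (by omega) (by omega)
          · exact invRowFI_spec tgF 1539000 7 8 50000 1300000 inv_7_26 v (by omega) (by omega)
      · rcases Nat.lt_or_ge v 1450000 with h | h
        · rcases Nat.lt_or_ge v 1400000 with h | h
          · exact invRowFI_spec tgF 1539000 7 8 50000 1350000 inv_7_27 v (by omega) (by omega)
          · exact invRowFI_spec tgF 1539000 7 8 50000 1400000 inv_7_28 v (by omega) (by omega)
        · rcases Nat.lt_or_ge v 1500000 with h | h
          · exact invRowFI_spec tgF 1539000 7 8 50000 1450000 inv_7_29 v (by omega) (by omega)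
          · exact invRowFI_spec tgF 1539000 7 8 39000 1500000 inv_7_30 v (by omega) (by omega)

theorem invx_8 : ∀ v, v < 1539000 → tgF 8 v < 1539000 ∧ tgF 7 (tgF 8 v) = v := by
  intro v hv
  rcases Nat.lt_or_ge v 750000 with h | h
  · rcases Nat.lt_or_ge v 350000 with h | h
    · rcases Nat.lt_or_ge v 150000 with h | h
      · rcases Nat.lt_or_ge v 50000 with h | h
        · exact invRowFI_spec tgF 1539000 8 7 50000 0 inv_8_0 v (by omega) (by omega)
        · rcases Nat.lt_or_ge v 100000 with h | h
          · exact invRowFI_spec tgF 1539000 8 7 50000 50000 inv_8_1 v (by omega) (by omega)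
          · exact invRowFI_spec tgF 1539000 8 7 50000 100000 inv_8_2 v (by omega) (by omega)
      · rcases Nat.lt_or_ge v 250000 with h | h
        · rcases Nat.lt_or_ge v 200000 with h | h
          · exact invRowFI_spec tgF 1539000 8 7 50000 150000 inv_8_3 v (by omega) (by omega)
          · exact invRowFI_spec tgF 1539000 8 7 50000 200000 inv_8_4 v (by omega) (by omega)
        · rcases Nat.lt_or_ge v 300000 with h | h
          · exact invRowFI_spec tgF 1539000 8 7 50000 250000 inv_8_5 v (by omega) (by omega)
          · exact invRowFI_spec tgF 1539000 8 7 50000 300000 inv_8_6 v (by omega) (by omega)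
    · rcases Nat.lt_or_ge v 550000 with h | h
      · rcases Nat.lt_or_ge v 450000 with h | h
        · rcases Nat.lt_or_ge v 400000 with h | h
          · exact invRowFI_spec tgF 1539000 8 7 50000 350000 inv_8_7 v (by omega) (by omega)
          · exact invRowFI_spec tgF 1539000 8 7 50000 400000 inv_8_8 v (by omega) (by omega)
        · rcases Nat.lt_or_ge v 500000 with h | h
          · exact invRowFI_spec tgF 1539000 8 7 50000 450000 inv_8_9 v (by omega) (by omega)
          · exact invRowFI_spec tgF 1539000 8 7 50000 500000 inv_8_10 v (by omega) (by omega)
      · rcases Nat.lt_or_ge v 650000 with h | h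
        · rcases Nat.lt_or_ge v 600000 with h | h
          · exact invRowFI_spec tgF 1539000 8 7 50000 550000 inv_8_11 v (by omega) (by omega)
          · exact invRowFI_spec tgF 1539000 8 7 50000 600000 inv_8_12 v (by omega) (by omega)
        · rcases Nat.lt_or_ge v 700000 with h | h
          · exact invRowFI_spec tgF 1539000 8 7 50000 650000 inv_8_13 v (by omega) (by omega)
          · exact invRowFI_spec tgF 1539000 8 7 50000 700000 inv_8_14 v (by omega) (by omega)
  · rcases Nat.lt_or_ge v 1150000 with h | h
    · rcases Nat.lt_or_ge v 950000 with h | h
      · rcases Nat.lt_or_ge v 850000 with h | h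
        · rcases Nat.lt_or_ge v 800000 with h | h
          · exact invRowFI_spec tgF 1539000 8 7 50000 750000 inv_8_15 v (by omega) (by omega)
          · exact invRowFI_spec tgF 1539000 8 7 50000 800000 inv_8_16 v (by omega) (by omega)
        · rcases Nat.lt_or_ge v 900000 with h | h
          · exact invRowFI_spec tgF 1539000 8 7 50000 850000 inv_8_17 v (by omega) (by omega)
          · exact invRowFI_spec tgF 1539000 8 7 50000 900000 inv_8_18 v (by omega) (by omega)
      · rcases Nat.lt_or_ge v 1050000 with h | h
        · rcases Nat.lt_or_ge v 1000000 with h | h
          · exact invRowFI_spec tgF 1539000 8 7 50000 950000 inv_8_19 v (by omega) (by omega)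
          · exact invRowFI_spec tgF 1539000 8 7 50000 1000000 inv_8_20 v (by omega) (by omega)
        · rcases Nat.lt_or_ge v 1100000 with h | h
          · exact invRowFI_spec tgF 1539000 8 7 50000 1050000 inv_8_21 v (by omega) (by omega)
          · exact invRowFI_spec tgF 1539000 8 7 50000 1100000 inv_8_22 v (by omega) (by omega)
    · rcases Nat.lt_or_ge v 1350000 with h | h
      · rcases Nat.lt_or_ge v 1250000 with h | h
        · rcases Nat.lt_or_ge v 1200000 with h | h
          · exact invRowFI_spec tgF 1539000 8 7 50000 1150000 inv_8_23 v (by omega) (by omega)
          · exact invRowFI_spec tgF 1539000 8 7 50000 1200000 inv_8_24 v (by omega) (by omega)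
        · rcases Nat.lt_or_ge v 1300000 with h | h
          · exact invRowFI_spec tgF 1539000 8 7 50000 1250000 inv_8_25 v (by omega) (by omega)
          · exact invRowFI_spec tgF 1539000 8 7 50000 1300000 inv_8_26 v (by omega) (by omega)
      · rcases Nat.lt_or_ge v 1450000 with h | h
        · rcases Nat.lt_or_ge v 1400000 with h | h
          · exact invRowFI_spec tgF 1539000 8 7 50000 1350000 inv_8_27 v (by omega) (by omega)
          · exact invRowFI_spec tgF 1539000 8 7 50000 1400000 inv_8_28 v (by omega) (by omega)
        · rcases Nat.lt_or_ge v 1500000 with h | h
          · exact invRowFI_spec tgF 1539000 8 7 50000 1450000 inv_8_29 v (by omega) (by omega)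
          · exact invRowFI_spec tgF 1539000 8 7 39000 1500000 inv_8_30 v (by omega) (by omega)

theorem hE : ∀ v, v < E.M → ∀ x, x < E.D.k → edgeOKS iota B E x v = true := by
  intro v hv x hx
  have hv' : v < 1539000 := hv
  have hx' : x < 9 := hx
  interval_cases x
  · exact edgesx_0 v hv'
  · exact edgesx_1 v hv'
  · exact edgesx_2 v hv'
  · exact edgesx_3 v hv'
  · exact edgesx_4 v hv'
  · exact edgesx_5 v hv'
  · exact edgesx_6 v hv'
  · exact edgesx_7 v hv'
  · exact edgesx_8 v hv'

theorem hT : ∀ x, x < E.D.k → ∀ v, v < 1539000 → tgF x v < 1539000 ∧ tgF (iota x) (tgF x v) = v := by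
  intro x hx
  have hx' : x < 9 := hx
  interval_cases x
  · exact invx_0
  · exact invx_1
  · exact invx_2
  · exact invx_3
  · exact invx_4
  · exact invx_5
  · exact invx_6
  · exact invx_7
  · exact invx_8

theorem hltr : ∀ j, j < E.D.nw → lettersOK E.D.k (E.D.wlen j) (E.D.wordP j) = true :=
  wordsOK_spec D D.nw words_ok

end

end Cfsg.Agent.Helper5.HNM
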