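import Mathlib
import Cfsg.Agent.Helper5.HNTowG
import Cfsg.Agent.Helper5.HNATCSum

/-!
# The group `⟨x, y⟩` of the Harada–Norton presentation: the certificate

The certified coset enumeration `HNATC` (index 252000 over `⟨y⟩`) and the word facts read off
from its coset table are plugged into the generic statement.
-/

set_option autoImplicit false

namespace Cfsg.Agent.Helper5.HNTow

open Cfsg.Agent.Helper5.TC Cfsg.Agent.Helper5.TCI Cfsg.Agent.Helper5.HNSign

theorem iotaA : Iota HNATC.iota := by
  refine ⟨rfl, rfl, rfl, rfl, ?_⟩
  intro x h
  obtain ⟨y, rfl⟩ := Nat.exists_eq_add_of_le h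
  rw [Nat.add_comm]
  rfl

/-- the packed word `R` (reversed). -/
def wR : ℕ := 0x2220202121331313213313132133131312133131312133131321331313213313130202022032020220320202203020202203020202203202022032020220331313332133131321331313213313131213313131213313132133131321331313120202203202022032020220302020220302020220320202203202022030
/-- the packed word `c²` (reversed). -/
def wC2 : ℕ := 0x12133131321331313213313131213313131213313132133131321331313020202203202022032020220302020220302020220320202203202022031213313132133131321331313121331313121331313213313132133131302020220320202203202022030202022030202022032020220320202203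
/-- the packed word `c⁴` (reversed). -/
def wC4 : ℕ := 0x1213313132133131321331313121331313121331313213313132133131302020220320202203202022030202022030202022032020220320202203121331313213313132133131312133131312133131321331313213313130202022032020220320202203020202203020202203202022032020220312133131321331313213313131213313131213313132133131321331313020202203202022032020220302020220302020220320202203202022031213313132133131321331313121331313121331313213313132133131302020220320202203202022030202022030202022032020220320202203

set_option maxRecDepth 100000 in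
theorem wR_unpack : unpack 250 wR = lR.reverse := by decide +kernel
set_option maxRecDepth 100000 in
theorem wR_letters : lettersOK 4 250 wR = true := by decide +kernel
set_option maxRecDepth 100000 in
theorem wR_walk0 : walkT HNATC.ctF 250 wR 0 = 0 := by decide +kernel
set_option maxRecDepth 100000 in
theorem wR_walk1 : walkT HNATC.ctF 250 wR 1 = 1 := by decide +kernel
set_option maxRecDepth 100000 in
theorem wC2_unpack : unpack 236 wC2 = (lc ++ lc).reverse := by decide +kernel
set_option maxRecDepth 100000 in
theorem wC2_letters : lettersOK 4 236 wC2 = true := by decide +kernel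
set_option maxRecDepth 100000 in
theorem wC2_walk : walkT HNATC.ctF 236 wC2 0 = 46832 := by decide +kernel
set_option maxRecDepth 100000 in
theorem wC4_unpack : unpack 472 wC4 = ((lc ++ lc) ++ (lc ++ lc)).reverse := by decide +kernel
set_option maxRecDepth 100000 in
theorem wC4_letters : lettersOK 4 472 wC4 = true := by decide +kernel
set_option maxRecDepth 100000 in
theorem wC4_walk : walkT HNATC.ctF 472 wC4 0 = 39334 := by decide +kernel

theorem yorbit : ∀ r, 0 < r → r < 6 → (HNATC.ctF 2)^[r] 1 ≠ 1 := by
  intro r h0 h6
  interval_cases r <;> decide +kernel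

theorem hwA : ∀ i (hi : i < relW.length),
    unpack (HNATC.E.D.wlen i) (HNATC.E.D.wordP i) = (relW[i]).reverse := by
  intro i hi
  have hi' : i < 6 := hi
  interval_cases i
  · exact HNATC.word_0
  · exact HNATC.word_1
  · exact HNATC.word_2
  · exact HNATC.word_3
  · exact HNATC.word_4
  · exact HNATC.word_5

theorem hpA : ∀ i, i < 4 →
    unpack (HNATC.E.D.wlen (6 + i)) (HNATC.E.D.wordP (6 + i)) = [i, HNATC.iota i] := by
  intro i hi
  interval_cases i
  · exact HNATC.word_6
  · exact HNATC.word_7
  · exact HNATC.word_8
  · exact HNATC.word_9

/-- **The tower, first floor.** -/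
theorem towerA_inst : Finite L ∧ Nat.card L ≤ 6 * 252000 ∧ evw xL yL lR = 1 ∧
    (evw xL yL lc) ^ 2 ≠ 1 ∧ (evw xL yL lc) ^ 4 ≠ 1 :=
  towerA HNATC.iota iotaA HNATC.E HNATC.ctF HNATC.RS 252000 rfl rfl rfl hwA hpA HNATC.word_10
    HNATC.rev_ok HNATC.hE HNATC.hA HNATC.set_ok HNATC.hrows (by norm_num) HNATC.hT HNATC.hltr
    HNATC.hrelT HNATC.hsubT HNATC.hconn 1 (by norm_num)
    ⟨250, wR, wR_unpack, wR_letters, wR_walk0⟩ ⟨250, wR, wR_unpack, wR_letters, wR_walk1⟩
    yorbit 46832 39334 (by norm_num) (by norm_num)
    ⟨236, wC2, wC2_unpack, wC2_letters, wC2_walk⟩ ⟨472, wC4, wC4_unpack, wC4_letters, wC4_walk⟩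

end Cfsg.Agent.Helper5.HNTow
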