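import Cfsg.Agent.Helper5.TC2A

/-! generated coset table (generator 2): HNCTC -/

set_option autoImplicit false
set_option Elab.async false

namespace Cfsg.Agent.Helper5.HNCTC
open Cfsg.Agent.Helper5.TC
noncomputable section

def ct2_0 : ℕ := 0x15e00015f00015500015800012d00015c00015400012a00013f00012000010d00015b0001410001450001060000fd0001020001100000f900011200011a0001270000f100010e00013b0001360000ec00015200014d00015d0001080000e700014900012e0000ea0001430000db0001010001350000d800012f0001420000d20001390000d60000f50000ed0001480000d30000e20000ca0001590001090000c800015a0000f40000c70000c60000d40001570000df0000c10001370000cd0000f600014f0000da00015600015000014c0000b900010c0000b60001140000fa0000b200011600014e0000c000014b00011c0000c50001460000b70000bc0000d00000a70000b00001530000a20000e30001510001260000be00013800009e0000e40001310000980001280000970000b400009500009c0000ad0000ab0000920000a800009100014a0000cf0000af0000d700014700008d00008c0001440000960000dc00008a0000890000bb00014000010500008700013e00013d00008500008400013c00008e00011b00008100013a0000b300011d00007f00007e0001330001300001220000790001340000a30001240001320000ac0000a400007500012c00012b0001290000f300007200012500007100011f00012300012100006f0000f000006d00011e0000fc00006c0000fb00006b00011900011800006900011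70001150000d90000650001130000a50001110000f80000f700010f0000c400006100010a00010b0000600000c900010700005c0000aa00005a0001040000e00001030000580000ee0000ef0001000000ff0000fe0000e90000e60000500000de00004f0000640000e80000f200004c00008200004b0000530000eb0000cb0000ce0000470000e500009a0000e100007b0000450000dd00005f00009d0000570000ae0000410000d500006e00003e0000a00000d100003d0000780000cc00004900003a0000740000590000c30000c20000bf00007c0000bd0000ba0000350000b80000340000b50000510000660000b10000320000940000900000a90000a600008f00005600004400002c0000760000a100009f00005e00002a00009b00002b00004d00009900005400002600008600009300002400005200002300005d00003f00002100008b00008800002200007000008300001f00008000007d00001e00002f00007a00007700001c00002e00007300001b00003900001a00006700006a00006800002500006300006200004e00004a00001600003c00005b00001500004300003100005500004000003700001200001100002900001000004800004600004200000e00001300003b00003800003600000c00003300003000002d00000900002800002700001900000b00000600002000001d00000800001800001700000700001400000300000400000f00000d00000a000001000005000002000000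
def ctSel2 (c : ℕ) : ℕ := ct2_0
def ct2F (v : ℕ) : ℕ := Nat.rec (motive := fun _ => ℕ) 0 (fun c _ => Nat.mod (Nat.shiftRight (ctSel2 c) (Nat.mul 24 (Nat.mod v 682))) 16777216) (Nat.add (Nat.div v 682) 1)

end

end Cfsg.Agent.Helper5.HNCTC
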