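import Cfsg.Agent.Helper5.TC2A

/-! generated coset table (generator 3): HNCTC -/

set_option autoImplicit false
set_option Elab.async false

namespace Cfsg.Agent.Helper5.HNCTC
open Cfsg.Agent.Helper5.TC
noncomputable section

def ct3_0 : ℕ := 0x15e00015f00014200015a00015400012900012c00015c00012400011c00015d00015900010700014400010400011b00011e00011200014300011a0001100000f200013f0001300000ee00010d0001520000eb00013c0001360001530000e50001570000e20000e10000de0001470000da0001340001010001210001460001390000d10000d50000ce0000fe0000d400013700013e00015b0000ca0000c90001580000c80000fc00014a0001030000c50000cf0000c20000d30000c10001560000c30000bd0000d800010f0000dc00014b0000b80000b70000b50001130000b40001160000b100014c0000af00014e0000ac0001480001550001180000a80000a900012b0001410000a50001510000e40000a100009f00014f00013a00009b00009a0000990001500000bc0000ba00011500014d0000ae0000ad00011f0001320001280000c70000910001490000bf00009c00009d00013100014500008c00013d0000980000920001400000970000880000ff00010500012e0000860000a00001230000950000830000e900013b00011d0000b30001380000ef00013300007d00012500012f00013500007900010a0000f100008a00012000007600008b00012d0000a600012a00012700012600010e0000ab00007100007000012200011100006f00010200006d00010b0000e600006c00011900006a00010c00011700006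80000fa0000d90001140000650001080000f000007f0000f70000cd0000f60000a30000610000f40001090000600000b00000cc0000d000010600005a00007a0000590001000000810000f80000560000870000530000fd0000fb0000ea0000f900006300004f0000f50000f300006200005f0000dd0000ed0000ec0000480000e80000e70000470000e30000500000e00000df00004400008f0000db0000420000d70000d600004100006e00008500003e0000d200007700003d00005b0000cb00007300003a0000c60000c40000450000c000007c0000be0000bb0000b90000350000b60000340000360000660000b20000930000320000310000aa0000a700008200005800004b0000a400002c0000a200007200009e00008000005e00002800005200008d00004d00006700009600009400003000005400009000008e00002f00007500002100008900002000008400005d00002a00001f00007e00002700004a00007b00007800002d00001c00007400003800001b00002600001a00006b00006900001800006400002900001700003f00003b00001600005c00005500005700002300001400001300005100003300004e00004c00004600004900000f00004300004000000e00003c00003900003700001200000c00000b00002e00002b00000900001d00002500002400002200000600001e00000500001900001100000400001500000d00000a000010000002000007000008000001000003000000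
def ctSel3 (c : ℕ) : ℕ := ct3_0
def ct3F (v : ℕ) : ℕ := Nat.rec (motive := fun _ => ℕ) 0 (fun c _ => Nat.mod (Nat.shiftRight (ctSel3 c) (Nat.mul 24 (Nat.mod v 682))) 16777216) (Nat.add (Nat.div v 682) 1)

end

end Cfsg.Agent.Helper5.HNCTC
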