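import Cfsg.Agent.Helper5.TC2A

/-! generated coset table (generator 4): HNCTC -/

set_option autoImplicit false
set_option Elab.async false

namespace Cfsg.Agent.Helper5.HNCTC
open Cfsg.Agent.Helper5.TC
noncomputable section

def ct4_0 : ℕ := 0x15b00015a00013400014400015f00015e00012600012300011f00011100013500010800014700010600010900011a0000fb00011e00010000011d0000f700014000012d0000ee0001530000ed00013b00015c0000e90000e80000e500014a0000e40000ec0000e700012e0001450001120000d90001150000db0000d500015500015d0000cf0000f20000cd0000cc0000cb00013c0001490001220000ff00012500010f0000c70000e300015900012a0000c300015800012c0000f00000c000015700014e00014c0001050000ba0001500000e00001140001040000be0001380001180000dd00013a0001560000ad0001290000ab0000aa0001070000c90000a700015100015400010c00015200011c0001170000fe0000b400009c00014d00012b0001030000b100009700014f0000dc0000bd00009400014b0000b60000c60000910000bf00013200009000012100008e00014800014600013e00009300008b00014300014200013d00008800014100013f0001270000860000af0001190000d60000890001130000fa00013700008000013900007f00009b0000df00013600007b00007a00009f00008400007800013300007700013100013000012f00007400010b0000730001280000f50000710000a60001240000a900006f0001200000f30001160000f900006c0000a200011b00008a0000a30000690000f60000a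40001020000660000a10000fd0000640000e100006300011000006200010e00010d0000c200006000010a0000c400005c0000b50000b80000bb0000b20000590000d20000680000570001010000d700005500006a0000510000fc00008300004f0000f80000eb00004e0000f40000f100004d0000ef00004a0000480000ea0000b90000de0000e60000460000e20000450000d10000960000430000420000da0000d800006b0000540000400000d40000d300003d0000d00000ce00003c00003b0000ca0000c80000390000c50000380000c10000370000360000bc00007e0000990000b700009e0000330000b30000320000b00000ae0000ac0000300000a800002f00002e00002d0000a500003f00002b0000a000002a00009d00002800009a00007d00002700004900009800002500009500009200008f00002400002200008d00005200008c00002000008700008500001f00008200008100001e00007c00005b00001d00007900007600007500001b00007200007000006e00006d00001900001800006700006500001700006100005f00005e00005d00001500005a00005800001400005600005300001200005000004c00001000004b00000f00004700004400004100003e00000d00003a00000c00003500003400003100000a00002c00002900000800002600000700002300002100000500001c00001a00000400001600000300001300001100000200000e00000b000009000006000000000001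
def ctSel4 (c : ℕ) : ℕ := ct4_0
def ct4F (v : ℕ) : ℕ := Nat.rec (motive := fun _ => ℕ) 0 (fun c _ => Nat.mod (Nat.shiftRight (ctSel4 c) (Nat.mul 24 (Nat.mod v 682))) 16777216) (Nat.add (Nat.div v 682) 1)

end

end Cfsg.Agent.Helper5.HNCTC
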