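import Cfsg.Agent.Helper5.HNCTCDatD
import Cfsg.Agent.Helper5.TCIB

/-! kernel checks of edges, aliases, rows: HNCTC -/

set_option autoImplicit false
set_option Elab.async false

namespace Cfsg.Agent.Helper5.HNCTC
open Cfsg.Agent.Helper5.TC Cfsg.Agent.Helper5.TCI
noncomputable section

set_option maxRecDepth 1000000 in
theorem cnt_1 : cntFrom RS 20000 20000 0 = 0 := by decide +kernel

set_option maxRecDepth 1000000 in
theorem cnt_5 : cntFrom RS 20000 100000 0 = 0 := by decide +kernel

set_option maxRecDepth 1000000 in
theorem edges_4_14 : edgesRangeI iota E 4 5336 72932 = true := by decide +kernel

set_option maxRecDepth 1000000 in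
theorem edges_4_17 : edgesRangeI iota E 4 5630 88962 = true := by decide +kernel

set_option maxRecDepth 1000000 in
theorem edges_4_10 : edgesRangeI iota E 4 5436 51404 = true := by decide +kernel

set_option maxRecDepth 1000000 in
theorem edges_3_1 : edgesRangeI iota E 3 4044 3655 = true := by decide +kernel

set_option maxRecDepth 1000000 in
theorem edges_2_1 : edgesRangeI iota E 2 3786 3209 = true := by decide +kernel

set_option maxRecDepth 1000000 in
theorem edges_2_23 : edgesRangeI iota E 2 4013 90170 = true := by decide +kernel

set_option maxRecDepth 1000000 in
theorem edges_3_8 : edgesRangeI iota E 3 4900 36428 = true := by decide +kernel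

set_option maxRecDepth 1000000 in
theorem edges_2_29 : edgesRangeI iota E 2 4111 114103 = true := by decide +kernel

set_option maxRecDepth 1000000 in
theorem aliases_47 : aliasRange E 2499 121603 = true := by decide +kernel

set_option maxRecDepth 1000000 in
theorem edges_0_30 : edgesRangeI iota E 0 3674 93316 = true := by decide +kernel

set_option maxRecDepth 1000000 in
theorem edges_0_16 : edgesRangeI iota E 0 2857 46207 = true := by decide +kernel

set_option maxRecDepth 1000000 in
theorem edges_2_7 : edgesRangeI iota E 2 3982 26328 = true := by decide +kernel

set_option maxRecDepth 1000000 in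
theorem aliases_13 : aliasRange E 2561 34300 = true := by decide +kernel

set_option maxRecDepth 1000000 in
theorem aliases_44 : aliasRange E 2552 113701 = true := by decide +kernel

set_option maxRecDepth 1000000 in
theorem edges_0_15 : edgesRangeI iota E 0 3269 42938 = true := by decide +kernel

set_option maxRecDepth 1000000 in
theorem aliases_10 : aliasRange E 2465 26610 = true := by decide +kernel

set_option maxRecDepth 1000000 in
theorem aliases_41 : aliasRange E 2371 106397 = true := by decide +kernel

set_option maxRecDepth 1000000 in
theorem edges_0_31 : edgesRangeI iota E 0 3498 96990 = true := by decide +kernel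

set_option maxRecDepth 1000000 in
theorem edges_2_19 : edgesRangeI iota E 2 4001 74662 = true := by decide +kernel

set_option maxRecDepth 1000000 in
theorem edges_3_14 : edgesRangeI iota E 3 4868 65377 = true := by decide +kernel

set_option maxRecDepth 1000000 in
theorem aliases_12 : aliasRange E 2692 31608 = true := by decide +kernel

set_option maxRecDepth 1000000 in
theorem aliases_32 : aliasRange E 2383 83527 = true := by decide +kernel

set_option maxRecDepth 1000000 in
theorem aliases_48 : aliasRange E 2449 124102 = true := by decide +kernel

set_option maxRecDepth 1000000 in
theorem edges_0_41 : edgesRangeI iota E 0 3662 131284 = true := by decide +kernel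

set_option maxRecDepth 1000000 in
theorem edges_1_9 : edgesRangeI iota E 1 5239 42650 = true := by decide +kernel

set_option maxRecDepth 1000000 in
theorem aliases_11 : aliasRange E 2533 29075 = true := by decide +kernel

set_option maxRecDepth 1000000 in
theorem aliases_33 : aliasRange E 2424 85910 = true := by decide +kernel

set_option maxRecDepth 1000000 in
theorem edges_0_5 : edgesRangeI iota E 0 3010 11456 = true := by decide +kernel

set_option maxRecDepth 1000000 in
theorem edges_0_19 : edgesRangeI iota E 0 3573 55807 = true := by decide +kernel

set_option maxRecDepth 1000000 in
theorem edges_0_28 : edgesRangeI iota E 0 3389 86430 = true := by decide +kernel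

set_option maxRecDepth 1000000 in
theorem edges_0_37 : edgesRangeI iota E 0 3438 117289 = true := by decide +kernel

set_option maxRecDepth 1000000 in
theorem edges_1_4 : edgesRangeI iota E 1 5158 17359 = true := by decide +kernel

set_option maxRecDepth 1000000 in
theorem edges_1_11 : edgesRangeI iota E 1 5418 53049 = true := by decide +kernel

set_option maxRecDepth 1000000 in
theorem edges_1_17 : edgesRangeI iota E 1 5413 84651 = true := by decide +kernel

set_option maxRecDepth 1000000 in
theorem edges_1_21 : edgesRangeI iota E 1 5241 106030 = true := by decide +kernel

set_option maxRecDepth 1000000 in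
theorem edges_1_25 : edgesRangeI iota E 1 5303 127441 = true := by decide +kernel

set_option maxRecDepth 1000000 in
theorem edges_2_5 : edgesRangeI iota E 2 3865 18634 = true := by decide +kernel

set_option maxRecDepth 1000000 in
theorem edges_2_12 : edgesRangeI iota E 2 3983 46320 = true := by decide +kernel

set_option maxRecDepth 1000000 in
theorem edges_2_25 : edgesRangeI iota E 2 3987 98402 = true := by decide +kernel

set_option maxRecDepth 1000000 in
theorem edges_3_2 : edgesRangeI iota E 3 4721 7699 = true := by decide +kernel

set_option maxRecDepth 1000000 in
theorem edges_3_9 : edgesRangeI iota E 3 4766 41328 = true := by decide +kernel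

set_option maxRecDepth 1000000 in
theorem edges_3_15 : edgesRangeI iota E 3 5129 70245 = true := by decide +kernel

set_option maxRecDepth 1000000 in
theorem edges_3_21 : edgesRangeI iota E 3 4878 100187 = true := by decide +kernel

set_option maxRecDepth 1000000 in
theorem edges_3_25 : edgesRangeI iota E 3 5141 119724 = true := by decide +kernel

set_option maxRecDepth 1000000 in
theorem edges_4_3 : edgesRangeI iota E 4 5359 14647 = true := by decide +kernel

set_option maxRecDepth 1000000 in
theorem edges_4_7 : edgesRangeI iota E 4 5465 35817 = true := by decide +kernel

set_option maxRecDepth 1000000 in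
theorem edges_4_13 : edgesRangeI iota E 4 5485 67447 = true := by decide +kernel

set_option maxRecDepth 1000000 in
theorem edges_4_21 : edgesRangeI iota E 4 5411 110393 = true := by decide +kernel

set_option maxRecDepth 1000000 in
theorem aliases_3 : aliasRange E 2592 7598 = true := by decide +kernel

set_option maxRecDepth 1000000 in
theorem aliases_21 : aliasRange E 2448 54774 = true := by decide +kernel

set_option maxRecDepth 1000000 in
theorem aliases_26 : aliasRange E 2334 68661 = true := by decide +kernel

set_option maxRecDepth 1000000 in
theorem aliases_39 : aliasRange E 2690 101273 = true := by decide +kernel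

set_option maxRecDepth 1000000 in
theorem aliases_50 : aliasRange E 2423 129314 = true := by decide +kernel

set_option maxRecDepth 1000000 in
theorem rows_4 : rowsRange E RS 1500 6000 = true := by decide +kernel

set_option maxRecDepth 1000000 in
theorem rows_8 : rowsRange E RS 1500 12000 = true := by decide +kernel

set_option maxRecDepth 1000000 in
theorem rows_12 : rowsRange E RS 1500 18000 = true := by decide +kernel

set_option maxRecDepth 1000000 in
theorem rows_16 : rowsRange E RS 1500 24000 = true := by decide +kernel

set_option maxRecDepth 1000000 in
theorem rows_20 : rowsRange E RS 1500 30000 = true := by decide +kernel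

set_option maxRecDepth 1000000 in
theorem rows_24 : rowsRange E RS 1500 36000 = true := by decide +kernel

set_option maxRecDepth 1000000 in
theorem rows_28 : rowsRange E RS 1500 42000 = true := by decide +kernel

set_option maxRecDepth 1000000 in
theorem rows_32 : rowsRange E RS 1500 48000 = true := by decide +kernel

set_option maxRecDepth 1000000 in
theorem rows_36 : rowsRange E RS 1500 54000 = true := by decide +kernel

set_option maxRecDepth 1000000 in
theorem rows_40 : rowsRange E RS 1500 60000 = true := by decide +kernel

set_option maxRecDepth 1000000 in
theorem rows_44 : rowsRange E RS 1500 66000 = true := by decide +kernel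

set_option maxRecDepth 1000000 in
theorem rows_48 : rowsRange E RS 1500 72000 = true := by decide +kernel

set_option maxRecDepth 1000000 in
theorem rows_52 : rowsRange E RS 1500 78000 = true := by decide +kernel

set_option maxRecDepth 1000000 in
theorem rows_56 : rowsRange E RS 1500 84000 = true := by decide +kernel

set_option maxRecDepth 1000000 in
theorem rows_60 : rowsRange E RS 1500 90000 = true := by decide +kernel

set_option maxRecDepth 1000000 in
theorem rows_64 : rowsRange E RS 1500 96000 = true := by decide +kernel

set_option maxRecDepth 1000000 in
theorem rows_68 : rowsRange E RS 1500 102000 = true := by decide +kernel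

set_option maxRecDepth 1000000 in
theorem rows_72 : rowsRange E RS 1500 108000 = true := by decide +kernel

set_option maxRecDepth 1000000 in
theorem rows_76 : rowsRange E RS 1500 114000 = true := by decide +kernel

set_option maxRecDepth 1000000 in
theorem rows_80 : rowsRange E RS 1500 120000 = true := by decide +kernel

set_option maxRecDepth 1000000 in
theorem rows_84 : rowsRange E RS 1500 126000 = true := by decide +kernel

set_option maxRecDepth 1000000 in
theorem rows_88 : rowsRange E RS 1500 132000 = true := by decide +kernel

set_option maxRecDepth 1000000 in
theorem aliases_53 : aliasRange E 1884 136860 = true := by decide +kernel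

set_option maxRecDepth 1000000 in
theorem edges_2_35 : edgesRangeI iota E 2 643 138101 = true := by decide +kernel

set_option maxRecDepth 1000000 in
theorem edges_0_43 : edgesRangeI iota E 0 240 138504 = true := by decide +kernel

end

end Cfsg.Agent.Helper5.HNCTC
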