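import Cfsg.Agent.Helper5.HNCTCDatD
import Cfsg.Agent.Helper5.TCIB

/-! kernel checks of edges, aliases, rows: HNCTC -/

set_option autoImplicit false
set_option Elab.async false

namespace Cfsg.Agent.Helper5.HNCTC
open Cfsg.Agent.Helper5.TC Cfsg.Agent.Helper5.TCI
noncomputable section

set_option maxRecDepth 1000000 in
theorem cnt_2 : cntFrom RS 20000 40000 0 = 0 := by decide +kernel

set_option maxRecDepth 1000000 in
theorem cnt_6 : cntFrom RS 18744 120000 0 = 0 := by decide +kernel

set_option maxRecDepth 1000000 in
theorem edges_0_9 : edgesRangeI iota E 0 2956 24070 = true := by decide +kernel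

set_option maxRecDepth 1000000 in
theorem edges_3_7 : edgesRangeI iota E 3 4698 31730 = true := by decide +kernel

set_option maxRecDepth 1000000 in
theorem edges_2_13 : edgesRangeI iota E 2 4051 50303 = true := by decide +kernel

set_option maxRecDepth 1000000 in
theorem edges_0_35 : edgesRangeI iota E 0 3365 110321 = true := by decide +kernel

set_option maxRecDepth 1000000 in
theorem edges_2_24 : edgesRangeI iota E 2 4219 94183 = true := by decide +kernel

set_option maxRecDepth 1000000 in
theorem edges_2_17 : edgesRangeI iota E 2 4140 66625 = true := by decide +kernel

set_option maxRecDepth 1000000 in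
theorem edges_0_24 : edgesRangeI iota E 0 3418 72896 = true := by decide +kernel

set_option maxRecDepth 1000000 in
theorem edges_0_4 : edgesRangeI iota E 0 2908 8548 = true := by decide +kernel

set_option maxRecDepth 1000000 in
theorem edges_1_14 : edgesRangeI iota E 1 5272 68958 = true := by decide +kernel

set_option maxRecDepth 1000000 in
theorem edges_0_11 : edgesRangeI iota E 0 3149 30251 = true := by decide +kernel

set_option maxRecDepth 1000000 in
theorem edges_4_0 : edgesRangeI iota E 4 4456 0 = true := by decide +kernel

set_option maxRecDepth 1000000 in
theorem edges_0_18 : edgesRangeI iota E 0 3672 52135 = true := by decide +kernel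

set_option maxRecDepth 1000000 in
theorem edges_2_22 : edgesRangeI iota E 2 3817 86353 = true := by decide +kernel

set_option maxRecDepth 1000000 in
theorem aliases_31 : aliasRange E 2498 81029 = true := by decide +kernel

set_option maxRecDepth 1000000 in
theorem edges_0_2 : edgesRangeI iota E 0 2243 3643 = true := by decide +kernel

set_option maxRecDepth 1000000 in
theorem edges_3_13 : edgesRangeI iota E 3 4953 60424 = true := by decide +kernel

set_option maxRecDepth 1000000 in
theorem aliases_17 : aliasRange E 2622 44530 = true := by decide +kernel

set_option maxRecDepth 1000000 in
theorem edges_0_3 : edgesRangeI iota E 0 2662 5886 = true := by decide +kernel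

set_option maxRecDepth 1000000 in
theorem edges_2_8 : edgesRangeI iota E 2 3860 30310 = true := by decide +kernel

set_option maxRecDepth 1000000 in
theorem edges_2_31 : edgesRangeI iota E 2 4029 122327 = true := by decide +kernel

set_option maxRecDepth 1000000 in
theorem aliases_2 : aliasRange E 2513 5085 = true := by decide +kernel

set_option maxRecDepth 1000000 in
theorem aliases_20 : aliasRange E 2528 52246 = true := by decide +kernel

set_option maxRecDepth 1000000 in
theorem aliases_38 : aliasRange E 2438 98835 = true := by decide +kernel

set_option maxRecDepth 1000000 in
theorem edges_0_7 : edgesRangeI iota E 0 3293 17603 = true := by decide +kernel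

set_option maxRecDepth 1000000 in
theorem edges_1_6 : edgesRangeI iota E 1 5028 27529 = true := by decide +kernel

set_option maxRecDepth 1000000 in
theorem edges_3_0 : edgesRangeI iota E 3 3655 0 = true := by decide +kernel

set_option maxRecDepth 1000000 in
theorem aliases_16 : aliasRange E 2560 41970 = true := by decide +kernel

set_option maxRecDepth 1000000 in
theorem aliases_49 : aliasRange E 2763 126551 = true := by decide +kernel

set_option maxRecDepth 1000000 in
theorem edges_0_17 : edgesRangeI iota E 0 3071 49064 = true := by decide +kernel

set_option maxRecDepth 1000000 in
theorem edges_0_27 : edgesRangeI iota E 0 3329 83101 = true := by decide +kernel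

set_option maxRecDepth 1000000 in
theorem edges_0_36 : edgesRangeI iota E 0 3603 113686 = true := by decide +kernel

set_option maxRecDepth 1000000 in
theorem edges_1_2 : edgesRangeI iota E 1 4728 7600 = true := by decide +kernel

set_option maxRecDepth 1000000 in
theorem edges_1_10 : edgesRangeI iota E 1 5160 47889 = true := by decide +kernel

set_option maxRecDepth 1000000 in
theorem edges_1_16 : edgesRangeI iota E 1 5117 79534 = true := by decide +kernel

set_option maxRecDepth 1000000 in
theorem edges_1_20 : edgesRangeI iota E 1 5233 100797 = true := by decide +kernel

set_option maxRecDepth 1000000 in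
theorem edges_1_24 : edgesRangeI iota E 1 5400 122041 = true := by decide +kernel

set_option maxRecDepth 1000000 in
theorem edges_2_2 : edgesRangeI iota E 2 3735 6995 = true := by decide +kernel

set_option maxRecDepth 1000000 in
theorem edges_2_11 : edgesRangeI iota E 2 4248 42072 = true := by decide +kernel

set_option maxRecDepth 1000000 in
theorem edges_2_20 : edgesRangeI iota E 2 3720 78663 = true := by decide +kernel

set_option maxRecDepth 1000000 in
theorem edges_2_32 : edgesRangeI iota E 2 4019 126356 = true := by decide +kernel

set_option maxRecDepth 1000000 in
theorem edges_3_6 : edgesRangeI iota E 3 4862 26868 = true := by decide +kernel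

set_option maxRecDepth 1000000 in
theorem edges_3_12 : edgesRangeI iota E 3 4918 55506 = true := by decide +kernel

set_option maxRecDepth 1000000 in
theorem edges_3_20 : edgesRangeI iota E 3 4864 95323 = true := by decide +kernel

set_option maxRecDepth 1000000 in
theorem edges_3_24 : edgesRangeI iota E 3 4755 114969 = true := by decide +kernel

set_option maxRecDepth 1000000 in
theorem edges_4_2 : edgesRangeI iota E 4 4995 9652 = true := by decide +kernel

set_option maxRecDepth 1000000 in
theorem edges_4_6 : edgesRangeI iota E 4 5057 30760 = true := by decide +kernel

set_option maxRecDepth 1000000 in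
theorem edges_4_12 : edgesRangeI iota E 4 5318 62129 = true := by decide +kernel

set_option maxRecDepth 1000000 in
theorem edges_4_18 : edgesRangeI iota E 4 5386 94592 = true := by decide +kernel

set_option maxRecDepth 1000000 in
theorem aliases_1 : aliasRange E 2642 2443 = true := by decide +kernel

set_option maxRecDepth 1000000 in
theorem aliases_6 : aliasRange E 3077 15590 = true := by decide +kernel

set_option maxRecDepth 1000000 in
theorem aliases_24 : aliasRange E 2853 63057 = true := by decide +kernel

set_option maxRecDepth 1000000 in
theorem aliases_34 : aliasRange E 2418 88334 = true := by decide +kernel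

set_option maxRecDepth 1000000 in
theorem aliases_46 : aliasRange E 2650 118953 = true := by decide +kernel

set_option maxRecDepth 1000000 in
theorem rows_3 : rowsRange E RS 1500 4500 = true := by decide +kernel

set_option maxRecDepth 1000000 in
theorem rows_7 : rowsRange E RS 1500 10500 = true := by decide +kernel

set_option maxRecDepth 1000000 in
theorem rows_11 : rowsRange E RS 1500 16500 = true := by decide +kernel

set_option maxRecDepth 1000000 in
theorem rows_15 : rowsRange E RS 1500 22500 = true := by decide +kernel

set_option maxRecDepth 1000000 in
theorem rows_19 : rowsRange E RS 1500 28500 = true := by decide +kernel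

set_option maxRecDepth 1000000 in
theorem rows_23 : rowsRange E RS 1500 34500 = true := by decide +kernel

set_option maxRecDepth 1000000 in
theorem rows_27 : rowsRange E RS 1500 40500 = true := by decide +kernel

set_option maxRecDepth 1000000 in
theorem rows_31 : rowsRange E RS 1500 46500 = true := by decide +kernel

set_option maxRecDepth 1000000 in
theorem rows_35 : rowsRange E RS 1500 52500 = true := by decide +kernel

set_option maxRecDepth 1000000 in
theorem rows_39 : rowsRange E RS 1500 58500 = true := by decide +kernel

set_option maxRecDepth 1000000 in
theorem rows_43 : rowsRange E RS 1500 64500 = true := by decide +kernel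

set_option maxRecDepth 1000000 in
theorem rows_47 : rowsRange E RS 1500 70500 = true := by decide +kernel

set_option maxRecDepth 1000000 in
theorem rows_51 : rowsRange E RS 1500 76500 = true := by decide +kernel

set_option maxRecDepth 1000000 in
theorem rows_55 : rowsRange E RS 1500 82500 = true := by decide +kernel

set_option maxRecDepth 1000000 in
theorem rows_59 : rowsRange E RS 1500 88500 = true := by decide +kernel

set_option maxRecDepth 1000000 in
theorem rows_63 : rowsRange E RS 1500 94500 = true := by decide +kernel

set_option maxRecDepth 1000000 in
theorem rows_67 : rowsRange E RS 1500 100500 = true := by decide +kernel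

set_option maxRecDepth 1000000 in
theorem rows_71 : rowsRange E RS 1500 106500 = true := by decide +kernel

set_option maxRecDepth 1000000 in
theorem rows_75 : rowsRange E RS 1500 112500 = true := by decide +kernel

set_option maxRecDepth 1000000 in
theorem rows_79 : rowsRange E RS 1500 118500 = true := by decide +kernel

set_option maxRecDepth 1000000 in
theorem rows_83 : rowsRange E RS 1500 124500 = true := by decide +kernel

set_option maxRecDepth 1000000 in
theorem rows_87 : rowsRange E RS 1500 130500 = true := by decide +kernel

set_option maxRecDepth 1000000 in
theorem rows_91 : rowsRange E RS 1500 136500 = true := by decide +kernel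

set_option maxRecDepth 1000000 in
theorem edges_4_26 : edgesRangeI iota E 4 1033 137711 = true := by decide +kernel

set_option maxRecDepth 1000000 in
theorem edges_1_27 : edgesRangeI iota E 1 634 138110 = true := by decide +kernel

end

end Cfsg.Agent.Helper5.HNCTC
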