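import Cfsg.Agent.Helper5.HNCTCDatD
import Cfsg.Agent.Helper5.TCIB

/-! kernel checks of edges, aliases, rows: HNCTC -/

set_option autoImplicit false
set_option Elab.async false

namespace Cfsg.Agent.Helper5.HNCTC
open Cfsg.Agent.Helper5.TC Cfsg.Agent.Helper5.TCI
noncomputable section

set_option maxRecDepth 1000000 in
theorem cnt_3 : cntFrom RS 20000 60000 0 = 0 := by decide +kernel

set_option maxRecDepth 1000000 in
theorem edges_3_19 : edgesRangeI iota E 3 4967 90356 = true := by decide +kernel

set_option maxRecDepth 1000000 in
theorem edges_4_22 : edgesRangeI iota E 4 5253 115804 = true := by decide +kernel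

set_option maxRecDepth 1000000 in
theorem edges_0_14 : edgesRangeI iota E 0 3253 39685 = true := by decide +kernel

set_option maxRecDepth 1000000 in
theorem edges_0_20 : edgesRangeI iota E 0 3285 59380 = true := by decide +kernel

set_option maxRecDepth 1000000 in
theorem edges_4_9 : edgesRangeI iota E 4 5018 46386 = true := by decide +kernel

set_option maxRecDepth 1000000 in
theorem edges_1_1 : edgesRangeI iota E 1 4363 3237 = true := by decide +kernel

set_option maxRecDepth 1000000 in
theorem edges_2_15 : edgesRangeI iota E 2 4091 58549 = true := by decide +kernel

set_option maxRecDepth 1000000 in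
theorem edges_2_30 : edgesRangeI iota E 2 4113 118214 = true := by decide +kernel

set_option maxRecDepth 1000000 in
theorem edges_2_34 : edgesRangeI iota E 2 3744 134357 = true := by decide +kernel

set_option maxRecDepth 1000000 in
theorem edges_0_10 : edgesRangeI iota E 0 3225 27026 = true := by decide +kernel

set_option maxRecDepth 1000000 in
theorem edges_0_8 : edgesRangeI iota E 0 3174 20896 = true := by decide +kernel

set_option maxRecDepth 1000000 in
theorem edges_2_4 : edgesRangeI iota E 2 3971 14663 = true := by decide +kernel

set_option maxRecDepth 1000000 in
theorem edges_4_23 : edgesRangeI iota E 4 5178 121057 = true := by decide +kernel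

set_option maxRecDepth 1000000 in
theorem edges_2_21 : edgesRangeI iota E 2 3970 82383 = true := by decide +kernel

set_option maxRecDepth 1000000 in
theorem aliases_28 : aliasRange E 2497 73482 = true := by decide +kernel

set_option maxRecDepth 1000000 in
theorem aliases_51 : aliasRange E 2631 131737 = true := by decide +kernel

set_option maxRecDepth 1000000 in
theorem edges_0_25 : edgesRangeI iota E 0 3384 76314 = true := by decide +kernel

set_option maxRecDepth 1000000 in
theorem aliases_15 : aliasRange E 2699 39271 = true := by decide +kernel

set_option maxRecDepth 1000000 in
theorem aliases_45 : aliasRange E 2700 116253 = true := by decide +kernel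

set_option maxRecDepth 1000000 in
theorem edges_0_34 : edgesRangeI iota E 0 3053 107268 = true := by decide +kernel

set_option maxRecDepth 1000000 in
theorem edges_2_28 : edgesRangeI iota E 2 3787 110316 = true := by decide +kernel

set_option maxRecDepth 1000000 in
theorem edges_3_27 : edgesRangeI iota E 3 5254 129719 = true := by decide +kernel

set_option maxRecDepth 1000000 in
theorem aliases_19 : aliasRange E 2402 49844 = true := by decide +kernel

set_option maxRecDepth 1000000 in
theorem aliases_36 : aliasRange E 2716 93478 = true := by decide +kernel

set_option maxRecDepth 1000000 in
theorem edges_0_1 : edgesRangeI iota E 0 1949 1694 = true := by decide +kernel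

set_option maxRecDepth 1000000 in
theorem edges_1_3 : edgesRangeI iota E 1 5031 12328 = true := by decide +kernel

set_option maxRecDepth 1000000 in
theorem edges_1_15 : edgesRangeI iota E 1 5304 74230 = true := by decide +kernel

set_option maxRecDepth 1000000 in
theorem aliases_14 : aliasRange E 2410 36861 = true := by decide +kernel

set_option maxRecDepth 1000000 in
theorem aliases_37 : aliasRange E 2641 96194 = true := by decide +kernel

set_option maxRecDepth 1000000 in
theorem edges_0_12 : edgesRangeI iota E 0 3202 33400 = true := by decide +kernel

set_option maxRecDepth 1000000 in
theorem edges_0_23 : edgesRangeI iota E 0 3596 69300 = true := by decide +kernel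

set_option maxRecDepth 1000000 in
theorem edges_0_33 : edgesRangeI iota E 0 3332 103936 = true := by decide +kernel

set_option maxRecDepth 1000000 in
theorem edges_1_0 : edgesRangeI iota E 1 3237 0 = true := by decide +kernel

set_option maxRecDepth 1000000 in
theorem edges_1_8 : edgesRangeI iota E 1 4974 37676 = true := by decide +kernel

set_option maxRecDepth 1000000 in
theorem edges_1_13 : edgesRangeI iota E 1 5195 63763 = true := by decide +kernel

set_option maxRecDepth 1000000 in
theorem edges_1_19 : edgesRangeI iota E 1 5429 95368 = true := by decide +kernel

set_option maxRecDepth 1000000 in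
theorem edges_1_23 : edgesRangeI iota E 1 5307 116734 = true := by decide +kernel

set_option maxRecDepth 1000000 in
theorem edges_2_0 : edgesRangeI iota E 2 3209 0 = true := by decide +kernel

set_option maxRecDepth 1000000 in
theorem edges_2_9 : edgesRangeI iota E 2 3940 34170 = true := by decide +kernel

set_option maxRecDepth 1000000 in
theorem edges_2_18 : edgesRangeI iota E 2 3897 70765 = true := by decide +kernel

set_option maxRecDepth 1000000 in
theorem edges_2_27 : edgesRangeI iota E 2 3828 106488 = true := by decide +kernel

set_option maxRecDepth 1000000 in
theorem edges_3_5 : edgesRangeI iota E 3 4888 21980 = true := by decide +kernel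

set_option maxRecDepth 1000000 in
theorem edges_3_11 : edgesRangeI iota E 3 4894 50612 = true := by decide +kernel

set_option maxRecDepth 1000000 in
theorem edges_3_17 : edgesRangeI iota E 3 4956 80301 = true := by decide +kernel

set_option maxRecDepth 1000000 in
theorem edges_3_23 : edgesRangeI iota E 3 5126 109843 = true := by decide +kernel

set_option maxRecDepth 1000000 in
theorem edges_4_1 : edgesRangeI iota E 4 5196 4456 = true := by decide +kernel

set_option maxRecDepth 1000000 in
theorem edges_4_5 : edgesRangeI iota E 4 5272 25488 = true := by decide +kernel

set_option maxRecDepth 1000000 in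
theorem edges_4_11 : edgesRangeI iota E 4 5289 56840 = true := by decide +kernel

set_option maxRecDepth 1000000 in
theorem edges_4_16 : edgesRangeI iota E 4 5310 83652 = true := by decide +kernel

set_option maxRecDepth 1000000 in
theorem edges_4_25 : edgesRangeI iota E 4 5778 131933 = true := by decide +kernel

set_option maxRecDepth 1000000 in
theorem aliases_5 : aliasRange E 2796 12794 = true := by decide +kernel

set_option maxRecDepth 1000000 in
theorem aliases_23 : aliasRange E 2842 60215 = true := by decide +kernel

set_option maxRecDepth 1000000 in
theorem aliases_30 : aliasRange E 2590 78439 = true := by decide +kernel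

set_option maxRecDepth 1000000 in
theorem aliases_43 : aliasRange E 2434 111267 = true := by decide +kernel

set_option maxRecDepth 1000000 in
theorem rows_2 : rowsRange E RS 1500 3000 = true := by decide +kernel

set_option maxRecDepth 1000000 in
theorem rows_6 : rowsRange E RS 1500 9000 = true := by decide +kernel

set_option maxRecDepth 1000000 in
theorem rows_10 : rowsRange E RS 1500 15000 = true := by decide +kernel

set_option maxRecDepth 1000000 in
theorem rows_14 : rowsRange E RS 1500 21000 = true := by decide +kernel

set_option maxRecDepth 1000000 in
theorem rows_18 : rowsRange E RS 1500 27000 = true := by decide +kernel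

set_option maxRecDepth 1000000 in
theorem rows_22 : rowsRange E RS 1500 33000 = true := by decide +kernel

set_option maxRecDepth 1000000 in
theorem rows_26 : rowsRange E RS 1500 39000 = true := by decide +kernel

set_option maxRecDepth 1000000 in
theorem rows_30 : rowsRange E RS 1500 45000 = true := by decide +kernel

set_option maxRecDepth 1000000 in
theorem rows_34 : rowsRange E RS 1500 51000 = true := by decide +kernel

set_option maxRecDepth 1000000 in
theorem rows_38 : rowsRange E RS 1500 57000 = true := by decide +kernel

set_option maxRecDepth 1000000 in
theorem rows_42 : rowsRange E RS 1500 63000 = true := by decide +kernel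

set_option maxRecDepth 1000000 in
theorem rows_46 : rowsRange E RS 1500 69000 = true := by decide +kernel

set_option maxRecDepth 1000000 in
theorem rows_50 : rowsRange E RS 1500 75000 = true := by decide +kernel

set_option maxRecDepth 1000000 in
theorem rows_54 : rowsRange E RS 1500 81000 = true := by decide +kernel

set_option maxRecDepth 1000000 in
theorem rows_58 : rowsRange E RS 1500 87000 = true := by decide +kernel

set_option maxRecDepth 1000000 in
theorem rows_62 : rowsRange E RS 1500 93000 = true := by decide +kernel

set_option maxRecDepth 1000000 in
theorem rows_66 : rowsRange E RS 1500 99000 = true := by decide +kernel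

set_option maxRecDepth 1000000 in
theorem rows_70 : rowsRange E RS 1500 105000 = true := by decide +kernel

set_option maxRecDepth 1000000 in
theorem rows_74 : rowsRange E RS 1500 111000 = true := by decide +kernel

set_option maxRecDepth 1000000 in
theorem rows_78 : rowsRange E RS 1500 117000 = true := by decide +kernel

set_option maxRecDepth 1000000 in
theorem rows_82 : rowsRange E RS 1500 123000 = true := by decide +kernel

set_option maxRecDepth 1000000 in
theorem rows_86 : rowsRange E RS 1500 129000 = true := by decide +kernel

set_option maxRecDepth 1000000 in
theorem rows_90 : rowsRange E RS 1500 135000 = true := by decide +kernel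

set_option maxRecDepth 1000000 in
theorem rows_92 : rowsRange E RS 744 138000 = true := by decide +kernel

end

end Cfsg.Agent.Helper5.HNCTC
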