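import Cfsg.Agent.Helper5.HNCTCChkE0
import Cfsg.Agent.Helper5.HNCTCChkE1
import Cfsg.Agent.Helper5.HNCTCChkE2
import Cfsg.Agent.Helper5.HNCTCChkE3
import Cfsg.Agent.Helper5.HNCTCChkR0
import Cfsg.Agent.Helper5.HNCTCChkA
import Cfsg.Agent.Helper5.TCIB

/-! summary of the kernel checks: HNCTC -/

set_option autoImplicit false
set_option Elab.async false

namespace Cfsg.Agent.Helper5.HNCTC
open Cfsg.Agent.Helper5.TC Cfsg.Agent.Helper5.TCI
noncomputable section

theorem edgesx_0 : ∀ v, v < 138744 → edgeOKI iota E 0 v = true := by
  intro v hv
  rcases Nat.lt_or_ge v 65828 with h | h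
  · rcases Nat.lt_or_ge v 30251 with h | h
    · rcases Nat.lt_or_ge v 11456 with h | h
      · rcases Nat.lt_or_ge v 3643 with h | h
        · rcases Nat.lt_or_ge v 1694 with h | h
          · exact edgesRangeI_spec iota E 0 1694 0 edges_0_0 v (by omega) (by omega)
          · exact edgesRangeI_spec iota E 0 1949 1694 edges_0_1 v (by omega) (by omega)
        · rcases Nat.lt_or_ge v 5886 with h | h
          · exact edgesRangeI_spec iota E 0 2243 3643 edges_0_2 v (by omega) (by omega)
          · rcases Nat.lt_or_ge v 8548 with h | h
            · exact edgesRangeI_spec iota E 0 2662 5886 edges_0_3 v (by omega) (by omega)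
            · exact edgesRangeI_spec iota E 0 2908 8548 edges_0_4 v (by omega) (by omega)
      · rcases Nat.lt_or_ge v 20896 with h | h
        · rcases Nat.lt_or_ge v 14466 with h | h
          · exact edgesRangeI_spec iota E 0 3010 11456 edges_0_5 v (by omega) (by omega)
          · rcases Nat.lt_or_ge v 17603 with h | h
            · exact edgesRangeI_spec iota E 0 3137 14466 edges_0_6 v (by omega) (by omega)
            · exact edgesRangeI_spec iota E 0 3293 17603 edges_0_7 v (by omega) (by omega)
        · rcases Nat.lt_or_ge v 24070 with h | h
          · exact edgesRangeI_spec iota E 0 3174 20896 edges_0_8 v (by omega) (by omega)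
          · rcases Nat.lt_or_ge v 27026 with h | h
            · exact edgesRangeI_spec iota E 0 2956 24070 edges_0_9 v (by omega) (by omega)
            · exact edgesRangeI_spec iota E 0 3225 27026 edges_0_10 v (by omega) (by omega)
    · rcases Nat.lt_or_ge v 46207 with h | h
      · rcases Nat.lt_or_ge v 36602 with h | h
        · rcases Nat.lt_or_ge v 33400 with h | h
          · exact edgesRangeI_spec iota E 0 3149 30251 edges_0_11 v (by omega) (by omega)
          · exact edgesRangeI_spec iota E 0 3202 33400 edges_0_12 v (by omega) (by omega)
        · rcases Nat.lt_or_ge v 39685 with h | h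
          · exact edgesRangeI_spec iota E 0 3083 36602 edges_0_13 v (by omega) (by omega)
          · rcases Nat.lt_or_ge v 42938 with h | h
            · exact edgesRangeI_spec iota E 0 3253 39685 edges_0_14 v (by omega) (by omega)
            · exact edgesRangeI_spec iota E 0 3269 42938 edges_0_15 v (by omega) (by omega)
      · rcases Nat.lt_or_ge v 55807 with h | h
        · rcases Nat.lt_or_ge v 49064 with h | h
          · exact edgesRangeI_spec iota E 0 2857 46207 edges_0_16 v (by omega) (by omega)
          · rcases Nat.lt_or_ge v 52135 with h | h
            · exact edgesRangeI_spec iota E 0 3071 49064 edges_0_17 v (by omega) (by omega)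
            · exact edgesRangeI_spec iota E 0 3672 52135 edges_0_18 v (by omega) (by omega)
        · rcases Nat.lt_or_ge v 59380 with h | h
          · exact edgesRangeI_spec iota E 0 3573 55807 edges_0_19 v (by omega) (by omega)
          · rcases Nat.lt_or_ge v 62665 with h | h
            · exact edgesRangeI_spec iota E 0 3285 59380 edges_0_20 v (by omega) (by omega)
            · exact edgesRangeI_spec iota E 0 3163 62665 edges_0_21 v (by omega) (by omega)
  · rcases Nat.lt_or_ge v 103936 with h | h
    · rcases Nat.lt_or_ge v 83101 with h | h
      · rcases Nat.lt_or_ge v 72896 with h | h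
        · rcases Nat.lt_or_ge v 69300 with h | h
          · exact edgesRangeI_spec iota E 0 3472 65828 edges_0_22 v (by omega) (by omega)
          · exact edgesRangeI_spec iota E 0 3596 69300 edges_0_23 v (by omega) (by omega)
        · rcases Nat.lt_or_ge v 76314 with h | h
          · exact edgesRangeI_spec iota E 0 3418 72896 edges_0_24 v (by omega) (by omega)
          · rcases Nat.lt_or_ge v 79698 with h | h
            · exact edgesRangeI_spec iota E 0 3384 76314 edges_0_25 v (by omega) (by omega)
            · exact edgesRangeI_spec iota E 0 3403 79698 edges_0_26 v (by omega) (by omega)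
      · rcases Nat.lt_or_ge v 93316 with h | h
        · rcases Nat.lt_or_ge v 86430 with h | h
          · exact edgesRangeI_spec iota E 0 3329 83101 edges_0_27 v (by omega) (by omega)
          · rcases Nat.lt_or_ge v 89819 with h | h
            · exact edgesRangeI_spec iota E 0 3389 86430 edges_0_28 v (by omega) (by omega)
            · exact edgesRangeI_spec iota E 0 3497 89819 edges_0_29 v (by omega) (by omega)
        · rcases Nat.lt_or_ge v 96990 with h | h
          · exact edgesRangeI_spec iota E 0 3674 93316 edges_0_30 v (by omega) (by omega)
          · rcases Nat.lt_or_ge v 100488 with h | h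
            · exact edgesRangeI_spec iota E 0 3498 96990 edges_0_31 v (by omega) (by omega)
            · exact edgesRangeI_spec iota E 0 3448 100488 edges_0_32 v (by omega) (by omega)
    · rcases Nat.lt_or_ge v 120727 with h | h
      · rcases Nat.lt_or_ge v 110321 with h | h
        · rcases Nat.lt_or_ge v 107268 with h | h
          · exact edgesRangeI_spec iota E 0 3332 103936 edges_0_33 v (by omega) (by omega)
          · exact edgesRangeI_spec iota E 0 3053 107268 edges_0_34 v (by omega) (by omega)
        · rcases Nat.lt_or_ge v 113686 with h | h
          · exact edgesRangeI_spec iota E 0 3365 110321 edges_0_35 v (by omega) (by omega)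
          · rcases Nat.lt_or_ge v 117289 with h | h
            · exact edgesRangeI_spec iota E 0 3603 113686 edges_0_36 v (by omega) (by omega)
            · exact edgesRangeI_spec iota E 0 3438 117289 edges_0_37 v (by omega) (by omega)
      · rcases Nat.lt_or_ge v 131284 with h | h
        · rcases Nat.lt_or_ge v 124223 with h | h
          · exact edgesRangeI_spec iota E 0 3496 120727 edges_0_38 v (by omega) (by omega)
          · rcases Nat.lt_or_ge v 127690 with h | h
            · exact edgesRangeI_spec iota E 0 3467 124223 edges_0_39 v (by omega) (by omega)
            · exact edgesRangeI_spec iota E 0 3594 127690 edges_0_40 v (by omega) (by omega)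
        · rcases Nat.lt_or_ge v 134946 with h | h
          · exact edgesRangeI_spec iota E 0 3662 131284 edges_0_41 v (by omega) (by omega)
          · rcases Nat.lt_or_ge v 138504 with h | h
            · exact edgesRangeI_spec iota E 0 3558 134946 edges_0_42 v (by omega) (by omega)
            · exact edgesRangeI_spec iota E 0 240 138504 edges_0_43 v (by omega) (by omega)

theorem edgesx_1 : ∀ v, v < 138744 → edgeOKI iota E 1 v = true := by
  intro v hv
  rcases Nat.lt_or_ge v 68958 with h | h
  · rcases Nat.lt_or_ge v 32557 with h | h
    · rcases Nat.lt_or_ge v 12328 with h | h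
      · rcases Nat.lt_or_ge v 3237 with h | h
        · exact edgesRangeI_spec iota E 1 3237 0 edges_1_0 v (by omega) (by omega)
        · rcases Nat.lt_or_ge v 7600 with h | h
          · exact edgesRangeI_spec iota E 1 4363 3237 edges_1_1 v (by omega) (by omega)
          · exact edgesRangeI_spec iota E 1 4728 7600 edges_1_2 v (by omega) (by omega)
      · rcases Nat.lt_or_ge v 22517 with h | h
        · rcases Nat.lt_or_ge v 17359 with h | h
          · exact edgesRangeI_spec iota E 1 5031 12328 edges_1_3 v (by omega) (by omega)
          · exact edgesRangeI_spec iota E 1 5158 17359 edges_1_4 v (by omega) (by omega)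
        · rcases Nat.lt_or_ge v 27529 with h | h
          · exact edgesRangeI_spec iota E 1 5012 22517 edges_1_5 v (by omega) (by omega)
          · exact edgesRangeI_spec iota E 1 5028 27529 edges_1_6 v (by omega) (by omega)
    · rcases Nat.lt_or_ge v 47889 with h | h
      · rcases Nat.lt_or_ge v 37676 with h | h
        · exact edgesRangeI_spec iota E 1 5119 32557 edges_1_7 v (by omega) (by omega)
        · rcases Nat.lt_or_ge v 42650 with h | h
          · exact edgesRangeI_spec iota E 1 4974 37676 edges_1_8 v (by omega) (by omega)
          · exact edgesRangeI_spec iota E 1 5239 42650 edges_1_9 v (by omega) (by omega)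
      · rcases Nat.lt_or_ge v 58467 with h | h
        · rcases Nat.lt_or_ge v 53049 with h | h
          · exact edgesRangeI_spec iota E 1 5160 47889 edges_1_10 v (by omega) (by omega)
          · exact edgesRangeI_spec iota E 1 5418 53049 edges_1_11 v (by omega) (by omega)
        · rcases Nat.lt_or_ge v 63763 with h | h
          · exact edgesRangeI_spec iota E 1 5296 58467 edges_1_12 v (by omega) (by omega)
          · exact edgesRangeI_spec iota E 1 5195 63763 edges_1_13 v (by omega) (by omega)
  · rcases Nat.lt_or_ge v 106030 with h | h
    · rcases Nat.lt_or_ge v 84651 with h | h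
      · rcases Nat.lt_or_ge v 74230 with h | h
        · exact edgesRangeI_spec iota E 1 5272 68958 edges_1_14 v (by omega) (by omega)
        · rcases Nat.lt_or_ge v 79534 with h | h
          · exact edgesRangeI_spec iota E 1 5304 74230 edges_1_15 v (by omega) (by omega)
          · exact edgesRangeI_spec iota E 1 5117 79534 edges_1_16 v (by omega) (by omega)
      · rcases Nat.lt_or_ge v 95368 with h | h
        · rcases Nat.lt_or_ge v 90064 with h | h
          · exact edgesRangeI_spec iota E 1 5413 84651 edges_1_17 v (by omega) (by omega)
          · exact edgesRangeI_spec iota E 1 5304 90064 edges_1_18 v (by omega) (by omega)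
        · rcases Nat.lt_or_ge v 100797 with h | h
          · exact edgesRangeI_spec iota E 1 5429 95368 edges_1_19 v (by omega) (by omega)
          · exact edgesRangeI_spec iota E 1 5233 100797 edges_1_20 v (by omega) (by omega)
    · rcases Nat.lt_or_ge v 122041 with h | h
      · rcases Nat.lt_or_ge v 111271 with h | h
        · exact edgesRangeI_spec iota E 1 5241 106030 edges_1_21 v (by omega) (by omega)
        · rcases Nat.lt_or_ge v 116734 with h | h
          · exact edgesRangeI_spec iota E 1 5463 111271 edges_1_22 v (by omega) (by omega)
          · exact edgesRangeI_spec iota E 1 5307 116734 edges_1_23 v (by omega) (by omega)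
      · rcases Nat.lt_or_ge v 132744 with h | h
        · rcases Nat.lt_or_ge v 127441 with h | h
          · exact edgesRangeI_spec iota E 1 5400 122041 edges_1_24 v (by omega) (by omega)
          · exact edgesRangeI_spec iota E 1 5303 127441 edges_1_25 v (by omega) (by omega)
        · rcases Nat.lt_or_ge v 138110 with h | h
          · exact edgesRangeI_spec iota E 1 5366 132744 edges_1_26 v (by omega) (by omega)
          · exact edgesRangeI_spec iota E 1 634 138110 edges_1_27 v (by omega) (by omega)

theorem edgesx_2 : ∀ v, v < 138744 → edgeOKI iota E 2 v = true := by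
  intro v hv
  rcases Nat.lt_or_ge v 70765 with h | h
  · rcases Nat.lt_or_ge v 34170 with h | h
    · rcases Nat.lt_or_ge v 14663 with h | h
      · rcases Nat.lt_or_ge v 6995 with h | h
        · rcases Nat.lt_or_ge v 3209 with h | h
          · exact edgesRangeI_spec iota E 2 3209 0 edges_2_0 v (by omega) (by omega)
          · exact edgesRangeI_spec iota E 2 3786 3209 edges_2_1 v (by omega) (by omega)
        · rcases Nat.lt_or_ge v 10730 with h | h
          · exact edgesRangeI_spec iota E 2 3735 6995 edges_2_2 v (by omega) (by omega)
          · exact edgesRangeI_spec iota E 2 3933 10730 edges_2_3 v (by omega) (by omega)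
      · rcases Nat.lt_or_ge v 22499 with h | h
        · rcases Nat.lt_or_ge v 18634 with h | h
          · exact edgesRangeI_spec iota E 2 3971 14663 edges_2_4 v (by omega) (by omega)
          · exact edgesRangeI_spec iota E 2 3865 18634 edges_2_5 v (by omega) (by omega)
        · rcases Nat.lt_or_ge v 26328 with h | h
          · exact edgesRangeI_spec iota E 2 3829 22499 edges_2_6 v (by omega) (by omega)
          · rcases Nat.lt_or_ge v 30310 with h | h
            · exact edgesRangeI_spec iota E 2 3982 26328 edges_2_7 v (by omega) (by omega)
            · exact edgesRangeI_spec iota E 2 3860 30310 edges_2_8 v (by omega) (by omega)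
    · rcases Nat.lt_or_ge v 50303 with h | h
      · rcases Nat.lt_or_ge v 42072 with h | h
        · rcases Nat.lt_or_ge v 38110 with h | h
          · exact edgesRangeI_spec iota E 2 3940 34170 edges_2_9 v (by omega) (by omega)
          · exact edgesRangeI_spec iota E 2 3962 38110 edges_2_10 v (by omega) (by omega)
        · rcases Nat.lt_or_ge v 46320 with h | h
          · exact edgesRangeI_spec iota E 2 4248 42072 edges_2_11 v (by omega) (by omega)
          · exact edgesRangeI_spec iota E 2 3983 46320 edges_2_12 v (by omega) (by omega)
      · rcases Nat.lt_or_ge v 58549 with h | h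
        · rcases Nat.lt_or_ge v 54354 with h | h
          · exact edgesRangeI_spec iota E 2 4051 50303 edges_2_13 v (by omega) (by omega)
          · exact edgesRangeI_spec iota E 2 4195 54354 edges_2_14 v (by omega) (by omega)
        · rcases Nat.lt_or_ge v 62640 with h | h
          · exact edgesRangeI_spec iota E 2 4091 58549 edges_2_15 v (by omega) (by omega)
          · rcases Nat.lt_or_ge v 66625 with h | h
            · exact edgesRangeI_spec iota E 2 3985 62640 edges_2_16 v (by omega) (by omega)
            · exact edgesRangeI_spec iota E 2 4140 66625 edges_2_17 v (by omega) (by omega)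
  · rcases Nat.lt_or_ge v 106488 with h | h
    · rcases Nat.lt_or_ge v 86353 with h | h
      · rcases Nat.lt_or_ge v 78663 with h | h
        · rcases Nat.lt_or_ge v 74662 with h | h
          · exact edgesRangeI_spec iota E 2 3897 70765 edges_2_18 v (by omega) (by omega)
          · exact edgesRangeI_spec iota E 2 4001 74662 edges_2_19 v (by omega) (by omega)
        · rcases Nat.lt_or_ge v 82383 with h | h
          · exact edgesRangeI_spec iota E 2 3720 78663 edges_2_20 v (by omega) (by omega)
          · exact edgesRangeI_spec iota E 2 3970 82383 edges_2_21 v (by omega) (by omega)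
      · rcases Nat.lt_or_ge v 94183 with h | h
        · rcases Nat.lt_or_ge v 90170 with h | h
          · exact edgesRangeI_spec iota E 2 3817 86353 edges_2_22 v (by omega) (by omega)
          · exact edgesRangeI_spec iota E 2 4013 90170 edges_2_23 v (by omega) (by omega)
        · rcases Nat.lt_or_ge v 98402 with h | h
          · exact edgesRangeI_spec iota E 2 4219 94183 edges_2_24 v (by omega) (by omega)
          · rcases Nat.lt_or_ge v 102389 with h | h
            · exact edgesRangeI_spec iota E 2 3987 98402 edges_2_25 v (by omega) (by omega)
            · exact edgesRangeI_spec iota E 2 4099 102389 edges_2_26 v (by omega) (by omega)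
    · rcases Nat.lt_or_ge v 122327 with h | h
      · rcases Nat.lt_or_ge v 114103 with h | h
        · rcases Nat.lt_or_ge v 110316 with h | h
          · exact edgesRangeI_spec iota E 2 3828 106488 edges_2_27 v (by omega) (by omega)
          · exact edgesRangeI_spec iota E 2 3787 110316 edges_2_28 v (by omega) (by omega)
        · rcases Nat.lt_or_ge v 118214 with h | h
          · exact edgesRangeI_spec iota E 2 4111 114103 edges_2_29 v (by omega) (by omega)
          · exact edgesRangeI_spec iota E 2 4113 118214 edges_2_30 v (by omega) (by omega)
      · rcases Nat.lt_or_ge v 130375 with h | h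
        · rcases Nat.lt_or_ge v 126356 with h | h
          · exact edgesRangeI_spec iota E 2 4029 122327 edges_2_31 v (by omega) (by omega)
          · exact edgesRangeI_spec iota E 2 4019 126356 edges_2_32 v (by omega) (by omega)
        · rcases Nat.lt_or_ge v 134357 with h | h
          · exact edgesRangeI_spec iota E 2 3982 130375 edges_2_33 v (by omega) (by omega)
          · rcases Nat.lt_or_ge v 138101 with h | h
            · exact edgesRangeI_spec iota E 2 3744 134357 edges_2_34 v (by omega) (by omega)
            · exact edgesRangeI_spec iota E 2 643 138101 edges_2_35 v (by omega) (by omega)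

theorem edgesx_3 : ∀ v, v < 138744 → edgeOKI iota E 3 v = true := by
  intro v hv
  rcases Nat.lt_or_ge v 65377 with h | h
  · rcases Nat.lt_or_ge v 31730 with h | h
    · rcases Nat.lt_or_ge v 12420 with h | h
      · rcases Nat.lt_or_ge v 3655 with h | h
        · exact edgesRangeI_spec iota E 3 3655 0 edges_3_0 v (by omega) (by omega)
        · rcases Nat.lt_or_ge v 7699 with h | h
          · exact edgesRangeI_spec iota E 3 4044 3655 edges_3_1 v (by omega) (by omega)
          · exact edgesRangeI_spec iota E 3 4721 7699 edges_3_2 v (by omega) (by omega)
      · rcases Nat.lt_or_ge v 21980 with h | h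
        · rcases Nat.lt_or_ge v 17187 with h | h
          · exact edgesRangeI_spec iota E 3 4767 12420 edges_3_3 v (by omega) (by omega)
          · exact edgesRangeI_spec iota E 3 4793 17187 edges_3_4 v (by omega) (by omega)
        · rcases Nat.lt_or_ge v 26868 with h | h
          · exact edgesRangeI_spec iota E 3 4888 21980 edges_3_5 v (by omega) (by omega)
          · exact edgesRangeI_spec iota E 3 4862 26868 edges_3_6 v (by omega) (by omega)
    · rcases Nat.lt_or_ge v 46094 with h | h
      · rcases Nat.lt_or_ge v 36428 with h | h
        · exact edgesRangeI_spec iota E 3 4698 31730 edges_3_7 v (by omega) (by omega)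
        · rcases Nat.lt_or_ge v 41328 with h | h
          · exact edgesRangeI_spec iota E 3 4900 36428 edges_3_8 v (by omega) (by omega)
          · exact edgesRangeI_spec iota E 3 4766 41328 edges_3_9 v (by omega) (by omega)
      · rcases Nat.lt_or_ge v 55506 with h | h
        · rcases Nat.lt_or_ge v 50612 with h | h
          · exact edgesRangeI_spec iota E 3 4518 46094 edges_3_10 v (by omega) (by omega)
          · exact edgesRangeI_spec iota E 3 4894 50612 edges_3_11 v (by omega) (by omega)
        · rcases Nat.lt_or_ge v 60424 with h | h
          · exact edgesRangeI_spec iota E 3 4918 55506 edges_3_12 v (by omega) (by omega)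
          · exact edgesRangeI_spec iota E 3 4953 60424 edges_3_13 v (by omega) (by omega)
  · rcases Nat.lt_or_ge v 100187 with h | h
    · rcases Nat.lt_or_ge v 80301 with h | h
      · rcases Nat.lt_or_ge v 70245 with h | h
        · exact edgesRangeI_spec iota E 3 4868 65377 edges_3_14 v (by omega) (by omega)
        · rcases Nat.lt_or_ge v 75374 with h | h
          · exact edgesRangeI_spec iota E 3 5129 70245 edges_3_15 v (by omega) (by omega)
          · exact edgesRangeI_spec iota E 3 4927 75374 edges_3_16 v (by omega) (by omega)
      · rcases Nat.lt_or_ge v 90356 with h | h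
        · rcases Nat.lt_or_ge v 85257 with h | h
          · exact edgesRangeI_spec iota E 3 4956 80301 edges_3_17 v (by omega) (by omega)
          · exact edgesRangeI_spec iota E 3 5099 85257 edges_3_18 v (by omega) (by omega)
        · rcases Nat.lt_or_ge v 95323 with h | h
          · exact edgesRangeI_spec iota E 3 4967 90356 edges_3_19 v (by omega) (by omega)
          · exact edgesRangeI_spec iota E 3 4864 95323 edges_3_20 v (by omega) (by omega)
    · rcases Nat.lt_or_ge v 119724 with h | h
      · rcases Nat.lt_or_ge v 109843 with h | h
        · rcases Nat.lt_or_ge v 105065 with h | h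
          · exact edgesRangeI_spec iota E 3 4878 100187 edges_3_21 v (by omega) (by omega)
          · exact edgesRangeI_spec iota E 3 4778 105065 edges_3_22 v (by omega) (by omega)
        · rcases Nat.lt_or_ge v 114969 with h | h
          · exact edgesRangeI_spec iota E 3 5126 109843 edges_3_23 v (by omega) (by omega)
          · exact edgesRangeI_spec iota E 3 4755 114969 edges_3_24 v (by omega) (by omega)
      · rcases Nat.lt_or_ge v 129719 with h | h
        · rcases Nat.lt_or_ge v 124865 with h | h
          · exact edgesRangeI_spec iota E 3 5141 119724 edges_3_25 v (by omega) (by omega)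
          · exact edgesRangeI_spec iota E 3 4854 124865 edges_3_26 v (by omega) (by omega)
        · rcases Nat.lt_or_ge v 134973 with h | h
          · exact edgesRangeI_spec iota E 3 5254 129719 edges_3_27 v (by omega) (by omega)
          · exact edgesRangeI_spec iota E 3 3771 134973 edges_3_28 v (by omega) (by omega)

theorem edgesx_4 : ∀ v, v < 138744 → edgeOKI iota E 4 v = true := by
  intro v hv
  rcases Nat.lt_or_ge v 67447 with h | h
  · rcases Nat.lt_or_ge v 30760 with h | h
    · rcases Nat.lt_or_ge v 14647 with h | h
      · rcases Nat.lt_or_ge v 4456 with h | h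
        · exact edgesRangeI_spec iota E 4 4456 0 edges_4_0 v (by omega) (by omega)
        · rcases Nat.lt_or_ge v 9652 with h | h
          · exact edgesRangeI_spec iota E 4 5196 4456 edges_4_1 v (by omega) (by omega)
          · exact edgesRangeI_spec iota E 4 4995 9652 edges_4_2 v (by omega) (by omega)
      · rcases Nat.lt_or_ge v 20006 with h | h
        · exact edgesRangeI_spec iota E 4 5359 14647 edges_4_3 v (by omega) (by omega)
        · rcases Nat.lt_or_ge v 25488 with h | h
          · exact edgesRangeI_spec iota E 4 5482 20006 edges_4_4 v (by omega) (by omega)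
          · exact edgesRangeI_spec iota E 4 5272 25488 edges_4_5 v (by omega) (by omega)
    · rcases Nat.lt_or_ge v 46386 with h | h
      · rcases Nat.lt_or_ge v 35817 with h | h
        · exact edgesRangeI_spec iota E 4 5057 30760 edges_4_6 v (by omega) (by omega)
        · rcases Nat.lt_or_ge v 41282 with h | h
          · exact edgesRangeI_spec iota E 4 5465 35817 edges_4_7 v (by omega) (by omega)
          · exact edgesRangeI_spec iota E 4 5104 41282 edges_4_8 v (by omega) (by omega)
      · rcases Nat.lt_or_ge v 56840 with h | h
        · rcases Nat.lt_or_ge v 51404 with h | h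
          · exact edgesRangeI_spec iota E 4 5018 46386 edges_4_9 v (by omega) (by omega)
          · exact edgesRangeI_spec iota E 4 5436 51404 edges_4_10 v (by omega) (by omega)
        · rcases Nat.lt_or_ge v 62129 with h | h
          · exact edgesRangeI_spec iota E 4 5289 56840 edges_4_11 v (by omega) (by omega)
          · exact edgesRangeI_spec iota E 4 5318 62129 edges_4_12 v (by omega) (by omega)
  · rcases Nat.lt_or_ge v 105139 with h | h
    · rcases Nat.lt_or_ge v 83652 with h | h
      · rcases Nat.lt_or_ge v 72932 with h | h
        · exact edgesRangeI_spec iota E 4 5485 67447 edges_4_13 v (by omega) (by omega)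
        · rcases Nat.lt_or_ge v 78268 with h | h
          · exact edgesRangeI_spec iota E 4 5336 72932 edges_4_14 v (by omega) (by omega)
          · exact edgesRangeI_spec iota E 4 5384 78268 edges_4_15 v (by omega) (by omega)
      · rcases Nat.lt_or_ge v 94592 with h | h
        · rcases Nat.lt_or_ge v 88962 with h | h
          · exact edgesRangeI_spec iota E 4 5310 83652 edges_4_16 v (by omega) (by omega)
          · exact edgesRangeI_spec iota E 4 5630 88962 edges_4_17 v (by omega) (by omega)
        · rcases Nat.lt_or_ge v 99978 with h | h
          · exact edgesRangeI_spec iota E 4 5386 94592 edges_4_18 v (by omega) (by omega)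
          · exact edgesRangeI_spec iota E 4 5161 99978 edges_4_19 v (by omega) (by omega)
    · rcases Nat.lt_or_ge v 121057 with h | h
      · rcases Nat.lt_or_ge v 110393 with h | h
        · exact edgesRangeI_spec iota E 4 5254 105139 edges_4_20 v (by omega) (by omega)
        · rcases Nat.lt_or_ge v 115804 with h | h
          · exact edgesRangeI_spec iota E 4 5411 110393 edges_4_21 v (by omega) (by omega)
          · exact edgesRangeI_spec iota E 4 5253 115804 edges_4_22 v (by omega) (by omega)
      · rcases Nat.lt_or_ge v 131933 with h | h
        · rcases Nat.lt_or_ge v 126235 with h | h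
          · exact edgesRangeI_spec iota E 4 5178 121057 edges_4_23 v (by omega) (by omega)
          · exact edgesRangeI_spec iota E 4 5698 126235 edges_4_24 v (by omega) (by omega)
        · rcases Nat.lt_or_ge v 137711 with h | h
          · exact edgesRangeI_spec iota E 4 5778 131933 edges_4_25 v (by omega) (by omega)
          · exact edgesRangeI_spec iota E 4 1033 137711 edges_4_26 v (by omega) (by omega)

theorem hA0 : ∀ v, v < 138744 → aliasOK E v = true := by
  intro v hv
  rcases Nat.lt_or_ge v 70995 with h | h
  · rcases Nat.lt_or_ge v 34300 with h | h
    · rcases Nat.lt_or_ge v 15590 with h | h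
      · rcases Nat.lt_or_ge v 7598 with h | h
        · rcases Nat.lt_or_ge v 2443 with h | h
          · exact aliasRange_spec E 2443 0 aliases_0 v (by omega) (by omega)
          · rcases Nat.lt_or_ge v 5085 with h | h
            · exact aliasRange_spec E 2642 2443 aliases_1 v (by omega) (by omega)
            · exact aliasRange_spec E 2513 5085 aliases_2 v (by omega) (by omega)
        · rcases Nat.lt_or_ge v 10190 with h | h
          · exact aliasRange_spec E 2592 7598 aliases_3 v (by omega) (by omega)
          · rcases Nat.lt_or_ge v 12794 with h | h
            · exact aliasRange_spec E 2604 10190 aliases_4 v (by omega) (by omega)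
            · exact aliasRange_spec E 2796 12794 aliases_5 v (by omega) (by omega)
      · rcases Nat.lt_or_ge v 24041 with h | h
        · rcases Nat.lt_or_ge v 18667 with h | h
          · exact aliasRange_spec E 3077 15590 aliases_6 v (by omega) (by omega)
          · rcases Nat.lt_or_ge v 21414 with h | h
            · exact aliasRange_spec E 2747 18667 aliases_7 v (by omega) (by omega)
            · exact aliasRange_spec E 2627 21414 aliases_8 v (by omega) (by omega)
        · rcases Nat.lt_or_ge v 29075 with h | h
          · rcases Nat.lt_or_ge v 26610 with h | h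
            · exact aliasRange_spec E 2569 24041 aliases_9 v (by omega) (by omega)
            · exact aliasRange_spec E 2465 26610 aliases_10 v (by omega) (by omega)
          · rcases Nat.lt_or_ge v 31608 with h | h
            · exact aliasRange_spec E 2533 29075 aliases_11 v (by omega) (by omega)
            · exact aliasRange_spec E 2692 31608 aliases_12 v (by omega) (by omega)
    · rcases Nat.lt_or_ge v 52246 with h | h
      · rcases Nat.lt_or_ge v 41970 with h | h
        · rcases Nat.lt_or_ge v 36861 with h | h
          · exact aliasRange_spec E 2561 34300 aliases_13 v (by omega) (by omega)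
          · rcases Nat.lt_or_ge v 39271 with h | h
            · exact aliasRange_spec E 2410 36861 aliases_14 v (by omega) (by omega)
            · exact aliasRange_spec E 2699 39271 aliases_15 v (by omega) (by omega)
        · rcases Nat.lt_or_ge v 47152 with h | h
          · rcases Nat.lt_or_ge v 44530 with h | h
            · exact aliasRange_spec E 2560 41970 aliases_16 v (by omega) (by omega)
            · exact aliasRange_spec E 2622 44530 aliases_17 v (by omega) (by omega)
          · rcases Nat.lt_or_ge v 49844 with h | h
            · exact aliasRange_spec E 2692 47152 aliases_18 v (by omega) (by omega)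
            · exact aliasRange_spec E 2402 49844 aliases_19 v (by omega) (by omega)
      · rcases Nat.lt_or_ge v 60215 with h | h
        · rcases Nat.lt_or_ge v 54774 with h | h
          · exact aliasRange_spec E 2528 52246 aliases_20 v (by omega) (by omega)
          · rcases Nat.lt_or_ge v 57222 with h | h
            · exact aliasRange_spec E 2448 54774 aliases_21 v (by omega) (by omega)
            · exact aliasRange_spec E 2993 57222 aliases_22 v (by omega) (by omega)
        · rcases Nat.lt_or_ge v 65910 with h | h
          · rcases Nat.lt_or_ge v 63057 with h | h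
            · exact aliasRange_spec E 2842 60215 aliases_23 v (by omega) (by omega)
            · exact aliasRange_spec E 2853 63057 aliases_24 v (by omega) (by omega)
          · rcases Nat.lt_or_ge v 68661 with h | h
            · exact aliasRange_spec E 2751 65910 aliases_25 v (by omega) (by omega)
            · exact aliasRange_spec E 2334 68661 aliases_26 v (by omega) (by omega)
  · rcases Nat.lt_or_ge v 103963 with h | h
    · rcases Nat.lt_or_ge v 85910 with h | h
      · rcases Nat.lt_or_ge v 78439 with h | h
        · rcases Nat.lt_or_ge v 73482 with h | h
          · exact aliasRange_spec E 2487 70995 aliases_27 v (by omega) (by omega)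
          · rcases Nat.lt_or_ge v 75979 with h | h
            · exact aliasRange_spec E 2497 73482 aliases_28 v (by omega) (by omega)
            · exact aliasRange_spec E 2460 75979 aliases_29 v (by omega) (by omega)
        · rcases Nat.lt_or_ge v 81029 with h | h
          · exact aliasRange_spec E 2590 78439 aliases_30 v (by omega) (by omega)
          · rcases Nat.lt_or_ge v 83527 with h | h
            · exact aliasRange_spec E 2498 81029 aliases_31 v (by omega) (by omega)
            · exact aliasRange_spec E 2383 83527 aliases_32 v (by omega) (by omega)
      · rcases Nat.lt_or_ge v 93478 with h | h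
        · rcases Nat.lt_or_ge v 88334 with h | h
          · exact aliasRange_spec E 2424 85910 aliases_33 v (by omega) (by omega)
          · rcases Nat.lt_or_ge v 90752 with h | h
            · exact aliasRange_spec E 2418 88334 aliases_34 v (by omega) (by omega)
            · exact aliasRange_spec E 2726 90752 aliases_35 v (by omega) (by omega)
        · rcases Nat.lt_or_ge v 98835 with h | h
          · rcases Nat.lt_or_ge v 96194 with h | h
            · exact aliasRange_spec E 2716 93478 aliases_36 v (by omega) (by omega)
            · exact aliasRange_spec E 2641 96194 aliases_37 v (by omega) (by omega)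
          · rcases Nat.lt_or_ge v 101273 with h | h
            · exact aliasRange_spec E 2438 98835 aliases_38 v (by omega) (by omega)
            · exact aliasRange_spec E 2690 101273 aliases_39 v (by omega) (by omega)
    · rcases Nat.lt_or_ge v 121603 with h | h
      · rcases Nat.lt_or_ge v 111267 with h | h
        · rcases Nat.lt_or_ge v 106397 with h | h
          · exact aliasRange_spec E 2434 103963 aliases_40 v (by omega) (by omega)
          · rcases Nat.lt_or_ge v 108768 with h | h
            · exact aliasRange_spec E 2371 106397 aliases_41 v (by omega) (by omega)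
            · exact aliasRange_spec E 2499 108768 aliases_42 v (by omega) (by omega)
        · rcases Nat.lt_or_ge v 116253 with h | h
          · rcases Nat.lt_or_ge v 113701 with h | h
            · exact aliasRange_spec E 2434 111267 aliases_43 v (by omega) (by omega)
            · exact aliasRange_spec E 2552 113701 aliases_44 v (by omega) (by omega)
          · rcases Nat.lt_or_ge v 118953 with h | h
            · exact aliasRange_spec E 2700 116253 aliases_45 v (by omega) (by omega)
            · exact aliasRange_spec E 2650 118953 aliases_46 v (by omega) (by omega)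
      · rcases Nat.lt_or_ge v 129314 with h | h
        · rcases Nat.lt_or_ge v 124102 with h | h
          · exact aliasRange_spec E 2499 121603 aliases_47 v (by omega) (by omega)
          · rcases Nat.lt_or_ge v 126551 with h | h
            · exact aliasRange_spec E 2449 124102 aliases_48 v (by omega) (by omega)
            · exact aliasRange_spec E 2763 126551 aliases_49 v (by omega) (by omega)
        · rcases Nat.lt_or_ge v 134368 with h | h
          · rcases Nat.lt_or_ge v 131737 with h | h
            · exact aliasRange_spec E 2423 129314 aliases_50 v (by omega) (by omega)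
            · exact aliasRange_spec E 2631 131737 aliases_51 v (by omega) (by omega)
          · rcases Nat.lt_or_ge v 136860 with h | h
            · exact aliasRange_spec E 2492 134368 aliases_52 v (by omega) (by omega)
            · exact aliasRange_spec E 1884 136860 aliases_53 v (by omega) (by omega)

theorem hrows0 : ∀ v, v < 138744 → tb RS v = true → rowOK2 E RS v E.D.k = true := by
  intro v hv
  rcases Nat.lt_or_ge v 69000 with h | h
  · rcases Nat.lt_or_ge v 34500 with h | h
    · rcases Nat.lt_or_ge v 16500 with h | h
      · rcases Nat.lt_or_ge v 7500 with h | h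
        · rcases Nat.lt_or_ge v 3000 with h | h
          · rcases Nat.lt_or_ge v 1500 with h | h
            · exact rowsRange_spec E RS 1500 0 rows_0 v (by omega) (by omega)
            · exact rowsRange_spec E RS 1500 1500 rows_1 v (by omega) (by omega)
          · rcases Nat.lt_or_ge v 4500 with h | h
            · exact rowsRange_spec E RS 1500 3000 rows_2 v (by omega) (by omega)
            · rcases Nat.lt_or_ge v 6000 with h | h
              · exact rowsRange_spec E RS 1500 4500 rows_3 v (by omega) (by omega)
              · exact rowsRange_spec E RS 1500 6000 rows_4 v (by omega) (by omega)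
        · rcases Nat.lt_or_ge v 12000 with h | h
          · rcases Nat.lt_or_ge v 9000 with h | h
            · exact rowsRange_spec E RS 1500 7500 rows_5 v (by omega) (by omega)
            · rcases Nat.lt_or_ge v 10500 with h | h
              · exact rowsRange_spec E RS 1500 9000 rows_6 v (by omega) (by omega)
              · exact rowsRange_spec E RS 1500 10500 rows_7 v (by omega) (by omega)
          · rcases Nat.lt_or_ge v 13500 with h | h
            · exact rowsRange_spec E RS 1500 12000 rows_8 v (by omega) (by omega)
            · rcases Nat.lt_or_ge v 15000 with h | h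
              · exact rowsRange_spec E RS 1500 13500 rows_9 v (by omega) (by omega)
              · exact rowsRange_spec E RS 1500 15000 rows_10 v (by omega) (by omega)
      · rcases Nat.lt_or_ge v 25500 with h | h
        · rcases Nat.lt_or_ge v 21000 with h | h
          · rcases Nat.lt_or_ge v 18000 with h | h
            · exact rowsRange_spec E RS 1500 16500 rows_11 v (by omega) (by omega)
            · rcases Nat.lt_or_ge v 19500 with h | h
              · exact rowsRange_spec E RS 1500 18000 rows_12 v (by omega) (by omega)
              · exact rowsRange_spec E RS 1500 19500 rows_13 v (by omega) (by omega)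
          · rcases Nat.lt_or_ge v 22500 with h | h
            · exact rowsRange_spec E RS 1500 21000 rows_14 v (by omega) (by omega)
            · rcases Nat.lt_or_ge v 24000 with h | h
              · exact rowsRange_spec E RS 1500 22500 rows_15 v (by omega) (by omega)
              · exact rowsRange_spec E RS 1500 24000 rows_16 v (by omega) (by omega)
        · rcases Nat.lt_or_ge v 30000 with h | h
          · rcases Nat.lt_or_ge v 27000 with h | h
            · exact rowsRange_spec E RS 1500 25500 rows_17 v (by omega) (by omega)
            · rcases Nat.lt_or_ge v 28500 with h | h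
              · exact rowsRange_spec E RS 1500 27000 rows_18 v (by omega) (by omega)
              · exact rowsRange_spec E RS 1500 28500 rows_19 v (by omega) (by omega)
          · rcases Nat.lt_or_ge v 31500 with h | h
            · exact rowsRange_spec E RS 1500 30000 rows_20 v (by omega) (by omega)
            · rcases Nat.lt_or_ge v 33000 with h | h
              · exact rowsRange_spec E RS 1500 31500 rows_21 v (by omega) (by omega)
              · exact rowsRange_spec E RS 1500 33000 rows_22 v (by omega) (by omega)
    · rcases Nat.lt_or_ge v 51000 with h | h
      · rcases Nat.lt_or_ge v 42000 with h | h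
        · rcases Nat.lt_or_ge v 37500 with h | h
          · rcases Nat.lt_or_ge v 36000 with h | h
            · exact rowsRange_spec E RS 1500 34500 rows_23 v (by omega) (by omega)
            · exact rowsRange_spec E RS 1500 36000 rows_24 v (by omega) (by omega)
          · rcases Nat.lt_or_ge v 39000 with h | h
            · exact rowsRange_spec E RS 1500 37500 rows_25 v (by omega) (by omega)
            · rcases Nat.lt_or_ge v 40500 with h | h
              · exact rowsRange_spec E RS 1500 39000 rows_26 v (by omega) (by omega)
              · exact rowsRange_spec E RS 1500 40500 rows_27 v (by omega) (by omega)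
        · rcases Nat.lt_or_ge v 46500 with h | h
          · rcases Nat.lt_or_ge v 43500 with h | h
            · exact rowsRange_spec E RS 1500 42000 rows_28 v (by omega) (by omega)
            · rcases Nat.lt_or_ge v 45000 with h | h
              · exact rowsRange_spec E RS 1500 43500 rows_29 v (by omega) (by omega)
              · exact rowsRange_spec E RS 1500 45000 rows_30 v (by omega) (by omega)
          · rcases Nat.lt_or_ge v 48000 with h | h
            · exact rowsRange_spec E RS 1500 46500 rows_31 v (by omega) (by omega)
            · rcases Nat.lt_or_ge v 49500 with h | h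
              · exact rowsRange_spec E RS 1500 48000 rows_32 v (by omega) (by omega)
              · exact rowsRange_spec E RS 1500 49500 rows_33 v (by omega) (by omega)
      · rcases Nat.lt_or_ge v 60000 with h | h
        · rcases Nat.lt_or_ge v 55500 with h | h
          · rcases Nat.lt_or_ge v 52500 with h | h
            · exact rowsRange_spec E RS 1500 51000 rows_34 v (by omega) (by omega)
            · rcases Nat.lt_or_ge v 54000 with h | h
              · exact rowsRange_spec E RS 1500 52500 rows_35 v (by omega) (by omega)
              · exact rowsRange_spec E RS 1500 54000 rows_36 v (by omega) (by omega)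
          · rcases Nat.lt_or_ge v 57000 with h | h
            · exact rowsRange_spec E RS 1500 55500 rows_37 v (by omega) (by omega)
            · rcases Nat.lt_or_ge v 58500 with h | h
              · exact rowsRange_spec E RS 1500 57000 rows_38 v (by omega) (by omega)
              · exact rowsRange_spec E RS 1500 58500 rows_39 v (by omega) (by omega)
        · rcases Nat.lt_or_ge v 64500 with h | h
          · rcases Nat.lt_or_ge v 61500 with h | h
            · exact rowsRange_spec E RS 1500 60000 rows_40 v (by omega) (by omega)
            · rcases Nat.lt_or_ge v 63000 with h | h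
              · exact rowsRange_spec E RS 1500 61500 rows_41 v (by omega) (by omega)
              · exact rowsRange_spec E RS 1500 63000 rows_42 v (by omega) (by omega)
          · rcases Nat.lt_or_ge v 66000 with h | h
            · exact rowsRange_spec E RS 1500 64500 rows_43 v (by omega) (by omega)
            · rcases Nat.lt_or_ge v 67500 with h | h
              · exact rowsRange_spec E RS 1500 66000 rows_44 v (by omega) (by omega)
              · exact rowsRange_spec E RS 1500 67500 rows_45 v (by omega) (by omega)
  · rcases Nat.lt_or_ge v 103500 with h | h
    · rcases Nat.lt_or_ge v 85500 with h | h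
      · rcases Nat.lt_or_ge v 76500 with h | h
        · rcases Nat.lt_or_ge v 72000 with h | h
          · rcases Nat.lt_or_ge v 70500 with h | h
            · exact rowsRange_spec E RS 1500 69000 rows_46 v (by omega) (by omega)
            · exact rowsRange_spec E RS 1500 70500 rows_47 v (by omega) (by omega)
          · rcases Nat.lt_or_ge v 73500 with h | h
            · exact rowsRange_spec E RS 1500 72000 rows_48 v (by omega) (by omega)
            · rcases Nat.lt_or_ge v 75000 with h | h
              · exact rowsRange_spec E RS 1500 73500 rows_49 v (by omega) (by omega)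
              · exact rowsRange_spec E RS 1500 75000 rows_50 v (by omega) (by omega)
        · rcases Nat.lt_or_ge v 81000 with h | h
          · rcases Nat.lt_or_ge v 78000 with h | h
            · exact rowsRange_spec E RS 1500 76500 rows_51 v (by omega) (by omega)
            · rcases Nat.lt_or_ge v 79500 with h | h
              · exact rowsRange_spec E RS 1500 78000 rows_52 v (by omega) (by omega)
              · exact rowsRange_spec E RS 1500 79500 rows_53 v (by omega) (by omega)
          · rcases Nat.lt_or_ge v 82500 with h | h
            · exact rowsRange_spec E RS 1500 81000 rows_54 v (by omega) (by omega)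
            · rcases Nat.lt_or_ge v 84000 with h | h
              · exact rowsRange_spec E RS 1500 82500 rows_55 v (by omega) (by omega)
              · exact rowsRange_spec E RS 1500 84000 rows_56 v (by omega) (by omega)
      · rcases Nat.lt_or_ge v 94500 with h | h
        · rcases Nat.lt_or_ge v 90000 with h | h
          · rcases Nat.lt_or_ge v 87000 with h | h
            · exact rowsRange_spec E RS 1500 85500 rows_57 v (by omega) (by omega)
            · rcases Nat.lt_or_ge v 88500 with h | h
              · exact rowsRange_spec E RS 1500 87000 rows_58 v (by omega) (by omega)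
              · exact rowsRange_spec E RS 1500 88500 rows_59 v (by omega) (by omega)
          · rcases Nat.lt_or_ge v 91500 with h | h
            · exact rowsRange_spec E RS 1500 90000 rows_60 v (by omega) (by omega)
            · rcases Nat.lt_or_ge v 93000 with h | h
              · exact rowsRange_spec E RS 1500 91500 rows_61 v (by omega) (by omega)
              · exact rowsRange_spec E RS 1500 93000 rows_62 v (by omega) (by omega)
        · rcases Nat.lt_or_ge v 99000 with h | h
          · rcases Nat.lt_or_ge v 96000 with h | h
            · exact rowsRange_spec E RS 1500 94500 rows_63 v (by omega) (by omega)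
            · rcases Nat.lt_or_ge v 97500 with h | h
              · exact rowsRange_spec E RS 1500 96000 rows_64 v (by omega) (by omega)
              · exact rowsRange_spec E RS 1500 97500 rows_65 v (by omega) (by omega)
          · rcases Nat.lt_or_ge v 100500 with h | h
            · exact rowsRange_spec E RS 1500 99000 rows_66 v (by omega) (by omega)
            · rcases Nat.lt_or_ge v 102000 with h | h
              · exact rowsRange_spec E RS 1500 100500 rows_67 v (by omega) (by omega)
              · exact rowsRange_spec E RS 1500 102000 rows_68 v (by omega) (by omega)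
    · rcases Nat.lt_or_ge v 121500 with h | h
      · rcases Nat.lt_or_ge v 112500 with h | h
        · rcases Nat.lt_or_ge v 108000 with h | h
          · rcases Nat.lt_or_ge v 105000 with h | h
            · exact rowsRange_spec E RS 1500 103500 rows_69 v (by omega) (by omega)
            · rcases Nat.lt_or_ge v 106500 with h | h
              · exact rowsRange_spec E RS 1500 105000 rows_70 v (by omega) (by omega)
              · exact rowsRange_spec E RS 1500 106500 rows_71 v (by omega) (by omega)
          · rcases Nat.lt_or_ge v 109500 with h | h
            · exact rowsRange_spec E RS 1500 108000 rows_72 v (by omega) (by omega)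
            · rcases Nat.lt_or_ge v 111000 with h | h
              · exact rowsRange_spec E RS 1500 109500 rows_73 v (by omega) (by omega)
              · exact rowsRange_spec E RS 1500 111000 rows_74 v (by omega) (by omega)
        · rcases Nat.lt_or_ge v 117000 with h | h
          · rcases Nat.lt_or_ge v 114000 with h | h
            · exact rowsRange_spec E RS 1500 112500 rows_75 v (by omega) (by omega)
            · rcases Nat.lt_or_ge v 115500 with h | h
              · exact rowsRange_spec E RS 1500 114000 rows_76 v (by omega) (by omega)
              · exact rowsRange_spec E RS 1500 115500 rows_77 v (by omega) (by omega)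
          · rcases Nat.lt_or_ge v 118500 with h | h
            · exact rowsRange_spec E RS 1500 117000 rows_78 v (by omega) (by omega)
            · rcases Nat.lt_or_ge v 120000 with h | h
              · exact rowsRange_spec E RS 1500 118500 rows_79 v (by omega) (by omega)
              · exact rowsRange_spec E RS 1500 120000 rows_80 v (by omega) (by omega)
      · rcases Nat.lt_or_ge v 130500 with h | h
        · rcases Nat.lt_or_ge v 126000 with h | h
          · rcases Nat.lt_or_ge v 123000 with h | h
            · exact rowsRange_spec E RS 1500 121500 rows_81 v (by omega) (by omega)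
            · rcases Nat.lt_or_ge v 124500 with h | h
              · exact rowsRange_spec E RS 1500 123000 rows_82 v (by omega) (by omega)
              · exact rowsRange_spec E RS 1500 124500 rows_83 v (by omega) (by omega)
          · rcases Nat.lt_or_ge v 127500 with h | h
            · exact rowsRange_spec E RS 1500 126000 rows_84 v (by omega) (by omega)
            · rcases Nat.lt_or_ge v 129000 with h | h
              · exact rowsRange_spec E RS 1500 127500 rows_85 v (by omega) (by omega)
              · exact rowsRange_spec E RS 1500 129000 rows_86 v (by omega) (by omega)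
        · rcases Nat.lt_or_ge v 135000 with h | h
          · rcases Nat.lt_or_ge v 132000 with h | h
            · exact rowsRange_spec E RS 1500 130500 rows_87 v (by omega) (by omega)
            · rcases Nat.lt_or_ge v 133500 with h | h
              · exact rowsRange_spec E RS 1500 132000 rows_88 v (by omega) (by omega)
              · exact rowsRange_spec E RS 1500 133500 rows_89 v (by omega) (by omega)
          · rcases Nat.lt_or_ge v 136500 with h | h
            · exact rowsRange_spec E RS 1500 135000 rows_90 v (by omega) (by omega)
            · rcases Nat.lt_or_ge v 138000 with h | h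
              · exact rowsRange_spec E RS 1500 136500 rows_91 v (by omega) (by omega)
              · exact rowsRange_spec E RS 744 138000 rows_92 v (by omega) (by omega)

theorem cb_0 : cntBits RS 0 = 0 := rfl

theorem cb_1 : cntBits RS 20000 = 352 := by
  have h := cntBits_step RS 0 20000
  rw [cb_0, cnt_0] at h
  exact h

theorem cb_2 : cntBits RS 40000 = 352 := by
  have h := cntBits_step RS 20000 20000
  rw [cb_1, cnt_1] at h
  exact h

theorem cb_3 : cntBits RS 60000 = 352 := by
  have h := cntBits_step RS 40000 20000
  rw [cb_2, cnt_2] at h
  exact h

theorem cb_4 : cntBits RS 80000 = 352 := by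
  have h := cntBits_step RS 60000 20000
  rw [cb_3, cnt_3] at h
  exact h

theorem cb_5 : cntBits RS 100000 = 352 := by
  have h := cntBits_step RS 80000 20000
  rw [cb_4, cnt_4] at h
  exact h

theorem cb_6 : cntBits RS 120000 = 352 := by
  have h := cntBits_step RS 100000 20000
  rw [cb_5, cnt_5] at h
  exact h

theorem cb_7 : cntBits RS 138744 = 352 := by
  have h := cntBits_step RS 120000 18744
  rw [cb_6, cnt_6] at h
  exact h

theorem set_ok : setOK 138744 352 RS = true :=
  setOK_of_parts cb_7 set_zero set_lt

theorem relf_0 : ∀ v, v < 352 → W_0 v = v := by
  intro v hv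
  exact fixPtsF_spec W_0 352 0 relc_0_0 v (by omega) (by omega)

set_option maxRecDepth 1000000 in
theorem walk_0 : ∀ v, walkT ctF (D.wlen 0) (D.wordP 0) v = W_0 v := by
  intro v
  simp only [W_0, forceL_eq]
  rfl

theorem relw_0 : ∀ v, v < 352 → walkT ctF (D.wlen 0) (D.wordP 0) v = v := by
  intro v hv
  rw [walk_0]
  exact relf_0 v hv

theorem relf_1 : ∀ v, v < 352 → W_1 v = v := by
  intro v hv
  exact fixPtsF_spec W_1 352 0 relc_1_0 v (by omega) (by omega)

set_option maxRecDepth 1000000 in
theorem walk_1 : ∀ v, walkT ctF (D.wlen 1) (D.wordP 1) v = W_1 v := by
  intro v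
  simp only [W_1, forceL_eq]
  rfl

theorem relw_1 : ∀ v, v < 352 → walkT ctF (D.wlen 1) (D.wordP 1) v = v := by
  intro v hv
  rw [walk_1]
  exact relf_1 v hv

theorem relf_2 : ∀ v, v < 352 → W_2 v = v := by
  intro v hv
  exact fixPtsF_spec W_2 352 0 relc_2_0 v (by omega) (by omega)

set_option maxRecDepth 1000000 in
theorem walk_2 : ∀ v, walkT ctF (D.wlen 2) (D.wordP 2) v = W_2 v := by
  intro v
  simp only [W_2, forceL_eq]
  rfl

theorem relw_2 : ∀ v, v < 352 → walkT ctF (D.wlen 2) (D.wordP 2) v = v := by
  intro v hv
  rw [walk_2]
  exact relf_2 v hv

theorem relf_3 : ∀ v, v < 352 → W_3 v = v := by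
  intro v hv
  exact fixPtsF_spec W_3 352 0 relc_3_0 v (by omega) (by omega)

set_option maxRecDepth 1000000 in
theorem walk_3 : ∀ v, walkT ctF (D.wlen 3) (D.wordP 3) v = W_3 v := by
  intro v
  simp only [W_3, forceL_eq]
  rfl

theorem relw_3 : ∀ v, v < 352 → walkT ctF (D.wlen 3) (D.wordP 3) v = v := by
  intro v hv
  rw [walk_3]
  exact relf_3 v hv

theorem relf_4 : ∀ v, v < 352 → W_4 v = v := by
  intro v hv
  exact fixPtsF_spec W_4 352 0 relc_4_0 v (by omega) (by omega)

set_option maxRecDepth 1000000 in
theorem walk_4 : ∀ v, walkT ctF (D.wlen 4) (D.wordP 4) v = W_4 v := by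
  intro v
  simp only [W_4, forceL_eq]
  rfl

theorem relw_4 : ∀ v, v < 352 → walkT ctF (D.wlen 4) (D.wordP 4) v = v := by
  intro v hv
  rw [walk_4]
  exact relf_4 v hv

theorem relf_5 : ∀ v, v < 352 → W_5 v = v := by
  intro v hv
  exact fixPtsF_spec W_5 352 0 relc_5_0 v (by omega) (by omega)

set_option maxRecDepth 1000000 in
theorem walk_5 : ∀ v, walkT ctF (D.wlen 5) (D.wordP 5) v = W_5 v := by
  intro v
  simp only [W_5, forceL_eq]
  rfl

theorem relw_5 : ∀ v, v < 352 → walkT ctF (D.wlen 5) (D.wordP 5) v = v := by
  intro v hv
  rw [walk_5]
  exact relf_5 v hv

theorem relf_6 : ∀ v, v < 352 → W_6 v = v := by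
  intro v hv
  exact fixPtsF_spec W_6 352 0 relc_6_0 v (by omega) (by omega)

set_option maxRecDepth 1000000 in
theorem walk_6 : ∀ v, walkT ctF (D.wlen 6) (D.wordP 6) v = W_6 v := by
  intro v
  simp only [W_6, forceL_eq]
  rfl

theorem relw_6 : ∀ v, v < 352 → walkT ctF (D.wlen 6) (D.wordP 6) v = v := by
  intro v hv
  rw [walk_6]
  exact relf_6 v hv

theorem relf_7 : ∀ v, v < 352 → W_7 v = v := by
  intro v hv
  exact fixPtsF_spec W_7 352 0 relc_7_0 v (by omega) (by omega)

set_option maxRecDepth 1000000 in
theorem walk_7 : ∀ v, walkT ctF (D.wlen 7) (D.wordP 7) v = W_7 v := by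
  intro v
  simp only [W_7, forceL_eq]
  rfl

theorem relw_7 : ∀ v, v < 352 → walkT ctF (D.wlen 7) (D.wordP 7) v = v := by
  intro v hv
  rw [walk_7]
  exact relf_7 v hv

theorem relf_8 : ∀ v, v < 352 → W_8 v = v := by
  intro v hv
  exact fixPtsF_spec W_8 352 0 relc_8_0 v (by omega) (by omega)

set_option maxRecDepth 1000000 in
theorem walk_8 : ∀ v, walkT ctF (D.wlen 8) (D.wordP 8) v = W_8 v := by
  intro v
  simp only [W_8, forceL_eq]
  rfl

theorem relw_8 : ∀ v, v < 352 → walkT ctF (D.wlen 8) (D.wordP 8) v = v := by
  intro v hv
  rw [walk_8]
  exact relf_8 v hv

theorem relf_9 : ∀ v, v < 352 → W_9 v = v := by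
  intro v hv
  exact fixPtsF_spec W_9 352 0 relc_9_0 v (by omega) (by omega)

set_option maxRecDepth 1000000 in
theorem walk_9 : ∀ v, walkT ctF (D.wlen 9) (D.wordP 9) v = W_9 v := by
  intro v
  simp only [W_9, forceL_eq]
  rfl

theorem relw_9 : ∀ v, v < 352 → walkT ctF (D.wlen 9) (D.wordP 9) v = v := by
  intro v hv
  rw [walk_9]
  exact relf_9 v hv

theorem relf_10 : ∀ v, v < 352 → W_10 v = v := by
  intro v hv
  exact fixPtsF_spec W_10 352 0 relc_10_0 v (by omega) (by omega)

set_option maxRecDepth 1000000 in
theorem walk_10 : ∀ v, walkT ctF (D.wlen 10) (D.wordP 10) v = W_10 v := by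
  intro v
  simp only [W_10, forceL_eq]
  rfl

theorem relw_10 : ∀ v, v < 352 → walkT ctF (D.wlen 10) (D.wordP 10) v = v := by
  intro v hv
  rw [walk_10]
  exact relf_10 v hv

theorem relf_11 : ∀ v, v < 352 → W_11 v = v := by
  intro v hv
  exact fixPtsF_spec W_11 352 0 relc_11_0 v (by omega) (by omega)

set_option maxRecDepth 1000000 in
theorem walk_11 : ∀ v, walkT ctF (D.wlen 11) (D.wordP 11) v = W_11 v := by
  intro v
  simp only [W_11, forceL_eq]
  rfl

theorem relw_11 : ∀ v, v < 352 → walkT ctF (D.wlen 11) (D.wordP 11) v = v := by
  intro v hv
  rw [walk_11]
  exact relf_11 v hv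

theorem relf_12 : ∀ v, v < 352 → W_12 v = v := by
  intro v hv
  exact fixPtsF_spec W_12 352 0 relc_12_0 v (by omega) (by omega)

set_option maxRecDepth 1000000 in
theorem walk_12 : ∀ v, walkT ctF (D.wlen 12) (D.wordP 12) v = W_12 v := by
  intro v
  simp only [W_12, forceL_eq]
  rfl

theorem relw_12 : ∀ v, v < 352 → walkT ctF (D.wlen 12) (D.wordP 12) v = v := by
  intro v hv
  rw [walk_12]
  exact relf_12 v hv

theorem relf_13 : ∀ v, v < 352 → W_13 v = v := by
  intro v hv
  exact fixPtsF_spec W_13 352 0 relc_13_0 v (by omega) (by omega)

set_option maxRecDepth 1000000 in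
theorem walk_13 : ∀ v, walkT ctF (D.wlen 13) (D.wordP 13) v = W_13 v := by
  intro v
  simp only [W_13, forceL_eq]
  rfl

theorem relw_13 : ∀ v, v < 352 → walkT ctF (D.wlen 13) (D.wordP 13) v = v := by
  intro v hv
  rw [walk_13]
  exact relf_13 v hv

theorem relf_14 : ∀ v, v < 352 → W_14 v = v := by
  intro v hv
  exact fixPtsF_spec W_14 352 0 relc_14_0 v (by omega) (by omega)

set_option maxRecDepth 1000000 in
theorem walk_14 : ∀ v, walkT ctF (D.wlen 14) (D.wordP 14) v = W_14 v := by
  intro v
  simp only [W_14, forceL_eq]
  rfl

theorem relw_14 : ∀ v, v < 352 → walkT ctF (D.wlen 14) (D.wordP 14) v = v := by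
  intro v hv
  rw [walk_14]
  exact relf_14 v hv

theorem invx_0 : ∀ v, v < 352 → ctF 0 v < 352 ∧ ctF 1 (ctF 0 v) = v := by
  intro v hv
  exact invRowFI_spec ctF 352 0 1 352 0 inv_0_0 v (by omega) (by omega)

theorem invx_1 : ∀ v, v < 352 → ctF 1 v < 352 ∧ ctF 0 (ctF 1 v) = v := by
  intro v hv
  exact invRowFI_spec ctF 352 1 0 352 0 inv_1_0 v (by omega) (by omega)

theorem invx_2 : ∀ v, v < 352 → ctF 2 v < 352 ∧ ctF 3 (ctF 2 v) = v := by
  intro v hv
  exact invRowFI_spec ctF 352 2 3 352 0 inv_2_0 v (by omega) (by omega)

theorem invx_3 : ∀ v, v < 352 → ctF 3 v < 352 ∧ ctF 2 (ctF 3 v) = v := by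
  intro v hv
  exact invRowFI_spec ctF 352 3 2 352 0 inv_3_0 v (by omega) (by omega)

theorem invx_4 : ∀ v, v < 352 → ctF 4 v < 352 ∧ ctF 4 (ctF 4 v) = v := by
  intro v hv
  exact invRowFI_spec ctF 352 4 4 352 0 inv_4_0 v (by omega) (by omega)

theorem hconn : ∀ v, v < 352 → v ≠ 0 → ∃ x, x < E.D.k ∧ ctF x v < v := by
  intro v hv
  exact connF_spec ctF 5 352 0 conn_0 v (by omega) (by omega)

theorem hE : ∀ v, v < E.M → ∀ x, x < E.D.k → edgeOKI iota E x v = true := by
  intro v hv x hx
  have hv' : v < 138744 := hv
  have hx' : x < 5 := hx
  interval_cases x
  · exact edgesx_0 v hv'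
  · exact edgesx_1 v hv'
  · exact edgesx_2 v hv'
  · exact edgesx_3 v hv'
  · exact edgesx_4 v hv'

theorem hA : ∀ v, v < E.M → aliasOK E v = true := fun v hv => hA0 v hv

theorem hrows : ∀ v, v < E.M → tb RS v = true → rowOK2 E RS v E.D.k = true := fun v hv => hrows0 v hv

theorem hT : ∀ x, x < E.D.k → ∀ v, v < 352 → ctF x v < 352 ∧ ctF (iota x) (ctF x v) = v := by
  intro x hx
  have hx' : x < 5 := hx
  interval_cases x
  · exact invx_0
  · exact invx_1
  · exact invx_2
  · exact invx_3
  · exact invx_4

theorem hltr : ∀ j, j < E.D.nw → lettersOK E.D.k (E.D.wlen j) (E.D.wordP j) = true :=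
  wordsOK_spec D D.nw words_ok

theorem hrelT : ∀ wi, wi < E.D.nrel → ∀ v, v < 352 →
    walkT ctF (E.D.wlen wi) (E.D.wordP wi) v = v := by
  intro wi hwi
  have hwi' : wi < 15 := hwi
  interval_cases wi
  · exact relw_0
  · exact relw_1
  · exact relw_2
  · exact relw_3
  · exact relw_4
  · exact relw_5
  · exact relw_6
  · exact relw_7
  · exact relw_8
  · exact relw_9
  · exact relw_10
  · exact relw_11
  · exact relw_12
  · exact relw_13
  · exact relw_14

theorem hsubT : ∀ wi, wi < E.D.nw → E.D.nrel ≤ wi →
    walkT ctF (E.D.wlen wi) (E.D.wordP wi) 0 = 0 :=
  subAll_spec ctF D D.nw sub_ok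

end

end Cfsg.Agent.Helper5.HNCTC
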