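import Mathlib
import Cfsg.Agent.Helper5.HNTowH
import Cfsg.Agent.Helper5.HNCTCSum

/-!
# The group `⟨x, y, z⟩` of the Harada–Norton presentation: the certificate

The certified coset enumeration `HNCTC` (index 352 over `⟨x, y⟩`) is plugged into the generic
statement.
-/

set_option autoImplicit false

namespace Cfsg.Agent.Helper5.HNTow

open Cfsg.Agent.Helper5.TC Cfsg.Agent.Helper5.TCI Cfsg.Agent.Helper5.HNSign

theorem iotaC : Iota HNCTC.iota := by
  refine ⟨rfl, rfl, rfl, rfl, ?_⟩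
  intro x h
  obtain ⟨y, rfl⟩ := Nat.exists_eq_add_of_le h
  rw [Nat.add_comm]
  rfl

theorem hwC : ∀ i (hi : i < relWH.length),
    unpack (HNCTC.E.D.wlen i) (HNCTC.E.D.wordP i) = (relWH[i]).reverse := by
  intro i hi
  have hi' : i < 10 := hi
  interval_cases i
  · exact HNCTC.word_0
  · exact HNCTC.word_1
  · exact HNCTC.word_2
  · exact HNCTC.word_3
  · exact HNCTC.word_4
  · exact HNCTC.word_5
  · exact HNCTC.word_6
  · exact HNCTC.word_7
  · exact HNCTC.word_8
  · exact HNCTC.word_9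

theorem hpC : ∀ i, i < 5 →
    unpack (HNCTC.E.D.wlen (10 + i)) (HNCTC.E.D.wordP (10 + i)) = [i, HNCTC.iota i] := by
  intro i hi
  interval_cases i
  · exact HNCTC.word_10
  · exact HNCTC.word_11
  · exact HNCTC.word_12
  · exact HNCTC.word_13
  · exact HNCTC.word_14

/-- **The tower, second floor.** -/
theorem towerC_inst :
    ((Subgroup.closure {s | s ∈ subs3}).map (PresentedGroup.mk relsH)).index = 352 :=
  towerC HNCTC.iota iotaC HNCTC.E HNCTC.ctF HNCTC.RS 352 rfl rfl rfl hwC hpC HNCTC.word_15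
    HNCTC.word_16 HNCTC.rev_ok HNCTC.hE HNCTC.hA HNCTC.set_ok HNCTC.hrows (by norm_num) HNCTC.hT
    HNCTC.hltr HNCTC.hrelT HNCTC.hsubT HNCTC.hconn

end Cfsg.Agent.Helper5.HNTow
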