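import Mathlib
import Cfsg.Agent.Helper5.TCIB

/-!
# Todd–Coxeter certificates with semantically justified blocks of edges

A variant of the stateless certificate checker of `TCIA` for coset tables without aliases (the
names are the true cosets).  Besides defining edges, reverse edges and single-relator deductions
there is a fourth kind of justification: all edges `(v, x)` with `x` one of the first `kH` letters
and `v` in a block `[lo b, hi b)` of names become valid at the opening time `R b` of the block; the
soundness of this step is an external hypothesis (`SemHyp`), to be discharged by an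
orbit–stabiliser argument in `TCSB`.
-/

set_option autoImplicit false

namespace Cfsg.Agent.Helper5.TCS

open Cfsg.Agent.Helper5.TC Cfsg.Agent.Helper5.TCI

/-- the blocks of names whose edges under the first `kH` letters are justified semantically. -/
structure Blk where
  /-- number of the letters concerned -/
  kH : ℕ
  /-- number of blocks -/
  nb : ℕ
  /-- first name of a block -/
  lo : ℕ → ℕ
  /-- end of a block -/
  hi : ℕ → ℕ
  /-- opening time of a block -/
  R : ℕ → ℕ

/-- the edge `(v, x)` with time stamp `r` belongs to the block `b`. -/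
def semOK (B : Blk) (r x v b : ℕ) : Bool :=
  Nat.blt b B.nb && Nat.blt x B.kH && Nat.ble (B.lo b) v && Nat.blt v (B.hi b) &&
    Nat.beq r (B.R b)

theorem semOK_spec {B : Blk} {r x v b : ℕ} (h : semOK B r x v b = true) :
    b < B.nb ∧ x < B.kH ∧ B.lo b ≤ v ∧ v < B.hi b ∧ r = B.R b := by
  unfold semOK at h
  simp only [Bool.and_eq_true] at h
  obtain ⟨⟨⟨⟨h1, h2⟩, h3⟩, h4⟩, h5⟩ := h
  rw [Nat.blt_eq] at h1 h2 h4
  rw [Nat.ble_eq] at h3
  exact ⟨h1, h2, h3, h4, Nat.eq_of_beq_eq_true h5⟩

/-- the edge `(v, x)` has a time stamp and is justified. -/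
def edgeOKS (ι : ℕ → ℕ) (B : Blk) (E : Dat2) (x v : ℕ) : Bool :=
  force (E.rank x v) (fun r =>
    Nat.blt r INF &&
    (bif Nat.beq r 0 then defOKI ι E x v
    else bif Nat.beq (Nat.mod r 2) 1 then revOK2I ι E r x v
    else force (E.ev (Nat.div r 2)) (fun j =>
      bif Nat.beq (Nat.mod j 4) 1 then
        gapOK E r x v (Nat.mod (Nat.div j 4) 256) (Nat.mod (Nat.div j 1024) 256)
          (Nat.div j 262144)
      else bif Nat.beq (Nat.mod j 4) 0 then semOK B r x v (Nat.div j 4)
      else false)))

/-- all edges `(v, x)` with `lo ≤ v < lo + n` are justified. -/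
def edgesRangeS (ι : ℕ → ℕ) (B : Blk) (E : Dat2) (x n : ℕ) : ℕ → Bool :=
  Nat.rec (motive := fun _ => ℕ → Bool) (fun _ => true)
    (fun _ ih v => bif edgeOKS ι B E x v then force (Nat.succ v) ih else false) n

theorem edgesRangeS_succ (ι : ℕ → ℕ) (B : Blk) (E : Dat2) (x n v : ℕ) :
    edgesRangeS ι B E x (n + 1) v =
      bif edgeOKS ι B E x v then edgesRangeS ι B E x n (v + 1) else false := by
  show (bif _ then force _ _ else _) = _
  rw [force_eq]
  rfl

theorem edgesRangeS_spec (ι : ℕ → ℕ) (B : Blk) (E : Dat2) (x : ℕ) : ∀ (n lo : ℕ),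
    edgesRangeS ι B E x n lo = true → ∀ v, lo ≤ v → v < lo + n → edgeOKS ι B E x v = true
  | 0, lo, _, v, h1, h2 => by omega
  | n + 1, lo, h, v, h1, h2 => by
    rw [edgesRangeS_succ] at h
    cases hc : edgeOKS ι B E x lo with
    | false => rw [hc, cond_false] at h; exact absurd h (by simp)
    | true =>
      rw [hc, cond_true] at h
      rcases Nat.eq_or_lt_of_le h1 with rfl | h1
      · exact hc
      · exact edgesRangeS_spec ι B E x n (lo + 1) h v h1 (by omega)

section
variable {G : Type*} [Group G] {Q : Type*} [MulAction G Q]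
variable {ι : ℕ → ℕ} {g : ℕ → G} {q₀ : Q} {B : Blk} {E : Dat2}

/-- the semantic hypothesis: once everything before the opening time of a block is known, the
edges of the block under the first `kH` letters hold. -/
def SemHyp (g : ℕ → G) (q₀ : Q) (B : Blk) (E : Dat2) : Prop :=
  ∀ b, b < B.nb → Inv2 g q₀ E (B.R b) → ∀ v, B.lo b ≤ v → v < B.hi b → ∀ x, x < B.kH →
    g x • pt g q₀ E.D v = pt g q₀ E.D (E.D.tgt x v)

theorem edgeOKS_lt {x v : ℕ}
    (h : edgeOKS ι B E x v = true) : E.rank x v < INF := by
  unfold edgeOKS at h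
  rw [force_eq] at h
  have := (Bool.and_eq_true_iff.mp h).1
  rwa [Nat.blt_eq] at this

theorem edgeOKS_spec (hH : HypI ι g q₀ E.D) (hS : SemHyp g q₀ B E) {x v : ℕ}
    (hxk : x < E.D.k) (hv : v < E.M) (h : edgeOKS ι B E x v = true)
    (hI : Inv2 g q₀ E (E.rank x v)) :
    g x • pt g q₀ E.D v = pt g q₀ E.D (E.D.tgt x v) := by
  unfold edgeOKS at h
  rw [force_eq] at h
  obtain ⟨-, h⟩ := Bool.and_eq_true_iff.mp h
  cases h0 : Nat.beq (E.rank x v) 0 with
  | true =>
    rw [h0, cond_true] at h
    exact defOKI_spec hH h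
  | false =>
    rw [h0, cond_false] at h
    cases h1 : Nat.beq (Nat.mod (E.rank x v) 2) 1 with
    | true =>
      rw [h1, cond_true] at h
      exact revOK2I_spec hH hI hxk h
    | false =>
      rw [h1, cond_false, force_eq] at h
      cases h2 : Nat.beq (Nat.mod (E.ev (Nat.div (E.rank x v) 2)) 4) 1 with
      | true =>
        rw [h2, cond_true] at h
        exact gapOK_specI hH hI hv h
      | false =>
        rw [h2, cond_false] at h
        cases h3 : Nat.beq (Nat.mod (E.ev (Nat.div (E.rank x v) 2)) 4) 0 with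
        | true =>
          rw [h3, cond_true] at h
          obtain ⟨hb, hx, hlo, hhi, hr⟩ := semOK_spec h
          rw [hr] at hI
          exact hS _ hb hI v hlo hhi x hx
        | false =>
          rw [h3, cond_false] at h
          exact absurd h (by simp)

/-- all justified edges hold (there are no aliases). -/
theorem inv2_allS (hH : HypI ι g q₀ E.D) (hS : SemHyp g q₀ B E)
    (hE : ∀ v, v < E.M → ∀ x, x < E.D.k → edgeOKS ι B E x v = true)
    (har : ∀ v, v < E.M → INF ≤ E.arank v) :
    ∀ t, t ≤ INF → Inv2 g q₀ E t := by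
  intro t
  induction t using Nat.strong_induction_on with
  | _ t ih =>
    intro ht
    refine ⟨?_, ?_⟩
    · intro v x hv hx hr
      exact edgeOKS_spec hH hS hx hv (hE v hv x hx) (ih _ hr (le_trans (le_of_lt hr) ht))
    · intro v hv hr
      have := har v hv
      omega

/-- **Main theorem** (no aliases, semantic blocks): a valid certificate bounds the size of a
transitive `G`-set by the number of names. -/
theorem card_le_of_certS (hH : HypI ι g q₀ E.D) (hS : SemHyp g q₀ B E)
    (hgen : Subgroup.closure (g '' {x | x < E.D.k}) = ⊤)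
    (htr : ∀ q : Q, ∃ a : G, a • q₀ = q)
    (hE : ∀ v, v < E.M → ∀ x, x < E.D.k → edgeOKS ι B E x v = true)
    (har : ∀ v, v < E.M → INF ≤ E.arank v)
    (hM : 0 < E.M)
    (hT : ∀ x, x < E.D.k → ∀ v, v < E.M → E.D.tgt x v < E.M) :
    Finite Q ∧ Nat.card Q ≤ E.M := by
  have hI := inv2_allS hH hS hE har INF le_rfl
  set M := E.M with hMdef
  set F := Finset.range M with hF
  have hFcard : F.card = M := Finset.card_range M
  have hclosed : ∀ v ∈ F, ∀ x, x < E.D.k →
      ∃ w ∈ F, g x • pt g q₀ E.D v = pt g q₀ E.D w := by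
    intro v hv x hx
    rw [hF, Finset.mem_range] at hv
    have hr : E.rank x v < INF := edgeOKS_lt (hE v hv x hx)
    exact ⟨E.D.tgt x v, Finset.mem_range.mpr (hT x hx v hv), hI.1 v x hv hx hr⟩
  have hall : ∀ a : G, ∀ v ∈ F, ∃ w ∈ F, a • pt g q₀ E.D v = pt g q₀ E.D w := by
    intro a
    have ha : a ∈ Subgroup.closure (g '' {x | x < E.D.k}) := by rw [hgen]; trivial
    induction ha using Subgroup.closure_induction with
    | mem y hy =>
      obtain ⟨x, hx, rfl⟩ := hy
      exact fun v hv => hclosed v hv x hx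
    | one => exact fun v hv => ⟨v, hv, one_smul _ _⟩
    | mul a b _ _ iha ihb =>
      intro v hv
      obtain ⟨w, hw, e⟩ := ihb v hv
      obtain ⟨w', hw', e'⟩ := iha w hw
      exact ⟨w', hw', by rw [mul_smul, e, e']⟩
    | inv a _ iha =>
      intro v hv
      classical
      let P : Finset Q := F.image (pt g q₀ E.D)
      have hmaps : ∀ p ∈ P, a • p ∈ P := by
        intro p hp
        obtain ⟨u, hu, rfl⟩ := Finset.mem_image.mp hp
        obtain ⟨w, hw, e⟩ := iha u hu
        exact Finset.mem_image.mpr ⟨w, hw, e.symm⟩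
      have hsurj : Set.SurjOn (fun p : Q => a • p) (P : Set Q) (P : Set Q) := by
        have hinj : Set.InjOn (fun p : Q => a • p) (P : Set Q) :=
          fun p _ p' _ h => MulAction.injective a h
        exact (Finset.surjOn_of_injOn_of_card_le (fun p => a • p) hmaps hinj le_rfl)
      have hvP : pt g q₀ E.D v ∈ (P : Set Q) :=
        Finset.mem_coe.mpr (Finset.mem_image_of_mem _ hv)
      obtain ⟨p, hp, e⟩ := hsurj hvP
      obtain ⟨w, hw, rfl⟩ := Finset.mem_image.mp (Finset.mem_coe.mp hp)
      refine ⟨w, hw, ?_⟩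
      simp only at e
      rw [← e, inv_smul_smul]
  have h0 : 0 ∈ F := by
    rw [hF, Finset.mem_range]
    exact hM
  have hcov : ∀ q : Q, ∃ w ∈ F, q = pt g q₀ E.D w := by
    intro q
    obtain ⟨a, rfl⟩ := htr q
    obtain ⟨w, hw, e⟩ := hall a 0 h0
    rw [pt_zero] at e
    exact ⟨w, hw, e⟩
  have hsurj : Function.Surjective (fun w : F => pt g q₀ E.D w.1) := by
    intro q
    obtain ⟨w, hw, e⟩ := hcov q
    exact ⟨⟨w, hw⟩, e.symm⟩
  refine ⟨Finite.of_surjective _ hsurj, ?_⟩
  have := Nat.card_le_card_of_surjective _ hsurj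
  have e2 : Nat.card F = M := by
    rw [Nat.card_eq_fintype_card, Fintype.card_coe, hFcard]
  rwa [e2] at this

end

end Cfsg.Agent.Helper5.TCS
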