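import Mathlib
import Cfsg.Agent.Helper5.TCSA
import Cfsg.Agent.Helper5.LPUB

/-!
# The orbit–stabiliser argument for semantically justified blocks

`G` acts on `Q`, and on the names `Fin N` of a coset table through `ρ`, compatibly via an
equivariant map `φ : Q → Fin N`.  Let `Hs` be a finite subgroup of order at most `h` containing the
first `kH` generators, and let `[lo, hi)` be a block of names all of whose points lie in the
`Hs`-orbit of `pt lo` (by a spanning tree of edges known at time `R`).  If the stabiliser of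
`pt lo` in `Hs` has order at least `K` with `h ≤ K * (hi - lo)`, then the orbit of `pt lo` is no
bigger than the block, hence equal to it, and all edges of the block under the first `kH` letters
hold.  The lower bound for the stabiliser comes from a stabiliser chain for the group generated by
loops at `lo` that are valid walks at time `R`.
-/

set_option autoImplicit false

namespace Cfsg.Agent.Helper5.TCS

open Cfsg.Agent.Helper5.TC Cfsg.Agent.Helper5.TCI Cfsg.Agent.Helper5.LP

section
variable {G : Type*} [Group G] {Q : Type*} [MulAction G Q]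

/-- the data linking an abstract `G`-set with a coset table. -/
structure Link (g : ℕ → G) (q₀ : Q) (E : Dat2) (N : ℕ) (ρ : G →* Equiv.Perm (Fin N))
    (φ : Q → Fin N) : Prop where
  /-- `φ` is equivariant -/
  eqv : ∀ (a : G) (q : Q), φ (a • q) = ρ a (φ q)
  /-- the generators act through the table -/
  act : ∀ x, x < E.D.k → ∀ v : Fin N, (ρ (g x) v).val = E.D.tgt x v.val
  /-- the base point has the name `0` -/
  base : (φ q₀).val = 0
  /-- the tree of definitions is a tree of the table -/
  tree : ∀ v, 0 < v → v < N →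
    E.D.par v < v ∧ E.D.gen v < E.D.k ∧ E.D.tgt (E.D.gen v) (E.D.par v) = v

variable {g : ℕ → G} {q₀ : Q} {E : Dat2} {N : ℕ} {ρ : G →* Equiv.Perm (Fin N)} {φ : Q → Fin N}

/-- the point with the name `v` is mapped to `v`. -/
theorem phi_pt (hL : Link g q₀ E N ρ φ) : ∀ v, v < N → (φ (pt g q₀ E.D v)).val = v := by
  intro v
  induction v using Nat.strong_induction_on with
  | _ v ih =>
    intro hv
    rcases Nat.eq_zero_or_pos v with rfl | h0
    · rw [pt_zero]
      exact hL.base
    · obtain ⟨h1, h2, h3⟩ := hL.tree v h0 hv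
      rw [pt_succ g q₀ E.D h0 h1, hL.eqv]
      have hp : E.D.par v < N := lt_trans h1 hv
      have e : φ (pt g q₀ E.D (E.D.par v)) = ⟨E.D.par v, hp⟩ := Fin.ext (ih _ h1 hp)
      rw [e, hL.act _ h2]
      exact h3

theorem rprod_singleton (c : ℕ) : rprod g [c] = g c := by
  simp [rprod]

/-- products of the first `kH` generators lie in `Hs`. -/
theorem rprod_mem {kH : ℕ} (Hs : Subgroup G) (hHs : ∀ x, x < kH → g x ∈ Hs) :
    ∀ l : List ℕ, (∀ c ∈ l, c < kH) → rprod g l ∈ Hs
  | [], _ => by
    rw [rprod]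
    exact Hs.one_mem
  | c :: l, hl => by
    rw [rprod]
    exact Hs.mul_mem (rprod_mem Hs hHs l (fun d hd => hl d (List.mem_cons_of_mem _ hd)))
      (hHs c (hl c List.mem_cons_self))

/-- words (in group order) act through the table. -/
theorem actsOn_of_link (hL : Link g q₀ E N ρ φ) {kH : ℕ} (hkH : kH ≤ E.D.k) :
    ActsOn ρ (fun l => rprod g l.reverse) kH E.D.tgt := by
  constructor
  intro l
  induction l with
  | nil =>
    intro _ v
    show (ρ (rprod g ([] : List ℕ).reverse) v).val = actL E.D.tgt [] v.val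
    rw [List.reverse_nil, rprod, map_one]
    rfl
  | cons c l ih =>
    intro hl v
    have hc : c < kH := hl c List.mem_cons_self
    have hl' : ∀ d ∈ l, d < kH := fun d hd => hl d (List.mem_cons_of_mem _ hd)
    have ih' : (ρ (rprod g l.reverse) v).val = actL E.D.tgt l v.val := ih hl' v
    show (ρ (rprod g (c :: l).reverse) v).val = actL E.D.tgt (c :: l) v.val
    rw [List.reverse_cons, rprod_append, rprod_singleton, map_mul, Equiv.Perm.mul_apply,
      hL.act c (lt_of_lt_of_le hc hkH), ih']
    rfl

/-- **The semantic step.** -/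
theorem sem_block (hL : Link g q₀ E N ρ φ) {kH : ℕ} (hkH : kH ≤ E.D.k)
    (Hs : Subgroup G) (hHs : ∀ x, x < kH → g x ∈ Hs) [Finite Hs] {h : ℕ}
    (hcard : Nat.card Hs ≤ h)
    {R lo hi : ℕ} (hI : Inv2 g q₀ E R) (hhi : hi ≤ N) (hNM : N ≤ E.M)
    (hp hl : ℕ → ℕ)
    (hsec : ∀ v, lo < v → v < hi → lo ≤ hp v ∧ hp v < v ∧ hl v < kH ∧
      E.rank (hl v) (hp v) < R ∧ E.D.tgt (hl v) (hp v) = v)
    {K : ℕ} (hK : h ≤ K * (hi - lo))
    (hstab : K ≤ Nat.card (Hs ⊓ MulAction.stabilizer G (pt g q₀ E.D lo) : Subgroup G)) :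
    ∀ v, lo ≤ v → v < hi → ∀ x, x < kH →
      g x • pt g q₀ E.D v = pt g q₀ E.D (E.D.tgt x v) := by
  classical
  -- all points of the block lie in the orbit
  have horb : ∀ v, lo ≤ v → v < hi →
      pt g q₀ E.D v ∈ MulAction.orbit Hs (pt g q₀ E.D lo) := by
    intro v
    induction v using Nat.strong_induction_on with
    | _ v ih =>
      intro h1 h2
      rcases Nat.eq_or_lt_of_le h1 with rfl | h1'
      · exact MulAction.mem_orbit_self _
      · obtain ⟨a1, a2, a3, a4, a5⟩ := hsec v h1' h2
        have hpM : hp v < E.M := by omega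
        have e := hI.1 (hp v) (hl v) hpM (lt_of_lt_of_le a3 hkH) a4
        rw [a5] at e
        obtain ⟨a, ha⟩ := ih (hp v) a2 a1 (lt_trans a2 h2)
        refine ⟨⟨g (hl v), hHs _ a3⟩ * a, ?_⟩
        show (⟨g (hl v), hHs _ a3⟩ * a) • pt g q₀ E.D lo = _
        rw [mul_smul]
        have ha' : a • pt g q₀ E.D lo = pt g q₀ E.D (hp v) := ha
        rw [ha']
        exact e
  -- the orbit is not bigger than the block
  have hcm := card_eq_orbit_mul' Hs (pt g q₀ E.D lo)
  have hOfin : (MulAction.orbit Hs (pt g q₀ E.D lo)).Finite := Set.finite_range _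
  have hpos : 0 < Nat.card Hs := Nat.card_pos
  have hK0 : 0 < K := by
    rcases Nat.eq_zero_or_pos K with rfl | h0
    · rw [Nat.zero_mul] at hK
      omega
    · exact h0
  have hn : (MulAction.orbit Hs (pt g q₀ E.D lo)).ncard ≤ hi - lo := by
    apply Nat.le_of_mul_le_mul_right _ hK0
    calc (MulAction.orbit Hs (pt g q₀ E.D lo)).ncard * K
        ≤ (MulAction.orbit Hs (pt g q₀ E.D lo)).ncard *
          Nat.card (Hs ⊓ MulAction.stabilizer G (pt g q₀ E.D lo) : Subgroup G) :=
          Nat.mul_le_mul_left _ hstab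
      _ = Nat.card Hs := hcm.symm
      _ ≤ h := hcard
      _ ≤ K * (hi - lo) := hK
      _ = (hi - lo) * K := Nat.mul_comm _ _
  -- the points of the block
  have hinj : Set.InjOn (fun v => pt g q₀ E.D v) (Finset.Ico lo hi : Set ℕ) := by
    intro v hv w hw e
    rw [Finset.coe_Ico, Set.mem_Ico] at hv hw
    have e1 := phi_pt hL v (lt_of_lt_of_le hv.2 hhi)
    have e2 := phi_pt hL w (lt_of_lt_of_le hw.2 hhi)
    have e' : pt g q₀ E.D v = pt g q₀ E.D w := e
    rw [e'] at e1
    omega
  have hPcard : ((Finset.Ico lo hi).image (fun v => pt g q₀ E.D v)).card = hi - lo := by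
    rw [Finset.card_image_of_injOn hinj, Nat.card_Ico]
  have hsub : (((Finset.Ico lo hi).image (fun v => pt g q₀ E.D v) : Finset Q) : Set Q) ⊆
      MulAction.orbit Hs (pt g q₀ E.D lo) := by
    intro p hp
    rw [Finset.mem_coe, Finset.mem_image] at hp
    obtain ⟨v, hv, rfl⟩ := hp
    rw [Finset.mem_Ico] at hv
    exact horb v hv.1 hv.2
  have heq : (((Finset.Ico lo hi).image (fun v => pt g q₀ E.D v) : Finset Q) : Set Q) =
      MulAction.orbit Hs (pt g q₀ E.D lo) := by
    apply Set.eq_of_subset_of_ncard_le hsub _ hOfin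
    rw [Set.ncard_coe_finset, hPcard]
    exact hn
  -- the conclusion
  intro v h1 h2 x hx
  have hmem : g x • pt g q₀ E.D v ∈ MulAction.orbit Hs (pt g q₀ E.D lo) := by
    obtain ⟨a, ha⟩ := horb v h1 h2
    refine ⟨⟨g x, hHs x hx⟩ * a, ?_⟩
    show (⟨g x, hHs x hx⟩ * a) • pt g q₀ E.D lo = _
    rw [mul_smul]
    have ha' : a • pt g q₀ E.D lo = pt g q₀ E.D v := ha
    rw [ha']
    rfl
  rw [← heq, Finset.mem_coe, Finset.mem_image] at hmem
  obtain ⟨w, hw, e⟩ := hmem
  rw [Finset.mem_Ico] at hw
  have hvN : v < N := lt_of_lt_of_le h2 hhi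
  have hwN : w < N := lt_of_lt_of_le hw.2 hhi
  have e1 := phi_pt hL w hwN
  have e0 : pt g q₀ E.D w = g x • pt g q₀ E.D v := e
  rw [e0, hL.eqv] at e1
  have e2 : φ (pt g q₀ E.D v) = ⟨v, hvN⟩ := Fin.ext (phi_pt hL v hvN)
  rw [e2, hL.act x (lt_of_lt_of_le hx hkH)] at e1
  have e3 : E.D.tgt x v = w := e1
  rw [e3]
  exact e0.symm

/-! ### the stabiliser chain -/

/-- a variant of `chain_lower` for a subgroup `K` containing the generators of all levels. -/
theorem chain_lowerK {k : ℕ} {T : ℕ → ℕ → ℕ} {e : List ℕ → G} (hA : ActsOn ρ e k T)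
    (K : Subgroup (Equiv.Perm (Fin N))) :
    ∀ (levels : List Level) (fixed : List ℕ), chainOK T k N fixed levels = true →
      (∀ lv ∈ levels, ∀ w ∈ lv.2.1, ρ (e w) ∈ K) →
      chainProd levels ≤ Nat.card (K ⊓ fixSub N fixed : Subgroup (Equiv.Perm (Fin N))) := by
  intro levels
  induction levels with
  | nil =>
    intro fixed _ _
    exact Nat.card_pos
  | cons lv rest ih =>
    intro fixed h hmem
    obtain ⟨b, gens, tree⟩ := lv
    simp only [chainOK, Bool.and_eq_true, Nat.blt_eq] at h
    obtain ⟨⟨⟨⟨hb, hlt⟩, hfix⟩, htree⟩, hrest⟩ := h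
    have hlt' := lettersLtB_spec hlt
    have hfix' := fixOK_spec hfix
    set Q' : Subgroup (Equiv.Perm (Fin N)) := K ⊓ fixSub N fixed with hQdef
    have hQ : ∀ w ∈ gens, ρ (e w) ∈ Q' := by
      intro w hw
      refine ⟨hmem (b, gens, tree) List.mem_cons_self w hw, ?_⟩
      intro c hc hcN
      apply Fin.ext
      rw [hA.act w (hlt' w hw)]
      exact hfix' w hw c hc
    have hinv := treeRun_inv (P := ReachN Q' b) (T := T) (gens := gens)
      (reach_step hA Q' hlt' hQ b) (maskInv_zero _) (reachN_self Q' hb) tree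
    obtain ⟨S, hS, -, hP⟩ := hinv htree
    have horb := card_le_orbit Q' hb S hP
    have h1 := ih (b :: fixed) hrest (fun lv hlv => hmem lv (List.mem_cons_of_mem _ hlv))
    rw [← fixSub_cons K hb fixed] at h1
    rw [card_eq_orbit_mul' Q' (⟨b, hb⟩ : Fin N)]
    unfold chainProd
    apply Nat.mul_le_mul _ h1
    rw [hS, zero_add] at horb
    exact horb

/-- the loops are words in the first `kH` letters and valid closed walks at `lo` at time `R`. -/
def loopsOK (E : Dat2) (R lo kH : ℕ) (loops : List (List ℕ)) : Bool :=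
  loops.all (fun w => w.all (fun c => Nat.blt c kH) && Nat.beq (wkL2 E R lo w) lo)

theorem loopsOK_spec {R lo kH : ℕ} {loops : List (List ℕ)} (h : loopsOK E R lo kH loops = true) :
    ∀ w ∈ loops, (∀ c ∈ w, c < kH) ∧ wkL2 E R lo w = lo := by
  intro w hw
  have h1 := List.all_eq_true.mp h w hw
  obtain ⟨h2, h3⟩ := Bool.and_eq_true_iff.mp h1
  refine ⟨?_, Nat.eq_of_beq_eq_true h3⟩
  intro c hc
  have := List.all_eq_true.mp h2 c hc
  rwa [Nat.blt_eq] at this

/-- the concatenation of the loops with the given numbers. -/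
def expand (loopsA : List (List ℕ)) (js : List ℕ) : List ℕ :=
  (js.map (fun j => loopsA.getD j [])).flatten

/-- replace the numbers of loops by the loops in the generators of all levels. -/
def expLevels (loopsA : List (List ℕ)) (levels : List Level) : List Level :=
  levels.map (fun lv => (lv.1, lv.2.1.map (expand loopsA), lv.2.2))

theorem rprod_reverse_append (l l' : List ℕ) :
    rprod g (l ++ l').reverse = rprod g l.reverse * rprod g l'.reverse := by
  rw [List.reverse_append, rprod_append]

/-- **The lower bound for the stabiliser.** -/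
theorem stab_lower (hL : Link g q₀ E N ρ φ) {kH : ℕ} (hkH : kH ≤ E.D.k)
    (Hs : Subgroup G) (hHs : ∀ x, x < kH → g x ∈ Hs) [Finite Hs]
    {R lo : ℕ} (hI : Inv2 g q₀ E R) (hloM : lo < E.M)
    (loops : List (List ℕ)) (hloops : loopsOK E R lo kH loops = true)
    (levels : List Level)
    (hchain : chainOK E.D.tgt kH N [] (expLevels (loops.map List.reverse) levels) = true) :
    chainProd (expLevels (loops.map List.reverse) levels) ≤
      Nat.card (Hs ⊓ MulAction.stabilizer G (pt g q₀ E.D lo) : Subgroup G) := by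
  classical
  set S : Subgroup G := Hs ⊓ MulAction.stabilizer G (pt g q₀ E.D lo) with hSdef
  have hl := loopsOK_spec hloops
  -- the loops lie in `S`
  have hloopS : ∀ w ∈ loops, rprod g w ∈ S := by
    intro w hw
    obtain ⟨h1, h2⟩ := hl w hw
    refine Subgroup.mem_inf.mpr ⟨rprod_mem Hs hHs w h1, ?_⟩
    rw [MulAction.mem_stabilizer_iff]
    have h3 : wkL2 E R lo w < E.M := by rw [h2]; exact hloM
    obtain ⟨h4, -⟩ := wkL2_pt hI w lo h3
    rw [h2] at h4
    exact h4.symm
  have hgetD : ∀ j, rprod g ((loops.map List.reverse).getD j []).reverse ∈ S := by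
    intro j
    by_cases hj : j < (loops.map List.reverse).length
    · rw [List.getD_eq_getElem _ _ hj, List.getElem_map, List.reverse_reverse]
      exact hloopS _ (List.getElem_mem _)
    · rw [List.getD_eq_default _ _ (not_lt.mp hj), List.reverse_nil, rprod]
      exact S.one_mem
  have hexp : ∀ js : List ℕ, rprod g (expand (loops.map List.reverse) js).reverse ∈ S := by
    intro js
    induction js with
    | nil =>
      show rprod g ([] : List ℕ).reverse ∈ S
      rw [List.reverse_nil, rprod]
      exact S.one_mem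
    | cons j js ih =>
      have e : expand (loops.map List.reverse) (j :: js) =
          (loops.map List.reverse).getD j [] ++ expand (loops.map List.reverse) js := by
        simp [expand]
      rw [e, rprod_reverse_append]
      exact S.mul_mem (hgetD j) ih
  have : Finite S := Finite.of_injective (Subgroup.inclusion (inf_le_left : S ≤ Hs))
    (Subgroup.inclusion_injective _)
  have hA := actsOn_of_link hL hkH
  have hmem : ∀ lv ∈ expLevels (loops.map List.reverse) levels, ∀ w ∈ lv.2.1,
      ρ ((fun l => rprod g l.reverse) w) ∈ S.map ρ := by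
    intro lv hlv w hw
    unfold expLevels at hlv
    obtain ⟨lv0, -, rfl⟩ := List.mem_map.mp hlv
    obtain ⟨js, -, rfl⟩ := List.mem_map.mp hw
    exact Subgroup.mem_map_of_mem ρ (hexp js)
  have h1 := chain_lowerK hA (S.map ρ) _ [] hchain hmem
  have h2 : Nat.card (S.map ρ ⊓ fixSub N [] : Subgroup (Equiv.Perm (Fin N))) ≤
      Nat.card (S.map ρ) := Subgroup.card_le_of_le inf_le_left
  have h3 : Nat.card (S.map ρ) ≤ Nat.card S := by
    apply Nat.card_le_card_of_surjective (fun s : S => (⟨ρ s.1, Subgroup.mem_map_of_mem ρ s.2⟩ : S.map ρ))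
    rintro ⟨_, s, hs, rfl⟩
    exact ⟨⟨s, hs⟩, rfl⟩
  omega

end

end Cfsg.Agent.Helper5.TCS
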