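import Mathlib
import Cfsg.Agent.Helper5.HNGen
import Cfsg.Agent.Helper5.HNMSum
import Cfsg.Agent.Helper5.HNMSem
import Cfsg.Agent.Helper5.HNTowA
import Cfsg.Agent.Helper5.HNTowC
import Cfsg.Agent.Helper5.TCSB

/-!
# The index of `⟨x, y, z⟩` in the presented Harada–Norton group

The certified coset enumeration `HNM` over `⟨x, y, z⟩` (1539000 cosets; the action of `x`, `y`, `z`
on eight blocks of cosets is justified by the order of `⟨x, y, z⟩`) gives the index.
-/

set_option autoImplicit false

namespace Cfsg.Agent.Helper5.HNIdx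

open Cfsg Cfsg.Spor Cfsg.Agent.Helper5.HNOrd Cfsg.Agent.Helper5.HNGen
  Cfsg.Agent.Helper5.TC Cfsg.Agent.Helper5.TCI Cfsg.Agent.Helper5.TCS Cfsg.Agent.Helper5.LP

theorem iota_eq : ∀ c, HNM.iota c = io c
  | 0 => rfl
  | 1 => rfl
  | 2 => rfl
  | 3 => rfl
  | 4 => rfl
  | 5 => rfl
  | 6 => rfl
  | 7 => rfl
  | 8 => rfl
  | _ + 9 => rfl

theorem hιι (x : ℕ) : HNM.iota (HNM.iota x) = x := by
  rw [iota_eq, iota_eq, io_io]

theorem hιk : ∀ x, x < 9 → HNM.iota x < 9 := by
  intro x hx
  interval_cases x <;> decide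

theorem hι16 : ∀ x, x < 16 → HNM.iota x < 16 := by
  intro x hx
  interval_cases x <;> decide

/-- the order of `⟨x, y, z⟩`. -/
theorem Hs_order : Finite Hs ∧ Nat.card Hs ≤ 177408000 :=
  order_le HNTow.towerA_inst HNTow.towerC_inst

instance finite_Hs : Finite Hs := Hs_order.1

/-- the permutations of the table. -/
noncomputable def σ (c : ℕ) : Equiv.Perm (Fin 1539000) := tblPermI HNM.tgF HNM.iota 1539000 c

theorem hT9 : ∀ x, x < 9 → ∀ v, v < 1539000 →
    HNM.tgF x v < 1539000 ∧ HNM.tgF (HNM.iota x) (HNM.tgF x v) = v := HNM.hT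

theorem σ_mul (c : ℕ) : σ c * σ (io c) = 1 := by
  rw [← iota_eq]
  exact tblPermI_mul HNM.tgF HNM.iota hιι 1539000 c

theorem tbl9 (c : ℕ) (hc : c < 9) :
    (∀ v, v < 1539000 → HNM.tgF c v < 1539000 ∧ HNM.tgF (HNM.iota c) (HNM.tgF c v) = v) ∧
    (∀ v, v < 1539000 → HNM.tgF (HNM.iota c) v < 1539000 ∧
      HNM.tgF c (HNM.tgF (HNM.iota c) v) = v) :=
  tbl_both (T := HNM.tgF) (ι := HNM.iota) (N := 1539000) (k := 9) hιι hιk hT9 hc

theorem σ_apply (c : ℕ) (hc : c < 9) (v : Fin 1539000) : ((σ c) v).val = HNM.tgF c v.val := by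
  have h := tblPermI_apply (T := HNM.tgF) (ι := HNM.iota) (N := 1539000) (x := c) (tbl9 c hc) v
  rw [σ]
  exact h

theorem σ_of_walk (j : ℕ) (hj : j < 29)
    (hw : ∀ v, v < 1539000 → walkT HNM.tgF (HNM.D.wlen j) (HNM.D.wordP j) v = v) :
    rprod σ (unpack (HNM.D.wlen j) (HNM.D.wordP j)) = 1 := by
  ext v
  have h1 := walkT_specI (T := HNM.tgF) (ι := HNM.iota) (N := 1539000) (k := 9) hιι hιk hT9
    (HNM.D.wlen j) (HNM.D.wordP j) (HNM.hltr j hj) v
  have h2 := hw v.1 v.2
  exact h1.trans h2

theorem σ_rel : ∀ i, i < 14 → rprod σ (W.getD i []) = 1 := by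
  intro i hi
  interval_cases i
  · have := σ_of_walk 0 (by norm_num) HNM.relw_0
    rw [HNM.word_0] at this
    exact this
  · have := σ_of_walk 1 (by norm_num) HNM.relw_1
    rw [HNM.word_1] at this
    exact this
  · have := σ_of_walk 2 (by norm_num) HNM.relw_2
    rw [HNM.word_2] at this
    exact this
  · have := σ_of_walk 3 (by norm_num) HNM.relw_3
    rw [HNM.word_3] at this
    exact this
  · have := σ_of_walk 4 (by norm_num) HNM.relw_4
    rw [HNM.word_4] at this
    exact this
  · have := σ_of_walk 5 (by norm_num) HNM.relw_5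
    rw [HNM.word_5] at this
    exact this
  · have := σ_of_walk 6 (by norm_num) HNM.relw_6
    rw [HNM.word_6] at this
    exact this
  · have := σ_of_walk 7 (by norm_num) HNM.relw_7
    rw [HNM.word_7] at this
    exact this
  · have := σ_of_walk 8 (by norm_num) HNM.relw_8
    rw [HNM.word_8] at this
    exact this
  · have := σ_of_walk 9 (by norm_num) HNM.relw_9
    rw [HNM.word_9] at this
    exact this
  · have := σ_of_walk 10 (by norm_num) HNM.relw_10
    rw [HNM.word_10] at this
    exact this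
  · have := σ_of_walk 11 (by norm_num) HNM.relw_11
    rw [HNM.word_11] at this
    exact this
  · have := σ_of_walk 12 (by norm_num) HNM.relw_12
    rw [HNM.word_12] at this
    exact this
  · have := σ_of_walk 13 (by norm_num) HNM.relw_13
    rw [HNM.word_13] at this
    exact this

theorem σ_18 : rprod σ [5, 5, 8] = 1 := by
  have := σ_of_walk 18 (by norm_num) HNM.relw_18
  rw [HNM.word_18] at this
  exact this

theorem fix1 : HNM.tgF 1 0 = 0 := by decide +kernel
theorem fix3 : HNM.tgF 3 0 = 0 := by decide +kernel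
theorem fix4 : HNM.tgF 4 0 = 0 := by decide +kernel

/-- the base point of the table. -/
def z0 : Fin 1539000 := ⟨0, by norm_num⟩

/-- the base point of the cosets. -/
def q0 : G ⧸ Hs := ((1 : G) : G ⧸ Hs)

theorem g_rel_word : ∀ wi, wi < 26 →
    rprod g (unpack (HNM.D.wlen wi) (HNM.D.wordP wi)) = 1 := by
  intro wi hwi
  interval_cases wi
  · rw [HNM.word_0]; exact g_rel 0 (by norm_num)
  · rw [HNM.word_1]; exact g_rel 1 (by norm_num)
  · rw [HNM.word_2]; exact g_rel 2 (by norm_num)
  · rw [HNM.word_3]; exact g_rel 3 (by norm_num)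
  · rw [HNM.word_4]; exact g_rel 4 (by norm_num)
  · rw [HNM.word_5]; exact g_rel 5 (by norm_num)
  · rw [HNM.word_6]; exact g_rel 6 (by norm_num)
  · rw [HNM.word_7]; exact g_rel 7 (by norm_num)
  · rw [HNM.word_8]; exact g_rel 8 (by norm_num)
  · rw [HNM.word_9]; exact g_rel 9 (by norm_num)
  · rw [HNM.word_10]; exact g_rel 10 (by norm_num)
  · rw [HNM.word_11]; exact g_rel 11 (by norm_num)
  · rw [HNM.word_12]; exact g_rel 12 (by norm_num)
  · rw [HNM.word_13]; exact g_rel 13 (by norm_num)
  · rw [HNM.word_14]; exact g_rel 14 (by norm_num)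
  · rw [HNM.word_15]; exact g_rel 15 (by norm_num)
  · rw [HNM.word_16]; exact g_rel 16 (by norm_num)
  · rw [HNM.word_17]; exact g_rel 17 (by norm_num)
  · rw [HNM.word_18]; exact g_rel 18 (by norm_num)
  · rw [HNM.word_19]; exact g_rel 19 (by norm_num)
  · rw [HNM.word_20]; exact g_rel 20 (by norm_num)
  · rw [HNM.word_21]; exact g_rel 21 (by norm_num)
  · rw [HNM.word_22]; exact g_rel 22 (by norm_num)
  · rw [HNM.word_23]; exact g_rel 23 (by norm_num)
  · rw [HNM.word_24]; exact g_rel 24 (by norm_num)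
  · rw [HNM.word_25]; exact g_rel 25 (by norm_num)

theorem hypI : HypI HNM.iota g q0 HNM.D := by
  refine ⟨?_, fun wi hwi => lettersOK_spec HNM.D.k _ _ (HNM.hltr wi hwi),
    revOKI_spec HNM.iota hι16 HNM.D HNM.D.nw HNM.rev_ok, ?_, ?_, by decide⟩
  · intro x _
    rw [iota_eq]
    exact g_inv x
  · intro wi hwi q
    rw [g_rel_word wi hwi, one_smul]
  · intro wi hwi
    have hwi' : wi < 29 := hwi
    rcases Nat.lt_or_ge wi 26 with h | h
    · rw [g_rel_word wi h, one_smul]
    · have hmem : rprod g (unpack (HNM.D.wlen wi) (HNM.D.wordP wi)) ∈ Hs := by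
        interval_cases wi
        · rw [HNM.word_26]
          show rprod g [0] ∈ Hs
          rw [rprod, rprod, one_mul]
          exact g_mem 0 (by norm_num)
        · rw [HNM.word_27]
          show rprod g [2] ∈ Hs
          rw [rprod, rprod, one_mul]
          exact g_mem 2 (by norm_num)
        · rw [HNM.word_28]
          show rprod g [4] ∈ Hs
          rw [rprod, rprod, one_mul]
          exact g_mem 4 (by norm_num)
      show rprod g (unpack (HNM.D.wlen wi) (HNM.D.wordP wi)) • ((1 : G) : G ⧸ Hs) = ((1 : G) : G ⧸ Hs)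
      rw [MulAction.Quotient.smul_coe, smul_eq_mul, mul_one, QuotientGroup.eq, mul_one]
      exact Hs.inv_mem hmem

theorem htr : ∀ q : G ⧸ Hs, ∃ a : G, a • q0 = q := by
  intro q
  induction q using QuotientGroup.induction_on with
  | H a => exact ⟨a, by
      show a • ((1 : G) : G ⧸ Hs) = (a : G ⧸ Hs)
      rw [MulAction.Quotient.smul_coe, smul_eq_mul, mul_one]⟩

/-- **The package**: the permutation representation on the cosets, the bijection of the cosets
with the names of the table, and the validity of all edges of the table. -/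
theorem package : ∃ (ρ : G →* Equiv.Perm (Fin 1539000)) (φ : G ⧸ Hs → Fin 1539000),
    Link g q0 HNM.E 1539000 ρ φ ∧ Function.Bijective φ ∧
    (∀ r, r ≤ INF → Inv2 g q0 HNM.E r) ∧ (∀ c, c < 9 → ρ (g c) = σ c) := by
  classical
  obtain ⟨ρ, hρ⟩ := univ (γ := σ) σ_mul σ_rel σ_18
  -- `Hs` fixes the base point
  have hx : ρ xG = σ 1 := hρ 1 (by norm_num)
  have hy : ρ yG = σ 3 := hρ 3 (by norm_num)
  have hz : ρ zG = σ 4 := hρ 4 (by norm_num)
  have hfix : ∀ a ∈ Hs, ρ a z0 = z0 := by
    intro a ha
    rw [Hs_eq] at ha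
    induction ha using Subgroup.closure_induction with
    | mem b hb =>
      rcases hb with rfl | rfl | rfl
      · rw [hx]; apply Fin.ext; rw [σ_apply 1 (by norm_num)]; exact fix1
      · rw [hy]; apply Fin.ext; rw [σ_apply 3 (by norm_num)]; exact fix3
      · rw [hz]; apply Fin.ext; rw [σ_apply 4 (by norm_num)]; exact fix4
    | one => simp
    | mul a b _ _ iha ihb => rw [map_mul, Equiv.Perm.mul_apply, ihb, iha]
    | inv a _ iha => rw [map_inv, Equiv.Perm.inv_eq_iff_eq, iha]
  -- the map to the table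
  let φ : G ⧸ Hs → Fin 1539000 := fun q => Quotient.liftOn' q (fun a => ρ a z0) (by
    intro a b hab
    rw [QuotientGroup.leftRel_apply] at hab
    have := hfix _ hab
    rw [map_mul, map_inv, Equiv.Perm.mul_apply, Equiv.Perm.inv_eq_iff_eq] at this
    exact this.symm)
  have hL : Link g q0 HNM.E 1539000 ρ φ := by
    refine ⟨?_, ?_, ?_, HNM.tree_ok⟩
    · intro a q
      induction q using QuotientGroup.induction_on with
      | H b =>
        show ρ (a * b) z0 = ρ a (ρ b z0)
        rw [map_mul, Equiv.Perm.mul_apply]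
    · intro x hx' v
      rw [hρ x hx']
      exact σ_apply x hx' v
    · show (ρ 1 z0).val = 0
      rw [map_one]
      rfl
  have hH := hypI
  -- the semantic blocks
  have hcard : Nat.card Hs ≤ 177408000 := Hs_order.2
  have hS : SemHyp g q0 HNM.B HNM.E := by
    intro b hb hI v hlo hhi x hx'
    have hb' : b < 9 := hb
    have hx5 : x < 5 := hx'
    interval_cases b
    · rw [HNM.hi_0] at hhi
      exact absurd hhi (Nat.not_lt_zero v)
    · rw [HNM.lo_1] at hlo
      rw [HNM.hi_1] at hhi
      rw [HNM.r_1] at hI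
      have hstab := stab_lower hL (kH := 5) (by decide) Hs g_mem hI (by decide) HNM.loops_1
        HNM.loops_ok_1 HNM.levels_1 HNM.chain_ok_1
      rw [HNM.chain_prod_1] at hstab
      exact sem_block hL (kH := 5) (by decide) Hs g_mem hcard hI (by norm_num) (le_refl _)
        (fun v => HNM.secF v % 2097152) (fun v => HNM.secF v / 2097152) HNM.sec_ok_1
        (K := 126000) (by norm_num) hstab v hlo hhi x hx5
    · rw [HNM.lo_2] at hlo
      rw [HNM.hi_2] at hhi
      rw [HNM.r_2] at hI
      have hstab := stab_lower hL (kH := 5) (by decide) Hs g_mem hI (by decide) HNM.loops_2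
        HNM.loops_ok_2 HNM.levels_2 HNM.chain_ok_2
      rw [HNM.chain_prod_2] at hstab
      exact sem_block hL (kH := 5) (by decide) Hs g_mem hcard hI (by norm_num) (le_refl _)
        (fun v => HNM.secF v % 2097152) (fun v => HNM.secF v / 2097152) HNM.sec_ok_2
        (K := 5040) (by norm_num) hstab v hlo hhi x hx5
    · rw [HNM.lo_3] at hlo
      rw [HNM.hi_3] at hhi
      rw [HNM.r_3] at hI
      have hstab := stab_lower hL (kH := 5) (by decide) Hs g_mem hI (by decide) HNM.loops_3
        HNM.loops_ok_3 HNM.levels_3 HNM.chain_ok_3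
      rw [HNM.chain_prod_3] at hstab
      exact sem_block hL (kH := 5) (by decide) Hs g_mem hcard hI (by norm_num) (le_refl _)
        (fun v => HNM.secF v % 2097152) (fun v => HNM.secF v / 2097152) HNM.sec_ok_3
        (K := 80640) (by norm_num) hstab v hlo hhi x hx5
    · rw [HNM.lo_4] at hlo
      rw [HNM.hi_4] at hhi
      rw [HNM.r_4] at hI
      have hstab := stab_lower hL (kH := 5) (by decide) Hs g_mem hI (by decide) HNM.loops_4
        HNM.loops_ok_4 HNM.levels_4 HNM.chain_ok_4
      rw [HNM.chain_prod_4] at hstab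
      exact sem_block hL (kH := 5) (by decide) Hs g_mem hcard hI (by norm_num) (le_refl _)
        (fun v => HNM.secF v % 2097152) (fun v => HNM.secF v / 2097152) HNM.sec_ok_4
        (K := 1440) (by norm_num) hstab v hlo hhi x hx5
    · rw [HNM.lo_5] at hlo
      rw [HNM.hi_5] at hhi
      rw [HNM.r_5] at hI
      have hstab := stab_lower hL (kH := 5) (by decide) Hs g_mem hI (by decide) HNM.loops_5
        HNM.loops_ok_5 HNM.levels_5 HNM.chain_ok_5
      rw [HNM.chain_prod_5] at hstab
      exact sem_block hL (kH := 5) (by decide) Hs g_mem hcard hI (by norm_num) (le_refl _)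
        (fun v => HNM.secF v % 2097152) (fun v => HNM.secF v / 2097152) HNM.sec_ok_5
        (K := 500) (by norm_num) hstab v hlo hhi x hx5
    · rw [HNM.lo_6] at hlo
      rw [HNM.hi_6] at hhi
      rw [HNM.r_6] at hI
      have hstab := stab_lower hL (kH := 5) (by decide) Hs g_mem hI (by decide) HNM.loops_6
        HNM.loops_ok_6 HNM.levels_6 HNM.chain_ok_6
      rw [HNM.chain_prod_6] at hstab
      exact sem_block hL (kH := 5) (by decide) Hs g_mem hcard hI (by norm_num) (le_refl _)
        (fun v => HNM.secF v % 2097152) (fun v => HNM.secF v / 2097152) HNM.sec_ok_6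
        (K := 240) (by norm_num) hstab v hlo hhi x hx5
    · rw [HNM.lo_7] at hlo
      rw [HNM.hi_7] at hhi
      rw [HNM.r_7] at hI
      have hstab := stab_lower hL (kH := 5) (by decide) Hs g_mem hI (by decide) HNM.loops_7
        HNM.loops_ok_7 HNM.levels_7 HNM.chain_ok_7
      rw [HNM.chain_prod_7] at hstab
      exact sem_block hL (kH := 5) (by decide) Hs g_mem hcard hI (by norm_num) (le_refl _)
        (fun v => HNM.secF v % 2097152) (fun v => HNM.secF v / 2097152) HNM.sec_ok_7
        (K := 640) (by norm_num) hstab v hlo hhi x hx5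
    · rw [HNM.lo_8] at hlo
      rw [HNM.hi_8] at hhi
      rw [HNM.r_8] at hI
      have hstab := stab_lower hL (kH := 5) (by decide) Hs g_mem hI (by decide) HNM.loops_8
        HNM.loops_ok_8 HNM.levels_8 HNM.chain_ok_8
      rw [HNM.chain_prod_8] at hstab
      exact sem_block hL (kH := 5) (by decide) Hs g_mem hcard hI (by norm_num) (le_refl _)
        (fun v => HNM.secF v % 2097152) (fun v => HNM.secF v / 2097152) HNM.sec_ok_8
        (K := 30720) (by norm_num) hstab v hlo hhi x hx5
  -- the upper bound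
  have har : ∀ v, v < HNM.E.M → INF ≤ HNM.E.arank v := fun _ _ => le_refl _
  have hub := card_le_of_certS hH hS g_gen htr HNM.hE har (by decide)
    (fun x hx' v hv => (HNM.hT x hx' v hv).1)
  obtain ⟨hfin, hle⟩ := hub
  -- the lower bound
  have hsurj : Function.Surjective φ := by
    intro v
    exact ⟨pt g q0 HNM.E.D v.1, Fin.ext (phi_pt hL v.1 v.2)⟩
  have hbij : Function.Bijective φ := by
    apply Function.Surjective.bijective_of_nat_card_le hsurj
    rw [Nat.card_fin]
    exact hle
  exact ⟨ρ, φ, hL, hbij, inv2_allS hH hS HNM.hE har, hρ⟩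

/-- **The index.** -/
theorem index_Hs : Hs.index = 1539000 := by
  obtain ⟨ρ, φ, -, hbij, -, -⟩ := package
  have := Nat.card_congr (Equiv.ofBijective φ hbij)
  rw [Nat.card_fin] at this
  exact this

end Cfsg.Agent.Helper5.HNIdx
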