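import Mathlib

/-!
# The suborbit lengths of the Harada–Norton group on 1539000 points

A union of the nine blocks `{0}`, `[1, 1409)`, … which contains `0` and whose size divides
`1539000` is `{0}` or everything.
-/

set_option autoImplicit false

namespace Cfsg.Agent.Helper5.HNArith

/-- the nine blocks. -/
def blocks : List (ℕ × ℕ) :=
  [(0, 1), (1, 1409), (1409, 36609), (36609, 38809), (38809, 162009), (162009, 516825),
   (516825, 1256025), (1256025, 1533225), (1533225, 1539000)]

/-- the size of a union of consecutive blocks. -/
theorem card_blocks (U : Finset ℕ) : ∀ (bl : List (ℕ × ℕ)) (s e : ℕ),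
    List.IsChain (fun a b : ℕ × ℕ => a.2 = b.1) bl →
    (∀ b ∈ bl, b.1 ≤ b.2) →
    (bl.head?.map Prod.fst = some s ∨ (bl = [] ∧ s = e)) →
    (bl.getLast?.map Prod.snd = some e ∨ (bl = [] ∧ s = e)) →
    (∀ b ∈ bl, ∀ v, b.1 ≤ v → v < b.2 → (v ∈ U ↔ b.1 ∈ U)) →
    (U.filter (fun v => s ≤ v ∧ v < e)).card =
      (bl.map (fun b => if b.1 ∈ U then b.2 - b.1 else 0)).sum := by
  intro bl
  induction bl with
  | nil =>
    intro s e _ _ h1 _ _
    rcases h1 with h1 | ⟨-, rfl⟩
    · simp at h1
    · simp only [List.map_nil, List.sum_nil, Finset.card_eq_zero]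
      apply Finset.filter_false_of_mem
      intro v _ hv
      omega
  | cons b rest ih =>
    intro s e hch hle h1 h2 hP
    have hs : b.1 = s := by
      rcases h1 with h1 | ⟨h1, -⟩
      · simpa using h1
      · simp at h1
    subst hs
    have hb := hle b List.mem_cons_self
    -- split off the first block
    have hsplit : U.filter (fun v => b.1 ≤ v ∧ v < e) =
        U.filter (fun v => b.1 ≤ v ∧ v < b.2) ∪ U.filter (fun v => b.2 ≤ v ∧ v < e) ∧
        Disjoint (U.filter (fun v => b.1 ≤ v ∧ v < b.2)) (U.filter (fun v => b.2 ≤ v ∧ v < e)) ∧
        b.2 ≤ e := by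
      have hbe : b.2 ≤ e := by
        cases rest with
        | nil =>
          rcases h2 with h2 | ⟨h2, -⟩
          · simp at h2
            omega
          · simp at h2
        | cons c rest' =>
          have hc : b.2 = c.1 := by
            rw [List.isChain_cons_cons] at hch
            exact hch.1
          -- the end is at least the start of every later block; we get it from the recursion
          have : ∀ (l : List (ℕ × ℕ)) (c : ℕ × ℕ),
              List.IsChain (fun a b : ℕ × ℕ => a.2 = b.1) (c :: l) →
              (∀ d ∈ c :: l, d.1 ≤ d.2) → ∀ e', (c :: l).getLast?.map Prod.snd = some e' →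
              c.1 ≤ e' := by
            intro l
            induction l with
            | nil =>
              intro c _ hl e' he'
              simp at he'
              have := hl c List.mem_cons_self
              omega
            | cons d l ihl =>
              intro c hcc hl e' he'
              rw [List.isChain_cons_cons] at hcc
              have h3 := ihl d hcc.2 (fun x hx => hl x (List.mem_cons_of_mem _ hx)) e' (by
                simpa [List.getLast?_cons_cons] using he')
              have := hl c List.mem_cons_self
              omega
          rcases h2 with h2 | ⟨h2, -⟩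
          · have hch' : List.IsChain (fun a b : ℕ × ℕ => a.2 = b.1) (c :: rest') := by
              rw [List.isChain_cons_cons] at hch
              exact hch.2
            have := this rest' c hch' (fun x hx => hle x (List.mem_cons_of_mem _ hx)) e (by
              simpa [List.getLast?_cons_cons] using h2)
            omega
          · simp at h2
      refine ⟨?_, ?_, hbe⟩
      · ext v
        simp only [Finset.mem_filter, Finset.mem_union]
        constructor
        · rintro ⟨hv, h3, h4⟩
          rcases Nat.lt_or_ge v b.2 with h5 | h5
          · exact Or.inl ⟨hv, h3, h5⟩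
          · exact Or.inr ⟨hv, h5, h4⟩
        · rintro (⟨hv, h3, h4⟩ | ⟨hv, h3, h4⟩)
          · exact ⟨hv, h3, by omega⟩
          · exact ⟨hv, by omega, h4⟩
      · rw [Finset.disjoint_left]
        intro v hv1 hv2
        simp only [Finset.mem_filter] at hv1 hv2
        omega
    obtain ⟨hsp, hdis, hbe⟩ := hsplit
    rw [hsp, Finset.card_union_of_disjoint hdis, List.map_cons, List.sum_cons]
    congr 1
    · -- the first block
      by_cases hin : b.1 ∈ U
      · rw [if_pos hin]
        have : U.filter (fun v => b.1 ≤ v ∧ v < b.2) = Finset.Ico b.1 b.2 := by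
          ext v
          simp only [Finset.mem_filter, Finset.mem_Ico]
          constructor
          · rintro ⟨_, h⟩
            exact h
          · rintro ⟨h3, h4⟩
            exact ⟨(hP b List.mem_cons_self v h3 h4).2 hin, h3, h4⟩
        rw [this, Nat.card_Ico]
      · rw [if_neg hin, Finset.card_eq_zero]
        apply Finset.filter_false_of_mem
        rintro v hv ⟨h3, h4⟩
        exact hin ((hP b List.mem_cons_self v h3 h4).1 hv)
    · -- the rest
      apply ih b.2 e
      · exact hch.tail
      · exact fun x hx => hle x (List.mem_cons_of_mem _ hx)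
      · cases rest with
        | nil =>
          right
          refine ⟨rfl, ?_⟩
          rcases h2 with h2 | ⟨h2, -⟩
          · simpa using h2
          · simp at h2
        | cons c rest' =>
          left
          rw [List.isChain_cons_cons] at hch
          simp [hch.1]
      · cases rest with
        | nil =>
          right
          refine ⟨rfl, ?_⟩
          rcases h2 with h2 | ⟨h2, -⟩
          · simpa using h2
          · simp at h2
        | cons c rest' =>
          left
          rcases h2 with h2 | ⟨h2, -⟩
          · simpa [List.getLast?_cons_cons] using h2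
          · simp at h2
      · exact fun x hx => hP x (List.mem_cons_of_mem _ hx)

set_option maxRecDepth 100000 in
/-- the arithmetic of the suborbit lengths. -/
theorem arith : ∀ e1 e2 e3 e4 e5 e6 e7 e8 : Bool,
    (1 + (bif e1 then 1408 else 0) + (bif e2 then 35200 else 0) + (bif e3 then 2200 else 0) +
      (bif e4 then 123200 else 0) + (bif e5 then 354816 else 0) + (bif e6 then 739200 else 0) +
      (bif e7 then 277200 else 0) + (bif e8 then 5775 else 0)) ∣ 1539000 →
    (1 + (bif e1 then 1408 else 0) + (bif e2 then 35200 else 0) + (bif e3 then 2200 else 0) +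
      (bif e4 then 123200 else 0) + (bif e5 then 354816 else 0) + (bif e6 then 739200 else 0) +
      (bif e7 then 277200 else 0) + (bif e8 then 5775 else 0)) = 1 ∨
    (1 + (bif e1 then 1408 else 0) + (bif e2 then 35200 else 0) + (bif e3 then 2200 else 0) +
      (bif e4 then 123200 else 0) + (bif e5 then 354816 else 0) + (bif e6 then 739200 else 0) +
      (bif e7 then 277200 else 0) + (bif e8 then 5775 else 0)) = 1539000 := by
  decide

/-- **A union of blocks containing `0` whose size divides `1539000` is trivial or everything.** -/
theorem orbit_card (U : Finset ℕ) (hU : U ⊆ Finset.range 1539000) (h0 : 0 ∈ U)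
    (hP : ∀ b ∈ blocks, ∀ v, b.1 ≤ v → v < b.2 → (v ∈ U ↔ b.1 ∈ U))
    (hdvd : U.card ∣ 1539000) : U.card = 1 ∨ U.card = 1539000 := by
  have h1 := card_blocks U blocks 0 1539000 (by decide) (by decide) (Or.inl rfl) (Or.inl rfl) hP
  have h2 : U.filter (fun v => 0 ≤ v ∧ v < 1539000) = U := by
    apply Finset.filter_true_of_mem
    intro v hv
    exact ⟨Nat.zero_le v, Finset.mem_range.mp (hU hv)⟩
  rw [h2] at h1
  have h3 := arith (decide (1 ∈ U)) (decide (1409 ∈ U)) (decide (36609 ∈ U)) (decide (38809 ∈ U))
    (decide (162009 ∈ U)) (decide (516825 ∈ U)) (decide (1256025 ∈ U)) (decide (1533225 ∈ U))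
  have h4 : U.card = (1 + (bif decide (1 ∈ U) then 1408 else 0) +
      (bif decide (1409 ∈ U) then 35200 else 0) + (bif decide (36609 ∈ U) then 2200 else 0) +
      (bif decide (38809 ∈ U) then 123200 else 0) + (bif decide (162009 ∈ U) then 354816 else 0) +
      (bif decide (516825 ∈ U) then 739200 else 0) + (bif decide (1256025 ∈ U) then 277200 else 0) +
      (bif decide (1533225 ∈ U) then 5775 else 0)) := by
    rw [h1]
    simp only [blocks, List.map_cons, List.map_nil, List.sum_cons, List.sum_nil, if_pos h0]
    by_cases a1 : 1 ∈ U <;> by_cases a2 : 1409 ∈ U <;> by_cases a3 : 36609 ∈ U <;>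
      by_cases a4 : 38809 ∈ U <;> by_cases a5 : 162009 ∈ U <;> by_cases a6 : 516825 ∈ U <;>
      by_cases a7 : 1256025 ∈ U <;> by_cases a8 : 1533225 ∈ U <;>
      simp [a1, a2, a3, a4, a5, a6, a7, a8]
  rw [h4] at hdvd ⊢
  exact h3 hdvd

end Cfsg.Agent.Helper5.HNArith
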