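import Mathlib

/-!
# Elements of prime order in normal subgroups

If `p² ∤ |G|` and `p` divides the order of the normal subgroup `M`, then `M` contains every
element `a` with `a ^ p = 1`.
-/

set_option autoImplicit false

namespace Cfsg.Agent.Helper5.HNSyl

theorem sylow_card_eq {G : Type*} [Group G] [Finite G] (p : ℕ) [Fact p.Prime]
    (hp2 : ¬ p ^ 2 ∣ Nat.card G) (P : Sylow p G) (a : G) (ha : a ∈ (P : Subgroup G))
    (hord : orderOf a = p) : (P : Subgroup G) = Subgroup.zpowers a := by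
  have hp : p.Prime := Fact.out
  obtain ⟨n, hn⟩ := (IsPGroup.iff_card.mp P.isPGroup')
  have hdvd : Nat.card (P : Subgroup G) ∣ Nat.card G := Subgroup.card_subgroup_dvd_card _
  have hle : Subgroup.zpowers a ≤ (P : Subgroup G) := by
    rw [Subgroup.zpowers_le]
    exact ha
  have hcz : Nat.card (Subgroup.zpowers a) = p := by rw [Nat.card_zpowers, hord]
  have hn1 : n ≤ 1 := by
    by_contra hcon
    push_neg at hcon
    apply hp2
    refine dvd_trans ?_ hdvd
    rw [hn]
    exact pow_dvd_pow p hcon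
  have hge : p ≤ Nat.card (P : Subgroup G) :=
    calc p = Nat.card (Subgroup.zpowers a) := hcz.symm
      _ ≤ Nat.card (P : Subgroup G) := Subgroup.card_le_of_le hle
  have hcP : Nat.card (P : Subgroup G) = p := by
    rw [hn] at hge ⊢
    interval_cases n
    · rw [pow_zero] at hge
      exact absurd hge (by have := hp.two_le; omega)
    · rw [pow_one]
  symm
  apply Subgroup.eq_of_le_of_card_ge hle
  rw [hcP, hcz]

theorem mem_normal_of_pow_prime {G : Type*} [Group G] [Finite G] (p : ℕ) [Fact p.Prime]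
    (hp2 : ¬ p ^ 2 ∣ Nat.card G) (M : Subgroup G) [M.Normal] (hM : p ∣ Nat.card M)
    (a : G) (ha : a ^ p = 1) : a ∈ M := by
  have hp : p.Prime := Fact.out
  by_cases ha1 : a = 1
  · rw [ha1]; exact M.one_mem
  have horda : orderOf a = p := orderOf_eq_prime ha ha1
  obtain ⟨b, hb⟩ := exists_prime_orderOf_dvd_card' p hM
  have hordb : orderOf (b : G) = p := by rw [Subgroup.orderOf_coe]; exact hb
  -- Sylow subgroups
  have hpa : IsPGroup p (Subgroup.zpowers a) := by
    apply IsPGroup.of_card (n := 1)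
    rw [Nat.card_zpowers, horda, pow_one]
  have hpb : IsPGroup p (Subgroup.zpowers (b : G)) := by
    apply IsPGroup.of_card (n := 1)
    rw [Nat.card_zpowers, hordb, pow_one]
  obtain ⟨P, hP⟩ := hpa.exists_le_sylow
  obtain ⟨Q, hQ⟩ := hpb.exists_le_sylow
  have haP : a ∈ (P : Subgroup G) := hP (Subgroup.mem_zpowers a)
  have hbQ : (b : G) ∈ (Q : Subgroup G) := hQ (Subgroup.mem_zpowers _)
  have hQeq := sylow_card_eq p hp2 Q (b : G) hbQ hordb
  obtain ⟨c, hc⟩ := MulAction.exists_smul_eq G Q P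
  have haQ : a ∈ ((c • Q : Sylow p G) : Subgroup G) := by rw [hc]; exact haP
  rw [Sylow.coe_subgroup_smul, Subgroup.mem_pointwise_smul_iff_inv_smul_mem] at haQ
  have h1 : (MulAut.conj c)⁻¹ • a ∈ Subgroup.zpowers (b : G) := by rw [← hQeq]; exact haQ
  have h2 : (MulAut.conj c)⁻¹ • a ∈ M := by
    have : Subgroup.zpowers (b : G) ≤ M := by
      rw [Subgroup.zpowers_le]
      exact b.2
    exact this h1
  have h3 : (MulAut.conj c)⁻¹ • a = c⁻¹ * a * c⁻¹⁻¹ := by
    rw [← map_inv]
    show (MulAut.conj c⁻¹) a = _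
    rw [MulAut.conj_apply]
  rw [h3] at h2
  have h4 := ‹M.Normal›.conj_mem _ h2 c
  have h5 : c * (c⁻¹ * a * c⁻¹⁻¹) * c⁻¹ = a := by group
  rw [h5] at h4
  exact h4

end Cfsg.Agent.Helper5.HNSyl
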