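import Mathlib
import Cfsg.Agent.Helper5.LPB
import Cfsg.Agent.Helper5.HNArith
import Cfsg.Agent.Helper5.HNSyl

/-!
# Simplicity from a primitive action on 1539000 points

A finite group of order `1539000 · |Hs|`, not divisible by `19²`, acting faithfully and
transitively on `1539000` points with point stabiliser `Hs` whose orbits are the nine blocks, is
simple as soon as it has an element `a₀` with `a₀ ^ 19 = 1` which is contained in no proper normal
subgroup.
-/

set_option autoImplicit false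

namespace Cfsg.Agent.Helper5.HNSimpG

open Cfsg.Agent.Helper5.LP Cfsg.Agent.Helper5.HNArith

theorem simple_of_action {G : Type*} [Group G] (Hs : Subgroup G) [Finite Hs]
    (ρ : G →* Equiv.Perm (Fin 1539000)) (z : Fin 1539000) (hz : z.val = 0)
    (hstab : ∀ a : G, ρ a z = z ↔ a ∈ Hs)
    (htrans : ∀ v : Fin 1539000, ∃ a : G, ρ a z = v)
    (hinj : Function.Injective ρ)
    (hidx : Hs.index = 1539000)
    (hreach : ∀ b ∈ blocks, ∀ v, b.1 ≤ v → v < b.2 → ReachN (Hs.map ρ) b.1 v)
    (h19 : ¬ 19 ^ 2 ∣ Nat.card G)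
    (a₀ : G) (ha₀ : a₀ ^ 19 = 1)
    (htop : ∀ M : Subgroup G, M.Normal → a₀ ∈ M → M = ⊤) :
    IsSimpleGroup G := by
  classical
  have hcardG : Nat.card Hs * 1539000 = Nat.card G := by
    rw [← hidx]
    exact Subgroup.card_mul_index Hs
  have hposH : 0 < Nat.card Hs := Nat.card_pos
  have hfinG : Finite G := by
    apply Nat.finite_of_card_ne_zero
    rw [← hcardG]
    exact Nat.mul_ne_zero hposH.ne' (by norm_num)
  haveI : Fact (Nat.Prime 19) := ⟨by norm_num⟩
  have hnt : Nontrivial G := by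
    rw [← Finite.one_lt_card_iff_nontrivial, ← hcardG]
    calc 1 < 1 * 1539000 := by norm_num
      _ ≤ Nat.card Hs * 1539000 := Nat.mul_le_mul_right _ hposH
  refine { exists_pair_ne := hnt.exists_pair_ne, eq_bot_or_eq_top_of_normal := ?_ }
  intro M hM
  by_cases hbot : M = ⊥
  · exact Or.inl hbot
  right
  letI : MulAction G (Fin 1539000) := MulAction.compHom (Fin 1539000) ρ
  have hsmul : ∀ (a : G) (v : Fin 1539000), a • v = ρ a v := fun _ _ => rfl
  have hstabG : MulAction.stabilizer G z = Hs := by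
    ext a
    rw [MulAction.mem_stabilizer_iff, hsmul]
    exact hstab a
  set J : Subgroup G := M ⊔ Hs with hJ
  have hHJ : Hs ≤ J := le_sup_right
  have hMJ : M ≤ J := le_sup_left
  -- the orbit of `J`
  have hcardJ : Nat.card J = (MulAction.orbit J z).ncard * Nat.card Hs := by
    have := card_eq_orbit_mul' J z
    rw [hstabG, inf_eq_right.2 hHJ] at this
    exact this
  have hdvdJ : Nat.card J ∣ Nat.card G := Subgroup.card_subgroup_dvd_card J
  have hm : (MulAction.orbit J z).ncard ∣ 1539000 := by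
    rw [hcardJ, ← hcardG, Nat.mul_comm (Nat.card Hs)] at hdvdJ
    exact Nat.dvd_of_mul_dvd_mul_right hposH hdvdJ
  -- the orbit as a set of numbers
  set O : Set (Fin 1539000) := MulAction.orbit J z with hO
  have hmemO : ∀ v : Fin 1539000, v ∈ O ↔ ∃ a ∈ J, ρ a z = v := by
    intro v
    constructor
    · rintro ⟨⟨a, ha⟩, rfl⟩
      exact ⟨a, ha, rfl⟩
    · rintro ⟨a, ha, rfl⟩
      exact ⟨⟨a, ha⟩, rfl⟩
  let U : Finset ℕ := (Finset.range 1539000).filter
    (fun v => ∃ h : v < 1539000, (⟨v, h⟩ : Fin 1539000) ∈ O)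
  have hUcard : U.card = O.ncard := by
    have h1 : O.ncard = (Finset.univ.filter (fun v : Fin 1539000 => v ∈ O)).card := by
      rw [← Set.ncard_coe_finset]
      congr 1
      ext v
      simp
    rw [h1]
    symm
    apply Finset.card_bij (fun v _ => v.val)
    · intro v hv
      rw [Finset.mem_filter] at hv
      exact Finset.mem_filter.mpr ⟨Finset.mem_range.mpr v.2, v.2, hv.2⟩
    · intro v _ w _ hvw
      exact Fin.ext hvw
    · intro n hn
      rw [Finset.mem_filter] at hn
      obtain ⟨_, h, hmem⟩ := hn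
      exact ⟨⟨n, h⟩, Finset.mem_filter.mpr ⟨Finset.mem_univ _, hmem⟩, rfl⟩
  have hU0 : 0 ∈ U := by
    refine Finset.mem_filter.mpr ⟨Finset.mem_range.mpr (by norm_num), by norm_num, ?_⟩
    have : (⟨0, by norm_num⟩ : Fin 1539000) = z := Fin.ext hz.symm
    rw [this]
    exact MulAction.mem_orbit_self z
  have hUP : ∀ b ∈ blocks, ∀ v, b.1 ≤ v → v < b.2 → (v ∈ U ↔ b.1 ∈ U) := by
    intro b hb v h1 h2
    obtain ⟨hb1, hv, σ, ⟨h, hh, rfl⟩, hσ⟩ := hreach b hb v h1 h2
    constructor
    · intro hvU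
      obtain ⟨_, _, hmem⟩ := Finset.mem_filter.mp hvU
      refine Finset.mem_filter.mpr ⟨Finset.mem_range.mpr hb1, hb1, ?_⟩
      obtain ⟨a, ha, hav⟩ := (hmemO _).1 hmem
      refine (hmemO _).2 ⟨h⁻¹ * a, J.mul_mem (J.inv_mem (hHJ hh)) ha, ?_⟩
      rw [map_mul, Equiv.Perm.mul_apply, hav, map_inv, Equiv.Perm.inv_eq_iff_eq]
      exact hσ.symm
    · intro hbU
      obtain ⟨_, _, hmem⟩ := Finset.mem_filter.mp hbU
      refine Finset.mem_filter.mpr ⟨Finset.mem_range.mpr hv, hv, ?_⟩
      obtain ⟨a, ha, hab⟩ := (hmemO _).1 hmem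
      refine (hmemO _).2 ⟨h * a, J.mul_mem (hHJ hh) ha, ?_⟩
      rw [map_mul, Equiv.Perm.mul_apply, hab]
      exact hσ
  have hcases := orbit_card U (Finset.filter_subset _ _) hU0 hUP (by rw [hUcard]; exact hm)
  rw [hUcard] at hcases
  rcases hcases with h1 | hN
  · -- the orbit is a point: `M` fixes everything
    exfalso
    apply hbot
    have hJH : J ≤ Hs := by
      intro a ha
      rw [← hstab a]
      have hmem : ρ a z ∈ O := (hmemO _).2 ⟨a, ha, rfl⟩
      have hzO : z ∈ O := MulAction.mem_orbit_self z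
      obtain ⟨w, hw⟩ := Set.ncard_eq_one.mp h1
      rw [hw] at hmem hzO
      rw [Set.mem_singleton_iff] at hmem hzO
      rw [hmem, hzO]
    have hMH : M ≤ Hs := le_trans hMJ hJH
    rw [eq_bot_iff]
    intro a ha
    rw [Subgroup.mem_bot]
    apply hinj
    rw [map_one]
    ext v
    obtain ⟨c, hc⟩ := htrans v
    have h2 : c⁻¹ * a * c ∈ M := by
      have := hM.conj_mem a ha c⁻¹
      rwa [inv_inv] at this
    have h3 : ρ (c⁻¹ * a * c) z = z := (hstab _).2 (hMH h2)
    have e : a * c = c * (c⁻¹ * a * c) := by group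
    have h4 : ρ a v = ρ c (ρ (c⁻¹ * a * c) z) := by
      calc ρ a v = ρ a (ρ c z) := by rw [hc]
        _ = ρ (a * c) z := by rw [map_mul, Equiv.Perm.mul_apply]
        _ = ρ (c * (c⁻¹ * a * c)) z := by rw [← e]
        _ = ρ c (ρ (c⁻¹ * a * c) z) := by rw [map_mul, Equiv.Perm.mul_apply]
    rw [h4, h3, hc]
    rfl
  · -- the orbit is everything: `J = ⊤` and `19` divides the order of `M`
    have hJtop : J = ⊤ := by
      apply Subgroup.eq_top_of_card_eq
      rw [hcardJ, hN, ← hcardG, Nat.mul_comm]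
    have hidxM : M.index = M.relIndex Hs := by
      rw [← Subgroup.relIndex_top_right, ← hJtop, hJ, Subgroup.relIndex_sup_left]
    have hd : M.index ∣ Nat.card Hs := by
      rw [hidxM]
      exact Subgroup.relIndex_dvd_card M Hs
    obtain ⟨e, he⟩ := hd
    have hcardM : Nat.card M * M.index = Nat.card G := Subgroup.card_mul_index M
    have hposI : 0 < M.index := by
      rcases Nat.eq_zero_or_pos M.index with h0 | h0
      · rw [h0, zero_mul] at he
        omega
      · exact h0
    have hMN : Nat.card M = 1539000 * e := by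
      have : Nat.card M * M.index = (1539000 * e) * M.index := by
        rw [hcardM, ← hcardG, he]
        ring
      exact Nat.eq_of_mul_eq_mul_right hposI this
    have h19M : 19 ∣ Nat.card M := by
      rw [hMN]
      exact Dvd.dvd.mul_right (by norm_num) e
    have ha₀M : a₀ ∈ M :=
      HNSyl.mem_normal_of_pow_prime 19 h19 M h19M a₀ ha₀
    exact htop M hM ha₀M

end Cfsg.Agent.Helper5.HNSimpG
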