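import Cfsg.Agent.Helper5.HNKTCCt0
import Cfsg.Agent.Helper5.HNKTCCt1
import Cfsg.Agent.Helper5.HNKTCCt2
import Cfsg.Agent.Helper5.HNKTCCt3
import Cfsg.Agent.Helper5.HNKTCCt4
import Cfsg.Agent.Helper5.HNKTCCt5
import Cfsg.Agent.Helper5.HNKTCCt6
import Cfsg.Agent.Helper5.TC3A

/-! generated coset table: HNKTC -/

set_option autoImplicit false
set_option Elab.async false

namespace Cfsg.Agent.Helper5.HNKTC
open Cfsg.Agent.Helper5.TC
noncomputable section

def ctF (x v : ℕ) : ℕ := (Bool.rec (motive := fun _ => ℕ) (Bool.rec (motive := fun _ => ℕ) (ct0F v) (Bool.rec (motive := fun _ => ℕ) (ct1F v) (ct2F v) (Nat.ble 2 x)) (Nat.ble 1 x)) (Bool.rec (motive := fun _ => ℕ) (Bool.rec (motive := fun _ => ℕ) (ct3F v) (ct4F v) (Nat.ble 4 x)) (Bool.rec (motive := fun _ => ℕ) (ct5F v) (ct6F v) (Nat.ble 6 x)) (Nat.ble 5 x)) (Nat.ble 3 x))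
set_option maxRecDepth 1000000 in
def W_0 (v : ℕ) : ℕ := forceL (ct2F v) (fun a1 => forceL (ct2F a1) (fun a2 => forceL (ct2F a2) (fun a3 => forceL (ct2F a3) (fun a4 => forceL (ct2F a4) (fun a5 => forceL (ct2F a5) (fun a6 => a6))))))
set_option maxRecDepth 1000000 in
def W_1 (v : ℕ) : ℕ := forceL (ct3F v) (fun a1 => forceL (ct0F a1) (fun a2 => forceL (ct0F a2) (fun a3 => forceL (ct2F a3) (fun a4 => forceL (ct0F a4) (fun a5 => forceL (ct0F a5) (fun a6 => a6))))))
set_option maxRecDepth 1000000 in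
def W_2 (v : ℕ) : ℕ := forceL (ct2F v) (fun a1 => forceL (ct0F a1) (fun a2 => forceL (ct3F a2) (fun a3 => forceL (ct1F a3) (fun a4 => forceL (ct2F a4) (fun a5 => forceL (ct0F a5) (fun a6 => forceL (ct3F a6) (fun a7 => forceL (ct1F a7) (fun a8 => forceL (ct2F a8) (fun a9 => forceL (ct0F a9) (fun a10 => forceL (ct3F a10) (fun a11 => forceL (ct1F a11) (fun a12 => a12))))))))))))
set_option maxRecDepth 1000000 in
def W_3 (v : ℕ) : ℕ := forceL (ct2F v) (fun a1 => forceL (ct2F a1) (fun a2 => forceL (ct2F a2) (fun a3 => forceL (ct0F a3) (fun a4 => forceL (ct2F a4) (fun a5 => forceL (ct2F a5) (fun a6 => forceL (ct1F a6) (fun a7 => forceL (ct2F a7) (fun a8 => forceL (ct2F a8) (fun a9 => forceL (ct2F a9) (fun a10 => forceL (ct0F a10) (fun a11 => forceL (ct2F a11) (fun a12 => forceL (ct2F a12) (fun a13 => forceL (ct1F a13) (fun a14 => forceL (ct2F a14) (fun a15 => forceL (ct2F a15) (fun a16 => forceL (ct2F a16) (fun a17 => forceL (ct0F a17) (fun a18 => forceL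 (ct2F a18) (fun a19 => forceL (ct2F a19) (fun a20 => forceL (ct1F a20) (fun a21 => a21)))))))))))))))))))))
set_option maxRecDepth 1000000 in
def W_4 (v : ℕ) : ℕ := forceL (ct2F v) (fun a1 => forceL (ct0F a1) (fun a2 => forceL (ct2F a2) (fun a3 => forceL (ct0F a3) (fun a4 => forceL (ct2F a4) (fun a5 => forceL (ct0F a5) (fun a6 => forceL (ct2F a6) (fun a7 => forceL (ct0F a7) (fun a8 => forceL (ct2F a8) (fun a9 => forceL (ct0F a9) (fun a10 => forceL (ct2F a10) (fun a11 => forceL (ct0F a11) (fun a12 => forceL (ct2F a12) (fun a13 => forceL (ct0F a13) (fun a14 => forceL (ct2F a14) (fun a15 => forceL (ct0F a15) (fun a16 => a16))))))))))))))))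
set_option maxRecDepth 1000000 in
def W_5 (v : ℕ) : ℕ := forceL (ct2F v) (fun a1 => forceL (ct2F a1) (fun a2 => forceL (ct2F a2) (fun a3 => forceL (ct0F a3) (fun a4 => forceL (ct2F a4) (fun a5 => forceL (ct0F a5) (fun a6 => forceL (ct2F a6) (fun a7 => forceL (ct2F a7) (fun a8 => forceL (ct2F a8) (fun a9 => forceL (ct0F a9) (fun a10 => forceL (ct2F a10) (fun a11 => forceL (ct0F a11) (fun a12 => forceL (ct2F a12) (fun a13 => forceL (ct2F a13) (fun a14 => forceL (ct2F a14) (fun a15 => forceL (ct0F a15) (fun a16 => forceL (ct2F a16) (fun a17 => forceL (ct0F a17) (fun a18 => forceL (ct2F a18) (fun a19 => forceL (ct2F a19) (fun a20 => forceL (ct2F a20) (fun a21 => forceL (ct0F a21) (fun a22 => forceL (ct2F a22) (fun a23 => forceL (ct0F a23) (fun a24 => a24))))))))))))))))))))))))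
set_option maxRecDepth 1000000 in
def W_6 (v : ℕ) : ℕ := forceL (ct4F v) (fun a1 => forceL (ct4F a1) (fun a2 => a2))
set_option maxRecDepth 1000000 in
def W_7 (v : ℕ) : ℕ := forceL (ct0F v) (fun a1 => forceL (ct4F a1) (fun a2 => forceL (ct0F a2) (fun a3 => forceL (ct4F a3) (fun a4 => a4))))
set_option maxRecDepth 1000000 in
def W_8 (v : ℕ) : ℕ := forceL (ct1F v) (fun a1 => forceL (ct1F a1) (fun a2 => forceL (ct3F a2) (fun a3 => forceL (ct0F a3) (fun a4 => forceL (ct2F a4) (fun a5 => forceL (ct2F a5) (fun a6 => forceL (ct0F a6) (fun a7 => forceL (ct2F a7) (fun a8 => forceL (ct0F a8) (fun a9 => forceL (ct2F a9) (fun a10 => forceL (ct4F a10) (fun a11 => forceL (ct3F a11) (fun a12 => forceL (ct1F a12) (fun a13 => forceL (ct3F a13) (fun a14 => forceL (ct1F a14) (fun a15 => forceL (ct3F a15) (fun a16 => forceL (ct3F a16) (fun a17 => forceL (ct1F a17) (fun a18 => forceL (ct2F a18) (fun a19 => forceL (ct4F a19) (fun a20 => a20))))))))))))))))))))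
set_option maxRecDepth 1000000 in
def W_9 (v : ℕ) : ℕ := forceL (ct0F v) (fun a1 => forceL (ct2F a1) (fun a2 => forceL (ct0F a2) (fun a3 => forceL (ct2F a3) (fun a4 => forceL (ct0F a4) (fun a5 => forceL (ct2F a5) (fun a6 => forceL (ct2F a6) (fun a7 => forceL (ct2F a7) (fun a8 => forceL (ct4F a8) (fun a9 => forceL (ct3F a9) (fun a10 => forceL (ct3F a10) (fun a11 => forceL (ct3F a11) (fun a12 => forceL (ct1F a12) (fun a13 => forceL (ct3F a13) (fun a14 => forceL (ct1F a14) (fun a15 => forceL (ct3F a15) (fun a16 => forceL (ct0F a16) (fun a17 => forceL (ct2F a17) (fun a18 => forceL (ct0F a18) (fun a19 => forceL (ct2F a19) (fun a20 => forceL (ct0F a20) (fun a21 => forceL (ct2F a21) (fun a22 => forceL (ct2F a22) (fun a23 => forceL (ct2F a23) (fun a24 => forceL (ct4F a24) (fun a25 => forceL (ct3F a25) (fun a26 => forceL (ct3F a26) (fun a27 => forceL (ct3F a27) (fun a28 => forceL (ct1F a28) (fun a29 => forceL (ct3F a29) (fun a30 => forceL (ct1F a30) (fun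 a31 => forceL (ct3F a31) (fun a32 => forceL (ct0F a32) (fun a33 => forceL (ct2F a33) (fun a34 => forceL (ct0F a34) (fun a35 => forceL (ct2F a35) (fun a36 => forceL (ct0F a36) (fun a37 => forceL (ct2F a37) (fun a38 => forceL (ct2F a38) (fun a39 => forceL (ct2F a39) (fun a40 => forceL (ct4F a40) (fun a41 => forceL (ct3F a41) (fun a42 => forceL (ct3F a42) (fun a43 => forceL (ct3F a43) (fun a44 => forceL (ct1F a44) (fun a45 => forceL (ct3F a45) (fun a46 => forceL (ct1F a46) (fun a47 => forceL (ct3F a47) (fun a48 => forceL (ct4F a48) (fun a49 => a49)))))))))))))))))))))))))))))))))))))))))))))))))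
set_option maxRecDepth 1000000 in
def W_10 (v : ℕ) : ℕ := forceL (ct5F v) (fun a1 => forceL (ct5F a1) (fun a2 => forceL (ct5F a2) (fun a3 => forceL (ct5F a3) (fun a4 => forceL (ct5F a4) (fun a5 => a5)))))
set_option maxRecDepth 1000000 in
def W_11 (v : ℕ) : ℕ := forceL (ct5F v) (fun a1 => forceL (ct5F a1) (fun a2 => forceL (ct0F a2) (fun a3 => forceL (ct5F a3) (fun a4 => forceL (ct1F a4) (fun a5 => a5)))))
set_option maxRecDepth 1000000 in
def W_12 (v : ℕ) : ℕ := forceL (ct2F v) (fun a1 => forceL (ct5F a1) (fun a2 => forceL (ct3F a2) (fun a3 => forceL (ct6F a3) (fun a4 => a4))))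
set_option maxRecDepth 1000000 in
def W_13 (v : ℕ) : ℕ := forceL (ct5F v) (fun a1 => forceL (ct4F a1) (fun a2 => forceL (ct5F a2) (fun a3 => forceL (ct4F a3) (fun a4 => forceL (ct5F a4) (fun a5 => forceL (ct4F a5) (fun a6 => a6))))))
set_option maxRecDepth 1000000 in
def W_14 (v : ℕ) : ℕ := forceL (ct5F v) (fun a1 => forceL (ct3F a1) (fun a2 => forceL (ct4F a2) (fun a3 => forceL (ct2F a3) (fun a4 => forceL (ct2F a4) (fun a5 => forceL (ct0F a5) (fun a6 => a6))))))
set_option maxRecDepth 1000000 in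
def W_15 (v : ℕ) : ℕ := forceL (ct0F v) (fun a1 => forceL (ct1F a1) (fun a2 => a2))
set_option maxRecDepth 1000000 in
def W_16 (v : ℕ) : ℕ := forceL (ct1F v) (fun a1 => forceL (ct0F a1) (fun a2 => a2))
set_option maxRecDepth 1000000 in
def W_17 (v : ℕ) : ℕ := forceL (ct2F v) (fun a1 => forceL (ct3F a1) (fun a2 => a2))
set_option maxRecDepth 1000000 in
def W_18 (v : ℕ) : ℕ := forceL (ct3F v) (fun a1 => forceL (ct2F a1) (fun a2 => a2))
set_option maxRecDepth 1000000 in
def W_19 (v : ℕ) : ℕ := forceL (ct4F v) (fun a1 => forceL (ct4F a1) (fun a2 => a2))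
set_option maxRecDepth 1000000 in
def W_20 (v : ℕ) : ℕ := forceL (ct5F v) (fun a1 => forceL (ct6F a1) (fun a2 => a2))
set_option maxRecDepth 1000000 in
def W_21 (v : ℕ) : ℕ := forceL (ct6F v) (fun a1 => forceL (ct5F a1) (fun a2 => a2))

end

end Cfsg.Agent.Helper5.HNKTC
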