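import Mathlib
import Cfsg.Agent.Helper5.TCIB
import Cfsg.Agent.Helper5.HNGen
import Cfsg.Agent.Helper5.HNKTCSum

/-!
# The normal closure of an element of order 19 in the presented Harada–Norton group

The group presented by the fourteen relators and the word `a₀ = x y² z y⁻¹ t` is trivial (certified
coset enumeration `HNKTC` over the trivial subgroup: one coset).  Hence a normal subgroup of `G`
containing `a₀` is the whole group.
-/

set_option autoImplicit false

namespace Cfsg.Agent.Helper5.HNTowK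

open Cfsg Cfsg.Spor Cfsg.Agent.Helper5.TC Cfsg.Agent.Helper5.TCI Cfsg.Agent.Helper5.HNOrd
  Cfsg.Agent.Helper5.HNGen

section
variable {K : Type*} [Group K]

/-- the seven letters `x, x⁻¹, y, y⁻¹, z, t, t⁻¹`. -/
def lt7 (x y z t : K) : ℕ → K
  | 0 => x
  | 1 => x⁻¹
  | 2 => y
  | 3 => y⁻¹
  | 4 => z
  | 5 => t
  | 6 => t⁻¹
  | _ => 1

/-- evaluation of a word (read from left to right). -/
def evw7 (x y z t : K) (l : List ℕ) : K := (l.map (lt7 x y z t)).prod

theorem evw7_cons (x y z t : K) (c : ℕ) (l : List ℕ) :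
    evw7 x y z t (c :: l) = lt7 x y z t c * evw7 x y z t l := by
  simp [evw7]

theorem map_lt7 {K' : Type*} [Group K'] (f : K →* K') (x y z t : K) :
    ∀ c, f (lt7 x y z t c) = lt7 (f x) (f y) (f z) (f t) c
  | 0 => rfl
  | 1 => map_inv f x
  | 2 => rfl
  | 3 => map_inv f y
  | 4 => rfl
  | 5 => rfl
  | 6 => map_inv f t
  | _ + 7 => map_one f

theorem map_evw7 {K' : Type*} [Group K'] (f : K →* K') (x y z t : K) (l : List ℕ) :
    f (evw7 x y z t l) = evw7 (f x) (f y) (f z) (f t) l := by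
  induction l with
  | nil => simp [evw7]
  | cons c l ih => rw [evw7_cons, evw7_cons, map_mul, ih, map_lt7]

theorem evw7_eq_evw4 (x y z t : K) : ∀ l : List ℕ, (∀ c ∈ l, c < 7) →
    evw7 x y z t l = evw4 x y z t l
  | [], _ => rfl
  | c :: l, h => by
    rw [evw7_cons, evw4_cons, evw7_eq_evw4 x y z t l (fun d hd => h d (List.mem_cons_of_mem _ hd))]
    congr 1
    have hc : c < 7 := h c List.mem_cons_self
    interval_cases c <;> rfl

end

/-- the word `a₀ = x y² z y⁻¹ t`. -/
def a0w : List ℕ := [0, 2, 2, 4, 3, 5]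

/-- the free-group element of a letter. -/
def fl4 : ℕ → FreeGroup (Fin 4) :=
  lt7 (FreeGroup.of 0) (FreeGroup.of 1) (FreeGroup.of 2) (FreeGroup.of 3)

/-- the free-group element of a word. -/
def fw4 (l : List ℕ) : FreeGroup (Fin 4) :=
  evw7 (FreeGroup.of 0) (FreeGroup.of 1) (FreeGroup.of 2) (FreeGroup.of 3) l

theorem fw4_cons (c : ℕ) (l : List ℕ) : fw4 (c :: l) = fl4 c * fw4 l := evw7_cons _ _ _ _ c l

/-- the fifteen relators. -/
def relWK : List (List ℕ) := W.take 14 ++ [a0w]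

/-- the relators. -/
def relsK : Set (FreeGroup (Fin 4)) := {r | ∃ l ∈ relWK, r = fw4 l}

/-- the presented group. -/
abbrev PK : Type := PresentedGroup relsK

/-- the code of a generator. -/
def enc4 : Fin 4 → ℕ := ![0, 2, 4, 5]

theorem iota_lt7 : ∀ c, c < 7 → HNKTC.iota c < 7 := by
  intro c hc
  interval_cases c <;> decide

theorem iota_lt16 : ∀ c, c < 16 → HNKTC.iota c < 16 := by
  intro c hc
  interval_cases c <;> decide

theorem iota_ge {x : ℕ} (h : 7 ≤ x) : HNKTC.iota x = x := by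
  obtain ⟨y, rfl⟩ := Nat.exists_eq_add_of_le h
  rw [Nat.add_comm]
  rfl

theorem iota_iota (x : ℕ) : HNKTC.iota (HNKTC.iota x) = x := by
  rcases Nat.lt_or_ge x 7 with h | h
  · interval_cases x <;> rfl
  · rw [iota_ge h, iota_ge h]

theorem fl4_ge {x : ℕ} (h : 7 ≤ x) : fl4 x = 1 := by
  obtain ⟨y, rfl⟩ := Nat.exists_eq_add_of_le h
  rw [Nat.add_comm]
  rfl

theorem relWK_lt : ∀ l ∈ relWK, ∀ c ∈ l, c < 7 := by decide

theorem relWK_len : relWK.length = 15 := rfl

theorem mk_z_sq : PresentedGroup.mk relsK (FreeGroup.of 2) *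
    PresentedGroup.mk relsK (FreeGroup.of 2) = 1 := by
  have hm : fw4 [4, 4] ∈ relsK := ⟨_, by decide, rfl⟩
  have h := PresentedGroup.one_of_mem hm
  rw [← h]
  simp [fw4, evw7, lt7]

theorem fl4_inv (x : ℕ) :
    PresentedGroup.mk relsK (fl4 x) * PresentedGroup.mk relsK (fl4 (HNKTC.iota x)) = 1 := by
  rcases Nat.lt_or_ge x 7 with h | h
  · interval_cases x
    · show PresentedGroup.mk relsK (FreeGroup.of 0) * PresentedGroup.mk relsK (FreeGroup.of 0)⁻¹ = 1
      rw [map_inv, mul_inv_cancel]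
    · show PresentedGroup.mk relsK (FreeGroup.of 0)⁻¹ * PresentedGroup.mk relsK (FreeGroup.of 0) = 1
      rw [map_inv, inv_mul_cancel]
    · show PresentedGroup.mk relsK (FreeGroup.of 1) * PresentedGroup.mk relsK (FreeGroup.of 1)⁻¹ = 1
      rw [map_inv, mul_inv_cancel]
    · show PresentedGroup.mk relsK (FreeGroup.of 1)⁻¹ * PresentedGroup.mk relsK (FreeGroup.of 1) = 1
      rw [map_inv, inv_mul_cancel]
    · exact mk_z_sq
    · show PresentedGroup.mk relsK (FreeGroup.of 3) * PresentedGroup.mk relsK (FreeGroup.of 3)⁻¹ = 1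
      rw [map_inv, mul_inv_cancel]
    · show PresentedGroup.mk relsK (FreeGroup.of 3)⁻¹ * PresentedGroup.mk relsK (FreeGroup.of 3) = 1
      rw [map_inv, inv_mul_cancel]
  · rw [iota_ge h, fl4_ge h, map_one, one_mul]

theorem fl4_match (x : ℕ) (hx : x < 7) (K : Type) [Group K] (γ : ℕ → K)
    (hγ : ∀ y, γ y * γ (HNKTC.iota y) = 1) :
    FreeGroup.lift (fun z => γ (enc4 z)) (fl4 x) = γ x := by
  interval_cases x
  · exact FreeGroup.lift_apply_of
  · show FreeGroup.lift (fun z => γ (enc4 z)) (FreeGroup.of 0)⁻¹ = γ 1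
    rw [map_inv, FreeGroup.lift_apply_of]
    exact inv_eq_of_mul_eq_one_right (hγ 0)
  · exact FreeGroup.lift_apply_of
  · show FreeGroup.lift (fun z => γ (enc4 z)) (FreeGroup.of 1)⁻¹ = γ 3
    rw [map_inv, FreeGroup.lift_apply_of]
    exact inv_eq_of_mul_eq_one_right (hγ 2)
  · exact FreeGroup.lift_apply_of
  · exact FreeGroup.lift_apply_of
  · show FreeGroup.lift (fun z => γ (enc4 z)) (FreeGroup.of 3)⁻¹ = γ 6
    rw [map_inv, FreeGroup.lift_apply_of]
    exact inv_eq_of_mul_eq_one_right (hγ 5)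

theorem wordMatch_fw4 (l : List ℕ) (hl : ∀ c ∈ l, c < 7) (n w : ℕ)
    (hu : unpack n w = l.reverse) : WordMatchI HNKTC.iota enc4 (fw4 l) n w := by
  intro K _ γ hγ
  rw [hu]
  clear hu
  induction l with
  | nil => simp [fw4, evw7, rprod]
  | cons c l ih =>
    rw [fw4_cons, map_mul, ih (fun c hc => hl c (List.mem_cons_of_mem _ hc)),
      fl4_match c (hl c List.mem_cons_self) K γ hγ, List.reverse_cons, rprod_append]
    simp [rprod]

theorem hwK : ∀ i (hi : i < relWK.length),
    unpack (HNKTC.E.D.wlen i) (HNKTC.E.D.wordP i) = (relWK[i]).reverse := by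
  intro i hi
  have hi' : i < 15 := hi
  interval_cases i
  · exact HNKTC.word_0
  · exact HNKTC.word_1
  · exact HNKTC.word_2
  · exact HNKTC.word_3
  · exact HNKTC.word_4
  · exact HNKTC.word_5
  · exact HNKTC.word_6
  · exact HNKTC.word_7
  · exact HNKTC.word_8
  · exact HNKTC.word_9
  · exact HNKTC.word_10
  · exact HNKTC.word_11
  · exact HNKTC.word_12
  · exact HNKTC.word_13
  · exact HNKTC.word_14

theorem hpK : ∀ i, i < 7 →
    unpack (HNKTC.E.D.wlen (15 + i)) (HNKTC.E.D.wordP (15 + i)) = [i, HNKTC.iota i] := by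
  intro i hi
  interval_cases i
  · exact HNKTC.word_15
  · exact HNKTC.word_16
  · exact HNKTC.word_17
  · exact HNKTC.word_18
  · exact HNKTC.word_19
  · exact HNKTC.word_20
  · exact HNKTC.word_21

theorem wm_rel : ∀ i (hi : i < relWK.length),
    WordMatchI HNKTC.iota enc4 (fw4 relWK[i]) (HNKTC.E.D.wlen i) (HNKTC.E.D.wordP i) := fun i hi =>
  wordMatch_fw4 _ (relWK_lt relWK[i] (List.getElem_mem hi)) _ _ (hwK i hi)

theorem relA : ∀ wi, wi < HNKTC.E.D.nrel →
    (∃ r ∈ relsK, WordMatchI HNKTC.iota enc4 r (HNKTC.E.D.wlen wi) (HNKTC.E.D.wordP wi)) ∨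
    (∃ x, unpack (HNKTC.E.D.wlen wi) (HNKTC.E.D.wordP wi) = [x, HNKTC.iota x]) := by
  intro wi hwi
  have hwi' : wi < 22 := hwi
  rcases Nat.lt_or_ge wi 15 with h | h
  · left
    have hlen : wi < relWK.length := h
    exact ⟨fw4 relWK[wi], ⟨relWK[wi], List.getElem_mem hlen, rfl⟩, wm_rel wi hlen⟩
  · right
    obtain ⟨i, rfl⟩ := Nat.exists_eq_add_of_le h
    exact ⟨i, hpK i (by omega)⟩

theorem relC : ∀ r ∈ relsK, ∃ wi, wi < HNKTC.E.D.nrel ∧
    WordMatchI HNKTC.iota enc4 r (HNKTC.E.D.wlen wi) (HNKTC.E.D.wordP wi) := by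
  rintro r ⟨l, hl, rfl⟩
  obtain ⟨i, hi, rfl⟩ := List.getElem_of_mem hl
  have hi' : i < 15 := hi
  exact ⟨i, (by show i < 22; omega), wm_rel i hi⟩

/-- the subgroup generators: none. -/
def subsK : List (FreeGroup (Fin 4)) := []

theorem index_one :
    ((Subgroup.closure {s | s ∈ subsK}).map (PresentedGroup.mk relsK)).index = 1 :=
  presented_indexI relsK subsK HNKTC.iota fl4 enc4 HNKTC.E (T := HNKTC.ctF)
    iota_iota iota_lt7 iota_lt16
    (by intro z; fin_cases z <;> decide)
    (by intro z; fin_cases z <;> rfl)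
    fl4_inv fl4_match rfl relA relC
    (by intro i hi; exact absurd hi (Nat.not_lt_zero i))
    HNKTC.rev_ok HNKTC.hE HNKTC.hA HNKTC.set_ok HNKTC.hrows (by norm_num) HNKTC.hT HNKTC.hltr
    HNKTC.hrelT HNKTC.hsubT HNKTC.hconn

/-- the presented group is trivial. -/
theorem PK_trivial (a : PK) : a = 1 := by
  have h := index_one
  have e : (Subgroup.closure {s | s ∈ subsK}).map (PresentedGroup.mk relsK) = ⊥ := by
    have : {s | s ∈ subsK} = (∅ : Set (FreeGroup (Fin 4))) := by
      ext s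
      simp [subsK]
    rw [this, Subgroup.closure_empty, Subgroup.map_bot]
  rw [e, Subgroup.index_bot] at h
  have := Nat.card_eq_one_iff_unique.mp h
  exact this.1.elim a 1

/-- **A normal subgroup containing `a₀` is the whole group.** -/
theorem eq_top_of_a0_mem (M : Subgroup G) [M.Normal] (ha : evw4 xG yG zG tG a0w ∈ M) :
    M = ⊤ := by
  let q : G →* G ⧸ M := QuotientGroup.mk' M
  let f4 : Fin 4 → G ⧸ M := ![q xG, q yG, q zG, q tG]
  have hlift : ∀ l : List ℕ, (∀ c ∈ l, c < 7) →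
      FreeGroup.lift f4 (fw4 l) = q (evw4 xG yG zG tG l) := by
    intro l hl
    rw [fw4, map_evw7, FreeGroup.lift_apply_of, FreeGroup.lift_apply_of, FreeGroup.lift_apply_of,
      FreeGroup.lift_apply_of, ← evw7_eq_evw4 _ _ _ _ l hl, map_evw7]
    rfl
  have hrel : ∀ r ∈ relsK, FreeGroup.lift f4 r = 1 := by
    rintro r ⟨l, hl, rfl⟩
    rw [hlift l (relWK_lt l hl)]
    rw [relWK, List.mem_append] at hl
    rcases hl with hl | hl
    · have e : W.take 14 = (List.range 14).map (fun i => W.getD i []) := by decide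
      rw [e, List.mem_map] at hl
      obtain ⟨i, hi, rfl⟩ := hl
      rw [List.mem_range] at hi
      rw [evw4_G i hi, map_one]
    · rw [List.mem_singleton] at hl
      rw [hl]
      exact (QuotientGroup.eq_one_iff _).2 ha
  let F : PK →* G ⧸ M := PresentedGroup.toGroup hrel
  have hF : ∀ p : PK, F p = 1 := fun p => by rw [PK_trivial p, map_one]
  have hgen : ∀ a : G, q a ∈ F.range := by
    intro a
    have ha' : a ∈ Subgroup.closure (Set.range (PresentedGroup.of : HN.Gen → G)) := by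
      rw [PresentedGroup.closure_range_of]
      exact Subgroup.mem_top a
    induction ha' using Subgroup.closure_induction with
    | mem b hb =>
      obtain ⟨c, rfl⟩ := hb
      cases c
      · exact ⟨PresentedGroup.of 0, PresentedGroup.toGroup.of hrel⟩
      · exact ⟨PresentedGroup.of 1, PresentedGroup.toGroup.of hrel⟩
      · exact ⟨PresentedGroup.of 2, PresentedGroup.toGroup.of hrel⟩
      · exact ⟨PresentedGroup.of 3, PresentedGroup.toGroup.of hrel⟩
    | one => rw [map_one]; exact F.range.one_mem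
    | mul a b _ _ iha ihb => rw [map_mul]; exact F.range.mul_mem iha ihb
    | inv a _ iha => rw [map_inv]; exact F.range.inv_mem iha
  rw [eq_top_iff]
  intro a _
  obtain ⟨p, hp⟩ := hgen a
  rw [hF p] at hp
  exact (QuotientGroup.eq_one_iff a).1 hp.symm

end Cfsg.Agent.Helper5.HNTowK
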