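import Mathlib
import Cfsg.Agent.Helper5.TCSB

/-!
# Stabiliser chains with remainder, and the permutation group of a block

Variants of the lower bounds of `TCSB` for the image of the subgroup in the permutation group of
the coset table; the bounds keep the pointwise stabiliser of all base points as a factor, so that
an exact order shows that this stabiliser is trivial.
-/

set_option autoImplicit false

namespace Cfsg.Agent.Helper5.TCS

open Cfsg.Agent.Helper5.TC Cfsg.Agent.Helper5.TCI Cfsg.Agent.Helper5.LP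

/-- the base points of a chain, added to the list of the points fixed already. -/
def chainBases : List Level → List ℕ → List ℕ
  | [], fixed => fixed
  | lv :: rest, fixed => chainBases rest (lv.1 :: fixed)

section
variable {G : Type*} [Group G] {N : ℕ} {ρ : G →* Equiv.Perm (Fin N)}

/-- the lower bound of a stabiliser chain, with the stabiliser of all base points as a factor. -/
theorem chain_lowerK_rem {k : ℕ} {T : ℕ → ℕ → ℕ} {e : List ℕ → G} (hA : ActsOn ρ e k T)
    (K : Subgroup (Equiv.Perm (Fin N))) :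
    ∀ (levels : List Level) (fixed : List ℕ), chainOK T k N fixed levels = true →
      (∀ lv ∈ levels, ∀ w ∈ lv.2.1, ρ (e w) ∈ K) →
      chainProd levels *
          Nat.card (K ⊓ fixSub N (chainBases levels fixed) : Subgroup (Equiv.Perm (Fin N))) ≤
        Nat.card (K ⊓ fixSub N fixed : Subgroup (Equiv.Perm (Fin N))) := by
  intro levels
  induction levels with
  | nil =>
    intro fixed _ _
    rw [chainProd, chainBases, one_mul]
  | cons lv rest ih =>
    intro fixed h hmem
    obtain ⟨b, gens, tree⟩ := lv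
    simp only [chainOK, Bool.and_eq_true, Nat.blt_eq] at h
    obtain ⟨⟨⟨⟨hb, hlt⟩, hfix⟩, htree⟩, hrest⟩ := h
    have hlt' := lettersLtB_spec hlt
    have hfix' := fixOK_spec hfix
    set Q' : Subgroup (Equiv.Perm (Fin N)) := K ⊓ fixSub N fixed with hQdef
    have hQ : ∀ w ∈ gens, ρ (e w) ∈ Q' := by
      intro w hw
      refine ⟨hmem (b, gens, tree) List.mem_cons_self w hw, ?_⟩
      intro c hc hcN
      apply Fin.ext
      rw [hA.act w (hlt' w hw)]
      exact hfix' w hw c hc
    have hinv := treeRun_inv (P := ReachN Q' b) (T := T) (gens := gens)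
      (reach_step hA Q' hlt' hQ b) (maskInv_zero _) (reachN_self Q' hb) tree
    obtain ⟨S, hS, -, hP⟩ := hinv htree
    have horb := card_le_orbit Q' hb S hP
    have h1 := ih (b :: fixed) hrest (fun lv hlv => hmem lv (List.mem_cons_of_mem _ hlv))
    rw [← fixSub_cons K hb fixed] at h1
    rw [card_eq_orbit_mul' Q' (⟨b, hb⟩ : Fin N)]
    show (tree.length + 1) * chainProd rest * _ ≤ _
    rw [hS, zero_add] at horb
    rw [mul_assoc]
    exact Nat.mul_le_mul horb h1

end

section
variable {G : Type*} [Group G] {Q : Type*} [MulAction G Q]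
variable {g : ℕ → G} {q₀ : Q} {E : Dat2} {N : ℕ} {ρ : G →* Equiv.Perm (Fin N)} {φ : Q → Fin N}

/-- the stabiliser chain of a block, in the permutation group, with remainder. -/
theorem stab_perm_rem (hL : Link g q₀ E N ρ φ) {kH : ℕ} (hkH : kH ≤ E.D.k)
    (Hs : Subgroup G) (hHs : ∀ x, x < kH → g x ∈ Hs)
    {R lo : ℕ} (hI : Inv2 g q₀ E R) (hloM : lo < E.M)
    (loops : List (List ℕ)) (hloops : loopsOK E R lo kH loops = true)
    (levels : List Level)
    (hchain : chainOK E.D.tgt kH N [] (expLevels (loops.map List.reverse) levels) = true) :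
    chainProd (expLevels (loops.map List.reverse) levels) *
      Nat.card ((Hs ⊓ MulAction.stabilizer G (pt g q₀ E.D lo)).map ρ ⊓
        fixSub N (chainBases (expLevels (loops.map List.reverse) levels) []) :
          Subgroup (Equiv.Perm (Fin N))) ≤
      Nat.card ((Hs ⊓ MulAction.stabilizer G (pt g q₀ E.D lo)).map ρ) := by
  classical
  set S : Subgroup G := Hs ⊓ MulAction.stabilizer G (pt g q₀ E.D lo) with hSdef
  have hl := loopsOK_spec hloops
  have hloopS : ∀ w ∈ loops, rprod g w ∈ S := by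
    intro w hw
    obtain ⟨h1, h2⟩ := hl w hw
    refine Subgroup.mem_inf.mpr ⟨rprod_mem Hs hHs w h1, ?_⟩
    rw [MulAction.mem_stabilizer_iff]
    have h3 : wkL2 E R lo w < E.M := by rw [h2]; exact hloM
    obtain ⟨h4, -⟩ := wkL2_pt hI w lo h3
    rw [h2] at h4
    exact h4.symm
  have hgetD : ∀ j, rprod g ((loops.map List.reverse).getD j []).reverse ∈ S := by
    intro j
    by_cases hj : j < (loops.map List.reverse).length
    · rw [List.getD_eq_getElem _ _ hj, List.getElem_map, List.reverse_reverse]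
      exact hloopS _ (List.getElem_mem _)
    · rw [List.getD_eq_default _ _ (not_lt.mp hj), List.reverse_nil, rprod]
      exact S.one_mem
  have hexp : ∀ js : List ℕ, rprod g (expand (loops.map List.reverse) js).reverse ∈ S := by
    intro js
    induction js with
    | nil =>
      show rprod g ([] : List ℕ).reverse ∈ S
      rw [List.reverse_nil, rprod]
      exact S.one_mem
    | cons j js ih =>
      have e : expand (loops.map List.reverse) (j :: js) =
          (loops.map List.reverse).getD j [] ++ expand (loops.map List.reverse) js := by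
        simp [expand]
      rw [e, rprod_reverse_append]
      exact S.mul_mem (hgetD j) ih
  have hA := actsOn_of_link hL hkH
  have hmem : ∀ lv ∈ expLevels (loops.map List.reverse) levels, ∀ w ∈ lv.2.1,
      ρ ((fun l => rprod g l.reverse) w) ∈ S.map ρ := by
    intro lv hlv w hw
    unfold expLevels at hlv
    obtain ⟨lv0, -, rfl⟩ := List.mem_map.mp hlv
    obtain ⟨js, -, rfl⟩ := List.mem_map.mp hw
    exact Subgroup.mem_map_of_mem ρ (hexp js)
  have h1 := chain_lowerK_rem hA (S.map ρ) _ [] hchain hmem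
  have h2 : Nat.card (S.map ρ ⊓ fixSub N [] : Subgroup (Equiv.Perm (Fin N))) ≤
      Nat.card (S.map ρ) := Subgroup.card_le_of_le inf_le_left
  exact le_trans h1 h2

/-- all points of a block are images of its first point under the permutation group of the
subgroup. -/
theorem block_reach (hL : Link g q₀ E N ρ φ) {kH : ℕ} (hkH : kH ≤ E.D.k)
    (Hs : Subgroup G) (hHs : ∀ x, x < kH → g x ∈ Hs) {lo hi : ℕ} (hhi : hi ≤ N)
    (hp hl : ℕ → ℕ)
    (hsec : ∀ v, lo < v → v < hi → lo ≤ hp v ∧ hp v < v ∧ hl v < kH ∧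
      E.D.tgt (hl v) (hp v) = v) :
    ∀ v, lo ≤ v → v < hi → ReachN (Hs.map ρ) lo v := by
  intro v
  induction v using Nat.strong_induction_on with
  | _ v ih =>
    intro h1 h2
    rcases Nat.eq_or_lt_of_le h1 with rfl | h1'
    · exact reachN_self _ (lt_of_lt_of_le h2 hhi)
    · obtain ⟨a1, a2, a3, a5⟩ := hsec v h1' h2
      obtain ⟨hb, hpN, σ, hσ, hσb⟩ := ih (hp v) a2 a1 (lt_trans a2 h2)
      refine ⟨hb, lt_of_lt_of_le h2 hhi, ρ (g (hl v)) * σ,
        (Hs.map ρ).mul_mem (Subgroup.mem_map_of_mem ρ (hHs _ a3)) hσ, ?_⟩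
      rw [Equiv.Perm.mul_apply, hσb]
      apply Fin.ext
      rw [hL.act _ (lt_of_lt_of_le a3 hkH)]
      exact a5

/-- **The order of the permutation group of the subgroup**, from one block, with remainder. -/
theorem perm_order_rem (hL : Link g q₀ E N ρ φ) {kH : ℕ} (hkH : kH ≤ E.D.k)
    (Hs : Subgroup G) (hHs : ∀ x, x < kH → g x ∈ Hs)
    {R lo hi : ℕ} (hI : Inv2 g q₀ E R) (hhi : hi ≤ N) (hNM : N ≤ E.M) (hlohi : lo < hi)
    (hp hl : ℕ → ℕ)
    (hsec : ∀ v, lo < v → v < hi → lo ≤ hp v ∧ hp v < v ∧ hl v < kH ∧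
      E.rank (hl v) (hp v) < R ∧ E.D.tgt (hl v) (hp v) = v)
    (loops : List (List ℕ)) (hloops : loopsOK E R lo kH loops = true)
    (levels : List Level)
    (hchain : chainOK E.D.tgt kH N [] (expLevels (loops.map List.reverse) levels) = true) :
    (hi - lo) * (chainProd (expLevels (loops.map List.reverse) levels) *
      Nat.card ((Hs ⊓ MulAction.stabilizer G (pt g q₀ E.D lo)).map ρ ⊓
        fixSub N (chainBases (expLevels (loops.map List.reverse) levels) []) :
          Subgroup (Equiv.Perm (Fin N)))) ≤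
      Nat.card (Hs.map ρ) := by
  classical
  have hloN : lo < N := lt_of_lt_of_le hlohi hhi
  have hloM : lo < E.M := lt_of_lt_of_le hloN hNM
  have hrem := stab_perm_rem hL hkH Hs hHs hI hloM loops hloops levels hchain
  set S : Subgroup G := Hs ⊓ MulAction.stabilizer G (pt g q₀ E.D lo) with hSdef
  -- the orbit
  have hreach := block_reach hL hkH Hs hHs hhi hp hl
    (fun v h1 h2 => by
      obtain ⟨a1, a2, a3, -, a5⟩ := hsec v h1 h2
      exact ⟨a1, a2, a3, a5⟩)
  have horb := card_le_orbit (Hs.map ρ) hloN (Finset.Ico lo hi) (by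
    intro v hv
    rw [Finset.mem_Ico] at hv
    exact hreach v hv.1 hv.2)
  rw [Nat.card_Ico] at horb
  -- the stabiliser
  have hle : S.map ρ ≤ Hs.map ρ ⊓
      MulAction.stabilizer (Equiv.Perm (Fin N)) (⟨lo, hloN⟩ : Fin N) := by
    rintro _ ⟨a, ha, rfl⟩
    obtain ⟨ha1, ha2⟩ := Subgroup.mem_inf.mp ha
    refine Subgroup.mem_inf.mpr ⟨Subgroup.mem_map_of_mem ρ ha1, ?_⟩
    rw [MulAction.mem_stabilizer_iff] at ha2 ⊢
    have e : φ (pt g q₀ E.D lo) = ⟨lo, hloN⟩ := Fin.ext (phi_pt hL lo hloN)
    have := hL.eqv a (pt g q₀ E.D lo)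
    rw [ha2, e] at this
    exact this.symm
  have hcard := Subgroup.card_le_of_le hle
  rw [card_eq_orbit_mul' (Hs.map ρ) (⟨lo, hloN⟩ : Fin N)]
  exact Nat.mul_le_mul horb (le_trans hrem hcard)

/-- the points of a block lie in one orbit of the subgroup. -/
theorem block_orbit (hL : Link g q₀ E N ρ φ) (hφ : Function.Injective φ) {kH : ℕ}
    (hkH : kH ≤ E.D.k)
    (Hs : Subgroup G) (hHs : ∀ x, x < kH → g x ∈ Hs) {lo hi : ℕ} (hhi : hi ≤ N)
    (hp hl : ℕ → ℕ)
    (hsec : ∀ v, lo < v → v < hi → lo ≤ hp v ∧ hp v < v ∧ hl v < kH ∧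
      E.D.tgt (hl v) (hp v) = v) :
    ∀ v, lo ≤ v → v < hi → ∃ h ∈ Hs, h • pt g q₀ E.D lo = pt g q₀ E.D v := by
  intro v h1 h2
  obtain ⟨hb, hv, σ, ⟨h, hh, rfl⟩, hσb⟩ := block_reach hL hkH Hs hHs hhi hp hl hsec v h1 h2
  refine ⟨h, hh, ?_⟩
  apply hφ
  rw [hL.eqv]
  have e1 : φ (pt g q₀ E.D lo) = ⟨lo, hb⟩ := Fin.ext (phi_pt hL lo hb)
  have e2 : φ (pt g q₀ E.D v) = ⟨v, hv⟩ := Fin.ext (phi_pt hL v hv)
  rw [e1, e2]
  exact hσb

end

end Cfsg.Agent.Helper5.TCS
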