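import Mathlib
import Cfsg.Agent.Helper5.HNIdx
import Cfsg.Agent.Helper5.TCSE
import Cfsg.Agent.Helper5.HNSimpG
import Cfsg.Agent.Helper5.HNTowK

/-!
# The presented Harada–Norton group is simple of order 273030912000000
-/

set_option autoImplicit false

namespace Cfsg.Agent.Helper5.HNSimple

open Cfsg Cfsg.Spor Cfsg.Agent.Helper5.HNOrd Cfsg.Agent.Helper5.HNGen Cfsg.Agent.Helper5.HNIdx
  Cfsg.Agent.Helper5.TC Cfsg.Agent.Helper5.TCI Cfsg.Agent.Helper5.TCS Cfsg.Agent.Helper5.LP
  Cfsg.Agent.Helper5.HNTowK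

/-- the word `a₀¹⁹`. -/
def a19w : List ℕ := (List.replicate 19 a0w).flatten

set_option maxRecDepth 100000 in
theorem a19_fix : ∀ v ∈ [0, 1, 809, 664, 309], actL HNM.tgF a19w.reverse v = v := by
  decide +kernel

set_option maxRecDepth 100000 in
theorem a19_lt : ∀ c ∈ a19w.reverse, c < 9 := by decide +kernel

set_option maxRecDepth 100000 in
theorem bases_1 : chainBases (expLevels (HNM.loops_1.map List.reverse) HNM.levels_1) [] =
    [809, 664, 309] := by decide +kernel

theorem evw4_append {K : Type*} [Group K] (x y z t : K) (l l' : List ℕ) :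
    evw4 x y z t (l ++ l') = evw4 x y z t l * evw4 x y z t l' := by
  simp [evw4]

theorem evw4_a19 : evw4 xG yG zG tG a19w = (evw4 xG yG zG tG a0w) ^ 19 := by
  have : ∀ n : ℕ, evw4 xG yG zG tG (List.replicate n a0w).flatten = (evw4 xG yG zG tG a0w) ^ n := by
    intro n
    induction n with
    | zero => simp [evw4]
    | succ n ih => rw [List.replicate_succ, List.flatten_cons, evw4_append, ih, pow_succ']
  exact this 19

/-- **The presented Harada–Norton group is simple of the right order.** -/
theorem main : IsSimpleGroup G ∧ Nat.card G = 273030912000000 := by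
  classical
  obtain ⟨ρ, φ, hL, hbij, hI, hρ⟩ := package
  have hφ0 : φ q0 = z0 := Fin.ext hL.base
  -- the stabiliser of the base point
  have hstab : ∀ a : G, ρ a z0 = z0 ↔ a ∈ Hs := by
    intro a
    have e : φ (a • q0) = ρ a z0 := by rw [hL.eqv, hφ0]
    have hs : a ∈ MulAction.stabilizer G q0 ↔ a ∈ Hs := by
      rw [show q0 = ((1 : G) : G ⧸ Hs) from rfl, MulAction.stabilizer_quotient]
    rw [← hs, MulAction.mem_stabilizer_iff]
    constructor
    · intro h
      apply hbij.1
      rw [e, hφ0, h]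
    · intro h
      rw [← e, h, hφ0]
  have htrans : ∀ v : Fin 1539000, ∃ a : G, ρ a z0 = v := by
    intro v
    obtain ⟨q, rfl⟩ := hbij.2 v
    obtain ⟨a, rfl⟩ := htr q
    exact ⟨a, by rw [hL.eqv, hφ0]⟩
  -- the order of the permutation group of `Hs`
  have hI1 : Inv2 g q0 HNM.E 38 := hI 38 (by decide)
  have hord := perm_order_rem hL (kH := 5) (by decide) Hs g_mem hI1 (lo := 1) (hi := 1409)
    (by norm_num) (le_refl _) (by norm_num)
    (fun v => HNM.secF v % 2097152) (fun v => HNM.secF v / 2097152) HNM.sec_ok_1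
    HNM.loops_1 HNM.loops_ok_1 HNM.levels_1 HNM.chain_ok_1
  rw [HNM.chain_prod_1, bases_1] at hord
  set S : Subgroup G := Hs ⊓ MulAction.stabilizer G (pt g q0 HNM.E.D 1) with hS
  set F : Subgroup (Equiv.Perm (Fin 1539000)) := S.map ρ ⊓ fixSub 1539000 [809, 664, 309] with hF
  have hcardHs : Nat.card Hs ≤ 177408000 := Hs_order.2
  have hmapHs : Nat.card (Hs.map ρ) ≤ Nat.card Hs := by
    apply Nat.card_le_card_of_surjective
      (fun s : Hs => (⟨ρ s.1, Subgroup.mem_map_of_mem ρ s.2⟩ : Hs.map ρ))
    rintro ⟨_, s, hs, rfl⟩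
    exact ⟨⟨s, hs⟩, rfl⟩
  have hFpos : 0 < Nat.card F := Nat.card_pos
  have hF1 : Nat.card F = 1 := by
    have h1 : (1409 - 1) * (126000 * Nat.card F) ≤ 177408000 :=
      le_trans hord (le_trans hmapHs hcardHs)
    have h2 : (1409 - 1) * (126000 * Nat.card F) = 177408000 * Nat.card F := by ring
    rw [h2] at h1
    rcases Nat.lt_or_ge (Nat.card F) 2 with h3 | h3
    · omega
    · have : 177408000 * 2 ≤ 177408000 * Nat.card F := Nat.mul_le_mul_left _ h3
      omega
  have hmapEq : Nat.card (Hs.map ρ) = 177408000 := by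
    have h1 : (1409 - 1) * (126000 * Nat.card F) ≤ Nat.card (Hs.map ρ) := hord
    rw [hF1] at h1
    have h2 : Nat.card (Hs.map ρ) ≤ 177408000 := le_trans hmapHs hcardHs
    omega
  have hcardEq : Nat.card Hs = 177408000 := by
    have := le_trans (le_of_eq hmapEq.symm) hmapHs
    omega
  -- `ρ` is injective on `Hs`
  have hinjHs : ∀ a ∈ Hs, ρ a = 1 → a = 1 := by
    intro a ha h1
    have hsurj : Function.Surjective
        (fun s : Hs => (⟨ρ s.1, Subgroup.mem_map_of_mem ρ s.2⟩ : Hs.map ρ)) := by
      rintro ⟨_, s, hs, rfl⟩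
      exact ⟨⟨s, hs⟩, rfl⟩
    have hb := Function.Surjective.bijective_of_nat_card_le hsurj (by rw [hmapEq, hcardEq])
    have := hb.1 (a₁ := ⟨a, ha⟩) (a₂ := ⟨1, Hs.one_mem⟩) (by
      apply Subtype.ext
      show ρ a = ρ 1
      rw [h1, map_one])
    exact congrArg Subtype.val this
  have hinj : Function.Injective ρ := by
    rw [injective_iff_map_eq_one]
    intro a h1
    apply hinjHs a _ h1
    rw [← hstab a, h1]
    rfl
  -- the order of `G`
  have hcardG : Nat.card G = 273030912000000 := by
    have := Subgroup.card_mul_index Hs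
    rw [index_Hs, hcardEq] at this
    rw [← this]
  -- the base lemma: the element `a₀ ^ 19` is trivial
  have hA := actsOn_of_link hL (kH := 9) (le_refl _)
  have ha19 : (evw4 xG yG zG tG a0w) ^ 19 = 1 := by
    rw [← evw4_a19]
    set u : G := evw4 xG yG zG tG a19w with hu
    have hur : u = (rprod g a19w)⁻¹ := by rw [rprod_g, inv_inv]
    have hfix : ∀ v (hv : v < 1539000), v ∈ [0, 1, 809, 664, 309] →
        ρ u ⟨v, hv⟩ = ⟨v, hv⟩ := by
      intro v hv hmem
      rw [hur, map_inv, Equiv.Perm.inv_eq_iff_eq]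
      symm
      apply Fin.ext
      have h1 := hA.act a19w.reverse a19_lt ⟨v, hv⟩
      rw [List.reverse_reverse] at h1
      rw [h1]
      exact a19_fix v hmem
    have huHs : u ∈ Hs := by
      rw [← hstab u]
      exact hfix 0 (by norm_num) (by simp)
    have huS : u ∈ S := by
      refine Subgroup.mem_inf.mpr ⟨huHs, ?_⟩
      rw [MulAction.mem_stabilizer_iff]
      apply hbij.1
      rw [hL.eqv]
      have e : φ (pt g q0 HNM.E.D 1) = ⟨1, by norm_num⟩ := Fin.ext (phi_pt hL 1 (by norm_num))
      rw [e]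
      exact hfix 1 (by norm_num) (by simp)
    have huF : ρ u ∈ F := by
      refine Subgroup.mem_inf.mpr ⟨Subgroup.mem_map_of_mem ρ huS, ?_⟩
      intro b hb hbN
      have hb' : b ∈ [0, 1, 809, 664, 309] := by
        simp only [List.mem_cons, List.mem_nil_iff, or_false] at hb ⊢
        rcases hb with h | h | h
        · right; right; left; exact h
        · right; right; right; left; exact h
        · right; right; right; right; exact h
      exact hfix b hbN hb'
    have hFbot : F = ⊥ := Subgroup.card_eq_one.mp hF1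
    rw [hFbot, Subgroup.mem_bot] at huF
    exact hinj (by rw [huF, map_one])
  -- the blocks
  have hreach : ∀ b ∈ HNArith.blocks, ∀ v, b.1 ≤ v → v < b.2 → ReachN (Hs.map ρ) b.1 v := by
    intro b hb v h1 h2
    simp only [HNArith.blocks, List.mem_cons, List.mem_nil_iff, or_false] at hb
    rcases hb with rfl | rfl | rfl | rfl | rfl | rfl | rfl | rfl | rfl
    · have : v = 0 := by
        have : v < 1 := h2
        omega
      subst this
      exact reachN_self _ (by norm_num)
    · exact block_reach hL (kH := 5) (by decide) Hs g_mem (by norm_num)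
        (fun v => HNM.secF v % 2097152) (fun v => HNM.secF v / 2097152)
        (fun v h3 h4 => by
          obtain ⟨a1, a2, a3, -, a5⟩ := HNM.sec_ok_1 v h3 h4
          exact ⟨a1, a2, a3, a5⟩) v h1 h2
    · exact block_reach hL (kH := 5) (by decide) Hs g_mem (by norm_num)
        (fun v => HNM.secF v % 2097152) (fun v => HNM.secF v / 2097152)
        (fun v h3 h4 => by
          obtain ⟨a1, a2, a3, -, a5⟩ := HNM.sec_ok_2 v h3 h4
          exact ⟨a1, a2, a3, a5⟩) v h1 h2
    · exact block_reach hL (kH := 5) (by decide) Hs g_mem (by norm_num)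
        (fun v => HNM.secF v % 2097152) (fun v => HNM.secF v / 2097152)
        (fun v h3 h4 => by
          obtain ⟨a1, a2, a3, -, a5⟩ := HNM.sec_ok_3 v h3 h4
          exact ⟨a1, a2, a3, a5⟩) v h1 h2
    · exact block_reach hL (kH := 5) (by decide) Hs g_mem (by norm_num)
        (fun v => HNM.secF v % 2097152) (fun v => HNM.secF v / 2097152)
        (fun v h3 h4 => by
          obtain ⟨a1, a2, a3, -, a5⟩ := HNM.sec_ok_4 v h3 h4
          exact ⟨a1, a2, a3, a5⟩) v h1 h2
    · exact block_reach hL (kH := 5) (by decide) Hs g_mem (by norm_num)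
        (fun v => HNM.secF v % 2097152) (fun v => HNM.secF v / 2097152)
        (fun v h3 h4 => by
          obtain ⟨a1, a2, a3, -, a5⟩ := HNM.sec_ok_5 v h3 h4
          exact ⟨a1, a2, a3, a5⟩) v h1 h2
    · exact block_reach hL (kH := 5) (by decide) Hs g_mem (by norm_num)
        (fun v => HNM.secF v % 2097152) (fun v => HNM.secF v / 2097152)
        (fun v h3 h4 => by
          obtain ⟨a1, a2, a3, -, a5⟩ := HNM.sec_ok_6 v h3 h4
          exact ⟨a1, a2, a3, a5⟩) v h1 h2
    · exact block_reach hL (kH := 5) (by decide) Hs g_mem (by norm_num)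
        (fun v => HNM.secF v % 2097152) (fun v => HNM.secF v / 2097152)
        (fun v h3 h4 => by
          obtain ⟨a1, a2, a3, -, a5⟩ := HNM.sec_ok_7 v h3 h4
          exact ⟨a1, a2, a3, a5⟩) v h1 h2
    · exact block_reach hL (kH := 5) (by decide) Hs g_mem (by norm_num)
        (fun v => HNM.secF v % 2097152) (fun v => HNM.secF v / 2097152)
        (fun v h3 h4 => by
          obtain ⟨a1, a2, a3, -, a5⟩ := HNM.sec_ok_8 v h3 h4
          exact ⟨a1, a2, a3, a5⟩) v h1 h2
  refine ⟨?_, hcardG⟩
  have : Finite Hs := Hs_order.1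
  exact HNSimpG.simple_of_action Hs ρ z0 rfl hstab htrans hinj index_Hs hreach
    (by rw [hcardG]; norm_num) (evw4 xG yG zG tG a0w) ha19
    (fun M hM ha => by
      have := hM
      exact eq_top_of_a0_mem M ha)

end Cfsg.Agent.Helper5.HNSimple
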