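import Mathlib
import Cfsg.Agent.Helper5.HNBase
import Cfsg.Agent.Helper5.CarmichaelC
import Cfsg.Agent.Helper5.LPV

/-!
# An alternating group of degree 12 in the presented Harada–Norton group

Ten explicit words in `x, y, z, t` satisfy the relations of Carmichael's (Moore's) presentation of the
alternating group of degree 12 (checked on the base of the permutation representation on 1539000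
points) and the first of them is not trivial; so they generate a subgroup isomorphic to the
alternating group of degree 12, of index 1140000.

The words were found by computer: `a = y z y t z t⁻¹` has order 11, `b` is a conjugate of `x²`,
the subgroup generated by `a` and `b` is an alternating group of degree 12, and the ten generators are
products of conjugates of the 3-cycle `(a a b)⁷`.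
-/

set_option autoImplicit false
set_option Elab.async false

namespace Cfsg.Agent.Helper5.HNAlt

open Cfsg Cfsg.Spor Cfsg.Agent.Helper5.HNOrd Cfsg.Agent.Helper5.HNGen Cfsg.Agent.Helper5.TC
  Cfsg.Agent.Helper5.TCI Cfsg.Agent.Helper5.LP Cfsg.Agent.Helper5.Carmichael

/-- the word of the generator number 0. -/
def w0 : List ℕ := [5, 4, 6, 3, 4, 3, 5, 4, 6, 3, 4, 3, 6, 3, 4, 3, 1, 6, 4, 5, 0, 0, 6, 4, 5, 0, 2, 4, 2, 5, 2, 4, 2, 5, 4, 6, 2, 4, 2, 5, 4, 6, 2, 4, 2, 5, 4, 6, 2, 4, 2, 5, 4, 6, 6, 3, 4, 3, 1, 6, 4, 5, 0, 0, 6, 4, 5, 0, 2, 4, 2, 5, 2, 4, 2, 5, 4, 6, 2, 4, 2, 5, 4, 6, 6, 3, 4, 3, 1, 6, 4, 5, 0, 0, 6, 4, 5, 0, 2, 4, 2, 5, 2, 4, 2, 5, 4, 6, 2, 4, 2, 5, 4, 6, 6, 3, 4, 3, 1, 6, 4, 5,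 0, 0, 6, 4, 5, 0, 2, 4, 2, 5, 2, 4, 2, 5, 4, 6, 2, 4, 2, 5, 4, 6, 6, 3, 4, 3, 1, 6, 4, 5, 0, 0, 6, 4, 5, 0, 2, 4, 2, 5, 2, 4, 2, 5, 4, 6, 2, 4, 2, 5, 4, 6, 6, 3, 4, 3, 1, 6, 4, 5, 0, 0, 6, 4, 5, 0, 2, 4, 2, 5, 2, 4, 2, 5, 4, 6, 2, 4, 2, 5, 4, 6, 6, 3, 4, 3, 1, 6, 4, 5, 0, 0, 6, 4, 5, 0, 2, 4, 2, 5, 2, 4, 2, 5, 4, 6, 2, 4, 2, 5, 4, 6, 6, 3, 4, 3, 1, 6, 4, 5, 0, 0, 6, 4, 5, 0, 2, 4, 2, 5, 5, 4, 6, 3, 4, 3, 5, 4, 6, 3, 4, 3, 6, 3, 4, 3, 1, 6, 4, 5, 0, 0, 6, 4, 5, 0, 2, 4, 2, 5, 2, 4, 2, 5, 4, 6, 2, 4, 2, 5, 4, 6]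

/-- the word of the generator number 1. -/
def w1 : List ℕ := [2, 4, 2, 5, 4, 6, 2, 4, 2, 5, 4, 6, 6, 3, 4, 3, 1, 6, 4, 5, 0, 0, 6, 4, 5, 0, 2, 4, 2, 5, 2, 4, 2, 5, 4, 6, 2, 4, 2, 5, 4, 6, 2, 4, 2, 5, 4, 6, 6, 3, 4, 3, 1, 6, 4, 5, 0, 0, 6, 4, 5, 0, 2, 4, 2, 5, 2, 4, 2, 5, 4, 6, 2, 4, 2, 5, 4, 6, 6, 3, 4, 3, 1, 6, 4, 5, 0, 0, 6, 4, 5, 0, 2, 4, 2, 5, 2, 4, 2, 5, 4, 6, 2, 4, 2, 5, 4, 6, 6, 3, 4, 3, 1, 6, 4, 5, 0, 0, 6, 4, 5, 0, 2, 4, 2, 5, 2, 4, 2, 5, 4, 6, 2, 4, 2, 5, 4, 6, 6, 3, 4, 3, 1, 6, 4, 5, 0, 0, 6, 4, 5, 0, 2, 4, 2, 5, 2, 4, 2, 5, 4, 6, 2, 4, 2, 5, 4, 6, 6, 3, 4, 3, 1, 6, 4, 5, 0, 0, 6, 4, 5, 0, 2, 4, 2, 5, 2, 4, 2, 5, 4, 6, 2, 4, 2, 5, 4, 6, 6, 3, 4, 3, 1, 6, 4, 5, 0, 0, 6, 4, 5, 0,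 2, 4, 2, 5, 2, 4, 2, 5, 4, 6, 2, 4, 2, 5, 4, 6, 6, 3, 4, 3, 1, 6, 4, 5, 0, 0, 6, 4, 5, 0, 2, 4, 2, 5, 5, 4, 6, 3, 4, 3, 6, 3, 4, 3, 1, 6, 4, 5, 0, 0, 6, 4, 5, 0, 2, 4, 2, 5, 5, 4, 6, 3, 4, 3, 6, 3, 4, 3, 1, 6, 4, 5, 0, 0, 6, 4, 5, 0, 2, 4, 2, 5, 2, 4, 2, 5, 4, 6, 2, 4, 2, 5, 4, 6, 2, 4, 2, 5, 4, 6, 2, 4, 2, 5, 4, 6, 6, 3, 4, 3, 1, 6, 4, 5, 0, 0, 6, 4, 5, 0, 2, 4, 2, 5, 2, 4, 2, 5, 4, 6, 2, 4, 2, 5, 4, 6, 6, 3, 4, 3, 1, 6, 4, 5, 0, 0, 6, 4, 5, 0, 2, 4, 2, 5, 2, 4, 2, 5, 4, 6, 2, 4, 2, 5, 4, 6, 6, 3, 4, 3, 1, 6, 4, 5, 0, 0, 6, 4, 5, 0, 2, 4, 2, 5, 2, 4, 2, 5, 4, 6, 2, 4, 2, 5, 4, 6, 6, 3, 4, 3, 1, 6, 4, 5, 0, 0, 6, 4, 5, 0, 2, 4, 2, 5, 2, 4, 2, 5, 4, 6, 2, 4, 2, 5, 4, 6, 6, 3, 4, 3, 1, 6, 4,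 5, 0, 0, 6, 4, 5, 0, 2, 4, 2, 5, 2, 4, 2, 5, 4, 6, 2, 4, 2, 5, 4, 6, 6, 3, 4, 3, 1, 6, 4, 5, 0, 0, 6, 4, 5, 0, 2, 4, 2, 5, 2, 4, 2, 5, 4, 6, 2, 4, 2, 5, 4, 6, 6, 3, 4, 3, 1, 6, 4, 5, 0, 0, 6, 4, 5, 0, 2, 4, 2, 5, 5, 4, 6, 3, 4, 3, 5, 4, 6, 3, 4, 3, 6, 3, 4, 3, 1, 6, 4, 5, 0, 0, 6, 4, 5, 0, 2, 4, 2, 5, 5, 4, 6, 3, 4, 3]

/-- the word of the generator number 2. -/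
def w2 : List ℕ := [6, 3, 4, 3, 1, 6, 4, 5, 0, 0, 6, 4, 5, 0, 2, 4, 2, 5, 5, 4, 6, 3, 4, 3, 6, 3, 4, 3, 1, 6, 4, 5, 0, 0, 6, 4, 5, 0, 2, 4, 2, 5, 2, 4, 2, 5, 4, 6, 2, 4, 2, 5, 4, 6, 6, 3, 4, 3, 1, 6, 4, 5, 0, 0, 6, 4, 5, 0, 2, 4, 2, 5, 2, 4, 2, 5, 4, 6, 2, 4, 2, 5, 4, 6, 6, 3, 4, 3, 1, 6, 4, 5, 0, 0, 6, 4, 5, 0, 2, 4, 2, 5, 2, 4, 2, 5, 4, 6, 2, 4, 2, 5, 4, 6, 6, 3, 4, 3, 1, 6, 4, 5, 0, 0, 6, 4, 5, 0, 2, 4, 2, 5, 2, 4, 2, 5, 4, 6, 2, 4, 2, 5, 4, 6, 6, 3, 4, 3, 1, 6, 4, 5, 0, 0, 6, 4, 5, 0, 2, 4, 2, 5, 2, 4, 2, 5, 4, 6, 2, 4, 2, 5, 4, 6, 6, 3, 4, 3, 1, 6, 4, 5, 0, 0, 6, 4, 5, 0, 2, 4, 2, 5, 2, 4, 2, 5, 4, 6, 2, 4, 2, 5, 4, 6, 6, 3, 4, 3, 1, 6, 4, 5, 0, 0, 6, 4, 5, 0, 2, 4, 2, 5, 2, 4, 2, 5,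 4, 6, 2, 4, 2, 5, 4, 6, 6, 3, 4, 3, 1, 6, 4, 5, 0, 0, 0, 0, 6, 4, 5, 0, 2, 4, 2, 5, 2, 4, 2, 5, 4, 6, 6, 3, 4, 3, 1, 6, 4, 5, 0, 0, 6, 4, 5, 0, 2, 4, 2, 5, 2, 4, 2, 5, 4, 6, 6, 3, 4, 3, 1, 6, 4, 5, 0, 0, 6, 4, 5, 0, 2, 4, 2, 5, 2, 4, 2, 5, 4, 6, 2, 4, 2, 5, 4, 6, 2, 4, 2, 5, 4, 6, 2, 4, 2, 5, 4, 6, 6, 3, 4, 3, 1, 6, 4, 5, 0, 0, 6, 4, 5, 0, 2, 4, 2, 5, 2, 4, 2, 5, 4, 6, 2, 4, 2, 5, 4, 6, 6, 3, 4, 3, 1, 6, 4, 5, 0, 0, 6, 4, 5, 0, 2, 4, 2, 5, 2, 4, 2, 5, 4, 6, 2, 4, 2, 5, 4, 6, 6, 3, 4, 3, 1, 6, 4, 5, 0, 0, 6, 4, 5, 0, 2, 4, 2, 5, 2, 4, 2, 5, 4, 6, 2, 4, 2, 5, 4, 6, 6, 3, 4, 3, 1, 6, 4, 5, 0, 0, 6, 4, 5, 0, 2, 4, 2, 5, 2, 4, 2, 5, 4, 6, 2, 4, 2, 5, 4, 6, 6, 3, 4, 3, 1, 6, 4, 5, 0, 0, 6, 4, 5,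 0, 2, 4, 2, 5, 2, 4, 2, 5, 4, 6, 2, 4, 2, 5, 4, 6, 6, 3, 4, 3, 1, 6, 4, 5, 0, 0, 6, 4, 5, 0, 2, 4, 2, 5, 2, 4, 2, 5, 4, 6, 2, 4, 2, 5, 4, 6, 6, 3, 4, 3, 1, 6, 4, 5, 0, 0, 6, 4, 5, 0, 2, 4, 2, 5, 5, 4, 6, 3, 4, 3, 5, 4, 6, 3, 4, 3, 6, 3, 4, 3, 1, 6, 4, 5, 0, 0, 6, 4, 5, 0, 2, 4, 2, 5, 5, 4, 6, 3, 4, 3]

/-- the word of the generator number 3. -/
def w3 : List ℕ := [2, 4, 2, 5, 4, 6, 2, 4, 2, 5, 4, 6, 2, 4, 2, 5, 4, 6, 6, 3, 4, 3, 1, 6, 4, 5, 0, 0, 6, 4, 5, 0, 2, 4, 2, 5, 2, 4, 2, 5, 4, 6, 2, 4, 2, 5, 4, 6, 6, 3, 4, 3, 1, 6, 4, 5, 0, 0, 6, 4, 5, 0, 2, 4, 2, 5, 2, 4, 2, 5, 4, 6, 2, 4, 2, 5, 4, 6, 6, 3, 4, 3, 1, 6, 4, 5, 0, 0, 6, 4, 5, 0, 2, 4, 2, 5, 2, 4, 2, 5, 4, 6, 2, 4, 2, 5, 4, 6, 6, 3, 4,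 3, 1, 6, 4, 5, 0, 0, 6, 4, 5, 0, 2, 4, 2, 5, 2, 4, 2, 5, 4, 6, 2, 4, 2, 5, 4, 6, 6, 3, 4, 3, 1, 6, 4, 5, 0, 0, 6, 4, 5, 0, 2, 4, 2, 5, 2, 4, 2, 5, 4, 6, 2, 4, 2, 5, 4, 6, 6, 3, 4, 3, 1, 6, 4, 5, 0, 0, 6, 4, 5, 0, 2, 4, 2, 5, 2, 4, 2, 5, 4, 6, 2, 4, 2, 5, 4, 6, 6, 3, 4, 3, 1, 6, 4, 5, 0, 0, 0, 0, 6, 4, 5, 0, 2, 4, 2, 5, 2, 4, 2, 5, 4, 6, 2, 4, 2, 5, 4, 6, 2, 4, 2, 5, 4, 6, 6, 3, 4, 3, 1, 6, 4, 5, 0, 0, 6, 4, 5, 0, 2, 4, 2, 5, 2, 4, 2, 5, 4, 6, 6, 3, 4, 3, 1, 6, 4, 5, 0, 0, 6, 4, 5, 0, 2, 4, 2, 5, 2, 4, 2, 5, 4, 6, 2, 4, 2, 5, 4, 6, 6, 3, 4, 3, 1, 6, 4, 5, 0, 0, 6, 4, 5, 0, 2, 4, 2, 5, 2, 4, 2, 5, 4, 6, 2, 4, 2, 5, 4, 6, 6, 3, 4, 3, 1, 6, 4, 5, 0, 0, 6, 4, 5, 0, 2, 4, 2, 5, 2, 4, 2, 5, 4, 6,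 2, 4, 2, 5, 4, 6, 6, 3, 4, 3, 1, 6, 4, 5, 0, 0, 6, 4, 5, 0, 2, 4, 2, 5, 2, 4, 2, 5, 4, 6, 2, 4, 2, 5, 4, 6, 6, 3, 4, 3, 1, 6, 4, 5, 0, 0, 6, 4, 5, 0, 2, 4, 2, 5, 2, 4, 2, 5, 4, 6, 2, 4, 2, 5, 4, 6, 6, 3, 4, 3, 1, 6, 4, 5, 0, 0, 6, 4, 5, 0, 2, 4, 2, 5, 2, 4, 2, 5, 4, 6, 2, 4, 2, 5, 4, 6, 6, 3, 4, 3, 1, 6, 4, 5, 0, 0, 6, 4, 5, 0, 2, 4, 2, 5, 2, 4, 2, 5, 4, 6, 6, 3, 4, 3, 1, 6, 4, 5, 0, 0, 6, 4, 5, 0, 2, 4, 2, 5, 5, 4, 6, 3, 4, 3, 5, 4, 6, 3, 4, 3, 5, 4, 6, 3, 4, 3, 6, 3, 4, 3, 1, 6, 4, 5, 0, 0, 6, 4, 5, 0, 2, 4, 2, 5, 5, 4, 6, 3, 4, 3]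

/-- the word of the generator number 4. -/
def w4 : List ℕ := [6, 3, 4, 3, 1, 6, 4, 5, 0, 0, 6, 4, 5, 0, 2, 4, 2, 5, 2, 4, 2, 5, 4, 6, 2, 4, 2, 5, 4, 6, 2, 4, 2, 5, 4, 6, 2, 4, 2, 5, 4, 6, 6, 3, 4, 3, 1, 6, 4, 5, 0, 0, 6, 4, 5, 0, 2, 4, 2, 5, 2, 4, 2, 5, 4, 6, 2, 4, 2, 5, 4, 6, 6, 3, 4, 3, 1, 6, 4, 5, 0, 0, 6, 4, 5, 0, 2, 4, 2, 5, 2, 4, 2, 5, 4, 6, 2, 4, 2, 5, 4, 6, 6, 3, 4, 3, 1, 6, 4, 5, 0, 0, 6, 4, 5, 0, 2, 4, 2, 5, 2, 4, 2, 5, 4, 6, 2, 4, 2, 5, 4, 6, 6, 3, 4, 3, 1, 6, 4, 5, 0, 0, 6, 4, 5, 0, 2, 4, 2, 5, 2, 4, 2, 5, 4, 6, 2, 4, 2, 5, 4, 6, 6, 3, 4, 3, 1, 6, 4, 5, 0, 0, 6, 4, 5, 0, 2, 4, 2, 5, 2, 4, 2, 5, 4, 6, 2, 4, 2, 5, 4, 6, 6, 3, 4, 3, 1, 6, 4, 5, 0, 0, 6, 4, 5, 0, 2, 4, 2, 5, 2, 4,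 2, 5, 4, 6, 2, 4, 2, 5, 4, 6, 6, 3, 4, 3, 1, 6, 4, 5, 0, 0, 6, 4, 5, 0, 2, 4, 2, 5, 5, 4, 6, 3, 4, 3, 5, 4, 6, 3, 4, 3, 6, 3, 4, 3, 1, 6, 4, 5, 0, 0, 0, 0, 6, 4, 5, 0, 2, 4, 2, 5, 5, 4, 6, 3, 4, 3, 6, 3, 4, 3, 1, 6, 4, 5, 0, 0, 6, 4, 5, 0, 2, 4, 2, 5, 2, 4, 2, 5, 4, 6, 2, 4, 2, 5, 4, 6, 2, 4, 2, 5, 4, 6, 6, 3, 4, 3, 1, 6, 4, 5, 0, 0, 6, 4, 5, 0, 2, 4, 2, 5, 2, 4, 2, 5, 4, 6, 2, 4, 2, 5, 4, 6, 6, 3, 4, 3, 1, 6, 4, 5, 0, 0, 6, 4, 5, 0, 2, 4, 2, 5, 2, 4, 2, 5, 4, 6, 2, 4, 2, 5, 4, 6, 6, 3, 4, 3, 1, 6, 4, 5, 0, 0, 6, 4, 5, 0, 2, 4, 2, 5, 2, 4, 2, 5, 4, 6, 2, 4, 2, 5, 4, 6, 6, 3, 4, 3, 1, 6, 4, 5, 0, 0, 6, 4, 5, 0, 2, 4, 2, 5, 2, 4, 2, 5, 4, 6, 2, 4, 2, 5, 4, 6, 6, 3, 4, 3, 1, 6, 4, 5, 0, 0, 6,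 4, 5, 0, 2, 4, 2, 5, 2, 4, 2, 5, 4, 6, 2, 4, 2, 5, 4, 6, 6, 3, 4, 3, 1, 6, 4, 5, 0, 0, 6, 4, 5, 0, 2, 4, 2, 5, 2, 4, 2, 5, 4, 6, 2, 4, 2, 5, 4, 6, 6, 3, 4, 3, 1, 6, 4, 5, 0, 0, 6, 4, 5, 0, 2, 4, 2, 5, 5, 4, 6, 3, 4, 3, 6, 3, 4, 3, 1, 6, 4, 5, 0, 0, 6, 4, 5, 0, 2, 4, 2, 5, 2, 4, 2, 5, 4, 6, 6, 3, 4, 3, 1, 6, 4, 5, 0, 0, 6, 4, 5, 0, 2, 4, 2, 5]

/-- the word of the generator number 5. -/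
def w5 : List ℕ := [2, 4, 2, 5, 4, 6, 6, 3, 4, 3, 1, 6, 4, 5, 0, 0, 6, 4, 5, 0, 2, 4, 2, 5, 2, 4, 2, 5, 4, 6, 2, 4, 2, 5, 4, 6, 2, 4, 2, 5, 4, 6, 6, 3, 4, 3, 1, 6, 4, 5, 0, 0, 6, 4, 5, 0, 2, 4, 2, 5, 2, 4, 2, 5, 4, 6, 2, 4, 2, 5, 4, 6, 6, 3, 4, 3, 1, 6, 4, 5, 0, 0, 6, 4, 5, 0, 2, 4, 2, 5, 2, 4, 2, 5, 4, 6, 2, 4, 2, 5, 4, 6, 6, 3, 4, 3, 1, 6, 4, 5, 0, 0, 6, 4, 5, 0, 2, 4, 2, 5, 2, 4, 2, 5, 4, 6, 2, 4, 2, 5, 4, 6, 6, 3, 4, 3, 1, 6, 4, 5, 0, 0, 6, 4, 5, 0, 2, 4, 2, 5, 2, 4, 2, 5, 4, 6, 2, 4, 2, 5, 4, 6, 6, 3, 4, 3, 1, 6, 4, 5, 0, 0, 6, 4, 5, 0, 2, 4, 2, 5, 2, 4, 2, 5, 4, 6, 2, 4, 2, 5, 4, 6, 6, 3, 4, 3, 1, 6, 4, 5, 0, 0, 6, 4, 5, 0, 2, 4, 2, 5, 2, 4, 2, 5, 4, 6, 2, 4, 2, 5, 4, 6, 6, 3, 4, 3,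 1, 6, 4, 5, 0, 0, 6, 4, 5, 0, 2, 4, 2, 5, 5, 4, 6, 3, 4, 3, 6, 3, 4, 3, 1, 6, 4, 5, 0, 0, 6, 4, 5, 0, 2, 4, 2, 5, 5, 4, 6, 3, 4, 3, 6, 3, 4, 3, 1, 6, 4, 5, 0, 0, 6, 4, 5, 0, 2, 4, 2, 5, 5, 4, 6, 3, 4, 3, 6, 3, 4, 3, 1, 6, 4, 5, 0, 0, 6, 4, 5, 0, 2, 4, 2, 5, 2, 4, 2, 5, 4, 6, 2, 4, 2, 5, 4, 6, 2, 4, 2, 5, 4, 6, 6, 3, 4, 3, 1, 6, 4, 5, 0, 0, 6, 4, 5, 0, 2, 4, 2, 5, 2, 4, 2, 5, 4, 6, 2, 4, 2, 5, 4, 6, 6, 3, 4, 3, 1, 6, 4, 5, 0, 0, 6, 4, 5, 0, 2, 4, 2, 5, 2, 4, 2, 5, 4, 6, 2, 4, 2, 5, 4, 6, 6, 3, 4, 3, 1, 6, 4, 5, 0, 0, 6, 4, 5, 0, 2, 4, 2, 5, 2, 4, 2, 5, 4, 6, 2, 4, 2, 5, 4, 6, 6, 3, 4, 3, 1, 6, 4, 5, 0, 0, 6, 4, 5, 0, 2, 4, 2, 5, 2, 4, 2, 5, 4, 6, 2, 4, 2, 5, 4, 6, 6, 3, 4, 3, 1, 6, 4, 5, 0,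 0, 6, 4, 5, 0, 2, 4, 2, 5, 2, 4, 2, 5, 4, 6, 2, 4, 2, 5, 4, 6, 6, 3, 4, 3, 1, 6, 4, 5, 0, 0, 6, 4, 5, 0, 2, 4, 2, 5, 2, 4, 2, 5, 4, 6, 2, 4, 2, 5, 4, 6, 6, 3, 4, 3, 1, 6, 4, 5, 0, 0, 6, 4, 5, 0, 2, 4, 2, 5, 5, 4, 6, 3, 4, 3, 6, 3, 4, 3, 1, 6, 4, 5, 0, 0, 6, 4, 5, 0, 2, 4, 2, 5, 2, 4, 2, 5, 4, 6, 6, 3, 4, 3, 1, 6, 4, 5, 0, 0, 6, 4, 5, 0, 2, 4, 2, 5]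

/-- the word of the generator number 6. -/
def w6 : List ℕ := [5, 4, 6, 3, 4, 3, 6, 3, 4, 3, 1, 6, 4, 5, 0, 0, 6, 4, 5, 0, 2, 4, 2, 5, 2, 4, 2, 5, 4, 6, 2, 4, 2, 5, 4, 6, 6, 3, 4, 3, 1, 6, 4, 5, 0, 0, 6, 4, 5, 0, 2, 4, 2, 5, 2, 4, 2, 5, 4, 6, 2, 4, 2, 5, 4, 6, 6, 3, 4, 3, 1, 6, 4, 5, 0, 0, 6, 4, 5, 0, 2, 4, 2, 5, 2, 4, 2, 5, 4, 6, 2, 4, 2, 5, 4, 6, 6, 3, 4, 3, 1, 6, 4, 5, 0, 0, 6, 4, 5, 0, 2, 4, 2, 5, 2, 4, 2, 5, 4, 6, 2, 4, 2, 5, 4, 6, 6, 3, 4, 3, 1, 6, 4, 5, 0, 0, 6, 4, 5, 0, 2, 4, 2, 5, 2, 4, 2, 5, 4, 6, 2, 4, 2, 5, 4, 6, 6, 3, 4, 3, 1, 6, 4, 5, 0, 0, 6, 4, 5, 0, 2, 4, 2, 5, 2, 4, 2, 5, 4, 6, 2, 4, 2, 5, 4, 6, 6, 3, 4, 3, 1, 6, 4, 5, 0, 0, 6, 4, 5, 0, 2, 4, 2, 5, 2, 4, 2, 5, 4, 6, 2, 4,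 2, 5, 4, 6, 6, 3, 4, 3, 1, 6, 4, 5, 0, 0, 0, 0, 6, 4, 5, 0, 2, 4, 2, 5, 2, 4, 2, 5, 4, 6, 6, 3, 4, 3, 1, 6, 4, 5, 0, 0, 6, 4, 5, 0, 2, 4, 2, 5, 2, 4, 2, 5, 4, 6, 6, 3, 4, 3, 1, 6, 4, 5, 0, 0, 6, 4, 5, 0, 2, 4, 2, 5, 2, 4, 2, 5, 4, 6, 2, 4, 2, 5, 4, 6, 2, 4, 2, 5, 4, 6, 2, 4, 2, 5, 4, 6, 6, 3, 4, 3, 1, 6, 4, 5, 0, 0, 6, 4, 5, 0, 2, 4, 2, 5, 2, 4, 2, 5, 4, 6, 2, 4, 2, 5, 4, 6, 6, 3, 4, 3, 1, 6, 4, 5, 0, 0, 6, 4, 5, 0, 2, 4, 2, 5, 2, 4, 2, 5, 4, 6, 2, 4, 2, 5, 4, 6, 6, 3, 4, 3, 1, 6, 4, 5, 0, 0, 6, 4, 5, 0, 2, 4, 2, 5, 2, 4, 2, 5, 4, 6, 2, 4, 2, 5, 4, 6, 6, 3, 4, 3, 1, 6, 4, 5, 0, 0, 6, 4, 5, 0, 2, 4, 2, 5, 2, 4, 2, 5, 4, 6, 2, 4, 2, 5, 4, 6, 6, 3, 4, 3, 1, 6, 4, 5, 0, 0, 6, 4, 5, 0, 2, 4, 2,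 5, 2, 4, 2, 5, 4, 6, 2, 4, 2, 5, 4, 6, 6, 3, 4, 3, 1, 6, 4, 5, 0, 0, 6, 4, 5, 0, 2, 4, 2, 5, 2, 4, 2, 5, 4, 6, 2, 4, 2, 5, 4, 6, 6, 3, 4, 3, 1, 6, 4, 5, 0, 0, 6, 4, 5, 0, 2, 4, 2, 5, 5, 4, 6, 3, 4, 3, 5, 4, 6, 3, 4, 3, 6, 3, 4, 3, 1, 6, 4, 5, 0, 0, 6, 4, 5, 0, 2, 4, 2, 5, 5, 4, 6, 3, 4, 3, 6, 3, 4, 3, 1, 6, 4, 5, 0, 0, 6, 4, 5, 0, 2, 4, 2, 5]

/-- the word of the generator number 7. -/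
def w7 : List ℕ := [2, 4, 2, 5, 4, 6, 6, 3, 4, 3, 1, 6, 4, 5, 0, 0, 6, 4, 5, 0, 2, 4, 2, 5, 2, 4, 2, 5, 4, 6, 2, 4, 2, 5, 4, 6, 2, 4, 2, 5, 4, 6, 2, 4, 2, 5, 4, 6, 2, 4, 2, 5, 4, 6, 6, 3, 4, 3, 1, 6, 4, 5, 0, 0, 6, 4, 5, 0, 2, 4, 2, 5, 2, 4, 2, 5, 4, 6, 2, 4, 2, 5, 4, 6, 6, 3, 4, 3, 1, 6, 4, 5, 0, 0, 6, 4, 5, 0, 2, 4, 2, 5, 2, 4, 2, 5, 4, 6, 2, 4, 2, 5, 4, 6, 6, 3, 4, 3, 1, 6, 4, 5, 0, 0, 6, 4, 5, 0, 2, 4, 2, 5, 2, 4, 2, 5, 4, 6, 2, 4, 2, 5, 4, 6, 6, 3, 4, 3, 1, 6, 4, 5, 0, 0, 6, 4, 5, 0, 2, 4, 2, 5, 2, 4, 2, 5, 4, 6, 2, 4, 2, 5, 4, 6, 6, 3, 4, 3, 1, 6, 4, 5, 0, 0, 6, 4, 5, 0, 2, 4, 2, 5, 2, 4, 2, 5, 4, 6, 2, 4, 2, 5, 4, 6, 6, 3, 4, 3, 1, 6, 4, 5, 0, 0, 6, 4, 5, 0, 2, 4, 2, 5, 2, 4, 2, 5,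 4, 6, 2, 4, 2, 5, 4, 6, 6, 3, 4, 3, 1, 6, 4, 5, 0, 0, 6, 4, 5, 0, 2, 4, 2, 5, 5, 4, 6, 3, 4, 3, 5, 4, 6, 3, 4, 3, 5, 4, 6, 3, 4, 3, 6, 3, 4, 3, 1, 6, 4, 5, 0, 0, 6, 4, 5, 0, 2, 4, 2, 5, 5, 4, 6, 3, 4, 3, 5, 4, 6, 3, 4, 3, 6, 3, 4, 3, 1, 6, 4, 5, 0, 0, 6, 4, 5, 0, 2, 4, 2, 5, 2, 4, 2, 5, 4, 6, 2, 4, 2, 5, 4, 6, 2, 4, 2, 5, 4, 6, 6, 3, 4, 3, 1, 6, 4, 5, 0, 0, 6, 4, 5, 0, 2, 4, 2, 5, 2, 4, 2, 5, 4, 6, 2, 4, 2, 5, 4, 6, 6, 3, 4, 3, 1, 6, 4, 5, 0, 0, 6, 4, 5, 0, 2, 4, 2, 5, 2, 4, 2, 5, 4, 6, 2, 4, 2, 5, 4, 6, 6, 3, 4, 3, 1, 6, 4, 5, 0, 0, 6, 4, 5, 0, 2, 4, 2, 5, 2, 4, 2, 5, 4, 6, 2, 4, 2, 5, 4, 6, 6, 3, 4, 3, 1, 6, 4, 5, 0, 0, 6, 4, 5, 0, 2, 4, 2, 5, 2, 4, 2, 5, 4, 6, 2, 4, 2, 5, 4, 6, 6, 3, 4,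 3, 1, 6, 4, 5, 0, 0, 6, 4, 5, 0, 2, 4, 2, 5, 2, 4, 2, 5, 4, 6, 2, 4, 2, 5, 4, 6, 6, 3, 4, 3, 1, 6, 4, 5, 0, 0, 6, 4, 5, 0, 2, 4, 2, 5, 2, 4, 2, 5, 4, 6, 2, 4, 2, 5, 4, 6, 6, 3, 4, 3, 1, 6, 4, 5, 0, 0, 6, 4, 5, 0, 2, 4, 2, 5, 5, 4, 6, 3, 4, 3, 6, 3, 4, 3, 1, 6, 4, 5, 0, 0, 6, 4, 5, 0, 2, 4, 2, 5, 2, 4, 2, 5, 4, 6]

/-- the word of the generator number 8. -/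
def w8 : List ℕ := [2, 4, 2, 5, 4, 6, 2, 4, 2, 5, 4, 6, 2, 4, 2, 5, 4, 6, 2, 4, 2, 5, 4, 6, 6, 3, 4, 3, 1, 6, 4, 5, 0, 0, 6, 4, 5, 0, 2, 4, 2, 5, 2, 4, 2, 5, 4, 6, 2, 4, 2, 5, 4, 6, 6, 3, 4, 3, 1, 6, 4, 5, 0, 0, 6, 4, 5, 0, 2, 4, 2, 5, 2, 4, 2, 5, 4, 6, 2, 4, 2, 5, 4, 6, 6, 3, 4, 3, 1, 6, 4, 5, 0, 0, 6, 4, 5, 0, 2, 4, 2, 5, 2, 4, 2, 5, 4, 6, 2, 4, 2, 5, 4, 6, 6, 3, 4, 3, 1, 6, 4, 5, 0, 0, 6, 4, 5, 0, 2, 4, 2, 5, 2, 4, 2, 5, 4, 6, 2, 4, 2, 5, 4, 6, 6, 3, 4, 3, 1, 6, 4, 5, 0, 0, 6, 4, 5, 0, 2, 4, 2, 5, 2, 4, 2, 5, 4, 6, 2, 4, 2, 5, 4, 6, 6, 3, 4, 3, 1, 6, 4, 5, 0, 0, 6, 4, 5, 0, 2, 4, 2, 5, 2, 4, 2, 5, 4, 6, 2, 4, 2, 5, 4, 6, 6, 3, 4, 3, 1, 6, 4, 5, 0, 0, 6, 4, 5, 0, 2, 4, 2, 5, 5, 4, 6, 3,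 4, 3, 5, 4, 6, 3, 4, 3, 5, 4, 6, 3, 4, 3, 6, 3, 4, 3, 1, 6, 4, 5, 0, 0, 6, 4, 5, 0, 2, 4, 2, 5, 2, 4, 2, 5, 4, 6, 2, 4, 2, 5, 4, 6, 2, 4, 2, 5, 4, 6, 6, 3, 4, 3, 1, 6, 4, 5, 0, 0, 6, 4, 5, 0, 2, 4, 2, 5, 2, 4, 2, 5, 4, 6, 2, 4, 2, 5, 4, 6, 6, 3, 4, 3, 1, 6, 4, 5, 0, 0, 6, 4, 5, 0, 2, 4, 2, 5, 2, 4, 2, 5, 4, 6, 2, 4, 2, 5, 4, 6, 6, 3, 4, 3, 1, 6, 4, 5, 0, 0, 6, 4, 5, 0, 2, 4, 2, 5, 2, 4, 2, 5, 4, 6, 2, 4, 2, 5, 4, 6, 6, 3, 4, 3, 1, 6, 4, 5, 0, 0, 6, 4, 5, 0, 2, 4, 2, 5, 2, 4, 2, 5, 4, 6, 2, 4, 2, 5, 4, 6, 6, 3, 4, 3, 1, 6, 4, 5, 0, 0, 6, 4, 5, 0, 2, 4, 2, 5, 2, 4, 2, 5, 4, 6, 2, 4, 2, 5, 4, 6, 6, 3, 4, 3, 1, 6, 4, 5, 0, 0, 6, 4, 5, 0, 2, 4, 2, 5, 2, 4, 2, 5, 4, 6, 2, 4, 2, 5, 4, 6, 6, 3, 4,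 3, 1, 6, 4, 5, 0, 0, 6, 4, 5, 0, 2, 4, 2, 5, 5, 4, 6, 3, 4, 3, 6, 3, 4, 3, 1, 6, 4, 5, 0, 0, 6, 4, 5, 0, 2, 4, 2, 5, 2, 4, 2, 5, 4, 6]

/-- the word of the generator number 9. -/
def w9 : List ℕ := [5, 4, 6, 3, 4, 3, 5, 4, 6, 3, 4, 3, 6, 3, 4, 3, 1, 6, 4, 5, 0, 0, 6, 4, 5, 0, 2, 4, 2, 5, 5, 4, 6, 3, 4, 3, 6, 3, 4, 3, 1, 6, 4, 5, 0, 0, 6, 4, 5, 0, 2, 4, 2, 5, 2, 4, 2, 5, 4, 6, 2, 4, 2, 5, 4, 6, 2, 4, 2, 5, 4, 6, 6, 3, 4, 3, 1, 6, 4, 5, 0, 0, 6, 4, 5, 0, 2, 4, 2, 5, 2, 4, 2, 5, 4, 6, 2, 4, 2, 5, 4, 6, 6, 3, 4, 3, 1, 6, 4, 5, 0, 0, 6, 4, 5, 0, 2, 4, 2, 5, 2, 4, 2, 5, 4, 6, 2, 4, 2, 5, 4, 6, 6, 3, 4, 3, 1, 6, 4, 5, 0, 0, 6, 4, 5, 0, 2, 4, 2, 5, 2, 4, 2, 5, 4, 6, 2, 4, 2, 5, 4, 6, 6, 3, 4, 3, 1,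 6, 4, 5, 0, 0, 6, 4, 5, 0, 2, 4, 2, 5, 2, 4, 2, 5, 4, 6, 2, 4, 2, 5, 4, 6, 6, 3, 4, 3, 1, 6, 4, 5, 0, 0, 6, 4, 5, 0, 2, 4, 2, 5, 2, 4, 2, 5, 4, 6, 2, 4, 2, 5, 4, 6, 6, 3, 4, 3, 1, 6, 4, 5, 0, 0, 6, 4, 5, 0, 2, 4, 2, 5, 2, 4, 2, 5, 4, 6, 2, 4, 2, 5, 4, 6, 6, 3, 4, 3, 1, 6, 4, 5, 0, 0, 6, 4, 5, 0, 2, 4, 2, 5, 5, 4, 6, 3, 4, 3, 6, 3, 4, 3, 1, 6, 4, 5, 0, 0, 6, 4, 5, 0, 2, 4, 2, 5, 2, 4, 2, 5, 4, 6, 6, 3, 4, 3, 1, 6, 4, 5, 0, 0, 6, 4, 5, 0, 2, 4, 2, 5, 2, 4, 2, 5, 4, 6, 6, 3, 4, 3, 1, 6, 4, 5, 0, 0, 6, 4, 5, 0, 2, 4, 2, 5, 2, 4, 2, 5, 4, 6, 2, 4, 2, 5, 4, 6, 2, 4, 2, 5, 4, 6, 2, 4, 2, 5, 4, 6, 6, 3, 4, 3, 1, 6, 4, 5, 0, 0, 6, 4, 5, 0, 2, 4, 2, 5, 2, 4, 2, 5, 4, 6, 2, 4, 2, 5, 4, 6, 6, 3, 4, 3,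 1, 6, 4, 5, 0, 0, 6, 4, 5, 0, 2, 4, 2, 5, 2, 4, 2, 5, 4, 6, 2, 4, 2, 5, 4, 6, 6, 3, 4, 3, 1, 6, 4, 5, 0, 0, 6, 4, 5, 0, 2, 4, 2, 5, 2, 4, 2, 5, 4, 6, 2, 4, 2, 5, 4, 6, 6, 3, 4, 3, 1, 6, 4, 5, 0, 0, 6, 4, 5, 0, 2, 4, 2, 5, 2, 4, 2, 5, 4, 6, 2, 4, 2, 5, 4, 6, 6, 3, 4, 3, 1, 6, 4, 5, 0, 0, 6, 4, 5, 0, 2, 4, 2, 5, 2, 4, 2, 5, 4, 6, 2, 4, 2, 5, 4, 6, 6, 3, 4, 3, 1, 6, 4, 5, 0, 0, 6, 4, 5, 0, 2, 4, 2, 5, 2, 4, 2, 5, 4, 6, 2, 4, 2, 5, 4, 6, 6, 3, 4, 3, 1, 6, 4, 5, 0, 0, 6, 4, 5, 0, 2, 4, 2, 5, 5, 4, 6, 3, 4, 3, 5, 4, 6, 3, 4, 3, 6, 3, 4, 3, 1, 6, 4, 5, 0, 0, 6, 4, 5, 0, 2, 4, 2, 5, 2, 4, 2, 5, 4, 6]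

/-- the ten words. -/
def ws (i : ℕ) : List ℕ := [w0, w1, w2, w3, w4, w5, w6, w7, w8, w9].getD i []

/-- the check of a word: its letters are below 9 and it fixes the five base points. -/
noncomputable def fixB (w : List ℕ) : Bool :=
  w.all (fun c => Nat.blt c 9) &&
    [0, 1, 809, 664, 309].all (fun v => Nat.beq (actLF HNM.tgF w.reverse v) v)

theorem fixB_spec {w : List ℕ} (h : fixB w = true) : evw4 xG yG zG tG w = 1 := by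
  unfold fixB at h
  rw [Bool.and_eq_true, List.all_eq_true, List.all_eq_true] at h
  obtain ⟨h1, h2⟩ := h
  refine HNBase.word_eq_one w ?_ ?_
  · intro c hc
    have := h1 c (List.mem_reverse.mp hc)
    rwa [Nat.blt_eq] at this
  · intro v hv
    have := h2 v hv
    rw [actLF_eq] at this
    exact Nat.eq_of_beq_eq_true this

/-- the word of `(X i) ^ n`. -/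
def powW (n i : ℕ) : List ℕ := (List.replicate n (ws i)).flatten

/-- the word of `(X i * X k) ^ n`. -/
def mulW (n i k : ℕ) : List ℕ := (List.replicate n (ws i ++ ws k)).flatten

set_option maxRecDepth 100000 in
theorem chkA : (List.range 10).all (fun i => fixB (powW (bif Nat.beq i 0 then 3 else 2) i)) = true := by
  decide +kernel

set_option maxRecDepth 100000 in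
theorem chkB_0 : [0, 1, 2].all (fun i => fixB (mulW 3 i (i + 1))) = true := by
  decide +kernel

set_option maxRecDepth 100000 in
theorem chkB_1 : [3, 4, 5].all (fun i => fixB (mulW 3 i (i + 1))) = true := by
  decide +kernel

set_option maxRecDepth 100000 in
theorem chkB_2 : [6, 7, 8].all (fun i => fixB (mulW 3 i (i + 1))) = true := by
  decide +kernel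

/-- the check of the relations `(X i * X k) ^ 2 = 1`, `i + 1 < k < 10`, for one `i`. -/
noncomputable def chkC (i : ℕ) : Bool := (List.range 10).all (fun k => !(Nat.blt (i + 1) k) || fixB (mulW 2 i k))

set_option maxRecDepth 100000 in
theorem chkC_0 : chkC 0 = true := by decide +kernel

set_option maxRecDepth 100000 in
theorem chkC_1 : chkC 1 = true := by decide +kernel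

set_option maxRecDepth 100000 in
theorem chkC_2 : chkC 2 = true := by decide +kernel

set_option maxRecDepth 100000 in
theorem chkC_3 : chkC 3 = true := by decide +kernel

set_option maxRecDepth 100000 in
theorem chkC_4 : chkC 4 = true := by decide +kernel

set_option maxRecDepth 100000 in
theorem chkC_5 : chkC 5 = true := by decide +kernel

set_option maxRecDepth 100000 in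
theorem chkC_6 : chkC 6 = true := by decide +kernel

set_option maxRecDepth 100000 in
theorem chkC_7 : chkC 7 = true := by decide +kernel

set_option maxRecDepth 100000 in
theorem move0 : [0, 1, 809, 664, 309].any (fun v => !(Nat.beq (actLF HNM.tgF w0.reverse v) v)) = true := by
  decide +kernel

set_option maxRecDepth 100000 in
theorem lt0 : w0.all (fun c => Nat.blt c 9) = true := by decide +kernel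

/-- the ten elements. -/
noncomputable def X (i : ℕ) : G := evw4 xG yG zG tG (ws i)

theorem evw4_powW (n i : ℕ) : evw4 xG yG zG tG (powW n i) = X i ^ n :=
  HNBase.evw4_replicate (ws i) n

theorem evw4_mulW (n i k : ℕ) : evw4 xG yG zG tG (mulW n i k) = (X i * X k) ^ n := by
  unfold mulW
  rw [HNBase.evw4_replicate, HNSimple.evw4_append]
  rfl

theorem chkC_all : ∀ i, i < 8 → chkC i = true := by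
  intro i hi
  interval_cases i
  exacts [chkC_0, chkC_1, chkC_2, chkC_3, chkC_4, chkC_5, chkC_6, chkC_7]

/-- **The ten elements satisfy Carmichael's relations.** -/
theorem rel : Rel X 10 := by
  refine ⟨?_, ?_, ?_, ?_⟩
  · have h := List.all_eq_true.mp chkA 0 (List.mem_range.mpr (by norm_num))
    have h2 := fixB_spec h
    rw [evw4_powW] at h2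
    exact h2
  · intro i h1 hi
    have h := List.all_eq_true.mp chkA i (List.mem_range.mpr hi)
    have h2 := fixB_spec h
    rw [evw4_powW] at h2
    have e : Nat.beq i 0 = false := by
      cases i with
      | zero => omega
      | succ j => rfl
    rw [e] at h2
    exact h2
  · intro i hi
    have hmem : i ∈ [0, 1, 2] ∨ i ∈ [3, 4, 5] ∨ i ∈ [6, 7, 8] := by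
      have : i < 9 := by omega
      interval_cases i <;> simp
    have h : fixB (mulW 3 i (i + 1)) = true := by
      rcases hmem with h | h | h
      · exact List.all_eq_true.mp chkB_0 i h
      · exact List.all_eq_true.mp chkB_1 i h
      · exact List.all_eq_true.mp chkB_2 i h
    have h2 := fixB_spec h
    rw [evw4_mulW] at h2
    exact h2
  · intro i k hik hk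
    have hi : i < 8 := by omega
    have h := List.all_eq_true.mp (chkC_all i hi) k (List.mem_range.mpr hk)
    rw [Bool.or_eq_true] at h
    rcases h with h | h
    · exfalso
      have : Nat.blt (i + 1) k = true := by rw [Nat.blt_eq]; exact hik
      rw [this] at h
      exact Bool.false_ne_true h
    · have h2 := fixB_spec h
      rw [evw4_mulW] at h2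
      exact h2

theorem X0_ne : X 0 ≠ 1 := by
  obtain ⟨v, hv, hm⟩ := List.any_eq_true.mp move0
  have hlt : ∀ c ∈ w0.reverse, c < 9 := by
    intro c hc
    have := List.all_eq_true.mp lt0 c (List.mem_reverse.mp hc)
    rwa [Nat.blt_eq] at this
  have hv' : v < 1539000 := by
    simp only [List.mem_cons, List.mem_nil_iff, or_false] at hv
    rcases hv with rfl | rfl | rfl | rfl | rfl <;> norm_num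
  refine HNBase.word_ne_one w0 hlt v hv' ?_
  intro h
  rw [← actLF_eq, ] at h
  rw [h, Nat.beq_refl] at hm
  exact Bool.false_ne_true hm

end Cfsg.Agent.Helper5.HNAlt
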