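import Mathlib

/-!
# A simple group with a subgroup of index `n` as a transitive permutation group of degree `n`
-/

set_option autoImplicit false

namespace Cfsg.Agent.Helper5.SimplePermRep

/-- A simple group `G` with a subgroup `A` of index `n ≥ 2` is isomorphic to a transitive group of
permutations of `Fin n` in which the stabiliser of `0` is isomorphic to `A`. -/
theorem exists_perm_rep {G : Type*} [Group G] [IsSimpleGroup G] (A : Subgroup G) (n : ℕ) [NeZero n]
    (hn : 2 ≤ n) (hidx : A.index = n) :
    ∃ H : Subgroup (Equiv.Perm (Fin n)), Nonempty (G ≃* H) ∧ MulAction.IsPretransitive H (Fin n) ∧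
      Nonempty (MulAction.stabilizer H (0 : Fin n) ≃* A) := by
  classical
  have hcard : Nat.card (G ⧸ A) = n := by rw [← hidx]; rfl
  have : Finite (G ⧸ A) := Nat.finite_of_card_ne_zero (by rw [hcard]; exact NeZero.ne n)
  let q0 : G ⧸ A := ((1 : G) : G ⧸ A)
  let e0 : (G ⧸ A) ≃ Fin n := Finite.equivFinOfCardEq hcard
  let e : (G ⧸ A) ≃ Fin n := e0.trans (Equiv.swap (e0 q0) 0)
  have he0 : e q0 = 0 := by simp [e]
  let F : G →* Equiv.Perm (Fin n) :=
    (e.permCongrHom.toMonoidHom).comp (MulAction.toPermHom G (G ⧸ A))
  have hF : ∀ (g : G) (q : G ⧸ A), F g (e q) = e (g • q) := by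
    intro g q
    simp [F, Equiv.permCongrHom]
  -- the stabiliser of `q0`
  have hstab : ∀ g : G, g • q0 = q0 ↔ g ∈ A := by
    intro g
    rw [← MulAction.mem_stabilizer_iff, MulAction.stabilizer_quotient]
  -- injectivity
  have hker : F.ker = ⊥ := by
    rcases F.normal_ker.eq_bot_or_eq_top with h | h
    · exact h
    · exfalso
      have hA : A = ⊤ := by
        rw [eq_top_iff]
        intro g _
        rw [← hstab g]
        have hg : g ∈ F.ker := by rw [h]; trivial
        have h1 : F g (e q0) = e (g • q0) := hF g q0
        rw [MonoidHom.mem_ker.mp hg] at h1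
        exact (e.injective h1).symm
      rw [hA, Subgroup.index_top] at hidx
      omega
  have hinj : Function.Injective F := (MonoidHom.ker_eq_bot_iff F).mp hker
  refine ⟨F.range, ⟨MonoidHom.ofInjective hinj⟩, ?_, ?_⟩
  · constructor
    intro a b
    obtain ⟨g, hg⟩ := MulAction.exists_smul_eq G (e.symm a) (e.symm b)
    refine ⟨⟨F g, g, rfl⟩, ?_⟩
    show F g a = b
    have := hF g (e.symm a)
    rw [Equiv.apply_symm_apply, hg, Equiv.apply_symm_apply] at this
    exact this
  · -- the stabiliser
    have hmem : ∀ a : A, (⟨F a.1, a.1, rfl⟩ : F.range) ∈ MulAction.stabilizer F.range (0 : Fin n) := by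
      intro a
      rw [MulAction.mem_stabilizer_iff]
      show F a.1 0 = 0
      have := hF a.1 q0
      rw [he0, (hstab a.1).mpr a.2, he0] at this
      exact this
    let ψ : A →* MulAction.stabilizer F.range (0 : Fin n) :=
      { toFun := fun a => ⟨⟨F a.1, a.1, rfl⟩, hmem a⟩
        map_one' := by
          apply Subtype.ext; apply Subtype.ext
          show F (1 : G) = 1
          exact map_one F
        map_mul' := by
          intro a b
          apply Subtype.ext; apply Subtype.ext
          show F (a.1 * b.1) = F a.1 * F b.1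
          exact map_mul F a.1 b.1 }
    have hψ : Function.Bijective ψ := by
      constructor
      · intro a b hab
        have h1 : F a.1 = F b.1 := congrArg (fun s => (s.1.1 : Equiv.Perm (Fin n))) hab
        exact Subtype.ext (hinj h1)
      · rintro ⟨⟨_, g, rfl⟩, hs⟩
        rw [MulAction.mem_stabilizer_iff] at hs
        have hs' : F g 0 = 0 := hs
        have h1 := hF g q0
        rw [he0, hs', ← he0] at h1
        have hg : g ∈ A := (hstab g).mp (e.injective h1).symm
        exact ⟨⟨g, hg⟩, rfl⟩
    exact ⟨(MulEquiv.ofBijective ψ hψ).symm⟩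

end Cfsg.Agent.Helper5.SimplePermRep
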