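import Mathlib
import Cfsg.Prelude.Def_Sporadic
import Cfsg.Agent.Helper5.HNAlt
import Cfsg.Agent.Helper5.SimplePermRep

/-!
# The presented Harada–Norton group as a permutation group of degree 1140000

The ten elements of `HNAlt` generate a subgroup isomorphic to the alternating group of degree 12;
its index is 1140000, and the action on its cosets gives the permutation group.
-/

set_option autoImplicit false

namespace Cfsg.Agent.Helper5.HNAlt

open Cfsg Cfsg.Spor Cfsg.Agent.Helper5.HNOrd Cfsg.Agent.Helper5.HNGen
  Cfsg.Agent.Helper5.Carmichael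

theorem lift_rels10 : ∀ r ∈ rels 10, FreeGroup.lift (fun i : Fin 10 => X i.val) r = 1 := by
  have hR : Rel X 10 := rel
  intro r hr
  rcases hr with ((⟨i, hi, rfl⟩ | ⟨i, hi, rfl⟩) | ⟨i, j, hij, rfl⟩) | ⟨i, j, hij, rfl⟩
  · rw [map_pow, FreeGroup.lift_apply_of, hi]
    exact hR.h3
  · rw [map_pow, FreeGroup.lift_apply_of]
    exact hR.h2 i.val hi i.2
  · rw [map_pow, map_mul, FreeGroup.lift_apply_of, FreeGroup.lift_apply_of, hij]
    exact hR.hb i.val (by have := j.2; omega)
  · rw [map_pow, map_mul, FreeGroup.lift_apply_of, FreeGroup.lift_apply_of]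
    exact hR.hc i.val j.val hij j.2

/-- the homomorphism from Carmichael's presentation. -/
noncomputable def phi : PresentedGroup (rels 10) →* G := PresentedGroup.toGroup lift_rels10

theorem phi_of (i : Fin 10) : phi (PresentedGroup.of i) = X i.val :=
  PresentedGroup.toGroup.of lift_rels10

theorem simple_alt : IsSimpleGroup (alternatingGroup (Fin 12)) :=
  alternatingGroup.isSimpleGroup (by simp)

theorem simple_pres : IsSimpleGroup (PresentedGroup (rels 10)) := by
  obtain ⟨e⟩ := Carmichael.main 10 (by norm_num)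
  have := simple_alt
  exact e.isSimpleGroup_congr.mpr this

theorem phi_inj : Function.Injective phi := by
  have := simple_pres
  rcases phi.normal_ker.eq_bot_or_eq_top with h | h
  · exact (MonoidHom.ker_eq_bot_iff phi).mp h
  · exfalso
    have h0 : PresentedGroup.of (⟨0, by norm_num⟩ : Fin 10) ∈ phi.ker := by rw [h]; trivial
    rw [MonoidHom.mem_ker, phi_of] at h0
    exact X0_ne h0

theorem card_alt : Nat.card (alternatingGroup (Fin 12)) = 239500800 := by
  rw [nat_card_alternatingGroup, Nat.card_eq_fintype_card, Fintype.card_fin]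
  decide

/-- **An alternating group of degree 12 of index 1140000.** -/
theorem exists_A12 : ∃ A : Subgroup G, A.index = 1140000 ∧
    Nonempty (A ≃* alternatingGroup (Fin 12)) := by
  obtain ⟨e⟩ := Carmichael.main 10 (by norm_num)
  let e1 : PresentedGroup (rels 10) ≃* phi.range := MonoidHom.ofInjective phi_inj
  let e2 : phi.range ≃* alternatingGroup (Fin 12) := e1.symm.trans e
  refine ⟨phi.range, ?_, ⟨e2⟩⟩
  have hc : Nat.card phi.range = 239500800 := by
    rw [Nat.card_congr e2.toEquiv, card_alt]
  have h := Subgroup.card_mul_index phi.range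
  rw [hc, HNSimple.main.2] at h
  omega

/-- **The Harada–Norton group as a transitive permutation group of degree 1140000 with point
stabiliser the alternating group of degree 12.** -/
theorem perm_rep : ∃ H : Subgroup (Equiv.Perm (Fin 1140000)), Cfsg.IsHN H ∧
    MulAction.IsPretransitive H (Fin 1140000) ∧
    Nonempty (MulAction.stabilizer H (0 : Fin 1140000) ≃* alternatingGroup (Fin 12)) := by
  obtain ⟨A, hidx, ⟨eA⟩⟩ := exists_A12
  have hs : IsSimpleGroup G := HNSimple.main.1
  obtain ⟨H, ⟨eH⟩, htr, ⟨est⟩⟩ :=
    SimplePermRep.exists_perm_rep A 1140000 (by norm_num) hidx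
  refine ⟨H, ⟨eH.symm.isSimpleGroup_congr.mpr hs, ?_⟩, htr, ⟨est.trans eA⟩⟩
  rw [← Nat.card_congr eH.toEquiv]
  exact HNSimple.main.2

end Cfsg.Agent.Helper5.HNAlt
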