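import Cfsg.Agent.Helper5.HNCTCDatD
import Cfsg.Agent.Helper5.TCIB

/-! kernel checks of edges, aliases, rows: HNCTC -/

set_option autoImplicit false
set_option Elab.async false

namespace Cfsg.Agent.Helper5.HNCTC
open Cfsg.Agent.Helper5.TC Cfsg.Agent.Helper5.TCI
noncomputable section

set_option maxRecDepth 1000000 in
theorem cnt_0 : cntFrom RS 20000 0 0 = 352 := by decide +kernel

set_option maxRecDepth 1000000 in
theorem cnt_4 : cntFrom RS 20000 80000 0 = 0 := by decide +kernel

set_option maxRecDepth 1000000 in
theorem edges_4_20 : edgesRangeI iota E 4 5254 105139 = true := by decide +kernel

set_option maxRecDepth 1000000 in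
theorem edges_0_32 : edgesRangeI iota E 0 3448 100488 = true := by decide +kernel

set_option maxRecDepth 1000000 in
theorem edges_2_10 : edgesRangeI iota E 2 3962 38110 = true := by decide +kernel

set_option maxRecDepth 1000000 in
theorem edges_4_19 : edgesRangeI iota E 4 5161 99978 = true := by decide +kernel

set_option maxRecDepth 1000000 in
theorem edges_0_0 : edgesRangeI iota E 0 1694 0 = true := by decide +kernel

set_option maxRecDepth 1000000 in
theorem edges_0_38 : edgesRangeI iota E 0 3496 120727 = true := by decide +kernel

set_option maxRecDepth 1000000 in
theorem edges_2_3 : edgesRangeI iota E 2 3933 10730 = true := by decide +kernel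

set_option maxRecDepth 1000000 in
theorem edges_3_18 : edgesRangeI iota E 3 5099 85257 = true := by decide +kernel

set_option maxRecDepth 1000000 in
theorem edges_2_33 : edgesRangeI iota E 2 3982 130375 = true := by decide +kernel

set_option maxRecDepth 1000000 in
theorem edges_0_26 : edgesRangeI iota E 0 3403 79698 = true := by decide +kernel

set_option maxRecDepth 1000000 in
theorem edges_0_6 : edgesRangeI iota E 0 3137 14466 = true := by decide +kernel

set_option maxRecDepth 1000000 in
theorem edges_0_42 : edgesRangeI iota E 0 3558 134946 = true := by decide +kernel

set_option maxRecDepth 1000000 in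
theorem aliases_0 : aliasRange E 2443 0 = true := by decide +kernel

set_option maxRecDepth 1000000 in
theorem aliases_35 : aliasRange E 2726 90752 = true := by decide +kernel

set_option maxRecDepth 1000000 in
theorem edges_0_13 : edgesRangeI iota E 0 3083 36602 = true := by decide +kernel

set_option maxRecDepth 1000000 in
theorem aliases_7 : aliasRange E 2747 18667 = true := by decide +kernel

set_option maxRecDepth 1000000 in
theorem aliases_18 : aliasRange E 2692 47152 = true := by decide +kernel

set_option maxRecDepth 1000000 in
theorem edges_0_22 : edgesRangeI iota E 0 3472 65828 = true := by decide +kernel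

set_option maxRecDepth 1000000 in
theorem edges_2_14 : edgesRangeI iota E 2 4195 54354 = true := by decide +kernel

set_option maxRecDepth 1000000 in
theorem edges_3_4 : edgesRangeI iota E 3 4793 17187 = true := by decide +kernel

set_option maxRecDepth 1000000 in
theorem aliases_9 : aliasRange E 2569 24041 = true := by decide +kernel

set_option maxRecDepth 1000000 in
theorem aliases_25 : aliasRange E 2751 65910 = true := by decide +kernel

set_option maxRecDepth 1000000 in
theorem aliases_40 : aliasRange E 2434 103963 = true := by decide +kernel

set_option maxRecDepth 1000000 in
theorem edges_0_40 : edgesRangeI iota E 0 3594 127690 = true := by decide +kernel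

set_option maxRecDepth 1000000 in
theorem edges_1_7 : edgesRangeI iota E 1 5119 32557 = true := by decide +kernel

set_option maxRecDepth 1000000 in
theorem aliases_8 : aliasRange E 2627 21414 = true := by decide +kernel

set_option maxRecDepth 1000000 in
theorem aliases_27 : aliasRange E 2487 70995 = true := by decide +kernel

set_option maxRecDepth 1000000 in
theorem aliases_52 : aliasRange E 2492 134368 = true := by decide +kernel

set_option maxRecDepth 1000000 in
theorem edges_0_21 : edgesRangeI iota E 0 3163 62665 = true := by decide +kernel

set_option maxRecDepth 1000000 in
theorem edges_0_29 : edgesRangeI iota E 0 3497 89819 = true := by decide +kernel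

set_option maxRecDepth 1000000 in
theorem edges_0_39 : edgesRangeI iota E 0 3467 124223 = true := by decide +kernel

set_option maxRecDepth 1000000 in
theorem edges_1_5 : edgesRangeI iota E 1 5012 22517 = true := by decide +kernel

set_option maxRecDepth 1000000 in
theorem edges_1_12 : edgesRangeI iota E 1 5296 58467 = true := by decide +kernel

set_option maxRecDepth 1000000 in
theorem edges_1_18 : edgesRangeI iota E 1 5304 90064 = true := by decide +kernel

set_option maxRecDepth 1000000 in
theorem edges_1_22 : edgesRangeI iota E 1 5463 111271 = true := by decide +kernel

set_option maxRecDepth 1000000 in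
theorem edges_1_26 : edgesRangeI iota E 1 5366 132744 = true := by decide +kernel

set_option maxRecDepth 1000000 in
theorem edges_2_6 : edgesRangeI iota E 2 3829 22499 = true := by decide +kernel

set_option maxRecDepth 1000000 in
theorem edges_2_16 : edgesRangeI iota E 2 3985 62640 = true := by decide +kernel

set_option maxRecDepth 1000000 in
theorem edges_2_26 : edgesRangeI iota E 2 4099 102389 = true := by decide +kernel

set_option maxRecDepth 1000000 in
theorem edges_3_3 : edgesRangeI iota E 3 4767 12420 = true := by decide +kernel

set_option maxRecDepth 1000000 in
theorem edges_3_10 : edgesRangeI iota E 3 4518 46094 = true := by decide +kernel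

set_option maxRecDepth 1000000 in
theorem edges_3_16 : edgesRangeI iota E 3 4927 75374 = true := by decide +kernel

set_option maxRecDepth 1000000 in
theorem edges_3_22 : edgesRangeI iota E 3 4778 105065 = true := by decide +kernel

set_option maxRecDepth 1000000 in
theorem edges_3_26 : edgesRangeI iota E 3 4854 124865 = true := by decide +kernel

set_option maxRecDepth 1000000 in
theorem edges_4_4 : edgesRangeI iota E 4 5482 20006 = true := by decide +kernel

set_option maxRecDepth 1000000 in
theorem edges_4_8 : edgesRangeI iota E 4 5104 41282 = true := by decide +kernel

set_option maxRecDepth 1000000 in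
theorem edges_4_15 : edgesRangeI iota E 4 5384 78268 = true := by decide +kernel

set_option maxRecDepth 1000000 in
theorem edges_4_24 : edgesRangeI iota E 4 5698 126235 = true := by decide +kernel

set_option maxRecDepth 1000000 in
theorem aliases_4 : aliasRange E 2604 10190 = true := by decide +kernel

set_option maxRecDepth 1000000 in
theorem aliases_22 : aliasRange E 2993 57222 = true := by decide +kernel

set_option maxRecDepth 1000000 in
theorem aliases_29 : aliasRange E 2460 75979 = true := by decide +kernel

set_option maxRecDepth 1000000 in
theorem aliases_42 : aliasRange E 2499 108768 = true := by decide +kernel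

set_option maxRecDepth 1000000 in
theorem rows_0 : rowsRange E RS 1500 0 = true := by decide +kernel

set_option maxRecDepth 1000000 in
theorem rows_1 : rowsRange E RS 1500 1500 = true := by decide +kernel

set_option maxRecDepth 1000000 in
theorem rows_5 : rowsRange E RS 1500 7500 = true := by decide +kernel

set_option maxRecDepth 1000000 in
theorem rows_9 : rowsRange E RS 1500 13500 = true := by decide +kernel

set_option maxRecDepth 1000000 in
theorem rows_13 : rowsRange E RS 1500 19500 = true := by decide +kernel

set_option maxRecDepth 1000000 in
theorem rows_17 : rowsRange E RS 1500 25500 = true := by decide +kernel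

set_option maxRecDepth 1000000 in
theorem rows_21 : rowsRange E RS 1500 31500 = true := by decide +kernel

set_option maxRecDepth 1000000 in
theorem rows_25 : rowsRange E RS 1500 37500 = true := by decide +kernel

set_option maxRecDepth 1000000 in
theorem rows_29 : rowsRange E RS 1500 43500 = true := by decide +kernel

set_option maxRecDepth 1000000 in
theorem rows_33 : rowsRange E RS 1500 49500 = true := by decide +kernel

set_option maxRecDepth 1000000 in
theorem rows_37 : rowsRange E RS 1500 55500 = true := by decide +kernel

set_option maxRecDepth 1000000 in
theorem rows_41 : rowsRange E RS 1500 61500 = true := by decide +kernel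

set_option maxRecDepth 1000000 in
theorem rows_45 : rowsRange E RS 1500 67500 = true := by decide +kernel

set_option maxRecDepth 1000000 in
theorem rows_49 : rowsRange E RS 1500 73500 = true := by decide +kernel

set_option maxRecDepth 1000000 in
theorem rows_53 : rowsRange E RS 1500 79500 = true := by decide +kernel

set_option maxRecDepth 1000000 in
theorem rows_57 : rowsRange E RS 1500 85500 = true := by decide +kernel

set_option maxRecDepth 1000000 in
theorem rows_61 : rowsRange E RS 1500 91500 = true := by decide +kernel

set_option maxRecDepth 1000000 in
theorem rows_65 : rowsRange E RS 1500 97500 = true := by decide +kernel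

set_option maxRecDepth 1000000 in
theorem rows_69 : rowsRange E RS 1500 103500 = true := by decide +kernel

set_option maxRecDepth 1000000 in
theorem rows_73 : rowsRange E RS 1500 109500 = true := by decide +kernel

set_option maxRecDepth 1000000 in
theorem rows_77 : rowsRange E RS 1500 115500 = true := by decide +kernel

set_option maxRecDepth 1000000 in
theorem rows_81 : rowsRange E RS 1500 121500 = true := by decide +kernel

set_option maxRecDepth 1000000 in
theorem rows_85 : rowsRange E RS 1500 127500 = true := by decide +kernel

set_option maxRecDepth 1000000 in
theorem rows_89 : rowsRange E RS 1500 133500 = true := by decide +kernel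

set_option maxRecDepth 1000000 in
theorem edges_3_28 : edgesRangeI iota E 3 3771 134973 = true := by decide +kernel

end

end Cfsg.Agent.Helper5.HNCTC
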