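import Cfsg.Agent.Helper5.TC2A

/-! generated coset table (generator 0): HNCTC -/

set_option autoImplicit false
set_option Elab.async false

namespace Cfsg.Agent.Helper5.HNCTC
open Cfsg.Agent.Helper5.TC
noncomputable section

def ct0_0 : ℕ := 0x15300014500014d00013200014700013b00015100014000012000012400011300010a00015f00015200015900011b00011e0000fb00015d0000f90000f80001230001490000ef00015b00013600015e0000f20000ea0000ec0001410001580000e60000e800012b00012f00015a0000fd0000da0000e00000d70001460000dd0001000000d000015c0000ce00011400013c0000cb00012d0000d600013d0000fe0001290000c800011700010900010300015600014a0000df0000f10001570000c000014f0000bd0000bb0001500000ba0001150000cc0001270000b50001190001300001550000b10000c30000ae00010f0000ac0001070000aa0000ca0001540001260000a700010d0001060000a20000e300012500009e00009d0001340000e700012a00013a00009800014e00009600014c00014b0000940000930000f50000920000a600014400012100009000014800008e0000d50001420000b600014300008b00013e0000ff00013f0000e50000880001040000870000b000013800012200008400013500008300009b00013900008000008100013700012c0000ed0000d30000d40000a100008900013300007800013100007700011800012e00010b0000740001280000730000c60000720000bf0001110000c200007000011f0000c40000a400011d00006d00011c00011a00008c0000a500009a0000eb00011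600006800006700009f0001120000e100006400011000006300010e00006200010c0000a90000610001080000f30000b80000be00005c0001050000d200005a0000b20001020001010000570000db0000b70000760000fc0000510000fa0000500000f70000f60000f400004e0000f000004c0000ee00004b0000b90000e90000480000d10000e40000e20000460000470000de0000dc00006e0000d80000d900004200007500005600007c00007a00007b00003e0000cf0000cd00009900007e0000c90000c70000c50000390000c10000380000820000bc00003600003b00003c0000550000b40000b30000330000340000af0000ad0000ab0000a800003000003100005d00005e0000a30000410000a000002b00002c00009c00007d00006900002800004900002700009700009500002500009100002400008f00008d00002200005300008a00008500008600002000002100003700007f00005b00004000001e00007900001d00006a00006b00001c00007100006f00004300006c00003500006500006600001800005f00006000001700002d00002e00005800005900001500002900005400005200001300004f00004d00002300004a00004400004500000f00003f00003d00003a00000d00000e00001900003200002f00001600002a00001400002600000800000900001000001f00001a00001b00000500000600000a00001100001200000300000b00000c000002000007000004000001000000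
def ctSel0 (c : ℕ) : ℕ := ct0_0
def ct0F (v : ℕ) : ℕ := Nat.rec (motive := fun _ => ℕ) 0 (fun c _ => Nat.mod (Nat.shiftRight (ctSel0 c) (Nat.mul 24 (Nat.mod v 682))) 16777216) (Nat.add (Nat.div v 682) 1)

end

end Cfsg.Agent.Helper5.HNCTC
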