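import Cfsg.Agent.Helper5.TC2A

/-! generated certificate data (ranks of generator 0): HNKTC -/

set_option autoImplicit false
set_option Elab.async false

namespace Cfsg.Agent.Helper5.HNKTC
open Cfsg.Agent.Helper5.TC
noncomputable section

def rk0_0 : ℕ := 0x50ffffff000000ffffffffffffffffffffffffffffff0000d8ffffffffffffffffffffffffffffffffffff0000db000000ffffffffffff000000ffffffffffffffffffffffffffffffffffff00000000001effffff00003600000000001affffffffffff0000180000160000dc000028000000000014ffffff00000000002cffffffffffffffffffffffffffffffffffff000000ffffffffffff0000ba0000de0000000000a4000052000000000000000000000000000000000000ffffff000002000000000000000000ffffff000000000000000000000000000000000000000000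
def rkSel0 (c : ℕ) : ℕ := rk0_0
def rk0F (v : ℕ) : ℕ := Nat.rec (motive := fun _ => ℕ) 0 (fun c _ => Nat.mod (Nat.shiftRight (rkSel0 c) (Nat.mul 24 (Nat.mod v 682))) 16777216) (Nat.add (Nat.div v 682) 1)

end

end Cfsg.Agent.Helper5.HNKTC
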