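import Cfsg.Agent.Helper5.TC2A

/-! generated certificate data (ranks of generator 2): HNKTC -/

set_option autoImplicit false
set_option Elab.async false

namespace Cfsg.Agent.Helper5.HNKTC
open Cfsg.Agent.Helper5.TC
noncomputable section

def rk2_0 : ℕ := 0xffffff000064ffffffffffff000000ffffffffffff0000460000aa000000ffffffffffff00005e0000e0000000ffffffffffffffffff000000ffffff00000000003c000020000034000062000000ffffffffffffffffffffffff00006100005dffffffffffff0000000000420000d2ffffffffffffffffff000000ffffffffffff0000a6ffffff0000060000120000a0000000ffffffffffffffffff0000d60000a2ffffffffffffffffff000045000000000000ffffff00000000003a00001d000000000000ffffff000000ffffff000005000000000000000000000000000000000000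
def rkSel2 (c : ℕ) : ℕ := rk2_0
def rk2F (v : ℕ) : ℕ := Nat.rec (motive := fun _ => ℕ) 0 (fun c _ => Nat.mod (Nat.shiftRight (rkSel2 c) (Nat.mul 24 (Nat.mod v 682))) 16777216) (Nat.add (Nat.div v 682) 1)

end

end Cfsg.Agent.Helper5.HNKTC
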