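import Cfsg.Agent.Helper5.TC2A

/-! generated certificate data (ranks of generator 3): HNKTC -/

set_option autoImplicit false
set_option Elab.async false

namespace Cfsg.Agent.Helper5.HNKTC
open Cfsg.Agent.Helper5.TC
noncomputable section

def rk3_0 : ℕ := 0xffffffffffff00005fffffffffffff000000ffffffffffffffffffffffffffffff000044ffffffffffff0000ab000000ffffff000060ffffffffffff000043000000ffffffffffff000065ffffffffffffffffff00003b00001cffffff000063ffffffffffff00003d0000000000d4ffffffffffff00005cffffffffffffffffff000000ffffffffffffffffffffffff00009a0000400000540000040000d00000000000a7ffffff000047ffffff000000000000000000000000000021000000000000000000000000000000000007000000ffffff000000000000000000000000000000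
def rkSel3 (c : ℕ) : ℕ := rk3_0
def rk3F (v : ℕ) : ℕ := Nat.rec (motive := fun _ => ℕ) 0 (fun c _ => Nat.mod (Nat.shiftRight (rkSel3 c) (Nat.mul 24 (Nat.mod v 682))) 16777216) (Nat.add (Nat.div v 682) 1)

end

end Cfsg.Agent.Helper5.HNKTC
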