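import Cfsg.Agent.Helper5.TC2A

/-! generated certificate data (ranks of generator 4): HNKTC -/

set_option autoImplicit false
set_option Elab.async false

namespace Cfsg.Agent.Helper5.HNKTC
open Cfsg.Agent.Helper5.TC
noncomputable section

def rk4_0 : ℕ := 0xffffff000000ffffffffffffffffffffffff000048ffffff000000ffffffffffffffffffffffff000000ffffffffffffffffffffffff000030ffffffffffffffffffffffffffffff000000ffffffffffffffffffffffffffffffffffffffffffffffffffffff0000b8ffffffffffffffffffffffffffffffffffffffffffffffff0000b9000008ffffffffffff000000000031ffffffffffffffffff000000ffffffffffffffffffffffff000000000000000000ffffff000000ffffffffffff000000000000ffffffffffffffffffffffff000000000000000000000000000000000000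
def rkSel4 (c : ℕ) : ℕ := rk4_0
def rk4F (v : ℕ) : ℕ := Nat.rec (motive := fun _ => ℕ) 0 (fun c _ => Nat.mod (Nat.shiftRight (rkSel4 c) (Nat.mul 24 (Nat.mod v 682))) 16777216) (Nat.add (Nat.div v 682) 1)

end

end Cfsg.Agent.Helper5.HNKTC
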