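import Cfsg.Agent.Helper5.TC2A

/-! generated certificate data (ranks of generator 6): HNKTC -/

set_option autoImplicit false
set_option Elab.async false

namespace Cfsg.Agent.Helper5.HNKTC
open Cfsg.Agent.Helper5.TC
noncomputable section

def rk6_0 : ℕ := 0xffffffffffffffffffffffffffffffffffffffffffffffffffffffffffff000000ffffffffffffffffffffffffffffffffffff00002e000025ffffffffffffffffff000000ffffffffffffffffffffffffffffff000000ffffff00005bffffff000000ffffffffffffffffffffffffffffff00000000000e00004d00002bffffffffffffffffff000000ffffff00009effffff000058000000ffffffffffffffffffffffff00000d000000ffffff000000ffffffffffffffffff000000ffffff000000000000000000000000000000ffffff000000ffffff000000000000000000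
def rkSel6 (c : ℕ) : ℕ := rk6_0
def rk6F (v : ℕ) : ℕ := Nat.rec (motive := fun _ => ℕ) 0 (fun c _ => Nat.mod (Nat.shiftRight (rkSel6 c) (Nat.mul 24 (Nat.mod v 682))) 16777216) (Nat.add (Nat.div v 682) 1)

end

end Cfsg.Agent.Helper5.HNKTC
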