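import Cfsg.Agent.Helper5.TC2A

/-! generated certificate data (targets of generator 1): HNKTC -/

set_option autoImplicit false
set_option Elab.async false

namespace Cfsg.Agent.Helper5.HNKTC
open Cfsg.Agent.Helper5.TC
noncomputable section

def tg1_0 : ℕ := 0x1200000000000000001100000000003c00000000001000000000000f00001100000f00001400000000000d00000000000000000000000000000000000000000000000000000000000a00000000000000000000000900002100000000000000000000000800001300000000001200000000000000000600000000000500002e00002e00000000001700002900000400000000004300000000002800000300000000004900000500003000002c00003b00002400003800000000003100002d00000100002500002200000b00001a00001500000e000000000002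
def tgSel1 (c : ℕ) : ℕ := tg1_0
def tg1F (v : ℕ) : ℕ := Nat.rec (motive := fun _ => ℕ) 0 (fun c _ => Nat.mod (Nat.shiftRight (tgSel1 c) (Nat.mul 24 (Nat.mod v 682))) 16777216) (Nat.add (Nat.div v 682) 1)

end

end Cfsg.Agent.Helper5.HNKTC
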