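import Cfsg.Agent.Helper5.TC2A

/-! generated certificate data (targets of generator 2): HNKTC -/

set_option autoImplicit false
set_option Elab.async false

namespace Cfsg.Agent.Helper5.HNKTC
open Cfsg.Agent.Helper5.TC
noncomputable section

def tg2_0 : ℕ := 0x3300000000000000001100000000000000001300003d00001000000000000000004900000000000e00000000000000000000000c00000000000b00002900000d00000c00002c00000a00000000000000000000000000003a00002400000000000000000800003700000e00000000000000000000000600000000000000001500000000000700000600001000000400000000000000000000003700001100000000000000000000004000004600000200000000003c00002f00002e00003600000100000000002800000000001800002000000000001600000f000009000003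
def tgSel2 (c : ℕ) : ℕ := tg2_0
def tg2F (v : ℕ) : ℕ := Nat.rec (motive := fun _ => ℕ) 0 (fun c _ => Nat.mod (Nat.shiftRight (tgSel2 c) (Nat.mul 24 (Nat.mod v 682))) 16777216) (Nat.add (Nat.div v 682) 1)

end

end Cfsg.Agent.Helper5.HNKTC
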