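import Cfsg.Agent.Helper5.TC2A

/-! generated certificate data (targets of generator 3): HNKTC -/

set_option autoImplicit false
set_option Elab.async false

namespace Cfsg.Agent.Helper5.HNKTC
open Cfsg.Agent.Helper5.TC
noncomputable section

def tg3_0 : ℕ := 0x3f00000000000000001100000000000000000000000000000000001200000000000000004300000e00000000002d00000000000000002800000b00000000000000004a00000000000000000000000d00000c00000000003300000000000000003600000800004300000000000000002c00000000000000000000000500000000000000000000000000004a00000d00001200000600000800000300002000000000004400000000004700004200000200003d00003500003900003700003200000100002900001e00002300000000001b00000000001000000a000004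
def tgSel3 (c : ℕ) : ℕ := tg3_0
def tg3F (v : ℕ) : ℕ := Nat.rec (motive := fun _ => ℕ) 0 (fun c _ => Nat.mod (Nat.shiftRight (tgSel3 c) (Nat.mul 24 (Nat.mod v 682))) 16777216) (Nat.add (Nat.div v 682) 1)

end

end Cfsg.Agent.Helper5.HNKTC
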