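import Cfsg.Agent.Helper5.TC2A

/-! generated certificate data (targets of generator 4): HNKTC -/

set_option autoImplicit false
set_option Elab.async false

namespace Cfsg.Agent.Helper5.HNKTC
open Cfsg.Agent.Helper5.TC
noncomputable section

def tg4_0 : ℕ := 0x1200000000000000000000000000000e00000000001000000400000000000000000000000e00000000003c00000000000000001b00000000000000000000000000001b00000a00000000000000000000000000000000000000000000000000000000002000000000000000000000000000000000000000000000000000002900000200000000000000000400003900000000000000000000000300000000000000000000000000004a00000200004300000000003e00000000000000000100003300000000000000000000000000000000001c00001700001100000b000005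
def tgSel4 (c : ℕ) : ℕ := tg4_0
def tg4F (v : ℕ) : ℕ := Nat.rec (motive := fun _ => ℕ) 0 (fun c _ => Nat.mod (Nat.shiftRight (tgSel4 c) (Nat.mul 24 (Nat.mod v 682))) 16777216) (Nat.add (Nat.div v 682) 1)

end

end Cfsg.Agent.Helper5.HNKTC
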