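import Cfsg.Agent.Helper5.TC2A

/-! generated certificate data (targets of generator 5): HNKTC -/

set_option autoImplicit false
set_option Elab.async false

namespace Cfsg.Agent.Helper5.HNKTC
open Cfsg.Agent.Helper5.TC
noncomputable section

def tg5_0 : ℕ := 0x2200000000000000000000000000000000000000001000000000000000000000000000000000000000000000000000000000002b00000000000700000000000000000a00000000000000000000000000000000000900000000000000002c00000800000000000000000000002700000700002200003800000000001300000000000000000000000400002c00000000001b00000900000000000000001700000000000000001000000200004b00000000000000004000000000000100002100000000003400002e00002a00000000002400000000001d00001800001200000c000006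
def tgSel5 (c : ℕ) : ℕ := tg5_0
def tg5F (v : ℕ) : ℕ := Nat.rec (motive := fun _ => ℕ) 0 (fun c _ => Nat.mod (Nat.shiftRight (tgSel5 c) (Nat.mul 24 (Nat.mod v 682))) 16777216) (Nat.add (Nat.div v 682) 1)

end

end Cfsg.Agent.Helper5.HNKTC
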