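import Cfsg.Agent.Helper5.TC2A

/-! generated certificate data (targets of generator 6): HNKTC -/

set_option autoImplicit false
set_option Elab.async false

namespace Cfsg.Agent.Helper5.HNKTC
open Cfsg.Agent.Helper5.TC
noncomputable section

def tg6_0 : ℕ := 0x1200000000000000000000000000000000000000000000000000000000000000000f00000000000000000000000000000000000000000a00002400000000000000000000000a00000000000000000000000000000000000900000000001d00003a00000800000000000000002700002400001200000600000400004b00000c00000000000000000000000400000000001b00000000000f00000300001700000000000000000000002200000200000000004400000000000000000000000100000000003500002f00002b00002600000000000000001e00000000001300000d000007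
def tgSel6 (c : ℕ) : ℕ := tg6_0
def tg6F (v : ℕ) : ℕ := Nat.rec (motive := fun _ => ℕ) 0 (fun c _ => Nat.mod (Nat.shiftRight (tgSel6 c) (Nat.mul 24 (Nat.mod v 682))) 16777216) (Nat.add (Nat.div v 682) 1)

end

end Cfsg.Agent.Helper5.HNKTC
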