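import Cfsg.Agent.Helper5.TC2A

/-! generated certificate data (events 0): HNKTC -/

set_option autoImplicit false
set_option Elab.async false

namespace Cfsg.Agent.Helper5.HNKTC
open Cfsg.Agent.Helper5.TC
noncomputable section

def ev_0 : ℕ := 0x8084600000000084a00000004083e00000020083e0000009c084a00000008081a00000014083e00000040601600000028480d0000009c14090000000810050000005c04210000009c0405000000a00003000000f40003000000f40003000000200445000000f408420000002c0846000000d8084600000020084a000000240842000000a4081a00000044084600000010084a0000005c083e0000002818360000005c001d000000200839000000f00842000000800846000000a0083e00000028083e0000004008420000000c142e000000080c390000005000390000000c1039000000f014050000006c1001000000000c390000006c0c310000006c084a000000cc0003000000fc0003000000fc084600000128081a00000124083e000000200856000000b40846000000280856000000d40846000000e80842000000040852000000ac084200000074084600000060084a0000008408420000001808420000008808520000000808560000011008460000004c083e0000003008420000009808520000001c084a000000740852000000cc0846000000b0142e000000b000390000003c0c39000000340c39000000e80005000000900c0500000074083100000010042d00000100000300000064084a0000006400050000012c082d00000008082d00000048102d00000048042900000114081a00000044041d000001100031000000080831000000d80c01000000bc000300000068085200000068103900000034003100000068002d000000781439000000e40003000000e40856000000040839000000280c3100000004082d000000180c2d000000e00003000000e00852000000e01029000000e0002d000000d400310000000408050000000408310000003c14050000002004050000000c100500000000082d0000008c00030000008c0856000000100c3100000088002d0000007c081a00000014041d00000078003100000000083100000000081d000000000000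
def evSel0 (c : ℕ) : ℕ := ev_0

end

end Cfsg.Agent.Helper5.HNKTC
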