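import Cfsg.Agent.Helper5.TC2A

/-! generated certificate data (targets of generator 0): HNKTC -/

set_option autoImplicit false
set_option Elab.async false

namespace Cfsg.Agent.Helper5.HNKTC
open Cfsg.Agent.Helper5.TC
noncomputable section

def tg0_0 : ℕ := 0x700000000001200000000000000000000000000000000001700000000000000000000000000000000000000004300000e00000000000000000c00000000000000000000000000000000000000000a00001000000000001e00000900000f00000000000000001a00001500000e00000c00000700000d00000000000600002b00000000000000000000000000000000000000000400000000000000001b00001100000300003c00002600004800004500004100003f00000200003a00000000000500003000002c00002700000000002100001f000019000014000000000008000001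
def tgSel0 (c : ℕ) : ℕ := tg0_0
def tg0F (v : ℕ) : ℕ := Nat.rec (motive := fun _ => ℕ) 0 (fun c _ => Nat.mod (Nat.shiftRight (tgSel0 c) (Nat.mul 24 (Nat.mod v 682))) 16777216) (Nat.add (Nat.div v 682) 1)

end

end Cfsg.Agent.Helper5.HNKTC
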