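import Cfsg.Agent.Helper5.HNMDatD

/-! kernel checks of edges and trees: HNM -/

set_option autoImplicit false
set_option Elab.async false

namespace Cfsg.Agent.Helper5.HNM
open Cfsg.Agent.Helper5.TC Cfsg.Agent.Helper5.TCI Cfsg.Agent.Helper5.TCS
noncomputable section

set_option maxRecDepth 1000000 in
theorem sec_4_0 : secRange E 5 936340 38809 secF 50000 38810 = true := by decide +kernel

set_option maxRecDepth 1000000 in
theorem edges_7_118 : edgesRangeS iota B E 7 6428 1516286 = true := by decide +kernel

set_option maxRecDepth 1000000 in
theorem edges_7_98 : edgesRangeS iota B E 7 11227 1211306 = true := by decide +kernel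

set_option maxRecDepth 1000000 in
theorem edges_7_109 : edgesRangeS iota B E 7 17196 1375623 = true := by decide +kernel

set_option maxRecDepth 1000000 in
theorem edges_5_117 : edgesRangeS iota B E 5 13339 1437962 = true := by decide +kernel

set_option maxRecDepth 1000000 in
theorem edges_4_50 : edgesRangeS iota B E 4 10263 1432429 = true := by decide +kernel

set_option maxRecDepth 1000000 in
theorem edges_6_83 : edgesRangeS iota B E 6 18486 1413259 = true := by decide +kernel

set_option maxRecDepth 1000000 in
theorem edges_0_0 : edgesRangeS iota B E 0 30826 0 = true := by decide +kernel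

set_option maxRecDepth 1000000 in
theorem edges_2_26 : edgesRangeS iota B E 2 40082 835642 = true := by decide +kernel

set_option maxRecDepth 1000000 in
theorem edges_5_81 : edgesRangeS iota B E 5 11269 1010853 = true := by decide +kernel

set_option maxRecDepth 1000000 in
theorem edges_7_104 : edgesRangeS iota B E 7 17157 1289895 = true := by decide +kernel

set_option maxRecDepth 1000000 in
theorem edges_0_27 : edgesRangeS iota B E 0 35199 697173 = true := by decide +kernel

set_option maxRecDepth 1000000 in
theorem edges_1_60 : edgesRangeS iota B E 1 12303 1452121 = true := by decide +kernel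

set_option maxRecDepth 1000000 in
theorem edges_3_10 : edgesRangeS iota B E 3 44408 292056 = true := by decide +kernel

set_option maxRecDepth 1000000 in
theorem edges_4_28 : edgesRangeS iota B E 4 36756 1092872 = true := by decide +kernel

set_option maxRecDepth 1000000 in
theorem edges_6_73 : edgesRangeS iota B E 6 15157 1233531 = true := by decide +kernel

set_option maxRecDepth 1000000 in
theorem edges_8_82 : edgesRangeS iota B E 8 15860 1451935 = true := by decide +kernel

end

end Cfsg.Agent.Helper5.HNM
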