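import Cfsg.Agent.Helper5.HNMDatD

/-! kernel checks of edges and trees: HNM -/

set_option autoImplicit false
set_option Elab.async false

namespace Cfsg.Agent.Helper5.HNM
open Cfsg.Agent.Helper5.TC Cfsg.Agent.Helper5.TCI Cfsg.Agent.Helper5.TCS
noncomputable section

set_option maxRecDepth 1000000 in
theorem sec_6_7 : secRange E 5 1490744 516825 secF 50000 866826 = true := by decide +kernel

set_option maxRecDepth 1000000 in
theorem edges_4_39 : edgesRangeS iota B E 4 10141 1321151 = true := by decide +kernel

set_option maxRecDepth 1000000 in
theorem edges_5_54 : edgesRangeS iota B E 5 12085 708395 = true := by decide +kernel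

set_option maxRecDepth 1000000 in
theorem edges_5_109 : edgesRangeS iota B E 5 13340 1331307 = true := by decide +kernel

set_option maxRecDepth 1000000 in
theorem edges_5_0 : edgesRangeS iota B E 5 35789 0 = true := by decide +kernel

set_option maxRecDepth 1000000 in
theorem edges_8_79 : edgesRangeS iota B E 8 15974 1403930 = true := by decide +kernel

set_option maxRecDepth 1000000 in
theorem edges_6_57 : edgesRangeS iota B E 6 15532 985469 = true := by decide +kernel

set_option maxRecDepth 1000000 in
theorem edges_8_75 : edgesRangeS iota B E 8 15980 1339873 = true := by decide +kernel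

set_option maxRecDepth 1000000 in
theorem edges_2_4 : edgesRangeS iota B E 2 26088 141504 = true := by decide +kernel

set_option maxRecDepth 1000000 in
theorem edges_5_61 : edgesRangeS iota B E 5 11034 786908 = true := by decide +kernel

set_option maxRecDepth 1000000 in
theorem edges_7_81 : edgesRangeS iota B E 7 11509 1018653 = true := by decide +kernel

set_option maxRecDepth 1000000 in
theorem edges_0_24 : edgesRangeS iota B E 0 30000 594443 = true := by decide +kernel

set_option maxRecDepth 1000000 in
theorem edges_1_28 : edgesRangeS iota B E 1 34584 730154 = true := by decide +kernel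

set_option maxRecDepth 1000000 in
theorem edges_2_50 : edgesRangeS iota B E 2 13332 1423828 = true := by decide +kernel

set_option maxRecDepth 1000000 in
theorem edges_4_12 : edgesRangeS iota B E 4 35389 458107 = true := by decide +kernel

set_option maxRecDepth 1000000 in
theorem edges_6_30 : edgesRangeS iota B E 6 18782 547227 = true := by decide +kernel

set_option maxRecDepth 1000000 in
theorem edges_8_18 : edgesRangeS iota B E 8 18476 378841 = true := by decide +kernel

end

end Cfsg.Agent.Helper5.HNM
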