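import Cfsg.Agent.Helper5.HNMDatD

/-! kernel checks of edges and trees: HNM -/

set_option autoImplicit false
set_option Elab.async false

namespace Cfsg.Agent.Helper5.HNM
open Cfsg.Agent.Helper5.TC Cfsg.Agent.Helper5.TCI Cfsg.Agent.Helper5.TCS
noncomputable section

set_option maxRecDepth 1000000 in
theorem tree_5 : treeRange E 50000 250001 = true := by decide +kernel

set_option maxRecDepth 1000000 in
theorem tree_25 : treeRange E 50000 1250001 = true := by decide +kernel

set_option maxRecDepth 1000000 in
theorem edges_2_43 : edgesRangeS iota B E 2 13338 1330500 = true := by decide +kernel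

set_option maxRecDepth 1000000 in
theorem edges_7_43 : edgesRangeS iota B E 7 10529 589935 = true := by decide +kernel

set_option maxRecDepth 1000000 in
theorem edges_5_77 : edgesRangeS iota B E 5 11406 965297 = true := by decide +kernel

set_option maxRecDepth 1000000 in
theorem edges_7_66 : edgesRangeS iota B E 7 11295 847621 = true := by decide +kernel

set_option maxRecDepth 1000000 in
theorem edges_0_35 : edgesRangeS iota B E 0 32182 970061 = true := by decide +kernel

set_option maxRecDepth 1000000 in
theorem edges_3_33 : edgesRangeS iota B E 3 37527 1098358 = true := by decide +kernel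

set_option maxRecDepth 1000000 in
theorem edges_6_50 : edgesRangeS iota B E 6 15846 875009 = true := by decide +kernel

set_option maxRecDepth 1000000 in
theorem edges_8_36 : edgesRangeS iota B E 8 17107 703892 = true := by decide +kernel

set_option maxRecDepth 1000000 in
theorem edges_0_60 : edgesRangeS iota B E 0 13525 1472555 = true := by decide +kernel

set_option maxRecDepth 1000000 in
theorem edges_2_29 : edgesRangeS iota B E 2 37841 954702 = true := by decide +kernel

set_option maxRecDepth 1000000 in
theorem edges_3_42 : edgesRangeS iota B E 3 13331 1317185 = true := by decide +kernel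

set_option maxRecDepth 1000000 in
theorem edges_5_95 : edgesRangeS iota B E 5 10919 1166457 = true := by decide +kernel

set_option maxRecDepth 1000000 in
theorem edges_7_73 : edgesRangeS iota B E 7 11544 926381 = true := by decide +kernel

end

end Cfsg.Agent.Helper5.HNM
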