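import Cfsg.Agent.Helper5.HNMDatD
import Cfsg.Agent.Helper5.HNMDatT
import Cfsg.Agent.Helper5.TCIB

/-! kernel checks of the coset table: HNM -/

set_option autoImplicit false
set_option Elab.async false

namespace Cfsg.Agent.Helper5.HNM
open Cfsg.Agent.Helper5.TC Cfsg.Agent.Helper5.TCI Cfsg.Agent.Helper5.TCS
noncomputable section

set_option maxRecDepth 1000000 in
theorem relc_7_1 : fixPtsF W_7 100000 100000 = true := by decide +kernel

set_option maxRecDepth 1000000 in
theorem relc_10_0 : fixPtsF W_10 80000 0 = true := by decide +kernel

set_option maxRecDepth 1000000 in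
theorem relc_0_9 : fixPtsF W_0 66666 599994 = true := by decide +kernel

set_option maxRecDepth 1000000 in
theorem relc_13_11 : fixPtsF W_13 66666 733326 = true := by decide +kernel

set_option maxRecDepth 1000000 in
theorem relc_4_19 : fixPtsF W_4 25000 475000 = true := by decide +kernel

set_option maxRecDepth 1000000 in
theorem relc_8_6 : fixPtsF W_8 20000 120000 = true := by decide +kernel

set_option maxRecDepth 1000000 in
theorem relc_8_51 : fixPtsF W_8 20000 1020000 = true := by decide +kernel

set_option maxRecDepth 1000000 in
theorem relc_3_23 : fixPtsF W_3 19047 438081 = true := by decide +kernel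

set_option maxRecDepth 1000000 in
theorem relc_3_71 : fixPtsF W_3 19047 1352337 = true := by decide +kernel

set_option maxRecDepth 1000000 in
theorem relc_5_42 : fixPtsF W_5 16666 699972 = true := by decide +kernel

set_option maxRecDepth 1000000 in
theorem relc_5_90 : fixPtsF W_5 16666 1499940 = true := by decide +kernel

set_option maxRecDepth 1000000 in
theorem relc_9_54 : fixPtsF W_9 8163 440802 = true := by decide +kernel

set_option maxRecDepth 1000000 in
theorem relc_9_102 : fixPtsF W_9 8163 832626 = true := by decide +kernel

set_option maxRecDepth 1000000 in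
theorem relc_9_150 : fixPtsF W_9 8163 1224450 = true := by decide +kernel

set_option maxRecDepth 1000000 in
theorem inv_0_2 : invRowFI tgF 1539000 0 1 50000 100000 = true := by decide +kernel

set_option maxRecDepth 1000000 in
theorem inv_0_13 : invRowFI tgF 1539000 0 1 50000 650000 = true := by decide +kernel

set_option maxRecDepth 1000000 in
theorem inv_1_1 : invRowFI tgF 1539000 1 0 50000 50000 = true := by decide +kernel

set_option maxRecDepth 1000000 in
theorem inv_2_19 : invRowFI tgF 1539000 2 3 50000 950000 = true := by decide +kernel

set_option maxRecDepth 1000000 in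
theorem inv_4_7 : invRowFI tgF 1539000 4 4 50000 350000 = true := by decide +kernel

set_option maxRecDepth 1000000 in
theorem inv_5_25 : invRowFI tgF 1539000 5 6 50000 1250000 = true := by decide +kernel

set_option maxRecDepth 1000000 in
theorem inv_7_13 : invRowFI tgF 1539000 7 8 50000 650000 = true := by decide +kernel

set_option maxRecDepth 1000000 in
theorem inv_1_30 : invRowFI tgF 1539000 1 0 39000 1500000 = true := by decide +kernel

end

end Cfsg.Agent.Helper5.HNM
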