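import Cfsg.Agent.Helper5.HNMDatD
import Cfsg.Agent.Helper5.HNMDatT
import Cfsg.Agent.Helper5.TCIB

/-! kernel checks of the coset table: HNM -/

set_option autoImplicit false
set_option Elab.async false

namespace Cfsg.Agent.Helper5.HNM
open Cfsg.Agent.Helper5.TC Cfsg.Agent.Helper5.TCI Cfsg.Agent.Helper5.TCS
noncomputable section

set_option maxRecDepth 1000000 in
theorem relc_6_2 : fixPtsF W_6 200000 400000 = true := by decide +kernel

set_option maxRecDepth 1000000 in
theorem relc_0_4 : fixPtsF W_0 66666 266664 = true := by decide +kernel

set_option maxRecDepth 1000000 in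
theorem relc_13_6 : fixPtsF W_13 66666 399996 = true := by decide +kernel

set_option maxRecDepth 1000000 in
theorem relc_2_31 : fixPtsF W_2 33333 1033323 = true := by decide +kernel

set_option maxRecDepth 1000000 in
theorem relc_4_33 : fixPtsF W_4 25000 825000 = true := by decide +kernel

set_option maxRecDepth 1000000 in
theorem relc_8_20 : fixPtsF W_8 20000 400000 = true := by decide +kernel

set_option maxRecDepth 1000000 in
theorem relc_8_68 : fixPtsF W_8 20000 1360000 = true := by decide +kernel

set_option maxRecDepth 1000000 in
theorem relc_3_40 : fixPtsF W_3 19047 761880 = true := by decide +kernel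

set_option maxRecDepth 1000000 in
theorem relc_5_8 : fixPtsF W_5 16666 133328 = true := by decide +kernel

set_option maxRecDepth 1000000 in
theorem relc_5_56 : fixPtsF W_5 16666 933296 = true := by decide +kernel

set_option maxRecDepth 1000000 in
theorem relc_9_10 : fixPtsF W_9 8163 81630 = true := by decide +kernel

set_option maxRecDepth 1000000 in
theorem relc_9_58 : fixPtsF W_9 8163 473454 = true := by decide +kernel

set_option maxRecDepth 1000000 in
theorem relc_9_106 : fixPtsF W_9 8163 865278 = true := by decide +kernel

set_option maxRecDepth 1000000 in
theorem relc_9_154 : fixPtsF W_9 8163 1257102 = true := by decide +kernel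

set_option maxRecDepth 1000000 in
theorem inv_0_6 : invRowFI tgF 1539000 0 1 50000 300000 = true := by decide +kernel

set_option maxRecDepth 1000000 in
theorem inv_0_24 : invRowFI tgF 1539000 0 1 50000 1200000 = true := by decide +kernel

set_option maxRecDepth 1000000 in
theorem inv_2_12 : invRowFI tgF 1539000 2 3 50000 600000 = true := by decide +kernel

set_option maxRecDepth 1000000 in
theorem inv_4_0 : invRowFI tgF 1539000 4 4 50000 0 = true := by decide +kernel

set_option maxRecDepth 1000000 in
theorem inv_5_18 : invRowFI tgF 1539000 5 6 50000 900000 = true := by decide +kernel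

set_option maxRecDepth 1000000 in
theorem inv_7_6 : invRowFI tgF 1539000 7 8 50000 300000 = true := by decide +kernel

set_option maxRecDepth 1000000 in
theorem inv_8_24 : invRowFI tgF 1539000 8 7 50000 1200000 = true := by decide +kernel

end

end Cfsg.Agent.Helper5.HNM
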