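import Cfsg.Agent.Helper5.HNMDatD
import Cfsg.Agent.Helper5.HNMDatT
import Cfsg.Agent.Helper5.TCIB

/-! kernel checks of the coset table: HNM -/

set_option autoImplicit false
set_option Elab.async false

namespace Cfsg.Agent.Helper5.HNM
open Cfsg.Agent.Helper5.TC Cfsg.Agent.Helper5.TCI Cfsg.Agent.Helper5.TCS
noncomputable section

set_option maxRecDepth 1000000 in
theorem relc_12_3 : fixPtsF W_12 100000 300000 = true := by decide +kernel

set_option maxRecDepth 1000000 in
theorem relc_10_17 : fixPtsF W_10 80000 1360000 = true := by decide +kernel

set_option maxRecDepth 1000000 in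
theorem relc_1_3 : fixPtsF W_1 66666 199998 = true := by decide +kernel

set_option maxRecDepth 1000000 in
theorem relc_2_5 : fixPtsF W_2 33333 166665 = true := by decide +kernel

set_option maxRecDepth 1000000 in
theorem relc_2_41 : fixPtsF W_2 33333 1366653 = true := by decide +kernel

set_option maxRecDepth 1000000 in
theorem relc_4_50 : fixPtsF W_4 25000 1250000 = true := by decide +kernel

set_option maxRecDepth 1000000 in
theorem relc_8_37 : fixPtsF W_8 20000 740000 = true := by decide +kernel

set_option maxRecDepth 1000000 in
theorem relc_3_9 : fixPtsF W_3 19047 171423 = true := by decide +kernel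

set_option maxRecDepth 1000000 in
theorem relc_3_57 : fixPtsF W_3 19047 1085679 = true := by decide +kernel

set_option maxRecDepth 1000000 in
theorem relc_5_25 : fixPtsF W_5 16666 416650 = true := by decide +kernel

set_option maxRecDepth 1000000 in
theorem relc_5_73 : fixPtsF W_5 16666 1216618 = true := by decide +kernel

set_option maxRecDepth 1000000 in
theorem relc_9_27 : fixPtsF W_9 8163 220401 = true := by decide +kernel

set_option maxRecDepth 1000000 in
theorem relc_9_75 : fixPtsF W_9 8163 612225 = true := by decide +kernel

set_option maxRecDepth 1000000 in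
theorem relc_9_123 : fixPtsF W_9 8163 1004049 = true := by decide +kernel

set_option maxRecDepth 1000000 in
theorem relc_9_171 : fixPtsF W_9 8163 1395873 = true := by decide +kernel

set_option maxRecDepth 1000000 in
theorem inv_1_19 : invRowFI tgF 1539000 1 0 50000 950000 = true := by decide +kernel

set_option maxRecDepth 1000000 in
theorem inv_3_7 : invRowFI tgF 1539000 3 2 50000 350000 = true := by decide +kernel

set_option maxRecDepth 1000000 in
theorem inv_4_25 : invRowFI tgF 1539000 4 4 50000 1250000 = true := by decide +kernel

set_option maxRecDepth 1000000 in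
theorem inv_6_13 : invRowFI tgF 1539000 6 5 50000 650000 = true := by decide +kernel

set_option maxRecDepth 1000000 in
theorem inv_8_1 : invRowFI tgF 1539000 8 7 50000 50000 = true := by decide +kernel

end

end Cfsg.Agent.Helper5.HNM
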