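import Mathlib
import Cfsg.Agent.Helper5.TCSB

/-!
# Kernel-friendly checks of the tree of definitions and of the secondary trees of the blocks
-/

set_option autoImplicit false

namespace Cfsg.Agent.Helper5.TCS

open Cfsg.Agent.Helper5.TC Cfsg.Agent.Helper5.TCI

/-- the definition of the name `v` is an edge of the table. -/
def treeOK1 (E : Dat2) (v : ℕ) : Bool :=
  force (E.D.par v) (fun p => force (E.D.gen v) (fun x =>
    Nat.blt p v && Nat.blt x E.D.k && Nat.beq (E.D.tgt x p) v))

/-- the definitions of the names `lo ≤ v < lo + n` are edges of the table. -/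
def treeRange (E : Dat2) (n : ℕ) : ℕ → Bool :=
  Nat.rec (motive := fun _ => ℕ → Bool) (fun _ => true)
    (fun _ ih v => bif treeOK1 E v then force (Nat.succ v) ih else false) n

theorem treeRange_succ (E : Dat2) (n v : ℕ) : treeRange E (n + 1) v =
    bif treeOK1 E v then treeRange E n (v + 1) else false := by
  show (bif _ then force _ _ else _) = _
  rw [force_eq]
  rfl

theorem treeOK1_spec {E : Dat2} {v : ℕ} (h : treeOK1 E v = true) :
    E.D.par v < v ∧ E.D.gen v < E.D.k ∧ E.D.tgt (E.D.gen v) (E.D.par v) = v := by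
  unfold treeOK1 at h
  rw [force_eq, force_eq] at h
  simp only [Bool.and_eq_true] at h
  obtain ⟨⟨h1, h2⟩, h3⟩ := h
  rw [Nat.blt_eq] at h1 h2
  exact ⟨h1, h2, Nat.eq_of_beq_eq_true h3⟩

theorem treeRange_spec (E : Dat2) : ∀ (n lo : ℕ), treeRange E n lo = true →
    ∀ v, lo ≤ v → v < lo + n →
      E.D.par v < v ∧ E.D.gen v < E.D.k ∧ E.D.tgt (E.D.gen v) (E.D.par v) = v
  | 0, lo, _, v, h1, h2 => by omega
  | n + 1, lo, h, v, h1, h2 => by
    rw [treeRange_succ] at h
    cases hc : treeOK1 E lo with
    | false => rw [hc, cond_false] at h; exact absurd h (by simp)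
    | true =>
      rw [hc, cond_true] at h
      rcases Nat.eq_or_lt_of_le h1 with rfl | h1
      · exact treeOK1_spec hc
      · exact treeRange_spec E n (lo + 1) h v h1 (by omega)

/-- the secondary parent (low 21 bits of `sec v`) and letter (the bits above) of `v` give an edge
into `v`, inside the block starting at `lo`, known before time `R`. -/
def secOK1 (E : Dat2) (kH R lo : ℕ) (sec : ℕ → ℕ) (v : ℕ) : Bool :=
  force (sec v) (fun s => force (Nat.mod s 2097152) (fun p => force (Nat.div s 2097152) (fun x =>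
    Nat.ble lo p && Nat.blt p v && Nat.blt x kH && Nat.blt (E.rank x p) R &&
      Nat.beq (E.D.tgt x p) v)))

/-- the secondary edges of the names `a ≤ v < a + n`. -/
def secRange (E : Dat2) (kH R lo : ℕ) (sec : ℕ → ℕ) (n : ℕ) : ℕ → Bool :=
  Nat.rec (motive := fun _ => ℕ → Bool) (fun _ => true)
    (fun _ ih v => bif secOK1 E kH R lo sec v then force (Nat.succ v) ih else false) n

theorem secRange_succ (E : Dat2) (kH R lo : ℕ) (sec : ℕ → ℕ) (n v : ℕ) :
    secRange E kH R lo sec (n + 1) v =
      bif secOK1 E kH R lo sec v then secRange E kH R lo sec n (v + 1) else false := by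
  show (bif _ then force _ _ else _) = _
  rw [force_eq]
  rfl

theorem secOK1_spec {E : Dat2} {kH R lo : ℕ} {sec : ℕ → ℕ} {v : ℕ}
    (h : secOK1 E kH R lo sec v = true) :
    lo ≤ sec v % 2097152 ∧ sec v % 2097152 < v ∧ sec v / 2097152 < kH ∧
      E.rank (sec v / 2097152) (sec v % 2097152) < R ∧
      E.D.tgt (sec v / 2097152) (sec v % 2097152) = v := by
  unfold secOK1 at h
  rw [force_eq, force_eq, force_eq] at h
  simp only [Bool.and_eq_true] at h
  obtain ⟨⟨⟨⟨h1, h2⟩, h3⟩, h4⟩, h5⟩ := h
  rw [Nat.blt_eq] at h2 h3 h4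
  rw [Nat.ble_eq] at h1
  exact ⟨h1, h2, h3, h4, Nat.eq_of_beq_eq_true h5⟩

theorem secRange_spec (E : Dat2) (kH R lo : ℕ) (sec : ℕ → ℕ) : ∀ (n a : ℕ),
    secRange E kH R lo sec n a = true → ∀ v, a ≤ v → v < a + n →
      lo ≤ sec v % 2097152 ∧ sec v % 2097152 < v ∧ sec v / 2097152 < kH ∧
        E.rank (sec v / 2097152) (sec v % 2097152) < R ∧
        E.D.tgt (sec v / 2097152) (sec v % 2097152) = v
  | 0, a, _, v, h1, h2 => by omega
  | n + 1, a, h, v, h1, h2 => by
    rw [secRange_succ] at h
    cases hc : secOK1 E kH R lo sec a with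
    | false => rw [hc, cond_false] at h; exact absurd h (by simp)
    | true =>
      rw [hc, cond_true] at h
      rcases Nat.eq_or_lt_of_le h1 with rfl | h1
      · exact secOK1_spec hc
      · exact secRange_spec E kH R lo sec n (a + 1) h v h1 (by omega)

end Cfsg.Agent.Helper5.TCS
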