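import Cfsg.Agent.Helper5.HNMTg0
import Cfsg.Agent.Helper5.HNMTg1
import Cfsg.Agent.Helper5.HNMTg2
import Cfsg.Agent.Helper5.HNMTg3
import Cfsg.Agent.Helper5.HNMTg4
import Cfsg.Agent.Helper5.HNMTg5
import Cfsg.Agent.Helper5.HNMTg6
import Cfsg.Agent.Helper5.HNMTg7
import Cfsg.Agent.Helper5.HNMTg8
import Cfsg.Agent.Helper5.HNMRk0
import Cfsg.Agent.Helper5.HNMRk1
import Cfsg.Agent.Helper5.HNMRk2
import Cfsg.Agent.Helper5.HNMRk3
import Cfsg.Agent.Helper5.HNMRk4
import Cfsg.Agent.Helper5.HNMRk5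
import Cfsg.Agent.Helper5.HNMRk6
import Cfsg.Agent.Helper5.HNMRk7
import Cfsg.Agent.Helper5.HNMRk8
import Cfsg.Agent.Helper5.HNMEv0
import Cfsg.Agent.Helper5.HNMEv1
import Cfsg.Agent.Helper5.HNMEv2
import Cfsg.Agent.Helper5.HNMEv3
import Cfsg.Agent.Helper5.HNMEv4
import Cfsg.Agent.Helper5.HNMEv5
import Cfsg.Agent.Helper5.HNMDatA
import Cfsg.Agent.Helper5.HNMDatB
import Cfsg.Agent.Helper5.HNMDatS
import Cfsg.Agent.Helper5.TCSC

/-! generated certificate data (D): HNM -/

set_option autoImplicit false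
set_option Elab.async false

namespace Cfsg.Agent.Helper5.HNM
open Cfsg.Agent.Helper5.TC Cfsg.Agent.Helper5.TCI Cfsg.Agent.Helper5.TCS
noncomputable section

def tgF (x v : ℕ) : ℕ := (Bool.rec (motive := fun _ => ℕ) (Bool.rec (motive := fun _ => ℕ) (Bool.rec (motive := fun _ => ℕ) (tg0F v) (tg1F v) (Nat.ble 1 x)) (Bool.rec (motive := fun _ => ℕ) (tg2F v) (tg3F v) (Nat.ble 3 x)) (Nat.ble 2 x)) (Bool.rec (motive := fun _ => ℕ) (Bool.rec (motive := fun _ => ℕ) (tg4F v) (tg5F v) (Nat.ble 5 x)) (Bool.rec (motive := fun _ => ℕ) (tg6F v) (Bool.rec (motive := fun _ => ℕ) (tg7F v) (tg8F v) (Nat.ble 8 x)) (Nat.ble 7 x)) (Nat.ble 6 x)) (Nat.ble 4 x))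
def rkF (x v : ℕ) : ℕ := (Bool.rec (motive := fun _ => ℕ) (Bool.rec (motive := fun _ => ℕ) (Bool.rec (motive := fun _ => ℕ) (rk0F v) (rk1F v) (Nat.ble 1 x)) (Bool.rec (motive := fun _ => ℕ) (rk2F v) (rk3F v) (Nat.ble 3 x)) (Nat.ble 2 x)) (Bool.rec (motive := fun _ => ℕ) (Bool.rec (motive := fun _ => ℕ) (rk4F v) (rk5F v) (Nat.ble 5 x)) (Bool.rec (motive := fun _ => ℕ) (rk6F v) (Bool.rec (motive := fun _ => ℕ) (rk7F v) (rk8F v) (Nat.ble 8 x)) (Nat.ble 7 x)) (Nat.ble 6 x)) (Nat.ble 4 x))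
def evSel (c : ℕ) : ℕ := (Bool.rec (motive := fun _ => ℕ) (Bool.rec (motive := fun _ => ℕ) (evSel0 c) (Bool.rec (motive := fun _ => ℕ) (evSel1 c) (evSel2 c) (Nat.ble 3516 c)) (Nat.ble 1758 c)) (Bool.rec (motive := fun _ => ℕ) (evSel3 c) (Bool.rec (motive := fun _ => ℕ) (evSel4 c) (evSel5 c) (Nat.ble 8790 c)) (Nat.ble 7032 c)) (Nat.ble 5274 c))
def evF (v : ℕ) : ℕ := Nat.rec (motive := fun _ => ℕ) 0 (fun c _ => Nat.mod (Nat.shiftRight (evSel c) (Nat.mul 48 (Nat.mod v 341))) 281474976710656) (Nat.add (Nat.div v 341) 1)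
def iota (x : ℕ) : ℕ := (bif Nat.beq x 0 then 1 else (bif Nat.beq x 1 then 0 else (bif Nat.beq x 2 then 3 else (bif Nat.beq x 3 then 2 else (bif Nat.beq x 5 then 6 else (bif Nat.beq x 6 then 5 else (bif Nat.beq x 7 then 8 else (bif Nat.beq x 8 then 7 else x))))))))
def D : Dat where
  k := 9
  tgt := tgF
  par := parF
  gen := genF
  ali := fun v => v
  wordP := fun wi => Nat.mod (Nat.shiftRight wtT (Nat.mul 1024 wi)) 179769313486231590772930519078902473361797697894230657273430081157732675805500963132708477322407536021120113879871393357658789768814416622492847430639474124377767893424865485276302219601246094119453082952085005768838150682342462881473913110540827237163350510684586298239947245938479716304835356329624224137216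
  wordR := fun wi => Nat.mod (Nat.shiftRight wrT (Nat.mul 1024 wi)) 179769313486231590772930519078902473361797697894230657273430081157732675805500963132708477322407536021120113879871393357658789768814416622492847430639474124377767893424865485276302219601246094119453082952085005768838150682342462881473913110540827237163350510684586298239947245938479716304835356329624224137216
  wlen := fun wi => Nat.mod (Nat.shiftRight wlT (Nat.mul 8 wi)) 256
  nrel := 26
  nw := 29
  fuel := 0

def E : Dat2 where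
  D := D
  rank := rkF
  arank := fun _ => INF
  ev := evF
  M := 1539000

def loT : ℕ := 0x176529132a5907e2d90278d9009799008f01000581000001000000
def hiT : ℕ := 0x177bb8176529132a5907e2d90278d9009799008f01000581000000
def rT : ℕ := 0x6dae506c248e16bf380f0e760e499400b07e008fac000026000008
def B : Blk where
  kH := 5
  nb := 9
  lo := fun b => lk loT b
  hi := fun b => lk hiT b
  R := fun b => lk rT b


end

end Cfsg.Agent.Helper5.HNM
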