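import Mathlib
import Cfsg.Prelude.Def_Spor_He
import Cfsg.Prelude.Def_Sporadic
import Cfsg.Agent.Helper5.LPCox
import Cfsg.Agent.Helper5.HeLPD

/-!
# The presented group He is simple of order 4030387200
-/

set_option autoImplicit false

namespace Cfsg.Agent.Helper5.HeLP

open Cfsg.Agent.Helper5.LP Cfsg.Spor

/-- numbering of the generators. -/
def idx : He.Gen → ℕ
  | .a => 0
  | .b => 1
  | .c => 2
  | .d => 3
  | .e => 4
  | .f => 5
  | .g => 6

/-- the generator with a given number. -/
def gen : ℕ → He.Gen
  | 0 => .a
  | 1 => .b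
  | 2 => .c
  | 3 => .d
  | 4 => .e
  | 5 => .f
  | _ => .g

theorem spor_equiv : Nonempty (He ≃* LPG 7 R7) :=
  cox_equiv He.edges He.extra 7 R7 idx gen (by intro x; cases x <;> rfl)
    (by intro x; cases x <;> decide) (by intro c hc; interval_cases c <;> rfl)
    (by intro x; cases x <;> decide) lettersA (by decide +kernel) (by decide +kernel)
    (by decide +kernel) (by decide +kernel)

/-- **The presented group is simple of order 4030387200.** -/
theorem spor_is : Cfsg.IsHe He :=
  cox_simple_card He.edges He.extra 7 R7 spor_equiv simple_card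

end Cfsg.Agent.Helper5.HeLP
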