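import Cfsg.Agent.Helper5.HeXATCDatD
import Cfsg.Agent.Helper5.TCIB

/-! kernel checks of edges, aliases, rows: HeXATC -/

set_option autoImplicit false
set_option Elab.async false

namespace Cfsg.Agent.Helper5.HeXATC
open Cfsg.Agent.Helper5.TC Cfsg.Agent.Helper5.TCI

set_option maxRecDepth 1000000 in
theorem cnt_1 : cntFrom RS 20000 20000 0 = 19580 := by decide +kernel

set_option maxRecDepth 1000000 in
theorem cnt_9 : cntFrom RS 20000 180000 0 = 19857 := by decide +kernel

set_option maxRecDepth 1000000 in
theorem edges_2_40 : edgesRangeI iota E 2 1993 87523 = true := by decide +kernel

set_option maxRecDepth 1000000 in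
theorem edges_2_16 : edgesRangeI iota E 2 2222 37239 = true := by decide +kernel

set_option maxRecDepth 1000000 in
theorem edges_2_136 : edgesRangeI iota E 2 1237 258886 = true := by decide +kernel

set_option maxRecDepth 1000000 in
theorem edges_3_29 : edgesRangeI iota E 3 2450 85862 = true := by decide +kernel

set_option maxRecDepth 1000000 in
theorem edges_2_117 : edgesRangeI iota E 2 1551 231901 = true := by decide +kernel

set_option maxRecDepth 1000000 in
theorem edges_0_30 : edgesRangeI iota E 0 1875 57373 = true := by decide +kernel

set_option maxRecDepth 1000000 in
theorem edges_3_30 : edgesRangeI iota E 3 2472 88312 = true := by decide +kernel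

set_option maxRecDepth 1000000 in
theorem edges_5_102 : edgesRangeI iota E 5 1777 245002 = true := by decide +kernel

set_option maxRecDepth 1000000 in
theorem edges_2_110 : edgesRangeI iota E 2 1526 220963 = true := by decide +kernel

set_option maxRecDepth 1000000 in
theorem edges_3_108 : edgesRangeI iota E 3 1506 259684 = true := by decide +kernel

set_option maxRecDepth 1000000 in
theorem edges_6_58 : edgesRangeI iota E 6 2518 146796 = true := by decide +kernel

set_option maxRecDepth 1000000 in
theorem edges_0_131 : edgesRangeI iota E 0 1679 240350 = true := by decide +kernel

set_option maxRecDepth 1000000 in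
theorem edges_1_100 : edgesRangeI iota E 1 1815 198798 = true := by decide +kernel

set_option maxRecDepth 1000000 in
theorem edges_2_28 : edgesRangeI iota E 2 2081 63014 = true := by decide +kernel

set_option maxRecDepth 1000000 in
theorem edges_3_4 : edgesRangeI iota E 3 3265 14953 = true := by decide +kernel

set_option maxRecDepth 1000000 in
theorem edges_4_11 : edgesRangeI iota E 4 2556 29663 = true := by decide +kernel

set_option maxRecDepth 1000000 in
theorem edges_4_94 : edgesRangeI iota E 4 1972 218808 = true := by decide +kernel

set_option maxRecDepth 1000000 in
theorem edges_5_96 : edgesRangeI iota E 5 1877 233639 = true := by decide +kernel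

set_option maxRecDepth 1000000 in
theorem edges_6_74 : edgesRangeI iota E 6 2409 184131 = true := by decide +kernel

set_option maxRecDepth 1000000 in
theorem edges_0_29 : edgesRangeI iota E 0 1938 55435 = true := by decide +kernel

set_option maxRecDepth 1000000 in
theorem edges_0_94 : edgesRangeI iota E 0 1783 175371 = true := by decide +kernel

set_option maxRecDepth 1000000 in
theorem edges_1_43 : edgesRangeI iota E 1 2046 89213 = true := by decide +kernel

set_option maxRecDepth 1000000 in
theorem edges_1_126 : edgesRangeI iota E 1 1654 244537 = true := by decide +kernel

set_option maxRecDepth 1000000 in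
theorem edges_2_99 : edgesRangeI iota E 2 1744 202401 = true := by decide +kernel

set_option maxRecDepth 1000000 in
theorem edges_3_54 : edgesRangeI iota E 3 2592 150665 = true := by decide +kernel

set_option maxRecDepth 1000000 in
theorem edges_4_35 : edgesRangeI iota E 4 2300 87082 = true := by decide +kernel

set_option maxRecDepth 1000000 in
theorem edges_4_95 : edgesRangeI iota E 4 1938 220780 = true := by decide +kernel

set_option maxRecDepth 1000000 in
theorem edges_5_38 : edgesRangeI iota E 5 2209 101344 = true := by decide +kernel

set_option maxRecDepth 1000000 in
theorem edges_5_104 : edgesRangeI iota E 5 1896 248659 = true := by decide +kernel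

set_option maxRecDepth 1000000 in
theorem edges_6_108 : edgesRangeI iota E 6 1729 253400 = true := by decide +kernel

set_option maxRecDepth 1000000 in
theorem edges_0_43 : edgesRangeI iota E 0 1840 81572 = true := by decide +kernel

set_option maxRecDepth 1000000 in
theorem edges_0_96 : edgesRangeI iota E 0 1739 178958 = true := by decide +kernel

set_option maxRecDepth 1000000 in
theorem edges_0_139 : edgesRangeI iota E 0 1596 253645 = true := by decide +kernel

set_option maxRecDepth 1000000 in
theorem edges_1_80 : edgesRangeI iota E 1 1939 161200 = true := by decide +kernel

set_option maxRecDepth 1000000 in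
theorem edges_2_20 : edgesRangeI iota E 2 2165 45992 = true := by decide +kernel

set_option maxRecDepth 1000000 in
theorem edges_2_89 : edgesRangeI iota E 2 1813 184201 = true := by decide +kernel

set_option maxRecDepth 1000000 in
theorem edges_3_59 : edgesRangeI iota E 3 2428 163350 = true := by decide +kernel

set_option maxRecDepth 1000000 in
theorem edges_4_32 : edgesRangeI iota E 4 2345 80165 = true := by decide +kernel

set_option maxRecDepth 1000000 in
theorem edges_5_22 : edgesRangeI iota E 5 2472 62674 = true := by decide +kernel

set_option maxRecDepth 1000000 in
theorem edges_6_70 : edgesRangeI iota E 6 2185 175261 = true := by decide +kernel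

set_option maxRecDepth 1000000 in
theorem edges_0_3 : edgesRangeI iota E 0 1996 5643 = true := by decide +kernel

set_option maxRecDepth 1000000 in
theorem edges_0_40 : edgesRangeI iota E 0 1983 75850 = true := by decide +kernel

set_option maxRecDepth 1000000 in
theorem edges_0_75 : edgesRangeI iota E 0 1860 140303 = true := by decide +kernel

set_option maxRecDepth 1000000 in
theorem edges_0_118 : edgesRangeI iota E 0 1739 218262 = true := by decide +kernel

set_option maxRecDepth 1000000 in
theorem edges_1_4 : edgesRangeI iota E 1 2181 8582 = true := by decide +kernel

set_option maxRecDepth 1000000 in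
theorem edges_1_32 : edgesRangeI iota E 1 1996 67359 = true := by decide +kernel

set_option maxRecDepth 1000000 in
theorem edges_1_68 : edgesRangeI iota E 1 1938 137885 = true := by decide +kernel

set_option maxRecDepth 1000000 in
theorem edges_1_92 : edgesRangeI iota E 1 1903 183884 = true := by decide +kernel

set_option maxRecDepth 1000000 in
theorem edges_1_125 : edgesRangeI iota E 1 1630 242907 = true := by decide +kernel

set_option maxRecDepth 1000000 in
theorem edges_2_36 : edgesRangeI iota E 2 2023 79498 = true := by decide +kernel

set_option maxRecDepth 1000000 in
theorem edges_2_80 : edgesRangeI iota E 2 1783 167493 = true := by decide +kernel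

set_option maxRecDepth 1000000 in
theorem edges_2_107 : edgesRangeI iota E 2 1661 215909 = true := by decide +kernel

set_option maxRecDepth 1000000 in
theorem edges_3_9 : edgesRangeI iota E 3 3049 31745 = true := by decide +kernel

set_option maxRecDepth 1000000 in
theorem edges_3_45 : edgesRangeI iota E 3 2517 127058 = true := by decide +kernel

set_option maxRecDepth 1000000 in
theorem edges_3_98 : edgesRangeI iota E 3 1657 243271 = true := by decide +kernel

set_option maxRecDepth 1000000 in
theorem edges_4_41 : edgesRangeI iota E 4 2323 100758 = true := by decide +kernel

set_option maxRecDepth 1000000 in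
theorem edges_4_87 : edgesRangeI iota E 4 2119 204434 = true := by decide +kernel

set_option maxRecDepth 1000000 in
theorem edges_5_18 : edgesRangeI iota E 5 2419 52264 = true := by decide +kernel

set_option maxRecDepth 1000000 in
theorem edges_5_49 : edgesRangeI iota E 5 2295 127524 = true := by decide +kernel

set_option maxRecDepth 1000000 in
theorem edges_5_92 : edgesRangeI iota E 5 2048 225650 = true := by decide +kernel

set_option maxRecDepth 1000000 in
theorem edges_6_19 : edgesRangeI iota E 6 2485 53634 = true := by decide +kernel

set_option maxRecDepth 1000000 in
theorem edges_6_64 : edgesRangeI iota E 6 2342 161616 = true := by decide +kernel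

set_option maxRecDepth 1000000 in
theorem edges_0_25 : edgesRangeI iota E 0 1975 47910 = true := by decide +kernel

set_option maxRecDepth 1000000 in
theorem edges_0_49 : edgesRangeI iota E 0 1765 92610 = true := by decide +kernel

set_option maxRecDepth 1000000 in
theorem edges_0_85 : edgesRangeI iota E 0 1848 158848 = true := by decide +kernel

set_option maxRecDepth 1000000 in
theorem edges_0_126 : edgesRangeI iota E 0 1725 231966 = true := by decide +kernel

set_option maxRecDepth 1000000 in
theorem edges_1_9 : edgesRangeI iota E 1 2161 19396 = true := by decide +kernel

set_option maxRecDepth 1000000 in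
theorem edges_1_58 : edgesRangeI iota E 1 1980 118493 = true := by decide +kernel

set_option maxRecDepth 1000000 in
theorem edges_1_105 : edgesRangeI iota E 1 1796 208003 = true := by decide +kernel

set_option maxRecDepth 1000000 in
theorem edges_2_1 : edgesRangeI iota E 2 2456 2422 = true := by decide +kernel

set_option maxRecDepth 1000000 in
theorem edges_2_29 : edgesRangeI iota E 2 2105 65095 = true := by decide +kernel

set_option maxRecDepth 1000000 in
theorem edges_2_71 : edgesRangeI iota E 2 1944 149682 = true := by decide +kernel

set_option maxRecDepth 1000000 in
theorem edges_2_105 : edgesRangeI iota E 2 1616 212637 = true := by decide +kernel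

set_option maxRecDepth 1000000 in
theorem edges_3_32 : edgesRangeI iota E 3 2453 93199 = true := by decide +kernel

set_option maxRecDepth 1000000 in
theorem edges_3_109 : edgesRangeI iota E 3 1542 261190 = true := by decide +kernel

set_option maxRecDepth 1000000 in
theorem edges_4_37 : edgesRangeI iota E 4 2281 91776 = true := by decide +kernel

set_option maxRecDepth 1000000 in
theorem edges_4_69 : edgesRangeI iota E 4 2262 165264 = true := by decide +kernel

set_option maxRecDepth 1000000 in
theorem edges_4_100 : edgesRangeI iota E 4 2002 230567 = true := by decide +kernel

set_option maxRecDepth 1000000 in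
theorem edges_5_1 : edgesRangeI iota E 5 3430 3018 = true := by decide +kernel

set_option maxRecDepth 1000000 in
theorem edges_5_54 : edgesRangeI iota E 5 2422 139490 = true := by decide +kernel

set_option maxRecDepth 1000000 in
theorem edges_5_95 : edgesRangeI iota E 5 1990 231649 = true := by decide +kernel

set_option maxRecDepth 1000000 in
theorem edges_6_30 : edgesRangeI iota E 6 2347 80800 = true := by decide +kernel

set_option maxRecDepth 1000000 in
theorem edges_6_101 : edgesRangeI iota E 6 1807 240712 = true := by decide +kernel

set_option maxRecDepth 1000000 in
theorem edges_0_24 : edgesRangeI iota E 0 2055 45855 = true := by decide +kernel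

set_option maxRecDepth 1000000 in
theorem edges_0_68 : edgesRangeI iota E 0 1886 127452 = true := by decide +kernel

set_option maxRecDepth 1000000 in
theorem edges_0_106 : edgesRangeI iota E 0 1780 196887 = true := by decide +kernel

set_option maxRecDepth 1000000 in
theorem edges_0_138 : edgesRangeI iota E 0 1632 252013 = true := by decide +kernel

set_option maxRecDepth 1000000 in
theorem edges_1_11 : edgesRangeI iota E 1 2194 23668 = true := by decide +kernel

set_option maxRecDepth 1000000 in
theorem edges_1_39 : edgesRangeI iota E 1 1930 81320 = true := by decide +kernel

set_option maxRecDepth 1000000 in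
theorem edges_1_85 : edgesRangeI iota E 1 1908 170791 = true := by decide +kernel

set_option maxRecDepth 1000000 in
theorem edges_1_111 : edgesRangeI iota E 1 1759 218817 = true := by decide +kernel

set_option maxRecDepth 1000000 in
theorem edges_2_9 : edgesRangeI iota E 2 2252 21743 = true := by decide +kernel

set_option maxRecDepth 1000000 in
theorem edges_2_41 : edgesRangeI iota E 2 2169 89516 = true := by decide +kernel

set_option maxRecDepth 1000000 in
theorem edges_2_74 : edgesRangeI iota E 2 1950 155676 = true := by decide +kernel

set_option maxRecDepth 1000000 in
theorem edges_2_122 : edgesRangeI iota E 2 1492 239544 = true := by decide +kernel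

set_option maxRecDepth 1000000 in
theorem edges_3_7 : edgesRangeI iota E 3 3385 25265 = true := by decide +kernel

set_option maxRecDepth 1000000 in
theorem edges_3_52 : edgesRangeI iota E 3 2833 145132 = true := by decide +kernel

set_option maxRecDepth 1000000 in
theorem edges_3_75 : edgesRangeI iota E 3 2214 199521 = true := by decide +kernel

set_option maxRecDepth 1000000 in
theorem edges_4_1 : edgesRangeI iota E 4 2846 2590 = true := by decide +kernel

set_option maxRecDepth 1000000 in
theorem edges_4_16 : edgesRangeI iota E 4 2450 42269 = true := by decide +kernel

set_option maxRecDepth 1000000 in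
theorem edges_4_49 : edgesRangeI iota E 4 2292 119307 = true := by decide +kernel

set_option maxRecDepth 1000000 in
theorem edges_4_75 : edgesRangeI iota E 4 2235 178308 = true := by decide +kernel

set_option maxRecDepth 1000000 in
theorem edges_4_113 : edgesRangeI iota E 4 1768 254909 = true := by decide +kernel

set_option maxRecDepth 1000000 in
theorem edges_5_11 : edgesRangeI iota E 5 2892 33478 = true := by decide +kernel

set_option maxRecDepth 1000000 in
theorem edges_5_34 : edgesRangeI iota E 5 2415 91685 = true := by decide +kernel

set_option maxRecDepth 1000000 in
theorem edges_5_63 : edgesRangeI iota E 5 2380 161798 = true := by decide +kernel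

set_option maxRecDepth 1000000 in
theorem edges_5_84 : edgesRangeI iota E 5 2172 209249 = true := by decide +kernel

set_option maxRecDepth 1000000 in
theorem edges_6_1 : edgesRangeI iota E 6 3327 2920 = true := by decide +kernel

set_option maxRecDepth 1000000 in
theorem edges_6_17 : edgesRangeI iota E 6 2431 48809 = true := by decide +kernel

set_option maxRecDepth 1000000 in
theorem edges_6_47 : edgesRangeI iota E 6 2273 121193 = true := by decide +kernel

set_option maxRecDepth 1000000 in
theorem edges_6_62 : edgesRangeI iota E 6 2512 156665 = true := by decide +kernel

set_option maxRecDepth 1000000 in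
theorem edges_6_93 : edgesRangeI iota E 6 1951 224960 = true := by decide +kernel

set_option maxRecDepth 1000000 in
theorem aliases_4 : aliasRange E 7656 28628 = true := by decide +kernel

set_option maxRecDepth 1000000 in
theorem aliases_13 : aliasRange E 7438 96517 = true := by decide +kernel

set_option maxRecDepth 1000000 in
theorem aliases_21 : aliasRange E 7486 157639 = true := by decide +kernel

set_option maxRecDepth 1000000 in
theorem aliases_29 : aliasRange E 7842 219020 = true := by decide +kernel

set_option maxRecDepth 1000000 in
theorem rows_1 : rowsRange E RS 1500 1500 = true := by decide +kernel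

set_option maxRecDepth 1000000 in
theorem rows_3 : rowsRange E RS 1500 4500 = true := by decide +kernel

set_option maxRecDepth 1000000 in
theorem rows_11 : rowsRange E RS 1500 16500 = true := by decide +kernel

set_option maxRecDepth 1000000 in
theorem rows_19 : rowsRange E RS 1500 28500 = true := by decide +kernel

set_option maxRecDepth 1000000 in
theorem rows_27 : rowsRange E RS 1500 40500 = true := by decide +kernel

set_option maxRecDepth 1000000 in
theorem rows_35 : rowsRange E RS 1500 52500 = true := by decide +kernel

set_option maxRecDepth 1000000 in
theorem rows_43 : rowsRange E RS 1500 64500 = true := by decide +kernel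

set_option maxRecDepth 1000000 in
theorem rows_51 : rowsRange E RS 1500 76500 = true := by decide +kernel

set_option maxRecDepth 1000000 in
theorem rows_59 : rowsRange E RS 1500 88500 = true := by decide +kernel

set_option maxRecDepth 1000000 in
theorem rows_67 : rowsRange E RS 1500 100500 = true := by decide +kernel

set_option maxRecDepth 1000000 in
theorem rows_75 : rowsRange E RS 1500 112500 = true := by decide +kernel

set_option maxRecDepth 1000000 in
theorem rows_83 : rowsRange E RS 1500 124500 = true := by decide +kernel

set_option maxRecDepth 1000000 in
theorem rows_91 : rowsRange E RS 1500 136500 = true := by decide +kernel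

set_option maxRecDepth 1000000 in
theorem rows_99 : rowsRange E RS 1500 148500 = true := by decide +kernel

set_option maxRecDepth 1000000 in
theorem rows_107 : rowsRange E RS 1500 160500 = true := by decide +kernel

set_option maxRecDepth 1000000 in
theorem rows_115 : rowsRange E RS 1500 172500 = true := by decide +kernel

set_option maxRecDepth 1000000 in
theorem rows_123 : rowsRange E RS 1500 184500 = true := by decide +kernel

set_option maxRecDepth 1000000 in
theorem rows_131 : rowsRange E RS 1500 196500 = true := by decide +kernel

set_option maxRecDepth 1000000 in
theorem rows_139 : rowsRange E RS 1500 208500 = true := by decide +kernel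

set_option maxRecDepth 1000000 in
theorem rows_147 : rowsRange E RS 1500 220500 = true := by decide +kernel

set_option maxRecDepth 1000000 in
theorem rows_155 : rowsRange E RS 1500 232500 = true := by decide +kernel

set_option maxRecDepth 1000000 in
theorem rows_163 : rowsRange E RS 1500 244500 = true := by decide +kernel

set_option maxRecDepth 1000000 in
theorem rows_171 : rowsRange E RS 1500 256500 = true := by decide +kernel

set_option maxRecDepth 1000000 in
theorem edges_3_114 : edgesRangeI iota E 3 1001 268341 = true := by decide +kernel

end Cfsg.Agent.Helper5.HeXATC
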