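import Cfsg.Agent.Helper5.HeXATCDatD
import Cfsg.Agent.Helper5.TCIB

/-! kernel checks of edges, aliases, rows: HeXATC -/

set_option autoImplicit false
set_option Elab.async false

namespace Cfsg.Agent.Helper5.HeXATC
open Cfsg.Agent.Helper5.TC Cfsg.Agent.Helper5.TCI

set_option maxRecDepth 1000000 in
theorem cnt_2 : cntFrom RS 20000 40000 0 = 19701 := by decide +kernel

set_option maxRecDepth 1000000 in
theorem cnt_10 : cntFrom RS 20000 200000 0 = 19883 := by decide +kernel

set_option maxRecDepth 1000000 in
theorem edges_2_134 : edgesRangeI iota E 2 1291 256315 = true := by decide +kernel

set_option maxRecDepth 1000000 in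
theorem edges_3_67 : edgesRangeI iota E 3 2376 181972 = true := by decide +kernel

set_option maxRecDepth 1000000 in
theorem edges_3_8 : edgesRangeI iota E 3 3095 28650 = true := by decide +kernel

set_option maxRecDepth 1000000 in
theorem edges_2_47 : edgesRangeI iota E 2 1928 101654 = true := by decide +kernel

set_option maxRecDepth 1000000 in
theorem edges_6_96 : edgesRangeI iota E 6 1988 230845 = true := by decide +kernel

set_option maxRecDepth 1000000 in
theorem edges_1_73 : edgesRangeI iota E 1 1983 147442 = true := by decide +kernel

set_option maxRecDepth 1000000 in
theorem edges_3_58 : edgesRangeI iota E 3 2356 160994 = true := by decide +kernel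

set_option maxRecDepth 1000000 in
theorem edges_5_103 : edgesRangeI iota E 5 1880 246779 = true := by decide +kernel

set_option maxRecDepth 1000000 in
theorem edges_3_2 : edgesRangeI iota E 3 3578 7650 = true := by decide +kernel

set_option maxRecDepth 1000000 in
theorem edges_4_0 : edgesRangeI iota E 4 2590 0 = true := by decide +kernel

set_option maxRecDepth 1000000 in
theorem edges_6_112 : edgesRangeI iota E 6 1710 260232 = true := by decide +kernel

set_option maxRecDepth 1000000 in
theorem edges_0_133 : edgesRangeI iota E 0 1677 243682 = true := by decide +kernel

set_option maxRecDepth 1000000 in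
theorem edges_1_113 : edgesRangeI iota E 1 1711 222343 = true := by decide +kernel

set_option maxRecDepth 1000000 in
theorem edges_2_39 : edgesRangeI iota E 2 1960 85563 = true := by decide +kernel

set_option maxRecDepth 1000000 in
theorem edges_3_12 : edgesRangeI iota E 3 2798 40910 = true := by decide +kernel

set_option maxRecDepth 1000000 in
theorem edges_4_29 : edgesRangeI iota E 4 2340 73231 = true := by decide +kernel

set_option maxRecDepth 1000000 in
theorem edges_4_97 : edgesRangeI iota E 4 1996 224588 = true := by decide +kernel

set_option maxRecDepth 1000000 in
theorem edges_5_98 : edgesRangeI iota E 5 1896 237453 = true := by decide +kernel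

set_option maxRecDepth 1000000 in
theorem edges_6_97 : edgesRangeI iota E 6 2041 232833 = true := by decide +kernel

set_option maxRecDepth 1000000 in
theorem edges_0_52 : edgesRangeI iota E 0 1906 97947 = true := by decide +kernel

set_option maxRecDepth 1000000 in
theorem edges_0_109 : edgesRangeI iota E 0 1792 202300 = true := by decide +kernel

set_option maxRecDepth 1000000 in
theorem edges_1_49 : edgesRangeI iota E 1 1875 101075 = true := by decide +kernel

set_option maxRecDepth 1000000 in
theorem edges_1_130 : edgesRangeI iota E 1 1637 251118 = true := by decide +kernel

set_option maxRecDepth 1000000 in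
theorem edges_2_106 : edgesRangeI iota E 2 1656 214253 = true := by decide +kernel

set_option maxRecDepth 1000000 in
theorem edges_3_65 : edgesRangeI iota E 3 2428 177189 = true := by decide +kernel

set_option maxRecDepth 1000000 in
theorem edges_4_36 : edgesRangeI iota E 4 2394 89382 = true := by decide +kernel

set_option maxRecDepth 1000000 in
theorem edges_4_96 : edgesRangeI iota E 4 1870 222718 = true := by decide +kernel

set_option maxRecDepth 1000000 in
theorem edges_5_39 : edgesRangeI iota E 5 2289 103553 = true := by decide +kernel

set_option maxRecDepth 1000000 in
theorem edges_6_7 : edgesRangeI iota E 6 2877 21635 = true := by decide +kernel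

set_option maxRecDepth 1000000 in
theorem edges_6_110 : edgesRangeI iota E 6 1687 256824 = true := by decide +kernel

set_option maxRecDepth 1000000 in
theorem edges_0_47 : edgesRangeI iota E 0 1873 88821 = true := by decide +kernel

set_option maxRecDepth 1000000 in
theorem edges_0_104 : edgesRangeI iota E 0 1837 193322 = true := by decide +kernel

set_option maxRecDepth 1000000 in
theorem edges_1_12 : edgesRangeI iota E 1 2152 25862 = true := by decide +kernel

set_option maxRecDepth 1000000 in
theorem edges_1_83 : edgesRangeI iota E 1 1873 167046 = true := by decide +kernel

set_option maxRecDepth 1000000 in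
theorem edges_2_23 : edgesRangeI iota E 2 2069 52376 = true := by decide +kernel

set_option maxRecDepth 1000000 in
theorem edges_2_119 : edgesRangeI iota E 2 1529 234978 = true := by decide +kernel

set_option maxRecDepth 1000000 in
theorem edges_3_81 : edgesRangeI iota E 3 1946 211965 = true := by decide +kernel

set_option maxRecDepth 1000000 in
theorem edges_4_34 : edgesRangeI iota E 4 2329 84753 = true := by decide +kernel

set_option maxRecDepth 1000000 in
theorem edges_5_40 : edgesRangeI iota E 5 2518 105842 = true := by decide +kernel

set_option maxRecDepth 1000000 in
theorem edges_6_76 : edgesRangeI iota E 6 2262 188852 = true := by decide +kernel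

set_option maxRecDepth 1000000 in
theorem edges_0_5 : edgesRangeI iota E 0 1978 9617 = true := by decide +kernel

set_option maxRecDepth 1000000 in
theorem edges_0_42 : edgesRangeI iota E 0 1887 79685 = true := by decide +kernel

set_option maxRecDepth 1000000 in
theorem edges_0_76 : edgesRangeI iota E 0 1797 142163 = true := by decide +kernel

set_option maxRecDepth 1000000 in
theorem edges_0_120 : edgesRangeI iota E 0 1718 221683 = true := by decide +kernel

set_option maxRecDepth 1000000 in
theorem edges_1_5 : edgesRangeI iota E 1 2201 10763 = true := by decide +kernel

set_option maxRecDepth 1000000 in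
theorem edges_1_33 : edgesRangeI iota E 1 2028 69355 = true := by decide +kernel

set_option maxRecDepth 1000000 in
theorem edges_1_69 : edgesRangeI iota E 1 1965 139823 = true := by decide +kernel

set_option maxRecDepth 1000000 in
theorem edges_1_94 : edgesRangeI iota E 1 1885 187676 = true := by decide +kernel

set_option maxRecDepth 1000000 in
theorem edges_1_138 : edgesRangeI iota E 1 1538 263867 = true := by decide +kernel

set_option maxRecDepth 1000000 in
theorem edges_2_51 : edgesRangeI iota E 2 1915 109485 = true := by decide +kernel

set_option maxRecDepth 1000000 in
theorem edges_2_84 : edgesRangeI iota E 2 1836 174885 = true := by decide +kernel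

set_option maxRecDepth 1000000 in
theorem edges_2_109 : edgesRangeI iota E 2 1670 219293 = true := by decide +kernel

set_option maxRecDepth 1000000 in
theorem edges_3_17 : edgesRangeI iota E 3 2813 54549 = true := by decide +kernel

set_option maxRecDepth 1000000 in
theorem edges_3_46 : edgesRangeI iota E 3 2384 129575 = true := by decide +kernel

set_option maxRecDepth 1000000 in
theorem edges_3_105 : edgesRangeI iota E 3 1552 255069 = true := by decide +kernel

set_option maxRecDepth 1000000 in
theorem edges_4_43 : edgesRangeI iota E 4 2297 105268 = true := by decide +kernel

set_option maxRecDepth 1000000 in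
theorem edges_4_90 : edgesRangeI iota E 4 2138 210591 = true := by decide +kernel

set_option maxRecDepth 1000000 in
theorem edges_5_19 : edgesRangeI iota E 5 2677 54683 = true := by decide +kernel

set_option maxRecDepth 1000000 in
theorem edges_5_52 : edgesRangeI iota E 5 2367 134638 = true := by decide +kernel

set_option maxRecDepth 1000000 in
theorem edges_5_94 : edgesRangeI iota E 5 2034 229615 = true := by decide +kernel

set_option maxRecDepth 1000000 in
theorem edges_6_22 : edgesRangeI iota E 6 2575 61284 = true := by decide +kernel

set_option maxRecDepth 1000000 in
theorem edges_6_71 : edgesRangeI iota E 6 2324 177446 = true := by decide +kernel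

set_option maxRecDepth 1000000 in
theorem edges_0_27 : edgesRangeI iota E 0 1866 51774 = true := by decide +kernel

set_option maxRecDepth 1000000 in
theorem edges_0_53 : edgesRangeI iota E 0 1884 99853 = true := by decide +kernel

set_option maxRecDepth 1000000 in
theorem edges_0_91 : edgesRangeI iota E 0 1775 169899 = true := by decide +kernel

set_option maxRecDepth 1000000 in
theorem edges_0_127 : edgesRangeI iota E 0 1624 233691 = true := by decide +kernel

set_option maxRecDepth 1000000 in
theorem edges_1_13 : edgesRangeI iota E 1 2096 28014 = true := by decide +kernel

set_option maxRecDepth 1000000 in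
theorem edges_1_59 : edgesRangeI iota E 1 1914 120473 = true := by decide +kernel

set_option maxRecDepth 1000000 in
theorem edges_1_112 : edgesRangeI iota E 1 1767 220576 = true := by decide +kernel

set_option maxRecDepth 1000000 in
theorem edges_2_2 : edgesRangeI iota E 2 2573 4878 = true := by decide +kernel

set_option maxRecDepth 1000000 in
theorem edges_2_31 : edgesRangeI iota E 2 2035 69159 = true := by decide +kernel

set_option maxRecDepth 1000000 in
theorem edges_2_73 : edgesRangeI iota E 2 2025 153651 = true := by decide +kernel

set_option maxRecDepth 1000000 in
theorem edges_2_112 : edgesRangeI iota E 2 1567 224034 = true := by decide +kernel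

set_option maxRecDepth 1000000 in
theorem edges_3_44 : edgesRangeI iota E 3 2271 124787 = true := by decide +kernel

set_option maxRecDepth 1000000 in
theorem edges_3_110 : edgesRangeI iota E 3 1398 262732 = true := by decide +kernel

set_option maxRecDepth 1000000 in
theorem edges_4_40 : edgesRangeI iota E 4 2264 98494 = true := by decide +kernel

set_option maxRecDepth 1000000 in
theorem edges_4_71 : edgesRangeI iota E 4 2168 169703 = true := by decide +kernel

set_option maxRecDepth 1000000 in
theorem edges_4_103 : edgesRangeI iota E 4 1893 236390 = true := by decide +kernel

set_option maxRecDepth 1000000 in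
theorem edges_5_16 : edgesRangeI iota E 5 2629 47214 = true := by decide +kernel

set_option maxRecDepth 1000000 in
theorem edges_5_56 : edgesRangeI iota E 5 2373 144205 = true := by decide +kernel

set_option maxRecDepth 1000000 in
theorem edges_5_107 : edgesRangeI iota E 5 1736 254097 = true := by decide +kernel

set_option maxRecDepth 1000000 in
theorem edges_6_32 : edgesRangeI iota E 6 2204 85383 = true := by decide +kernel

set_option maxRecDepth 1000000 in
theorem edges_0_4 : edgesRangeI iota E 0 1978 7639 = true := by decide +kernel

set_option maxRecDepth 1000000 in
theorem edges_0_17 : edgesRangeI iota E 0 1876 32832 = true := by decide +kernel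

set_option maxRecDepth 1000000 in
theorem edges_0_58 : edgesRangeI iota E 0 1885 108989 = true := by decide +kernel

set_option maxRecDepth 1000000 in
theorem edges_0_89 : edgesRangeI iota E 0 1808 166280 = true := by decide +kernel

set_option maxRecDepth 1000000 in
theorem edges_0_119 : edgesRangeI iota E 0 1682 220001 = true := by decide +kernel

set_option maxRecDepth 1000000 in
theorem edges_1_0 : edgesRangeI iota E 1 2130 0 = true := by decide +kernel

set_option maxRecDepth 1000000 in
theorem edges_1_29 : edgesRangeI iota E 1 2093 61287 = true := by decide +kernel

set_option maxRecDepth 1000000 in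
theorem edges_1_53 : edgesRangeI iota E 1 1951 108695 = true := by decide +kernel

set_option maxRecDepth 1000000 in
theorem edges_1_93 : edgesRangeI iota E 1 1889 185787 = true := by decide +kernel

set_option maxRecDepth 1000000 in
theorem edges_1_129 : edgesRangeI iota E 1 1623 249495 = true := by decide +kernel

set_option maxRecDepth 1000000 in
theorem edges_2_18 : edgesRangeI iota E 2 2119 41670 = true := by decide +kernel

set_option maxRecDepth 1000000 in
theorem edges_2_57 : edgesRangeI iota E 2 1916 121991 = true := by decide +kernel

set_option maxRecDepth 1000000 in
theorem edges_2_79 : edgesRangeI iota E 2 1959 165534 = true := by decide +kernel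

set_option maxRecDepth 1000000 in
theorem edges_2_139 : edgesRangeI iota E 2 1220 262609 = true := by decide +kernel

set_option maxRecDepth 1000000 in
theorem edges_3_19 : edgesRangeI iota E 3 2584 60139 = true := by decide +kernel

set_option maxRecDepth 1000000 in
theorem edges_3_61 : edgesRangeI iota E 3 2343 168167 = true := by decide +kernel

set_option maxRecDepth 1000000 in
theorem edges_3_90 : edgesRangeI iota E 3 1882 229135 = true := by decide +kernel

set_option maxRecDepth 1000000 in
theorem edges_4_10 : edgesRangeI iota E 4 2544 27119 = true := by decide +kernel

set_option maxRecDepth 1000000 in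
theorem edges_4_33 : edgesRangeI iota E 4 2243 82510 = true := by decide +kernel

set_option maxRecDepth 1000000 in
theorem edges_4_64 : edgesRangeI iota E 4 2370 153511 = true := by decide +kernel

set_option maxRecDepth 1000000 in
theorem edges_4_99 : edgesRangeI iota E 4 1995 228572 = true := by decide +kernel

set_option maxRecDepth 1000000 in
theorem edges_5_5 : edgesRangeI iota E 5 2983 16066 = true := by decide +kernel

set_option maxRecDepth 1000000 in
theorem edges_5_21 : edgesRangeI iota E 5 2634 60040 = true := by decide +kernel

set_option maxRecDepth 1000000 in
theorem edges_5_45 : edgesRangeI iota E 5 2371 118415 = true := by decide +kernel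

set_option maxRecDepth 1000000 in
theorem edges_5_68 : edgesRangeI iota E 5 2244 173292 = true := by decide +kernel

set_option maxRecDepth 1000000 in
theorem edges_5_110 : edgesRangeI iota E 5 1684 259227 = true := by decide +kernel

set_option maxRecDepth 1000000 in
theorem edges_6_11 : edgesRangeI iota E 6 2735 32874 = true := by decide +kernel

set_option maxRecDepth 1000000 in
theorem edges_6_36 : edgesRangeI iota E 6 2340 94825 = true := by decide +kernel

set_option maxRecDepth 1000000 in
theorem edges_6_53 : edgesRangeI iota E 6 2314 134849 = true := by decide +kernel

set_option maxRecDepth 1000000 in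
theorem edges_6_75 : edgesRangeI iota E 6 2312 186540 = true := by decide +kernel

set_option maxRecDepth 1000000 in
theorem aliases_0 : aliasRange E 7577 0 = true := by decide +kernel

set_option maxRecDepth 1000000 in
theorem aliases_9 : aliasRange E 7580 66018 = true := by decide +kernel

set_option maxRecDepth 1000000 in
theorem aliases_17 : aliasRange E 7720 126927 = true := by decide +kernel

set_option maxRecDepth 1000000 in
theorem aliases_25 : aliasRange E 7695 188107 = true := by decide +kernel

set_option maxRecDepth 1000000 in
theorem aliases_33 : aliasRange E 7980 250630 = true := by decide +kernel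

set_option maxRecDepth 1000000 in
theorem rows_8 : rowsRange E RS 1500 12000 = true := by decide +kernel

set_option maxRecDepth 1000000 in
theorem rows_16 : rowsRange E RS 1500 24000 = true := by decide +kernel

set_option maxRecDepth 1000000 in
theorem rows_24 : rowsRange E RS 1500 36000 = true := by decide +kernel

set_option maxRecDepth 1000000 in
theorem rows_32 : rowsRange E RS 1500 48000 = true := by decide +kernel

set_option maxRecDepth 1000000 in
theorem rows_40 : rowsRange E RS 1500 60000 = true := by decide +kernel

set_option maxRecDepth 1000000 in
theorem rows_48 : rowsRange E RS 1500 72000 = true := by decide +kernel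

set_option maxRecDepth 1000000 in
theorem rows_56 : rowsRange E RS 1500 84000 = true := by decide +kernel

set_option maxRecDepth 1000000 in
theorem rows_64 : rowsRange E RS 1500 96000 = true := by decide +kernel

set_option maxRecDepth 1000000 in
theorem rows_72 : rowsRange E RS 1500 108000 = true := by decide +kernel

set_option maxRecDepth 1000000 in
theorem rows_80 : rowsRange E RS 1500 120000 = true := by decide +kernel

set_option maxRecDepth 1000000 in
theorem rows_88 : rowsRange E RS 1500 132000 = true := by decide +kernel

set_option maxRecDepth 1000000 in
theorem rows_96 : rowsRange E RS 1500 144000 = true := by decide +kernel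

set_option maxRecDepth 1000000 in
theorem rows_104 : rowsRange E RS 1500 156000 = true := by decide +kernel

set_option maxRecDepth 1000000 in
theorem rows_112 : rowsRange E RS 1500 168000 = true := by decide +kernel

set_option maxRecDepth 1000000 in
theorem rows_120 : rowsRange E RS 1500 180000 = true := by decide +kernel

set_option maxRecDepth 1000000 in
theorem rows_128 : rowsRange E RS 1500 192000 = true := by decide +kernel

set_option maxRecDepth 1000000 in
theorem rows_136 : rowsRange E RS 1500 204000 = true := by decide +kernel

set_option maxRecDepth 1000000 in
theorem rows_144 : rowsRange E RS 1500 216000 = true := by decide +kernel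

set_option maxRecDepth 1000000 in
theorem rows_152 : rowsRange E RS 1500 228000 = true := by decide +kernel

set_option maxRecDepth 1000000 in
theorem rows_160 : rowsRange E RS 1500 240000 = true := by decide +kernel

set_option maxRecDepth 1000000 in
theorem rows_168 : rowsRange E RS 1500 252000 = true := by decide +kernel

set_option maxRecDepth 1000000 in
theorem rows_176 : rowsRange E RS 1500 264000 = true := by decide +kernel

set_option maxRecDepth 1000000 in
theorem edges_4_121 : edgesRangeI iota E 4 750 268592 = true := by decide +kernel

end Cfsg.Agent.Helper5.HeXATC
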