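import Cfsg.Agent.Helper5.HeXATCDatD
import Cfsg.Agent.Helper5.TCIB

/-! kernel checks of edges, aliases, rows: HeXATC -/

set_option autoImplicit false
set_option Elab.async false

namespace Cfsg.Agent.Helper5.HeXATC
open Cfsg.Agent.Helper5.TC Cfsg.Agent.Helper5.TCI

set_option maxRecDepth 1000000 in
theorem cnt_3 : cntFrom RS 20000 60000 0 = 19773 := by decide +kernel

set_option maxRecDepth 1000000 in
theorem cnt_11 : cntFrom RS 20000 220000 0 = 19941 := by decide +kernel

set_option maxRecDepth 1000000 in
theorem edges_3_96 : edgesRangeI iota E 3 1732 239867 = true := by decide +kernel

set_option maxRecDepth 1000000 in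
theorem edges_3_93 : edgesRangeI iota E 3 1813 234680 = true := by decide +kernel

set_option maxRecDepth 1000000 in
theorem edges_3_16 : edgesRangeI iota E 3 2639 51910 = true := by decide +kernel

set_option maxRecDepth 1000000 in
theorem edges_2_138 : edgesRangeI iota E 2 1269 261340 = true := by decide +kernel

set_option maxRecDepth 1000000 in
theorem edges_6_105 : edgesRangeI iota E 6 1863 248039 = true := by decide +kernel

set_option maxRecDepth 1000000 in
theorem edges_1_127 : edgesRangeI iota E 1 1673 246191 = true := by decide +kernel

set_option maxRecDepth 1000000 in
theorem edges_3_69 : edgesRangeI iota E 3 2225 186637 = true := by decide +kernel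

set_option maxRecDepth 1000000 in
theorem edges_5_105 : edgesRangeI iota E 5 1783 250555 = true := by decide +kernel

set_option maxRecDepth 1000000 in
theorem edges_3_13 : edgesRangeI iota E 3 2936 43708 = true := by decide +kernel

set_option maxRecDepth 1000000 in
theorem edges_4_27 : edgesRangeI iota E 4 2281 68659 = true := by decide +kernel

set_option maxRecDepth 1000000 in
theorem edges_6_116 : edgesRangeI iota E 6 1566 266784 = true := by decide +kernel

set_option maxRecDepth 1000000 in
theorem edges_0_145 : edgesRangeI iota E 0 1558 263189 = true := by decide +kernel

set_option maxRecDepth 1000000 in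
theorem edges_1_121 : edgesRangeI iota E 1 1725 236129 = true := by decide +kernel

set_option maxRecDepth 1000000 in
theorem edges_2_43 : edgesRangeI iota E 2 1930 93654 = true := by decide +kernel

set_option maxRecDepth 1000000 in
theorem edges_3_26 : edgesRangeI iota E 3 2729 78182 = true := by decide +kernel

set_option maxRecDepth 1000000 in
theorem edges_4_39 : edgesRangeI iota E 4 2199 96295 = true := by decide +kernel

set_option maxRecDepth 1000000 in
theorem edges_5_37 : edgesRangeI iota E 5 2480 98864 = true := by decide +kernel

set_option maxRecDepth 1000000 in
theorem edges_5_113 : edgesRangeI iota E 5 1613 264101 = true := by decide +kernel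

set_option maxRecDepth 1000000 in
theorem edges_6_103 : edgesRangeI iota E 6 1850 244341 = true := by decide +kernel

set_option maxRecDepth 1000000 in
theorem edges_0_54 : edgesRangeI iota E 0 1818 101737 = true := by decide +kernel

set_option maxRecDepth 1000000 in
theorem edges_0_146 : edgesRangeI iota E 0 1559 264747 = true := by decide +kernel

set_option maxRecDepth 1000000 in
theorem edges_1_57 : edgesRangeI iota E 1 1966 116527 = true := by decide +kernel

set_option maxRecDepth 1000000 in
theorem edges_1_133 : edgesRangeI iota E 1 1613 255980 = true := by decide +kernel

set_option maxRecDepth 1000000 in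
theorem edges_2_124 : edgesRangeI iota E 2 1437 242457 = true := by decide +kernel

set_option maxRecDepth 1000000 in
theorem edges_3_70 : edgesRangeI iota E 3 2142 188862 = true := by decide +kernel

set_option maxRecDepth 1000000 in
theorem edges_4_73 : edgesRangeI iota E 4 2125 174059 = true := by decide +kernel

set_option maxRecDepth 1000000 in
theorem edges_4_98 : edgesRangeI iota E 4 1988 226584 = true := by decide +kernel

set_option maxRecDepth 1000000 in
theorem edges_5_43 : edgesRangeI iota E 5 2645 113098 = true := by decide +kernel

set_option maxRecDepth 1000000 in
theorem edges_6_23 : edgesRangeI iota E 6 2531 63859 = true := by decide +kernel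

set_option maxRecDepth 1000000 in
theorem edges_6_114 : edgesRangeI iota E 6 1607 263587 = true := by decide +kernel

set_option maxRecDepth 1000000 in
theorem edges_0_48 : edgesRangeI iota E 0 1916 90694 = true := by decide +kernel

set_option maxRecDepth 1000000 in
theorem edges_0_107 : edgesRangeI iota E 0 1812 198667 = true := by decide +kernel

set_option maxRecDepth 1000000 in
theorem edges_1_24 : edgesRangeI iota E 1 2048 50982 = true := by decide +kernel

set_option maxRecDepth 1000000 in
theorem edges_1_104 : edgesRangeI iota E 1 1811 206192 = true := by decide +kernel

set_option maxRecDepth 1000000 in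
theorem edges_2_32 : edgesRangeI iota E 2 1984 71194 = true := by decide +kernel

set_option maxRecDepth 1000000 in
theorem edges_2_142 : edgesRangeI iota E 2 1150 266169 = true := by decide +kernel

set_option maxRecDepth 1000000 in
theorem edges_3_85 : edgesRangeI iota E 3 1939 219780 = true := by decide +kernel

set_option maxRecDepth 1000000 in
theorem edges_4_44 : edgesRangeI iota E 4 2230 107565 = true := by decide +kernel

set_option maxRecDepth 1000000 in
theorem edges_5_60 : edgesRangeI iota E 5 2475 153998 = true := by decide +kernel

set_option maxRecDepth 1000000 in
theorem edges_6_85 : edgesRangeI iota E 6 2025 208765 = true := by decide +kernel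

set_option maxRecDepth 1000000 in
theorem edges_0_6 : edgesRangeI iota E 0 1749 11595 = true := by decide +kernel

set_option maxRecDepth 1000000 in
theorem edges_0_44 : edgesRangeI iota E 0 1793 83412 = true := by decide +kernel

set_option maxRecDepth 1000000 in
theorem edges_0_77 : edgesRangeI iota E 0 1776 143960 = true := by decide +kernel

set_option maxRecDepth 1000000 in
theorem edges_0_123 : edgesRangeI iota E 0 1698 226824 = true := by decide +kernel

set_option maxRecDepth 1000000 in
theorem edges_1_7 : edgesRangeI iota E 1 2135 15138 = true := by decide +kernel

set_option maxRecDepth 1000000 in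
theorem edges_1_34 : edgesRangeI iota E 1 2006 71383 = true := by decide +kernel

set_option maxRecDepth 1000000 in
theorem edges_1_71 : edgesRangeI iota E 1 1893 143659 = true := by decide +kernel

set_option maxRecDepth 1000000 in
theorem edges_1_99 : edgesRangeI iota E 1 1876 196922 = true := by decide +kernel

set_option maxRecDepth 1000000 in
theorem edges_1_140 : edgesRangeI iota E 1 1527 266935 = true := by decide +kernel

set_option maxRecDepth 1000000 in
theorem edges_2_53 : edgesRangeI iota E 2 2273 113414 = true := by decide +kernel

set_option maxRecDepth 1000000 in
theorem edges_2_91 : edgesRangeI iota E 2 1889 187866 = true := by decide +kernel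

set_option maxRecDepth 1000000 in
theorem edges_2_111 : edgesRangeI iota E 2 1545 222489 = true := by decide +kernel

set_option maxRecDepth 1000000 in
theorem edges_3_24 : edgesRangeI iota E 3 2576 72908 = true := by decide +kernel

set_option maxRecDepth 1000000 in
theorem edges_3_47 : edgesRangeI iota E 3 2630 131959 = true := by decide +kernel

set_option maxRecDepth 1000000 in
theorem edges_3_111 : edgesRangeI iota E 3 1467 264130 = true := by decide +kernel

set_option maxRecDepth 1000000 in
theorem edges_4_45 : edgesRangeI iota E 4 2228 109795 = true := by decide +kernel

set_option maxRecDepth 1000000 in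
theorem edges_4_106 : edgesRangeI iota E 4 1865 242035 = true := by decide +kernel

set_option maxRecDepth 1000000 in
theorem edges_5_20 : edgesRangeI iota E 5 2680 57360 = true := by decide +kernel

set_option maxRecDepth 1000000 in
theorem edges_5_55 : edgesRangeI iota E 5 2293 141912 = true := by decide +kernel

set_option maxRecDepth 1000000 in
theorem edges_5_97 : edgesRangeI iota E 5 1937 235516 = true := by decide +kernel

set_option maxRecDepth 1000000 in
theorem edges_6_31 : edgesRangeI iota E 6 2236 83147 = true := by decide +kernel

set_option maxRecDepth 1000000 in
theorem edges_6_72 : edgesRangeI iota E 6 2155 179770 = true := by decide +kernel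

set_option maxRecDepth 1000000 in
theorem edges_0_34 : edgesRangeI iota E 0 1952 64725 = true := by decide +kernel

set_option maxRecDepth 1000000 in
theorem edges_0_59 : edgesRangeI iota E 0 1844 110874 = true := by decide +kernel

set_option maxRecDepth 1000000 in
theorem edges_0_95 : edgesRangeI iota E 0 1804 177154 = true := by decide +kernel

set_option maxRecDepth 1000000 in
theorem edges_0_130 : edgesRangeI iota E 0 1650 238700 = true := by decide +kernel

set_option maxRecDepth 1000000 in
theorem edges_1_16 : edgesRangeI iota E 1 2154 34215 = true := by decide +kernel

set_option maxRecDepth 1000000 in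
theorem edges_1_65 : edgesRangeI iota E 1 1869 132231 = true := by decide +kernel

set_option maxRecDepth 1000000 in
theorem edges_1_115 : edgesRangeI iota E 1 1749 225782 = true := by decide +kernel

set_option maxRecDepth 1000000 in
theorem edges_2_6 : edgesRangeI iota E 2 2326 14783 = true := by decide +kernel

set_option maxRecDepth 1000000 in
theorem edges_2_33 : edgesRangeI iota E 2 1952 73178 = true := by decide +kernel

set_option maxRecDepth 1000000 in
theorem edges_2_78 : edgesRangeI iota E 2 1955 163579 = true := by decide +kernel

set_option maxRecDepth 1000000 in
theorem edges_2_118 : edgesRangeI iota E 2 1526 233452 = true := by decide +kernel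

set_option maxRecDepth 1000000 in
theorem edges_3_73 : edgesRangeI iota E 3 2026 195515 = true := by decide +kernel

set_option maxRecDepth 1000000 in
theorem edges_4_5 : edgesRangeI iota E 4 2650 13917 = true := by decide +kernel

set_option maxRecDepth 1000000 in
theorem edges_4_51 : edgesRangeI iota E 4 2214 123843 = true := by decide +kernel

set_option maxRecDepth 1000000 in
theorem edges_4_76 : edgesRangeI iota E 4 2073 180543 = true := by decide +kernel

set_option maxRecDepth 1000000 in
theorem edges_4_104 : edgesRangeI iota E 4 1917 238283 = true := by decide +kernel

set_option maxRecDepth 1000000 in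
theorem edges_5_25 : edgesRangeI iota E 5 2511 69889 = true := by decide +kernel

set_option maxRecDepth 1000000 in
theorem edges_5_57 : edgesRangeI iota E 5 2606 146578 = true := by decide +kernel

set_option maxRecDepth 1000000 in
theorem edges_5_108 : edgesRangeI iota E 5 1723 255833 = true := by decide +kernel

set_option maxRecDepth 1000000 in
theorem edges_6_46 : edgesRangeI iota E 6 2375 118818 = true := by decide +kernel

set_option maxRecDepth 1000000 in
theorem edges_0_9 : edgesRangeI iota E 0 1805 17422 = true := by decide +kernel

set_option maxRecDepth 1000000 in
theorem edges_0_18 : edgesRangeI iota E 0 1647 34708 = true := by decide +kernel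

set_option maxRecDepth 1000000 in
theorem edges_0_61 : edgesRangeI iota E 0 1860 114672 = true := by decide +kernel

set_option maxRecDepth 1000000 in
theorem edges_0_92 : edgesRangeI iota E 0 1837 171674 = true := by decide +kernel

set_option maxRecDepth 1000000 in
theorem edges_0_121 : edgesRangeI iota E 0 1692 223401 = true := by decide +kernel

set_option maxRecDepth 1000000 in
theorem edges_1_6 : edgesRangeI iota E 1 2174 12964 = true := by decide +kernel

set_option maxRecDepth 1000000 in
theorem edges_1_30 : edgesRangeI iota E 1 1987 63380 = true := by decide +kernel

set_option maxRecDepth 1000000 in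
theorem edges_1_62 : edgesRangeI iota E 1 1960 126266 = true := by decide +kernel

set_option maxRecDepth 1000000 in
theorem edges_1_97 : edgesRangeI iota E 1 1775 193278 = true := by decide +kernel

set_option maxRecDepth 1000000 in
theorem edges_1_134 : edgesRangeI iota E 1 1601 257593 = true := by decide +kernel

set_option maxRecDepth 1000000 in
theorem edges_2_24 : edgesRangeI iota E 2 2172 54445 = true := by decide +kernel

set_option maxRecDepth 1000000 in
theorem edges_2_58 : edgesRangeI iota E 2 1978 123907 = true := by decide +kernel

set_option maxRecDepth 1000000 in
theorem edges_2_86 : edgesRangeI iota E 2 1849 178579 = true := by decide +kernel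

set_option maxRecDepth 1000000 in
theorem edges_2_143 : edgesRangeI iota E 2 1146 267319 = true := by decide +kernel

set_option maxRecDepth 1000000 in
theorem edges_3_21 : edgesRangeI iota E 3 2452 65423 = true := by decide +kernel

set_option maxRecDepth 1000000 in
theorem edges_3_63 : edgesRangeI iota E 3 2134 172742 = true := by decide +kernel

set_option maxRecDepth 1000000 in
theorem edges_3_99 : edgesRangeI iota E 3 1729 244928 = true := by decide +kernel

set_option maxRecDepth 1000000 in
theorem edges_4_12 : edgesRangeI iota E 4 2473 32219 = true := by decide +kernel

set_option maxRecDepth 1000000 in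
theorem edges_4_38 : edgesRangeI iota E 4 2238 94057 = true := by decide +kernel

set_option maxRecDepth 1000000 in
theorem edges_4_65 : edgesRangeI iota E 4 2429 155881 = true := by decide +kernel

set_option maxRecDepth 1000000 in
theorem edges_4_101 : edgesRangeI iota E 4 1937 232569 = true := by decide +kernel

set_option maxRecDepth 1000000 in
theorem edges_5_6 : edgesRangeI iota E 5 3138 19049 = true := by decide +kernel

set_option maxRecDepth 1000000 in
theorem edges_5_28 : edgesRangeI iota E 5 2581 77311 = true := by decide +kernel

set_option maxRecDepth 1000000 in
theorem edges_5_50 : edgesRangeI iota E 5 2369 129819 = true := by decide +kernel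

set_option maxRecDepth 1000000 in
theorem edges_5_69 : edgesRangeI iota E 5 2213 175536 = true := by decide +kernel

set_option maxRecDepth 1000000 in
theorem edges_5_111 : edgesRangeI iota E 5 1638 260911 = true := by decide +kernel

set_option maxRecDepth 1000000 in
theorem edges_6_12 : edgesRangeI iota E 6 2743 35609 = true := by decide +kernel

set_option maxRecDepth 1000000 in
theorem edges_6_39 : edgesRangeI iota E 6 2161 101930 = true := by decide +kernel

set_option maxRecDepth 1000000 in
theorem edges_6_54 : edgesRangeI iota E 6 2405 137163 = true := by decide +kernel

set_option maxRecDepth 1000000 in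
theorem edges_6_78 : edgesRangeI iota E 6 2242 193435 = true := by decide +kernel

set_option maxRecDepth 1000000 in
theorem aliases_1 : aliasRange E 7028 7577 = true := by decide +kernel

set_option maxRecDepth 1000000 in
theorem aliases_10 : aliasRange E 7598 73598 = true := by decide +kernel

set_option maxRecDepth 1000000 in
theorem aliases_18 : aliasRange E 7734 134647 = true := by decide +kernel

set_option maxRecDepth 1000000 in
theorem aliases_26 : aliasRange E 7660 195802 = true := by decide +kernel

set_option maxRecDepth 1000000 in
theorem aliases_34 : aliasRange E 7996 258610 = true := by decide +kernel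

set_option maxRecDepth 1000000 in
theorem rows_9 : rowsRange E RS 1500 13500 = true := by decide +kernel

set_option maxRecDepth 1000000 in
theorem rows_17 : rowsRange E RS 1500 25500 = true := by decide +kernel

set_option maxRecDepth 1000000 in
theorem rows_25 : rowsRange E RS 1500 37500 = true := by decide +kernel

set_option maxRecDepth 1000000 in
theorem rows_33 : rowsRange E RS 1500 49500 = true := by decide +kernel

set_option maxRecDepth 1000000 in
theorem rows_41 : rowsRange E RS 1500 61500 = true := by decide +kernel

set_option maxRecDepth 1000000 in
theorem rows_49 : rowsRange E RS 1500 73500 = true := by decide +kernel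

set_option maxRecDepth 1000000 in
theorem rows_57 : rowsRange E RS 1500 85500 = true := by decide +kernel

set_option maxRecDepth 1000000 in
theorem rows_65 : rowsRange E RS 1500 97500 = true := by decide +kernel

set_option maxRecDepth 1000000 in
theorem rows_73 : rowsRange E RS 1500 109500 = true := by decide +kernel

set_option maxRecDepth 1000000 in
theorem rows_81 : rowsRange E RS 1500 121500 = true := by decide +kernel

set_option maxRecDepth 1000000 in
theorem rows_89 : rowsRange E RS 1500 133500 = true := by decide +kernel

set_option maxRecDepth 1000000 in
theorem rows_97 : rowsRange E RS 1500 145500 = true := by decide +kernel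

set_option maxRecDepth 1000000 in
theorem rows_105 : rowsRange E RS 1500 157500 = true := by decide +kernel

set_option maxRecDepth 1000000 in
theorem rows_113 : rowsRange E RS 1500 169500 = true := by decide +kernel

set_option maxRecDepth 1000000 in
theorem rows_121 : rowsRange E RS 1500 181500 = true := by decide +kernel

set_option maxRecDepth 1000000 in
theorem rows_129 : rowsRange E RS 1500 193500 = true := by decide +kernel

set_option maxRecDepth 1000000 in
theorem rows_137 : rowsRange E RS 1500 205500 = true := by decide +kernel

set_option maxRecDepth 1000000 in
theorem rows_145 : rowsRange E RS 1500 217500 = true := by decide +kernel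

set_option maxRecDepth 1000000 in
theorem rows_153 : rowsRange E RS 1500 229500 = true := by decide +kernel

set_option maxRecDepth 1000000 in
theorem rows_161 : rowsRange E RS 1500 241500 = true := by decide +kernel

set_option maxRecDepth 1000000 in
theorem rows_169 : rowsRange E RS 1500 253500 = true := by decide +kernel

set_option maxRecDepth 1000000 in
theorem rows_177 : rowsRange E RS 1500 265500 = true := by decide +kernel

set_option maxRecDepth 1000000 in
theorem rows_179 : rowsRange E RS 842 268500 = true := by decide +kernel

end Cfsg.Agent.Helper5.HeXATC
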