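import Cfsg.Agent.Helper5.HeXATCDatD
import Cfsg.Agent.Helper5.TCIB

/-! kernel checks of edges, aliases, rows: HeXATC -/

set_option autoImplicit false
set_option Elab.async false

namespace Cfsg.Agent.Helper5.HeXATC
open Cfsg.Agent.Helper5.TC Cfsg.Agent.Helper5.TCI

set_option maxRecDepth 1000000 in
theorem cnt_4 : cntFrom RS 20000 80000 0 = 19799 := by decide +kernel

set_option maxRecDepth 1000000 in
theorem cnt_12 : cntFrom RS 20000 240000 0 = 19984 := by decide +kernel

set_option maxRecDepth 1000000 in
theorem edges_2_44 : edgesRangeI iota E 2 1851 95584 = true := by decide +kernel

set_option maxRecDepth 1000000 in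
theorem edges_6_77 : edgesRangeI iota E 6 2321 191114 = true := by decide +kernel

set_option maxRecDepth 1000000 in
theorem edges_3_100 : edgesRangeI iota E 3 1731 246657 = true := by decide +kernel

set_option maxRecDepth 1000000 in
theorem edges_5_7 : edgesRangeI iota E 5 2943 22187 = true := by decide +kernel

set_option maxRecDepth 1000000 in
theorem edges_6_109 : edgesRangeI iota E 6 1695 255129 = true := by decide +kernel

set_option maxRecDepth 1000000 in
theorem edges_2_102 : edgesRangeI iota E 2 1650 207549 = true := by decide +kernel

set_option maxRecDepth 1000000 in
theorem edges_3_84 : edgesRangeI iota E 3 2021 217759 = true := by decide +kernel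

set_option maxRecDepth 1000000 in
theorem edges_6_91 : edgesRangeI iota E 6 1933 221090 = true := by decide +kernel

set_option maxRecDepth 1000000 in
theorem edges_3_20 : edgesRangeI iota E 3 2700 62723 = true := by decide +kernel

set_option maxRecDepth 1000000 in
theorem edges_5_10 : edgesRangeI iota E 5 2713 30765 = true := by decide +kernel

set_option maxRecDepth 1000000 in
theorem edges_0_31 : edgesRangeI iota E 0 1705 59248 = true := by decide +kernel

set_option maxRecDepth 1000000 in
theorem edges_0_117 : edgesRangeI iota E 0 1718 216544 = true := by decide +kernel

set_option maxRecDepth 1000000 in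
theorem edges_1_84 : edgesRangeI iota E 1 1872 168919 = true := by decide +kernel

set_option maxRecDepth 1000000 in
theorem edges_2_4 : edgesRangeI iota E 2 2488 9896 = true := by decide +kernel

set_option maxRecDepth 1000000 in
theorem edges_2_125 : edgesRangeI iota E 2 1442 243894 = true := by decide +kernel

set_option maxRecDepth 1000000 in
theorem edges_3_104 : edgesRangeI iota E 3 1555 253514 = true := by decide +kernel

set_option maxRecDepth 1000000 in
theorem edges_4_63 : edgesRangeI iota E 4 2296 151215 = true := by decide +kernel

set_option maxRecDepth 1000000 in
theorem edges_5_78 : edgesRangeI iota E 5 2274 196051 = true := by decide +kernel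

set_option maxRecDepth 1000000 in
theorem edges_6_66 : edgesRangeI iota E 6 2134 166396 = true := by decide +kernel

set_option maxRecDepth 1000000 in
theorem edges_0_11 : edgesRangeI iota E 0 1940 21301 = true := by decide +kernel

set_option maxRecDepth 1000000 in
theorem edges_0_78 : edgesRangeI iota E 0 1855 145736 = true := by decide +kernel

set_option maxRecDepth 1000000 in
theorem edges_1_36 : edgesRangeI iota E 1 1995 75425 = true := by decide +kernel

set_option maxRecDepth 1000000 in
theorem edges_1_103 : edgesRangeI iota E 1 1860 204332 = true := by decide +kernel

set_option maxRecDepth 1000000 in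
theorem edges_2_61 : edgesRangeI iota E 2 1892 129780 = true := by decide +kernel

set_option maxRecDepth 1000000 in
theorem edges_3_40 : edgesRangeI iota E 3 3090 113780 = true := by decide +kernel

set_option maxRecDepth 1000000 in
theorem edges_4_19 : edgesRangeI iota E 4 2340 49569 = true := by decide +kernel

set_option maxRecDepth 1000000 in
theorem edges_4_91 : edgesRangeI iota E 4 1994 212729 = true := by decide +kernel

set_option maxRecDepth 1000000 in
theorem edges_5_24 : edgesRangeI iota E 5 2338 67551 = true := by decide +kernel

set_option maxRecDepth 1000000 in
theorem edges_5_93 : edgesRangeI iota E 5 1917 227698 = true := by decide +kernel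

set_option maxRecDepth 1000000 in
theorem edges_6_87 : edgesRangeI iota E 6 2117 212905 = true := by decide +kernel

set_option maxRecDepth 1000000 in
theorem edges_0_33 : edgesRangeI iota E 0 2005 62720 = true := by decide +kernel

set_option maxRecDepth 1000000 in
theorem edges_0_90 : edgesRangeI iota E 0 1811 168088 = true := by decide +kernel

set_option maxRecDepth 1000000 in
theorem edges_0_128 : edgesRangeI iota E 0 1700 235315 = true := by decide +kernel

set_option maxRecDepth 1000000 in
theorem edges_1_55 : edgesRangeI iota E 1 2022 112518 = true := by decide +kernel

set_option maxRecDepth 1000000 in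
theorem edges_1_136 : edgesRangeI iota E 1 1574 260748 = true := by decide +kernel

set_option maxRecDepth 1000000 in
theorem edges_2_68 : edgesRangeI iota E 2 1969 143640 = true := by decide +kernel

set_option maxRecDepth 1000000 in
theorem edges_3_48 : edgesRangeI iota E 3 2512 134589 = true := by decide +kernel

set_option maxRecDepth 1000000 in
theorem edges_4_15 : edgesRangeI iota E 4 2484 39785 = true := by decide +kernel

set_option maxRecDepth 1000000 in
theorem edges_4_115 : edgesRangeI iota E 4 1719 258430 = true := by decide +kernel

set_option maxRecDepth 1000000 in
theorem edges_6_41 : edgesRangeI iota E 6 2488 106409 = true := by decide +kernel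

set_option maxRecDepth 1000000 in
theorem edges_0_1 : edgesRangeI iota E 0 1882 1730 = true := by decide +kernel

set_option maxRecDepth 1000000 in
theorem edges_0_36 : edgesRangeI iota E 0 1886 68523 = true := by decide +kernel

set_option maxRecDepth 1000000 in
theorem edges_0_73 : edgesRangeI iota E 0 1830 136595 = true := by decide +kernel

set_option maxRecDepth 1000000 in
theorem edges_0_98 : edgesRangeI iota E 0 1837 182512 = true := by decide +kernel

set_option maxRecDepth 1000000 in
theorem edges_0_144 : edgesRangeI iota E 0 1569 261620 = true := by decide +kernel

set_option maxRecDepth 1000000 in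
theorem edges_1_23 : edgesRangeI iota E 1 2023 48959 = true := by decide +kernel

set_option maxRecDepth 1000000 in
theorem edges_1_61 : edgesRangeI iota E 1 1929 124337 = true := by decide +kernel

set_option maxRecDepth 1000000 in
theorem edges_1_78 : edgesRangeI iota E 1 1926 157252 = true := by decide +kernel

set_option maxRecDepth 1000000 in
theorem edges_1_118 : edgesRangeI iota E 1 1759 230983 = true := by decide +kernel

set_option maxRecDepth 1000000 in
theorem edges_2_30 : edgesRangeI iota E 2 1959 67200 = true := by decide +kernel

set_option maxRecDepth 1000000 in
theorem edges_2_66 : edgesRangeI iota E 2 2128 139489 = true := by decide +kernel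

set_option maxRecDepth 1000000 in
theorem edges_2_95 : edgesRangeI iota E 2 1792 195254 = true := by decide +kernel

set_option maxRecDepth 1000000 in
theorem edges_3_1 : edgesRangeI iota E 3 4019 3631 = true := by decide +kernel

set_option maxRecDepth 1000000 in
theorem edges_3_42 : edgesRangeI iota E 3 2755 119670 = true := by decide +kernel

set_option maxRecDepth 1000000 in
theorem edges_3_71 : edgesRangeI iota E 3 2306 191004 = true := by decide +kernel

set_option maxRecDepth 1000000 in
theorem edges_4_22 : edgesRangeI iota E 4 2469 56765 = true := by decide +kernel

set_option maxRecDepth 1000000 in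
theorem edges_4_60 : edgesRangeI iota E 4 2214 144269 = true := by decide +kernel

set_option maxRecDepth 1000000 in
theorem edges_5_0 : edgesRangeI iota E 5 3018 0 = true := by decide +kernel

set_option maxRecDepth 1000000 in
theorem edges_5_47 : edgesRangeI iota E 5 2146 123212 = true := by decide +kernel

set_option maxRecDepth 1000000 in
theorem edges_5_82 : edgesRangeI iota E 5 2322 204718 = true := by decide +kernel

set_option maxRecDepth 1000000 in
theorem edges_6_8 : edgesRangeI iota E 6 2900 24512 = true := by decide +kernel

set_option maxRecDepth 1000000 in
theorem edges_6_52 : edgesRangeI iota E 6 2353 132496 = true := by decide +kernel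

set_option maxRecDepth 1000000 in
theorem edges_6_90 : edgesRangeI iota E 6 2030 219060 = true := by decide +kernel

set_option maxRecDepth 1000000 in
theorem edges_0_63 : edgesRangeI iota E 0 1804 118414 = true := by decide +kernel

set_option maxRecDepth 1000000 in
theorem edges_0_97 : edgesRangeI iota E 0 1815 180697 = true := by decide +kernel

set_option maxRecDepth 1000000 in
theorem edges_0_132 : edgesRangeI iota E 0 1653 242029 = true := by decide +kernel

set_option maxRecDepth 1000000 in
theorem edges_1_28 : edgesRangeI iota E 1 2081 59206 = true := by decide +kernel

set_option maxRecDepth 1000000 in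
theorem edges_1_66 : edgesRangeI iota E 1 1896 134100 = true := by decide +kernel

set_option maxRecDepth 1000000 in
theorem edges_1_116 : edgesRangeI iota E 1 1721 227531 = true := by decide +kernel

set_option maxRecDepth 1000000 in
theorem edges_2_7 : edgesRangeI iota E 2 2294 17109 = true := by decide +kernel

set_option maxRecDepth 1000000 in
theorem edges_2_42 : edgesRangeI iota E 2 1969 91685 = true := by decide +kernel

set_option maxRecDepth 1000000 in
theorem edges_2_85 : edgesRangeI iota E 2 1858 176721 = true := by decide +kernel

set_option maxRecDepth 1000000 in
theorem edges_2_131 : edgesRangeI iota E 2 1368 252271 = true := by decide +kernel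

set_option maxRecDepth 1000000 in
theorem edges_3_78 : edgesRangeI iota E 3 2064 205858 = true := by decide +kernel

set_option maxRecDepth 1000000 in
theorem edges_4_17 : edgesRangeI iota E 4 2420 44719 = true := by decide +kernel

set_option maxRecDepth 1000000 in
theorem edges_4_56 : edgesRangeI iota E 4 2161 135090 = true := by decide +kernel

set_option maxRecDepth 1000000 in
theorem edges_4_79 : edgesRangeI iota E 4 2161 187179 = true := by decide +kernel

set_option maxRecDepth 1000000 in
theorem edges_4_105 : edgesRangeI iota E 4 1835 240200 = true := by decide +kernel

set_option maxRecDepth 1000000 in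
theorem edges_5_27 : edgesRangeI iota E 5 2348 74963 = true := by decide +kernel

set_option maxRecDepth 1000000 in
theorem edges_5_58 : edgesRangeI iota E 5 2352 149184 = true := by decide +kernel

set_option maxRecDepth 1000000 in
theorem edges_5_115 : edgesRangeI iota E 5 1562 267280 = true := by decide +kernel

set_option maxRecDepth 1000000 in
theorem edges_6_56 : edgesRangeI iota E 6 2288 142059 = true := by decide +kernel

set_option maxRecDepth 1000000 in
theorem edges_0_10 : edgesRangeI iota E 0 2074 19227 = true := by decide +kernel

set_option maxRecDepth 1000000 in
theorem edges_0_19 : edgesRangeI iota E 0 2147 36355 = true := by decide +kernel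

set_option maxRecDepth 1000000 in
theorem edges_0_62 : edgesRangeI iota E 0 1882 116532 = true := by decide +kernel

set_option maxRecDepth 1000000 in
theorem edges_0_101 : edgesRangeI iota E 0 1813 187960 = true := by decide +kernel

set_option maxRecDepth 1000000 in
theorem edges_0_124 : edgesRangeI iota E 0 1702 228522 = true := by decide +kernel

set_option maxRecDepth 1000000 in
theorem edges_1_8 : edgesRangeI iota E 1 2123 17273 = true := by decide +kernel

set_option maxRecDepth 1000000 in
theorem edges_1_31 : edgesRangeI iota E 1 1992 65367 = true := by decide +kernel

set_option maxRecDepth 1000000 in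
theorem edges_1_67 : edgesRangeI iota E 1 1889 135996 = true := by decide +kernel

set_option maxRecDepth 1000000 in
theorem edges_1_98 : edgesRangeI iota E 1 1869 195053 = true := by decide +kernel

set_option maxRecDepth 1000000 in
theorem edges_1_137 : edgesRangeI iota E 1 1545 262322 = true := by decide +kernel

set_option maxRecDepth 1000000 in
theorem edges_2_26 : edgesRangeI iota E 2 2051 58835 = true := by decide +kernel

set_option maxRecDepth 1000000 in
theorem edges_2_65 : edgesRangeI iota E 2 2125 137364 = true := by decide +kernel

set_option maxRecDepth 1000000 in
theorem edges_2_88 : edgesRangeI iota E 2 1921 182280 = true := by decide +kernel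

set_option maxRecDepth 1000000 in
theorem edges_3_0 : edgesRangeI iota E 3 3631 0 = true := by decide +kernel

set_option maxRecDepth 1000000 in
theorem edges_3_27 : edgesRangeI iota E 3 2542 80911 = true := by decide +kernel

set_option maxRecDepth 1000000 in
theorem edges_3_66 : edgesRangeI iota E 3 2355 179617 = true := by decide +kernel

set_option maxRecDepth 1000000 in
theorem edges_3_103 : edgesRangeI iota E 3 1696 251818 = true := by decide +kernel

set_option maxRecDepth 1000000 in
theorem edges_4_13 : edgesRangeI iota E 4 2571 34692 = true := by decide +kernel

set_option maxRecDepth 1000000 in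
theorem edges_4_47 : edgesRangeI iota E 4 2527 114405 = true := by decide +kernel

set_option maxRecDepth 1000000 in
theorem edges_4_66 : edgesRangeI iota E 4 2257 158310 = true := by decide +kernel

set_option maxRecDepth 1000000 in
theorem edges_4_102 : edgesRangeI iota E 4 1884 234506 = true := by decide +kernel

set_option maxRecDepth 1000000 in
theorem edges_5_8 : edgesRangeI iota E 5 2888 25130 = true := by decide +kernel

set_option maxRecDepth 1000000 in
theorem edges_5_30 : edgesRangeI iota E 5 2325 82294 = true := by decide +kernel

set_option maxRecDepth 1000000 in
theorem edges_5_61 : edgesRangeI iota E 5 2681 156473 = true := by decide +kernel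

set_option maxRecDepth 1000000 in
theorem edges_5_72 : edgesRangeI iota E 5 2333 182436 = true := by decide +kernel

set_option maxRecDepth 1000000 in
theorem edges_5_112 : edgesRangeI iota E 5 1552 262549 = true := by decide +kernel

set_option maxRecDepth 1000000 in
theorem edges_6_14 : edgesRangeI iota E 6 2633 40919 = true := by decide +kernel

set_option maxRecDepth 1000000 in
theorem edges_6_42 : edgesRangeI iota E 6 2387 108897 = true := by decide +kernel

set_option maxRecDepth 1000000 in
theorem edges_6_59 : edgesRangeI iota E 6 2459 149314 = true := by decide +kernel

set_option maxRecDepth 1000000 in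
theorem edges_6_83 : edgesRangeI iota E 6 2140 204431 = true := by decide +kernel

set_option maxRecDepth 1000000 in
theorem aliases_2 : aliasRange E 7033 14605 = true := by decide +kernel

set_option maxRecDepth 1000000 in
theorem aliases_11 : aliasRange E 7626 81196 = true := by decide +kernel

set_option maxRecDepth 1000000 in
theorem aliases_19 : aliasRange E 7634 142381 = true := by decide +kernel

set_option maxRecDepth 1000000 in
theorem aliases_27 : aliasRange E 7762 203462 = true := by decide +kernel

set_option maxRecDepth 1000000 in
theorem edges_0_148 : edgesRangeI iota E 0 1482 267860 = true := by decide +kernel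

set_option maxRecDepth 1000000 in
theorem rows_7 : rowsRange E RS 1500 10500 = true := by decide +kernel

set_option maxRecDepth 1000000 in
theorem rows_15 : rowsRange E RS 1500 22500 = true := by decide +kernel

set_option maxRecDepth 1000000 in
theorem rows_23 : rowsRange E RS 1500 34500 = true := by decide +kernel

set_option maxRecDepth 1000000 in
theorem rows_31 : rowsRange E RS 1500 46500 = true := by decide +kernel

set_option maxRecDepth 1000000 in
theorem rows_39 : rowsRange E RS 1500 58500 = true := by decide +kernel

set_option maxRecDepth 1000000 in
theorem rows_47 : rowsRange E RS 1500 70500 = true := by decide +kernel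

set_option maxRecDepth 1000000 in
theorem rows_55 : rowsRange E RS 1500 82500 = true := by decide +kernel

set_option maxRecDepth 1000000 in
theorem rows_63 : rowsRange E RS 1500 94500 = true := by decide +kernel

set_option maxRecDepth 1000000 in
theorem rows_71 : rowsRange E RS 1500 106500 = true := by decide +kernel

set_option maxRecDepth 1000000 in
theorem rows_79 : rowsRange E RS 1500 118500 = true := by decide +kernel

set_option maxRecDepth 1000000 in
theorem rows_87 : rowsRange E RS 1500 130500 = true := by decide +kernel

set_option maxRecDepth 1000000 in
theorem rows_95 : rowsRange E RS 1500 142500 = true := by decide +kernel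

set_option maxRecDepth 1000000 in
theorem rows_103 : rowsRange E RS 1500 154500 = true := by decide +kernel

set_option maxRecDepth 1000000 in
theorem rows_111 : rowsRange E RS 1500 166500 = true := by decide +kernel

set_option maxRecDepth 1000000 in
theorem rows_119 : rowsRange E RS 1500 178500 = true := by decide +kernel

set_option maxRecDepth 1000000 in
theorem rows_127 : rowsRange E RS 1500 190500 = true := by decide +kernel

set_option maxRecDepth 1000000 in
theorem rows_135 : rowsRange E RS 1500 202500 = true := by decide +kernel

set_option maxRecDepth 1000000 in
theorem rows_143 : rowsRange E RS 1500 214500 = true := by decide +kernel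

set_option maxRecDepth 1000000 in
theorem rows_151 : rowsRange E RS 1500 226500 = true := by decide +kernel

set_option maxRecDepth 1000000 in
theorem rows_159 : rowsRange E RS 1500 238500 = true := by decide +kernel

set_option maxRecDepth 1000000 in
theorem rows_167 : rowsRange E RS 1500 250500 = true := by decide +kernel

set_option maxRecDepth 1000000 in
theorem rows_175 : rowsRange E RS 1500 262500 = true := by decide +kernel

set_option maxRecDepth 1000000 in
theorem edges_1_141 : edgesRangeI iota E 1 880 268462 = true := by decide +kernel

end Cfsg.Agent.Helper5.HeXATC
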