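import Cfsg.Agent.Helper5.HeXATCDatD
import Cfsg.Agent.Helper5.TCIB

/-! kernel checks of edges, aliases, rows: HeXATC -/

set_option autoImplicit false
set_option Elab.async false

namespace Cfsg.Agent.Helper5.HeXATC
open Cfsg.Agent.Helper5.TC Cfsg.Agent.Helper5.TCI

set_option maxRecDepth 1000000 in
theorem cnt_5 : cntFrom RS 20000 100000 0 = 19770 := by decide +kernel

set_option maxRecDepth 1000000 in
theorem edges_3_22 : edgesRangeI iota E 3 2482 67875 = true := by decide +kernel

set_option maxRecDepth 1000000 in
theorem edges_2_141 : edgesRangeI iota E 2 1163 265006 = true := by decide +kernel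

set_option maxRecDepth 1000000 in
theorem edges_6_80 : edgesRangeI iota E 6 2182 197892 = true := by decide +kernel

set_option maxRecDepth 1000000 in
theorem edges_2_126 : edgesRangeI iota E 2 1413 245336 = true := by decide +kernel

set_option maxRecDepth 1000000 in
theorem edges_2_120 : edgesRangeI iota E 2 1477 236507 = true := by decide +kernel

set_option maxRecDepth 1000000 in
theorem edges_6_82 : edgesRangeI iota E 6 2181 202250 = true := by decide +kernel

set_option maxRecDepth 1000000 in
theorem edges_6_5 : edgesRangeI iota E 6 2922 15751 = true := by decide +kernel

set_option maxRecDepth 1000000 in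
theorem edges_2_130 : edgesRangeI iota E 2 1356 250915 = true := by decide +kernel

set_option maxRecDepth 1000000 in
theorem edges_4_50 : edgesRangeI iota E 4 2244 121599 = true := by decide +kernel

set_option maxRecDepth 1000000 in
theorem edges_2_97 : edgesRangeI iota E 2 1822 198819 = true := by decide +kernel

set_option maxRecDepth 1000000 in
theorem edges_3_57 : edgesRangeI iota E 3 2534 158460 = true := by decide +kernel

set_option maxRecDepth 1000000 in
theorem edges_6_10 : edgesRangeI iota E 6 2753 30121 = true := by decide +kernel

set_option maxRecDepth 1000000 in
theorem edges_0_81 : edgesRangeI iota E 0 1888 151320 = true := by decide +kernel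

set_option maxRecDepth 1000000 in
theorem edges_1_50 : edgesRangeI iota E 1 1905 102950 = true := by decide +kernel

set_option maxRecDepth 1000000 in
theorem edges_1_122 : edgesRangeI iota E 1 1701 237854 = true := by decide +kernel

set_option maxRecDepth 1000000 in
theorem edges_2_49 : edgesRangeI iota E 2 2008 105458 = true := by decide +kernel

set_option maxRecDepth 1000000 in
theorem edges_3_41 : edgesRangeI iota E 3 2800 116870 = true := by decide +kernel

set_option maxRecDepth 1000000 in
theorem edges_4_42 : edgesRangeI iota E 4 2187 103081 = true := by decide +kernel

set_option maxRecDepth 1000000 in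
theorem edges_5_59 : edgesRangeI iota E 5 2462 151536 = true := by decide +kernel

set_option maxRecDepth 1000000 in
theorem edges_6_4 : edgesRangeI iota E 6 3110 12641 = true := by decide +kernel

set_option maxRecDepth 1000000 in
theorem edges_6_113 : edgesRangeI iota E 6 1645 261942 = true := by decide +kernel

set_option maxRecDepth 1000000 in
theorem edges_0_56 : edgesRangeI iota E 0 1833 105330 = true := by decide +kernel

set_option maxRecDepth 1000000 in
theorem edges_1_20 : edgesRangeI iota E 1 2123 42694 = true := by decide +kernel

set_option maxRecDepth 1000000 in
theorem edges_1_82 : edgesRangeI iota E 1 1956 165090 = true := by decide +kernel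

set_option maxRecDepth 1000000 in
theorem edges_2_10 : edgesRangeI iota E 2 2260 23995 = true := by decide +kernel

set_option maxRecDepth 1000000 in
theorem edges_3_37 : edgesRangeI iota E 3 2768 105697 = true := by decide +kernel

set_option maxRecDepth 1000000 in
theorem edges_3_82 : edgesRangeI iota E 3 1905 213911 = true := by decide +kernel

set_option maxRecDepth 1000000 in
theorem edges_4_85 : edgesRangeI iota E 4 2226 200082 = true := by decide +kernel

set_option maxRecDepth 1000000 in
theorem edges_4_120 : edgesRangeI iota E 4 1671 266921 = true := by decide +kernel

set_option maxRecDepth 1000000 in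
theorem edges_5_79 : edgesRangeI iota E 5 2122 198325 = true := by decide +kernel

set_option maxRecDepth 1000000 in
theorem edges_6_28 : edgesRangeI iota E 6 2488 75923 = true := by decide +kernel

set_option maxRecDepth 1000000 in
theorem edges_0_22 : edgesRangeI iota E 0 1648 42294 = true := by decide +kernel

set_option maxRecDepth 1000000 in
theorem edges_0_65 : edgesRangeI iota E 0 1783 122086 = true := by decide +kernel

set_option maxRecDepth 1000000 in
theorem edges_0_115 : edgesRangeI iota E 0 1766 212993 = true := by decide +kernel

set_option maxRecDepth 1000000 in
theorem edges_1_47 : edgesRangeI iota E 1 1937 97207 = true := by decide +kernel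

set_option maxRecDepth 1000000 in
theorem edges_1_110 : edgesRangeI iota E 1 1752 217065 = true := by decide +kernel

set_option maxRecDepth 1000000 in
theorem edges_2_52 : edgesRangeI iota E 2 2014 111400 = true := by decide +kernel

set_option maxRecDepth 1000000 in
theorem edges_3_23 : edgesRangeI iota E 3 2551 70357 = true := by decide +kernel

set_option maxRecDepth 1000000 in
theorem edges_3_92 : edgesRangeI iota E 3 1824 232856 = true := by decide +kernel

set_option maxRecDepth 1000000 in
theorem edges_4_84 : edgesRangeI iota E 4 2126 197956 = true := by decide +kernel

set_option maxRecDepth 1000000 in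
theorem edges_6_24 : edgesRangeI iota E 6 2224 66390 = true := by decide +kernel

set_option maxRecDepth 1000000 in
theorem edges_6_99 : edgesRangeI iota E 6 1929 236818 = true := by decide +kernel

set_option maxRecDepth 1000000 in
theorem edges_0_32 : edgesRangeI iota E 0 1767 60953 = true := by decide +kernel

set_option maxRecDepth 1000000 in
theorem edges_0_72 : edgesRangeI iota E 0 1840 134755 = true := by decide +kernel

set_option maxRecDepth 1000000 in
theorem edges_0_88 : edgesRangeI iota E 0 1858 164422 = true := by decide +kernel

set_option maxRecDepth 1000000 in
theorem edges_0_143 : edgesRangeI iota E 0 1596 260024 = true := by decide +kernel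

set_option maxRecDepth 1000000 in
theorem edges_1_22 : edgesRangeI iota E 1 2059 46900 = true := by decide +kernel

set_option maxRecDepth 1000000 in
theorem edges_1_45 : edgesRangeI iota E 1 1960 93269 = true := by decide +kernel

set_option maxRecDepth 1000000 in
theorem edges_1_76 : edgesRangeI iota E 1 1960 153284 = true := by decide +kernel

set_option maxRecDepth 1000000 in
theorem edges_1_114 : edgesRangeI iota E 1 1728 224054 = true := by decide +kernel

set_option maxRecDepth 1000000 in
theorem edges_2_14 : edgesRangeI iota E 2 2105 32952 = true := by decide +kernel

set_option maxRecDepth 1000000 in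
theorem edges_2_63 : edgesRangeI iota E 2 1918 133560 = true := by decide +kernel

set_option maxRecDepth 1000000 in
theorem edges_2_94 : edgesRangeI iota E 2 1795 193459 = true := by decide +kernel

set_option maxRecDepth 1000000 in
theorem edges_2_140 : edgesRangeI iota E 2 1177 263829 = true := by decide +kernel

set_option maxRecDepth 1000000 in
theorem edges_3_36 : edgesRangeI iota E 3 2436 103261 = true := by decide +kernel

set_option maxRecDepth 1000000 in
theorem edges_3_68 : edgesRangeI iota E 3 2289 184348 = true := by decide +kernel

set_option maxRecDepth 1000000 in
theorem edges_4_8 : edgesRangeI iota E 4 2657 21835 = true := by decide +kernel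

set_option maxRecDepth 1000000 in
theorem edges_4_59 : edgesRangeI iota E 4 2272 141997 = true := by decide +kernel

set_option maxRecDepth 1000000 in
theorem edges_4_117 : edgesRangeI iota E 4 1727 261869 = true := by decide +kernel

set_option maxRecDepth 1000000 in
theorem edges_5_46 : edgesRangeI iota E 5 2426 120786 = true := by decide +kernel

set_option maxRecDepth 1000000 in
theorem edges_5_80 : edgesRangeI iota E 5 2124 200447 = true := by decide +kernel

set_option maxRecDepth 1000000 in
theorem edges_5_114 : edgesRangeI iota E 5 1566 265714 = true := by decide +kernel

set_option maxRecDepth 1000000 in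
theorem edges_6_43 : edgesRangeI iota E 6 2462 111284 = true := by decide +kernel

set_option maxRecDepth 1000000 in
theorem edges_6_89 : edgesRangeI iota E 6 2007 217053 = true := by decide +kernel

set_option maxRecDepth 1000000 in
theorem edges_0_41 : edgesRangeI iota E 0 1852 77833 = true := by decide +kernel

set_option maxRecDepth 1000000 in
theorem edges_0_84 : edgesRangeI iota E 0 1845 157003 = true := by decide +kernel

set_option maxRecDepth 1000000 in
theorem edges_0_113 : edgesRangeI iota E 0 1807 209437 = true := by decide +kernel

set_option maxRecDepth 1000000 in
theorem edges_1_3 : edgesRangeI iota E 1 2207 6375 = true := by decide +kernel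

set_option maxRecDepth 1000000 in
theorem edges_1_56 : edgesRangeI iota E 1 1987 114540 = true := by decide +kernel

set_option maxRecDepth 1000000 in
theorem edges_1_96 : edgesRangeI iota E 1 1843 191435 = true := by decide +kernel

set_option maxRecDepth 1000000 in
theorem edges_1_139 : edgesRangeI iota E 1 1530 265405 = true := by decide +kernel

set_option maxRecDepth 1000000 in
theorem edges_2_27 : edgesRangeI iota E 2 2128 60886 = true := by decide +kernel

set_option maxRecDepth 1000000 in
theorem edges_2_69 : edgesRangeI iota E 2 2047 145609 = true := by decide +kernel

set_option maxRecDepth 1000000 in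
theorem edges_2_103 : edgesRangeI iota E 2 1723 209199 = true := by decide +kernel

set_option maxRecDepth 1000000 in
theorem edges_3_28 : edgesRangeI iota E 3 2409 83453 = true := by decide +kernel

set_option maxRecDepth 1000000 in
theorem edges_3_102 : edgesRangeI iota E 3 1718 250100 = true := by decide +kernel

set_option maxRecDepth 1000000 in
theorem edges_4_26 : edgesRangeI iota E 4 2287 66372 = true := by decide +kernel

set_option maxRecDepth 1000000 in
theorem edges_4_68 : edgesRangeI iota E 4 2268 162996 = true := by decide +kernel

set_option maxRecDepth 1000000 in
theorem edges_4_93 : edgesRangeI iota E 4 2011 216797 = true := by decide +kernel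

set_option maxRecDepth 1000000 in
theorem edges_4_118 : edgesRangeI iota E 4 1683 263596 = true := by decide +kernel

set_option maxRecDepth 1000000 in
theorem edges_5_53 : edgesRangeI iota E 5 2485 137005 = true := by decide +kernel

set_option maxRecDepth 1000000 in
theorem edges_5_85 : edgesRangeI iota E 5 2097 211421 = true := by decide +kernel

set_option maxRecDepth 1000000 in
theorem edges_6_29 : edgesRangeI iota E 6 2389 78411 = true := by decide +kernel

set_option maxRecDepth 1000000 in
theorem edges_6_100 : edgesRangeI iota E 6 1965 238747 = true := by decide +kernel

set_option maxRecDepth 1000000 in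
theorem edges_0_16 : edgesRangeI iota E 0 1865 30967 = true := by decide +kernel

set_option maxRecDepth 1000000 in
theorem edges_0_46 : edgesRangeI iota E 0 1815 87006 = true := by decide +kernel

set_option maxRecDepth 1000000 in
theorem edges_0_79 : edgesRangeI iota E 0 1861 147591 = true := by decide +kernel

set_option maxRecDepth 1000000 in
theorem edges_0_116 : edgesRangeI iota E 0 1785 214759 = true := by decide +kernel

set_option maxRecDepth 1000000 in
theorem edges_0_147 : edgesRangeI iota E 0 1554 266306 = true := by decide +kernel

set_option maxRecDepth 1000000 in
theorem edges_1_27 : edgesRangeI iota E 1 2044 57162 = true := by decide +kernel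

set_option maxRecDepth 1000000 in
theorem edges_1_52 : edgesRangeI iota E 1 1927 106768 = true := by decide +kernel

set_option maxRecDepth 1000000 in
theorem edges_1_91 : edgesRangeI iota E 1 1900 181984 = true := by decide +kernel

set_option maxRecDepth 1000000 in
theorem edges_1_128 : edgesRangeI iota E 1 1631 247864 = true := by decide +kernel

set_option maxRecDepth 1000000 in
theorem edges_2_17 : edgesRangeI iota E 2 2209 39461 = true := by decide +kernel

set_option maxRecDepth 1000000 in
theorem edges_2_56 : edgesRangeI iota E 2 2037 119954 = true := by decide +kernel

set_option maxRecDepth 1000000 in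
theorem edges_2_77 : edgesRangeI iota E 2 1998 161581 = true := by decide +kernel

set_option maxRecDepth 1000000 in
theorem edges_2_135 : edgesRangeI iota E 2 1280 257606 = true := by decide +kernel

set_option maxRecDepth 1000000 in
theorem edges_3_18 : edgesRangeI iota E 3 2777 57362 = true := by decide +kernel

set_option maxRecDepth 1000000 in
theorem edges_3_60 : edgesRangeI iota E 3 2389 165778 = true := by decide +kernel

set_option maxRecDepth 1000000 in
theorem edges_3_88 : edgesRangeI iota E 3 1888 225495 = true := by decide +kernel

set_option maxRecDepth 1000000 in
theorem edges_4_9 : edgesRangeI iota E 4 2627 24492 = true := by decide +kernel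

set_option maxRecDepth 1000000 in
theorem edges_4_30 : edgesRangeI iota E 4 2309 75571 = true := by decide +kernel

set_option maxRecDepth 1000000 in
theorem edges_4_55 : edgesRangeI iota E 4 2256 132834 = true := by decide +kernel

set_option maxRecDepth 1000000 in
theorem edges_4_82 : edgesRangeI iota E 4 2196 193650 = true := by decide +kernel

set_option maxRecDepth 1000000 in
theorem edges_5_4 : edgesRangeI iota E 5 3138 12928 = true := by decide +kernel

set_option maxRecDepth 1000000 in
theorem edges_5_15 : edgesRangeI iota E 5 2741 44473 = true := by decide +kernel

set_option maxRecDepth 1000000 in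
theorem edges_5_44 : edgesRangeI iota E 5 2672 115743 = true := by decide +kernel

set_option maxRecDepth 1000000 in
theorem edges_5_67 : edgesRangeI iota E 5 2255 171037 = true := by decide +kernel

set_option maxRecDepth 1000000 in
theorem edges_5_100 : edgesRangeI iota E 5 1864 241318 = true := by decide +kernel

set_option maxRecDepth 1000000 in
theorem edges_6_9 : edgesRangeI iota E 6 2709 27412 = true := by decide +kernel

set_option maxRecDepth 1000000 in
theorem edges_6_33 : edgesRangeI iota E 6 2369 87587 = true := by decide +kernel

set_option maxRecDepth 1000000 in
theorem edges_6_51 : edgesRangeI iota E 6 2302 130194 = true := by decide +kernel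

set_option maxRecDepth 1000000 in
theorem edges_6_73 : edgesRangeI iota E 6 2206 181925 = true := by decide +kernel

set_option maxRecDepth 1000000 in
theorem edges_6_111 : edgesRangeI iota E 6 1721 258511 = true := by decide +kernel

set_option maxRecDepth 1000000 in
theorem aliases_7 : aliasRange E 7534 50863 = true := by decide +kernel

set_option maxRecDepth 1000000 in
theorem aliases_16 : aliasRange E 7704 119223 = true := by decide +kernel

set_option maxRecDepth 1000000 in
theorem aliases_24 : aliasRange E 7784 180323 = true := by decide +kernel

set_option maxRecDepth 1000000 in
theorem aliases_32 : aliasRange E 7948 242682 = true := by decide +kernel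

set_option maxRecDepth 1000000 in
theorem rows_6 : rowsRange E RS 1500 9000 = true := by decide +kernel

set_option maxRecDepth 1000000 in
theorem rows_14 : rowsRange E RS 1500 21000 = true := by decide +kernel

set_option maxRecDepth 1000000 in
theorem rows_22 : rowsRange E RS 1500 33000 = true := by decide +kernel

set_option maxRecDepth 1000000 in
theorem rows_30 : rowsRange E RS 1500 45000 = true := by decide +kernel

set_option maxRecDepth 1000000 in
theorem rows_38 : rowsRange E RS 1500 57000 = true := by decide +kernel

set_option maxRecDepth 1000000 in
theorem rows_46 : rowsRange E RS 1500 69000 = true := by decide +kernel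

set_option maxRecDepth 1000000 in
theorem rows_54 : rowsRange E RS 1500 81000 = true := by decide +kernel

set_option maxRecDepth 1000000 in
theorem rows_62 : rowsRange E RS 1500 93000 = true := by decide +kernel

set_option maxRecDepth 1000000 in
theorem rows_70 : rowsRange E RS 1500 105000 = true := by decide +kernel

set_option maxRecDepth 1000000 in
theorem rows_78 : rowsRange E RS 1500 117000 = true := by decide +kernel

set_option maxRecDepth 1000000 in
theorem rows_86 : rowsRange E RS 1500 129000 = true := by decide +kernel

set_option maxRecDepth 1000000 in
theorem rows_94 : rowsRange E RS 1500 141000 = true := by decide +kernel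

set_option maxRecDepth 1000000 in
theorem rows_102 : rowsRange E RS 1500 153000 = true := by decide +kernel

set_option maxRecDepth 1000000 in
theorem rows_110 : rowsRange E RS 1500 165000 = true := by decide +kernel

set_option maxRecDepth 1000000 in
theorem rows_118 : rowsRange E RS 1500 177000 = true := by decide +kernel

set_option maxRecDepth 1000000 in
theorem rows_126 : rowsRange E RS 1500 189000 = true := by decide +kernel

set_option maxRecDepth 1000000 in
theorem rows_134 : rowsRange E RS 1500 201000 = true := by decide +kernel

set_option maxRecDepth 1000000 in
theorem rows_142 : rowsRange E RS 1500 213000 = true := by decide +kernel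

set_option maxRecDepth 1000000 in
theorem rows_150 : rowsRange E RS 1500 225000 = true := by decide +kernel

set_option maxRecDepth 1000000 in
theorem rows_158 : rowsRange E RS 1500 237000 = true := by decide +kernel

set_option maxRecDepth 1000000 in
theorem rows_166 : rowsRange E RS 1500 249000 = true := by decide +kernel

set_option maxRecDepth 1000000 in
theorem rows_174 : rowsRange E RS 1500 261000 = true := by decide +kernel

set_option maxRecDepth 1000000 in
theorem cnt_13 : cntFrom RS 9342 260000 0 = 9341 := by decide +kernel

set_option maxRecDepth 1000000 in
theorem aliases_35 : aliasRange E 2736 266606 = true := by decide +kernel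

end Cfsg.Agent.Helper5.HeXATC
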