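import Cfsg.Agent.Helper5.HeXATCDatD
import Cfsg.Agent.Helper5.TCIB

/-! kernel checks of edges, aliases, rows: HeXATC -/

set_option autoImplicit false
set_option Elab.async false

namespace Cfsg.Agent.Helper5.HeXATC
open Cfsg.Agent.Helper5.TC Cfsg.Agent.Helper5.TCI

set_option maxRecDepth 1000000 in
theorem cnt_6 : cntFrom RS 20000 120000 0 = 19842 := by decide +kernel

set_option maxRecDepth 1000000 in
theorem edges_2_82 : edgesRangeI iota E 2 1805 171224 = true := by decide +kernel

set_option maxRecDepth 1000000 in
theorem edges_2_100 : edgesRangeI iota E 2 1656 204145 = true := by decide +kernel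

set_option maxRecDepth 1000000 in
theorem edges_2_64 : edgesRangeI iota E 2 1886 135478 = true := by decide +kernel

set_option maxRecDepth 1000000 in
theorem edges_2_90 : edgesRangeI iota E 2 1852 186014 = true := by decide +kernel

set_option maxRecDepth 1000000 in
theorem edges_1_14 : edgesRangeI iota E 1 2087 30110 = true := by decide +kernel

set_option maxRecDepth 1000000 in
theorem edges_5_86 : edgesRangeI iota E 5 2119 213518 = true := by decide +kernel

set_option maxRecDepth 1000000 in
theorem edges_3_64 : edgesRangeI iota E 3 2313 174876 = true := by decide +kernel

set_option maxRecDepth 1000000 in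
theorem edges_2_114 : edgesRangeI iota E 2 1551 227239 = true := by decide +kernel

set_option maxRecDepth 1000000 in
theorem edges_3_106 : edgesRangeI iota E 3 1529 256621 = true := by decide +kernel

set_option maxRecDepth 1000000 in
theorem edges_6_95 : edgesRangeI iota E 6 1897 228948 = true := by decide +kernel

set_option maxRecDepth 1000000 in
theorem edges_3_80 : edgesRangeI iota E 3 1979 209986 = true := by decide +kernel

set_option maxRecDepth 1000000 in
theorem edges_6_34 : edgesRangeI iota E 6 2454 89956 = true := by decide +kernel

set_option maxRecDepth 1000000 in
theorem edges_0_100 : edgesRangeI iota E 0 1800 186160 = true := by decide +kernel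

set_option maxRecDepth 1000000 in
theorem edges_1_60 : edgesRangeI iota E 1 1950 122387 = true := by decide +kernel

set_option maxRecDepth 1000000 in
theorem edges_1_132 : edgesRangeI iota E 1 1611 254369 = true := by decide +kernel

set_option maxRecDepth 1000000 in
theorem edges_2_81 : edgesRangeI iota E 2 1948 169276 = true := by decide +kernel

set_option maxRecDepth 1000000 in
theorem edges_3_51 : edgesRangeI iota E 3 2461 142671 = true := by decide +kernel

set_option maxRecDepth 1000000 in
theorem edges_4_52 : edgesRangeI iota E 4 2240 126057 = true := by decide +kernel

set_option maxRecDepth 1000000 in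
theorem edges_5_70 : edgesRangeI iota E 5 2395 177749 = true := by decide +kernel

set_option maxRecDepth 1000000 in
theorem edges_6_55 : edgesRangeI iota E 6 2491 139568 = true := by decide +kernel

set_option maxRecDepth 1000000 in
theorem aliases_8 : aliasRange E 7621 58397 = true := by decide +kernel

set_option maxRecDepth 1000000 in
theorem edges_0_67 : edgesRangeI iota E 0 1789 125663 = true := by decide +kernel

set_option maxRecDepth 1000000 in
theorem edges_1_25 : edgesRangeI iota E 1 2046 53030 = true := by decide +kernel

set_option maxRecDepth 1000000 in
theorem edges_1_95 : edgesRangeI iota E 1 1874 189561 = true := by decide +kernel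

set_option maxRecDepth 1000000 in
theorem edges_2_37 : edgesRangeI iota E 2 2101 81521 = true := by decide +kernel

set_option maxRecDepth 1000000 in
theorem edges_3_39 : edgesRangeI iota E 3 2666 111114 = true := by decide +kernel

set_option maxRecDepth 1000000 in
theorem edges_3_83 : edgesRangeI iota E 3 1943 215816 = true := by decide +kernel

set_option maxRecDepth 1000000 in
theorem edges_4_88 : edgesRangeI iota E 4 2103 206553 = true := by decide +kernel

set_option maxRecDepth 1000000 in
theorem edges_5_17 : edgesRangeI iota E 5 2421 49843 = true := by decide +kernel

set_option maxRecDepth 1000000 in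
theorem edges_5_87 : edgesRangeI iota E 5 2049 215637 = true := by decide +kernel

set_option maxRecDepth 1000000 in
theorem edges_6_40 : edgesRangeI iota E 6 2318 104091 = true := by decide +kernel

set_option maxRecDepth 1000000 in
theorem edges_0_23 : edgesRangeI iota E 0 1913 43942 = true := by decide +kernel

set_option maxRecDepth 1000000 in
theorem edges_0_80 : edgesRangeI iota E 0 1868 149452 = true := by decide +kernel

set_option maxRecDepth 1000000 in
theorem edges_0_122 : edgesRangeI iota E 0 1731 225093 = true := by decide +kernel

set_option maxRecDepth 1000000 in
theorem edges_1_54 : edgesRangeI iota E 1 1872 110646 = true := by decide +kernel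

set_option maxRecDepth 1000000 in
theorem edges_1_123 : edgesRangeI iota E 1 1661 239555 = true := by decide +kernel

set_option maxRecDepth 1000000 in
theorem edges_2_59 : edgesRangeI iota E 2 1955 125885 = true := by decide +kernel

set_option maxRecDepth 1000000 in
theorem edges_3_25 : edgesRangeI iota E 3 2698 75484 = true := by decide +kernel

set_option maxRecDepth 1000000 in
theorem edges_3_97 : edgesRangeI iota E 3 1672 241599 = true := by decide +kernel

set_option maxRecDepth 1000000 in
theorem edges_4_114 : edgesRangeI iota E 4 1753 256677 = true := by decide +kernel

set_option maxRecDepth 1000000 in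
theorem edges_6_38 : edgesRangeI iota E 6 2398 99532 = true := by decide +kernel

set_option maxRecDepth 1000000 in
theorem edges_0_0 : edgesRangeI iota E 0 1730 0 = true := by decide +kernel

set_option maxRecDepth 1000000 in
theorem edges_0_8 : edgesRangeI iota E 0 1870 15552 = true := by decide +kernel

set_option maxRecDepth 1000000 in
theorem edges_0_50 : edgesRangeI iota E 0 1709 94375 = true := by decide +kernel

set_option maxRecDepth 1000000 in
theorem edges_0_83 : edgesRangeI iota E 0 1944 155059 = true := by decide +kernel

set_option maxRecDepth 1000000 in
theorem edges_0_134 : edgesRangeI iota E 0 1678 245359 = true := by decide +kernel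

set_option maxRecDepth 1000000 in
theorem edges_1_18 : edgesRangeI iota E 1 2068 38520 = true := by decide +kernel

set_option maxRecDepth 1000000 in
theorem edges_1_38 : edgesRangeI iota E 1 1908 79412 = true := by decide +kernel

set_option maxRecDepth 1000000 in
theorem edges_1_72 : edgesRangeI iota E 1 1890 145552 = true := by decide +kernel

set_option maxRecDepth 1000000 in
theorem edges_1_101 : edgesRangeI iota E 1 1857 200613 = true := by decide +kernel

set_option maxRecDepth 1000000 in
theorem edges_2_8 : edgesRangeI iota E 2 2340 19403 = true := by decide +kernel

set_option maxRecDepth 1000000 in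
theorem edges_2_55 : edgesRangeI iota E 2 2058 117896 = true := by decide +kernel

set_option maxRecDepth 1000000 in
theorem edges_2_92 : edgesRangeI iota E 2 1819 189755 = true := by decide +kernel

set_option maxRecDepth 1000000 in
theorem edges_2_113 : edgesRangeI iota E 2 1638 225601 = true := by decide +kernel

set_option maxRecDepth 1000000 in
theorem edges_3_31 : edgesRangeI iota E 3 2415 90784 = true := by decide +kernel

set_option maxRecDepth 1000000 in
theorem edges_3_49 : edgesRangeI iota E 3 2723 137101 = true := by decide +kernel

set_option maxRecDepth 1000000 in
theorem edges_4_4 : edgesRangeI iota E 4 2766 11151 = true := by decide +kernel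

set_option maxRecDepth 1000000 in
theorem edges_4_46 : edgesRangeI iota E 4 2382 112023 = true := by decide +kernel

set_option maxRecDepth 1000000 in
theorem edges_4_108 : edgesRangeI iota E 4 1810 245828 = true := by decide +kernel

set_option maxRecDepth 1000000 in
theorem edges_5_26 : edgesRangeI iota E 5 2563 72400 = true := by decide +kernel

set_option maxRecDepth 1000000 in
theorem edges_5_66 : edgesRangeI iota E 5 2261 168776 = true := by decide +kernel

set_option maxRecDepth 1000000 in
theorem edges_5_101 : edgesRangeI iota E 5 1820 243182 = true := by decide +kernel

set_option maxRecDepth 1000000 in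
theorem edges_6_35 : edgesRangeI iota E 6 2415 92410 = true := by decide +kernel

set_option maxRecDepth 1000000 in
theorem edges_6_81 : edgesRangeI iota E 6 2176 200074 = true := by decide +kernel

set_option maxRecDepth 1000000 in
theorem edges_0_38 : edgesRangeI iota E 0 1795 72170 = true := by decide +kernel

set_option maxRecDepth 1000000 in
theorem edges_0_71 : edgesRangeI iota E 0 1794 132961 = true := by decide +kernel

set_option maxRecDepth 1000000 in
theorem edges_0_102 : edgesRangeI iota E 0 1798 189773 = true := by decide +kernel

set_option maxRecDepth 1000000 in
theorem edges_0_142 : edgesRangeI iota E 0 1576 258448 = true := by decide +kernel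

set_option maxRecDepth 1000000 in
theorem edges_1_48 : edgesRangeI iota E 1 1931 99144 = true := by decide +kernel

set_option maxRecDepth 1000000 in
theorem edges_1_77 : edgesRangeI iota E 1 2008 155244 = true := by decide +kernel

set_option maxRecDepth 1000000 in
theorem edges_1_131 : edgesRangeI iota E 1 1614 252755 = true := by decide +kernel

set_option maxRecDepth 1000000 in
theorem edges_2_21 : edgesRangeI iota E 2 2147 48157 = true := by decide +kernel

set_option maxRecDepth 1000000 in
theorem edges_2_48 : edgesRangeI iota E 2 1876 103582 = true := by decide +kernel

set_option maxRecDepth 1000000 in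
theorem edges_2_98 : edgesRangeI iota E 2 1760 200641 = true := by decide +kernel

set_option maxRecDepth 1000000 in
theorem edges_2_137 : edgesRangeI iota E 2 1217 260123 = true := by decide +kernel

set_option maxRecDepth 1000000 in
theorem edges_3_89 : edgesRangeI iota E 3 1752 227383 = true := by decide +kernel

set_option maxRecDepth 1000000 in
theorem edges_4_21 : edgesRangeI iota E 4 2441 54324 = true := by decide +kernel

set_option maxRecDepth 1000000 in
theorem edges_4_61 : edgesRangeI iota E 4 2451 146483 = true := by decide +kernel

set_option maxRecDepth 1000000 in
theorem edges_4_86 : edgesRangeI iota E 4 2126 202308 = true := by decide +kernel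

set_option maxRecDepth 1000000 in
theorem edges_4_111 : edgesRangeI iota E 4 1849 251278 = true := by decide +kernel

set_option maxRecDepth 1000000 in
theorem edges_5_33 : edgesRangeI iota E 5 2511 89174 = true := by decide +kernel

set_option maxRecDepth 1000000 in
theorem edges_5_75 : edgesRangeI iota E 5 2253 189275 = true := by decide +kernel

set_option maxRecDepth 1000000 in
theorem edges_6_21 : edgesRangeI iota E 6 2469 58815 = true := by decide +kernel

set_option maxRecDepth 1000000 in
theorem edges_6_79 : edgesRangeI iota E 6 2215 195677 = true := by decide +kernel

set_option maxRecDepth 1000000 in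
theorem edges_0_14 : edgesRangeI iota E 0 2039 27035 = true := by decide +kernel

set_option maxRecDepth 1000000 in
theorem edges_0_28 : edgesRangeI iota E 0 1795 53640 = true := by decide +kernel

set_option maxRecDepth 1000000 in
theorem edges_0_69 : edgesRangeI iota E 0 1856 129338 = true := by decide +kernel

set_option maxRecDepth 1000000 in
theorem edges_0_112 : edgesRangeI iota E 0 1687 207750 = true := by decide +kernel

set_option maxRecDepth 1000000 in
theorem edges_0_140 : edgesRangeI iota E 0 1603 255241 = true := by decide +kernel

set_option maxRecDepth 1000000 in
theorem edges_1_15 : edgesRangeI iota E 1 2018 32197 = true := by decide +kernel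

set_option maxRecDepth 1000000 in
theorem edges_1_41 : edgesRangeI iota E 1 1986 85197 = true := by decide +kernel

set_option maxRecDepth 1000000 in
theorem edges_1_87 : edgesRangeI iota E 1 1856 174561 = true := by decide +kernel

set_option maxRecDepth 1000000 in
theorem edges_1_119 : edgesRangeI iota E 1 1674 232742 = true := by decide +kernel

set_option maxRecDepth 1000000 in
theorem edges_2_12 : edgesRangeI iota E 2 2231 28536 = true := by decide +kernel

set_option maxRecDepth 1000000 in
theorem edges_2_45 : edgesRangeI iota E 2 2139 97435 = true := by decide +kernel

set_option maxRecDepth 1000000 in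
theorem edges_2_75 : edgesRangeI iota E 2 1973 157626 = true := by decide +kernel

set_option maxRecDepth 1000000 in
theorem edges_2_123 : edgesRangeI iota E 2 1421 241036 = true := by decide +kernel

set_option maxRecDepth 1000000 in
theorem edges_3_10 : edgesRangeI iota E 3 3198 34794 = true := by decide +kernel

set_option maxRecDepth 1000000 in
theorem edges_3_55 : edgesRangeI iota E 3 2596 153257 = true := by decide +kernel

set_option maxRecDepth 1000000 in
theorem edges_3_77 : edgesRangeI iota E 3 2064 203794 = true := by decide +kernel

set_option maxRecDepth 1000000 in
theorem edges_4_3 : edgesRangeI iota E 4 2831 8320 = true := by decide +kernel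

set_option maxRecDepth 1000000 in
theorem edges_4_20 : edgesRangeI iota E 4 2415 51909 = true := by decide +kernel

set_option maxRecDepth 1000000 in
theorem edges_4_53 : edgesRangeI iota E 4 2340 128297 = true := by decide +kernel

set_option maxRecDepth 1000000 in
theorem edges_4_78 : edgesRangeI iota E 4 2229 184950 = true := by decide +kernel

set_option maxRecDepth 1000000 in
theorem edges_5_2 : edgesRangeI iota E 5 3269 6448 = true := by decide +kernel

set_option maxRecDepth 1000000 in
theorem edges_5_13 : edgesRangeI iota E 5 2635 39124 = true := by decide +kernel

set_option maxRecDepth 1000000 in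
theorem edges_5_36 : edgesRangeI iota E 5 2376 96488 = true := by decide +kernel

set_option maxRecDepth 1000000 in
theorem edges_5_64 : edgesRangeI iota E 5 2451 164178 = true := by decide +kernel

set_option maxRecDepth 1000000 in
theorem edges_5_89 : edgesRangeI iota E 5 2035 219690 = true := by decide +kernel

set_option maxRecDepth 1000000 in
theorem edges_6_3 : edgesRangeI iota E 6 3201 9440 = true := by decide +kernel

set_option maxRecDepth 1000000 in
theorem edges_6_20 : edgesRangeI iota E 6 2696 56119 = true := by decide +kernel

set_option maxRecDepth 1000000 in
theorem edges_6_49 : edgesRangeI iota E 6 2193 125631 = true := by decide +kernel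

set_option maxRecDepth 1000000 in
theorem edges_6_63 : edgesRangeI iota E 6 2439 159177 = true := by decide +kernel

set_option maxRecDepth 1000000 in
theorem edges_6_94 : edgesRangeI iota E 6 2037 226911 = true := by decide +kernel

set_option maxRecDepth 1000000 in
theorem aliases_5 : aliasRange E 7307 36284 = true := by decide +kernel

set_option maxRecDepth 1000000 in
theorem aliases_14 : aliasRange E 7736 103955 = true := by decide +kernel

set_option maxRecDepth 1000000 in
theorem aliases_22 : aliasRange E 7620 165125 = true := by decide +kernel

set_option maxRecDepth 1000000 in
theorem aliases_30 : aliasRange E 7896 226862 = true := by decide +kernel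

set_option maxRecDepth 1000000 in
theorem rows_4 : rowsRange E RS 1500 6000 = true := by decide +kernel

set_option maxRecDepth 1000000 in
theorem rows_12 : rowsRange E RS 1500 18000 = true := by decide +kernel

set_option maxRecDepth 1000000 in
theorem rows_20 : rowsRange E RS 1500 30000 = true := by decide +kernel

set_option maxRecDepth 1000000 in
theorem rows_28 : rowsRange E RS 1500 42000 = true := by decide +kernel

set_option maxRecDepth 1000000 in
theorem rows_36 : rowsRange E RS 1500 54000 = true := by decide +kernel

set_option maxRecDepth 1000000 in
theorem rows_44 : rowsRange E RS 1500 66000 = true := by decide +kernel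

set_option maxRecDepth 1000000 in
theorem rows_52 : rowsRange E RS 1500 78000 = true := by decide +kernel

set_option maxRecDepth 1000000 in
theorem rows_60 : rowsRange E RS 1500 90000 = true := by decide +kernel

set_option maxRecDepth 1000000 in
theorem rows_68 : rowsRange E RS 1500 102000 = true := by decide +kernel

set_option maxRecDepth 1000000 in
theorem rows_76 : rowsRange E RS 1500 114000 = true := by decide +kernel

set_option maxRecDepth 1000000 in
theorem rows_84 : rowsRange E RS 1500 126000 = true := by decide +kernel

set_option maxRecDepth 1000000 in
theorem rows_92 : rowsRange E RS 1500 138000 = true := by decide +kernel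

set_option maxRecDepth 1000000 in
theorem rows_100 : rowsRange E RS 1500 150000 = true := by decide +kernel

set_option maxRecDepth 1000000 in
theorem rows_108 : rowsRange E RS 1500 162000 = true := by decide +kernel

set_option maxRecDepth 1000000 in
theorem rows_116 : rowsRange E RS 1500 174000 = true := by decide +kernel

set_option maxRecDepth 1000000 in
theorem rows_124 : rowsRange E RS 1500 186000 = true := by decide +kernel

set_option maxRecDepth 1000000 in
theorem rows_132 : rowsRange E RS 1500 198000 = true := by decide +kernel

set_option maxRecDepth 1000000 in
theorem rows_140 : rowsRange E RS 1500 210000 = true := by decide +kernel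

set_option maxRecDepth 1000000 in
theorem rows_148 : rowsRange E RS 1500 222000 = true := by decide +kernel

set_option maxRecDepth 1000000 in
theorem rows_156 : rowsRange E RS 1500 234000 = true := by decide +kernel

set_option maxRecDepth 1000000 in
theorem rows_164 : rowsRange E RS 1500 246000 = true := by decide +kernel

set_option maxRecDepth 1000000 in
theorem rows_172 : rowsRange E RS 1500 258000 = true := by decide +kernel

set_option maxRecDepth 1000000 in
theorem edges_2_144 : edgesRangeI iota E 2 877 268465 = true := by decide +kernel

end Cfsg.Agent.Helper5.HeXATC
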