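import Cfsg.Agent.Helper5.HeXATCDatD
import Cfsg.Agent.Helper5.TCIB

/-! kernel checks of edges, aliases, rows: HeXATC -/

set_option autoImplicit false
set_option Elab.async false

namespace Cfsg.Agent.Helper5.HeXATC
open Cfsg.Agent.Helper5.TC Cfsg.Agent.Helper5.TCI

set_option maxRecDepth 1000000 in
theorem cnt_7 : cntFrom RS 20000 140000 0 = 19826 := by decide +kernel

set_option maxRecDepth 1000000 in
theorem edges_2_128 : edgesRangeI iota E 2 1458 248115 = true := by decide +kernel

set_option maxRecDepth 1000000 in
theorem edges_2_108 : edgesRangeI iota E 2 1723 217570 = true := by decide +kernel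

set_option maxRecDepth 1000000 in
theorem edges_2_127 : edgesRangeI iota E 2 1366 246749 = true := by decide +kernel

set_option maxRecDepth 1000000 in
theorem edges_2_104 : edgesRangeI iota E 2 1715 210922 = true := by decide +kernel

set_option maxRecDepth 1000000 in
theorem edges_2_115 : edgesRangeI iota E 2 1584 228790 = true := by decide +kernel

set_option maxRecDepth 1000000 in
theorem edges_6_48 : edgesRangeI iota E 6 2165 123466 = true := by decide +kernel

set_option maxRecDepth 1000000 in
theorem edges_5_109 : edgesRangeI iota E 5 1671 257556 = true := by decide +kernel

set_option maxRecDepth 1000000 in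
theorem edges_2_129 : edgesRangeI iota E 2 1342 249573 = true := by decide +kernel

set_option maxRecDepth 1000000 in
theorem edges_3_112 : edgesRangeI iota E 3 1408 265597 = true := by decide +kernel

set_option maxRecDepth 1000000 in
theorem edges_6_104 : edgesRangeI iota E 6 1848 246191 = true := by decide +kernel

set_option maxRecDepth 1000000 in
theorem edges_3_94 : edgesRangeI iota E 3 1664 236493 = true := by decide +kernel

set_option maxRecDepth 1000000 in
theorem edges_6_45 : edgesRangeI iota E 6 2447 116371 = true := by decide +kernel

set_option maxRecDepth 1000000 in
theorem edges_0_108 : edgesRangeI iota E 0 1821 200479 = true := by decide +kernel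

set_option maxRecDepth 1000000 in
theorem edges_1_64 : edgesRangeI iota E 1 1978 130253 = true := by decide +kernel

set_option maxRecDepth 1000000 in
theorem edges_2_0 : edgesRangeI iota E 2 2422 0 = true := by decide +kernel

set_option maxRecDepth 1000000 in
theorem edges_2_83 : edgesRangeI iota E 2 1856 173029 = true := by decide +kernel

set_option maxRecDepth 1000000 in
theorem edges_3_72 : edgesRangeI iota E 3 2205 193310 = true := by decide +kernel

set_option maxRecDepth 1000000 in
theorem edges_4_62 : edgesRangeI iota E 4 2281 148934 = true := by decide +kernel

set_option maxRecDepth 1000000 in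
theorem edges_5_77 : edgesRangeI iota E 5 2298 193753 = true := by decide +kernel

set_option maxRecDepth 1000000 in
theorem edges_6_65 : edgesRangeI iota E 6 2438 163958 = true := by decide +kernel

set_option maxRecDepth 1000000 in
theorem edges_0_7 : edgesRangeI iota E 0 2208 13344 = true := by decide +kernel

set_option maxRecDepth 1000000 in
theorem edges_0_55 : edgesRangeI iota E 0 1775 103555 = true := by decide +kernel

set_option maxRecDepth 1000000 in
theorem edges_1_19 : edgesRangeI iota E 1 2106 40588 = true := by decide +kernel

set_option maxRecDepth 1000000 in
theorem edges_1_81 : edgesRangeI iota E 1 1951 163139 = true := by decide +kernel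

set_option maxRecDepth 1000000 in
theorem edges_2_5 : edgesRangeI iota E 2 2399 12384 = true := by decide +kernel

set_option maxRecDepth 1000000 in
theorem edges_3_33 : edgesRangeI iota E 3 2323 95652 = true := by decide +kernel

set_option maxRecDepth 1000000 in
theorem edges_3_76 : edgesRangeI iota E 3 2059 201735 = true := by decide +kernel

set_option maxRecDepth 1000000 in
theorem edges_4_77 : edgesRangeI iota E 4 2334 182616 = true := by decide +kernel

set_option maxRecDepth 1000000 in
theorem edges_4_119 : edgesRangeI iota E 4 1642 265279 = true := by decide +kernel

set_option maxRecDepth 1000000 in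
theorem edges_5_51 : edgesRangeI iota E 5 2450 132188 = true := by decide +kernel

set_option maxRecDepth 1000000 in
theorem edges_6_25 : edgesRangeI iota E 6 2397 68614 = true := by decide +kernel

set_option maxRecDepth 1000000 in
theorem edges_0_21 : edgesRangeI iota E 0 1820 40474 = true := by decide +kernel

set_option maxRecDepth 1000000 in
theorem edges_0_57 : edgesRangeI iota E 0 1826 107163 = true := by decide +kernel

set_option maxRecDepth 1000000 in
theorem edges_0_111 : edgesRangeI iota E 0 1836 205914 = true := by decide +kernel

set_option maxRecDepth 1000000 in
theorem edges_1_46 : edgesRangeI iota E 1 1978 95229 = true := by decide +kernel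

set_option maxRecDepth 1000000 in
theorem edges_1_106 : edgesRangeI iota E 1 1852 209799 = true := by decide +kernel

set_option maxRecDepth 1000000 in
theorem edges_2_34 : edgesRangeI iota E 2 2174 75130 = true := by decide +kernel

set_option maxRecDepth 1000000 in
theorem edges_3_14 : edgesRangeI iota E 3 2758 46644 = true := by decide +kernel

set_option maxRecDepth 1000000 in
theorem edges_3_91 : edgesRangeI iota E 3 1839 231017 = true := by decide +kernel

set_option maxRecDepth 1000000 in
theorem edges_4_81 : edgesRangeI iota E 4 2170 191480 = true := by decide +kernel

set_option maxRecDepth 1000000 in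
theorem edges_6_13 : edgesRangeI iota E 6 2567 38352 = true := by decide +kernel

set_option maxRecDepth 1000000 in
theorem edges_6_88 : edgesRangeI iota E 6 2031 215022 = true := by decide +kernel

set_option maxRecDepth 1000000 in
theorem edges_0_12 : edgesRangeI iota E 0 1656 23241 = true := by decide +kernel

set_option maxRecDepth 1000000 in
theorem edges_0_60 : edgesRangeI iota E 0 1954 112718 = true := by decide +kernel

set_option maxRecDepth 1000000 in
theorem edges_0_86 : edgesRangeI iota E 0 1892 160696 = true := by decide +kernel

set_option maxRecDepth 1000000 in
theorem edges_0_136 : edgesRangeI iota E 0 1659 248718 = true := by decide +kernel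

set_option maxRecDepth 1000000 in
theorem edges_1_21 : edgesRangeI iota E 1 2083 44817 = true := by decide +kernel

set_option maxRecDepth 1000000 in
theorem edges_1_40 : edgesRangeI iota E 1 1947 83250 = true := by decide +kernel

set_option maxRecDepth 1000000 in
theorem edges_1_74 : edgesRangeI iota E 1 1928 149425 = true := by decide +kernel

set_option maxRecDepth 1000000 in
theorem edges_1_107 : edgesRangeI iota E 1 1801 211651 = true := by decide +kernel

set_option maxRecDepth 1000000 in
theorem edges_2_11 : edgesRangeI iota E 2 2281 26255 = true := by decide +kernel

set_option maxRecDepth 1000000 in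
theorem edges_2_60 : edgesRangeI iota E 2 1940 127840 = true := by decide +kernel

set_option maxRecDepth 1000000 in
theorem edges_2_93 : edgesRangeI iota E 2 1885 191574 = true := by decide +kernel

set_option maxRecDepth 1000000 in
theorem edges_2_116 : edgesRangeI iota E 2 1527 230374 = true := by decide +kernel

set_option maxRecDepth 1000000 in
theorem edges_3_35 : edgesRangeI iota E 3 2670 100591 = true := by decide +kernel

set_option maxRecDepth 1000000 in
theorem edges_3_62 : edgesRangeI iota E 3 2232 170510 = true := by decide +kernel

set_option maxRecDepth 1000000 in
theorem edges_4_6 : edgesRangeI iota E 4 2572 16567 = true := by decide +kernel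

set_option maxRecDepth 1000000 in
theorem edges_4_57 : edgesRangeI iota E 4 2398 137251 = true := by decide +kernel

set_option maxRecDepth 1000000 in
theorem edges_4_109 : edgesRangeI iota E 4 1855 247638 = true := by decide +kernel

set_option maxRecDepth 1000000 in
theorem edges_5_41 : edgesRangeI iota E 5 2376 108360 = true := by decide +kernel

set_option maxRecDepth 1000000 in
theorem edges_5_73 : edgesRangeI iota E 5 2269 184769 = true := by decide +kernel

set_option maxRecDepth 1000000 in
theorem edges_5_106 : edgesRangeI iota E 5 1759 252338 = true := by decide +kernel

set_option maxRecDepth 1000000 in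
theorem edges_6_37 : edgesRangeI iota E 6 2367 97165 = true := by decide +kernel

set_option maxRecDepth 1000000 in
theorem edges_6_84 : edgesRangeI iota E 6 2194 206571 = true := by decide +kernel

set_option maxRecDepth 1000000 in
theorem edges_0_39 : edgesRangeI iota E 0 1885 73965 = true := by decide +kernel

set_option maxRecDepth 1000000 in
theorem edges_0_82 : edgesRangeI iota E 0 1851 153208 = true := by decide +kernel

set_option maxRecDepth 1000000 in
theorem edges_0_110 : edgesRangeI iota E 0 1822 204092 = true := by decide +kernel

set_option maxRecDepth 1000000 in
theorem edges_1_1 : edgesRangeI iota E 1 2113 2130 = true := by decide +kernel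

set_option maxRecDepth 1000000 in
theorem edges_1_51 : edgesRangeI iota E 1 1913 104855 = true := by decide +kernel

set_option maxRecDepth 1000000 in
theorem edges_1_88 : edgesRangeI iota E 1 1841 176417 = true := by decide +kernel

set_option maxRecDepth 1000000 in
theorem edges_1_135 : edgesRangeI iota E 1 1554 259194 = true := by decide +kernel

set_option maxRecDepth 1000000 in
theorem edges_2_22 : edgesRangeI iota E 2 2072 50304 = true := by decide +kernel

set_option maxRecDepth 1000000 in
theorem edges_2_50 : edgesRangeI iota E 2 2019 107466 = true := by decide +kernel

set_option maxRecDepth 1000000 in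
theorem edges_2_101 : edgesRangeI iota E 2 1748 205801 = true := by decide +kernel

set_option maxRecDepth 1000000 in
theorem edges_3_11 : edgesRangeI iota E 3 2918 37992 = true := by decide +kernel

set_option maxRecDepth 1000000 in
theorem edges_3_101 : edgesRangeI iota E 3 1712 248388 = true := by decide +kernel

set_option maxRecDepth 1000000 in
theorem edges_4_23 : edgesRangeI iota E 4 2390 59234 = true := by decide +kernel

set_option maxRecDepth 1000000 in
theorem edges_4_67 : edgesRangeI iota E 4 2429 160567 = true := by decide +kernel

set_option maxRecDepth 1000000 in
theorem edges_4_89 : edgesRangeI iota E 4 1935 208656 = true := by decide +kernel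

set_option maxRecDepth 1000000 in
theorem edges_4_112 : edgesRangeI iota E 4 1782 253127 = true := by decide +kernel

set_option maxRecDepth 1000000 in
theorem edges_5_35 : edgesRangeI iota E 5 2388 94100 = true := by decide +kernel

set_option maxRecDepth 1000000 in
theorem edges_5_76 : edgesRangeI iota E 5 2225 191528 = true := by decide +kernel

set_option maxRecDepth 1000000 in
theorem edges_6_27 : edgesRangeI iota E 6 2449 73474 = true := by decide +kernel

set_option maxRecDepth 1000000 in
theorem edges_6_98 : edgesRangeI iota E 6 1944 234874 = true := by decide +kernel

set_option maxRecDepth 1000000 in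
theorem edges_0_15 : edgesRangeI iota E 0 1893 29074 = true := by decide +kernel

set_option maxRecDepth 1000000 in
theorem edges_0_45 : edgesRangeI iota E 0 1801 85205 = true := by decide +kernel

set_option maxRecDepth 1000000 in
theorem edges_0_70 : edgesRangeI iota E 0 1767 131194 = true := by decide +kernel

set_option maxRecDepth 1000000 in
theorem edges_0_114 : edgesRangeI iota E 0 1749 211244 = true := by decide +kernel

set_option maxRecDepth 1000000 in
theorem edges_0_141 : edgesRangeI iota E 0 1604 256844 = true := by decide +kernel

set_option maxRecDepth 1000000 in
theorem edges_1_17 : edgesRangeI iota E 1 2151 36369 = true := by decide +kernel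

set_option maxRecDepth 1000000 in
theorem edges_1_42 : edgesRangeI iota E 1 2030 87183 = true := by decide +kernel

set_option maxRecDepth 1000000 in
theorem edges_1_90 : edgesRangeI iota E 1 1853 180131 = true := by decide +kernel

set_option maxRecDepth 1000000 in
theorem edges_1_120 : edgesRangeI iota E 1 1713 234416 = true := by decide +kernel

set_option maxRecDepth 1000000 in
theorem edges_2_15 : edgesRangeI iota E 2 2182 35057 = true := by decide +kernel

set_option maxRecDepth 1000000 in
theorem edges_2_54 : edgesRangeI iota E 2 2209 115687 = true := by decide +kernel

set_option maxRecDepth 1000000 in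
theorem edges_2_76 : edgesRangeI iota E 2 1982 159599 = true := by decide +kernel

set_option maxRecDepth 1000000 in
theorem edges_2_132 : edgesRangeI iota E 2 1313 253639 = true := by decide +kernel

set_option maxRecDepth 1000000 in
theorem edges_3_15 : edgesRangeI iota E 3 2508 49402 = true := by decide +kernel

set_option maxRecDepth 1000000 in
theorem edges_3_56 : edgesRangeI iota E 3 2607 155853 = true := by decide +kernel

set_option maxRecDepth 1000000 in
theorem edges_3_86 : edgesRangeI iota E 3 1854 221719 = true := by decide +kernel

set_option maxRecDepth 1000000 in
theorem edges_4_7 : edgesRangeI iota E 4 2696 19139 = true := by decide +kernel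

set_option maxRecDepth 1000000 in
theorem edges_4_24 : edgesRangeI iota E 4 2358 61624 = true := by decide +kernel

set_option maxRecDepth 1000000 in
theorem edges_4_54 : edgesRangeI iota E 4 2197 130637 = true := by decide +kernel

set_option maxRecDepth 1000000 in
theorem edges_4_80 : edgesRangeI iota E 4 2140 189340 = true := by decide +kernel

set_option maxRecDepth 1000000 in
theorem edges_5_3 : edgesRangeI iota E 5 3211 9717 = true := by decide +kernel

set_option maxRecDepth 1000000 in
theorem edges_5_14 : edgesRangeI iota E 5 2714 41759 = true := by decide +kernel

set_option maxRecDepth 1000000 in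
theorem edges_5_42 : edgesRangeI iota E 5 2362 110736 = true := by decide +kernel

set_option maxRecDepth 1000000 in
theorem edges_5_65 : edgesRangeI iota E 5 2147 166629 = true := by decide +kernel

set_option maxRecDepth 1000000 in
theorem edges_5_91 : edgesRangeI iota E 5 1970 223680 = true := by decide +kernel

set_option maxRecDepth 1000000 in
theorem edges_6_6 : edgesRangeI iota E 6 2962 18673 = true := by decide +kernel

set_option maxRecDepth 1000000 in
theorem edges_6_26 : edgesRangeI iota E 6 2463 71011 = true := by decide +kernel

set_option maxRecDepth 1000000 in
theorem edges_6_50 : edgesRangeI iota E 6 2370 127824 = true := by decide +kernel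

set_option maxRecDepth 1000000 in
theorem edges_6_67 : edgesRangeI iota E 6 2265 168530 = true := by decide +kernel

set_option maxRecDepth 1000000 in
theorem edges_6_106 : edgesRangeI iota E 6 1693 249902 = true := by decide +kernel

set_option maxRecDepth 1000000 in
theorem aliases_6 : aliasRange E 7272 43591 = true := by decide +kernel

set_option maxRecDepth 1000000 in
theorem aliases_15 : aliasRange E 7532 111691 = true := by decide +kernel

set_option maxRecDepth 1000000 in
theorem aliases_23 : aliasRange E 7578 172745 = true := by decide +kernel

set_option maxRecDepth 1000000 in
theorem aliases_31 : aliasRange E 7924 234758 = true := by decide +kernel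

set_option maxRecDepth 1000000 in
theorem rows_5 : rowsRange E RS 1500 7500 = true := by decide +kernel

set_option maxRecDepth 1000000 in
theorem rows_13 : rowsRange E RS 1500 19500 = true := by decide +kernel

set_option maxRecDepth 1000000 in
theorem rows_21 : rowsRange E RS 1500 31500 = true := by decide +kernel

set_option maxRecDepth 1000000 in
theorem rows_29 : rowsRange E RS 1500 43500 = true := by decide +kernel

set_option maxRecDepth 1000000 in
theorem rows_37 : rowsRange E RS 1500 55500 = true := by decide +kernel

set_option maxRecDepth 1000000 in
theorem rows_45 : rowsRange E RS 1500 67500 = true := by decide +kernel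

set_option maxRecDepth 1000000 in
theorem rows_53 : rowsRange E RS 1500 79500 = true := by decide +kernel

set_option maxRecDepth 1000000 in
theorem rows_61 : rowsRange E RS 1500 91500 = true := by decide +kernel

set_option maxRecDepth 1000000 in
theorem rows_69 : rowsRange E RS 1500 103500 = true := by decide +kernel

set_option maxRecDepth 1000000 in
theorem rows_77 : rowsRange E RS 1500 115500 = true := by decide +kernel

set_option maxRecDepth 1000000 in
theorem rows_85 : rowsRange E RS 1500 127500 = true := by decide +kernel

set_option maxRecDepth 1000000 in
theorem rows_93 : rowsRange E RS 1500 139500 = true := by decide +kernel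

set_option maxRecDepth 1000000 in
theorem rows_101 : rowsRange E RS 1500 151500 = true := by decide +kernel

set_option maxRecDepth 1000000 in
theorem rows_109 : rowsRange E RS 1500 163500 = true := by decide +kernel

set_option maxRecDepth 1000000 in
theorem rows_117 : rowsRange E RS 1500 175500 = true := by decide +kernel

set_option maxRecDepth 1000000 in
theorem rows_125 : rowsRange E RS 1500 187500 = true := by decide +kernel

set_option maxRecDepth 1000000 in
theorem rows_133 : rowsRange E RS 1500 199500 = true := by decide +kernel

set_option maxRecDepth 1000000 in
theorem rows_141 : rowsRange E RS 1500 211500 = true := by decide +kernel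

set_option maxRecDepth 1000000 in
theorem rows_149 : rowsRange E RS 1500 223500 = true := by decide +kernel

set_option maxRecDepth 1000000 in
theorem rows_157 : rowsRange E RS 1500 235500 = true := by decide +kernel

set_option maxRecDepth 1000000 in
theorem rows_165 : rowsRange E RS 1500 247500 = true := by decide +kernel

set_option maxRecDepth 1000000 in
theorem rows_173 : rowsRange E RS 1500 259500 = true := by decide +kernel

set_option maxRecDepth 1000000 in
theorem edges_6_117 : edgesRangeI iota E 6 992 268350 = true := by decide +kernel

set_option maxRecDepth 1000000 in
theorem edges_5_116 : edgesRangeI iota E 5 500 268842 = true := by decide +kernel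

end Cfsg.Agent.Helper5.HeXATC
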