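import Cfsg.Agent.Helper5.HeXATCDatD
import Cfsg.Agent.Helper5.HeXATCDatT
import Cfsg.Agent.Helper5.TCIB

/-! kernel checks of the coset table: HeXATC -/

set_option autoImplicit false
set_option Elab.async false

namespace Cfsg.Agent.Helper5.HeXATC
open Cfsg.Agent.Helper5.TC Cfsg.Agent.Helper5.TCI

set_option maxRecDepth 1000000 in
theorem relc_0_0 : fixPtsF W_0 100000 0 = true := by decide +kernel

set_option maxRecDepth 1000000 in
theorem relc_27_0 : fixPtsF W_27 100000 0 = true := by decide +kernel

set_option maxRecDepth 1000000 in
theorem relc_6_0 : fixPtsF W_6 50000 0 = true := by decide +kernel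

set_option maxRecDepth 1000000 in
theorem relc_10_2 : fixPtsF W_10 50000 100000 = true := by decide +kernel

set_option maxRecDepth 1000000 in
theorem relc_12_4 : fixPtsF W_12 50000 200000 = true := by decide +kernel

set_option maxRecDepth 1000000 in
theorem relc_17_1 : fixPtsF W_17 50000 50000 = true := by decide +kernel

set_option maxRecDepth 1000000 in
theorem relc_24_3 : fixPtsF W_24 50000 150000 = true := by decide +kernel

set_option maxRecDepth 1000000 in
theorem relc_28_3 : fixPtsF W_28 40000 120000 = true := by decide +kernel

set_option maxRecDepth 1000000 in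
theorem relc_19_2 : fixPtsF W_19 33333 66666 = true := by decide +kernel

set_option maxRecDepth 1000000 in
theorem relc_21_0 : fixPtsF W_21 33333 0 = true := by decide +kernel

set_option maxRecDepth 1000000 in
theorem relc_1_1 : fixPtsF W_1 25000 25000 = true := by decide +kernel

set_option maxRecDepth 1000000 in
theorem relc_26_3 : fixPtsF W_26 25000 75000 = true := by decide +kernel

set_option maxRecDepth 1000000 in
theorem relc_29_5 : fixPtsF W_29 20000 100000 = true := by decide +kernel

set_option maxRecDepth 1000000 in
theorem relc_30_4 : fixPtsF W_30 18181 72724 = true := by decide +kernel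

set_option maxRecDepth 1000000 in
theorem relc_31_2 : fixPtsF W_31 12500 25000 = true := by decide +kernel

set_option maxRecDepth 1000000 in
theorem relc_31_14 : fixPtsF W_31 12500 175000 = true := by decide +kernel

set_option maxRecDepth 1000000 in
theorem relc_14_5 : fixPtsF W_14 10000 50000 = true := by decide +kernel

set_option maxRecDepth 1000000 in
theorem relc_14_17 : fixPtsF W_14 10000 170000 = true := by decide +kernel

set_option maxRecDepth 1000000 in
theorem relc_30_14 : fixPtsF W_30 12026 254534 = true := by decide +kernel

set_option maxRecDepth 1000000 in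
theorem inv_2_1 : invRowFI ctF 266560 2 2 50000 50000 = true := by decide +kernel

set_option maxRecDepth 1000000 in
theorem inv_4_3 : invRowFI ctF 266560 4 4 50000 150000 = true := by decide +kernel

set_option maxRecDepth 1000000 in
theorem relc_2_5 : fixPtsF W_2 16560 250000 = true := by decide +kernel

set_option maxRecDepth 1000000 in
theorem relc_6_5 : fixPtsF W_6 16560 250000 = true := by decide +kernel

set_option maxRecDepth 1000000 in
theorem conn_2 : connF ctF 7 50000 100000 = true := by decide +kernel

end Cfsg.Agent.Helper5.HeXATC
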