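import Cfsg.Agent.Helper5.HeXATCDatD
import Cfsg.Agent.Helper5.HeXATCDatT
import Cfsg.Agent.Helper5.TCIB

/-! kernel checks of the coset table: HeXATC -/

set_option autoImplicit false
set_option Elab.async false

namespace Cfsg.Agent.Helper5.HeXATC
open Cfsg.Agent.Helper5.TC Cfsg.Agent.Helper5.TCI

set_option maxRecDepth 1000000 in
theorem relc_0_1 : fixPtsF W_0 100000 100000 = true := by decide +kernel

set_option maxRecDepth 1000000 in
theorem relc_27_1 : fixPtsF W_27 100000 100000 = true := by decide +kernel

set_option maxRecDepth 1000000 in
theorem relc_6_1 : fixPtsF W_6 50000 50000 = true := by decide +kernel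

set_option maxRecDepth 1000000 in
theorem relc_10_3 : fixPtsF W_10 50000 150000 = true := by decide +kernel

set_option maxRecDepth 1000000 in
theorem relc_15_0 : fixPtsF W_15 50000 0 = true := by decide +kernel

set_option maxRecDepth 1000000 in
theorem relc_17_2 : fixPtsF W_17 50000 100000 = true := by decide +kernel

set_option maxRecDepth 1000000 in
theorem relc_24_4 : fixPtsF W_24 50000 200000 = true := by decide +kernel

set_option maxRecDepth 1000000 in
theorem relc_28_4 : fixPtsF W_28 40000 160000 = true := by decide +kernel

set_option maxRecDepth 1000000 in
theorem relc_19_3 : fixPtsF W_19 33333 99999 = true := by decide +kernel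

set_option maxRecDepth 1000000 in
theorem relc_21_1 : fixPtsF W_21 33333 33333 = true := by decide +kernel

set_option maxRecDepth 1000000 in
theorem relc_1_2 : fixPtsF W_1 25000 50000 = true := by decide +kernel

set_option maxRecDepth 1000000 in
theorem relc_26_4 : fixPtsF W_26 25000 100000 = true := by decide +kernel

set_option maxRecDepth 1000000 in
theorem relc_29_6 : fixPtsF W_29 20000 120000 = true := by decide +kernel

set_option maxRecDepth 1000000 in
theorem relc_30_5 : fixPtsF W_30 18181 90905 = true := by decide +kernel

set_option maxRecDepth 1000000 in
theorem relc_31_3 : fixPtsF W_31 12500 37500 = true := by decide +kernel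

set_option maxRecDepth 1000000 in
theorem relc_31_15 : fixPtsF W_31 12500 187500 = true := by decide +kernel

set_option maxRecDepth 1000000 in
theorem relc_14_6 : fixPtsF W_14 10000 60000 = true := by decide +kernel

set_option maxRecDepth 1000000 in
theorem relc_14_18 : fixPtsF W_14 10000 180000 = true := by decide +kernel

set_option maxRecDepth 1000000 in
theorem relc_14_26 : fixPtsF W_14 6560 260000 = true := by decide +kernel

set_option maxRecDepth 1000000 in
theorem inv_2_0 : invRowFI ctF 266560 2 2 50000 0 = true := by decide +kernel

set_option maxRecDepth 1000000 in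
theorem inv_4_2 : invRowFI ctF 266560 4 4 50000 100000 = true := by decide +kernel

set_option maxRecDepth 1000000 in
theorem inv_6_4 : invRowFI ctF 266560 6 6 50000 200000 = true := by decide +kernel

set_option maxRecDepth 1000000 in
theorem relc_23_5 : fixPtsF W_23 16560 250000 = true := by decide +kernel

set_option maxRecDepth 1000000 in
theorem inv_3_5 : invRowFI ctF 266560 3 3 16560 250000 = true := by decide +kernel

end Cfsg.Agent.Helper5.HeXATC
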