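import Cfsg.Agent.Helper5.HeXATCDatD
import Cfsg.Agent.Helper5.HeXATCDatT
import Cfsg.Agent.Helper5.TCIB

/-! kernel checks of the coset table: HeXATC -/

set_option autoImplicit false
set_option Elab.async false

namespace Cfsg.Agent.Helper5.HeXATC
open Cfsg.Agent.Helper5.TC Cfsg.Agent.Helper5.TCI

set_option maxRecDepth 1000000 in
theorem relc_25_0 : fixPtsF W_25 100000 0 = true := by decide +kernel

set_option maxRecDepth 1000000 in
theorem relc_3_3 : fixPtsF W_3 50000 150000 = true := by decide +kernel

set_option maxRecDepth 1000000 in
theorem relc_5_3 : fixPtsF W_5 50000 150000 = true := by decide +kernel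

set_option maxRecDepth 1000000 in
theorem relc_10_0 : fixPtsF W_10 50000 0 = true := by decide +kernel

set_option maxRecDepth 1000000 in
theorem relc_12_2 : fixPtsF W_12 50000 100000 = true := by decide +kernel

set_option maxRecDepth 1000000 in
theorem relc_16_4 : fixPtsF W_16 50000 200000 = true := by decide +kernel

set_option maxRecDepth 1000000 in
theorem relc_24_1 : fixPtsF W_24 50000 50000 = true := by decide +kernel

set_option maxRecDepth 1000000 in
theorem relc_28_1 : fixPtsF W_28 40000 40000 = true := by decide +kernel

set_option maxRecDepth 1000000 in
theorem relc_8_0 : fixPtsF W_8 33333 0 = true := by decide +kernel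

set_option maxRecDepth 1000000 in
theorem relc_19_4 : fixPtsF W_19 33333 133332 = true := by decide +kernel

set_option maxRecDepth 1000000 in
theorem relc_21_2 : fixPtsF W_21 33333 66666 = true := by decide +kernel

set_option maxRecDepth 1000000 in
theorem relc_1_4 : fixPtsF W_1 25000 100000 = true := by decide +kernel

set_option maxRecDepth 1000000 in
theorem relc_26_6 : fixPtsF W_26 25000 150000 = true := by decide +kernel

set_option maxRecDepth 1000000 in
theorem relc_30_0 : fixPtsF W_30 18181 0 = true := by decide +kernel

set_option maxRecDepth 1000000 in
theorem relc_30_6 : fixPtsF W_30 18181 109086 = true := by decide +kernel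

set_option maxRecDepth 1000000 in
theorem relc_31_6 : fixPtsF W_31 12500 75000 = true := by decide +kernel

set_option maxRecDepth 1000000 in
theorem relc_31_18 : fixPtsF W_31 12500 225000 = true := by decide +kernel

set_option maxRecDepth 1000000 in
theorem relc_14_14 : fixPtsF W_14 10000 140000 = true := by decide +kernel

set_option maxRecDepth 1000000 in
theorem relc_28_6 : fixPtsF W_28 26560 240000 = true := by decide +kernel

set_option maxRecDepth 1000000 in
theorem inv_0_2 : invRowFI ctF 266560 0 0 50000 100000 = true := by decide +kernel

set_option maxRecDepth 1000000 in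
theorem inv_2_4 : invRowFI ctF 266560 2 2 50000 200000 = true := by decide +kernel

set_option maxRecDepth 1000000 in
theorem inv_5_1 : invRowFI ctF 266560 5 5 50000 50000 = true := by decide +kernel

set_option maxRecDepth 1000000 in
theorem relc_5_5 : fixPtsF W_5 16560 250000 = true := by decide +kernel

set_option maxRecDepth 1000000 in
theorem conn_1 : connF ctF 7 50000 50000 = true := by decide +kernel

end Cfsg.Agent.Helper5.HeXATC
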