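import Cfsg.Agent.Helper5.HeXATCDatD
import Cfsg.Agent.Helper5.HeXATCDatT
import Cfsg.Agent.Helper5.TCIB

/-! kernel checks of the coset table: HeXATC -/

set_option autoImplicit false
set_option Elab.async false

namespace Cfsg.Agent.Helper5.HeXATC
open Cfsg.Agent.Helper5.TC Cfsg.Agent.Helper5.TCI

set_option maxRecDepth 1000000 in
theorem relc_25_1 : fixPtsF W_25 100000 100000 = true := by decide +kernel

set_option maxRecDepth 1000000 in
theorem relc_3_4 : fixPtsF W_3 50000 200000 = true := by decide +kernel

set_option maxRecDepth 1000000 in
theorem relc_5_4 : fixPtsF W_5 50000 200000 = true := by decide +kernel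

set_option maxRecDepth 1000000 in
theorem relc_10_1 : fixPtsF W_10 50000 50000 = true := by decide +kernel

set_option maxRecDepth 1000000 in
theorem relc_12_3 : fixPtsF W_12 50000 150000 = true := by decide +kernel

set_option maxRecDepth 1000000 in
theorem relc_17_0 : fixPtsF W_17 50000 0 = true := by decide +kernel

set_option maxRecDepth 1000000 in
theorem relc_24_2 : fixPtsF W_24 50000 100000 = true := by decide +kernel

set_option maxRecDepth 1000000 in
theorem relc_28_2 : fixPtsF W_28 40000 80000 = true := by decide +kernel

set_option maxRecDepth 1000000 in
theorem relc_8_1 : fixPtsF W_8 33333 33333 = true := by decide +kernel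

set_option maxRecDepth 1000000 in
theorem relc_19_5 : fixPtsF W_19 33333 166665 = true := by decide +kernel

set_option maxRecDepth 1000000 in
theorem relc_21_3 : fixPtsF W_21 33333 99999 = true := by decide +kernel

set_option maxRecDepth 1000000 in
theorem relc_1_5 : fixPtsF W_1 25000 125000 = true := by decide +kernel

set_option maxRecDepth 1000000 in
theorem relc_26_7 : fixPtsF W_26 25000 175000 = true := by decide +kernel

set_option maxRecDepth 1000000 in
theorem relc_30_1 : fixPtsF W_30 18181 18181 = true := by decide +kernel

set_option maxRecDepth 1000000 in
theorem relc_30_7 : fixPtsF W_30 18181 127267 = true := by decide +kernel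

set_option maxRecDepth 1000000 in
theorem relc_31_7 : fixPtsF W_31 12500 87500 = true := by decide +kernel

set_option maxRecDepth 1000000 in
theorem relc_31_19 : fixPtsF W_31 12500 237500 = true := by decide +kernel

set_option maxRecDepth 1000000 in
theorem relc_14_15 : fixPtsF W_14 10000 150000 = true := by decide +kernel

set_option maxRecDepth 1000000 in
theorem relc_1_10 : fixPtsF W_1 16560 250000 = true := by decide +kernel

set_option maxRecDepth 1000000 in
theorem inv_0_0 : invRowFI ctF 266560 0 0 50000 0 = true := by decide +kernel

set_option maxRecDepth 1000000 in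
theorem inv_2_2 : invRowFI ctF 266560 2 2 50000 100000 = true := by decide +kernel

set_option maxRecDepth 1000000 in
theorem inv_4_4 : invRowFI ctF 266560 4 4 50000 200000 = true := by decide +kernel

set_option maxRecDepth 1000000 in
theorem relc_3_5 : fixPtsF W_3 16560 250000 = true := by decide +kernel

set_option maxRecDepth 1000000 in
theorem relc_24_5 : fixPtsF W_24 16560 250000 = true := by decide +kernel

end Cfsg.Agent.Helper5.HeXATC
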