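import Cfsg.Agent.Helper5.HeXATCDatD
import Cfsg.Agent.Helper5.HeXATCDatT
import Cfsg.Agent.Helper5.TCIB

/-! kernel checks of the coset table: HeXATC -/

set_option autoImplicit false
set_option Elab.async false

namespace Cfsg.Agent.Helper5.HeXATC
open Cfsg.Agent.Helper5.TC Cfsg.Agent.Helper5.TCI

set_option maxRecDepth 1000000 in
theorem relc_7_0 : fixPtsF W_7 100000 0 = true := by decide +kernel

set_option maxRecDepth 1000000 in
theorem relc_2_0 : fixPtsF W_2 50000 0 = true := by decide +kernel

set_option maxRecDepth 1000000 in
theorem relc_4_0 : fixPtsF W_4 50000 0 = true := by decide +kernel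

set_option maxRecDepth 1000000 in
theorem relc_6_2 : fixPtsF W_6 50000 100000 = true := by decide +kernel

set_option maxRecDepth 1000000 in
theorem relc_10_4 : fixPtsF W_10 50000 200000 = true := by decide +kernel

set_option maxRecDepth 1000000 in
theorem relc_15_1 : fixPtsF W_15 50000 50000 = true := by decide +kernel

set_option maxRecDepth 1000000 in
theorem relc_17_3 : fixPtsF W_17 50000 150000 = true := by decide +kernel

set_option maxRecDepth 1000000 in
theorem relc_0_2 : fixPtsF W_0 66560 200000 = true := by decide +kernel

set_option maxRecDepth 1000000 in
theorem relc_8_2 : fixPtsF W_8 33333 66666 = true := by decide +kernel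

set_option maxRecDepth 1000000 in
theorem relc_19_6 : fixPtsF W_19 33333 199998 = true := by decide +kernel

set_option maxRecDepth 1000000 in
theorem relc_21_4 : fixPtsF W_21 33333 133332 = true := by decide +kernel

set_option maxRecDepth 1000000 in
theorem relc_26_0 : fixPtsF W_26 25000 0 = true := by decide +kernel

set_option maxRecDepth 1000000 in
theorem relc_29_2 : fixPtsF W_29 20000 40000 = true := by decide +kernel

set_option maxRecDepth 1000000 in
theorem relc_29_10 : fixPtsF W_29 20000 200000 = true := by decide +kernel

set_option maxRecDepth 1000000 in
theorem relc_30_11 : fixPtsF W_30 18181 199991 = true := by decide +kernel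

set_option maxRecDepth 1000000 in
theorem relc_31_11 : fixPtsF W_31 12500 137500 = true := by decide +kernel

set_option maxRecDepth 1000000 in
theorem relc_14_2 : fixPtsF W_14 10000 20000 = true := by decide +kernel

set_option maxRecDepth 1000000 in
theorem relc_14_11 : fixPtsF W_14 10000 110000 = true := by decide +kernel

set_option maxRecDepth 1000000 in
theorem relc_14_23 : fixPtsF W_14 10000 230000 = true := by decide +kernel

set_option maxRecDepth 1000000 in
theorem inv_1_2 : invRowFI ctF 266560 1 1 50000 100000 = true := by decide +kernel

set_option maxRecDepth 1000000 in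
theorem inv_3_4 : invRowFI ctF 266560 3 3 50000 200000 = true := by decide +kernel

set_option maxRecDepth 1000000 in
theorem inv_6_1 : invRowFI ctF 266560 6 6 50000 50000 = true := by decide +kernel

set_option maxRecDepth 1000000 in
theorem relc_15_5 : fixPtsF W_15 16560 250000 = true := by decide +kernel

set_option maxRecDepth 1000000 in
theorem inv_0_5 : invRowFI ctF 266560 0 0 16560 250000 = true := by decide +kernel

set_option maxRecDepth 1000000 in
theorem inv_4_5 : invRowFI ctF 266560 4 4 16560 250000 = true := by decide +kernel

end Cfsg.Agent.Helper5.HeXATC
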