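import Cfsg.Agent.Helper5.HeXATCDatD
import Cfsg.Agent.Helper5.HeXATCDatT
import Cfsg.Agent.Helper5.TCIB

/-! kernel checks of the coset table: HeXATC -/

set_option autoImplicit false
set_option Elab.async false

namespace Cfsg.Agent.Helper5.HeXATC
open Cfsg.Agent.Helper5.TC Cfsg.Agent.Helper5.TCI

set_option maxRecDepth 1000000 in
theorem relc_7_1 : fixPtsF W_7 100000 100000 = true := by decide +kernel

set_option maxRecDepth 1000000 in
theorem relc_2_1 : fixPtsF W_2 50000 50000 = true := by decide +kernel

set_option maxRecDepth 1000000 in
theorem relc_4_1 : fixPtsF W_4 50000 50000 = true := by decide +kernel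

set_option maxRecDepth 1000000 in
theorem relc_6_3 : fixPtsF W_6 50000 150000 = true := by decide +kernel

set_option maxRecDepth 1000000 in
theorem relc_11_0 : fixPtsF W_11 50000 0 = true := by decide +kernel

set_option maxRecDepth 1000000 in
theorem relc_15_2 : fixPtsF W_15 50000 100000 = true := by decide +kernel

set_option maxRecDepth 1000000 in
theorem relc_17_4 : fixPtsF W_17 50000 200000 = true := by decide +kernel

set_option maxRecDepth 1000000 in
theorem relc_7_2 : fixPtsF W_7 66560 200000 = true := by decide +kernel

set_option maxRecDepth 1000000 in
theorem relc_8_3 : fixPtsF W_8 33333 99999 = true := by decide +kernel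

set_option maxRecDepth 1000000 in
theorem relc_20_0 : fixPtsF W_20 33333 0 = true := by decide +kernel

set_option maxRecDepth 1000000 in
theorem relc_21_5 : fixPtsF W_21 33333 166665 = true := by decide +kernel

set_option maxRecDepth 1000000 in
theorem relc_26_1 : fixPtsF W_26 25000 25000 = true := by decide +kernel

set_option maxRecDepth 1000000 in
theorem relc_29_3 : fixPtsF W_29 20000 60000 = true := by decide +kernel

set_option maxRecDepth 1000000 in
theorem relc_29_11 : fixPtsF W_29 20000 220000 = true := by decide +kernel

set_option maxRecDepth 1000000 in
theorem relc_30_12 : fixPtsF W_30 18181 218172 = true := by decide +kernel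

set_option maxRecDepth 1000000 in
theorem relc_31_12 : fixPtsF W_31 12500 150000 = true := by decide +kernel

set_option maxRecDepth 1000000 in
theorem relc_14_3 : fixPtsF W_14 10000 30000 = true := by decide +kernel

set_option maxRecDepth 1000000 in
theorem relc_14_12 : fixPtsF W_14 10000 120000 = true := by decide +kernel

set_option maxRecDepth 1000000 in
theorem relc_14_24 : fixPtsF W_14 10000 240000 = true := by decide +kernel

set_option maxRecDepth 1000000 in
theorem inv_1_3 : invRowFI ctF 266560 1 1 50000 150000 = true := by decide +kernel

set_option maxRecDepth 1000000 in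
theorem inv_4_0 : invRowFI ctF 266560 4 4 50000 0 = true := by decide +kernel

set_option maxRecDepth 1000000 in
theorem inv_6_2 : invRowFI ctF 266560 6 6 50000 100000 = true := by decide +kernel

set_option maxRecDepth 1000000 in
theorem relc_16_5 : fixPtsF W_16 16560 250000 = true := by decide +kernel

set_option maxRecDepth 1000000 in
theorem inv_1_5 : invRowFI ctF 266560 1 1 16560 250000 = true := by decide +kernel

set_option maxRecDepth 1000000 in
theorem inv_5_5 : invRowFI ctF 266560 5 5 16560 250000 = true := by decide +kernel

end Cfsg.Agent.Helper5.HeXATC
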