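import Cfsg.Agent.Helper5.HeXATCDatD
import Cfsg.Agent.Helper5.HeXATCDatT
import Cfsg.Agent.Helper5.TCIB

/-! kernel checks of the coset table: HeXATC -/

set_option autoImplicit false
set_option Elab.async false

namespace Cfsg.Agent.Helper5.HeXATC
open Cfsg.Agent.Helper5.TC Cfsg.Agent.Helper5.TCI

set_option maxRecDepth 1000000 in
theorem relc_13_0 : fixPtsF W_13 100000 0 = true := by decide +kernel

set_option maxRecDepth 1000000 in
theorem relc_2_2 : fixPtsF W_2 50000 100000 = true := by decide +kernel

set_option maxRecDepth 1000000 in
theorem relc_4_2 : fixPtsF W_4 50000 100000 = true := by decide +kernel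

set_option maxRecDepth 1000000 in
theorem relc_6_4 : fixPtsF W_6 50000 200000 = true := by decide +kernel

set_option maxRecDepth 1000000 in
theorem relc_11_1 : fixPtsF W_11 50000 50000 = true := by decide +kernel

set_option maxRecDepth 1000000 in
theorem relc_15_3 : fixPtsF W_15 50000 150000 = true := by decide +kernel

set_option maxRecDepth 1000000 in
theorem relc_23_0 : fixPtsF W_23 50000 0 = true := by decide +kernel

set_option maxRecDepth 1000000 in
theorem relc_13_2 : fixPtsF W_13 66560 200000 = true := by decide +kernel

set_option maxRecDepth 1000000 in
theorem relc_8_4 : fixPtsF W_8 33333 133332 = true := by decide +kernel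

set_option maxRecDepth 1000000 in
theorem relc_20_1 : fixPtsF W_20 33333 33333 = true := by decide +kernel

set_option maxRecDepth 1000000 in
theorem relc_21_6 : fixPtsF W_21 33333 199998 = true := by decide +kernel

set_option maxRecDepth 1000000 in
theorem relc_26_2 : fixPtsF W_26 25000 50000 = true := by decide +kernel

set_option maxRecDepth 1000000 in
theorem relc_29_4 : fixPtsF W_29 20000 80000 = true := by decide +kernel

set_option maxRecDepth 1000000 in
theorem relc_29_12 : fixPtsF W_29 20000 240000 = true := by decide +kernel

set_option maxRecDepth 1000000 in
theorem relc_30_13 : fixPtsF W_30 18181 236353 = true := by decide +kernel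

set_option maxRecDepth 1000000 in
theorem relc_31_13 : fixPtsF W_31 12500 162500 = true := by decide +kernel

set_option maxRecDepth 1000000 in
theorem relc_14_4 : fixPtsF W_14 10000 40000 = true := by decide +kernel

set_option maxRecDepth 1000000 in
theorem relc_14_13 : fixPtsF W_14 10000 130000 = true := by decide +kernel

set_option maxRecDepth 1000000 in
theorem relc_14_25 : fixPtsF W_14 10000 250000 = true := by decide +kernel

set_option maxRecDepth 1000000 in
theorem inv_1_4 : invRowFI ctF 266560 1 1 50000 200000 = true := by decide +kernel

set_option maxRecDepth 1000000 in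
theorem inv_4_1 : invRowFI ctF 266560 4 4 50000 50000 = true := by decide +kernel

set_option maxRecDepth 1000000 in
theorem inv_6_3 : invRowFI ctF 266560 6 6 50000 150000 = true := by decide +kernel

set_option maxRecDepth 1000000 in
theorem relc_17_5 : fixPtsF W_17 16560 250000 = true := by decide +kernel

set_option maxRecDepth 1000000 in
theorem inv_2_5 : invRowFI ctF 266560 2 2 16560 250000 = true := by decide +kernel

set_option maxRecDepth 1000000 in
theorem inv_6_5 : invRowFI ctF 266560 6 6 16560 250000 = true := by decide +kernel

end Cfsg.Agent.Helper5.HeXATC
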