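import Cfsg.Agent.Helper5.HeXATCDatD
import Cfsg.Agent.Helper5.HeXATCDatT
import Cfsg.Agent.Helper5.TCIB

/-! kernel checks of the coset table: HeXATC -/

set_option autoImplicit false
set_option Elab.async false

namespace Cfsg.Agent.Helper5.HeXATC
open Cfsg.Agent.Helper5.TC Cfsg.Agent.Helper5.TCI

set_option maxRecDepth 1000000 in
theorem relc_13_1 : fixPtsF W_13 100000 100000 = true := by decide +kernel

set_option maxRecDepth 1000000 in
theorem relc_2_3 : fixPtsF W_2 50000 150000 = true := by decide +kernel

set_option maxRecDepth 1000000 in
theorem relc_4_3 : fixPtsF W_4 50000 150000 = true := by decide +kernel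

set_option maxRecDepth 1000000 in
theorem relc_9_0 : fixPtsF W_9 50000 0 = true := by decide +kernel

set_option maxRecDepth 1000000 in
theorem relc_11_2 : fixPtsF W_11 50000 100000 = true := by decide +kernel

set_option maxRecDepth 1000000 in
theorem relc_15_4 : fixPtsF W_15 50000 200000 = true := by decide +kernel

set_option maxRecDepth 1000000 in
theorem relc_23_1 : fixPtsF W_23 50000 50000 = true := by decide +kernel

set_option maxRecDepth 1000000 in
theorem relc_18_2 : fixPtsF W_18 66560 200000 = true := by decide +kernel

set_option maxRecDepth 1000000 in
theorem relc_8_5 : fixPtsF W_8 33333 166665 = true := by decide +kernel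

set_option maxRecDepth 1000000 in
theorem relc_20_2 : fixPtsF W_20 33333 66666 = true := by decide +kernel

set_option maxRecDepth 1000000 in
theorem relc_8_7 : fixPtsF W_8 33229 233331 = true := by decide +kernel

set_option maxRecDepth 1000000 in
theorem relc_1_6 : fixPtsF W_1 25000 150000 = true := by decide +kernel

set_option maxRecDepth 1000000 in
theorem relc_26_8 : fixPtsF W_26 25000 200000 = true := by decide +kernel

set_option maxRecDepth 1000000 in
theorem relc_30_2 : fixPtsF W_30 18181 36362 = true := by decide +kernel

set_option maxRecDepth 1000000 in
theorem relc_31_0 : fixPtsF W_31 12500 0 = true := by decide +kernel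

set_option maxRecDepth 1000000 in
theorem relc_31_4 : fixPtsF W_31 12500 50000 = true := by decide +kernel

set_option maxRecDepth 1000000 in
theorem relc_31_16 : fixPtsF W_31 12500 200000 = true := by decide +kernel

set_option maxRecDepth 1000000 in
theorem relc_14_7 : fixPtsF W_14 10000 70000 = true := by decide +kernel

set_option maxRecDepth 1000000 in
theorem relc_14_19 : fixPtsF W_14 10000 190000 = true := by decide +kernel

set_option maxRecDepth 1000000 in
theorem inv_0_3 : invRowFI ctF 266560 0 0 50000 150000 = true := by decide +kernel

set_option maxRecDepth 1000000 in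
theorem inv_3_0 : invRowFI ctF 266560 3 3 50000 0 = true := by decide +kernel

set_option maxRecDepth 1000000 in
theorem inv_5_2 : invRowFI ctF 266560 5 5 50000 100000 = true := by decide +kernel

set_option maxRecDepth 1000000 in
theorem relc_9_5 : fixPtsF W_9 16560 250000 = true := by decide +kernel

set_option maxRecDepth 1000000 in
theorem conn_3 : connF ctF 7 50000 150000 = true := by decide +kernel

end Cfsg.Agent.Helper5.HeXATC
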