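import Cfsg.Agent.Helper5.HeXATCDatD
import Cfsg.Agent.Helper5.HeXATCDatT
import Cfsg.Agent.Helper5.TCIB

/-! kernel checks of the coset table: HeXATC -/

set_option autoImplicit false
set_option Elab.async false

namespace Cfsg.Agent.Helper5.HeXATC
open Cfsg.Agent.Helper5.TC Cfsg.Agent.Helper5.TCI

set_option maxRecDepth 1000000 in
theorem relc_22_0 : fixPtsF W_22 100000 0 = true := by decide +kernel

set_option maxRecDepth 1000000 in
theorem relc_3_1 : fixPtsF W_3 50000 50000 = true := by decide +kernel

set_option maxRecDepth 1000000 in
theorem relc_5_1 : fixPtsF W_5 50000 50000 = true := by decide +kernel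

set_option maxRecDepth 1000000 in
theorem relc_9_3 : fixPtsF W_9 50000 150000 = true := by decide +kernel

set_option maxRecDepth 1000000 in
theorem relc_12_0 : fixPtsF W_12 50000 0 = true := by decide +kernel

set_option maxRecDepth 1000000 in
theorem relc_16_2 : fixPtsF W_16 50000 100000 = true := by decide +kernel

set_option maxRecDepth 1000000 in
theorem relc_23_4 : fixPtsF W_23 50000 200000 = true := by decide +kernel

set_option maxRecDepth 1000000 in
theorem relc_27_2 : fixPtsF W_27 66560 200000 = true := by decide +kernel

set_option maxRecDepth 1000000 in
theorem relc_19_1 : fixPtsF W_19 33333 33333 = true := by decide +kernel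

set_option maxRecDepth 1000000 in
theorem relc_20_5 : fixPtsF W_20 33333 166665 = true := by decide +kernel

set_option maxRecDepth 1000000 in
theorem relc_21_7 : fixPtsF W_21 33229 233331 = true := by decide +kernel

set_option maxRecDepth 1000000 in
theorem relc_1_9 : fixPtsF W_1 25000 225000 = true := by decide +kernel

set_option maxRecDepth 1000000 in
theorem relc_29_1 : fixPtsF W_29 20000 20000 = true := by decide +kernel

set_option maxRecDepth 1000000 in
theorem relc_29_9 : fixPtsF W_29 20000 180000 = true := by decide +kernel

set_option maxRecDepth 1000000 in
theorem relc_30_10 : fixPtsF W_30 18181 181810 = true := by decide +kernel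

set_option maxRecDepth 1000000 in
theorem relc_31_10 : fixPtsF W_31 12500 125000 = true := by decide +kernel

set_option maxRecDepth 1000000 in
theorem relc_14_1 : fixPtsF W_14 10000 10000 = true := by decide +kernel

set_option maxRecDepth 1000000 in
theorem relc_14_10 : fixPtsF W_14 10000 100000 = true := by decide +kernel

set_option maxRecDepth 1000000 in
theorem relc_14_22 : fixPtsF W_14 10000 220000 = true := by decide +kernel

set_option maxRecDepth 1000000 in
theorem inv_1_1 : invRowFI ctF 266560 1 1 50000 50000 = true := by decide +kernel

set_option maxRecDepth 1000000 in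
theorem inv_3_3 : invRowFI ctF 266560 3 3 50000 150000 = true := by decide +kernel

set_option maxRecDepth 1000000 in
theorem inv_6_0 : invRowFI ctF 266560 6 6 50000 0 = true := by decide +kernel

set_option maxRecDepth 1000000 in
theorem relc_12_5 : fixPtsF W_12 16560 250000 = true := by decide +kernel

set_option maxRecDepth 1000000 in
theorem relc_31_21 : fixPtsF W_31 4060 262500 = true := by decide +kernel

end Cfsg.Agent.Helper5.HeXATC
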