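import Cfsg.Agent.Helper5.HeXATCDatD
import Cfsg.Agent.Helper5.HeXATCDatT
import Cfsg.Agent.Helper5.TCIB

/-! kernel checks of the coset table: HeXATC -/

set_option autoImplicit false
set_option Elab.async false

namespace Cfsg.Agent.Helper5.HeXATC
open Cfsg.Agent.Helper5.TC Cfsg.Agent.Helper5.TCI

set_option maxRecDepth 1000000 in
theorem relc_22_1 : fixPtsF W_22 100000 100000 = true := by decide +kernel

set_option maxRecDepth 1000000 in
theorem relc_3_2 : fixPtsF W_3 50000 100000 = true := by decide +kernel

set_option maxRecDepth 1000000 in
theorem relc_5_2 : fixPtsF W_5 50000 100000 = true := by decide +kernel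

set_option maxRecDepth 1000000 in
theorem relc_9_4 : fixPtsF W_9 50000 200000 = true := by decide +kernel

set_option maxRecDepth 1000000 in
theorem relc_12_1 : fixPtsF W_12 50000 50000 = true := by decide +kernel

set_option maxRecDepth 1000000 in
theorem relc_16_3 : fixPtsF W_16 50000 150000 = true := by decide +kernel

set_option maxRecDepth 1000000 in
theorem relc_24_0 : fixPtsF W_24 50000 0 = true := by decide +kernel

set_option maxRecDepth 1000000 in
theorem relc_28_0 : fixPtsF W_28 40000 0 = true := by decide +kernel

set_option maxRecDepth 1000000 in
theorem relc_28_5 : fixPtsF W_28 40000 200000 = true := by decide +kernel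

set_option maxRecDepth 1000000 in
theorem relc_20_6 : fixPtsF W_20 33333 199998 = true := by decide +kernel

set_option maxRecDepth 1000000 in
theorem relc_1_0 : fixPtsF W_1 25000 0 = true := by decide +kernel

set_option maxRecDepth 1000000 in
theorem relc_1_3 : fixPtsF W_1 25000 75000 = true := by decide +kernel

set_option maxRecDepth 1000000 in
theorem relc_26_5 : fixPtsF W_26 25000 125000 = true := by decide +kernel

set_option maxRecDepth 1000000 in
theorem relc_29_7 : fixPtsF W_29 20000 140000 = true := by decide +kernel

set_option maxRecDepth 1000000 in
theorem relc_30_8 : fixPtsF W_30 18181 145448 = true := by decide +kernel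

set_option maxRecDepth 1000000 in
theorem relc_31_8 : fixPtsF W_31 12500 100000 = true := by decide +kernel

set_option maxRecDepth 1000000 in
theorem relc_31_20 : fixPtsF W_31 12500 250000 = true := by decide +kernel

set_option maxRecDepth 1000000 in
theorem relc_14_16 : fixPtsF W_14 10000 160000 = true := by decide +kernel

set_option maxRecDepth 1000000 in
theorem relc_26_10 : fixPtsF W_26 16560 250000 = true := by decide +kernel

set_option maxRecDepth 1000000 in
theorem inv_0_1 : invRowFI ctF 266560 0 0 50000 50000 = true := by decide +kernel

set_option maxRecDepth 1000000 in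
theorem inv_2_3 : invRowFI ctF 266560 2 2 50000 150000 = true := by decide +kernel

set_option maxRecDepth 1000000 in
theorem inv_5_0 : invRowFI ctF 266560 5 5 50000 0 = true := by decide +kernel

set_option maxRecDepth 1000000 in
theorem relc_4_5 : fixPtsF W_4 16560 250000 = true := by decide +kernel

set_option maxRecDepth 1000000 in
theorem conn_0 : connF ctF 7 50000 0 = true := by decide +kernel

set_option maxRecDepth 1000000 in
theorem conn_5 : connF ctF 7 16560 250000 = true := by decide +kernel

end Cfsg.Agent.Helper5.HeXATC
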