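import Cfsg.Agent.Helper5.HeXATCChkE0
import Cfsg.Agent.Helper5.HeXATCChkE1
import Cfsg.Agent.Helper5.HeXATCChkE2
import Cfsg.Agent.Helper5.HeXATCChkE3
import Cfsg.Agent.Helper5.HeXATCChkE4
import Cfsg.Agent.Helper5.HeXATCChkE5
import Cfsg.Agent.Helper5.HeXATCChkE6
import Cfsg.Agent.Helper5.HeXATCChkE7
import Cfsg.Agent.Helper5.HeXATCChkR0
import Cfsg.Agent.Helper5.HeXATCChkR1
import Cfsg.Agent.Helper5.HeXATCChkR2
import Cfsg.Agent.Helper5.HeXATCChkR3
import Cfsg.Agent.Helper5.HeXATCChkR4
import Cfsg.Agent.Helper5.HeXATCChkR5
import Cfsg.Agent.Helper5.HeXATCChkR6
import Cfsg.Agent.Helper5.HeXATCChkR7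
import Cfsg.Agent.Helper5.HeXATCChkR8
import Cfsg.Agent.Helper5.HeXATCChkR9
import Cfsg.Agent.Helper5.HeXATCChkR10
import Cfsg.Agent.Helper5.HeXATCChkR11
import Cfsg.Agent.Helper5.HeXATCChkA
import Cfsg.Agent.Helper5.TCIB

/-! summary of the kernel checks: HeXATC -/

set_option autoImplicit false
set_option Elab.async false

namespace Cfsg.Agent.Helper5.HeXATC
open Cfsg.Agent.Helper5.TC Cfsg.Agent.Helper5.TCI

theorem edgesx_0 : ∀ v, v < 269342 → edgeOKI iota E 0 v = true := by
  intro v hv
  rcases Nat.lt_or_ge v 138425 with h | h
  · rcases Nat.lt_or_ge v 70409 with h | h
    · rcases Nat.lt_or_ge v 34708 with h | h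
      · rcases Nat.lt_or_ge v 17422 with h | h
        · rcases Nat.lt_or_ge v 7639 with h | h
          · rcases Nat.lt_or_ge v 3612 with h | h
            · rcases Nat.lt_or_ge v 1730 with h | h
              · exact edgesRangeI_spec iota E 0 1730 0 edges_0_0 v (by omega) (by omega)
              · exact edgesRangeI_spec iota E 0 1882 1730 edges_0_1 v (by omega) (by omega)
            · rcases Nat.lt_or_ge v 5643 with h | h
              · exact edgesRangeI_spec iota E 0 2031 3612 edges_0_2 v (by omega) (by omega)
              · exact edgesRangeI_spec iota E 0 1996 5643 edges_0_3 v (by omega) (by omega)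
          · rcases Nat.lt_or_ge v 11595 with h | h
            · rcases Nat.lt_or_ge v 9617 with h | h
              · exact edgesRangeI_spec iota E 0 1978 7639 edges_0_4 v (by omega) (by omega)
              · exact edgesRangeI_spec iota E 0 1978 9617 edges_0_5 v (by omega) (by omega)
            · rcases Nat.lt_or_ge v 13344 with h | h
              · exact edgesRangeI_spec iota E 0 1749 11595 edges_0_6 v (by omega) (by omega)
              · rcases Nat.lt_or_ge v 15552 with h | h
                · exact edgesRangeI_spec iota E 0 2208 13344 edges_0_7 v (by omega) (by omega)
                · exact edgesRangeI_spec iota E 0 1870 15552 edges_0_8 v (by omega) (by omega)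
        · rcases Nat.lt_or_ge v 24897 with h | h
          · rcases Nat.lt_or_ge v 21301 with h | h
            · rcases Nat.lt_or_ge v 19227 with h | h
              · exact edgesRangeI_spec iota E 0 1805 17422 edges_0_9 v (by omega) (by omega)
              · exact edgesRangeI_spec iota E 0 2074 19227 edges_0_10 v (by omega) (by omega)
            · rcases Nat.lt_or_ge v 23241 with h | h
              · exact edgesRangeI_spec iota E 0 1940 21301 edges_0_11 v (by omega) (by omega)
              · exact edgesRangeI_spec iota E 0 1656 23241 edges_0_12 v (by omega) (by omega)
          · rcases Nat.lt_or_ge v 29074 with h | h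
            · rcases Nat.lt_or_ge v 27035 with h | h
              · exact edgesRangeI_spec iota E 0 2138 24897 edges_0_13 v (by omega) (by omega)
              · exact edgesRangeI_spec iota E 0 2039 27035 edges_0_14 v (by omega) (by omega)
            · rcases Nat.lt_or_ge v 30967 with h | h
              · exact edgesRangeI_spec iota E 0 1893 29074 edges_0_15 v (by omega) (by omega)
              · rcases Nat.lt_or_ge v 32832 with h | h
                · exact edgesRangeI_spec iota E 0 1865 30967 edges_0_16 v (by omega) (by omega)
                · exact edgesRangeI_spec iota E 0 1876 32832 edges_0_17 v (by omega) (by omega)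
      · rcases Nat.lt_or_ge v 51774 with h | h
        · rcases Nat.lt_or_ge v 42294 with h | h
          · rcases Nat.lt_or_ge v 38502 with h | h
            · rcases Nat.lt_or_ge v 36355 with h | h
              · exact edgesRangeI_spec iota E 0 1647 34708 edges_0_18 v (by omega) (by omega)
              · exact edgesRangeI_spec iota E 0 2147 36355 edges_0_19 v (by omega) (by omega)
            · rcases Nat.lt_or_ge v 40474 with h | h
              · exact edgesRangeI_spec iota E 0 1972 38502 edges_0_20 v (by omega) (by omega)
              · exact edgesRangeI_spec iota E 0 1820 40474 edges_0_21 v (by omega) (by omega)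
          · rcases Nat.lt_or_ge v 45855 with h | h
            · rcases Nat.lt_or_ge v 43942 with h | h
              · exact edgesRangeI_spec iota E 0 1648 42294 edges_0_22 v (by omega) (by omega)
              · exact edgesRangeI_spec iota E 0 1913 43942 edges_0_23 v (by omega) (by omega)
            · rcases Nat.lt_or_ge v 47910 with h | h
              · exact edgesRangeI_spec iota E 0 2055 45855 edges_0_24 v (by omega) (by omega)
              · rcases Nat.lt_or_ge v 49885 with h | h
                · exact edgesRangeI_spec iota E 0 1975 47910 edges_0_25 v (by omega) (by omega)
                · exact edgesRangeI_spec iota E 0 1889 49885 edges_0_26 v (by omega) (by omega)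
        · rcases Nat.lt_or_ge v 60953 with h | h
          · rcases Nat.lt_or_ge v 55435 with h | h
            · rcases Nat.lt_or_ge v 53640 with h | h
              · exact edgesRangeI_spec iota E 0 1866 51774 edges_0_27 v (by omega) (by omega)
              · exact edgesRangeI_spec iota E 0 1795 53640 edges_0_28 v (by omega) (by omega)
            · rcases Nat.lt_or_ge v 57373 with h | h
              · exact edgesRangeI_spec iota E 0 1938 55435 edges_0_29 v (by omega) (by omega)
              · rcases Nat.lt_or_ge v 59248 with h | h
                · exact edgesRangeI_spec iota E 0 1875 57373 edges_0_30 v (by omega) (by omega)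
                · exact edgesRangeI_spec iota E 0 1705 59248 edges_0_31 v (by omega) (by omega)
          · rcases Nat.lt_or_ge v 64725 with h | h
            · rcases Nat.lt_or_ge v 62720 with h | h
              · exact edgesRangeI_spec iota E 0 1767 60953 edges_0_32 v (by omega) (by omega)
              · exact edgesRangeI_spec iota E 0 2005 62720 edges_0_33 v (by omega) (by omega)
            · rcases Nat.lt_or_ge v 66677 with h | h
              · exact edgesRangeI_spec iota E 0 1952 64725 edges_0_34 v (by omega) (by omega)
              · rcases Nat.lt_or_ge v 68523 with h | h
                · exact edgesRangeI_spec iota E 0 1846 66677 edges_0_35 v (by omega) (by omega)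
                · exact edgesRangeI_spec iota E 0 1886 68523 edges_0_36 v (by omega) (by omega)
    · rcases Nat.lt_or_ge v 103555 with h | h
      · rcases Nat.lt_or_ge v 87006 with h | h
        · rcases Nat.lt_or_ge v 77833 with h | h
          · rcases Nat.lt_or_ge v 73965 with h | h
            · rcases Nat.lt_or_ge v 72170 with h | h
              · exact edgesRangeI_spec iota E 0 1761 70409 edges_0_37 v (by omega) (by omega)
              · exact edgesRangeI_spec iota E 0 1795 72170 edges_0_38 v (by omega) (by omega)
            · rcases Nat.lt_or_ge v 75850 with h | h
              · exact edgesRangeI_spec iota E 0 1885 73965 edges_0_39 v (by omega) (by omega)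
              · exact edgesRangeI_spec iota E 0 1983 75850 edges_0_40 v (by omega) (by omega)
          · rcases Nat.lt_or_ge v 81572 with h | h
            · rcases Nat.lt_or_ge v 79685 with h | h
              · exact edgesRangeI_spec iota E 0 1852 77833 edges_0_41 v (by omega) (by omega)
              · exact edgesRangeI_spec iota E 0 1887 79685 edges_0_42 v (by omega) (by omega)
            · rcases Nat.lt_or_ge v 83412 with h | h
              · exact edgesRangeI_spec iota E 0 1840 81572 edges_0_43 v (by omega) (by omega)
              · rcases Nat.lt_or_ge v 85205 with h | h
                · exact edgesRangeI_spec iota E 0 1793 83412 edges_0_44 v (by omega) (by omega)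
                · exact edgesRangeI_spec iota E 0 1801 85205 edges_0_45 v (by omega) (by omega)
        · rcases Nat.lt_or_ge v 94375 with h | h
          · rcases Nat.lt_or_ge v 90694 with h | h
            · rcases Nat.lt_or_ge v 88821 with h | h
              · exact edgesRangeI_spec iota E 0 1815 87006 edges_0_46 v (by omega) (by omega)
              · exact edgesRangeI_spec iota E 0 1873 88821 edges_0_47 v (by omega) (by omega)
            · rcases Nat.lt_or_ge v 92610 with h | h
              · exact edgesRangeI_spec iota E 0 1916 90694 edges_0_48 v (by omega) (by omega)
              · exact edgesRangeI_spec iota E 0 1765 92610 edges_0_49 v (by omega) (by omega)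
          · rcases Nat.lt_or_ge v 97947 with h | h
            · rcases Nat.lt_or_ge v 96084 with h | h
              · exact edgesRangeI_spec iota E 0 1709 94375 edges_0_50 v (by omega) (by omega)
              · exact edgesRangeI_spec iota E 0 1863 96084 edges_0_51 v (by omega) (by omega)
            · rcases Nat.lt_or_ge v 99853 with h | h
              · exact edgesRangeI_spec iota E 0 1906 97947 edges_0_52 v (by omega) (by omega)
              · rcases Nat.lt_or_ge v 101737 with h | h
                · exact edgesRangeI_spec iota E 0 1884 99853 edges_0_53 v (by omega) (by omega)
                · exact edgesRangeI_spec iota E 0 1818 101737 edges_0_54 v (by omega) (by omega)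
      · rcases Nat.lt_or_ge v 120218 with h | h
        · rcases Nat.lt_or_ge v 110874 with h | h
          · rcases Nat.lt_or_ge v 107163 with h | h
            · rcases Nat.lt_or_ge v 105330 with h | h
              · exact edgesRangeI_spec iota E 0 1775 103555 edges_0_55 v (by omega) (by omega)
              · exact edgesRangeI_spec iota E 0 1833 105330 edges_0_56 v (by omega) (by omega)
            · rcases Nat.lt_or_ge v 108989 with h | h
              · exact edgesRangeI_spec iota E 0 1826 107163 edges_0_57 v (by omega) (by omega)
              · exact edgesRangeI_spec iota E 0 1885 108989 edges_0_58 v (by omega) (by omega)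
          · rcases Nat.lt_or_ge v 114672 with h | h
            · rcases Nat.lt_or_ge v 112718 with h | h
              · exact edgesRangeI_spec iota E 0 1844 110874 edges_0_59 v (by omega) (by omega)
              · exact edgesRangeI_spec iota E 0 1954 112718 edges_0_60 v (by omega) (by omega)
            · rcases Nat.lt_or_ge v 116532 with h | h
              · exact edgesRangeI_spec iota E 0 1860 114672 edges_0_61 v (by omega) (by omega)
              · rcases Nat.lt_or_ge v 118414 with h | h
                · exact edgesRangeI_spec iota E 0 1882 116532 edges_0_62 v (by omega) (by omega)
                · exact edgesRangeI_spec iota E 0 1804 118414 edges_0_63 v (by omega) (by omega)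
        · rcases Nat.lt_or_ge v 129338 with h | h
          · rcases Nat.lt_or_ge v 123869 with h | h
            · rcases Nat.lt_or_ge v 122086 with h | h
              · exact edgesRangeI_spec iota E 0 1868 120218 edges_0_64 v (by omega) (by omega)
              · exact edgesRangeI_spec iota E 0 1783 122086 edges_0_65 v (by omega) (by omega)
            · rcases Nat.lt_or_ge v 125663 with h | h
              · exact edgesRangeI_spec iota E 0 1794 123869 edges_0_66 v (by omega) (by omega)
              · rcases Nat.lt_or_ge v 127452 with h | h
                · exact edgesRangeI_spec iota E 0 1789 125663 edges_0_67 v (by omega) (by omega)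
                · exact edgesRangeI_spec iota E 0 1886 127452 edges_0_68 v (by omega) (by omega)
          · rcases Nat.lt_or_ge v 132961 with h | h
            · rcases Nat.lt_or_ge v 131194 with h | h
              · exact edgesRangeI_spec iota E 0 1856 129338 edges_0_69 v (by omega) (by omega)
              · exact edgesRangeI_spec iota E 0 1767 131194 edges_0_70 v (by omega) (by omega)
            · rcases Nat.lt_or_ge v 134755 with h | h
              · exact edgesRangeI_spec iota E 0 1794 132961 edges_0_71 v (by omega) (by omega)
              · rcases Nat.lt_or_ge v 136595 with h | h
                · exact edgesRangeI_spec iota E 0 1840 134755 edges_0_72 v (by omega) (by omega)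
                · exact edgesRangeI_spec iota E 0 1830 136595 edges_0_73 v (by omega) (by omega)
  · rcases Nat.lt_or_ge v 205914 with h | h
    · rcases Nat.lt_or_ge v 171674 with h | h
      · rcases Nat.lt_or_ge v 155059 with h | h
        · rcases Nat.lt_or_ge v 145736 with h | h
          · rcases Nat.lt_or_ge v 142163 with h | h
            · rcases Nat.lt_or_ge v 140303 with h | h
              · exact edgesRangeI_spec iota E 0 1878 138425 edges_0_74 v (by omega) (by omega)
              · exact edgesRangeI_spec iota E 0 1860 140303 edges_0_75 v (by omega) (by omega)
            · rcases Nat.lt_or_ge v 143960 with h | h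
              · exact edgesRangeI_spec iota E 0 1797 142163 edges_0_76 v (by omega) (by omega)
              · exact edgesRangeI_spec iota E 0 1776 143960 edges_0_77 v (by omega) (by omega)
          · rcases Nat.lt_or_ge v 149452 with h | h
            · rcases Nat.lt_or_ge v 147591 with h | h
              · exact edgesRangeI_spec iota E 0 1855 145736 edges_0_78 v (by omega) (by omega)
              · exact edgesRangeI_spec iota E 0 1861 147591 edges_0_79 v (by omega) (by omega)
            · rcases Nat.lt_or_ge v 151320 with h | h
              · exact edgesRangeI_spec iota E 0 1868 149452 edges_0_80 v (by omega) (by omega)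
              · rcases Nat.lt_or_ge v 153208 with h | h
                · exact edgesRangeI_spec iota E 0 1888 151320 edges_0_81 v (by omega) (by omega)
                · exact edgesRangeI_spec iota E 0 1851 153208 edges_0_82 v (by omega) (by omega)
        · rcases Nat.lt_or_ge v 162588 with h | h
          · rcases Nat.lt_or_ge v 158848 with h | h
            · rcases Nat.lt_or_ge v 157003 with h | h
              · exact edgesRangeI_spec iota E 0 1944 155059 edges_0_83 v (by omega) (by omega)
              · exact edgesRangeI_spec iota E 0 1845 157003 edges_0_84 v (by omega) (by omega)
            · rcases Nat.lt_or_ge v 160696 with h | h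
              · exact edgesRangeI_spec iota E 0 1848 158848 edges_0_85 v (by omega) (by omega)
              · exact edgesRangeI_spec iota E 0 1892 160696 edges_0_86 v (by omega) (by omega)
          · rcases Nat.lt_or_ge v 166280 with h | h
            · rcases Nat.lt_or_ge v 164422 with h | h
              · exact edgesRangeI_spec iota E 0 1834 162588 edges_0_87 v (by omega) (by omega)
              · exact edgesRangeI_spec iota E 0 1858 164422 edges_0_88 v (by omega) (by omega)
            · rcases Nat.lt_or_ge v 168088 with h | h
              · exact edgesRangeI_spec iota E 0 1808 166280 edges_0_89 v (by omega) (by omega)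
              · rcases Nat.lt_or_ge v 169899 with h | h
                · exact edgesRangeI_spec iota E 0 1811 168088 edges_0_90 v (by omega) (by omega)
                · exact edgesRangeI_spec iota E 0 1775 169899 edges_0_91 v (by omega) (by omega)
      · rcases Nat.lt_or_ge v 187960 with h | h
        · rcases Nat.lt_or_ge v 178958 with h | h
          · rcases Nat.lt_or_ge v 175371 with h | h
            · rcases Nat.lt_or_ge v 173511 with h | h
              · exact edgesRangeI_spec iota E 0 1837 171674 edges_0_92 v (by omega) (by omega)
              · exact edgesRangeI_spec iota E 0 1860 173511 edges_0_93 v (by omega) (by omega)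
            · rcases Nat.lt_or_ge v 177154 with h | h
              · exact edgesRangeI_spec iota E 0 1783 175371 edges_0_94 v (by omega) (by omega)
              · exact edgesRangeI_spec iota E 0 1804 177154 edges_0_95 v (by omega) (by omega)
          · rcases Nat.lt_or_ge v 182512 with h | h
            · rcases Nat.lt_or_ge v 180697 with h | h
              · exact edgesRangeI_spec iota E 0 1739 178958 edges_0_96 v (by omega) (by omega)
              · exact edgesRangeI_spec iota E 0 1815 180697 edges_0_97 v (by omega) (by omega)
            · rcases Nat.lt_or_ge v 184349 with h | h
              · exact edgesRangeI_spec iota E 0 1837 182512 edges_0_98 v (by omega) (by omega)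
              · rcases Nat.lt_or_ge v 186160 with h | h
                · exact edgesRangeI_spec iota E 0 1811 184349 edges_0_99 v (by omega) (by omega)
                · exact edgesRangeI_spec iota E 0 1800 186160 edges_0_100 v (by omega) (by omega)
        · rcases Nat.lt_or_ge v 196887 with h | h
          · rcases Nat.lt_or_ge v 191571 with h | h
            · rcases Nat.lt_or_ge v 189773 with h | h
              · exact edgesRangeI_spec iota E 0 1813 187960 edges_0_101 v (by omega) (by omega)
              · exact edgesRangeI_spec iota E 0 1798 189773 edges_0_102 v (by omega) (by omega)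
            · rcases Nat.lt_or_ge v 193322 with h | h
              · exact edgesRangeI_spec iota E 0 1751 191571 edges_0_103 v (by omega) (by omega)
              · rcases Nat.lt_or_ge v 195159 with h | h
                · exact edgesRangeI_spec iota E 0 1837 193322 edges_0_104 v (by omega) (by omega)
                · exact edgesRangeI_spec iota E 0 1728 195159 edges_0_105 v (by omega) (by omega)
          · rcases Nat.lt_or_ge v 200479 with h | h
            · rcases Nat.lt_or_ge v 198667 with h | h
              · exact edgesRangeI_spec iota E 0 1780 196887 edges_0_106 v (by omega) (by omega)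
              · exact edgesRangeI_spec iota E 0 1812 198667 edges_0_107 v (by omega) (by omega)
            · rcases Nat.lt_or_ge v 202300 with h | h
              · exact edgesRangeI_spec iota E 0 1821 200479 edges_0_108 v (by omega) (by omega)
              · rcases Nat.lt_or_ge v 204092 with h | h
                · exact edgesRangeI_spec iota E 0 1792 202300 edges_0_109 v (by omega) (by omega)
                · exact edgesRangeI_spec iota E 0 1822 204092 edges_0_110 v (by omega) (by omega)
    · rcases Nat.lt_or_ge v 238700 with h | h
      · rcases Nat.lt_or_ge v 221683 with h | h
        · rcases Nat.lt_or_ge v 212993 with h | h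
          · rcases Nat.lt_or_ge v 209437 with h | h
            · rcases Nat.lt_or_ge v 207750 with h | h
              · exact edgesRangeI_spec iota E 0 1836 205914 edges_0_111 v (by omega) (by omega)
              · exact edgesRangeI_spec iota E 0 1687 207750 edges_0_112 v (by omega) (by omega)
            · rcases Nat.lt_or_ge v 211244 with h | h
              · exact edgesRangeI_spec iota E 0 1807 209437 edges_0_113 v (by omega) (by omega)
              · exact edgesRangeI_spec iota E 0 1749 211244 edges_0_114 v (by omega) (by omega)
          · rcases Nat.lt_or_ge v 216544 with h | h
            · rcases Nat.lt_or_ge v 214759 with h | h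
              · exact edgesRangeI_spec iota E 0 1766 212993 edges_0_115 v (by omega) (by omega)
              · exact edgesRangeI_spec iota E 0 1785 214759 edges_0_116 v (by omega) (by omega)
            · rcases Nat.lt_or_ge v 218262 with h | h
              · exact edgesRangeI_spec iota E 0 1718 216544 edges_0_117 v (by omega) (by omega)
              · rcases Nat.lt_or_ge v 220001 with h | h
                · exact edgesRangeI_spec iota E 0 1739 218262 edges_0_118 v (by omega) (by omega)
                · exact edgesRangeI_spec iota E 0 1682 220001 edges_0_119 v (by omega) (by omega)
        · rcases Nat.lt_or_ge v 230224 with h | h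
          · rcases Nat.lt_or_ge v 225093 with h | h
            · rcases Nat.lt_or_ge v 223401 with h | h
              · exact edgesRangeI_spec iota E 0 1718 221683 edges_0_120 v (by omega) (by omega)
              · exact edgesRangeI_spec iota E 0 1692 223401 edges_0_121 v (by omega) (by omega)
            · rcases Nat.lt_or_ge v 226824 with h | h
              · exact edgesRangeI_spec iota E 0 1731 225093 edges_0_122 v (by omega) (by omega)
              · rcases Nat.lt_or_ge v 228522 with h | h
                · exact edgesRangeI_spec iota E 0 1698 226824 edges_0_123 v (by omega) (by omega)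
                · exact edgesRangeI_spec iota E 0 1702 228522 edges_0_124 v (by omega) (by omega)
          · rcases Nat.lt_or_ge v 233691 with h | h
            · rcases Nat.lt_or_ge v 231966 with h | h
              · exact edgesRangeI_spec iota E 0 1742 230224 edges_0_125 v (by omega) (by omega)
              · exact edgesRangeI_spec iota E 0 1725 231966 edges_0_126 v (by omega) (by omega)
            · rcases Nat.lt_or_ge v 235315 with h | h
              · exact edgesRangeI_spec iota E 0 1624 233691 edges_0_127 v (by omega) (by omega)
              · rcases Nat.lt_or_ge v 237015 with h | h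
                · exact edgesRangeI_spec iota E 0 1700 235315 edges_0_128 v (by omega) (by omega)
                · exact edgesRangeI_spec iota E 0 1685 237015 edges_0_129 v (by omega) (by omega)
      · rcases Nat.lt_or_ge v 253645 with h | h
        · rcases Nat.lt_or_ge v 245359 with h | h
          · rcases Nat.lt_or_ge v 242029 with h | h
            · rcases Nat.lt_or_ge v 240350 with h | h
              · exact edgesRangeI_spec iota E 0 1650 238700 edges_0_130 v (by omega) (by omega)
              · exact edgesRangeI_spec iota E 0 1679 240350 edges_0_131 v (by omega) (by omega)
            · rcases Nat.lt_or_ge v 243682 with h | h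
              · exact edgesRangeI_spec iota E 0 1653 242029 edges_0_132 v (by omega) (by omega)
              · exact edgesRangeI_spec iota E 0 1677 243682 edges_0_133 v (by omega) (by omega)
          · rcases Nat.lt_or_ge v 248718 with h | h
            · rcases Nat.lt_or_ge v 247037 with h | h
              · exact edgesRangeI_spec iota E 0 1678 245359 edges_0_134 v (by omega) (by omega)
              · exact edgesRangeI_spec iota E 0 1681 247037 edges_0_135 v (by omega) (by omega)
            · rcases Nat.lt_or_ge v 250377 with h | h
              · exact edgesRangeI_spec iota E 0 1659 248718 edges_0_136 v (by omega) (by omega)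
              · rcases Nat.lt_or_ge v 252013 with h | h
                · exact edgesRangeI_spec iota E 0 1636 250377 edges_0_137 v (by omega) (by omega)
                · exact edgesRangeI_spec iota E 0 1632 252013 edges_0_138 v (by omega) (by omega)
        · rcases Nat.lt_or_ge v 261620 with h | h
          · rcases Nat.lt_or_ge v 256844 with h | h
            · rcases Nat.lt_or_ge v 255241 with h | h
              · exact edgesRangeI_spec iota E 0 1596 253645 edges_0_139 v (by omega) (by omega)
              · exact edgesRangeI_spec iota E 0 1603 255241 edges_0_140 v (by omega) (by omega)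
            · rcases Nat.lt_or_ge v 258448 with h | h
              · exact edgesRangeI_spec iota E 0 1604 256844 edges_0_141 v (by omega) (by omega)
              · rcases Nat.lt_or_ge v 260024 with h | h
                · exact edgesRangeI_spec iota E 0 1576 258448 edges_0_142 v (by omega) (by omega)
                · exact edgesRangeI_spec iota E 0 1596 260024 edges_0_143 v (by omega) (by omega)
          · rcases Nat.lt_or_ge v 264747 with h | h
            · rcases Nat.lt_or_ge v 263189 with h | h
              · exact edgesRangeI_spec iota E 0 1569 261620 edges_0_144 v (by omega) (by omega)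
              · exact edgesRangeI_spec iota E 0 1558 263189 edges_0_145 v (by omega) (by omega)
            · rcases Nat.lt_or_ge v 266306 with h | h
              · exact edgesRangeI_spec iota E 0 1559 264747 edges_0_146 v (by omega) (by omega)
              · rcases Nat.lt_or_ge v 267860 with h | h
                · exact edgesRangeI_spec iota E 0 1554 266306 edges_0_147 v (by omega) (by omega)
                · exact edgesRangeI_spec iota E 0 1482 267860 edges_0_148 v (by omega) (by omega)

theorem edgesx_1 : ∀ v, v < 269342 → edgeOKI iota E 1 v = true := by
  intro v hv
  rcases Nat.lt_or_ge v 143659 with h | h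
  · rcases Nat.lt_or_ge v 73389 with h | h
    · rcases Nat.lt_or_ge v 36369 with h | h
      · rcases Nat.lt_or_ge v 17273 with h | h
        · rcases Nat.lt_or_ge v 8582 with h | h
          · rcases Nat.lt_or_ge v 4243 with h | h
            · rcases Nat.lt_or_ge v 2130 with h | h
              · exact edgesRangeI_spec iota E 1 2130 0 edges_1_0 v (by omega) (by omega)
              · exact edgesRangeI_spec iota E 1 2113 2130 edges_1_1 v (by omega) (by omega)
            · rcases Nat.lt_or_ge v 6375 with h | h
              · exact edgesRangeI_spec iota E 1 2132 4243 edges_1_2 v (by omega) (by omega)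
              · exact edgesRangeI_spec iota E 1 2207 6375 edges_1_3 v (by omega) (by omega)
          · rcases Nat.lt_or_ge v 12964 with h | h
            · rcases Nat.lt_or_ge v 10763 with h | h
              · exact edgesRangeI_spec iota E 1 2181 8582 edges_1_4 v (by omega) (by omega)
              · exact edgesRangeI_spec iota E 1 2201 10763 edges_1_5 v (by omega) (by omega)
            · rcases Nat.lt_or_ge v 15138 with h | h
              · exact edgesRangeI_spec iota E 1 2174 12964 edges_1_6 v (by omega) (by omega)
              · exact edgesRangeI_spec iota E 1 2135 15138 edges_1_7 v (by omega) (by omega)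
        · rcases Nat.lt_or_ge v 25862 with h | h
          · rcases Nat.lt_or_ge v 21557 with h | h
            · rcases Nat.lt_or_ge v 19396 with h | h
              · exact edgesRangeI_spec iota E 1 2123 17273 edges_1_8 v (by omega) (by omega)
              · exact edgesRangeI_spec iota E 1 2161 19396 edges_1_9 v (by omega) (by omega)
            · rcases Nat.lt_or_ge v 23668 with h | h
              · exact edgesRangeI_spec iota E 1 2111 21557 edges_1_10 v (by omega) (by omega)
              · exact edgesRangeI_spec iota E 1 2194 23668 edges_1_11 v (by omega) (by omega)
          · rcases Nat.lt_or_ge v 30110 with h | h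
            · rcases Nat.lt_or_ge v 28014 with h | h
              · exact edgesRangeI_spec iota E 1 2152 25862 edges_1_12 v (by omega) (by omega)
              · exact edgesRangeI_spec iota E 1 2096 28014 edges_1_13 v (by omega) (by omega)
            · rcases Nat.lt_or_ge v 32197 with h | h
              · exact edgesRangeI_spec iota E 1 2087 30110 edges_1_14 v (by omega) (by omega)
              · rcases Nat.lt_or_ge v 34215 with h | h
                · exact edgesRangeI_spec iota E 1 2018 32197 edges_1_15 v (by omega) (by omega)
                · exact edgesRangeI_spec iota E 1 2154 34215 edges_1_16 v (by omega) (by omega)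
      · rcases Nat.lt_or_ge v 55076 with h | h
        · rcases Nat.lt_or_ge v 44817 with h | h
          · rcases Nat.lt_or_ge v 40588 with h | h
            · rcases Nat.lt_or_ge v 38520 with h | h
              · exact edgesRangeI_spec iota E 1 2151 36369 edges_1_17 v (by omega) (by omega)
              · exact edgesRangeI_spec iota E 1 2068 38520 edges_1_18 v (by omega) (by omega)
            · rcases Nat.lt_or_ge v 42694 with h | h
              · exact edgesRangeI_spec iota E 1 2106 40588 edges_1_19 v (by omega) (by omega)
              · exact edgesRangeI_spec iota E 1 2123 42694 edges_1_20 v (by omega) (by omega)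
          · rcases Nat.lt_or_ge v 48959 with h | h
            · rcases Nat.lt_or_ge v 46900 with h | h
              · exact edgesRangeI_spec iota E 1 2083 44817 edges_1_21 v (by omega) (by omega)
              · exact edgesRangeI_spec iota E 1 2059 46900 edges_1_22 v (by omega) (by omega)
            · rcases Nat.lt_or_ge v 50982 with h | h
              · exact edgesRangeI_spec iota E 1 2023 48959 edges_1_23 v (by omega) (by omega)
              · rcases Nat.lt_or_ge v 53030 with h | h
                · exact edgesRangeI_spec iota E 1 2048 50982 edges_1_24 v (by omega) (by omega)
                · exact edgesRangeI_spec iota E 1 2046 53030 edges_1_25 v (by omega) (by omega)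
        · rcases Nat.lt_or_ge v 63380 with h | h
          · rcases Nat.lt_or_ge v 59206 with h | h
            · rcases Nat.lt_or_ge v 57162 with h | h
              · exact edgesRangeI_spec iota E 1 2086 55076 edges_1_26 v (by omega) (by omega)
              · exact edgesRangeI_spec iota E 1 2044 57162 edges_1_27 v (by omega) (by omega)
            · rcases Nat.lt_or_ge v 61287 with h | h
              · exact edgesRangeI_spec iota E 1 2081 59206 edges_1_28 v (by omega) (by omega)
              · exact edgesRangeI_spec iota E 1 2093 61287 edges_1_29 v (by omega) (by omega)
          · rcases Nat.lt_or_ge v 67359 with h | h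
            · rcases Nat.lt_or_ge v 65367 with h | h
              · exact edgesRangeI_spec iota E 1 1987 63380 edges_1_30 v (by omega) (by omega)
              · exact edgesRangeI_spec iota E 1 1992 65367 edges_1_31 v (by omega) (by omega)
            · rcases Nat.lt_or_ge v 69355 with h | h
              · exact edgesRangeI_spec iota E 1 1996 67359 edges_1_32 v (by omega) (by omega)
              · rcases Nat.lt_or_ge v 71383 with h | h
                · exact edgesRangeI_spec iota E 1 2028 69355 edges_1_33 v (by omega) (by omega)
                · exact edgesRangeI_spec iota E 1 2006 71383 edges_1_34 v (by omega) (by omega)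
    · rcases Nat.lt_or_ge v 108695 with h | h
      · rcases Nat.lt_or_ge v 91259 with h | h
        · rcases Nat.lt_or_ge v 81320 with h | h
          · rcases Nat.lt_or_ge v 77420 with h | h
            · rcases Nat.lt_or_ge v 75425 with h | h
              · exact edgesRangeI_spec iota E 1 2036 73389 edges_1_35 v (by omega) (by omega)
              · exact edgesRangeI_spec iota E 1 1995 75425 edges_1_36 v (by omega) (by omega)
            · rcases Nat.lt_or_ge v 79412 with h | h
              · exact edgesRangeI_spec iota E 1 1992 77420 edges_1_37 v (by omega) (by omega)
              · exact edgesRangeI_spec iota E 1 1908 79412 edges_1_38 v (by omega) (by omega)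
          · rcases Nat.lt_or_ge v 85197 with h | h
            · rcases Nat.lt_or_ge v 83250 with h | h
              · exact edgesRangeI_spec iota E 1 1930 81320 edges_1_39 v (by omega) (by omega)
              · exact edgesRangeI_spec iota E 1 1947 83250 edges_1_40 v (by omega) (by omega)
            · rcases Nat.lt_or_ge v 87183 with h | h
              · exact edgesRangeI_spec iota E 1 1986 85197 edges_1_41 v (by omega) (by omega)
              · rcases Nat.lt_or_ge v 89213 with h | h
                · exact edgesRangeI_spec iota E 1 2030 87183 edges_1_42 v (by omega) (by omega)
                · exact edgesRangeI_spec iota E 1 2046 89213 edges_1_43 v (by omega) (by omega)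
        · rcases Nat.lt_or_ge v 99144 with h | h
          · rcases Nat.lt_or_ge v 95229 with h | h
            · rcases Nat.lt_or_ge v 93269 with h | h
              · exact edgesRangeI_spec iota E 1 2010 91259 edges_1_44 v (by omega) (by omega)
              · exact edgesRangeI_spec iota E 1 1960 93269 edges_1_45 v (by omega) (by omega)
            · rcases Nat.lt_or_ge v 97207 with h | h
              · exact edgesRangeI_spec iota E 1 1978 95229 edges_1_46 v (by omega) (by omega)
              · exact edgesRangeI_spec iota E 1 1937 97207 edges_1_47 v (by omega) (by omega)
          · rcases Nat.lt_or_ge v 102950 with h | h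
            · rcases Nat.lt_or_ge v 101075 with h | h
              · exact edgesRangeI_spec iota E 1 1931 99144 edges_1_48 v (by omega) (by omega)
              · exact edgesRangeI_spec iota E 1 1875 101075 edges_1_49 v (by omega) (by omega)
            · rcases Nat.lt_or_ge v 104855 with h | h
              · exact edgesRangeI_spec iota E 1 1905 102950 edges_1_50 v (by omega) (by omega)
              · rcases Nat.lt_or_ge v 106768 with h | h
                · exact edgesRangeI_spec iota E 1 1913 104855 edges_1_51 v (by omega) (by omega)
                · exact edgesRangeI_spec iota E 1 1927 106768 edges_1_52 v (by omega) (by omega)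
      · rcases Nat.lt_or_ge v 126266 with h | h
        · rcases Nat.lt_or_ge v 116527 with h | h
          · rcases Nat.lt_or_ge v 112518 with h | h
            · rcases Nat.lt_or_ge v 110646 with h | h
              · exact edgesRangeI_spec iota E 1 1951 108695 edges_1_53 v (by omega) (by omega)
              · exact edgesRangeI_spec iota E 1 1872 110646 edges_1_54 v (by omega) (by omega)
            · rcases Nat.lt_or_ge v 114540 with h | h
              · exact edgesRangeI_spec iota E 1 2022 112518 edges_1_55 v (by omega) (by omega)
              · exact edgesRangeI_spec iota E 1 1987 114540 edges_1_56 v (by omega) (by omega)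
          · rcases Nat.lt_or_ge v 120473 with h | h
            · rcases Nat.lt_or_ge v 118493 with h | h
              · exact edgesRangeI_spec iota E 1 1966 116527 edges_1_57 v (by omega) (by omega)
              · exact edgesRangeI_spec iota E 1 1980 118493 edges_1_58 v (by omega) (by omega)
            · rcases Nat.lt_or_ge v 122387 with h | h
              · exact edgesRangeI_spec iota E 1 1914 120473 edges_1_59 v (by omega) (by omega)
              · rcases Nat.lt_or_ge v 124337 with h | h
                · exact edgesRangeI_spec iota E 1 1950 122387 edges_1_60 v (by omega) (by omega)
                · exact edgesRangeI_spec iota E 1 1929 124337 edges_1_61 v (by omega) (by omega)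
        · rcases Nat.lt_or_ge v 134100 with h | h
          · rcases Nat.lt_or_ge v 130253 with h | h
            · rcases Nat.lt_or_ge v 128226 with h | h
              · exact edgesRangeI_spec iota E 1 1960 126266 edges_1_62 v (by omega) (by omega)
              · exact edgesRangeI_spec iota E 1 2027 128226 edges_1_63 v (by omega) (by omega)
            · rcases Nat.lt_or_ge v 132231 with h | h
              · exact edgesRangeI_spec iota E 1 1978 130253 edges_1_64 v (by omega) (by omega)
              · exact edgesRangeI_spec iota E 1 1869 132231 edges_1_65 v (by omega) (by omega)
          · rcases Nat.lt_or_ge v 137885 with h | h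
            · rcases Nat.lt_or_ge v 135996 with h | h
              · exact edgesRangeI_spec iota E 1 1896 134100 edges_1_66 v (by omega) (by omega)
              · exact edgesRangeI_spec iota E 1 1889 135996 edges_1_67 v (by omega) (by omega)
            · rcases Nat.lt_or_ge v 139823 with h | h
              · exact edgesRangeI_spec iota E 1 1938 137885 edges_1_68 v (by omega) (by omega)
              · rcases Nat.lt_or_ge v 141788 with h | h
                · exact edgesRangeI_spec iota E 1 1965 139823 edges_1_69 v (by omega) (by omega)
                · exact edgesRangeI_spec iota E 1 1871 141788 edges_1_70 v (by omega) (by omega)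
  · rcases Nat.lt_or_ge v 209799 with h | h
    · rcases Nat.lt_or_ge v 176417 with h | h
      · rcases Nat.lt_or_ge v 159178 with h | h
        · rcases Nat.lt_or_ge v 151353 with h | h
          · rcases Nat.lt_or_ge v 147442 with h | h
            · rcases Nat.lt_or_ge v 145552 with h | h
              · exact edgesRangeI_spec iota E 1 1893 143659 edges_1_71 v (by omega) (by omega)
              · exact edgesRangeI_spec iota E 1 1890 145552 edges_1_72 v (by omega) (by omega)
            · rcases Nat.lt_or_ge v 149425 with h | h
              · exact edgesRangeI_spec iota E 1 1983 147442 edges_1_73 v (by omega) (by omega)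
              · exact edgesRangeI_spec iota E 1 1928 149425 edges_1_74 v (by omega) (by omega)
          · rcases Nat.lt_or_ge v 155244 with h | h
            · rcases Nat.lt_or_ge v 153284 with h | h
              · exact edgesRangeI_spec iota E 1 1931 151353 edges_1_75 v (by omega) (by omega)
              · exact edgesRangeI_spec iota E 1 1960 153284 edges_1_76 v (by omega) (by omega)
            · rcases Nat.lt_or_ge v 157252 with h | h
              · exact edgesRangeI_spec iota E 1 2008 155244 edges_1_77 v (by omega) (by omega)
              · exact edgesRangeI_spec iota E 1 1926 157252 edges_1_78 v (by omega) (by omega)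
        · rcases Nat.lt_or_ge v 167046 with h | h
          · rcases Nat.lt_or_ge v 163139 with h | h
            · rcases Nat.lt_or_ge v 161200 with h | h
              · exact edgesRangeI_spec iota E 1 2022 159178 edges_1_79 v (by omega) (by omega)
              · exact edgesRangeI_spec iota E 1 1939 161200 edges_1_80 v (by omega) (by omega)
            · rcases Nat.lt_or_ge v 165090 with h | h
              · exact edgesRangeI_spec iota E 1 1951 163139 edges_1_81 v (by omega) (by omega)
              · exact edgesRangeI_spec iota E 1 1956 165090 edges_1_82 v (by omega) (by omega)
          · rcases Nat.lt_or_ge v 170791 with h | h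
            · rcases Nat.lt_or_ge v 168919 with h | h
              · exact edgesRangeI_spec iota E 1 1873 167046 edges_1_83 v (by omega) (by omega)
              · exact edgesRangeI_spec iota E 1 1872 168919 edges_1_84 v (by omega) (by omega)
            · rcases Nat.lt_or_ge v 172699 with h | h
              · exact edgesRangeI_spec iota E 1 1908 170791 edges_1_85 v (by omega) (by omega)
              · rcases Nat.lt_or_ge v 174561 with h | h
                · exact edgesRangeI_spec iota E 1 1862 172699 edges_1_86 v (by omega) (by omega)
                · exact edgesRangeI_spec iota E 1 1856 174561 edges_1_87 v (by omega) (by omega)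
      · rcases Nat.lt_or_ge v 193278 with h | h
        · rcases Nat.lt_or_ge v 183884 with h | h
          · rcases Nat.lt_or_ge v 180131 with h | h
            · rcases Nat.lt_or_ge v 178258 with h | h
              · exact edgesRangeI_spec iota E 1 1841 176417 edges_1_88 v (by omega) (by omega)
              · exact edgesRangeI_spec iota E 1 1873 178258 edges_1_89 v (by omega) (by omega)
            · rcases Nat.lt_or_ge v 181984 with h | h
              · exact edgesRangeI_spec iota E 1 1853 180131 edges_1_90 v (by omega) (by omega)
              · exact edgesRangeI_spec iota E 1 1900 181984 edges_1_91 v (by omega) (by omega)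
          · rcases Nat.lt_or_ge v 187676 with h | h
            · rcases Nat.lt_or_ge v 185787 with h | h
              · exact edgesRangeI_spec iota E 1 1903 183884 edges_1_92 v (by omega) (by omega)
              · exact edgesRangeI_spec iota E 1 1889 185787 edges_1_93 v (by omega) (by omega)
            · rcases Nat.lt_or_ge v 189561 with h | h
              · exact edgesRangeI_spec iota E 1 1885 187676 edges_1_94 v (by omega) (by omega)
              · rcases Nat.lt_or_ge v 191435 with h | h
                · exact edgesRangeI_spec iota E 1 1874 189561 edges_1_95 v (by omega) (by omega)
                · exact edgesRangeI_spec iota E 1 1843 191435 edges_1_96 v (by omega) (by omega)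
        · rcases Nat.lt_or_ge v 200613 with h | h
          · rcases Nat.lt_or_ge v 196922 with h | h
            · rcases Nat.lt_or_ge v 195053 with h | h
              · exact edgesRangeI_spec iota E 1 1775 193278 edges_1_97 v (by omega) (by omega)
              · exact edgesRangeI_spec iota E 1 1869 195053 edges_1_98 v (by omega) (by omega)
            · rcases Nat.lt_or_ge v 198798 with h | h
              · exact edgesRangeI_spec iota E 1 1876 196922 edges_1_99 v (by omega) (by omega)
              · exact edgesRangeI_spec iota E 1 1815 198798 edges_1_100 v (by omega) (by omega)
          · rcases Nat.lt_or_ge v 204332 with h | h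
            · rcases Nat.lt_or_ge v 202470 with h | h
              · exact edgesRangeI_spec iota E 1 1857 200613 edges_1_101 v (by omega) (by omega)
              · exact edgesRangeI_spec iota E 1 1862 202470 edges_1_102 v (by omega) (by omega)
            · rcases Nat.lt_or_ge v 206192 with h | h
              · exact edgesRangeI_spec iota E 1 1860 204332 edges_1_103 v (by omega) (by omega)
              · rcases Nat.lt_or_ge v 208003 with h | h
                · exact edgesRangeI_spec iota E 1 1811 206192 edges_1_104 v (by omega) (by omega)
                · exact edgesRangeI_spec iota E 1 1796 208003 edges_1_105 v (by omega) (by omega)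
    · rcases Nat.lt_or_ge v 241216 with h | h
      · rcases Nat.lt_or_ge v 225782 with h | h
        · rcases Nat.lt_or_ge v 217065 with h | h
          · rcases Nat.lt_or_ge v 213452 with h | h
            · rcases Nat.lt_or_ge v 211651 with h | h
              · exact edgesRangeI_spec iota E 1 1852 209799 edges_1_106 v (by omega) (by omega)
              · exact edgesRangeI_spec iota E 1 1801 211651 edges_1_107 v (by omega) (by omega)
            · rcases Nat.lt_or_ge v 215243 with h | h
              · exact edgesRangeI_spec iota E 1 1791 213452 edges_1_108 v (by omega) (by omega)
              · exact edgesRangeI_spec iota E 1 1822 215243 edges_1_109 v (by omega) (by omega)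
          · rcases Nat.lt_or_ge v 220576 with h | h
            · rcases Nat.lt_or_ge v 218817 with h | h
              · exact edgesRangeI_spec iota E 1 1752 217065 edges_1_110 v (by omega) (by omega)
              · exact edgesRangeI_spec iota E 1 1759 218817 edges_1_111 v (by omega) (by omega)
            · rcases Nat.lt_or_ge v 222343 with h | h
              · exact edgesRangeI_spec iota E 1 1767 220576 edges_1_112 v (by omega) (by omega)
              · rcases Nat.lt_or_ge v 224054 with h | h
                · exact edgesRangeI_spec iota E 1 1711 222343 edges_1_113 v (by omega) (by omega)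
                · exact edgesRangeI_spec iota E 1 1728 224054 edges_1_114 v (by omega) (by omega)
        · rcases Nat.lt_or_ge v 232742 with h | h
          · rcases Nat.lt_or_ge v 229252 with h | h
            · rcases Nat.lt_or_ge v 227531 with h | h
              · exact edgesRangeI_spec iota E 1 1749 225782 edges_1_115 v (by omega) (by omega)
              · exact edgesRangeI_spec iota E 1 1721 227531 edges_1_116 v (by omega) (by omega)
            · rcases Nat.lt_or_ge v 230983 with h | h
              · exact edgesRangeI_spec iota E 1 1731 229252 edges_1_117 v (by omega) (by omega)
              · exact edgesRangeI_spec iota E 1 1759 230983 edges_1_118 v (by omega) (by omega)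
          · rcases Nat.lt_or_ge v 236129 with h | h
            · rcases Nat.lt_or_ge v 234416 with h | h
              · exact edgesRangeI_spec iota E 1 1674 232742 edges_1_119 v (by omega) (by omega)
              · exact edgesRangeI_spec iota E 1 1713 234416 edges_1_120 v (by omega) (by omega)
            · rcases Nat.lt_or_ge v 237854 with h | h
              · exact edgesRangeI_spec iota E 1 1725 236129 edges_1_121 v (by omega) (by omega)
              · rcases Nat.lt_or_ge v 239555 with h | h
                · exact edgesRangeI_spec iota E 1 1701 237854 edges_1_122 v (by omega) (by omega)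
                · exact edgesRangeI_spec iota E 1 1661 239555 edges_1_123 v (by omega) (by omega)
      · rcases Nat.lt_or_ge v 255980 with h | h
        · rcases Nat.lt_or_ge v 247864 with h | h
          · rcases Nat.lt_or_ge v 244537 with h | h
            · rcases Nat.lt_or_ge v 242907 with h | h
              · exact edgesRangeI_spec iota E 1 1691 241216 edges_1_124 v (by omega) (by omega)
              · exact edgesRangeI_spec iota E 1 1630 242907 edges_1_125 v (by omega) (by omega)
            · rcases Nat.lt_or_ge v 246191 with h | h
              · exact edgesRangeI_spec iota E 1 1654 244537 edges_1_126 v (by omega) (by omega)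
              · exact edgesRangeI_spec iota E 1 1673 246191 edges_1_127 v (by omega) (by omega)
          · rcases Nat.lt_or_ge v 251118 with h | h
            · rcases Nat.lt_or_ge v 249495 with h | h
              · exact edgesRangeI_spec iota E 1 1631 247864 edges_1_128 v (by omega) (by omega)
              · exact edgesRangeI_spec iota E 1 1623 249495 edges_1_129 v (by omega) (by omega)
            · rcases Nat.lt_or_ge v 252755 with h | h
              · exact edgesRangeI_spec iota E 1 1637 251118 edges_1_130 v (by omega) (by omega)
              · rcases Nat.lt_or_ge v 254369 with h | h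
                · exact edgesRangeI_spec iota E 1 1614 252755 edges_1_131 v (by omega) (by omega)
                · exact edgesRangeI_spec iota E 1 1611 254369 edges_1_132 v (by omega) (by omega)
        · rcases Nat.lt_or_ge v 262322 with h | h
          · rcases Nat.lt_or_ge v 259194 with h | h
            · rcases Nat.lt_or_ge v 257593 with h | h
              · exact edgesRangeI_spec iota E 1 1613 255980 edges_1_133 v (by omega) (by omega)
              · exact edgesRangeI_spec iota E 1 1601 257593 edges_1_134 v (by omega) (by omega)
            · rcases Nat.lt_or_ge v 260748 with h | h
              · exact edgesRangeI_spec iota E 1 1554 259194 edges_1_135 v (by omega) (by omega)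
              · exact edgesRangeI_spec iota E 1 1574 260748 edges_1_136 v (by omega) (by omega)
          · rcases Nat.lt_or_ge v 265405 with h | h
            · rcases Nat.lt_or_ge v 263867 with h | h
              · exact edgesRangeI_spec iota E 1 1545 262322 edges_1_137 v (by omega) (by omega)
              · exact edgesRangeI_spec iota E 1 1538 263867 edges_1_138 v (by omega) (by omega)
            · rcases Nat.lt_or_ge v 266935 with h | h
              · exact edgesRangeI_spec iota E 1 1530 265405 edges_1_139 v (by omega) (by omega)
              · rcases Nat.lt_or_ge v 268462 with h | h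
                · exact edgesRangeI_spec iota E 1 1527 266935 edges_1_140 v (by omega) (by omega)
                · exact edgesRangeI_spec iota E 1 880 268462 edges_1_141 v (by omega) (by omega)

theorem edgesx_2 : ∀ v, v < 269342 → edgeOKI iota E 2 v = true := by
  intro v hv
  rcases Nat.lt_or_ge v 151626 with h | h
  · rcases Nat.lt_or_ge v 79498 with h | h
    · rcases Nat.lt_or_ge v 41670 with h | h
      · rcases Nat.lt_or_ge v 21743 with h | h
        · rcases Nat.lt_or_ge v 9896 with h | h
          · rcases Nat.lt_or_ge v 4878 with h | h
            · rcases Nat.lt_or_ge v 2422 with h | h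
              · exact edgesRangeI_spec iota E 2 2422 0 edges_2_0 v (by omega) (by omega)
              · exact edgesRangeI_spec iota E 2 2456 2422 edges_2_1 v (by omega) (by omega)
            · rcases Nat.lt_or_ge v 7451 with h | h
              · exact edgesRangeI_spec iota E 2 2573 4878 edges_2_2 v (by omega) (by omega)
              · exact edgesRangeI_spec iota E 2 2445 7451 edges_2_3 v (by omega) (by omega)
          · rcases Nat.lt_or_ge v 14783 with h | h
            · rcases Nat.lt_or_ge v 12384 with h | h
              · exact edgesRangeI_spec iota E 2 2488 9896 edges_2_4 v (by omega) (by omega)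
              · exact edgesRangeI_spec iota E 2 2399 12384 edges_2_5 v (by omega) (by omega)
            · rcases Nat.lt_or_ge v 17109 with h | h
              · exact edgesRangeI_spec iota E 2 2326 14783 edges_2_6 v (by omega) (by omega)
              · rcases Nat.lt_or_ge v 19403 with h | h
                · exact edgesRangeI_spec iota E 2 2294 17109 edges_2_7 v (by omega) (by omega)
                · exact edgesRangeI_spec iota E 2 2340 19403 edges_2_8 v (by omega) (by omega)
        · rcases Nat.lt_or_ge v 30767 with h | h
          · rcases Nat.lt_or_ge v 26255 with h | h
            · rcases Nat.lt_or_ge v 23995 with h | h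
              · exact edgesRangeI_spec iota E 2 2252 21743 edges_2_9 v (by omega) (by omega)
              · exact edgesRangeI_spec iota E 2 2260 23995 edges_2_10 v (by omega) (by omega)
            · rcases Nat.lt_or_ge v 28536 with h | h
              · exact edgesRangeI_spec iota E 2 2281 26255 edges_2_11 v (by omega) (by omega)
              · exact edgesRangeI_spec iota E 2 2231 28536 edges_2_12 v (by omega) (by omega)
          · rcases Nat.lt_or_ge v 35057 with h | h
            · rcases Nat.lt_or_ge v 32952 with h | h
              · exact edgesRangeI_spec iota E 2 2185 30767 edges_2_13 v (by omega) (by omega)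
              · exact edgesRangeI_spec iota E 2 2105 32952 edges_2_14 v (by omega) (by omega)
            · rcases Nat.lt_or_ge v 37239 with h | h
              · exact edgesRangeI_spec iota E 2 2182 35057 edges_2_15 v (by omega) (by omega)
              · rcases Nat.lt_or_ge v 39461 with h | h
                · exact edgesRangeI_spec iota E 2 2222 37239 edges_2_16 v (by omega) (by omega)
                · exact edgesRangeI_spec iota E 2 2209 39461 edges_2_17 v (by omega) (by omega)
      · rcases Nat.lt_or_ge v 60886 with h | h
        · rcases Nat.lt_or_ge v 50304 with h | h
          · rcases Nat.lt_or_ge v 45992 with h | h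
            · rcases Nat.lt_or_ge v 43789 with h | h
              · exact edgesRangeI_spec iota E 2 2119 41670 edges_2_18 v (by omega) (by omega)
              · exact edgesRangeI_spec iota E 2 2203 43789 edges_2_19 v (by omega) (by omega)
            · rcases Nat.lt_or_ge v 48157 with h | h
              · exact edgesRangeI_spec iota E 2 2165 45992 edges_2_20 v (by omega) (by omega)
              · exact edgesRangeI_spec iota E 2 2147 48157 edges_2_21 v (by omega) (by omega)
          · rcases Nat.lt_or_ge v 54445 with h | h
            · rcases Nat.lt_or_ge v 52376 with h | h
              · exact edgesRangeI_spec iota E 2 2072 50304 edges_2_22 v (by omega) (by omega)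
              · exact edgesRangeI_spec iota E 2 2069 52376 edges_2_23 v (by omega) (by omega)
            · rcases Nat.lt_or_ge v 56617 with h | h
              · exact edgesRangeI_spec iota E 2 2172 54445 edges_2_24 v (by omega) (by omega)
              · rcases Nat.lt_or_ge v 58835 with h | h
                · exact edgesRangeI_spec iota E 2 2218 56617 edges_2_25 v (by omega) (by omega)
                · exact edgesRangeI_spec iota E 2 2051 58835 edges_2_26 v (by omega) (by omega)
        · rcases Nat.lt_or_ge v 69159 with h | h
          · rcases Nat.lt_or_ge v 65095 with h | h
            · rcases Nat.lt_or_ge v 63014 with h | h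
              · exact edgesRangeI_spec iota E 2 2128 60886 edges_2_27 v (by omega) (by omega)
              · exact edgesRangeI_spec iota E 2 2081 63014 edges_2_28 v (by omega) (by omega)
            · rcases Nat.lt_or_ge v 67200 with h | h
              · exact edgesRangeI_spec iota E 2 2105 65095 edges_2_29 v (by omega) (by omega)
              · exact edgesRangeI_spec iota E 2 1959 67200 edges_2_30 v (by omega) (by omega)
          · rcases Nat.lt_or_ge v 73178 with h | h
            · rcases Nat.lt_or_ge v 71194 with h | h
              · exact edgesRangeI_spec iota E 2 2035 69159 edges_2_31 v (by omega) (by omega)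
              · exact edgesRangeI_spec iota E 2 1984 71194 edges_2_32 v (by omega) (by omega)
            · rcases Nat.lt_or_ge v 75130 with h | h
              · exact edgesRangeI_spec iota E 2 1952 73178 edges_2_33 v (by omega) (by omega)
              · rcases Nat.lt_or_ge v 77304 with h | h
                · exact edgesRangeI_spec iota E 2 2174 75130 edges_2_34 v (by omega) (by omega)
                · exact edgesRangeI_spec iota E 2 2194 77304 edges_2_35 v (by omega) (by omega)
    · rcases Nat.lt_or_ge v 115687 with h | h
      · rcases Nat.lt_or_ge v 97435 with h | h
        · rcases Nat.lt_or_ge v 87523 with h | h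
          · rcases Nat.lt_or_ge v 83622 with h | h
            · rcases Nat.lt_or_ge v 81521 with h | h
              · exact edgesRangeI_spec iota E 2 2023 79498 edges_2_36 v (by omega) (by omega)
              · exact edgesRangeI_spec iota E 2 2101 81521 edges_2_37 v (by omega) (by omega)
            · rcases Nat.lt_or_ge v 85563 with h | h
              · exact edgesRangeI_spec iota E 2 1941 83622 edges_2_38 v (by omega) (by omega)
              · exact edgesRangeI_spec iota E 2 1960 85563 edges_2_39 v (by omega) (by omega)
          · rcases Nat.lt_or_ge v 91685 with h | h
            · rcases Nat.lt_or_ge v 89516 with h | h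
              · exact edgesRangeI_spec iota E 2 1993 87523 edges_2_40 v (by omega) (by omega)
              · exact edgesRangeI_spec iota E 2 2169 89516 edges_2_41 v (by omega) (by omega)
            · rcases Nat.lt_or_ge v 93654 with h | h
              · exact edgesRangeI_spec iota E 2 1969 91685 edges_2_42 v (by omega) (by omega)
              · rcases Nat.lt_or_ge v 95584 with h | h
                · exact edgesRangeI_spec iota E 2 1930 93654 edges_2_43 v (by omega) (by omega)
                · exact edgesRangeI_spec iota E 2 1851 95584 edges_2_44 v (by omega) (by omega)
        · rcases Nat.lt_or_ge v 105458 with h | h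
          · rcases Nat.lt_or_ge v 101654 with h | h
            · rcases Nat.lt_or_ge v 99574 with h | h
              · exact edgesRangeI_spec iota E 2 2139 97435 edges_2_45 v (by omega) (by omega)
              · exact edgesRangeI_spec iota E 2 2080 99574 edges_2_46 v (by omega) (by omega)
            · rcases Nat.lt_or_ge v 103582 with h | h
              · exact edgesRangeI_spec iota E 2 1928 101654 edges_2_47 v (by omega) (by omega)
              · exact edgesRangeI_spec iota E 2 1876 103582 edges_2_48 v (by omega) (by omega)
          · rcases Nat.lt_or_ge v 109485 with h | h
            · rcases Nat.lt_or_ge v 107466 with h | h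
              · exact edgesRangeI_spec iota E 2 2008 105458 edges_2_49 v (by omega) (by omega)
              · exact edgesRangeI_spec iota E 2 2019 107466 edges_2_50 v (by omega) (by omega)
            · rcases Nat.lt_or_ge v 111400 with h | h
              · exact edgesRangeI_spec iota E 2 1915 109485 edges_2_51 v (by omega) (by omega)
              · rcases Nat.lt_or_ge v 113414 with h | h
                · exact edgesRangeI_spec iota E 2 2014 111400 edges_2_52 v (by omega) (by omega)
                · exact edgesRangeI_spec iota E 2 2273 113414 edges_2_53 v (by omega) (by omega)
      · rcases Nat.lt_or_ge v 133560 with h | h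
        · rcases Nat.lt_or_ge v 123907 with h | h
          · rcases Nat.lt_or_ge v 119954 with h | h
            · rcases Nat.lt_or_ge v 117896 with h | h
              · exact edgesRangeI_spec iota E 2 2209 115687 edges_2_54 v (by omega) (by omega)
              · exact edgesRangeI_spec iota E 2 2058 117896 edges_2_55 v (by omega) (by omega)
            · rcases Nat.lt_or_ge v 121991 with h | h
              · exact edgesRangeI_spec iota E 2 2037 119954 edges_2_56 v (by omega) (by omega)
              · exact edgesRangeI_spec iota E 2 1916 121991 edges_2_57 v (by omega) (by omega)
          · rcases Nat.lt_or_ge v 127840 with h | h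
            · rcases Nat.lt_or_ge v 125885 with h | h
              · exact edgesRangeI_spec iota E 2 1978 123907 edges_2_58 v (by omega) (by omega)
              · exact edgesRangeI_spec iota E 2 1955 125885 edges_2_59 v (by omega) (by omega)
            · rcases Nat.lt_or_ge v 129780 with h | h
              · exact edgesRangeI_spec iota E 2 1940 127840 edges_2_60 v (by omega) (by omega)
              · rcases Nat.lt_or_ge v 131672 with h | h
                · exact edgesRangeI_spec iota E 2 1892 129780 edges_2_61 v (by omega) (by omega)
                · exact edgesRangeI_spec iota E 2 1888 131672 edges_2_62 v (by omega) (by omega)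
        · rcases Nat.lt_or_ge v 141617 with h | h
          · rcases Nat.lt_or_ge v 137364 with h | h
            · rcases Nat.lt_or_ge v 135478 with h | h
              · exact edgesRangeI_spec iota E 2 1918 133560 edges_2_63 v (by omega) (by omega)
              · exact edgesRangeI_spec iota E 2 1886 135478 edges_2_64 v (by omega) (by omega)
            · rcases Nat.lt_or_ge v 139489 with h | h
              · exact edgesRangeI_spec iota E 2 2125 137364 edges_2_65 v (by omega) (by omega)
              · exact edgesRangeI_spec iota E 2 2128 139489 edges_2_66 v (by omega) (by omega)
          · rcases Nat.lt_or_ge v 145609 with h | h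
            · rcases Nat.lt_or_ge v 143640 with h | h
              · exact edgesRangeI_spec iota E 2 2023 141617 edges_2_67 v (by omega) (by omega)
              · exact edgesRangeI_spec iota E 2 1969 143640 edges_2_68 v (by omega) (by omega)
            · rcases Nat.lt_or_ge v 147656 with h | h
              · exact edgesRangeI_spec iota E 2 2047 145609 edges_2_69 v (by omega) (by omega)
              · rcases Nat.lt_or_ge v 149682 with h | h
                · exact edgesRangeI_spec iota E 2 2026 147656 edges_2_70 v (by omega) (by omega)
                · exact edgesRangeI_spec iota E 2 1944 149682 edges_2_71 v (by omega) (by omega)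
  · rcases Nat.lt_or_ge v 217570 with h | h
    · rcases Nat.lt_or_ge v 186014 with h | h
      · rcases Nat.lt_or_ge v 169276 with h | h
        · rcases Nat.lt_or_ge v 159599 with h | h
          · rcases Nat.lt_or_ge v 155676 with h | h
            · rcases Nat.lt_or_ge v 153651 with h | h
              · exact edgesRangeI_spec iota E 2 2025 151626 edges_2_72 v (by omega) (by omega)
              · exact edgesRangeI_spec iota E 2 2025 153651 edges_2_73 v (by omega) (by omega)
            · rcases Nat.lt_or_ge v 157626 with h | h
              · exact edgesRangeI_spec iota E 2 1950 155676 edges_2_74 v (by omega) (by omega)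
              · exact edgesRangeI_spec iota E 2 1973 157626 edges_2_75 v (by omega) (by omega)
          · rcases Nat.lt_or_ge v 163579 with h | h
            · rcases Nat.lt_or_ge v 161581 with h | h
              · exact edgesRangeI_spec iota E 2 1982 159599 edges_2_76 v (by omega) (by omega)
              · exact edgesRangeI_spec iota E 2 1998 161581 edges_2_77 v (by omega) (by omega)
            · rcases Nat.lt_or_ge v 165534 with h | h
              · exact edgesRangeI_spec iota E 2 1955 163579 edges_2_78 v (by omega) (by omega)
              · rcases Nat.lt_or_ge v 167493 with h | h
                · exact edgesRangeI_spec iota E 2 1959 165534 edges_2_79 v (by omega) (by omega)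
                · exact edgesRangeI_spec iota E 2 1783 167493 edges_2_80 v (by omega) (by omega)
        · rcases Nat.lt_or_ge v 176721 with h | h
          · rcases Nat.lt_or_ge v 173029 with h | h
            · rcases Nat.lt_or_ge v 171224 with h | h
              · exact edgesRangeI_spec iota E 2 1948 169276 edges_2_81 v (by omega) (by omega)
              · exact edgesRangeI_spec iota E 2 1805 171224 edges_2_82 v (by omega) (by omega)
            · rcases Nat.lt_or_ge v 174885 with h | h
              · exact edgesRangeI_spec iota E 2 1856 173029 edges_2_83 v (by omega) (by omega)
              · exact edgesRangeI_spec iota E 2 1836 174885 edges_2_84 v (by omega) (by omega)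
          · rcases Nat.lt_or_ge v 180428 with h | h
            · rcases Nat.lt_or_ge v 178579 with h | h
              · exact edgesRangeI_spec iota E 2 1858 176721 edges_2_85 v (by omega) (by omega)
              · exact edgesRangeI_spec iota E 2 1849 178579 edges_2_86 v (by omega) (by omega)
            · rcases Nat.lt_or_ge v 182280 with h | h
              · exact edgesRangeI_spec iota E 2 1852 180428 edges_2_87 v (by omega) (by omega)
              · rcases Nat.lt_or_ge v 184201 with h | h
                · exact edgesRangeI_spec iota E 2 1921 182280 edges_2_88 v (by omega) (by omega)
                · exact edgesRangeI_spec iota E 2 1813 184201 edges_2_89 v (by omega) (by omega)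
      · rcases Nat.lt_or_ge v 202401 with h | h
        · rcases Nat.lt_or_ge v 193459 with h | h
          · rcases Nat.lt_or_ge v 189755 with h | h
            · rcases Nat.lt_or_ge v 187866 with h | h
              · exact edgesRangeI_spec iota E 2 1852 186014 edges_2_90 v (by omega) (by omega)
              · exact edgesRangeI_spec iota E 2 1889 187866 edges_2_91 v (by omega) (by omega)
            · rcases Nat.lt_or_ge v 191574 with h | h
              · exact edgesRangeI_spec iota E 2 1819 189755 edges_2_92 v (by omega) (by omega)
              · exact edgesRangeI_spec iota E 2 1885 191574 edges_2_93 v (by omega) (by omega)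
          · rcases Nat.lt_or_ge v 197046 with h | h
            · rcases Nat.lt_or_ge v 195254 with h | h
              · exact edgesRangeI_spec iota E 2 1795 193459 edges_2_94 v (by omega) (by omega)
              · exact edgesRangeI_spec iota E 2 1792 195254 edges_2_95 v (by omega) (by omega)
            · rcases Nat.lt_or_ge v 198819 with h | h
              · exact edgesRangeI_spec iota E 2 1773 197046 edges_2_96 v (by omega) (by omega)
              · rcases Nat.lt_or_ge v 200641 with h | h
                · exact edgesRangeI_spec iota E 2 1822 198819 edges_2_97 v (by omega) (by omega)
                · exact edgesRangeI_spec iota E 2 1760 200641 edges_2_98 v (by omega) (by omega)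
        · rcases Nat.lt_or_ge v 209199 with h | h
          · rcases Nat.lt_or_ge v 205801 with h | h
            · rcases Nat.lt_or_ge v 204145 with h | h
              · exact edgesRangeI_spec iota E 2 1744 202401 edges_2_99 v (by omega) (by omega)
              · exact edgesRangeI_spec iota E 2 1656 204145 edges_2_100 v (by omega) (by omega)
            · rcases Nat.lt_or_ge v 207549 with h | h
              · exact edgesRangeI_spec iota E 2 1748 205801 edges_2_101 v (by omega) (by omega)
              · exact edgesRangeI_spec iota E 2 1650 207549 edges_2_102 v (by omega) (by omega)
          · rcases Nat.lt_or_ge v 212637 with h | h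
            · rcases Nat.lt_or_ge v 210922 with h | h
              · exact edgesRangeI_spec iota E 2 1723 209199 edges_2_103 v (by omega) (by omega)
              · exact edgesRangeI_spec iota E 2 1715 210922 edges_2_104 v (by omega) (by omega)
            · rcases Nat.lt_or_ge v 214253 with h | h
              · exact edgesRangeI_spec iota E 2 1616 212637 edges_2_105 v (by omega) (by omega)
              · rcases Nat.lt_or_ge v 215909 with h | h
                · exact edgesRangeI_spec iota E 2 1656 214253 edges_2_106 v (by omega) (by omega)
                · exact edgesRangeI_spec iota E 2 1661 215909 edges_2_107 v (by omega) (by omega)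
    · rcases Nat.lt_or_ge v 245336 with h | h
      · rcases Nat.lt_or_ge v 231901 with h | h
        · rcases Nat.lt_or_ge v 224034 with h | h
          · rcases Nat.lt_or_ge v 220963 with h | h
            · rcases Nat.lt_or_ge v 219293 with h | h
              · exact edgesRangeI_spec iota E 2 1723 217570 edges_2_108 v (by omega) (by omega)
              · exact edgesRangeI_spec iota E 2 1670 219293 edges_2_109 v (by omega) (by omega)
            · rcases Nat.lt_or_ge v 222489 with h | h
              · exact edgesRangeI_spec iota E 2 1526 220963 edges_2_110 v (by omega) (by omega)
              · exact edgesRangeI_spec iota E 2 1545 222489 edges_2_111 v (by omega) (by omega)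
          · rcases Nat.lt_or_ge v 227239 with h | h
            · rcases Nat.lt_or_ge v 225601 with h | h
              · exact edgesRangeI_spec iota E 2 1567 224034 edges_2_112 v (by omega) (by omega)
              · exact edgesRangeI_spec iota E 2 1638 225601 edges_2_113 v (by omega) (by omega)
            · rcases Nat.lt_or_ge v 228790 with h | h
              · exact edgesRangeI_spec iota E 2 1551 227239 edges_2_114 v (by omega) (by omega)
              · rcases Nat.lt_or_ge v 230374 with h | h
                · exact edgesRangeI_spec iota E 2 1584 228790 edges_2_115 v (by omega) (by omega)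
                · exact edgesRangeI_spec iota E 2 1527 230374 edges_2_116 v (by omega) (by omega)
        · rcases Nat.lt_or_ge v 237984 with h | h
          · rcases Nat.lt_or_ge v 234978 with h | h
            · rcases Nat.lt_or_ge v 233452 with h | h
              · exact edgesRangeI_spec iota E 2 1551 231901 edges_2_117 v (by omega) (by omega)
              · exact edgesRangeI_spec iota E 2 1526 233452 edges_2_118 v (by omega) (by omega)
            · rcases Nat.lt_or_ge v 236507 with h | h
              · exact edgesRangeI_spec iota E 2 1529 234978 edges_2_119 v (by omega) (by omega)
              · exact edgesRangeI_spec iota E 2 1477 236507 edges_2_120 v (by omega) (by omega)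
          · rcases Nat.lt_or_ge v 241036 with h | h
            · rcases Nat.lt_or_ge v 239544 with h | h
              · exact edgesRangeI_spec iota E 2 1560 237984 edges_2_121 v (by omega) (by omega)
              · exact edgesRangeI_spec iota E 2 1492 239544 edges_2_122 v (by omega) (by omega)
            · rcases Nat.lt_or_ge v 242457 with h | h
              · exact edgesRangeI_spec iota E 2 1421 241036 edges_2_123 v (by omega) (by omega)
              · rcases Nat.lt_or_ge v 243894 with h | h
                · exact edgesRangeI_spec iota E 2 1437 242457 edges_2_124 v (by omega) (by omega)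
                · exact edgesRangeI_spec iota E 2 1442 243894 edges_2_125 v (by omega) (by omega)
      · rcases Nat.lt_or_ge v 257606 with h | h
        · rcases Nat.lt_or_ge v 250915 with h | h
          · rcases Nat.lt_or_ge v 248115 with h | h
            · rcases Nat.lt_or_ge v 246749 with h | h
              · exact edgesRangeI_spec iota E 2 1413 245336 edges_2_126 v (by omega) (by omega)
              · exact edgesRangeI_spec iota E 2 1366 246749 edges_2_127 v (by omega) (by omega)
            · rcases Nat.lt_or_ge v 249573 with h | h
              · exact edgesRangeI_spec iota E 2 1458 248115 edges_2_128 v (by omega) (by omega)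
              · exact edgesRangeI_spec iota E 2 1342 249573 edges_2_129 v (by omega) (by omega)
          · rcases Nat.lt_or_ge v 253639 with h | h
            · rcases Nat.lt_or_ge v 252271 with h | h
              · exact edgesRangeI_spec iota E 2 1356 250915 edges_2_130 v (by omega) (by omega)
              · exact edgesRangeI_spec iota E 2 1368 252271 edges_2_131 v (by omega) (by omega)
            · rcases Nat.lt_or_ge v 254952 with h | h
              · exact edgesRangeI_spec iota E 2 1313 253639 edges_2_132 v (by omega) (by omega)
              · rcases Nat.lt_or_ge v 256315 with h | h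
                · exact edgesRangeI_spec iota E 2 1363 254952 edges_2_133 v (by omega) (by omega)
                · exact edgesRangeI_spec iota E 2 1291 256315 edges_2_134 v (by omega) (by omega)
        · rcases Nat.lt_or_ge v 263829 with h | h
          · rcases Nat.lt_or_ge v 260123 with h | h
            · rcases Nat.lt_or_ge v 258886 with h | h
              · exact edgesRangeI_spec iota E 2 1280 257606 edges_2_135 v (by omega) (by omega)
              · exact edgesRangeI_spec iota E 2 1237 258886 edges_2_136 v (by omega) (by omega)
            · rcases Nat.lt_or_ge v 261340 with h | h
              · exact edgesRangeI_spec iota E 2 1217 260123 edges_2_137 v (by omega) (by omega)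
              · rcases Nat.lt_or_ge v 262609 with h | h
                · exact edgesRangeI_spec iota E 2 1269 261340 edges_2_138 v (by omega) (by omega)
                · exact edgesRangeI_spec iota E 2 1220 262609 edges_2_139 v (by omega) (by omega)
          · rcases Nat.lt_or_ge v 266169 with h | h
            · rcases Nat.lt_or_ge v 265006 with h | h
              · exact edgesRangeI_spec iota E 2 1177 263829 edges_2_140 v (by omega) (by omega)
              · exact edgesRangeI_spec iota E 2 1163 265006 edges_2_141 v (by omega) (by omega)
            · rcases Nat.lt_or_ge v 267319 with h | h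
              · exact edgesRangeI_spec iota E 2 1150 266169 edges_2_142 v (by omega) (by omega)
              · rcases Nat.lt_or_ge v 268465 with h | h
                · exact edgesRangeI_spec iota E 2 1146 267319 edges_2_143 v (by omega) (by omega)
                · exact edgesRangeI_spec iota E 2 877 268465 edges_2_144 v (by omega) (by omega)

theorem edgesx_3 : ∀ v, v < 269342 → edgeOKI iota E 3 v = true := by
  intro v hv
  rcases Nat.lt_or_ge v 158460 with h | h
  · rcases Nat.lt_or_ge v 83453 with h | h
    · rcases Nat.lt_or_ge v 46644 with h | h
      · rcases Nat.lt_or_ge v 25265 with h | h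
        · rcases Nat.lt_or_ge v 11228 with h | h
          · rcases Nat.lt_or_ge v 3631 with h | h
            · exact edgesRangeI_spec iota E 3 3631 0 edges_3_0 v (by omega) (by omega)
            · rcases Nat.lt_or_ge v 7650 with h | h
              · exact edgesRangeI_spec iota E 3 4019 3631 edges_3_1 v (by omega) (by omega)
              · exact edgesRangeI_spec iota E 3 3578 7650 edges_3_2 v (by omega) (by omega)
          · rcases Nat.lt_or_ge v 18218 with h | h
            · rcases Nat.lt_or_ge v 14953 with h | h
              · exact edgesRangeI_spec iota E 3 3725 11228 edges_3_3 v (by omega) (by omega)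
              · exact edgesRangeI_spec iota E 3 3265 14953 edges_3_4 v (by omega) (by omega)
            · rcases Nat.lt_or_ge v 21793 with h | h
              · exact edgesRangeI_spec iota E 3 3575 18218 edges_3_5 v (by omega) (by omega)
              · exact edgesRangeI_spec iota E 3 3472 21793 edges_3_6 v (by omega) (by omega)
        · rcases Nat.lt_or_ge v 34794 with h | h
          · rcases Nat.lt_or_ge v 28650 with h | h
            · exact edgesRangeI_spec iota E 3 3385 25265 edges_3_7 v (by omega) (by omega)
            · rcases Nat.lt_or_ge v 31745 with h | h
              · exact edgesRangeI_spec iota E 3 3095 28650 edges_3_8 v (by omega) (by omega)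
              · exact edgesRangeI_spec iota E 3 3049 31745 edges_3_9 v (by omega) (by omega)
          · rcases Nat.lt_or_ge v 40910 with h | h
            · rcases Nat.lt_or_ge v 37992 with h | h
              · exact edgesRangeI_spec iota E 3 3198 34794 edges_3_10 v (by omega) (by omega)
              · exact edgesRangeI_spec iota E 3 2918 37992 edges_3_11 v (by omega) (by omega)
            · rcases Nat.lt_or_ge v 43708 with h | h
              · exact edgesRangeI_spec iota E 3 2798 40910 edges_3_12 v (by omega) (by omega)
              · exact edgesRangeI_spec iota E 3 2936 43708 edges_3_13 v (by omega) (by omega)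
      · rcases Nat.lt_or_ge v 65423 with h | h
        · rcases Nat.lt_or_ge v 54549 with h | h
          · rcases Nat.lt_or_ge v 49402 with h | h
            · exact edgesRangeI_spec iota E 3 2758 46644 edges_3_14 v (by omega) (by omega)
            · rcases Nat.lt_or_ge v 51910 with h | h
              · exact edgesRangeI_spec iota E 3 2508 49402 edges_3_15 v (by omega) (by omega)
              · exact edgesRangeI_spec iota E 3 2639 51910 edges_3_16 v (by omega) (by omega)
          · rcases Nat.lt_or_ge v 60139 with h | h
            · rcases Nat.lt_or_ge v 57362 with h | h
              · exact edgesRangeI_spec iota E 3 2813 54549 edges_3_17 v (by omega) (by omega)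
              · exact edgesRangeI_spec iota E 3 2777 57362 edges_3_18 v (by omega) (by omega)
            · rcases Nat.lt_or_ge v 62723 with h | h
              · exact edgesRangeI_spec iota E 3 2584 60139 edges_3_19 v (by omega) (by omega)
              · exact edgesRangeI_spec iota E 3 2700 62723 edges_3_20 v (by omega) (by omega)
        · rcases Nat.lt_or_ge v 72908 with h | h
          · rcases Nat.lt_or_ge v 67875 with h | h
            · exact edgesRangeI_spec iota E 3 2452 65423 edges_3_21 v (by omega) (by omega)
            · rcases Nat.lt_or_ge v 70357 with h | h
              · exact edgesRangeI_spec iota E 3 2482 67875 edges_3_22 v (by omega) (by omega)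
              · exact edgesRangeI_spec iota E 3 2551 70357 edges_3_23 v (by omega) (by omega)
          · rcases Nat.lt_or_ge v 78182 with h | h
            · rcases Nat.lt_or_ge v 75484 with h | h
              · exact edgesRangeI_spec iota E 3 2576 72908 edges_3_24 v (by omega) (by omega)
              · exact edgesRangeI_spec iota E 3 2698 75484 edges_3_25 v (by omega) (by omega)
            · rcases Nat.lt_or_ge v 80911 with h | h
              · exact edgesRangeI_spec iota E 3 2729 78182 edges_3_26 v (by omega) (by omega)
              · exact edgesRangeI_spec iota E 3 2542 80911 edges_3_27 v (by omega) (by omega)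
    · rcases Nat.lt_or_ge v 119670 with h | h
      · rcases Nat.lt_or_ge v 100591 with h | h
        · rcases Nat.lt_or_ge v 90784 with h | h
          · rcases Nat.lt_or_ge v 85862 with h | h
            · exact edgesRangeI_spec iota E 3 2409 83453 edges_3_28 v (by omega) (by omega)
            · rcases Nat.lt_or_ge v 88312 with h | h
              · exact edgesRangeI_spec iota E 3 2450 85862 edges_3_29 v (by omega) (by omega)
              · exact edgesRangeI_spec iota E 3 2472 88312 edges_3_30 v (by omega) (by omega)
          · rcases Nat.lt_or_ge v 95652 with h | h
            · rcases Nat.lt_or_ge v 93199 with h | h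
              · exact edgesRangeI_spec iota E 3 2415 90784 edges_3_31 v (by omega) (by omega)
              · exact edgesRangeI_spec iota E 3 2453 93199 edges_3_32 v (by omega) (by omega)
            · rcases Nat.lt_or_ge v 97975 with h | h
              · exact edgesRangeI_spec iota E 3 2323 95652 edges_3_33 v (by omega) (by omega)
              · exact edgesRangeI_spec iota E 3 2616 97975 edges_3_34 v (by omega) (by omega)
        · rcases Nat.lt_or_ge v 108465 with h | h
          · rcases Nat.lt_or_ge v 103261 with h | h
            · exact edgesRangeI_spec iota E 3 2670 100591 edges_3_35 v (by omega) (by omega)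
            · rcases Nat.lt_or_ge v 105697 with h | h
              · exact edgesRangeI_spec iota E 3 2436 103261 edges_3_36 v (by omega) (by omega)
              · exact edgesRangeI_spec iota E 3 2768 105697 edges_3_37 v (by omega) (by omega)
          · rcases Nat.lt_or_ge v 113780 with h | h
            · rcases Nat.lt_or_ge v 111114 with h | h
              · exact edgesRangeI_spec iota E 3 2649 108465 edges_3_38 v (by omega) (by omega)
              · exact edgesRangeI_spec iota E 3 2666 111114 edges_3_39 v (by omega) (by omega)
            · rcases Nat.lt_or_ge v 116870 with h | h
              · exact edgesRangeI_spec iota E 3 3090 113780 edges_3_40 v (by omega) (by omega)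
              · exact edgesRangeI_spec iota E 3 2800 116870 edges_3_41 v (by omega) (by omega)
      · rcases Nat.lt_or_ge v 137101 with h | h
        · rcases Nat.lt_or_ge v 127058 with h | h
          · rcases Nat.lt_or_ge v 122425 with h | h
            · exact edgesRangeI_spec iota E 3 2755 119670 edges_3_42 v (by omega) (by omega)
            · rcases Nat.lt_or_ge v 124787 with h | h
              · exact edgesRangeI_spec iota E 3 2362 122425 edges_3_43 v (by omega) (by omega)
              · exact edgesRangeI_spec iota E 3 2271 124787 edges_3_44 v (by omega) (by omega)
          · rcases Nat.lt_or_ge v 131959 with h | h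
            · rcases Nat.lt_or_ge v 129575 with h | h
              · exact edgesRangeI_spec iota E 3 2517 127058 edges_3_45 v (by omega) (by omega)
              · exact edgesRangeI_spec iota E 3 2384 129575 edges_3_46 v (by omega) (by omega)
            · rcases Nat.lt_or_ge v 134589 with h | h
              · exact edgesRangeI_spec iota E 3 2630 131959 edges_3_47 v (by omega) (by omega)
              · exact edgesRangeI_spec iota E 3 2512 134589 edges_3_48 v (by omega) (by omega)
        · rcases Nat.lt_or_ge v 147965 with h | h
          · rcases Nat.lt_or_ge v 142671 with h | h
            · rcases Nat.lt_or_ge v 139824 with h | h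
              · exact edgesRangeI_spec iota E 3 2723 137101 edges_3_49 v (by omega) (by omega)
              · exact edgesRangeI_spec iota E 3 2847 139824 edges_3_50 v (by omega) (by omega)
            · rcases Nat.lt_or_ge v 145132 with h | h
              · exact edgesRangeI_spec iota E 3 2461 142671 edges_3_51 v (by omega) (by omega)
              · exact edgesRangeI_spec iota E 3 2833 145132 edges_3_52 v (by omega) (by omega)
          · rcases Nat.lt_or_ge v 153257 with h | h
            · rcases Nat.lt_or_ge v 150665 with h | h
              · exact edgesRangeI_spec iota E 3 2700 147965 edges_3_53 v (by omega) (by omega)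
              · exact edgesRangeI_spec iota E 3 2592 150665 edges_3_54 v (by omega) (by omega)
            · rcases Nat.lt_or_ge v 155853 with h | h
              · exact edgesRangeI_spec iota E 3 2596 153257 edges_3_55 v (by omega) (by omega)
              · exact edgesRangeI_spec iota E 3 2607 155853 edges_3_56 v (by omega) (by omega)
  · rcases Nat.lt_or_ge v 221719 with h | h
    · rcases Nat.lt_or_ge v 191004 with h | h
      · rcases Nat.lt_or_ge v 174876 with h | h
        · rcases Nat.lt_or_ge v 165778 with h | h
          · rcases Nat.lt_or_ge v 160994 with h | h
            · exact edgesRangeI_spec iota E 3 2534 158460 edges_3_57 v (by omega) (by omega)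
            · rcases Nat.lt_or_ge v 163350 with h | h
              · exact edgesRangeI_spec iota E 3 2356 160994 edges_3_58 v (by omega) (by omega)
              · exact edgesRangeI_spec iota E 3 2428 163350 edges_3_59 v (by omega) (by omega)
          · rcases Nat.lt_or_ge v 170510 with h | h
            · rcases Nat.lt_or_ge v 168167 with h | h
              · exact edgesRangeI_spec iota E 3 2389 165778 edges_3_60 v (by omega) (by omega)
              · exact edgesRangeI_spec iota E 3 2343 168167 edges_3_61 v (by omega) (by omega)
            · rcases Nat.lt_or_ge v 172742 with h | h
              · exact edgesRangeI_spec iota E 3 2232 170510 edges_3_62 v (by omega) (by omega)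
              · exact edgesRangeI_spec iota E 3 2134 172742 edges_3_63 v (by omega) (by omega)
        · rcases Nat.lt_or_ge v 181972 with h | h
          · rcases Nat.lt_or_ge v 177189 with h | h
            · exact edgesRangeI_spec iota E 3 2313 174876 edges_3_64 v (by omega) (by omega)
            · rcases Nat.lt_or_ge v 179617 with h | h
              · exact edgesRangeI_spec iota E 3 2428 177189 edges_3_65 v (by omega) (by omega)
              · exact edgesRangeI_spec iota E 3 2355 179617 edges_3_66 v (by omega) (by omega)
          · rcases Nat.lt_or_ge v 186637 with h | h
            · rcases Nat.lt_or_ge v 184348 with h | h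
              · exact edgesRangeI_spec iota E 3 2376 181972 edges_3_67 v (by omega) (by omega)
              · exact edgesRangeI_spec iota E 3 2289 184348 edges_3_68 v (by omega) (by omega)
            · rcases Nat.lt_or_ge v 188862 with h | h
              · exact edgesRangeI_spec iota E 3 2225 186637 edges_3_69 v (by omega) (by omega)
              · exact edgesRangeI_spec iota E 3 2142 188862 edges_3_70 v (by omega) (by omega)
      · rcases Nat.lt_or_ge v 205858 with h | h
        · rcases Nat.lt_or_ge v 197541 with h | h
          · rcases Nat.lt_or_ge v 193310 with h | h
            · exact edgesRangeI_spec iota E 3 2306 191004 edges_3_71 v (by omega) (by omega)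
            · rcases Nat.lt_or_ge v 195515 with h | h
              · exact edgesRangeI_spec iota E 3 2205 193310 edges_3_72 v (by omega) (by omega)
              · exact edgesRangeI_spec iota E 3 2026 195515 edges_3_73 v (by omega) (by omega)
          · rcases Nat.lt_or_ge v 201735 with h | h
            · rcases Nat.lt_or_ge v 199521 with h | h
              · exact edgesRangeI_spec iota E 3 1980 197541 edges_3_74 v (by omega) (by omega)
              · exact edgesRangeI_spec iota E 3 2214 199521 edges_3_75 v (by omega) (by omega)
            · rcases Nat.lt_or_ge v 203794 with h | h
              · exact edgesRangeI_spec iota E 3 2059 201735 edges_3_76 v (by omega) (by omega)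
              · exact edgesRangeI_spec iota E 3 2064 203794 edges_3_77 v (by omega) (by omega)
        · rcases Nat.lt_or_ge v 213911 with h | h
          · rcases Nat.lt_or_ge v 209986 with h | h
            · rcases Nat.lt_or_ge v 207922 with h | h
              · exact edgesRangeI_spec iota E 3 2064 205858 edges_3_78 v (by omega) (by omega)
              · exact edgesRangeI_spec iota E 3 2064 207922 edges_3_79 v (by omega) (by omega)
            · rcases Nat.lt_or_ge v 211965 with h | h
              · exact edgesRangeI_spec iota E 3 1979 209986 edges_3_80 v (by omega) (by omega)
              · exact edgesRangeI_spec iota E 3 1946 211965 edges_3_81 v (by omega) (by omega)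
          · rcases Nat.lt_or_ge v 217759 with h | h
            · rcases Nat.lt_or_ge v 215816 with h | h
              · exact edgesRangeI_spec iota E 3 1905 213911 edges_3_82 v (by omega) (by omega)
              · exact edgesRangeI_spec iota E 3 1943 215816 edges_3_83 v (by omega) (by omega)
            · rcases Nat.lt_or_ge v 219780 with h | h
              · exact edgesRangeI_spec iota E 3 2021 217759 edges_3_84 v (by omega) (by omega)
              · exact edgesRangeI_spec iota E 3 1939 219780 edges_3_85 v (by omega) (by omega)
    · rcases Nat.lt_or_ge v 246657 with h | h
      · rcases Nat.lt_or_ge v 234680 with h | h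
        · rcases Nat.lt_or_ge v 227383 with h | h
          · rcases Nat.lt_or_ge v 223573 with h | h
            · exact edgesRangeI_spec iota E 3 1854 221719 edges_3_86 v (by omega) (by omega)
            · rcases Nat.lt_or_ge v 225495 with h | h
              · exact edgesRangeI_spec iota E 3 1922 223573 edges_3_87 v (by omega) (by omega)
              · exact edgesRangeI_spec iota E 3 1888 225495 edges_3_88 v (by omega) (by omega)
          · rcases Nat.lt_or_ge v 231017 with h | h
            · rcases Nat.lt_or_ge v 229135 with h | h
              · exact edgesRangeI_spec iota E 3 1752 227383 edges_3_89 v (by omega) (by omega)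
              · exact edgesRangeI_spec iota E 3 1882 229135 edges_3_90 v (by omega) (by omega)
            · rcases Nat.lt_or_ge v 232856 with h | h
              · exact edgesRangeI_spec iota E 3 1839 231017 edges_3_91 v (by omega) (by omega)
              · exact edgesRangeI_spec iota E 3 1824 232856 edges_3_92 v (by omega) (by omega)
        · rcases Nat.lt_or_ge v 239867 with h | h
          · rcases Nat.lt_or_ge v 236493 with h | h
            · exact edgesRangeI_spec iota E 3 1813 234680 edges_3_93 v (by omega) (by omega)
            · rcases Nat.lt_or_ge v 238157 with h | h
              · exact edgesRangeI_spec iota E 3 1664 236493 edges_3_94 v (by omega) (by omega)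
              · exact edgesRangeI_spec iota E 3 1710 238157 edges_3_95 v (by omega) (by omega)
          · rcases Nat.lt_or_ge v 243271 with h | h
            · rcases Nat.lt_or_ge v 241599 with h | h
              · exact edgesRangeI_spec iota E 3 1732 239867 edges_3_96 v (by omega) (by omega)
              · exact edgesRangeI_spec iota E 3 1672 241599 edges_3_97 v (by omega) (by omega)
            · rcases Nat.lt_or_ge v 244928 with h | h
              · exact edgesRangeI_spec iota E 3 1657 243271 edges_3_98 v (by omega) (by omega)
              · exact edgesRangeI_spec iota E 3 1729 244928 edges_3_99 v (by omega) (by omega)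
      · rcases Nat.lt_or_ge v 258150 with h | h
        · rcases Nat.lt_or_ge v 251818 with h | h
          · rcases Nat.lt_or_ge v 248388 with h | h
            · exact edgesRangeI_spec iota E 3 1731 246657 edges_3_100 v (by omega) (by omega)
            · rcases Nat.lt_or_ge v 250100 with h | h
              · exact edgesRangeI_spec iota E 3 1712 248388 edges_3_101 v (by omega) (by omega)
              · exact edgesRangeI_spec iota E 3 1718 250100 edges_3_102 v (by omega) (by omega)
          · rcases Nat.lt_or_ge v 255069 with h | h
            · rcases Nat.lt_or_ge v 253514 with h | h
              · exact edgesRangeI_spec iota E 3 1696 251818 edges_3_103 v (by omega) (by omega)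
              · exact edgesRangeI_spec iota E 3 1555 253514 edges_3_104 v (by omega) (by omega)
            · rcases Nat.lt_or_ge v 256621 with h | h
              · exact edgesRangeI_spec iota E 3 1552 255069 edges_3_105 v (by omega) (by omega)
              · exact edgesRangeI_spec iota E 3 1529 256621 edges_3_106 v (by omega) (by omega)
        · rcases Nat.lt_or_ge v 264130 with h | h
          · rcases Nat.lt_or_ge v 261190 with h | h
            · rcases Nat.lt_or_ge v 259684 with h | h
              · exact edgesRangeI_spec iota E 3 1534 258150 edges_3_107 v (by omega) (by omega)
              · exact edgesRangeI_spec iota E 3 1506 259684 edges_3_108 v (by omega) (by omega)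
            · rcases Nat.lt_or_ge v 262732 with h | h
              · exact edgesRangeI_spec iota E 3 1542 261190 edges_3_109 v (by omega) (by omega)
              · exact edgesRangeI_spec iota E 3 1398 262732 edges_3_110 v (by omega) (by omega)
          · rcases Nat.lt_or_ge v 267005 with h | h
            · rcases Nat.lt_or_ge v 265597 with h | h
              · exact edgesRangeI_spec iota E 3 1467 264130 edges_3_111 v (by omega) (by omega)
              · exact edgesRangeI_spec iota E 3 1408 265597 edges_3_112 v (by omega) (by omega)
            · rcases Nat.lt_or_ge v 268341 with h | h
              · exact edgesRangeI_spec iota E 3 1336 267005 edges_3_113 v (by omega) (by omega)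
              · exact edgesRangeI_spec iota E 3 1001 268341 edges_3_114 v (by omega) (by omega)

theorem edgesx_4 : ∀ v, v < 269342 → edgeOKI iota E 4 v = true := by
  intro v hv
  rcases Nat.lt_or_ge v 146483 with h | h
  · rcases Nat.lt_or_ge v 75571 with h | h
    · rcases Nat.lt_or_ge v 39785 with h | h
      · rcases Nat.lt_or_ge v 19139 with h | h
        · rcases Nat.lt_or_ge v 8320 with h | h
          · rcases Nat.lt_or_ge v 2590 with h | h
            · exact edgesRangeI_spec iota E 4 2590 0 edges_4_0 v (by omega) (by omega)
            · rcases Nat.lt_or_ge v 5436 with h | h
              · exact edgesRangeI_spec iota E 4 2846 2590 edges_4_1 v (by omega) (by omega)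
              · exact edgesRangeI_spec iota E 4 2884 5436 edges_4_2 v (by omega) (by omega)
          · rcases Nat.lt_or_ge v 13917 with h | h
            · rcases Nat.lt_or_ge v 11151 with h | h
              · exact edgesRangeI_spec iota E 4 2831 8320 edges_4_3 v (by omega) (by omega)
              · exact edgesRangeI_spec iota E 4 2766 11151 edges_4_4 v (by omega) (by omega)
            · rcases Nat.lt_or_ge v 16567 with h | h
              · exact edgesRangeI_spec iota E 4 2650 13917 edges_4_5 v (by omega) (by omega)
              · exact edgesRangeI_spec iota E 4 2572 16567 edges_4_6 v (by omega) (by omega)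
        · rcases Nat.lt_or_ge v 29663 with h | h
          · rcases Nat.lt_or_ge v 24492 with h | h
            · rcases Nat.lt_or_ge v 21835 with h | h
              · exact edgesRangeI_spec iota E 4 2696 19139 edges_4_7 v (by omega) (by omega)
              · exact edgesRangeI_spec iota E 4 2657 21835 edges_4_8 v (by omega) (by omega)
            · rcases Nat.lt_or_ge v 27119 with h | h
              · exact edgesRangeI_spec iota E 4 2627 24492 edges_4_9 v (by omega) (by omega)
              · exact edgesRangeI_spec iota E 4 2544 27119 edges_4_10 v (by omega) (by omega)
          · rcases Nat.lt_or_ge v 34692 with h | h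
            · rcases Nat.lt_or_ge v 32219 with h | h
              · exact edgesRangeI_spec iota E 4 2556 29663 edges_4_11 v (by omega) (by omega)
              · exact edgesRangeI_spec iota E 4 2473 32219 edges_4_12 v (by omega) (by omega)
            · rcases Nat.lt_or_ge v 37263 with h | h
              · exact edgesRangeI_spec iota E 4 2571 34692 edges_4_13 v (by omega) (by omega)
              · exact edgesRangeI_spec iota E 4 2522 37263 edges_4_14 v (by omega) (by omega)
      · rcases Nat.lt_or_ge v 56765 with h | h
        · rcases Nat.lt_or_ge v 47139 with h | h
          · rcases Nat.lt_or_ge v 42269 with h | h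
            · exact edgesRangeI_spec iota E 4 2484 39785 edges_4_15 v (by omega) (by omega)
            · rcases Nat.lt_or_ge v 44719 with h | h
              · exact edgesRangeI_spec iota E 4 2450 42269 edges_4_16 v (by omega) (by omega)
              · exact edgesRangeI_spec iota E 4 2420 44719 edges_4_17 v (by omega) (by omega)
          · rcases Nat.lt_or_ge v 51909 with h | h
            · rcases Nat.lt_or_ge v 49569 with h | h
              · exact edgesRangeI_spec iota E 4 2430 47139 edges_4_18 v (by omega) (by omega)
              · exact edgesRangeI_spec iota E 4 2340 49569 edges_4_19 v (by omega) (by omega)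
            · rcases Nat.lt_or_ge v 54324 with h | h
              · exact edgesRangeI_spec iota E 4 2415 51909 edges_4_20 v (by omega) (by omega)
              · exact edgesRangeI_spec iota E 4 2441 54324 edges_4_21 v (by omega) (by omega)
        · rcases Nat.lt_or_ge v 66372 with h | h
          · rcases Nat.lt_or_ge v 61624 with h | h
            · rcases Nat.lt_or_ge v 59234 with h | h
              · exact edgesRangeI_spec iota E 4 2469 56765 edges_4_22 v (by omega) (by omega)
              · exact edgesRangeI_spec iota E 4 2390 59234 edges_4_23 v (by omega) (by omega)
            · rcases Nat.lt_or_ge v 63982 with h | h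
              · exact edgesRangeI_spec iota E 4 2358 61624 edges_4_24 v (by omega) (by omega)
              · exact edgesRangeI_spec iota E 4 2390 63982 edges_4_25 v (by omega) (by omega)
          · rcases Nat.lt_or_ge v 70940 with h | h
            · rcases Nat.lt_or_ge v 68659 with h | h
              · exact edgesRangeI_spec iota E 4 2287 66372 edges_4_26 v (by omega) (by omega)
              · exact edgesRangeI_spec iota E 4 2281 68659 edges_4_27 v (by omega) (by omega)
            · rcases Nat.lt_or_ge v 73231 with h | h
              · exact edgesRangeI_spec iota E 4 2291 70940 edges_4_28 v (by omega) (by omega)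
              · exact edgesRangeI_spec iota E 4 2340 73231 edges_4_29 v (by omega) (by omega)
    · rcases Nat.lt_or_ge v 109795 with h | h
      · rcases Nat.lt_or_ge v 91776 with h | h
        · rcases Nat.lt_or_ge v 82510 with h | h
          · rcases Nat.lt_or_ge v 77880 with h | h
            · exact edgesRangeI_spec iota E 4 2309 75571 edges_4_30 v (by omega) (by omega)
            · rcases Nat.lt_or_ge v 80165 with h | h
              · exact edgesRangeI_spec iota E 4 2285 77880 edges_4_31 v (by omega) (by omega)
              · exact edgesRangeI_spec iota E 4 2345 80165 edges_4_32 v (by omega) (by omega)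
          · rcases Nat.lt_or_ge v 87082 with h | h
            · rcases Nat.lt_or_ge v 84753 with h | h
              · exact edgesRangeI_spec iota E 4 2243 82510 edges_4_33 v (by omega) (by omega)
              · exact edgesRangeI_spec iota E 4 2329 84753 edges_4_34 v (by omega) (by omega)
            · rcases Nat.lt_or_ge v 89382 with h | h
              · exact edgesRangeI_spec iota E 4 2300 87082 edges_4_35 v (by omega) (by omega)
              · exact edgesRangeI_spec iota E 4 2394 89382 edges_4_36 v (by omega) (by omega)
        · rcases Nat.lt_or_ge v 100758 with h | h
          · rcases Nat.lt_or_ge v 96295 with h | h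
            · rcases Nat.lt_or_ge v 94057 with h | h
              · exact edgesRangeI_spec iota E 4 2281 91776 edges_4_37 v (by omega) (by omega)
              · exact edgesRangeI_spec iota E 4 2238 94057 edges_4_38 v (by omega) (by omega)
            · rcases Nat.lt_or_ge v 98494 with h | h
              · exact edgesRangeI_spec iota E 4 2199 96295 edges_4_39 v (by omega) (by omega)
              · exact edgesRangeI_spec iota E 4 2264 98494 edges_4_40 v (by omega) (by omega)
          · rcases Nat.lt_or_ge v 105268 with h | h
            · rcases Nat.lt_or_ge v 103081 with h | h
              · exact edgesRangeI_spec iota E 4 2323 100758 edges_4_41 v (by omega) (by omega)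
              · exact edgesRangeI_spec iota E 4 2187 103081 edges_4_42 v (by omega) (by omega)
            · rcases Nat.lt_or_ge v 107565 with h | h
              · exact edgesRangeI_spec iota E 4 2297 105268 edges_4_43 v (by omega) (by omega)
              · exact edgesRangeI_spec iota E 4 2230 107565 edges_4_44 v (by omega) (by omega)
      · rcases Nat.lt_or_ge v 128297 with h | h
        · rcases Nat.lt_or_ge v 119307 with h | h
          · rcases Nat.lt_or_ge v 114405 with h | h
            · rcases Nat.lt_or_ge v 112023 with h | h
              · exact edgesRangeI_spec iota E 4 2228 109795 edges_4_45 v (by omega) (by omega)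
              · exact edgesRangeI_spec iota E 4 2382 112023 edges_4_46 v (by omega) (by omega)
            · rcases Nat.lt_or_ge v 116932 with h | h
              · exact edgesRangeI_spec iota E 4 2527 114405 edges_4_47 v (by omega) (by omega)
              · exact edgesRangeI_spec iota E 4 2375 116932 edges_4_48 v (by omega) (by omega)
          · rcases Nat.lt_or_ge v 123843 with h | h
            · rcases Nat.lt_or_ge v 121599 with h | h
              · exact edgesRangeI_spec iota E 4 2292 119307 edges_4_49 v (by omega) (by omega)
              · exact edgesRangeI_spec iota E 4 2244 121599 edges_4_50 v (by omega) (by omega)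
            · rcases Nat.lt_or_ge v 126057 with h | h
              · exact edgesRangeI_spec iota E 4 2214 123843 edges_4_51 v (by omega) (by omega)
              · exact edgesRangeI_spec iota E 4 2240 126057 edges_4_52 v (by omega) (by omega)
        · rcases Nat.lt_or_ge v 137251 with h | h
          · rcases Nat.lt_or_ge v 132834 with h | h
            · rcases Nat.lt_or_ge v 130637 with h | h
              · exact edgesRangeI_spec iota E 4 2340 128297 edges_4_53 v (by omega) (by omega)
              · exact edgesRangeI_spec iota E 4 2197 130637 edges_4_54 v (by omega) (by omega)
            · rcases Nat.lt_or_ge v 135090 with h | h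
              · exact edgesRangeI_spec iota E 4 2256 132834 edges_4_55 v (by omega) (by omega)
              · exact edgesRangeI_spec iota E 4 2161 135090 edges_4_56 v (by omega) (by omega)
          · rcases Nat.lt_or_ge v 141997 with h | h
            · rcases Nat.lt_or_ge v 139649 with h | h
              · exact edgesRangeI_spec iota E 4 2398 137251 edges_4_57 v (by omega) (by omega)
              · exact edgesRangeI_spec iota E 4 2348 139649 edges_4_58 v (by omega) (by omega)
            · rcases Nat.lt_or_ge v 144269 with h | h
              · exact edgesRangeI_spec iota E 4 2272 141997 edges_4_59 v (by omega) (by omega)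
              · exact edgesRangeI_spec iota E 4 2214 144269 edges_4_60 v (by omega) (by omega)
  · rcases Nat.lt_or_ge v 212729 with h | h
    · rcases Nat.lt_or_ge v 180543 with h | h
      · rcases Nat.lt_or_ge v 162996 with h | h
        · rcases Nat.lt_or_ge v 153511 with h | h
          · rcases Nat.lt_or_ge v 148934 with h | h
            · exact edgesRangeI_spec iota E 4 2451 146483 edges_4_61 v (by omega) (by omega)
            · rcases Nat.lt_or_ge v 151215 with h | h
              · exact edgesRangeI_spec iota E 4 2281 148934 edges_4_62 v (by omega) (by omega)
              · exact edgesRangeI_spec iota E 4 2296 151215 edges_4_63 v (by omega) (by omega)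
          · rcases Nat.lt_or_ge v 158310 with h | h
            · rcases Nat.lt_or_ge v 155881 with h | h
              · exact edgesRangeI_spec iota E 4 2370 153511 edges_4_64 v (by omega) (by omega)
              · exact edgesRangeI_spec iota E 4 2429 155881 edges_4_65 v (by omega) (by omega)
            · rcases Nat.lt_or_ge v 160567 with h | h
              · exact edgesRangeI_spec iota E 4 2257 158310 edges_4_66 v (by omega) (by omega)
              · exact edgesRangeI_spec iota E 4 2429 160567 edges_4_67 v (by omega) (by omega)
        · rcases Nat.lt_or_ge v 171871 with h | h
          · rcases Nat.lt_or_ge v 167526 with h | h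
            · rcases Nat.lt_or_ge v 165264 with h | h
              · exact edgesRangeI_spec iota E 4 2268 162996 edges_4_68 v (by omega) (by omega)
              · exact edgesRangeI_spec iota E 4 2262 165264 edges_4_69 v (by omega) (by omega)
            · rcases Nat.lt_or_ge v 169703 with h | h
              · exact edgesRangeI_spec iota E 4 2177 167526 edges_4_70 v (by omega) (by omega)
              · exact edgesRangeI_spec iota E 4 2168 169703 edges_4_71 v (by omega) (by omega)
          · rcases Nat.lt_or_ge v 176184 with h | h
            · rcases Nat.lt_or_ge v 174059 with h | h
              · exact edgesRangeI_spec iota E 4 2188 171871 edges_4_72 v (by omega) (by omega)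
              · exact edgesRangeI_spec iota E 4 2125 174059 edges_4_73 v (by omega) (by omega)
            · rcases Nat.lt_or_ge v 178308 with h | h
              · exact edgesRangeI_spec iota E 4 2124 176184 edges_4_74 v (by omega) (by omega)
              · exact edgesRangeI_spec iota E 4 2235 178308 edges_4_75 v (by omega) (by omega)
      · rcases Nat.lt_or_ge v 195846 with h | h
        · rcases Nat.lt_or_ge v 187179 with h | h
          · rcases Nat.lt_or_ge v 182616 with h | h
            · exact edgesRangeI_spec iota E 4 2073 180543 edges_4_76 v (by omega) (by omega)
            · rcases Nat.lt_or_ge v 184950 with h | h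
              · exact edgesRangeI_spec iota E 4 2334 182616 edges_4_77 v (by omega) (by omega)
              · exact edgesRangeI_spec iota E 4 2229 184950 edges_4_78 v (by omega) (by omega)
          · rcases Nat.lt_or_ge v 191480 with h | h
            · rcases Nat.lt_or_ge v 189340 with h | h
              · exact edgesRangeI_spec iota E 4 2161 187179 edges_4_79 v (by omega) (by omega)
              · exact edgesRangeI_spec iota E 4 2140 189340 edges_4_80 v (by omega) (by omega)
            · rcases Nat.lt_or_ge v 193650 with h | h
              · exact edgesRangeI_spec iota E 4 2170 191480 edges_4_81 v (by omega) (by omega)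
              · exact edgesRangeI_spec iota E 4 2196 193650 edges_4_82 v (by omega) (by omega)
        · rcases Nat.lt_or_ge v 204434 with h | h
          · rcases Nat.lt_or_ge v 200082 with h | h
            · rcases Nat.lt_or_ge v 197956 with h | h
              · exact edgesRangeI_spec iota E 4 2110 195846 edges_4_83 v (by omega) (by omega)
              · exact edgesRangeI_spec iota E 4 2126 197956 edges_4_84 v (by omega) (by omega)
            · rcases Nat.lt_or_ge v 202308 with h | h
              · exact edgesRangeI_spec iota E 4 2226 200082 edges_4_85 v (by omega) (by omega)
              · exact edgesRangeI_spec iota E 4 2126 202308 edges_4_86 v (by omega) (by omega)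
          · rcases Nat.lt_or_ge v 208656 with h | h
            · rcases Nat.lt_or_ge v 206553 with h | h
              · exact edgesRangeI_spec iota E 4 2119 204434 edges_4_87 v (by omega) (by omega)
              · exact edgesRangeI_spec iota E 4 2103 206553 edges_4_88 v (by omega) (by omega)
            · rcases Nat.lt_or_ge v 210591 with h | h
              · exact edgesRangeI_spec iota E 4 1935 208656 edges_4_89 v (by omega) (by omega)
              · exact edgesRangeI_spec iota E 4 2138 210591 edges_4_90 v (by omega) (by omega)
    · rcases Nat.lt_or_ge v 242035 with h | h
      · rcases Nat.lt_or_ge v 226584 with h | h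
        · rcases Nat.lt_or_ge v 218808 with h | h
          · rcases Nat.lt_or_ge v 214723 with h | h
            · exact edgesRangeI_spec iota E 4 1994 212729 edges_4_91 v (by omega) (by omega)
            · rcases Nat.lt_or_ge v 216797 with h | h
              · exact edgesRangeI_spec iota E 4 2074 214723 edges_4_92 v (by omega) (by omega)
              · exact edgesRangeI_spec iota E 4 2011 216797 edges_4_93 v (by omega) (by omega)
          · rcases Nat.lt_or_ge v 222718 with h | h
            · rcases Nat.lt_or_ge v 220780 with h | h
              · exact edgesRangeI_spec iota E 4 1972 218808 edges_4_94 v (by omega) (by omega)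
              · exact edgesRangeI_spec iota E 4 1938 220780 edges_4_95 v (by omega) (by omega)
            · rcases Nat.lt_or_ge v 224588 with h | h
              · exact edgesRangeI_spec iota E 4 1870 222718 edges_4_96 v (by omega) (by omega)
              · exact edgesRangeI_spec iota E 4 1996 224588 edges_4_97 v (by omega) (by omega)
        · rcases Nat.lt_or_ge v 234506 with h | h
          · rcases Nat.lt_or_ge v 230567 with h | h
            · rcases Nat.lt_or_ge v 228572 with h | h
              · exact edgesRangeI_spec iota E 4 1988 226584 edges_4_98 v (by omega) (by omega)
              · exact edgesRangeI_spec iota E 4 1995 228572 edges_4_99 v (by omega) (by omega)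
            · rcases Nat.lt_or_ge v 232569 with h | h
              · exact edgesRangeI_spec iota E 4 2002 230567 edges_4_100 v (by omega) (by omega)
              · exact edgesRangeI_spec iota E 4 1937 232569 edges_4_101 v (by omega) (by omega)
          · rcases Nat.lt_or_ge v 238283 with h | h
            · rcases Nat.lt_or_ge v 236390 with h | h
              · exact edgesRangeI_spec iota E 4 1884 234506 edges_4_102 v (by omega) (by omega)
              · exact edgesRangeI_spec iota E 4 1893 236390 edges_4_103 v (by omega) (by omega)
            · rcases Nat.lt_or_ge v 240200 with h | h
              · exact edgesRangeI_spec iota E 4 1917 238283 edges_4_104 v (by omega) (by omega)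
              · exact edgesRangeI_spec iota E 4 1835 240200 edges_4_105 v (by omega) (by omega)
      · rcases Nat.lt_or_ge v 256677 with h | h
        · rcases Nat.lt_or_ge v 249493 with h | h
          · rcases Nat.lt_or_ge v 245828 with h | h
            · rcases Nat.lt_or_ge v 243900 with h | h
              · exact edgesRangeI_spec iota E 4 1865 242035 edges_4_106 v (by omega) (by omega)
              · exact edgesRangeI_spec iota E 4 1928 243900 edges_4_107 v (by omega) (by omega)
            · rcases Nat.lt_or_ge v 247638 with h | h
              · exact edgesRangeI_spec iota E 4 1810 245828 edges_4_108 v (by omega) (by omega)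
              · exact edgesRangeI_spec iota E 4 1855 247638 edges_4_109 v (by omega) (by omega)
          · rcases Nat.lt_or_ge v 253127 with h | h
            · rcases Nat.lt_or_ge v 251278 with h | h
              · exact edgesRangeI_spec iota E 4 1785 249493 edges_4_110 v (by omega) (by omega)
              · exact edgesRangeI_spec iota E 4 1849 251278 edges_4_111 v (by omega) (by omega)
            · rcases Nat.lt_or_ge v 254909 with h | h
              · exact edgesRangeI_spec iota E 4 1782 253127 edges_4_112 v (by omega) (by omega)
              · exact edgesRangeI_spec iota E 4 1768 254909 edges_4_113 v (by omega) (by omega)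
        · rcases Nat.lt_or_ge v 263596 with h | h
          · rcases Nat.lt_or_ge v 260149 with h | h
            · rcases Nat.lt_or_ge v 258430 with h | h
              · exact edgesRangeI_spec iota E 4 1753 256677 edges_4_114 v (by omega) (by omega)
              · exact edgesRangeI_spec iota E 4 1719 258430 edges_4_115 v (by omega) (by omega)
            · rcases Nat.lt_or_ge v 261869 with h | h
              · exact edgesRangeI_spec iota E 4 1720 260149 edges_4_116 v (by omega) (by omega)
              · exact edgesRangeI_spec iota E 4 1727 261869 edges_4_117 v (by omega) (by omega)
          · rcases Nat.lt_or_ge v 266921 with h | h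
            · rcases Nat.lt_or_ge v 265279 with h | h
              · exact edgesRangeI_spec iota E 4 1683 263596 edges_4_118 v (by omega) (by omega)
              · exact edgesRangeI_spec iota E 4 1642 265279 edges_4_119 v (by omega) (by omega)
            · rcases Nat.lt_or_ge v 268592 with h | h
              · exact edgesRangeI_spec iota E 4 1671 266921 edges_4_120 v (by omega) (by omega)
              · exact edgesRangeI_spec iota E 4 750 268592 edges_4_121 v (by omega) (by omega)

theorem edgesx_5 : ∀ v, v < 269342 → edgeOKI iota E 5 v = true := by
  intro v hv
  rcases Nat.lt_or_ge v 149184 with h | h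
  · rcases Nat.lt_or_ge v 79892 with h | h
    · rcases Nat.lt_or_ge v 41759 with h | h
      · rcases Nat.lt_or_ge v 22187 with h | h
        · rcases Nat.lt_or_ge v 9717 with h | h
          · rcases Nat.lt_or_ge v 3018 with h | h
            · exact edgesRangeI_spec iota E 5 3018 0 edges_5_0 v (by omega) (by omega)
            · rcases Nat.lt_or_ge v 6448 with h | h
              · exact edgesRangeI_spec iota E 5 3430 3018 edges_5_1 v (by omega) (by omega)
              · exact edgesRangeI_spec iota E 5 3269 6448 edges_5_2 v (by omega) (by omega)
          · rcases Nat.lt_or_ge v 16066 with h | h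
            · rcases Nat.lt_or_ge v 12928 with h | h
              · exact edgesRangeI_spec iota E 5 3211 9717 edges_5_3 v (by omega) (by omega)
              · exact edgesRangeI_spec iota E 5 3138 12928 edges_5_4 v (by omega) (by omega)
            · rcases Nat.lt_or_ge v 19049 with h | h
              · exact edgesRangeI_spec iota E 5 2983 16066 edges_5_5 v (by omega) (by omega)
              · exact edgesRangeI_spec iota E 5 3138 19049 edges_5_6 v (by omega) (by omega)
        · rcases Nat.lt_or_ge v 30765 with h | h
          · rcases Nat.lt_or_ge v 25130 with h | h
            · exact edgesRangeI_spec iota E 5 2943 22187 edges_5_7 v (by omega) (by omega)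
            · rcases Nat.lt_or_ge v 28018 with h | h
              · exact edgesRangeI_spec iota E 5 2888 25130 edges_5_8 v (by omega) (by omega)
              · exact edgesRangeI_spec iota E 5 2747 28018 edges_5_9 v (by omega) (by omega)
          · rcases Nat.lt_or_ge v 36370 with h | h
            · rcases Nat.lt_or_ge v 33478 with h | h
              · exact edgesRangeI_spec iota E 5 2713 30765 edges_5_10 v (by omega) (by omega)
              · exact edgesRangeI_spec iota E 5 2892 33478 edges_5_11 v (by omega) (by omega)
            · rcases Nat.lt_or_ge v 39124 with h | h
              · exact edgesRangeI_spec iota E 5 2754 36370 edges_5_12 v (by omega) (by omega)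
              · exact edgesRangeI_spec iota E 5 2635 39124 edges_5_13 v (by omega) (by omega)
      · rcases Nat.lt_or_ge v 60040 with h | h
        · rcases Nat.lt_or_ge v 49843 with h | h
          · rcases Nat.lt_or_ge v 44473 with h | h
            · exact edgesRangeI_spec iota E 5 2714 41759 edges_5_14 v (by omega) (by omega)
            · rcases Nat.lt_or_ge v 47214 with h | h
              · exact edgesRangeI_spec iota E 5 2741 44473 edges_5_15 v (by omega) (by omega)
              · exact edgesRangeI_spec iota E 5 2629 47214 edges_5_16 v (by omega) (by omega)
          · rcases Nat.lt_or_ge v 54683 with h | h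
            · rcases Nat.lt_or_ge v 52264 with h | h
              · exact edgesRangeI_spec iota E 5 2421 49843 edges_5_17 v (by omega) (by omega)
              · exact edgesRangeI_spec iota E 5 2419 52264 edges_5_18 v (by omega) (by omega)
            · rcases Nat.lt_or_ge v 57360 with h | h
              · exact edgesRangeI_spec iota E 5 2677 54683 edges_5_19 v (by omega) (by omega)
              · exact edgesRangeI_spec iota E 5 2680 57360 edges_5_20 v (by omega) (by omega)
        · rcases Nat.lt_or_ge v 69889 with h | h
          · rcases Nat.lt_or_ge v 65146 with h | h
            · rcases Nat.lt_or_ge v 62674 with h | h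
              · exact edgesRangeI_spec iota E 5 2634 60040 edges_5_21 v (by omega) (by omega)
              · exact edgesRangeI_spec iota E 5 2472 62674 edges_5_22 v (by omega) (by omega)
            · rcases Nat.lt_or_ge v 67551 with h | h
              · exact edgesRangeI_spec iota E 5 2405 65146 edges_5_23 v (by omega) (by omega)
              · exact edgesRangeI_spec iota E 5 2338 67551 edges_5_24 v (by omega) (by omega)
          · rcases Nat.lt_or_ge v 74963 with h | h
            · rcases Nat.lt_or_ge v 72400 with h | h
              · exact edgesRangeI_spec iota E 5 2511 69889 edges_5_25 v (by omega) (by omega)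
              · exact edgesRangeI_spec iota E 5 2563 72400 edges_5_26 v (by omega) (by omega)
            · rcases Nat.lt_or_ge v 77311 with h | h
              · exact edgesRangeI_spec iota E 5 2348 74963 edges_5_27 v (by omega) (by omega)
              · exact edgesRangeI_spec iota E 5 2581 77311 edges_5_28 v (by omega) (by omega)
    · rcases Nat.lt_or_ge v 113098 with h | h
      · rcases Nat.lt_or_ge v 96488 with h | h
        · rcases Nat.lt_or_ge v 86861 with h | h
          · rcases Nat.lt_or_ge v 82294 with h | h
            · exact edgesRangeI_spec iota E 5 2402 79892 edges_5_29 v (by omega) (by omega)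
            · rcases Nat.lt_or_ge v 84619 with h | h
              · exact edgesRangeI_spec iota E 5 2325 82294 edges_5_30 v (by omega) (by omega)
              · exact edgesRangeI_spec iota E 5 2242 84619 edges_5_31 v (by omega) (by omega)
          · rcases Nat.lt_or_ge v 91685 with h | h
            · rcases Nat.lt_or_ge v 89174 with h | h
              · exact edgesRangeI_spec iota E 5 2313 86861 edges_5_32 v (by omega) (by omega)
              · exact edgesRangeI_spec iota E 5 2511 89174 edges_5_33 v (by omega) (by omega)
            · rcases Nat.lt_or_ge v 94100 with h | h
              · exact edgesRangeI_spec iota E 5 2415 91685 edges_5_34 v (by omega) (by omega)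
              · exact edgesRangeI_spec iota E 5 2388 94100 edges_5_35 v (by omega) (by omega)
        · rcases Nat.lt_or_ge v 103553 with h | h
          · rcases Nat.lt_or_ge v 98864 with h | h
            · exact edgesRangeI_spec iota E 5 2376 96488 edges_5_36 v (by omega) (by omega)
            · rcases Nat.lt_or_ge v 101344 with h | h
              · exact edgesRangeI_spec iota E 5 2480 98864 edges_5_37 v (by omega) (by omega)
              · exact edgesRangeI_spec iota E 5 2209 101344 edges_5_38 v (by omega) (by omega)
          · rcases Nat.lt_or_ge v 108360 with h | h
            · rcases Nat.lt_or_ge v 105842 with h | h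
              · exact edgesRangeI_spec iota E 5 2289 103553 edges_5_39 v (by omega) (by omega)
              · exact edgesRangeI_spec iota E 5 2518 105842 edges_5_40 v (by omega) (by omega)
            · rcases Nat.lt_or_ge v 110736 with h | h
              · exact edgesRangeI_spec iota E 5 2376 108360 edges_5_41 v (by omega) (by omega)
              · exact edgesRangeI_spec iota E 5 2362 110736 edges_5_42 v (by omega) (by omega)
      · rcases Nat.lt_or_ge v 129819 with h | h
        · rcases Nat.lt_or_ge v 120786 with h | h
          · rcases Nat.lt_or_ge v 115743 with h | h
            · exact edgesRangeI_spec iota E 5 2645 113098 edges_5_43 v (by omega) (by omega)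
            · rcases Nat.lt_or_ge v 118415 with h | h
              · exact edgesRangeI_spec iota E 5 2672 115743 edges_5_44 v (by omega) (by omega)
              · exact edgesRangeI_spec iota E 5 2371 118415 edges_5_45 v (by omega) (by omega)
          · rcases Nat.lt_or_ge v 125358 with h | h
            · rcases Nat.lt_or_ge v 123212 with h | h
              · exact edgesRangeI_spec iota E 5 2426 120786 edges_5_46 v (by omega) (by omega)
              · exact edgesRangeI_spec iota E 5 2146 123212 edges_5_47 v (by omega) (by omega)
            · rcases Nat.lt_or_ge v 127524 with h | h
              · exact edgesRangeI_spec iota E 5 2166 125358 edges_5_48 v (by omega) (by omega)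
              · exact edgesRangeI_spec iota E 5 2295 127524 edges_5_49 v (by omega) (by omega)
        · rcases Nat.lt_or_ge v 139490 with h | h
          · rcases Nat.lt_or_ge v 134638 with h | h
            · rcases Nat.lt_or_ge v 132188 with h | h
              · exact edgesRangeI_spec iota E 5 2369 129819 edges_5_50 v (by omega) (by omega)
              · exact edgesRangeI_spec iota E 5 2450 132188 edges_5_51 v (by omega) (by omega)
            · rcases Nat.lt_or_ge v 137005 with h | h
              · exact edgesRangeI_spec iota E 5 2367 134638 edges_5_52 v (by omega) (by omega)
              · exact edgesRangeI_spec iota E 5 2485 137005 edges_5_53 v (by omega) (by omega)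
          · rcases Nat.lt_or_ge v 144205 with h | h
            · rcases Nat.lt_or_ge v 141912 with h | h
              · exact edgesRangeI_spec iota E 5 2422 139490 edges_5_54 v (by omega) (by omega)
              · exact edgesRangeI_spec iota E 5 2293 141912 edges_5_55 v (by omega) (by omega)
            · rcases Nat.lt_or_ge v 146578 with h | h
              · exact edgesRangeI_spec iota E 5 2373 144205 edges_5_56 v (by omega) (by omega)
              · exact edgesRangeI_spec iota E 5 2606 146578 edges_5_57 v (by omega) (by omega)
  · rcases Nat.lt_or_ge v 215637 with h | h
    · rcases Nat.lt_or_ge v 182436 with h | h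
      · rcases Nat.lt_or_ge v 166629 with h | h
        · rcases Nat.lt_or_ge v 156473 with h | h
          · rcases Nat.lt_or_ge v 151536 with h | h
            · exact edgesRangeI_spec iota E 5 2352 149184 edges_5_58 v (by omega) (by omega)
            · rcases Nat.lt_or_ge v 153998 with h | h
              · exact edgesRangeI_spec iota E 5 2462 151536 edges_5_59 v (by omega) (by omega)
              · exact edgesRangeI_spec iota E 5 2475 153998 edges_5_60 v (by omega) (by omega)
          · rcases Nat.lt_or_ge v 161798 with h | h
            · rcases Nat.lt_or_ge v 159154 with h | h
              · exact edgesRangeI_spec iota E 5 2681 156473 edges_5_61 v (by omega) (by omega)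
              · exact edgesRangeI_spec iota E 5 2644 159154 edges_5_62 v (by omega) (by omega)
            · rcases Nat.lt_or_ge v 164178 with h | h
              · exact edgesRangeI_spec iota E 5 2380 161798 edges_5_63 v (by omega) (by omega)
              · exact edgesRangeI_spec iota E 5 2451 164178 edges_5_64 v (by omega) (by omega)
        · rcases Nat.lt_or_ge v 173292 with h | h
          · rcases Nat.lt_or_ge v 168776 with h | h
            · exact edgesRangeI_spec iota E 5 2147 166629 edges_5_65 v (by omega) (by omega)
            · rcases Nat.lt_or_ge v 171037 with h | h
              · exact edgesRangeI_spec iota E 5 2261 168776 edges_5_66 v (by omega) (by omega)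
              · exact edgesRangeI_spec iota E 5 2255 171037 edges_5_67 v (by omega) (by omega)
          · rcases Nat.lt_or_ge v 177749 with h | h
            · rcases Nat.lt_or_ge v 175536 with h | h
              · exact edgesRangeI_spec iota E 5 2244 173292 edges_5_68 v (by omega) (by omega)
              · exact edgesRangeI_spec iota E 5 2213 175536 edges_5_69 v (by omega) (by omega)
            · rcases Nat.lt_or_ge v 180144 with h | h
              · exact edgesRangeI_spec iota E 5 2395 177749 edges_5_70 v (by omega) (by omega)
              · exact edgesRangeI_spec iota E 5 2292 180144 edges_5_71 v (by omega) (by omega)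
      · rcases Nat.lt_or_ge v 198325 with h | h
        · rcases Nat.lt_or_ge v 189275 with h | h
          · rcases Nat.lt_or_ge v 184769 with h | h
            · exact edgesRangeI_spec iota E 5 2333 182436 edges_5_72 v (by omega) (by omega)
            · rcases Nat.lt_or_ge v 187038 with h | h
              · exact edgesRangeI_spec iota E 5 2269 184769 edges_5_73 v (by omega) (by omega)
              · exact edgesRangeI_spec iota E 5 2237 187038 edges_5_74 v (by omega) (by omega)
          · rcases Nat.lt_or_ge v 193753 with h | h
            · rcases Nat.lt_or_ge v 191528 with h | h
              · exact edgesRangeI_spec iota E 5 2253 189275 edges_5_75 v (by omega) (by omega)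
              · exact edgesRangeI_spec iota E 5 2225 191528 edges_5_76 v (by omega) (by omega)
            · rcases Nat.lt_or_ge v 196051 with h | h
              · exact edgesRangeI_spec iota E 5 2298 193753 edges_5_77 v (by omega) (by omega)
              · exact edgesRangeI_spec iota E 5 2274 196051 edges_5_78 v (by omega) (by omega)
        · rcases Nat.lt_or_ge v 207040 with h | h
          · rcases Nat.lt_or_ge v 202571 with h | h
            · rcases Nat.lt_or_ge v 200447 with h | h
              · exact edgesRangeI_spec iota E 5 2122 198325 edges_5_79 v (by omega) (by omega)
              · exact edgesRangeI_spec iota E 5 2124 200447 edges_5_80 v (by omega) (by omega)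
            · rcases Nat.lt_or_ge v 204718 with h | h
              · exact edgesRangeI_spec iota E 5 2147 202571 edges_5_81 v (by omega) (by omega)
              · exact edgesRangeI_spec iota E 5 2322 204718 edges_5_82 v (by omega) (by omega)
          · rcases Nat.lt_or_ge v 211421 with h | h
            · rcases Nat.lt_or_ge v 209249 with h | h
              · exact edgesRangeI_spec iota E 5 2209 207040 edges_5_83 v (by omega) (by omega)
              · exact edgesRangeI_spec iota E 5 2172 209249 edges_5_84 v (by omega) (by omega)
            · rcases Nat.lt_or_ge v 213518 with h | h
              · exact edgesRangeI_spec iota E 5 2097 211421 edges_5_85 v (by omega) (by omega)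
              · exact edgesRangeI_spec iota E 5 2119 213518 edges_5_86 v (by omega) (by omega)
    · rcases Nat.lt_or_ge v 245002 with h | h
      · rcases Nat.lt_or_ge v 229615 with h | h
        · rcases Nat.lt_or_ge v 221725 with h | h
          · rcases Nat.lt_or_ge v 217686 with h | h
            · exact edgesRangeI_spec iota E 5 2049 215637 edges_5_87 v (by omega) (by omega)
            · rcases Nat.lt_or_ge v 219690 with h | h
              · exact edgesRangeI_spec iota E 5 2004 217686 edges_5_88 v (by omega) (by omega)
              · exact edgesRangeI_spec iota E 5 2035 219690 edges_5_89 v (by omega) (by omega)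
          · rcases Nat.lt_or_ge v 225650 with h | h
            · rcases Nat.lt_or_ge v 223680 with h | h
              · exact edgesRangeI_spec iota E 5 1955 221725 edges_5_90 v (by omega) (by omega)
              · exact edgesRangeI_spec iota E 5 1970 223680 edges_5_91 v (by omega) (by omega)
            · rcases Nat.lt_or_ge v 227698 with h | h
              · exact edgesRangeI_spec iota E 5 2048 225650 edges_5_92 v (by omega) (by omega)
              · exact edgesRangeI_spec iota E 5 1917 227698 edges_5_93 v (by omega) (by omega)
        · rcases Nat.lt_or_ge v 237453 with h | h
          · rcases Nat.lt_or_ge v 233639 with h | h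
            · rcases Nat.lt_or_ge v 231649 with h | h
              · exact edgesRangeI_spec iota E 5 2034 229615 edges_5_94 v (by omega) (by omega)
              · exact edgesRangeI_spec iota E 5 1990 231649 edges_5_95 v (by omega) (by omega)
            · rcases Nat.lt_or_ge v 235516 with h | h
              · exact edgesRangeI_spec iota E 5 1877 233639 edges_5_96 v (by omega) (by omega)
              · exact edgesRangeI_spec iota E 5 1937 235516 edges_5_97 v (by omega) (by omega)
          · rcases Nat.lt_or_ge v 241318 with h | h
            · rcases Nat.lt_or_ge v 239349 with h | h
              · exact edgesRangeI_spec iota E 5 1896 237453 edges_5_98 v (by omega) (by omega)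
              · exact edgesRangeI_spec iota E 5 1969 239349 edges_5_99 v (by omega) (by omega)
            · rcases Nat.lt_or_ge v 243182 with h | h
              · exact edgesRangeI_spec iota E 5 1864 241318 edges_5_100 v (by omega) (by omega)
              · exact edgesRangeI_spec iota E 5 1820 243182 edges_5_101 v (by omega) (by omega)
      · rcases Nat.lt_or_ge v 257556 with h | h
        · rcases Nat.lt_or_ge v 250555 with h | h
          · rcases Nat.lt_or_ge v 246779 with h | h
            · exact edgesRangeI_spec iota E 5 1777 245002 edges_5_102 v (by omega) (by omega)
            · rcases Nat.lt_or_ge v 248659 with h | h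
              · exact edgesRangeI_spec iota E 5 1880 246779 edges_5_103 v (by omega) (by omega)
              · exact edgesRangeI_spec iota E 5 1896 248659 edges_5_104 v (by omega) (by omega)
          · rcases Nat.lt_or_ge v 254097 with h | h
            · rcases Nat.lt_or_ge v 252338 with h | h
              · exact edgesRangeI_spec iota E 5 1783 250555 edges_5_105 v (by omega) (by omega)
              · exact edgesRangeI_spec iota E 5 1759 252338 edges_5_106 v (by omega) (by omega)
            · rcases Nat.lt_or_ge v 255833 with h | h
              · exact edgesRangeI_spec iota E 5 1736 254097 edges_5_107 v (by omega) (by omega)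
              · exact edgesRangeI_spec iota E 5 1723 255833 edges_5_108 v (by omega) (by omega)
        · rcases Nat.lt_or_ge v 264101 with h | h
          · rcases Nat.lt_or_ge v 260911 with h | h
            · rcases Nat.lt_or_ge v 259227 with h | h
              · exact edgesRangeI_spec iota E 5 1671 257556 edges_5_109 v (by omega) (by omega)
              · exact edgesRangeI_spec iota E 5 1684 259227 edges_5_110 v (by omega) (by omega)
            · rcases Nat.lt_or_ge v 262549 with h | h
              · exact edgesRangeI_spec iota E 5 1638 260911 edges_5_111 v (by omega) (by omega)
              · exact edgesRangeI_spec iota E 5 1552 262549 edges_5_112 v (by omega) (by omega)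
          · rcases Nat.lt_or_ge v 267280 with h | h
            · rcases Nat.lt_or_ge v 265714 with h | h
              · exact edgesRangeI_spec iota E 5 1613 264101 edges_5_113 v (by omega) (by omega)
              · exact edgesRangeI_spec iota E 5 1566 265714 edges_5_114 v (by omega) (by omega)
            · rcases Nat.lt_or_ge v 268842 with h | h
              · exact edgesRangeI_spec iota E 5 1562 267280 edges_5_115 v (by omega) (by omega)
              · exact edgesRangeI_spec iota E 5 500 268842 edges_5_116 v (by omega) (by omega)

theorem edgesx_6 : ∀ v, v < 269342 → edgeOKI iota E 6 v = true := by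
  intro v hv
  rcases Nat.lt_or_ge v 149314 with h | h
  · rcases Nat.lt_or_ge v 78411 with h | h
    · rcases Nat.lt_or_ge v 40919 with h | h
      · rcases Nat.lt_or_ge v 21635 with h | h
        · rcases Nat.lt_or_ge v 9440 with h | h
          · rcases Nat.lt_or_ge v 2920 with h | h
            · exact edgesRangeI_spec iota E 6 2920 0 edges_6_0 v (by omega) (by omega)
            · rcases Nat.lt_or_ge v 6247 with h | h
              · exact edgesRangeI_spec iota E 6 3327 2920 edges_6_1 v (by omega) (by omega)
              · exact edgesRangeI_spec iota E 6 3193 6247 edges_6_2 v (by omega) (by omega)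
          · rcases Nat.lt_or_ge v 15751 with h | h
            · rcases Nat.lt_or_ge v 12641 with h | h
              · exact edgesRangeI_spec iota E 6 3201 9440 edges_6_3 v (by omega) (by omega)
              · exact edgesRangeI_spec iota E 6 3110 12641 edges_6_4 v (by omega) (by omega)
            · rcases Nat.lt_or_ge v 18673 with h | h
              · exact edgesRangeI_spec iota E 6 2922 15751 edges_6_5 v (by omega) (by omega)
              · exact edgesRangeI_spec iota E 6 2962 18673 edges_6_6 v (by omega) (by omega)
        · rcases Nat.lt_or_ge v 30121 with h | h
          · rcases Nat.lt_or_ge v 24512 with h | h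
            · exact edgesRangeI_spec iota E 6 2877 21635 edges_6_7 v (by omega) (by omega)
            · rcases Nat.lt_or_ge v 27412 with h | h
              · exact edgesRangeI_spec iota E 6 2900 24512 edges_6_8 v (by omega) (by omega)
              · exact edgesRangeI_spec iota E 6 2709 27412 edges_6_9 v (by omega) (by omega)
          · rcases Nat.lt_or_ge v 35609 with h | h
            · rcases Nat.lt_or_ge v 32874 with h | h
              · exact edgesRangeI_spec iota E 6 2753 30121 edges_6_10 v (by omega) (by omega)
              · exact edgesRangeI_spec iota E 6 2735 32874 edges_6_11 v (by omega) (by omega)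
            · rcases Nat.lt_or_ge v 38352 with h | h
              · exact edgesRangeI_spec iota E 6 2743 35609 edges_6_12 v (by omega) (by omega)
              · exact edgesRangeI_spec iota E 6 2567 38352 edges_6_13 v (by omega) (by omega)
      · rcases Nat.lt_or_ge v 58815 with h | h
        · rcases Nat.lt_or_ge v 48809 with h | h
          · rcases Nat.lt_or_ge v 43552 with h | h
            · exact edgesRangeI_spec iota E 6 2633 40919 edges_6_14 v (by omega) (by omega)
            · rcases Nat.lt_or_ge v 46273 with h | h
              · exact edgesRangeI_spec iota E 6 2721 43552 edges_6_15 v (by omega) (by omega)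
              · exact edgesRangeI_spec iota E 6 2536 46273 edges_6_16 v (by omega) (by omega)
          · rcases Nat.lt_or_ge v 53634 with h | h
            · rcases Nat.lt_or_ge v 51240 with h | h
              · exact edgesRangeI_spec iota E 6 2431 48809 edges_6_17 v (by omega) (by omega)
              · exact edgesRangeI_spec iota E 6 2394 51240 edges_6_18 v (by omega) (by omega)
            · rcases Nat.lt_or_ge v 56119 with h | h
              · exact edgesRangeI_spec iota E 6 2485 53634 edges_6_19 v (by omega) (by omega)
              · exact edgesRangeI_spec iota E 6 2696 56119 edges_6_20 v (by omega) (by omega)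
        · rcases Nat.lt_or_ge v 68614 with h | h
          · rcases Nat.lt_or_ge v 63859 with h | h
            · rcases Nat.lt_or_ge v 61284 with h | h
              · exact edgesRangeI_spec iota E 6 2469 58815 edges_6_21 v (by omega) (by omega)
              · exact edgesRangeI_spec iota E 6 2575 61284 edges_6_22 v (by omega) (by omega)
            · rcases Nat.lt_or_ge v 66390 with h | h
              · exact edgesRangeI_spec iota E 6 2531 63859 edges_6_23 v (by omega) (by omega)
              · exact edgesRangeI_spec iota E 6 2224 66390 edges_6_24 v (by omega) (by omega)
          · rcases Nat.lt_or_ge v 73474 with h | h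
            · rcases Nat.lt_or_ge v 71011 with h | h
              · exact edgesRangeI_spec iota E 6 2397 68614 edges_6_25 v (by omega) (by omega)
              · exact edgesRangeI_spec iota E 6 2463 71011 edges_6_26 v (by omega) (by omega)
            · rcases Nat.lt_or_ge v 75923 with h | h
              · exact edgesRangeI_spec iota E 6 2449 73474 edges_6_27 v (by omega) (by omega)
              · exact edgesRangeI_spec iota E 6 2488 75923 edges_6_28 v (by omega) (by omega)
    · rcases Nat.lt_or_ge v 113746 with h | h
      · rcases Nat.lt_or_ge v 94825 with h | h
        · rcases Nat.lt_or_ge v 85383 with h | h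
          · rcases Nat.lt_or_ge v 80800 with h | h
            · exact edgesRangeI_spec iota E 6 2389 78411 edges_6_29 v (by omega) (by omega)
            · rcases Nat.lt_or_ge v 83147 with h | h
              · exact edgesRangeI_spec iota E 6 2347 80800 edges_6_30 v (by omega) (by omega)
              · exact edgesRangeI_spec iota E 6 2236 83147 edges_6_31 v (by omega) (by omega)
          · rcases Nat.lt_or_ge v 89956 with h | h
            · rcases Nat.lt_or_ge v 87587 with h | h
              · exact edgesRangeI_spec iota E 6 2204 85383 edges_6_32 v (by omega) (by omega)
              · exact edgesRangeI_spec iota E 6 2369 87587 edges_6_33 v (by omega) (by omega)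
            · rcases Nat.lt_or_ge v 92410 with h | h
              · exact edgesRangeI_spec iota E 6 2454 89956 edges_6_34 v (by omega) (by omega)
              · exact edgesRangeI_spec iota E 6 2415 92410 edges_6_35 v (by omega) (by omega)
        · rcases Nat.lt_or_ge v 104091 with h | h
          · rcases Nat.lt_or_ge v 99532 with h | h
            · rcases Nat.lt_or_ge v 97165 with h | h
              · exact edgesRangeI_spec iota E 6 2340 94825 edges_6_36 v (by omega) (by omega)
              · exact edgesRangeI_spec iota E 6 2367 97165 edges_6_37 v (by omega) (by omega)
            · rcases Nat.lt_or_ge v 101930 with h | h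
              · exact edgesRangeI_spec iota E 6 2398 99532 edges_6_38 v (by omega) (by omega)
              · exact edgesRangeI_spec iota E 6 2161 101930 edges_6_39 v (by omega) (by omega)
          · rcases Nat.lt_or_ge v 108897 with h | h
            · rcases Nat.lt_or_ge v 106409 with h | h
              · exact edgesRangeI_spec iota E 6 2318 104091 edges_6_40 v (by omega) (by omega)
              · exact edgesRangeI_spec iota E 6 2488 106409 edges_6_41 v (by omega) (by omega)
            · rcases Nat.lt_or_ge v 111284 with h | h
              · exact edgesRangeI_spec iota E 6 2387 108897 edges_6_42 v (by omega) (by omega)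
              · exact edgesRangeI_spec iota E 6 2462 111284 edges_6_43 v (by omega) (by omega)
      · rcases Nat.lt_or_ge v 130194 with h | h
        · rcases Nat.lt_or_ge v 121193 with h | h
          · rcases Nat.lt_or_ge v 116371 with h | h
            · exact edgesRangeI_spec iota E 6 2625 113746 edges_6_44 v (by omega) (by omega)
            · rcases Nat.lt_or_ge v 118818 with h | h
              · exact edgesRangeI_spec iota E 6 2447 116371 edges_6_45 v (by omega) (by omega)
              · exact edgesRangeI_spec iota E 6 2375 118818 edges_6_46 v (by omega) (by omega)
          · rcases Nat.lt_or_ge v 125631 with h | h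
            · rcases Nat.lt_or_ge v 123466 with h | h
              · exact edgesRangeI_spec iota E 6 2273 121193 edges_6_47 v (by omega) (by omega)
              · exact edgesRangeI_spec iota E 6 2165 123466 edges_6_48 v (by omega) (by omega)
            · rcases Nat.lt_or_ge v 127824 with h | h
              · exact edgesRangeI_spec iota E 6 2193 125631 edges_6_49 v (by omega) (by omega)
              · exact edgesRangeI_spec iota E 6 2370 127824 edges_6_50 v (by omega) (by omega)
        · rcases Nat.lt_or_ge v 139568 with h | h
          · rcases Nat.lt_or_ge v 134849 with h | h
            · rcases Nat.lt_or_ge v 132496 with h | h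
              · exact edgesRangeI_spec iota E 6 2302 130194 edges_6_51 v (by omega) (by omega)
              · exact edgesRangeI_spec iota E 6 2353 132496 edges_6_52 v (by omega) (by omega)
            · rcases Nat.lt_or_ge v 137163 with h | h
              · exact edgesRangeI_spec iota E 6 2314 134849 edges_6_53 v (by omega) (by omega)
              · exact edgesRangeI_spec iota E 6 2405 137163 edges_6_54 v (by omega) (by omega)
          · rcases Nat.lt_or_ge v 144347 with h | h
            · rcases Nat.lt_or_ge v 142059 with h | h
              · exact edgesRangeI_spec iota E 6 2491 139568 edges_6_55 v (by omega) (by omega)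
              · exact edgesRangeI_spec iota E 6 2288 142059 edges_6_56 v (by omega) (by omega)
            · rcases Nat.lt_or_ge v 146796 with h | h
              · exact edgesRangeI_spec iota E 6 2449 144347 edges_6_57 v (by omega) (by omega)
              · exact edgesRangeI_spec iota E 6 2518 146796 edges_6_58 v (by omega) (by omega)
  · rcases Nat.lt_or_ge v 215022 with h | h
    · rcases Nat.lt_or_ge v 181925 with h | h
      · rcases Nat.lt_or_ge v 166396 with h | h
        · rcases Nat.lt_or_ge v 156665 with h | h
          · rcases Nat.lt_or_ge v 151773 with h | h
            · exact edgesRangeI_spec iota E 6 2459 149314 edges_6_59 v (by omega) (by omega)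
            · rcases Nat.lt_or_ge v 154192 with h | h
              · exact edgesRangeI_spec iota E 6 2419 151773 edges_6_60 v (by omega) (by omega)
              · exact edgesRangeI_spec iota E 6 2473 154192 edges_6_61 v (by omega) (by omega)
          · rcases Nat.lt_or_ge v 161616 with h | h
            · rcases Nat.lt_or_ge v 159177 with h | h
              · exact edgesRangeI_spec iota E 6 2512 156665 edges_6_62 v (by omega) (by omega)
              · exact edgesRangeI_spec iota E 6 2439 159177 edges_6_63 v (by omega) (by omega)
            · rcases Nat.lt_or_ge v 163958 with h | h
              · exact edgesRangeI_spec iota E 6 2342 161616 edges_6_64 v (by omega) (by omega)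
              · exact edgesRangeI_spec iota E 6 2438 163958 edges_6_65 v (by omega) (by omega)
        · rcases Nat.lt_or_ge v 173028 with h | h
          · rcases Nat.lt_or_ge v 168530 with h | h
            · exact edgesRangeI_spec iota E 6 2134 166396 edges_6_66 v (by omega) (by omega)
            · rcases Nat.lt_or_ge v 170795 with h | h
              · exact edgesRangeI_spec iota E 6 2265 168530 edges_6_67 v (by omega) (by omega)
              · exact edgesRangeI_spec iota E 6 2233 170795 edges_6_68 v (by omega) (by omega)
          · rcases Nat.lt_or_ge v 177446 with h | h
            · rcases Nat.lt_or_ge v 175261 with h | h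
              · exact edgesRangeI_spec iota E 6 2233 173028 edges_6_69 v (by omega) (by omega)
              · exact edgesRangeI_spec iota E 6 2185 175261 edges_6_70 v (by omega) (by omega)
            · rcases Nat.lt_or_ge v 179770 with h | h
              · exact edgesRangeI_spec iota E 6 2324 177446 edges_6_71 v (by omega) (by omega)
              · exact edgesRangeI_spec iota E 6 2155 179770 edges_6_72 v (by omega) (by omega)
      · rcases Nat.lt_or_ge v 197892 with h | h
        · rcases Nat.lt_or_ge v 188852 with h | h
          · rcases Nat.lt_or_ge v 184131 with h | h
            · exact edgesRangeI_spec iota E 6 2206 181925 edges_6_73 v (by omega) (by omega)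
            · rcases Nat.lt_or_ge v 186540 with h | h
              · exact edgesRangeI_spec iota E 6 2409 184131 edges_6_74 v (by omega) (by omega)
              · exact edgesRangeI_spec iota E 6 2312 186540 edges_6_75 v (by omega) (by omega)
          · rcases Nat.lt_or_ge v 193435 with h | h
            · rcases Nat.lt_or_ge v 191114 with h | h
              · exact edgesRangeI_spec iota E 6 2262 188852 edges_6_76 v (by omega) (by omega)
              · exact edgesRangeI_spec iota E 6 2321 191114 edges_6_77 v (by omega) (by omega)
            · rcases Nat.lt_or_ge v 195677 with h | h
              · exact edgesRangeI_spec iota E 6 2242 193435 edges_6_78 v (by omega) (by omega)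
              · exact edgesRangeI_spec iota E 6 2215 195677 edges_6_79 v (by omega) (by omega)
        · rcases Nat.lt_or_ge v 206571 with h | h
          · rcases Nat.lt_or_ge v 202250 with h | h
            · rcases Nat.lt_or_ge v 200074 with h | h
              · exact edgesRangeI_spec iota E 6 2182 197892 edges_6_80 v (by omega) (by omega)
              · exact edgesRangeI_spec iota E 6 2176 200074 edges_6_81 v (by omega) (by omega)
            · rcases Nat.lt_or_ge v 204431 with h | h
              · exact edgesRangeI_spec iota E 6 2181 202250 edges_6_82 v (by omega) (by omega)
              · exact edgesRangeI_spec iota E 6 2140 204431 edges_6_83 v (by omega) (by omega)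
          · rcases Nat.lt_or_ge v 210790 with h | h
            · rcases Nat.lt_or_ge v 208765 with h | h
              · exact edgesRangeI_spec iota E 6 2194 206571 edges_6_84 v (by omega) (by omega)
              · exact edgesRangeI_spec iota E 6 2025 208765 edges_6_85 v (by omega) (by omega)
            · rcases Nat.lt_or_ge v 212905 with h | h
              · exact edgesRangeI_spec iota E 6 2115 210790 edges_6_86 v (by omega) (by omega)
              · exact edgesRangeI_spec iota E 6 2117 212905 edges_6_87 v (by omega) (by omega)
    · rcases Nat.lt_or_ge v 244341 with h | h
      · rcases Nat.lt_or_ge v 228948 with h | h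
        · rcases Nat.lt_or_ge v 221090 with h | h
          · rcases Nat.lt_or_ge v 217053 with h | h
            · exact edgesRangeI_spec iota E 6 2031 215022 edges_6_88 v (by omega) (by omega)
            · rcases Nat.lt_or_ge v 219060 with h | h
              · exact edgesRangeI_spec iota E 6 2007 217053 edges_6_89 v (by omega) (by omega)
              · exact edgesRangeI_spec iota E 6 2030 219060 edges_6_90 v (by omega) (by omega)
          · rcases Nat.lt_or_ge v 224960 with h | h
            · rcases Nat.lt_or_ge v 223023 with h | h
              · exact edgesRangeI_spec iota E 6 1933 221090 edges_6_91 v (by omega) (by omega)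
              · exact edgesRangeI_spec iota E 6 1937 223023 edges_6_92 v (by omega) (by omega)
            · rcases Nat.lt_or_ge v 226911 with h | h
              · exact edgesRangeI_spec iota E 6 1951 224960 edges_6_93 v (by omega) (by omega)
              · exact edgesRangeI_spec iota E 6 2037 226911 edges_6_94 v (by omega) (by omega)
        · rcases Nat.lt_or_ge v 236818 with h | h
          · rcases Nat.lt_or_ge v 232833 with h | h
            · rcases Nat.lt_or_ge v 230845 with h | h
              · exact edgesRangeI_spec iota E 6 1897 228948 edges_6_95 v (by omega) (by omega)
              · exact edgesRangeI_spec iota E 6 1988 230845 edges_6_96 v (by omega) (by omega)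
            · rcases Nat.lt_or_ge v 234874 with h | h
              · exact edgesRangeI_spec iota E 6 2041 232833 edges_6_97 v (by omega) (by omega)
              · exact edgesRangeI_spec iota E 6 1944 234874 edges_6_98 v (by omega) (by omega)
          · rcases Nat.lt_or_ge v 240712 with h | h
            · rcases Nat.lt_or_ge v 238747 with h | h
              · exact edgesRangeI_spec iota E 6 1929 236818 edges_6_99 v (by omega) (by omega)
              · exact edgesRangeI_spec iota E 6 1965 238747 edges_6_100 v (by omega) (by omega)
            · rcases Nat.lt_or_ge v 242519 with h | h
              · exact edgesRangeI_spec iota E 6 1807 240712 edges_6_101 v (by omega) (by omega)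
              · exact edgesRangeI_spec iota E 6 1822 242519 edges_6_102 v (by omega) (by omega)
      · rcases Nat.lt_or_ge v 256824 with h | h
        · rcases Nat.lt_or_ge v 249902 with h | h
          · rcases Nat.lt_or_ge v 246191 with h | h
            · exact edgesRangeI_spec iota E 6 1850 244341 edges_6_103 v (by omega) (by omega)
            · rcases Nat.lt_or_ge v 248039 with h | h
              · exact edgesRangeI_spec iota E 6 1848 246191 edges_6_104 v (by omega) (by omega)
              · exact edgesRangeI_spec iota E 6 1863 248039 edges_6_105 v (by omega) (by omega)
          · rcases Nat.lt_or_ge v 253400 with h | h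
            · rcases Nat.lt_or_ge v 251595 with h | h
              · exact edgesRangeI_spec iota E 6 1693 249902 edges_6_106 v (by omega) (by omega)
              · exact edgesRangeI_spec iota E 6 1805 251595 edges_6_107 v (by omega) (by omega)
            · rcases Nat.lt_or_ge v 255129 with h | h
              · exact edgesRangeI_spec iota E 6 1729 253400 edges_6_108 v (by omega) (by omega)
              · exact edgesRangeI_spec iota E 6 1695 255129 edges_6_109 v (by omega) (by omega)
        · rcases Nat.lt_or_ge v 263587 with h | h
          · rcases Nat.lt_or_ge v 260232 with h | h
            · rcases Nat.lt_or_ge v 258511 with h | h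
              · exact edgesRangeI_spec iota E 6 1687 256824 edges_6_110 v (by omega) (by omega)
              · exact edgesRangeI_spec iota E 6 1721 258511 edges_6_111 v (by omega) (by omega)
            · rcases Nat.lt_or_ge v 261942 with h | h
              · exact edgesRangeI_spec iota E 6 1710 260232 edges_6_112 v (by omega) (by omega)
              · exact edgesRangeI_spec iota E 6 1645 261942 edges_6_113 v (by omega) (by omega)
          · rcases Nat.lt_or_ge v 266784 with h | h
            · rcases Nat.lt_or_ge v 265194 with h | h
              · exact edgesRangeI_spec iota E 6 1607 263587 edges_6_114 v (by omega) (by omega)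
              · exact edgesRangeI_spec iota E 6 1590 265194 edges_6_115 v (by omega) (by omega)
            · rcases Nat.lt_or_ge v 268350 with h | h
              · exact edgesRangeI_spec iota E 6 1566 266784 edges_6_116 v (by omega) (by omega)
              · exact edgesRangeI_spec iota E 6 992 268350 edges_6_117 v (by omega) (by omega)

theorem hA0 : ∀ v, v < 269342 → aliasOK E v = true := by
  intro v hv
  rcases Nat.lt_or_ge v 134647 with h | h
  · rcases Nat.lt_or_ge v 66018 with h | h
    · rcases Nat.lt_or_ge v 28628 with h | h
      · rcases Nat.lt_or_ge v 14605 with h | h
        · rcases Nat.lt_or_ge v 7577 with h | h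
          · exact aliasRange_spec E 7577 0 aliases_0 v (by omega) (by omega)
          · exact aliasRange_spec E 7028 7577 aliases_1 v (by omega) (by omega)
        · rcases Nat.lt_or_ge v 21638 with h | h
          · exact aliasRange_spec E 7033 14605 aliases_2 v (by omega) (by omega)
          · exact aliasRange_spec E 6990 21638 aliases_3 v (by omega) (by omega)
      · rcases Nat.lt_or_ge v 43591 with h | h
        · rcases Nat.lt_or_ge v 36284 with h | h
          · exact aliasRange_spec E 7656 28628 aliases_4 v (by omega) (by omega)
          · exact aliasRange_spec E 7307 36284 aliases_5 v (by omega) (by omega)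
        · rcases Nat.lt_or_ge v 50863 with h | h
          · exact aliasRange_spec E 7272 43591 aliases_6 v (by omega) (by omega)
          · rcases Nat.lt_or_ge v 58397 with h | h
            · exact aliasRange_spec E 7534 50863 aliases_7 v (by omega) (by omega)
            · exact aliasRange_spec E 7621 58397 aliases_8 v (by omega) (by omega)
    · rcases Nat.lt_or_ge v 96517 with h | h
      · rcases Nat.lt_or_ge v 81196 with h | h
        · rcases Nat.lt_or_ge v 73598 with h | h
          · exact aliasRange_spec E 7580 66018 aliases_9 v (by omega) (by omega)
          · exact aliasRange_spec E 7598 73598 aliases_10 v (by omega) (by omega)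
        · rcases Nat.lt_or_ge v 88822 with h | h
          · exact aliasRange_spec E 7626 81196 aliases_11 v (by omega) (by omega)
          · exact aliasRange_spec E 7695 88822 aliases_12 v (by omega) (by omega)
      · rcases Nat.lt_or_ge v 111691 with h | h
        · rcases Nat.lt_or_ge v 103955 with h | h
          · exact aliasRange_spec E 7438 96517 aliases_13 v (by omega) (by omega)
          · exact aliasRange_spec E 7736 103955 aliases_14 v (by omega) (by omega)
        · rcases Nat.lt_or_ge v 119223 with h | h
          · exact aliasRange_spec E 7532 111691 aliases_15 v (by omega) (by omega)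
          · rcases Nat.lt_or_ge v 126927 with h | h
            · exact aliasRange_spec E 7704 119223 aliases_16 v (by omega) (by omega)
            · exact aliasRange_spec E 7720 126927 aliases_17 v (by omega) (by omega)
  · rcases Nat.lt_or_ge v 203462 with h | h
    · rcases Nat.lt_or_ge v 165125 with h | h
      · rcases Nat.lt_or_ge v 150015 with h | h
        · rcases Nat.lt_or_ge v 142381 with h | h
          · exact aliasRange_spec E 7734 134647 aliases_18 v (by omega) (by omega)
          · exact aliasRange_spec E 7634 142381 aliases_19 v (by omega) (by omega)
        · rcases Nat.lt_or_ge v 157639 with h | h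
          · exact aliasRange_spec E 7624 150015 aliases_20 v (by omega) (by omega)
          · exact aliasRange_spec E 7486 157639 aliases_21 v (by omega) (by omega)
      · rcases Nat.lt_or_ge v 180323 with h | h
        · rcases Nat.lt_or_ge v 172745 with h | h
          · exact aliasRange_spec E 7620 165125 aliases_22 v (by omega) (by omega)
          · exact aliasRange_spec E 7578 172745 aliases_23 v (by omega) (by omega)
        · rcases Nat.lt_or_ge v 188107 with h | h
          · exact aliasRange_spec E 7784 180323 aliases_24 v (by omega) (by omega)
          · rcases Nat.lt_or_ge v 195802 with h | h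
            · exact aliasRange_spec E 7695 188107 aliases_25 v (by omega) (by omega)
            · exact aliasRange_spec E 7660 195802 aliases_26 v (by omega) (by omega)
    · rcases Nat.lt_or_ge v 234758 with h | h
      · rcases Nat.lt_or_ge v 219020 with h | h
        · rcases Nat.lt_or_ge v 211224 with h | h
          · exact aliasRange_spec E 7762 203462 aliases_27 v (by omega) (by omega)
          · exact aliasRange_spec E 7796 211224 aliases_28 v (by omega) (by omega)
        · rcases Nat.lt_or_ge v 226862 with h | h
          · exact aliasRange_spec E 7842 219020 aliases_29 v (by omega) (by omega)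
          · exact aliasRange_spec E 7896 226862 aliases_30 v (by omega) (by omega)
      · rcases Nat.lt_or_ge v 250630 with h | h
        · rcases Nat.lt_or_ge v 242682 with h | h
          · exact aliasRange_spec E 7924 234758 aliases_31 v (by omega) (by omega)
          · exact aliasRange_spec E 7948 242682 aliases_32 v (by omega) (by omega)
        · rcases Nat.lt_or_ge v 258610 with h | h
          · exact aliasRange_spec E 7980 250630 aliases_33 v (by omega) (by omega)
          · rcases Nat.lt_or_ge v 266606 with h | h
            · exact aliasRange_spec E 7996 258610 aliases_34 v (by omega) (by omega)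
            · exact aliasRange_spec E 2736 266606 aliases_35 v (by omega) (by omega)

theorem hrows0 : ∀ v, v < 269342 → tb RS v = true → rowOK2 E RS v E.D.k = true := by
  intro v hv
  rcases Nat.lt_or_ge v 135000 with h | h
  · rcases Nat.lt_or_ge v 67500 with h | h
    · rcases Nat.lt_or_ge v 33000 with h | h
      · rcases Nat.lt_or_ge v 16500 with h | h
        · rcases Nat.lt_or_ge v 7500 with h | h
          · rcases Nat.lt_or_ge v 3000 with h | h
            · rcases Nat.lt_or_ge v 1500 with h | h
              · exact rowsRange_spec E RS 1500 0 rows_0 v (by omega) (by omega)
              · exact rowsRange_spec E RS 1500 1500 rows_1 v (by omega) (by omega)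
            · rcases Nat.lt_or_ge v 4500 with h | h
              · exact rowsRange_spec E RS 1500 3000 rows_2 v (by omega) (by omega)
              · rcases Nat.lt_or_ge v 6000 with h | h
                · exact rowsRange_spec E RS 1500 4500 rows_3 v (by omega) (by omega)
                · exact rowsRange_spec E RS 1500 6000 rows_4 v (by omega) (by omega)
          · rcases Nat.lt_or_ge v 12000 with h | h
            · rcases Nat.lt_or_ge v 9000 with h | h
              · exact rowsRange_spec E RS 1500 7500 rows_5 v (by omega) (by omega)
              · rcases Nat.lt_or_ge v 10500 with h | h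
                · exact rowsRange_spec E RS 1500 9000 rows_6 v (by omega) (by omega)
                · exact rowsRange_spec E RS 1500 10500 rows_7 v (by omega) (by omega)
            · rcases Nat.lt_or_ge v 13500 with h | h
              · exact rowsRange_spec E RS 1500 12000 rows_8 v (by omega) (by omega)
              · rcases Nat.lt_or_ge v 15000 with h | h
                · exact rowsRange_spec E RS 1500 13500 rows_9 v (by omega) (by omega)
                · exact rowsRange_spec E RS 1500 15000 rows_10 v (by omega) (by omega)
        · rcases Nat.lt_or_ge v 24000 with h | h
          · rcases Nat.lt_or_ge v 19500 with h | h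
            · rcases Nat.lt_or_ge v 18000 with h | h
              · exact rowsRange_spec E RS 1500 16500 rows_11 v (by omega) (by omega)
              · exact rowsRange_spec E RS 1500 18000 rows_12 v (by omega) (by omega)
            · rcases Nat.lt_or_ge v 21000 with h | h
              · exact rowsRange_spec E RS 1500 19500 rows_13 v (by omega) (by omega)
              · rcases Nat.lt_or_ge v 22500 with h | h
                · exact rowsRange_spec E RS 1500 21000 rows_14 v (by omega) (by omega)
                · exact rowsRange_spec E RS 1500 22500 rows_15 v (by omega) (by omega)
          · rcases Nat.lt_or_ge v 28500 with h | h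
            · rcases Nat.lt_or_ge v 25500 with h | h
              · exact rowsRange_spec E RS 1500 24000 rows_16 v (by omega) (by omega)
              · rcases Nat.lt_or_ge v 27000 with h | h
                · exact rowsRange_spec E RS 1500 25500 rows_17 v (by omega) (by omega)
                · exact rowsRange_spec E RS 1500 27000 rows_18 v (by omega) (by omega)
            · rcases Nat.lt_or_ge v 30000 with h | h
              · exact rowsRange_spec E RS 1500 28500 rows_19 v (by omega) (by omega)
              · rcases Nat.lt_or_ge v 31500 with h | h
                · exact rowsRange_spec E RS 1500 30000 rows_20 v (by omega) (by omega)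
                · exact rowsRange_spec E RS 1500 31500 rows_21 v (by omega) (by omega)
      · rcases Nat.lt_or_ge v 49500 with h | h
        · rcases Nat.lt_or_ge v 40500 with h | h
          · rcases Nat.lt_or_ge v 36000 with h | h
            · rcases Nat.lt_or_ge v 34500 with h | h
              · exact rowsRange_spec E RS 1500 33000 rows_22 v (by omega) (by omega)
              · exact rowsRange_spec E RS 1500 34500 rows_23 v (by omega) (by omega)
            · rcases Nat.lt_or_ge v 37500 with h | h
              · exact rowsRange_spec E RS 1500 36000 rows_24 v (by omega) (by omega)
              · rcases Nat.lt_or_ge v 39000 with h | h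
                · exact rowsRange_spec E RS 1500 37500 rows_25 v (by omega) (by omega)
                · exact rowsRange_spec E RS 1500 39000 rows_26 v (by omega) (by omega)
          · rcases Nat.lt_or_ge v 45000 with h | h
            · rcases Nat.lt_or_ge v 42000 with h | h
              · exact rowsRange_spec E RS 1500 40500 rows_27 v (by omega) (by omega)
              · rcases Nat.lt_or_ge v 43500 with h | h
                · exact rowsRange_spec E RS 1500 42000 rows_28 v (by omega) (by omega)
                · exact rowsRange_spec E RS 1500 43500 rows_29 v (by omega) (by omega)
            · rcases Nat.lt_or_ge v 46500 with h | h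
              · exact rowsRange_spec E RS 1500 45000 rows_30 v (by omega) (by omega)
              · rcases Nat.lt_or_ge v 48000 with h | h
                · exact rowsRange_spec E RS 1500 46500 rows_31 v (by omega) (by omega)
                · exact rowsRange_spec E RS 1500 48000 rows_32 v (by omega) (by omega)
        · rcases Nat.lt_or_ge v 58500 with h | h
          · rcases Nat.lt_or_ge v 54000 with h | h
            · rcases Nat.lt_or_ge v 51000 with h | h
              · exact rowsRange_spec E RS 1500 49500 rows_33 v (by omega) (by omega)
              · rcases Nat.lt_or_ge v 52500 with h | h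
                · exact rowsRange_spec E RS 1500 51000 rows_34 v (by omega) (by omega)
                · exact rowsRange_spec E RS 1500 52500 rows_35 v (by omega) (by omega)
            · rcases Nat.lt_or_ge v 55500 with h | h
              · exact rowsRange_spec E RS 1500 54000 rows_36 v (by omega) (by omega)
              · rcases Nat.lt_or_ge v 57000 with h | h
                · exact rowsRange_spec E RS 1500 55500 rows_37 v (by omega) (by omega)
                · exact rowsRange_spec E RS 1500 57000 rows_38 v (by omega) (by omega)
          · rcases Nat.lt_or_ge v 63000 with h | h
            · rcases Nat.lt_or_ge v 60000 with h | h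
              · exact rowsRange_spec E RS 1500 58500 rows_39 v (by omega) (by omega)
              · rcases Nat.lt_or_ge v 61500 with h | h
                · exact rowsRange_spec E RS 1500 60000 rows_40 v (by omega) (by omega)
                · exact rowsRange_spec E RS 1500 61500 rows_41 v (by omega) (by omega)
            · rcases Nat.lt_or_ge v 64500 with h | h
              · exact rowsRange_spec E RS 1500 63000 rows_42 v (by omega) (by omega)
              · rcases Nat.lt_or_ge v 66000 with h | h
                · exact rowsRange_spec E RS 1500 64500 rows_43 v (by omega) (by omega)
                · exact rowsRange_spec E RS 1500 66000 rows_44 v (by omega) (by omega)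
    · rcases Nat.lt_or_ge v 100500 with h | h
      · rcases Nat.lt_or_ge v 84000 with h | h
        · rcases Nat.lt_or_ge v 75000 with h | h
          · rcases Nat.lt_or_ge v 70500 with h | h
            · rcases Nat.lt_or_ge v 69000 with h | h
              · exact rowsRange_spec E RS 1500 67500 rows_45 v (by omega) (by omega)
              · exact rowsRange_spec E RS 1500 69000 rows_46 v (by omega) (by omega)
            · rcases Nat.lt_or_ge v 72000 with h | h
              · exact rowsRange_spec E RS 1500 70500 rows_47 v (by omega) (by omega)
              · rcases Nat.lt_or_ge v 73500 with h | h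
                · exact rowsRange_spec E RS 1500 72000 rows_48 v (by omega) (by omega)
                · exact rowsRange_spec E RS 1500 73500 rows_49 v (by omega) (by omega)
          · rcases Nat.lt_or_ge v 79500 with h | h
            · rcases Nat.lt_or_ge v 76500 with h | h
              · exact rowsRange_spec E RS 1500 75000 rows_50 v (by omega) (by omega)
              · rcases Nat.lt_or_ge v 78000 with h | h
                · exact rowsRange_spec E RS 1500 76500 rows_51 v (by omega) (by omega)
                · exact rowsRange_spec E RS 1500 78000 rows_52 v (by omega) (by omega)
            · rcases Nat.lt_or_ge v 81000 with h | h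
              · exact rowsRange_spec E RS 1500 79500 rows_53 v (by omega) (by omega)
              · rcases Nat.lt_or_ge v 82500 with h | h
                · exact rowsRange_spec E RS 1500 81000 rows_54 v (by omega) (by omega)
                · exact rowsRange_spec E RS 1500 82500 rows_55 v (by omega) (by omega)
        · rcases Nat.lt_or_ge v 91500 with h | h
          · rcases Nat.lt_or_ge v 87000 with h | h
            · rcases Nat.lt_or_ge v 85500 with h | h
              · exact rowsRange_spec E RS 1500 84000 rows_56 v (by omega) (by omega)
              · exact rowsRange_spec E RS 1500 85500 rows_57 v (by omega) (by omega)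
            · rcases Nat.lt_or_ge v 88500 with h | h
              · exact rowsRange_spec E RS 1500 87000 rows_58 v (by omega) (by omega)
              · rcases Nat.lt_or_ge v 90000 with h | h
                · exact rowsRange_spec E RS 1500 88500 rows_59 v (by omega) (by omega)
                · exact rowsRange_spec E RS 1500 90000 rows_60 v (by omega) (by omega)
          · rcases Nat.lt_or_ge v 96000 with h | h
            · rcases Nat.lt_or_ge v 93000 with h | h
              · exact rowsRange_spec E RS 1500 91500 rows_61 v (by omega) (by omega)
              · rcases Nat.lt_or_ge v 94500 with h | h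
                · exact rowsRange_spec E RS 1500 93000 rows_62 v (by omega) (by omega)
                · exact rowsRange_spec E RS 1500 94500 rows_63 v (by omega) (by omega)
            · rcases Nat.lt_or_ge v 97500 with h | h
              · exact rowsRange_spec E RS 1500 96000 rows_64 v (by omega) (by omega)
              · rcases Nat.lt_or_ge v 99000 with h | h
                · exact rowsRange_spec E RS 1500 97500 rows_65 v (by omega) (by omega)
                · exact rowsRange_spec E RS 1500 99000 rows_66 v (by omega) (by omega)
      · rcases Nat.lt_or_ge v 117000 with h | h
        · rcases Nat.lt_or_ge v 108000 with h | h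
          · rcases Nat.lt_or_ge v 103500 with h | h
            · rcases Nat.lt_or_ge v 102000 with h | h
              · exact rowsRange_spec E RS 1500 100500 rows_67 v (by omega) (by omega)
              · exact rowsRange_spec E RS 1500 102000 rows_68 v (by omega) (by omega)
            · rcases Nat.lt_or_ge v 105000 with h | h
              · exact rowsRange_spec E RS 1500 103500 rows_69 v (by omega) (by omega)
              · rcases Nat.lt_or_ge v 106500 with h | h
                · exact rowsRange_spec E RS 1500 105000 rows_70 v (by omega) (by omega)
                · exact rowsRange_spec E RS 1500 106500 rows_71 v (by omega) (by omega)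
          · rcases Nat.lt_or_ge v 112500 with h | h
            · rcases Nat.lt_or_ge v 109500 with h | h
              · exact rowsRange_spec E RS 1500 108000 rows_72 v (by omega) (by omega)
              · rcases Nat.lt_or_ge v 111000 with h | h
                · exact rowsRange_spec E RS 1500 109500 rows_73 v (by omega) (by omega)
                · exact rowsRange_spec E RS 1500 111000 rows_74 v (by omega) (by omega)
            · rcases Nat.lt_or_ge v 114000 with h | h
              · exact rowsRange_spec E RS 1500 112500 rows_75 v (by omega) (by omega)
              · rcases Nat.lt_or_ge v 115500 with h | h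
                · exact rowsRange_spec E RS 1500 114000 rows_76 v (by omega) (by omega)
                · exact rowsRange_spec E RS 1500 115500 rows_77 v (by omega) (by omega)
        · rcases Nat.lt_or_ge v 126000 with h | h
          · rcases Nat.lt_or_ge v 121500 with h | h
            · rcases Nat.lt_or_ge v 118500 with h | h
              · exact rowsRange_spec E RS 1500 117000 rows_78 v (by omega) (by omega)
              · rcases Nat.lt_or_ge v 120000 with h | h
                · exact rowsRange_spec E RS 1500 118500 rows_79 v (by omega) (by omega)
                · exact rowsRange_spec E RS 1500 120000 rows_80 v (by omega) (by omega)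
            · rcases Nat.lt_or_ge v 123000 with h | h
              · exact rowsRange_spec E RS 1500 121500 rows_81 v (by omega) (by omega)
              · rcases Nat.lt_or_ge v 124500 with h | h
                · exact rowsRange_spec E RS 1500 123000 rows_82 v (by omega) (by omega)
                · exact rowsRange_spec E RS 1500 124500 rows_83 v (by omega) (by omega)
          · rcases Nat.lt_or_ge v 130500 with h | h
            · rcases Nat.lt_or_ge v 127500 with h | h
              · exact rowsRange_spec E RS 1500 126000 rows_84 v (by omega) (by omega)
              · rcases Nat.lt_or_ge v 129000 with h | h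
                · exact rowsRange_spec E RS 1500 127500 rows_85 v (by omega) (by omega)
                · exact rowsRange_spec E RS 1500 129000 rows_86 v (by omega) (by omega)
            · rcases Nat.lt_or_ge v 132000 with h | h
              · exact rowsRange_spec E RS 1500 130500 rows_87 v (by omega) (by omega)
              · rcases Nat.lt_or_ge v 133500 with h | h
                · exact rowsRange_spec E RS 1500 132000 rows_88 v (by omega) (by omega)
                · exact rowsRange_spec E RS 1500 133500 rows_89 v (by omega) (by omega)
  · rcases Nat.lt_or_ge v 202500 with h | h
    · rcases Nat.lt_or_ge v 168000 with h | h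
      · rcases Nat.lt_or_ge v 151500 with h | h
        · rcases Nat.lt_or_ge v 142500 with h | h
          · rcases Nat.lt_or_ge v 138000 with h | h
            · rcases Nat.lt_or_ge v 136500 with h | h
              · exact rowsRange_spec E RS 1500 135000 rows_90 v (by omega) (by omega)
              · exact rowsRange_spec E RS 1500 136500 rows_91 v (by omega) (by omega)
            · rcases Nat.lt_or_ge v 139500 with h | h
              · exact rowsRange_spec E RS 1500 138000 rows_92 v (by omega) (by omega)
              · rcases Nat.lt_or_ge v 141000 with h | h
                · exact rowsRange_spec E RS 1500 139500 rows_93 v (by omega) (by omega)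
                · exact rowsRange_spec E RS 1500 141000 rows_94 v (by omega) (by omega)
          · rcases Nat.lt_or_ge v 147000 with h | h
            · rcases Nat.lt_or_ge v 144000 with h | h
              · exact rowsRange_spec E RS 1500 142500 rows_95 v (by omega) (by omega)
              · rcases Nat.lt_or_ge v 145500 with h | h
                · exact rowsRange_spec E RS 1500 144000 rows_96 v (by omega) (by omega)
                · exact rowsRange_spec E RS 1500 145500 rows_97 v (by omega) (by omega)
            · rcases Nat.lt_or_ge v 148500 with h | h
              · exact rowsRange_spec E RS 1500 147000 rows_98 v (by omega) (by omega)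
              · rcases Nat.lt_or_ge v 150000 with h | h
                · exact rowsRange_spec E RS 1500 148500 rows_99 v (by omega) (by omega)
                · exact rowsRange_spec E RS 1500 150000 rows_100 v (by omega) (by omega)
        · rcases Nat.lt_or_ge v 159000 with h | h
          · rcases Nat.lt_or_ge v 154500 with h | h
            · rcases Nat.lt_or_ge v 153000 with h | h
              · exact rowsRange_spec E RS 1500 151500 rows_101 v (by omega) (by omega)
              · exact rowsRange_spec E RS 1500 153000 rows_102 v (by omega) (by omega)
            · rcases Nat.lt_or_ge v 156000 with h | h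
              · exact rowsRange_spec E RS 1500 154500 rows_103 v (by omega) (by omega)
              · rcases Nat.lt_or_ge v 157500 with h | h
                · exact rowsRange_spec E RS 1500 156000 rows_104 v (by omega) (by omega)
                · exact rowsRange_spec E RS 1500 157500 rows_105 v (by omega) (by omega)
          · rcases Nat.lt_or_ge v 163500 with h | h
            · rcases Nat.lt_or_ge v 160500 with h | h
              · exact rowsRange_spec E RS 1500 159000 rows_106 v (by omega) (by omega)
              · rcases Nat.lt_or_ge v 162000 with h | h
                · exact rowsRange_spec E RS 1500 160500 rows_107 v (by omega) (by omega)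
                · exact rowsRange_spec E RS 1500 162000 rows_108 v (by omega) (by omega)
            · rcases Nat.lt_or_ge v 165000 with h | h
              · exact rowsRange_spec E RS 1500 163500 rows_109 v (by omega) (by omega)
              · rcases Nat.lt_or_ge v 166500 with h | h
                · exact rowsRange_spec E RS 1500 165000 rows_110 v (by omega) (by omega)
                · exact rowsRange_spec E RS 1500 166500 rows_111 v (by omega) (by omega)
      · rcases Nat.lt_or_ge v 184500 with h | h
        · rcases Nat.lt_or_ge v 175500 with h | h
          · rcases Nat.lt_or_ge v 171000 with h | h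
            · rcases Nat.lt_or_ge v 169500 with h | h
              · exact rowsRange_spec E RS 1500 168000 rows_112 v (by omega) (by omega)
              · exact rowsRange_spec E RS 1500 169500 rows_113 v (by omega) (by omega)
            · rcases Nat.lt_or_ge v 172500 with h | h
              · exact rowsRange_spec E RS 1500 171000 rows_114 v (by omega) (by omega)
              · rcases Nat.lt_or_ge v 174000 with h | h
                · exact rowsRange_spec E RS 1500 172500 rows_115 v (by omega) (by omega)
                · exact rowsRange_spec E RS 1500 174000 rows_116 v (by omega) (by omega)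
          · rcases Nat.lt_or_ge v 180000 with h | h
            · rcases Nat.lt_or_ge v 177000 with h | h
              · exact rowsRange_spec E RS 1500 175500 rows_117 v (by omega) (by omega)
              · rcases Nat.lt_or_ge v 178500 with h | h
                · exact rowsRange_spec E RS 1500 177000 rows_118 v (by omega) (by omega)
                · exact rowsRange_spec E RS 1500 178500 rows_119 v (by omega) (by omega)
            · rcases Nat.lt_or_ge v 181500 with h | h
              · exact rowsRange_spec E RS 1500 180000 rows_120 v (by omega) (by omega)
              · rcases Nat.lt_or_ge v 183000 with h | h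
                · exact rowsRange_spec E RS 1500 181500 rows_121 v (by omega) (by omega)
                · exact rowsRange_spec E RS 1500 183000 rows_122 v (by omega) (by omega)
        · rcases Nat.lt_or_ge v 193500 with h | h
          · rcases Nat.lt_or_ge v 189000 with h | h
            · rcases Nat.lt_or_ge v 186000 with h | h
              · exact rowsRange_spec E RS 1500 184500 rows_123 v (by omega) (by omega)
              · rcases Nat.lt_or_ge v 187500 with h | h
                · exact rowsRange_spec E RS 1500 186000 rows_124 v (by omega) (by omega)
                · exact rowsRange_spec E RS 1500 187500 rows_125 v (by omega) (by omega)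
            · rcases Nat.lt_or_ge v 190500 with h | h
              · exact rowsRange_spec E RS 1500 189000 rows_126 v (by omega) (by omega)
              · rcases Nat.lt_or_ge v 192000 with h | h
                · exact rowsRange_spec E RS 1500 190500 rows_127 v (by omega) (by omega)
                · exact rowsRange_spec E RS 1500 192000 rows_128 v (by omega) (by omega)
          · rcases Nat.lt_or_ge v 198000 with h | h
            · rcases Nat.lt_or_ge v 195000 with h | h
              · exact rowsRange_spec E RS 1500 193500 rows_129 v (by omega) (by omega)
              · rcases Nat.lt_or_ge v 196500 with h | h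
                · exact rowsRange_spec E RS 1500 195000 rows_130 v (by omega) (by omega)
                · exact rowsRange_spec E RS 1500 196500 rows_131 v (by omega) (by omega)
            · rcases Nat.lt_or_ge v 199500 with h | h
              · exact rowsRange_spec E RS 1500 198000 rows_132 v (by omega) (by omega)
              · rcases Nat.lt_or_ge v 201000 with h | h
                · exact rowsRange_spec E RS 1500 199500 rows_133 v (by omega) (by omega)
                · exact rowsRange_spec E RS 1500 201000 rows_134 v (by omega) (by omega)
    · rcases Nat.lt_or_ge v 235500 with h | h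
      · rcases Nat.lt_or_ge v 219000 with h | h
        · rcases Nat.lt_or_ge v 210000 with h | h
          · rcases Nat.lt_or_ge v 205500 with h | h
            · rcases Nat.lt_or_ge v 204000 with h | h
              · exact rowsRange_spec E RS 1500 202500 rows_135 v (by omega) (by omega)
              · exact rowsRange_spec E RS 1500 204000 rows_136 v (by omega) (by omega)
            · rcases Nat.lt_or_ge v 207000 with h | h
              · exact rowsRange_spec E RS 1500 205500 rows_137 v (by omega) (by omega)
              · rcases Nat.lt_or_ge v 208500 with h | h
                · exact rowsRange_spec E RS 1500 207000 rows_138 v (by omega) (by omega)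
                · exact rowsRange_spec E RS 1500 208500 rows_139 v (by omega) (by omega)
          · rcases Nat.lt_or_ge v 214500 with h | h
            · rcases Nat.lt_or_ge v 211500 with h | h
              · exact rowsRange_spec E RS 1500 210000 rows_140 v (by omega) (by omega)
              · rcases Nat.lt_or_ge v 213000 with h | h
                · exact rowsRange_spec E RS 1500 211500 rows_141 v (by omega) (by omega)
                · exact rowsRange_spec E RS 1500 213000 rows_142 v (by omega) (by omega)
            · rcases Nat.lt_or_ge v 216000 with h | h
              · exact rowsRange_spec E RS 1500 214500 rows_143 v (by omega) (by omega)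
              · rcases Nat.lt_or_ge v 217500 with h | h
                · exact rowsRange_spec E RS 1500 216000 rows_144 v (by omega) (by omega)
                · exact rowsRange_spec E RS 1500 217500 rows_145 v (by omega) (by omega)
        · rcases Nat.lt_or_ge v 226500 with h | h
          · rcases Nat.lt_or_ge v 222000 with h | h
            · rcases Nat.lt_or_ge v 220500 with h | h
              · exact rowsRange_spec E RS 1500 219000 rows_146 v (by omega) (by omega)
              · exact rowsRange_spec E RS 1500 220500 rows_147 v (by omega) (by omega)
            · rcases Nat.lt_or_ge v 223500 with h | h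
              · exact rowsRange_spec E RS 1500 222000 rows_148 v (by omega) (by omega)
              · rcases Nat.lt_or_ge v 225000 with h | h
                · exact rowsRange_spec E RS 1500 223500 rows_149 v (by omega) (by omega)
                · exact rowsRange_spec E RS 1500 225000 rows_150 v (by omega) (by omega)
          · rcases Nat.lt_or_ge v 231000 with h | h
            · rcases Nat.lt_or_ge v 228000 with h | h
              · exact rowsRange_spec E RS 1500 226500 rows_151 v (by omega) (by omega)
              · rcases Nat.lt_or_ge v 229500 with h | h
                · exact rowsRange_spec E RS 1500 228000 rows_152 v (by omega) (by omega)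
                · exact rowsRange_spec E RS 1500 229500 rows_153 v (by omega) (by omega)
            · rcases Nat.lt_or_ge v 232500 with h | h
              · exact rowsRange_spec E RS 1500 231000 rows_154 v (by omega) (by omega)
              · rcases Nat.lt_or_ge v 234000 with h | h
                · exact rowsRange_spec E RS 1500 232500 rows_155 v (by omega) (by omega)
                · exact rowsRange_spec E RS 1500 234000 rows_156 v (by omega) (by omega)
      · rcases Nat.lt_or_ge v 252000 with h | h
        · rcases Nat.lt_or_ge v 243000 with h | h
          · rcases Nat.lt_or_ge v 238500 with h | h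
            · rcases Nat.lt_or_ge v 237000 with h | h
              · exact rowsRange_spec E RS 1500 235500 rows_157 v (by omega) (by omega)
              · exact rowsRange_spec E RS 1500 237000 rows_158 v (by omega) (by omega)
            · rcases Nat.lt_or_ge v 240000 with h | h
              · exact rowsRange_spec E RS 1500 238500 rows_159 v (by omega) (by omega)
              · rcases Nat.lt_or_ge v 241500 with h | h
                · exact rowsRange_spec E RS 1500 240000 rows_160 v (by omega) (by omega)
                · exact rowsRange_spec E RS 1500 241500 rows_161 v (by omega) (by omega)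
          · rcases Nat.lt_or_ge v 247500 with h | h
            · rcases Nat.lt_or_ge v 244500 with h | h
              · exact rowsRange_spec E RS 1500 243000 rows_162 v (by omega) (by omega)
              · rcases Nat.lt_or_ge v 246000 with h | h
                · exact rowsRange_spec E RS 1500 244500 rows_163 v (by omega) (by omega)
                · exact rowsRange_spec E RS 1500 246000 rows_164 v (by omega) (by omega)
            · rcases Nat.lt_or_ge v 249000 with h | h
              · exact rowsRange_spec E RS 1500 247500 rows_165 v (by omega) (by omega)
              · rcases Nat.lt_or_ge v 250500 with h | h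
                · exact rowsRange_spec E RS 1500 249000 rows_166 v (by omega) (by omega)
                · exact rowsRange_spec E RS 1500 250500 rows_167 v (by omega) (by omega)
        · rcases Nat.lt_or_ge v 261000 with h | h
          · rcases Nat.lt_or_ge v 256500 with h | h
            · rcases Nat.lt_or_ge v 253500 with h | h
              · exact rowsRange_spec E RS 1500 252000 rows_168 v (by omega) (by omega)
              · rcases Nat.lt_or_ge v 255000 with h | h
                · exact rowsRange_spec E RS 1500 253500 rows_169 v (by omega) (by omega)
                · exact rowsRange_spec E RS 1500 255000 rows_170 v (by omega) (by omega)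
            · rcases Nat.lt_or_ge v 258000 with h | h
              · exact rowsRange_spec E RS 1500 256500 rows_171 v (by omega) (by omega)
              · rcases Nat.lt_or_ge v 259500 with h | h
                · exact rowsRange_spec E RS 1500 258000 rows_172 v (by omega) (by omega)
                · exact rowsRange_spec E RS 1500 259500 rows_173 v (by omega) (by omega)
          · rcases Nat.lt_or_ge v 265500 with h | h
            · rcases Nat.lt_or_ge v 262500 with h | h
              · exact rowsRange_spec E RS 1500 261000 rows_174 v (by omega) (by omega)
              · rcases Nat.lt_or_ge v 264000 with h | h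
                · exact rowsRange_spec E RS 1500 262500 rows_175 v (by omega) (by omega)
                · exact rowsRange_spec E RS 1500 264000 rows_176 v (by omega) (by omega)
            · rcases Nat.lt_or_ge v 267000 with h | h
              · exact rowsRange_spec E RS 1500 265500 rows_177 v (by omega) (by omega)
              · rcases Nat.lt_or_ge v 268500 with h | h
                · exact rowsRange_spec E RS 1500 267000 rows_178 v (by omega) (by omega)
                · exact rowsRange_spec E RS 842 268500 rows_179 v (by omega) (by omega)

theorem cb_0 : cntBits RS 0 = 0 := rfl

theorem cb_1 : cntBits RS 20000 = 19498 := by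
  have h := cntBits_step RS 0 20000
  rw [cb_0, cnt_0] at h
  exact h

theorem cb_2 : cntBits RS 40000 = 39078 := by
  have h := cntBits_step RS 20000 20000
  rw [cb_1, cnt_1] at h
  exact h

theorem cb_3 : cntBits RS 60000 = 58779 := by
  have h := cntBits_step RS 40000 20000
  rw [cb_2, cnt_2] at h
  exact h

theorem cb_4 : cntBits RS 80000 = 78552 := by
  have h := cntBits_step RS 60000 20000
  rw [cb_3, cnt_3] at h
  exact h

theorem cb_5 : cntBits RS 100000 = 98351 := by
  have h := cntBits_step RS 80000 20000
  rw [cb_4, cnt_4] at h
  exact h

theorem cb_6 : cntBits RS 120000 = 118121 := by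
  have h := cntBits_step RS 100000 20000
  rw [cb_5, cnt_5] at h
  exact h

theorem cb_7 : cntBits RS 140000 = 137963 := by
  have h := cntBits_step RS 120000 20000
  rw [cb_6, cnt_6] at h
  exact h

theorem cb_8 : cntBits RS 160000 = 157789 := by
  have h := cntBits_step RS 140000 20000
  rw [cb_7, cnt_7] at h
  exact h

theorem cb_9 : cntBits RS 180000 = 177554 := by
  have h := cntBits_step RS 160000 20000
  rw [cb_8, cnt_8] at h
  exact h

theorem cb_10 : cntBits RS 200000 = 197411 := by
  have h := cntBits_step RS 180000 20000
  rw [cb_9, cnt_9] at h
  exact h

theorem cb_11 : cntBits RS 220000 = 217294 := by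
  have h := cntBits_step RS 200000 20000
  rw [cb_10, cnt_10] at h
  exact h

theorem cb_12 : cntBits RS 240000 = 237235 := by
  have h := cntBits_step RS 220000 20000
  rw [cb_11, cnt_11] at h
  exact h

theorem cb_13 : cntBits RS 260000 = 257219 := by
  have h := cntBits_step RS 240000 20000
  rw [cb_12, cnt_12] at h
  exact h

theorem cb_14 : cntBits RS 269342 = 266560 := by
  have h := cntBits_step RS 260000 9342
  rw [cb_13, cnt_13] at h
  exact h

theorem set_ok : setOK 269342 266560 RS = true :=
  setOK_of_parts cb_14 set_zero set_lt

theorem relf_0 : ∀ v, v < 266560 → W_0 v = v := by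
  intro v hv
  rcases Nat.lt_or_ge v 100000 with h | h
  · exact fixPtsF_spec W_0 100000 0 relc_0_0 v (by omega) (by omega)
  · rcases Nat.lt_or_ge v 200000 with h | h
    · exact fixPtsF_spec W_0 100000 100000 relc_0_1 v (by omega) (by omega)
    · exact fixPtsF_spec W_0 66560 200000 relc_0_2 v (by omega) (by omega)

set_option maxRecDepth 1000000 in
theorem walk_0 : ∀ v, walkT ctF (D.wlen 0) (D.wordP 0) v = W_0 v := by
  intro v
  simp only [W_0, forceL_eq]
  rfl

theorem relw_0 : ∀ v, v < 266560 → walkT ctF (D.wlen 0) (D.wordP 0) v = v := by
  intro v hv
  rw [walk_0]
  exact relf_0 v hv

theorem relf_1 : ∀ v, v < 266560 → W_1 v = v := by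
  intro v hv
  rcases Nat.lt_or_ge v 125000 with h | h
  · rcases Nat.lt_or_ge v 50000 with h | h
    · rcases Nat.lt_or_ge v 25000 with h | h
      · exact fixPtsF_spec W_1 25000 0 relc_1_0 v (by omega) (by omega)
      · exact fixPtsF_spec W_1 25000 25000 relc_1_1 v (by omega) (by omega)
    · rcases Nat.lt_or_ge v 75000 with h | h
      · exact fixPtsF_spec W_1 25000 50000 relc_1_2 v (by omega) (by omega)
      · rcases Nat.lt_or_ge v 100000 with h | h
        · exact fixPtsF_spec W_1 25000 75000 relc_1_3 v (by omega) (by omega)
        · exact fixPtsF_spec W_1 25000 100000 relc_1_4 v (by omega) (by omega)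
  · rcases Nat.lt_or_ge v 200000 with h | h
    · rcases Nat.lt_or_ge v 150000 with h | h
      · exact fixPtsF_spec W_1 25000 125000 relc_1_5 v (by omega) (by omega)
      · rcases Nat.lt_or_ge v 175000 with h | h
        · exact fixPtsF_spec W_1 25000 150000 relc_1_6 v (by omega) (by omega)
        · exact fixPtsF_spec W_1 25000 175000 relc_1_7 v (by omega) (by omega)
    · rcases Nat.lt_or_ge v 225000 with h | h
      · exact fixPtsF_spec W_1 25000 200000 relc_1_8 v (by omega) (by omega)
      · rcases Nat.lt_or_ge v 250000 with h | h
        · exact fixPtsF_spec W_1 25000 225000 relc_1_9 v (by omega) (by omega)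
        · exact fixPtsF_spec W_1 16560 250000 relc_1_10 v (by omega) (by omega)

set_option maxRecDepth 1000000 in
theorem walk_1 : ∀ v, walkT ctF (D.wlen 1) (D.wordP 1) v = W_1 v := by
  intro v
  simp only [W_1, forceL_eq]
  rfl

theorem relw_1 : ∀ v, v < 266560 → walkT ctF (D.wlen 1) (D.wordP 1) v = v := by
  intro v hv
  rw [walk_1]
  exact relf_1 v hv

theorem relf_2 : ∀ v, v < 266560 → W_2 v = v := by
  intro v hv
  rcases Nat.lt_or_ge v 150000 with h | h
  · rcases Nat.lt_or_ge v 50000 with h | h
    · exact fixPtsF_spec W_2 50000 0 relc_2_0 v (by omega) (by omega)
    · rcases Nat.lt_or_ge v 100000 with h | h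
      · exact fixPtsF_spec W_2 50000 50000 relc_2_1 v (by omega) (by omega)
      · exact fixPtsF_spec W_2 50000 100000 relc_2_2 v (by omega) (by omega)
  · rcases Nat.lt_or_ge v 200000 with h | h
    · exact fixPtsF_spec W_2 50000 150000 relc_2_3 v (by omega) (by omega)
    · rcases Nat.lt_or_ge v 250000 with h | h
      · exact fixPtsF_spec W_2 50000 200000 relc_2_4 v (by omega) (by omega)
      · exact fixPtsF_spec W_2 16560 250000 relc_2_5 v (by omega) (by omega)

set_option maxRecDepth 1000000 in
theorem walk_2 : ∀ v, walkT ctF (D.wlen 2) (D.wordP 2) v = W_2 v := by
  intro v
  simp only [W_2, forceL_eq]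
  rfl

theorem relw_2 : ∀ v, v < 266560 → walkT ctF (D.wlen 2) (D.wordP 2) v = v := by
  intro v hv
  rw [walk_2]
  exact relf_2 v hv

theorem relf_3 : ∀ v, v < 266560 → W_3 v = v := by
  intro v hv
  rcases Nat.lt_or_ge v 150000 with h | h
  · rcases Nat.lt_or_ge v 50000 with h | h
    · exact fixPtsF_spec W_3 50000 0 relc_3_0 v (by omega) (by omega)
    · rcases Nat.lt_or_ge v 100000 with h | h
      · exact fixPtsF_spec W_3 50000 50000 relc_3_1 v (by omega) (by omega)
      · exact fixPtsF_spec W_3 50000 100000 relc_3_2 v (by omega) (by omega)
  · rcases Nat.lt_or_ge v 200000 with h | h
    · exact fixPtsF_spec W_3 50000 150000 relc_3_3 v (by omega) (by omega)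
    · rcases Nat.lt_or_ge v 250000 with h | h
      · exact fixPtsF_spec W_3 50000 200000 relc_3_4 v (by omega) (by omega)
      · exact fixPtsF_spec W_3 16560 250000 relc_3_5 v (by omega) (by omega)

set_option maxRecDepth 1000000 in
theorem walk_3 : ∀ v, walkT ctF (D.wlen 3) (D.wordP 3) v = W_3 v := by
  intro v
  simp only [W_3, forceL_eq]
  rfl

theorem relw_3 : ∀ v, v < 266560 → walkT ctF (D.wlen 3) (D.wordP 3) v = v := by
  intro v hv
  rw [walk_3]
  exact relf_3 v hv

theorem relf_4 : ∀ v, v < 266560 → W_4 v = v := by
  intro v hv
  rcases Nat.lt_or_ge v 150000 with h | h
  · rcases Nat.lt_or_ge v 50000 with h | h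
    · exact fixPtsF_spec W_4 50000 0 relc_4_0 v (by omega) (by omega)
    · rcases Nat.lt_or_ge v 100000 with h | h
      · exact fixPtsF_spec W_4 50000 50000 relc_4_1 v (by omega) (by omega)
      · exact fixPtsF_spec W_4 50000 100000 relc_4_2 v (by omega) (by omega)
  · rcases Nat.lt_or_ge v 200000 with h | h
    · exact fixPtsF_spec W_4 50000 150000 relc_4_3 v (by omega) (by omega)
    · rcases Nat.lt_or_ge v 250000 with h | h
      · exact fixPtsF_spec W_4 50000 200000 relc_4_4 v (by omega) (by omega)
      · exact fixPtsF_spec W_4 16560 250000 relc_4_5 v (by omega) (by omega)

set_option maxRecDepth 1000000 in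
theorem walk_4 : ∀ v, walkT ctF (D.wlen 4) (D.wordP 4) v = W_4 v := by
  intro v
  simp only [W_4, forceL_eq]
  rfl

theorem relw_4 : ∀ v, v < 266560 → walkT ctF (D.wlen 4) (D.wordP 4) v = v := by
  intro v hv
  rw [walk_4]
  exact relf_4 v hv

theorem relf_5 : ∀ v, v < 266560 → W_5 v = v := by
  intro v hv
  rcases Nat.lt_or_ge v 150000 with h | h
  · rcases Nat.lt_or_ge v 50000 with h | h
    · exact fixPtsF_spec W_5 50000 0 relc_5_0 v (by omega) (by omega)
    · rcases Nat.lt_or_ge v 100000 with h | h
      · exact fixPtsF_spec W_5 50000 50000 relc_5_1 v (by omega) (by omega)
      · exact fixPtsF_spec W_5 50000 100000 relc_5_2 v (by omega) (by omega)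
  · rcases Nat.lt_or_ge v 200000 with h | h
    · exact fixPtsF_spec W_5 50000 150000 relc_5_3 v (by omega) (by omega)
    · rcases Nat.lt_or_ge v 250000 with h | h
      · exact fixPtsF_spec W_5 50000 200000 relc_5_4 v (by omega) (by omega)
      · exact fixPtsF_spec W_5 16560 250000 relc_5_5 v (by omega) (by omega)

set_option maxRecDepth 1000000 in
theorem walk_5 : ∀ v, walkT ctF (D.wlen 5) (D.wordP 5) v = W_5 v := by
  intro v
  simp only [W_5, forceL_eq]
  rfl

theorem relw_5 : ∀ v, v < 266560 → walkT ctF (D.wlen 5) (D.wordP 5) v = v := by
  intro v hv
  rw [walk_5]
  exact relf_5 v hv

theorem relf_6 : ∀ v, v < 266560 → W_6 v = v := by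
  intro v hv
  rcases Nat.lt_or_ge v 150000 with h | h
  · rcases Nat.lt_or_ge v 50000 with h | h
    · exact fixPtsF_spec W_6 50000 0 relc_6_0 v (by omega) (by omega)
    · rcases Nat.lt_or_ge v 100000 with h | h
      · exact fixPtsF_spec W_6 50000 50000 relc_6_1 v (by omega) (by omega)
      · exact fixPtsF_spec W_6 50000 100000 relc_6_2 v (by omega) (by omega)
  · rcases Nat.lt_or_ge v 200000 with h | h
    · exact fixPtsF_spec W_6 50000 150000 relc_6_3 v (by omega) (by omega)
    · rcases Nat.lt_or_ge v 250000 with h | h
      · exact fixPtsF_spec W_6 50000 200000 relc_6_4 v (by omega) (by omega)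
      · exact fixPtsF_spec W_6 16560 250000 relc_6_5 v (by omega) (by omega)

set_option maxRecDepth 1000000 in
theorem walk_6 : ∀ v, walkT ctF (D.wlen 6) (D.wordP 6) v = W_6 v := by
  intro v
  simp only [W_6, forceL_eq]
  rfl

theorem relw_6 : ∀ v, v < 266560 → walkT ctF (D.wlen 6) (D.wordP 6) v = v := by
  intro v hv
  rw [walk_6]
  exact relf_6 v hv

theorem relf_7 : ∀ v, v < 266560 → W_7 v = v := by
  intro v hv
  rcases Nat.lt_or_ge v 100000 with h | h
  · exact fixPtsF_spec W_7 100000 0 relc_7_0 v (by omega) (by omega)
  · rcases Nat.lt_or_ge v 200000 with h | h
    · exact fixPtsF_spec W_7 100000 100000 relc_7_1 v (by omega) (by omega)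
    · exact fixPtsF_spec W_7 66560 200000 relc_7_2 v (by omega) (by omega)

set_option maxRecDepth 1000000 in
theorem walk_7 : ∀ v, walkT ctF (D.wlen 7) (D.wordP 7) v = W_7 v := by
  intro v
  simp only [W_7, forceL_eq]
  rfl

theorem relw_7 : ∀ v, v < 266560 → walkT ctF (D.wlen 7) (D.wordP 7) v = v := by
  intro v hv
  rw [walk_7]
  exact relf_7 v hv

theorem relf_8 : ∀ v, v < 266560 → W_8 v = v := by
  intro v hv
  rcases Nat.lt_or_ge v 133332 with h | h
  · rcases Nat.lt_or_ge v 66666 with h | h
    · rcases Nat.lt_or_ge v 33333 with h | h
      · exact fixPtsF_spec W_8 33333 0 relc_8_0 v (by omega) (by omega)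
      · exact fixPtsF_spec W_8 33333 33333 relc_8_1 v (by omega) (by omega)
    · rcases Nat.lt_or_ge v 99999 with h | h
      · exact fixPtsF_spec W_8 33333 66666 relc_8_2 v (by omega) (by omega)
      · exact fixPtsF_spec W_8 33333 99999 relc_8_3 v (by omega) (by omega)
  · rcases Nat.lt_or_ge v 199998 with h | h
    · rcases Nat.lt_or_ge v 166665 with h | h
      · exact fixPtsF_spec W_8 33333 133332 relc_8_4 v (by omega) (by omega)
      · exact fixPtsF_spec W_8 33333 166665 relc_8_5 v (by omega) (by omega)
    · rcases Nat.lt_or_ge v 233331 with h | h
      · exact fixPtsF_spec W_8 33333 199998 relc_8_6 v (by omega) (by omega)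
      · exact fixPtsF_spec W_8 33229 233331 relc_8_7 v (by omega) (by omega)

set_option maxRecDepth 1000000 in
theorem walk_8 : ∀ v, walkT ctF (D.wlen 8) (D.wordP 8) v = W_8 v := by
  intro v
  simp only [W_8, forceL_eq]
  rfl

theorem relw_8 : ∀ v, v < 266560 → walkT ctF (D.wlen 8) (D.wordP 8) v = v := by
  intro v hv
  rw [walk_8]
  exact relf_8 v hv

theorem relf_9 : ∀ v, v < 266560 → W_9 v = v := by
  intro v hv
  rcases Nat.lt_or_ge v 150000 with h | h
  · rcases Nat.lt_or_ge v 50000 with h | h
    · exact fixPtsF_spec W_9 50000 0 relc_9_0 v (by omega) (by omega)
    · rcases Nat.lt_or_ge v 100000 with h | h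
      · exact fixPtsF_spec W_9 50000 50000 relc_9_1 v (by omega) (by omega)
      · exact fixPtsF_spec W_9 50000 100000 relc_9_2 v (by omega) (by omega)
  · rcases Nat.lt_or_ge v 200000 with h | h
    · exact fixPtsF_spec W_9 50000 150000 relc_9_3 v (by omega) (by omega)
    · rcases Nat.lt_or_ge v 250000 with h | h
      · exact fixPtsF_spec W_9 50000 200000 relc_9_4 v (by omega) (by omega)
      · exact fixPtsF_spec W_9 16560 250000 relc_9_5 v (by omega) (by omega)

set_option maxRecDepth 1000000 in
theorem walk_9 : ∀ v, walkT ctF (D.wlen 9) (D.wordP 9) v = W_9 v := by
  intro v
  simp only [W_9, forceL_eq]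
  rfl

theorem relw_9 : ∀ v, v < 266560 → walkT ctF (D.wlen 9) (D.wordP 9) v = v := by
  intro v hv
  rw [walk_9]
  exact relf_9 v hv

theorem relf_10 : ∀ v, v < 266560 → W_10 v = v := by
  intro v hv
  rcases Nat.lt_or_ge v 150000 with h | h
  · rcases Nat.lt_or_ge v 50000 with h | h
    · exact fixPtsF_spec W_10 50000 0 relc_10_0 v (by omega) (by omega)
    · rcases Nat.lt_or_ge v 100000 with h | h
      · exact fixPtsF_spec W_10 50000 50000 relc_10_1 v (by omega) (by omega)
      · exact fixPtsF_spec W_10 50000 100000 relc_10_2 v (by omega) (by omega)
  · rcases Nat.lt_or_ge v 200000 with h | h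
    · exact fixPtsF_spec W_10 50000 150000 relc_10_3 v (by omega) (by omega)
    · rcases Nat.lt_or_ge v 250000 with h | h
      · exact fixPtsF_spec W_10 50000 200000 relc_10_4 v (by omega) (by omega)
      · exact fixPtsF_spec W_10 16560 250000 relc_10_5 v (by omega) (by omega)

set_option maxRecDepth 1000000 in
theorem walk_10 : ∀ v, walkT ctF (D.wlen 10) (D.wordP 10) v = W_10 v := by
  intro v
  simp only [W_10, forceL_eq]
  rfl

theorem relw_10 : ∀ v, v < 266560 → walkT ctF (D.wlen 10) (D.wordP 10) v = v := by
  intro v hv
  rw [walk_10]
  exact relf_10 v hv

theorem relf_11 : ∀ v, v < 266560 → W_11 v = v := by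
  intro v hv
  rcases Nat.lt_or_ge v 150000 with h | h
  · rcases Nat.lt_or_ge v 50000 with h | h
    · exact fixPtsF_spec W_11 50000 0 relc_11_0 v (by omega) (by omega)
    · rcases Nat.lt_or_ge v 100000 with h | h
      · exact fixPtsF_spec W_11 50000 50000 relc_11_1 v (by omega) (by omega)
      · exact fixPtsF_spec W_11 50000 100000 relc_11_2 v (by omega) (by omega)
  · rcases Nat.lt_or_ge v 200000 with h | h
    · exact fixPtsF_spec W_11 50000 150000 relc_11_3 v (by omega) (by omega)
    · rcases Nat.lt_or_ge v 250000 with h | h
      · exact fixPtsF_spec W_11 50000 200000 relc_11_4 v (by omega) (by omega)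
      · exact fixPtsF_spec W_11 16560 250000 relc_11_5 v (by omega) (by omega)

set_option maxRecDepth 1000000 in
theorem walk_11 : ∀ v, walkT ctF (D.wlen 11) (D.wordP 11) v = W_11 v := by
  intro v
  simp only [W_11, forceL_eq]
  rfl

theorem relw_11 : ∀ v, v < 266560 → walkT ctF (D.wlen 11) (D.wordP 11) v = v := by
  intro v hv
  rw [walk_11]
  exact relf_11 v hv

theorem relf_12 : ∀ v, v < 266560 → W_12 v = v := by
  intro v hv
  rcases Nat.lt_or_ge v 150000 with h | h
  · rcases Nat.lt_or_ge v 50000 with h | h
    · exact fixPtsF_spec W_12 50000 0 relc_12_0 v (by omega) (by omega)
    · rcases Nat.lt_or_ge v 100000 with h | h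
      · exact fixPtsF_spec W_12 50000 50000 relc_12_1 v (by omega) (by omega)
      · exact fixPtsF_spec W_12 50000 100000 relc_12_2 v (by omega) (by omega)
  · rcases Nat.lt_or_ge v 200000 with h | h
    · exact fixPtsF_spec W_12 50000 150000 relc_12_3 v (by omega) (by omega)
    · rcases Nat.lt_or_ge v 250000 with h | h
      · exact fixPtsF_spec W_12 50000 200000 relc_12_4 v (by omega) (by omega)
      · exact fixPtsF_spec W_12 16560 250000 relc_12_5 v (by omega) (by omega)

set_option maxRecDepth 1000000 in
theorem walk_12 : ∀ v, walkT ctF (D.wlen 12) (D.wordP 12) v = W_12 v := by
  intro v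
  simp only [W_12, forceL_eq]
  rfl

theorem relw_12 : ∀ v, v < 266560 → walkT ctF (D.wlen 12) (D.wordP 12) v = v := by
  intro v hv
  rw [walk_12]
  exact relf_12 v hv

theorem relf_13 : ∀ v, v < 266560 → W_13 v = v := by
  intro v hv
  rcases Nat.lt_or_ge v 100000 with h | h
  · exact fixPtsF_spec W_13 100000 0 relc_13_0 v (by omega) (by omega)
  · rcases Nat.lt_or_ge v 200000 with h | h
    · exact fixPtsF_spec W_13 100000 100000 relc_13_1 v (by omega) (by omega)
    · exact fixPtsF_spec W_13 66560 200000 relc_13_2 v (by omega) (by omega)

set_option maxRecDepth 1000000 in
theorem walk_13 : ∀ v, walkT ctF (D.wlen 13) (D.wordP 13) v = W_13 v := by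
  intro v
  simp only [W_13, forceL_eq]
  rfl

theorem relw_13 : ∀ v, v < 266560 → walkT ctF (D.wlen 13) (D.wordP 13) v = v := by
  intro v hv
  rw [walk_13]
  exact relf_13 v hv

theorem relf_14 : ∀ v, v < 266560 → W_14 v = v := by
  intro v hv
  rcases Nat.lt_or_ge v 130000 with h | h
  · rcases Nat.lt_or_ge v 60000 with h | h
    · rcases Nat.lt_or_ge v 30000 with h | h
      · rcases Nat.lt_or_ge v 10000 with h | h
        · exact fixPtsF_spec W_14 10000 0 relc_14_0 v (by omega) (by omega)
        · rcases Nat.lt_or_ge v 20000 with h | h
          · exact fixPtsF_spec W_14 10000 10000 relc_14_1 v (by omega) (by omega)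
          · exact fixPtsF_spec W_14 10000 20000 relc_14_2 v (by omega) (by omega)
      · rcases Nat.lt_or_ge v 40000 with h | h
        · exact fixPtsF_spec W_14 10000 30000 relc_14_3 v (by omega) (by omega)
        · rcases Nat.lt_or_ge v 50000 with h | h
          · exact fixPtsF_spec W_14 10000 40000 relc_14_4 v (by omega) (by omega)
          · exact fixPtsF_spec W_14 10000 50000 relc_14_5 v (by omega) (by omega)
    · rcases Nat.lt_or_ge v 90000 with h | h
      · rcases Nat.lt_or_ge v 70000 with h | h
        · exact fixPtsF_spec W_14 10000 60000 relc_14_6 v (by omega) (by omega)
        · rcases Nat.lt_or_ge v 80000 with h | h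
          · exact fixPtsF_spec W_14 10000 70000 relc_14_7 v (by omega) (by omega)
          · exact fixPtsF_spec W_14 10000 80000 relc_14_8 v (by omega) (by omega)
      · rcases Nat.lt_or_ge v 110000 with h | h
        · rcases Nat.lt_or_ge v 100000 with h | h
          · exact fixPtsF_spec W_14 10000 90000 relc_14_9 v (by omega) (by omega)
          · exact fixPtsF_spec W_14 10000 100000 relc_14_10 v (by omega) (by omega)
        · rcases Nat.lt_or_ge v 120000 with h | h
          · exact fixPtsF_spec W_14 10000 110000 relc_14_11 v (by omega) (by omega)
          · exact fixPtsF_spec W_14 10000 120000 relc_14_12 v (by omega) (by omega)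
  · rcases Nat.lt_or_ge v 200000 with h | h
    · rcases Nat.lt_or_ge v 160000 with h | h
      · rcases Nat.lt_or_ge v 140000 with h | h
        · exact fixPtsF_spec W_14 10000 130000 relc_14_13 v (by omega) (by omega)
        · rcases Nat.lt_or_ge v 150000 with h | h
          · exact fixPtsF_spec W_14 10000 140000 relc_14_14 v (by omega) (by omega)
          · exact fixPtsF_spec W_14 10000 150000 relc_14_15 v (by omega) (by omega)
      · rcases Nat.lt_or_ge v 180000 with h | h
        · rcases Nat.lt_or_ge v 170000 with h | h
          · exact fixPtsF_spec W_14 10000 160000 relc_14_16 v (by omega) (by omega)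
          · exact fixPtsF_spec W_14 10000 170000 relc_14_17 v (by omega) (by omega)
        · rcases Nat.lt_or_ge v 190000 with h | h
          · exact fixPtsF_spec W_14 10000 180000 relc_14_18 v (by omega) (by omega)
          · exact fixPtsF_spec W_14 10000 190000 relc_14_19 v (by omega) (by omega)
    · rcases Nat.lt_or_ge v 230000 with h | h
      · rcases Nat.lt_or_ge v 210000 with h | h
        · exact fixPtsF_spec W_14 10000 200000 relc_14_20 v (by omega) (by omega)
        · rcases Nat.lt_or_ge v 220000 with h | h
          · exact fixPtsF_spec W_14 10000 210000 relc_14_21 v (by omega) (by omega)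
          · exact fixPtsF_spec W_14 10000 220000 relc_14_22 v (by omega) (by omega)
      · rcases Nat.lt_or_ge v 250000 with h | h
        · rcases Nat.lt_or_ge v 240000 with h | h
          · exact fixPtsF_spec W_14 10000 230000 relc_14_23 v (by omega) (by omega)
          · exact fixPtsF_spec W_14 10000 240000 relc_14_24 v (by omega) (by omega)
        · rcases Nat.lt_or_ge v 260000 with h | h
          · exact fixPtsF_spec W_14 10000 250000 relc_14_25 v (by omega) (by omega)
          · exact fixPtsF_spec W_14 6560 260000 relc_14_26 v (by omega) (by omega)

set_option maxRecDepth 1000000 in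
theorem walk_14 : ∀ v, walkT ctF (D.wlen 14) (D.wordP 14) v = W_14 v := by
  intro v
  simp only [W_14, forceL_eq]
  rfl

theorem relw_14 : ∀ v, v < 266560 → walkT ctF (D.wlen 14) (D.wordP 14) v = v := by
  intro v hv
  rw [walk_14]
  exact relf_14 v hv

theorem relf_15 : ∀ v, v < 266560 → W_15 v = v := by
  intro v hv
  rcases Nat.lt_or_ge v 150000 with h | h
  · rcases Nat.lt_or_ge v 50000 with h | h
    · exact fixPtsF_spec W_15 50000 0 relc_15_0 v (by omega) (by omega)
    · rcases Nat.lt_or_ge v 100000 with h | h
      · exact fixPtsF_spec W_15 50000 50000 relc_15_1 v (by omega) (by omega)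
      · exact fixPtsF_spec W_15 50000 100000 relc_15_2 v (by omega) (by omega)
  · rcases Nat.lt_or_ge v 200000 with h | h
    · exact fixPtsF_spec W_15 50000 150000 relc_15_3 v (by omega) (by omega)
    · rcases Nat.lt_or_ge v 250000 with h | h
      · exact fixPtsF_spec W_15 50000 200000 relc_15_4 v (by omega) (by omega)
      · exact fixPtsF_spec W_15 16560 250000 relc_15_5 v (by omega) (by omega)

set_option maxRecDepth 1000000 in
theorem walk_15 : ∀ v, walkT ctF (D.wlen 15) (D.wordP 15) v = W_15 v := by
  intro v
  simp only [W_15, forceL_eq]
  rfl

theorem relw_15 : ∀ v, v < 266560 → walkT ctF (D.wlen 15) (D.wordP 15) v = v := by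
  intro v hv
  rw [walk_15]
  exact relf_15 v hv

theorem relf_16 : ∀ v, v < 266560 → W_16 v = v := by
  intro v hv
  rcases Nat.lt_or_ge v 150000 with h | h
  · rcases Nat.lt_or_ge v 50000 with h | h
    · exact fixPtsF_spec W_16 50000 0 relc_16_0 v (by omega) (by omega)
    · rcases Nat.lt_or_ge v 100000 with h | h
      · exact fixPtsF_spec W_16 50000 50000 relc_16_1 v (by omega) (by omega)
      · exact fixPtsF_spec W_16 50000 100000 relc_16_2 v (by omega) (by omega)
  · rcases Nat.lt_or_ge v 200000 with h | h
    · exact fixPtsF_spec W_16 50000 150000 relc_16_3 v (by omega) (by omega)
    · rcases Nat.lt_or_ge v 250000 with h | h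
      · exact fixPtsF_spec W_16 50000 200000 relc_16_4 v (by omega) (by omega)
      · exact fixPtsF_spec W_16 16560 250000 relc_16_5 v (by omega) (by omega)

set_option maxRecDepth 1000000 in
theorem walk_16 : ∀ v, walkT ctF (D.wlen 16) (D.wordP 16) v = W_16 v := by
  intro v
  simp only [W_16, forceL_eq]
  rfl

theorem relw_16 : ∀ v, v < 266560 → walkT ctF (D.wlen 16) (D.wordP 16) v = v := by
  intro v hv
  rw [walk_16]
  exact relf_16 v hv

theorem relf_17 : ∀ v, v < 266560 → W_17 v = v := by
  intro v hv
  rcases Nat.lt_or_ge v 150000 with h | h
  · rcases Nat.lt_or_ge v 50000 with h | h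
    · exact fixPtsF_spec W_17 50000 0 relc_17_0 v (by omega) (by omega)
    · rcases Nat.lt_or_ge v 100000 with h | h
      · exact fixPtsF_spec W_17 50000 50000 relc_17_1 v (by omega) (by omega)
      · exact fixPtsF_spec W_17 50000 100000 relc_17_2 v (by omega) (by omega)
  · rcases Nat.lt_or_ge v 200000 with h | h
    · exact fixPtsF_spec W_17 50000 150000 relc_17_3 v (by omega) (by omega)
    · rcases Nat.lt_or_ge v 250000 with h | h
      · exact fixPtsF_spec W_17 50000 200000 relc_17_4 v (by omega) (by omega)
      · exact fixPtsF_spec W_17 16560 250000 relc_17_5 v (by omega) (by omega)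

set_option maxRecDepth 1000000 in
theorem walk_17 : ∀ v, walkT ctF (D.wlen 17) (D.wordP 17) v = W_17 v := by
  intro v
  simp only [W_17, forceL_eq]
  rfl

theorem relw_17 : ∀ v, v < 266560 → walkT ctF (D.wlen 17) (D.wordP 17) v = v := by
  intro v hv
  rw [walk_17]
  exact relf_17 v hv

theorem relf_18 : ∀ v, v < 266560 → W_18 v = v := by
  intro v hv
  rcases Nat.lt_or_ge v 100000 with h | h
  · exact fixPtsF_spec W_18 100000 0 relc_18_0 v (by omega) (by omega)
  · rcases Nat.lt_or_ge v 200000 with h | h
    · exact fixPtsF_spec W_18 100000 100000 relc_18_1 v (by omega) (by omega)
    · exact fixPtsF_spec W_18 66560 200000 relc_18_2 v (by omega) (by omega)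

set_option maxRecDepth 1000000 in
theorem walk_18 : ∀ v, walkT ctF (D.wlen 18) (D.wordP 18) v = W_18 v := by
  intro v
  simp only [W_18, forceL_eq]
  rfl

theorem relw_18 : ∀ v, v < 266560 → walkT ctF (D.wlen 18) (D.wordP 18) v = v := by
  intro v hv
  rw [walk_18]
  exact relf_18 v hv

theorem relf_19 : ∀ v, v < 266560 → W_19 v = v := by
  intro v hv
  rcases Nat.lt_or_ge v 133332 with h | h
  · rcases Nat.lt_or_ge v 66666 with h | h
    · rcases Nat.lt_or_ge v 33333 with h | h
      · exact fixPtsF_spec W_19 33333 0 relc_19_0 v (by omega) (by omega)
      · exact fixPtsF_spec W_19 33333 33333 relc_19_1 v (by omega) (by omega)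
    · rcases Nat.lt_or_ge v 99999 with h | h
      · exact fixPtsF_spec W_19 33333 66666 relc_19_2 v (by omega) (by omega)
      · exact fixPtsF_spec W_19 33333 99999 relc_19_3 v (by omega) (by omega)
  · rcases Nat.lt_or_ge v 199998 with h | h
    · rcases Nat.lt_or_ge v 166665 with h | h
      · exact fixPtsF_spec W_19 33333 133332 relc_19_4 v (by omega) (by omega)
      · exact fixPtsF_spec W_19 33333 166665 relc_19_5 v (by omega) (by omega)
    · rcases Nat.lt_or_ge v 233331 with h | h
      · exact fixPtsF_spec W_19 33333 199998 relc_19_6 v (by omega) (by omega)
      · exact fixPtsF_spec W_19 33229 233331 relc_19_7 v (by omega) (by omega)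

set_option maxRecDepth 1000000 in
theorem walk_19 : ∀ v, walkT ctF (D.wlen 19) (D.wordP 19) v = W_19 v := by
  intro v
  simp only [W_19, forceL_eq]
  rfl

theorem relw_19 : ∀ v, v < 266560 → walkT ctF (D.wlen 19) (D.wordP 19) v = v := by
  intro v hv
  rw [walk_19]
  exact relf_19 v hv

theorem relf_20 : ∀ v, v < 266560 → W_20 v = v := by
  intro v hv
  rcases Nat.lt_or_ge v 133332 with h | h
  · rcases Nat.lt_or_ge v 66666 with h | h
    · rcases Nat.lt_or_ge v 33333 with h | h
      · exact fixPtsF_spec W_20 33333 0 relc_20_0 v (by omega) (by omega)
      · exact fixPtsF_spec W_20 33333 33333 relc_20_1 v (by omega) (by omega)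
    · rcases Nat.lt_or_ge v 99999 with h | h
      · exact fixPtsF_spec W_20 33333 66666 relc_20_2 v (by omega) (by omega)
      · exact fixPtsF_spec W_20 33333 99999 relc_20_3 v (by omega) (by omega)
  · rcases Nat.lt_or_ge v 199998 with h | h
    · rcases Nat.lt_or_ge v 166665 with h | h
      · exact fixPtsF_spec W_20 33333 133332 relc_20_4 v (by omega) (by omega)
      · exact fixPtsF_spec W_20 33333 166665 relc_20_5 v (by omega) (by omega)
    · rcases Nat.lt_or_ge v 233331 with h | h
      · exact fixPtsF_spec W_20 33333 199998 relc_20_6 v (by omega) (by omega)
      · exact fixPtsF_spec W_20 33229 233331 relc_20_7 v (by omega) (by omega)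

set_option maxRecDepth 1000000 in
theorem walk_20 : ∀ v, walkT ctF (D.wlen 20) (D.wordP 20) v = W_20 v := by
  intro v
  simp only [W_20, forceL_eq]
  rfl

theorem relw_20 : ∀ v, v < 266560 → walkT ctF (D.wlen 20) (D.wordP 20) v = v := by
  intro v hv
  rw [walk_20]
  exact relf_20 v hv

theorem relf_21 : ∀ v, v < 266560 → W_21 v = v := by
  intro v hv
  rcases Nat.lt_or_ge v 133332 with h | h
  · rcases Nat.lt_or_ge v 66666 with h | h
    · rcases Nat.lt_or_ge v 33333 with h | h
      · exact fixPtsF_spec W_21 33333 0 relc_21_0 v (by omega) (by omega)
      · exact fixPtsF_spec W_21 33333 33333 relc_21_1 v (by omega) (by omega)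
    · rcases Nat.lt_or_ge v 99999 with h | h
      · exact fixPtsF_spec W_21 33333 66666 relc_21_2 v (by omega) (by omega)
      · exact fixPtsF_spec W_21 33333 99999 relc_21_3 v (by omega) (by omega)
  · rcases Nat.lt_or_ge v 199998 with h | h
    · rcases Nat.lt_or_ge v 166665 with h | h
      · exact fixPtsF_spec W_21 33333 133332 relc_21_4 v (by omega) (by omega)
      · exact fixPtsF_spec W_21 33333 166665 relc_21_5 v (by omega) (by omega)
    · rcases Nat.lt_or_ge v 233331 with h | h
      · exact fixPtsF_spec W_21 33333 199998 relc_21_6 v (by omega) (by omega)
      · exact fixPtsF_spec W_21 33229 233331 relc_21_7 v (by omega) (by omega)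

set_option maxRecDepth 1000000 in
theorem walk_21 : ∀ v, walkT ctF (D.wlen 21) (D.wordP 21) v = W_21 v := by
  intro v
  simp only [W_21, forceL_eq]
  rfl

theorem relw_21 : ∀ v, v < 266560 → walkT ctF (D.wlen 21) (D.wordP 21) v = v := by
  intro v hv
  rw [walk_21]
  exact relf_21 v hv

theorem relf_22 : ∀ v, v < 266560 → W_22 v = v := by
  intro v hv
  rcases Nat.lt_or_ge v 100000 with h | h
  · exact fixPtsF_spec W_22 100000 0 relc_22_0 v (by omega) (by omega)
  · rcases Nat.lt_or_ge v 200000 with h | h
    · exact fixPtsF_spec W_22 100000 100000 relc_22_1 v (by omega) (by omega)
    · exact fixPtsF_spec W_22 66560 200000 relc_22_2 v (by omega) (by omega)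

set_option maxRecDepth 1000000 in
theorem walk_22 : ∀ v, walkT ctF (D.wlen 22) (D.wordP 22) v = W_22 v := by
  intro v
  simp only [W_22, forceL_eq]
  rfl

theorem relw_22 : ∀ v, v < 266560 → walkT ctF (D.wlen 22) (D.wordP 22) v = v := by
  intro v hv
  rw [walk_22]
  exact relf_22 v hv

theorem relf_23 : ∀ v, v < 266560 → W_23 v = v := by
  intro v hv
  rcases Nat.lt_or_ge v 150000 with h | h
  · rcases Nat.lt_or_ge v 50000 with h | h
    · exact fixPtsF_spec W_23 50000 0 relc_23_0 v (by omega) (by omega)
    · rcases Nat.lt_or_ge v 100000 with h | h
      · exact fixPtsF_spec W_23 50000 50000 relc_23_1 v (by omega) (by omega)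
      · exact fixPtsF_spec W_23 50000 100000 relc_23_2 v (by omega) (by omega)
  · rcases Nat.lt_or_ge v 200000 with h | h
    · exact fixPtsF_spec W_23 50000 150000 relc_23_3 v (by omega) (by omega)
    · rcases Nat.lt_or_ge v 250000 with h | h
      · exact fixPtsF_spec W_23 50000 200000 relc_23_4 v (by omega) (by omega)
      · exact fixPtsF_spec W_23 16560 250000 relc_23_5 v (by omega) (by omega)

set_option maxRecDepth 1000000 in
theorem walk_23 : ∀ v, walkT ctF (D.wlen 23) (D.wordP 23) v = W_23 v := by
  intro v
  simp only [W_23, forceL_eq]
  rfl

theorem relw_23 : ∀ v, v < 266560 → walkT ctF (D.wlen 23) (D.wordP 23) v = v := by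
  intro v hv
  rw [walk_23]
  exact relf_23 v hv

theorem relf_24 : ∀ v, v < 266560 → W_24 v = v := by
  intro v hv
  rcases Nat.lt_or_ge v 150000 with h | h
  · rcases Nat.lt_or_ge v 50000 with h | h
    · exact fixPtsF_spec W_24 50000 0 relc_24_0 v (by omega) (by omega)
    · rcases Nat.lt_or_ge v 100000 with h | h
      · exact fixPtsF_spec W_24 50000 50000 relc_24_1 v (by omega) (by omega)
      · exact fixPtsF_spec W_24 50000 100000 relc_24_2 v (by omega) (by omega)
  · rcases Nat.lt_or_ge v 200000 with h | h
    · exact fixPtsF_spec W_24 50000 150000 relc_24_3 v (by omega) (by omega)
    · rcases Nat.lt_or_ge v 250000 with h | h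
      · exact fixPtsF_spec W_24 50000 200000 relc_24_4 v (by omega) (by omega)
      · exact fixPtsF_spec W_24 16560 250000 relc_24_5 v (by omega) (by omega)

set_option maxRecDepth 1000000 in
theorem walk_24 : ∀ v, walkT ctF (D.wlen 24) (D.wordP 24) v = W_24 v := by
  intro v
  simp only [W_24, forceL_eq]
  rfl

theorem relw_24 : ∀ v, v < 266560 → walkT ctF (D.wlen 24) (D.wordP 24) v = v := by
  intro v hv
  rw [walk_24]
  exact relf_24 v hv

theorem relf_25 : ∀ v, v < 266560 → W_25 v = v := by
  intro v hv
  rcases Nat.lt_or_ge v 100000 with h | h
  · exact fixPtsF_spec W_25 100000 0 relc_25_0 v (by omega) (by omega)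
  · rcases Nat.lt_or_ge v 200000 with h | h
    · exact fixPtsF_spec W_25 100000 100000 relc_25_1 v (by omega) (by omega)
    · exact fixPtsF_spec W_25 66560 200000 relc_25_2 v (by omega) (by omega)

set_option maxRecDepth 1000000 in
theorem walk_25 : ∀ v, walkT ctF (D.wlen 25) (D.wordP 25) v = W_25 v := by
  intro v
  simp only [W_25, forceL_eq]
  rfl

theorem relw_25 : ∀ v, v < 266560 → walkT ctF (D.wlen 25) (D.wordP 25) v = v := by
  intro v hv
  rw [walk_25]
  exact relf_25 v hv

theorem relf_26 : ∀ v, v < 266560 → W_26 v = v := by
  intro v hv
  rcases Nat.lt_or_ge v 125000 with h | h
  · rcases Nat.lt_or_ge v 50000 with h | h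
    · rcases Nat.lt_or_ge v 25000 with h | h
      · exact fixPtsF_spec W_26 25000 0 relc_26_0 v (by omega) (by omega)
      · exact fixPtsF_spec W_26 25000 25000 relc_26_1 v (by omega) (by omega)
    · rcases Nat.lt_or_ge v 75000 with h | h
      · exact fixPtsF_spec W_26 25000 50000 relc_26_2 v (by omega) (by omega)
      · rcases Nat.lt_or_ge v 100000 with h | h
        · exact fixPtsF_spec W_26 25000 75000 relc_26_3 v (by omega) (by omega)
        · exact fixPtsF_spec W_26 25000 100000 relc_26_4 v (by omega) (by omega)
  · rcases Nat.lt_or_ge v 200000 with h | h
    · rcases Nat.lt_or_ge v 150000 with h | h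
      · exact fixPtsF_spec W_26 25000 125000 relc_26_5 v (by omega) (by omega)
      · rcases Nat.lt_or_ge v 175000 with h | h
        · exact fixPtsF_spec W_26 25000 150000 relc_26_6 v (by omega) (by omega)
        · exact fixPtsF_spec W_26 25000 175000 relc_26_7 v (by omega) (by omega)
    · rcases Nat.lt_or_ge v 225000 with h | h
      · exact fixPtsF_spec W_26 25000 200000 relc_26_8 v (by omega) (by omega)
      · rcases Nat.lt_or_ge v 250000 with h | h
        · exact fixPtsF_spec W_26 25000 225000 relc_26_9 v (by omega) (by omega)
        · exact fixPtsF_spec W_26 16560 250000 relc_26_10 v (by omega) (by omega)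

set_option maxRecDepth 1000000 in
theorem walk_26 : ∀ v, walkT ctF (D.wlen 26) (D.wordP 26) v = W_26 v := by
  intro v
  simp only [W_26, forceL_eq]
  rfl

theorem relw_26 : ∀ v, v < 266560 → walkT ctF (D.wlen 26) (D.wordP 26) v = v := by
  intro v hv
  rw [walk_26]
  exact relf_26 v hv

theorem relf_27 : ∀ v, v < 266560 → W_27 v = v := by
  intro v hv
  rcases Nat.lt_or_ge v 100000 with h | h
  · exact fixPtsF_spec W_27 100000 0 relc_27_0 v (by omega) (by omega)
  · rcases Nat.lt_or_ge v 200000 with h | h
    · exact fixPtsF_spec W_27 100000 100000 relc_27_1 v (by omega) (by omega)
    · exact fixPtsF_spec W_27 66560 200000 relc_27_2 v (by omega) (by omega)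

set_option maxRecDepth 1000000 in
theorem walk_27 : ∀ v, walkT ctF (D.wlen 27) (D.wordP 27) v = W_27 v := by
  intro v
  simp only [W_27, forceL_eq]
  rfl

theorem relw_27 : ∀ v, v < 266560 → walkT ctF (D.wlen 27) (D.wordP 27) v = v := by
  intro v hv
  rw [walk_27]
  exact relf_27 v hv

theorem relf_28 : ∀ v, v < 266560 → W_28 v = v := by
  intro v hv
  rcases Nat.lt_or_ge v 120000 with h | h
  · rcases Nat.lt_or_ge v 40000 with h | h
    · exact fixPtsF_spec W_28 40000 0 relc_28_0 v (by omega) (by omega)
    · rcases Nat.lt_or_ge v 80000 with h | h
      · exact fixPtsF_spec W_28 40000 40000 relc_28_1 v (by omega) (by omega)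
      · exact fixPtsF_spec W_28 40000 80000 relc_28_2 v (by omega) (by omega)
  · rcases Nat.lt_or_ge v 200000 with h | h
    · rcases Nat.lt_or_ge v 160000 with h | h
      · exact fixPtsF_spec W_28 40000 120000 relc_28_3 v (by omega) (by omega)
      · exact fixPtsF_spec W_28 40000 160000 relc_28_4 v (by omega) (by omega)
    · rcases Nat.lt_or_ge v 240000 with h | h
      · exact fixPtsF_spec W_28 40000 200000 relc_28_5 v (by omega) (by omega)
      · exact fixPtsF_spec W_28 26560 240000 relc_28_6 v (by omega) (by omega)

set_option maxRecDepth 1000000 in
theorem walk_28 : ∀ v, walkT ctF (D.wlen 28) (D.wordP 28) v = W_28 v := by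
  intro v
  simp only [W_28, forceL_eq]
  rfl

theorem relw_28 : ∀ v, v < 266560 → walkT ctF (D.wlen 28) (D.wordP 28) v = v := by
  intro v hv
  rw [walk_28]
  exact relf_28 v hv

theorem relf_29 : ∀ v, v < 266560 → W_29 v = v := by
  intro v hv
  rcases Nat.lt_or_ge v 140000 with h | h
  · rcases Nat.lt_or_ge v 60000 with h | h
    · rcases Nat.lt_or_ge v 20000 with h | h
      · exact fixPtsF_spec W_29 20000 0 relc_29_0 v (by omega) (by omega)
      · rcases Nat.lt_or_ge v 40000 with h | h
        · exact fixPtsF_spec W_29 20000 20000 relc_29_1 v (by omega) (by omega)
        · exact fixPtsF_spec W_29 20000 40000 relc_29_2 v (by omega) (by omega)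
    · rcases Nat.lt_or_ge v 100000 with h | h
      · rcases Nat.lt_or_ge v 80000 with h | h
        · exact fixPtsF_spec W_29 20000 60000 relc_29_3 v (by omega) (by omega)
        · exact fixPtsF_spec W_29 20000 80000 relc_29_4 v (by omega) (by omega)
      · rcases Nat.lt_or_ge v 120000 with h | h
        · exact fixPtsF_spec W_29 20000 100000 relc_29_5 v (by omega) (by omega)
        · exact fixPtsF_spec W_29 20000 120000 relc_29_6 v (by omega) (by omega)
  · rcases Nat.lt_or_ge v 200000 with h | h
    · rcases Nat.lt_or_ge v 160000 with h | h
      · exact fixPtsF_spec W_29 20000 140000 relc_29_7 v (by omega) (by omega)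
      · rcases Nat.lt_or_ge v 180000 with h | h
        · exact fixPtsF_spec W_29 20000 160000 relc_29_8 v (by omega) (by omega)
        · exact fixPtsF_spec W_29 20000 180000 relc_29_9 v (by omega) (by omega)
    · rcases Nat.lt_or_ge v 240000 with h | h
      · rcases Nat.lt_or_ge v 220000 with h | h
        · exact fixPtsF_spec W_29 20000 200000 relc_29_10 v (by omega) (by omega)
        · exact fixPtsF_spec W_29 20000 220000 relc_29_11 v (by omega) (by omega)
      · rcases Nat.lt_or_ge v 260000 with h | h
        · exact fixPtsF_spec W_29 20000 240000 relc_29_12 v (by omega) (by omega)
        · exact fixPtsF_spec W_29 6560 260000 relc_29_13 v (by omega) (by omega)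

set_option maxRecDepth 1000000 in
theorem walk_29 : ∀ v, walkT ctF (D.wlen 29) (D.wordP 29) v = W_29 v := by
  intro v
  simp only [W_29, forceL_eq]
  rfl

theorem relw_29 : ∀ v, v < 266560 → walkT ctF (D.wlen 29) (D.wordP 29) v = v := by
  intro v hv
  rw [walk_29]
  exact relf_29 v hv

theorem relf_30 : ∀ v, v < 266560 → W_30 v = v := by
  intro v hv
  rcases Nat.lt_or_ge v 127267 with h | h
  · rcases Nat.lt_or_ge v 54543 with h | h
    · rcases Nat.lt_or_ge v 18181 with h | h
      · exact fixPtsF_spec W_30 18181 0 relc_30_0 v (by omega) (by omega)
      · rcases Nat.lt_or_ge v 36362 with h | h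
        · exact fixPtsF_spec W_30 18181 18181 relc_30_1 v (by omega) (by omega)
        · exact fixPtsF_spec W_30 18181 36362 relc_30_2 v (by omega) (by omega)
    · rcases Nat.lt_or_ge v 90905 with h | h
      · rcases Nat.lt_or_ge v 72724 with h | h
        · exact fixPtsF_spec W_30 18181 54543 relc_30_3 v (by omega) (by omega)
        · exact fixPtsF_spec W_30 18181 72724 relc_30_4 v (by omega) (by omega)
      · rcases Nat.lt_or_ge v 109086 with h | h
        · exact fixPtsF_spec W_30 18181 90905 relc_30_5 v (by omega) (by omega)
        · exact fixPtsF_spec W_30 18181 109086 relc_30_6 v (by omega) (by omega)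
  · rcases Nat.lt_or_ge v 199991 with h | h
    · rcases Nat.lt_or_ge v 163629 with h | h
      · rcases Nat.lt_or_ge v 145448 with h | h
        · exact fixPtsF_spec W_30 18181 127267 relc_30_7 v (by omega) (by omega)
        · exact fixPtsF_spec W_30 18181 145448 relc_30_8 v (by omega) (by omega)
      · rcases Nat.lt_or_ge v 181810 with h | h
        · exact fixPtsF_spec W_30 18181 163629 relc_30_9 v (by omega) (by omega)
        · exact fixPtsF_spec W_30 18181 181810 relc_30_10 v (by omega) (by omega)
    · rcases Nat.lt_or_ge v 236353 with h | h
      · rcases Nat.lt_or_ge v 218172 with h | h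
        · exact fixPtsF_spec W_30 18181 199991 relc_30_11 v (by omega) (by omega)
        · exact fixPtsF_spec W_30 18181 218172 relc_30_12 v (by omega) (by omega)
      · rcases Nat.lt_or_ge v 254534 with h | h
        · exact fixPtsF_spec W_30 18181 236353 relc_30_13 v (by omega) (by omega)
        · exact fixPtsF_spec W_30 12026 254534 relc_30_14 v (by omega) (by omega)

set_option maxRecDepth 1000000 in
theorem walk_30 : ∀ v, walkT ctF (D.wlen 30) (D.wordP 30) v = W_30 v := by
  intro v
  simp only [W_30, forceL_eq]
  rfl

theorem relw_30 : ∀ v, v < 266560 → walkT ctF (D.wlen 30) (D.wordP 30) v = v := by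
  intro v hv
  rw [walk_30]
  exact relf_30 v hv

theorem relf_31 : ∀ v, v < 266560 → W_31 v = v := by
  intro v hv
  rcases Nat.lt_or_ge v 137500 with h | h
  · rcases Nat.lt_or_ge v 62500 with h | h
    · rcases Nat.lt_or_ge v 25000 with h | h
      · rcases Nat.lt_or_ge v 12500 with h | h
        · exact fixPtsF_spec W_31 12500 0 relc_31_0 v (by omega) (by omega)
        · exact fixPtsF_spec W_31 12500 12500 relc_31_1 v (by omega) (by omega)
      · rcases Nat.lt_or_ge v 37500 with h | h
        · exact fixPtsF_spec W_31 12500 25000 relc_31_2 v (by omega) (by omega)
        · rcases Nat.lt_or_ge v 50000 with h | h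
          · exact fixPtsF_spec W_31 12500 37500 relc_31_3 v (by omega) (by omega)
          · exact fixPtsF_spec W_31 12500 50000 relc_31_4 v (by omega) (by omega)
    · rcases Nat.lt_or_ge v 100000 with h | h
      · rcases Nat.lt_or_ge v 75000 with h | h
        · exact fixPtsF_spec W_31 12500 62500 relc_31_5 v (by omega) (by omega)
        · rcases Nat.lt_or_ge v 87500 with h | h
          · exact fixPtsF_spec W_31 12500 75000 relc_31_6 v (by omega) (by omega)
          · exact fixPtsF_spec W_31 12500 87500 relc_31_7 v (by omega) (by omega)
      · rcases Nat.lt_or_ge v 112500 with h | h
        · exact fixPtsF_spec W_31 12500 100000 relc_31_8 v (by omega) (by omega)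
        · rcases Nat.lt_or_ge v 125000 with h | h
          · exact fixPtsF_spec W_31 12500 112500 relc_31_9 v (by omega) (by omega)
          · exact fixPtsF_spec W_31 12500 125000 relc_31_10 v (by omega) (by omega)
  · rcases Nat.lt_or_ge v 200000 with h | h
    · rcases Nat.lt_or_ge v 162500 with h | h
      · rcases Nat.lt_or_ge v 150000 with h | h
        · exact fixPtsF_spec W_31 12500 137500 relc_31_11 v (by omega) (by omega)
        · exact fixPtsF_spec W_31 12500 150000 relc_31_12 v (by omega) (by omega)
      · rcases Nat.lt_or_ge v 175000 with h | h
        · exact fixPtsF_spec W_31 12500 162500 relc_31_13 v (by omega) (by omega)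
        · rcases Nat.lt_or_ge v 187500 with h | h
          · exact fixPtsF_spec W_31 12500 175000 relc_31_14 v (by omega) (by omega)
          · exact fixPtsF_spec W_31 12500 187500 relc_31_15 v (by omega) (by omega)
    · rcases Nat.lt_or_ge v 237500 with h | h
      · rcases Nat.lt_or_ge v 212500 with h | h
        · exact fixPtsF_spec W_31 12500 200000 relc_31_16 v (by omega) (by omega)
        · rcases Nat.lt_or_ge v 225000 with h | h
          · exact fixPtsF_spec W_31 12500 212500 relc_31_17 v (by omega) (by omega)
          · exact fixPtsF_spec W_31 12500 225000 relc_31_18 v (by omega) (by omega)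
      · rcases Nat.lt_or_ge v 250000 with h | h
        · exact fixPtsF_spec W_31 12500 237500 relc_31_19 v (by omega) (by omega)
        · rcases Nat.lt_or_ge v 262500 with h | h
          · exact fixPtsF_spec W_31 12500 250000 relc_31_20 v (by omega) (by omega)
          · exact fixPtsF_spec W_31 4060 262500 relc_31_21 v (by omega) (by omega)

set_option maxRecDepth 1000000 in
theorem walk_31 : ∀ v, walkT ctF (D.wlen 31) (D.wordP 31) v = W_31 v := by
  intro v
  simp only [W_31, forceL_eq]
  rfl

theorem relw_31 : ∀ v, v < 266560 → walkT ctF (D.wlen 31) (D.wordP 31) v = v := by
  intro v hv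
  rw [walk_31]
  exact relf_31 v hv

theorem invx_0 : ∀ v, v < 266560 → ctF 0 v < 266560 ∧ ctF 0 (ctF 0 v) = v := by
  intro v hv
  rcases Nat.lt_or_ge v 150000 with h | h
  · rcases Nat.lt_or_ge v 50000 with h | h
    · exact invRowFI_spec ctF 266560 0 0 50000 0 inv_0_0 v (by omega) (by omega)
    · rcases Nat.lt_or_ge v 100000 with h | h
      · exact invRowFI_spec ctF 266560 0 0 50000 50000 inv_0_1 v (by omega) (by omega)
      · exact invRowFI_spec ctF 266560 0 0 50000 100000 inv_0_2 v (by omega) (by omega)
  · rcases Nat.lt_or_ge v 200000 with h | h
    · exact invRowFI_spec ctF 266560 0 0 50000 150000 inv_0_3 v (by omega) (by omega)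
    · rcases Nat.lt_or_ge v 250000 with h | h
      · exact invRowFI_spec ctF 266560 0 0 50000 200000 inv_0_4 v (by omega) (by omega)
      · exact invRowFI_spec ctF 266560 0 0 16560 250000 inv_0_5 v (by omega) (by omega)

theorem invx_1 : ∀ v, v < 266560 → ctF 1 v < 266560 ∧ ctF 1 (ctF 1 v) = v := by
  intro v hv
  rcases Nat.lt_or_ge v 150000 with h | h
  · rcases Nat.lt_or_ge v 50000 with h | h
    · exact invRowFI_spec ctF 266560 1 1 50000 0 inv_1_0 v (by omega) (by omega)
    · rcases Nat.lt_or_ge v 100000 with h | h
      · exact invRowFI_spec ctF 266560 1 1 50000 50000 inv_1_1 v (by omega) (by omega)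
      · exact invRowFI_spec ctF 266560 1 1 50000 100000 inv_1_2 v (by omega) (by omega)
  · rcases Nat.lt_or_ge v 200000 with h | h
    · exact invRowFI_spec ctF 266560 1 1 50000 150000 inv_1_3 v (by omega) (by omega)
    · rcases Nat.lt_or_ge v 250000 with h | h
      · exact invRowFI_spec ctF 266560 1 1 50000 200000 inv_1_4 v (by omega) (by omega)
      · exact invRowFI_spec ctF 266560 1 1 16560 250000 inv_1_5 v (by omega) (by omega)

theorem invx_2 : ∀ v, v < 266560 → ctF 2 v < 266560 ∧ ctF 2 (ctF 2 v) = v := by
  intro v hv
  rcases Nat.lt_or_ge v 150000 with h | h
  · rcases Nat.lt_or_ge v 50000 with h | h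
    · exact invRowFI_spec ctF 266560 2 2 50000 0 inv_2_0 v (by omega) (by omega)
    · rcases Nat.lt_or_ge v 100000 with h | h
      · exact invRowFI_spec ctF 266560 2 2 50000 50000 inv_2_1 v (by omega) (by omega)
      · exact invRowFI_spec ctF 266560 2 2 50000 100000 inv_2_2 v (by omega) (by omega)
  · rcases Nat.lt_or_ge v 200000 with h | h
    · exact invRowFI_spec ctF 266560 2 2 50000 150000 inv_2_3 v (by omega) (by omega)
    · rcases Nat.lt_or_ge v 250000 with h | h
      · exact invRowFI_spec ctF 266560 2 2 50000 200000 inv_2_4 v (by omega) (by omega)
      · exact invRowFI_spec ctF 266560 2 2 16560 250000 inv_2_5 v (by omega) (by omega)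

theorem invx_3 : ∀ v, v < 266560 → ctF 3 v < 266560 ∧ ctF 3 (ctF 3 v) = v := by
  intro v hv
  rcases Nat.lt_or_ge v 150000 with h | h
  · rcases Nat.lt_or_ge v 50000 with h | h
    · exact invRowFI_spec ctF 266560 3 3 50000 0 inv_3_0 v (by omega) (by omega)
    · rcases Nat.lt_or_ge v 100000 with h | h
      · exact invRowFI_spec ctF 266560 3 3 50000 50000 inv_3_1 v (by omega) (by omega)
      · exact invRowFI_spec ctF 266560 3 3 50000 100000 inv_3_2 v (by omega) (by omega)
  · rcases Nat.lt_or_ge v 200000 with h | h
    · exact invRowFI_spec ctF 266560 3 3 50000 150000 inv_3_3 v (by omega) (by omega)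
    · rcases Nat.lt_or_ge v 250000 with h | h
      · exact invRowFI_spec ctF 266560 3 3 50000 200000 inv_3_4 v (by omega) (by omega)
      · exact invRowFI_spec ctF 266560 3 3 16560 250000 inv_3_5 v (by omega) (by omega)

theorem invx_4 : ∀ v, v < 266560 → ctF 4 v < 266560 ∧ ctF 4 (ctF 4 v) = v := by
  intro v hv
  rcases Nat.lt_or_ge v 150000 with h | h
  · rcases Nat.lt_or_ge v 50000 with h | h
    · exact invRowFI_spec ctF 266560 4 4 50000 0 inv_4_0 v (by omega) (by omega)
    · rcases Nat.lt_or_ge v 100000 with h | h
      · exact invRowFI_spec ctF 266560 4 4 50000 50000 inv_4_1 v (by omega) (by omega)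
      · exact invRowFI_spec ctF 266560 4 4 50000 100000 inv_4_2 v (by omega) (by omega)
  · rcases Nat.lt_or_ge v 200000 with h | h
    · exact invRowFI_spec ctF 266560 4 4 50000 150000 inv_4_3 v (by omega) (by omega)
    · rcases Nat.lt_or_ge v 250000 with h | h
      · exact invRowFI_spec ctF 266560 4 4 50000 200000 inv_4_4 v (by omega) (by omega)
      · exact invRowFI_spec ctF 266560 4 4 16560 250000 inv_4_5 v (by omega) (by omega)

theorem invx_5 : ∀ v, v < 266560 → ctF 5 v < 266560 ∧ ctF 5 (ctF 5 v) = v := by
  intro v hv
  rcases Nat.lt_or_ge v 150000 with h | h
  · rcases Nat.lt_or_ge v 50000 with h | h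
    · exact invRowFI_spec ctF 266560 5 5 50000 0 inv_5_0 v (by omega) (by omega)
    · rcases Nat.lt_or_ge v 100000 with h | h
      · exact invRowFI_spec ctF 266560 5 5 50000 50000 inv_5_1 v (by omega) (by omega)
      · exact invRowFI_spec ctF 266560 5 5 50000 100000 inv_5_2 v (by omega) (by omega)
  · rcases Nat.lt_or_ge v 200000 with h | h
    · exact invRowFI_spec ctF 266560 5 5 50000 150000 inv_5_3 v (by omega) (by omega)
    · rcases Nat.lt_or_ge v 250000 with h | h
      · exact invRowFI_spec ctF 266560 5 5 50000 200000 inv_5_4 v (by omega) (by omega)
      · exact invRowFI_spec ctF 266560 5 5 16560 250000 inv_5_5 v (by omega) (by omega)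

theorem invx_6 : ∀ v, v < 266560 → ctF 6 v < 266560 ∧ ctF 6 (ctF 6 v) = v := by
  intro v hv
  rcases Nat.lt_or_ge v 150000 with h | h
  · rcases Nat.lt_or_ge v 50000 with h | h
    · exact invRowFI_spec ctF 266560 6 6 50000 0 inv_6_0 v (by omega) (by omega)
    · rcases Nat.lt_or_ge v 100000 with h | h
      · exact invRowFI_spec ctF 266560 6 6 50000 50000 inv_6_1 v (by omega) (by omega)
      · exact invRowFI_spec ctF 266560 6 6 50000 100000 inv_6_2 v (by omega) (by omega)
  · rcases Nat.lt_or_ge v 200000 with h | h
    · exact invRowFI_spec ctF 266560 6 6 50000 150000 inv_6_3 v (by omega) (by omega)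
    · rcases Nat.lt_or_ge v 250000 with h | h
      · exact invRowFI_spec ctF 266560 6 6 50000 200000 inv_6_4 v (by omega) (by omega)
      · exact invRowFI_spec ctF 266560 6 6 16560 250000 inv_6_5 v (by omega) (by omega)

theorem hconn : ∀ v, v < 266560 → v ≠ 0 → ∃ x, x < E.D.k ∧ ctF x v < v := by
  intro v hv
  rcases Nat.lt_or_ge v 150000 with h | h
  · rcases Nat.lt_or_ge v 50000 with h | h
    · exact connF_spec ctF 7 50000 0 conn_0 v (by omega) (by omega)
    · rcases Nat.lt_or_ge v 100000 with h | h
      · exact connF_spec ctF 7 50000 50000 conn_1 v (by omega) (by omega)
      · exact connF_spec ctF 7 50000 100000 conn_2 v (by omega) (by omega)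
  · rcases Nat.lt_or_ge v 200000 with h | h
    · exact connF_spec ctF 7 50000 150000 conn_3 v (by omega) (by omega)
    · rcases Nat.lt_or_ge v 250000 with h | h
      · exact connF_spec ctF 7 50000 200000 conn_4 v (by omega) (by omega)
      · exact connF_spec ctF 7 16560 250000 conn_5 v (by omega) (by omega)

theorem hE : ∀ v, v < E.M → ∀ x, x < E.D.k → edgeOKI iota E x v = true := by
  intro v hv x hx
  have hv' : v < 269342 := hv
  have hx' : x < 7 := hx
  interval_cases x
  · exact edgesx_0 v hv'
  · exact edgesx_1 v hv'
  · exact edgesx_2 v hv'
  · exact edgesx_3 v hv'
  · exact edgesx_4 v hv'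
  · exact edgesx_5 v hv'
  · exact edgesx_6 v hv'

theorem hA : ∀ v, v < E.M → aliasOK E v = true := fun v hv => hA0 v hv

theorem hrows : ∀ v, v < E.M → tb RS v = true → rowOK2 E RS v E.D.k = true := fun v hv => hrows0 v hv

theorem hT : ∀ x, x < E.D.k → ∀ v, v < 266560 → ctF x v < 266560 ∧ ctF (iota x) (ctF x v) = v := by
  intro x hx
  have hx' : x < 7 := hx
  interval_cases x
  · exact invx_0
  · exact invx_1
  · exact invx_2
  · exact invx_3
  · exact invx_4
  · exact invx_5
  · exact invx_6

theorem hltr : ∀ j, j < E.D.nw → lettersOK E.D.k (E.D.wlen j) (E.D.wordP j) = true :=
  wordsOK_spec D D.nw words_ok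

theorem hrelT : ∀ wi, wi < E.D.nrel → ∀ v, v < 266560 →
    walkT ctF (E.D.wlen wi) (E.D.wordP wi) v = v := by
  intro wi hwi
  have hwi' : wi < 32 := hwi
  interval_cases wi
  · exact relw_0
  · exact relw_1
  · exact relw_2
  · exact relw_3
  · exact relw_4
  · exact relw_5
  · exact relw_6
  · exact relw_7
  · exact relw_8
  · exact relw_9
  · exact relw_10
  · exact relw_11
  · exact relw_12
  · exact relw_13
  · exact relw_14
  · exact relw_15
  · exact relw_16
  · exact relw_17
  · exact relw_18
  · exact relw_19
  · exact relw_20
  · exact relw_21
  · exact relw_22
  · exact relw_23
  · exact relw_24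
  · exact relw_25
  · exact relw_26
  · exact relw_27
  · exact relw_28
  · exact relw_29
  · exact relw_30
  · exact relw_31

theorem hsubT : ∀ wi, wi < E.D.nw → E.D.nrel ≤ wi →
    walkT ctF (E.D.wlen wi) (E.D.wordP wi) 0 = 0 :=
  subAll_spec ctF D D.nw sub_ok

end Cfsg.Agent.Helper5.HeXATC
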