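import Cfsg.Agent.Helper5.TC2A

/-! generated coset table (generator 1): HeXBTC -/

set_option autoImplicit false
set_option Elab.async false

namespace Cfsg.Agent.Helper5.HeXBTC
open Cfsg.Agent.Helper5.TC

def ct1_0 : ℕ := 0x13a00013900013800013700013600013000013400013200013300012800013500012200012600012000011d00011c00012900012a00013100011000012e00010b00010600010800012f00010300012d00010100010a00012c00012b0000fe0000f90000f40000f20000fa00010e0000f00000ee00010c0000eb0000e90001270000e80001160000fd00011300012500011e0000e20001230000e00001240000dc0000dd0001210000e300011f0000d70000d800011b00010d0000ec0000d400011700011a0000d20000de0000d00000e50001190000d30001180000cc0001150000ca0001140000c80000fc0001120000c700011100010f0000c50000c40000f50000d50001020001090000bd0001070000bb0000f70001040001050000b80000b70000c00000ff0001000000b50000e40000fb0000f30000f80000b00000f60000af0000b20000b10000f10000cb0000ef0000c90000ed0000ea0000a60000e70000e60000a40000a30000b30000d90000a00000be0000e10000bc0000df00009a00009f0000db0000da0000970000d60000930000c10000ce0000cd0000d10000cf00008e00008d0000910000900000aa0000a90000860000940000c60000870000c30000c200008200008c0000bf0000b900008000007e00009c00009b0000ba00007900007a0000b600008f0000760000a70000b40000750000ac0000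ab0000960000ae0000ad0000a100006f0000720000890000880000a50000a800006900006b00006a0000a200007000009e00006400009d00006200007c00007b00009800009900005f00007100009500009200005c00005b00008a00007700008100008b00005600005400005100008400008300008500004e00004d00005700006500007f00006300007d00004900004600007800004300005800007400007300004100004000005d00006600006e00003d00006d00003c00004f00006c00003a00005200006800006700003700004b00004a00006100003400004400006000003200004700005e00003300005a00005900002e00003b00005500005300003e00005000002a00002b00004c00003600003500004800004200004500002400002600002500003f00002c00002d00003800003900001f00001d00001a00003000002f00003100001700001600002000002100002900001300002800001200001800002700001000001b00002300002200000d00001100001e00001c00001400001900000900000a00001500000b00000c00000e00000f000005000006000007000008000002000003000004000001000000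
def ctSel1 (c : ℕ) : ℕ := ct1_0
def ct1F (v : ℕ) : ℕ := Nat.rec (motive := fun _ => ℕ) 0 (fun c _ => Nat.mod (Nat.shiftRight (ctSel1 c) (Nat.mul 24 (Nat.mod v 682))) 16777216) (Nat.add (Nat.div v 682) 1)

end Cfsg.Agent.Helper5.HeXBTC
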