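import Cfsg.Agent.Helper5.TC2A

/-! generated coset table (generator 2): HeXBTC -/

set_option autoImplicit false
set_option Elab.async false

namespace Cfsg.Agent.Helper5.HeXBTC
open Cfsg.Agent.Helper5.TC

def ct2_0 : ℕ := 0x13a00013900013500013300013100013800012b00013700013200013600013000012400012300012500011f00013400011e00011a00012800011100010f00012d00012f00012e00010400010500010200012c00012a0000ff00011c0001000001290000fb0000f80000f70000f60001150001140000ec00010d0001270000e70001260000e60001120000e40000e30000f90001090000e80001070000dd0001210001220000da0001200000d800011b00011d0000d60000ea0000d50001190000d300010a0001180001170001160000cf0000ce0000de0000cd0000d10000cb0000ef0000c90000ed0001130000c70000fd0000c500010800011000010e0000c200010c00010b0000be0000e10000bc0000df0000f30001060000b70000ba0001030000b90001010000b50000fe0000fc0000b20000fa0000b10000f10000c40000f50000f40000f20000ab0000f00000aa0000ee0000a90000eb0000a50000e90000d00000a80000e50000a70000a10000ad0000e200009c0000e000009b0000db0000d90000980000dc0000990000d70000950000920000d40000d20000900000a300008f0000bf00008b0000cc0000ca0000c80000c30000c10000840000c60000830000af0000850000c000008100008c00009e00009d0000bd0000bb00007a0000b60000b80000780000770000b40000750000740000b30000730000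b00000ae00007100007000009f0000ac00006e00006d00006c00006b00006a0000a20000a60000a40000670000a000006500007f00006300007d00006100006000009a00005f00009700009600005c00009400009300009100005900008e00008d00005b00008a00008900008800008700008600004d00005000008200004f00008000004b00007e00004a00007c00007b00007900004800004200007600006f00004500007200004400003e00004000005300005400005500003b00005100006800006600003800006900003900006400006200004900005e00003300004600005a00005800003000005d00002f00005600003100005700002d00002c00005200002b00004c00004e00002900002800002700002600004700002500003f00004300004100002200003d00003c00003a00001f00003700003600003500003400003200001600001900002e00001800001400002a00001c00001d00001e00001100001a00002300002100000e00002400000f00002000000c00000b00001b00000a00001500001700000800001300001200001000000500000d000007000003000009000004000006000001000002000000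
def ctSel2 (c : ℕ) : ℕ := ct2_0
def ct2F (v : ℕ) : ℕ := Nat.rec (motive := fun _ => ℕ) 0 (fun c _ => Nat.mod (Nat.shiftRight (ctSel2 c) (Nat.mul 24 (Nat.mod v 682))) 16777216) (Nat.add (Nat.div v 682) 1)

end Cfsg.Agent.Helper5.HeXBTC
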