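import Cfsg.Agent.Helper5.TC2A

/-! generated coset table (generator 3): HeXBTC -/

set_option autoImplicit false
set_option Elab.async false

namespace Cfsg.Agent.Helper5.HeXBTC
open Cfsg.Agent.Helper5.TC

def ct3_0 : ℕ := 0x13800013600013a00013400013900012f00013700012a00012900012700012200013500012c00012100012e00011b00013300013200011000013100011d00011f00011100010700013000012d0001030001250001090001260000fe00012b0000f80001040000fb0001140000f000010e0001170000f50000ef0001240001280000e60001150000ff0000e50001010000e200011e0000e00001230000e90000df0001190001200000d900010b0000e100010d00011c0000d80000ec0001180000ee0000d200011a0000db0000d00001130000dd0000cd0000d40000ed0001160001120000fa0000f10000fc0000ca0000c60001060000c40000c300010f00010c0000c10000c000010a0001000001080001050000b80000f40000bb0000f70000b60001020000fd0000bd0000b40000b30000f20000b10000f90000bf0000f60000ae0000ac0000f30000c80000be0000eb0000bc0000cc0000a60000ea0000a40000e80000e70000a20000e40000e30000d10000cb0000d70000c90000dc0000ad00009e0000de0000970000da0000930000d60000d50000910000d30000a000008e0000cf0000ba0000ce00008a00008900008800009500009d0000c70000830000c50000820000c200008b0000b00000800000b90000a700007c00007b00008d00007f00008f0000b700007a0000a800007e0000b50000730000b20000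720000980000af00009a00006f0000a10000ab0000aa0000a900006a00007600007d0000680000a50000a300006600009f00009900009400008500009c00009b00009600006400005e00005d00008600005b00005a00009200009000005800005700008c00005500005300005000004e00008700006200008400004c00008100006500007900006300006900004800004500004300007800007700004100007500007400003f00007100007000003d00006e00003c00006d00004700003a00006c00004400006b00003700006700003600003500003400006100005200003200006000004f00005f00002f00005c00002e00005900003800005600005400002b00005100003100003e00004d00004b00004a00004900002500004600003900002300004200004000002100002000003b00002400001e00001c00001900001700003300002a00003000001500002d00002c00001300002900001200002800001b00001000002700001800002600000d00002200000e00001f00001d00000a00001a00000f00001400001600000700000600001100000900000400000c00000b000002000008000003000005000000000001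
def ctSel3 (c : ℕ) : ℕ := ct3_0
def ct3F (v : ℕ) : ℕ := Nat.rec (motive := fun _ => ℕ) 0 (fun c _ => Nat.mod (Nat.shiftRight (ctSel3 c) (Nat.mul 24 (Nat.mod v 682))) 16777216) (Nat.add (Nat.div v 682) 1)

end Cfsg.Agent.Helper5.HeXBTC
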