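import Cfsg.Agent.Helper5.TC2A

/-! generated coset table (generator 4): HeXBTC -/

set_option autoImplicit false
set_option Elab.async false

namespace Cfsg.Agent.Helper5.HeXBTC
open Cfsg.Agent.Helper5.TC

def ct4_0 : ℕ := 0x13900013a00013700013800013400013300013600013500013000012b00013200012100012700012a00011b00013100012d00012000011c00012e00011000011e00010500011100010300012f0001290001000001250000fe00012800012c0001020000f70000f10000fb0000f50000ef0000ed0000eb00010c0001230001260000e70000e50000e400011200010a00010b0000e10000e90000df0000dc0001240000da00012200011a0000d700011f0000d600011d0000d50000ea0001170000d40000e30000d10001190000cf0001160000de0000ce0000cc0001180000ca0001150000c80001140000c70001130000fc0001080000c500010f0000c200010e00010d0000f90000bd0001090000bb0001070000f40000b70001060000b60001040000bf0000b50001010000ff0000fd0000fa0000b20000b00000f80000af0000f60000f30000ab0000f20000aa0000f00000a90000ee0000ec0000a60000e80000a30000a20000e60000b40000a00000d900009c0000e200009b0000e00000990000ad0000970000dd0000db0000d80000c10000930000d30000900000d20000d000008e0000b900008a0000cd0000cb0000c90000850000950000c60000840000820000c40000c30000810000c000008d00007f00007d0000be0000bc0000790000ba0000780000b80000770000a70000760000b30000740000720000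b10000710000ae00009f00007000006e0000ac00007c00007b00006b0000690000a80000a50000670000a40000a100006400009e00006200009d00008900008800005f00009a00009800009600009400005c00009200005900009100008f00008c00005600008b00006100006000008700004d00008600004c00008300005500004b00008000004a00007e00006d00006c00007a00005800004300007500004000003f00007300005e00003d00006f00006600004900004f00003c00004600003900005300003700006a00006800006500006300005400004400003400005100003100004800005d00003000002e00005b00005a00002d00005700005200002c00002a00005000002900004e00003600003500004700002600002400004500004200002200004100003e00003b00001f00003a00003800002800002700003300001600003200001500002f00001e00001300002b00002100001d00001800001200001a00000f00001c00000d00002500002300000c00002000001b00000b00000900001900000800001700001400001100000500001000000e00000400000200000a000007000001000006000003000000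
def ctSel4 (c : ℕ) : ℕ := ct4_0
def ct4F (v : ℕ) : ℕ := Nat.rec (motive := fun _ => ℕ) 0 (fun c _ => Nat.mod (Nat.shiftRight (ctSel4 c) (Nat.mul 24 (Nat.mod v 682))) 16777216) (Nat.add (Nat.div v 682) 1)

end Cfsg.Agent.Helper5.HeXBTC
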