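import Mathlib
import Cfsg.Agent.Helper5.LPW
import Cfsg.Agent.Helper5.HeXATCSum
import Cfsg.Agent.Helper5.HeXBTCSum
import Cfsg.Agent.Helper5.HeXCTCSum
import Cfsg.Agent.Helper5.HeXDTCSum
import Cfsg.Agent.Helper5.HeXKTCSum
import Cfsg.Agent.Helper5.HeXTTCSum

/-! generated: the relators of the He presentation, the certified indices of the parabolic subgroups and the upper bound for the order -/

set_option autoImplicit false

namespace Cfsg.Agent.Helper5.HeLP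

open Cfsg.Agent.Helper5.TC Cfsg.Agent.Helper5.TCI Cfsg.Agent.Helper5.LP

/-- relator words on the first 7 letters. -/
def R7 : List (List ℕ) := [[0, 0], [0, 1, 0, 1, 0, 1, 0, 1], [0, 2, 0, 2], [0, 3, 0, 3], [0, 4, 0, 4], [0, 5, 0, 5], [0, 6, 0, 6], [1, 1], [1, 2, 1, 2, 1, 2], [1, 3, 1, 3], [1, 4, 1, 4], [1, 5, 1, 5], [1, 6, 1, 6], [2, 2], [2, 3, 2, 3, 2, 3, 2, 3, 2, 3, 2, 3, 2, 3, 2, 3, 2, 3, 2, 3], [2, 4, 2, 4], [2, 5, 2, 5], [2, 6, 2, 6], [3, 3], [3, 4, 3, 4, 3, 4], [3, 5, 3, 5, 3, 5], [3, 6, 3, 6, 3, 6], [4, 4], [4, 5, 4, 5], [4, 6, 4, 6], [5, 5], [5, 6, 5, 6, 5, 6, 5, 6], [6, 6], [4, 6, 5, 6, 5], [4, 2, 1, 0, 2, 1, 0, 2, 1, 0], [0, 3, 2, 3, 2, 3, 2, 3, 2, 3, 2], [2, 3, 5, 6, 2, 3, 5, 6, 2, 3, 5, 6, 2, 3, 5, 6]]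

/-- relator words on the first 5 letters. -/
def R5 : List (List ℕ) := [[0, 0], [0, 1, 0, 1, 0, 1, 0, 1], [0, 2, 0, 2], [0, 3, 0, 3], [0, 4, 0, 4], [1, 1], [1, 2, 1, 2, 1, 2], [1, 3, 1, 3], [1, 4, 1, 4], [2, 2], [2, 3, 2, 3, 2, 3, 2, 3, 2, 3, 2, 3, 2, 3, 2, 3, 2, 3, 2, 3], [2, 4, 2, 4], [3, 3], [3, 4, 3, 4, 3, 4], [4, 4], [4, 2, 1, 0, 2, 1, 0, 2, 1, 0], [0, 3, 2, 3, 2, 3, 2, 3, 2, 3, 2]]

/-- relator words on the first 3 letters. -/
def R3 : List (List ℕ) := [[0, 0], [0, 1, 0, 1, 0, 1, 0, 1], [0, 2, 0, 2], [1, 1], [1, 2, 1, 2, 1, 2], [2, 2]]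

/-- relator words on the first 2 letters. -/
def R2 : List (List ℕ) := [[0, 0], [0, 1, 0, 1, 0, 1, 0, 1], [1, 1]]

/-- an element of prime order. -/
def xw : List ℕ := [3, 5, 6]

theorem wordsA : ∀ i (hi : i < (R7 ++ letterWords 5).length),
    unpack (HeXATC.E.D.wlen i) (HeXATC.E.D.wordP i) = ((R7 ++ letterWords 5)[i]).reverse :=
  wordsMatchB_spec0 _ _ _ (by decide +kernel)

theorem idxA : (para 7 (R7) 5).index = 266560 :=
  lp_index (by decide +kernel) (letterWords 5) HeXATC.E HeXATC.iota (fun _ => rfl) rfl rfl rfl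
    (by decide +kernel) wordsA HeXATC.rev_ok HeXATC.hE HeXATC.hA HeXATC.set_ok HeXATC.hrows
    (by norm_num) HeXATC.hT HeXATC.hltr HeXATC.hrelT HeXATC.hsubT HeXATC.hconn

theorem wordsB : ∀ i (hi : i < (R5 ++ letterWords 3).length),
    unpack (HeXBTC.E.D.wlen i) (HeXBTC.E.D.wordP i) = ((R5 ++ letterWords 3)[i]).reverse :=
  wordsMatchB_spec0 _ _ _ (by decide +kernel)

theorem idxB : (para 5 (R5) 3).index = 315 :=
  lp_index (by decide +kernel) (letterWords 3) HeXBTC.E HeXBTC.iota (fun _ => rfl) rfl rfl rfl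
    (by decide +kernel) wordsB HeXBTC.rev_ok HeXBTC.hE HeXBTC.hA HeXBTC.set_ok HeXBTC.hrows
    (by norm_num) HeXBTC.hT HeXBTC.hltr HeXBTC.hrelT HeXBTC.hsubT HeXBTC.hconn

theorem wordsC : ∀ i (hi : i < (R3 ++ letterWords 2).length),
    unpack (HeXCTC.E.D.wlen i) (HeXCTC.E.D.wordP i) = ((R3 ++ letterWords 2)[i]).reverse :=
  wordsMatchB_spec0 _ _ _ (by decide +kernel)

theorem idxC : (para 3 (R3) 2).index = 6 :=
  lp_index (by decide +kernel) (letterWords 2) HeXCTC.E HeXCTC.iota (fun _ => rfl) rfl rfl rfl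
    (by decide +kernel) wordsC HeXCTC.rev_ok HeXCTC.hE HeXCTC.hA HeXCTC.set_ok HeXCTC.hrows
    (by norm_num) HeXCTC.hT HeXCTC.hltr HeXCTC.hrelT HeXCTC.hsubT HeXCTC.hconn

theorem wordsD : ∀ i (hi : i < (R2 ++ letterWords 1).length),
    unpack (HeXDTC.E.D.wlen i) (HeXDTC.E.D.wordP i) = ((R2 ++ letterWords 1)[i]).reverse :=
  wordsMatchB_spec0 _ _ _ (by decide +kernel)

theorem idxD : (para 2 (R2) 1).index = 4 :=
  lp_index (by decide +kernel) (letterWords 1) HeXDTC.E HeXDTC.iota (fun _ => rfl) rfl rfl rfl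
    (by decide +kernel) wordsD HeXDTC.rev_ok HeXDTC.hE HeXDTC.hA HeXDTC.set_ok HeXDTC.hrows
    (by norm_num) HeXDTC.hT HeXDTC.hltr HeXDTC.hrelT HeXDTC.hsubT HeXDTC.hconn

theorem wordsK : ∀ i (hi : i < (R7 ++ [xw] ++ letterWords 0).length),
    unpack (HeXKTC.E.D.wlen i) (HeXKTC.E.D.wordP i) = ((R7 ++ [xw] ++ letterWords 0)[i]).reverse :=
  wordsMatchB_spec0 _ _ _ (by decide +kernel)

theorem idxK : (para 7 (R7 ++ [xw]) 0).index = 1 :=
  lp_index (by decide +kernel) (letterWords 0) HeXKTC.E HeXKTC.iota (fun _ => rfl) rfl rfl rfl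
    (by decide +kernel) wordsK HeXKTC.rev_ok HeXKTC.hE HeXKTC.hA HeXKTC.set_ok HeXKTC.hrows
    (by norm_num) HeXKTC.hT HeXKTC.hltr HeXKTC.hrelT HeXKTC.hsubT HeXKTC.hconn

/-- generators of the point stabiliser of the faithful representation. -/
def subsT : List (List ℕ) := [[0], [2], [3], [4], [5], [0, 1, 0, 1], [1, 2, 3, 4, 1, 2, 3, 4, 1, 2, 3, 4, 1, 2, 3, 4, 1, 2, 3, 4, 1, 2, 3, 4, 1, 2, 3, 4]]

theorem wordsT : ∀ i (hi : i < (R7 ++ subsT).length),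
    unpack (HeXTTC.E.D.wlen i) (HeXTTC.E.D.wordP i) = ((R7 ++ subsT)[i]).reverse :=
  wordsMatchB_spec0 _ _ _ (by decide +kernel)

theorem ubD : Finite (LPG 2 R2) ∧ Nat.card (LPG 2 R2) ≤ 4 * 2 :=
  card_le_base (by decide +kernel) (by norm_num) idxD

theorem ubC : Finite (LPG 3 R3) ∧ Nat.card (LPG 3 R3) ≤ 6 * (4 * 2) :=
  card_le_step (k' := 2) (R' := R2) (by decide +kernel) (subListB_spec (by decide +kernel))
    (by norm_num) idxC ubD.1 ubD.2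

theorem ubB : Finite (LPG 5 R5) ∧ Nat.card (LPG 5 R5) ≤ 315 * (6 * (4 * 2)) :=
  card_le_step (k' := 3) (R' := R3) (by decide +kernel) (subListB_spec (by decide +kernel))
    (by norm_num) idxB ubC.1 ubC.2

theorem ubA : Finite (LPG 7 R7) ∧ Nat.card (LPG 7 R7) ≤ 266560 * (315 * (6 * (4 * 2))) :=
  card_le_step (k' := 5) (R' := R5) (by decide +kernel) (subListB_spec (by decide +kernel))
    (by norm_num) idxA ubB.1 ubB.2

theorem killed : Nat.card (LPG 7 (R7 ++ [xw])) = 1 := card_eq_one_of_index idxK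

end Cfsg.Agent.Helper5.HeLP
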