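import Cfsg.Agent.Helper5.HeXATCDatD
import Cfsg.Agent.Helper5.TCIB

/-! kernel checks of edges, aliases, rows: HeXATC -/

set_option autoImplicit false
set_option Elab.async false

namespace Cfsg.Agent.Helper5.HeXATC
open Cfsg.Agent.Helper5.TC Cfsg.Agent.Helper5.TCI

set_option maxRecDepth 1000000 in
theorem cnt_0 : cntFrom RS 20000 0 0 = 19498 := by decide +kernel

set_option maxRecDepth 1000000 in
theorem cnt_8 : cntFrom RS 20000 160000 0 = 19765 := by decide +kernel

set_option maxRecDepth 1000000 in
theorem edges_5_71 : edgesRangeI iota E 5 2292 180144 = true := by decide +kernel

set_option maxRecDepth 1000000 in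
theorem edges_3_113 : edgesRangeI iota E 3 1336 267005 = true := by decide +kernel

set_option maxRecDepth 1000000 in
theorem edges_5_23 : edgesRangeI iota E 5 2405 65146 = true := by decide +kernel

set_option maxRecDepth 1000000 in
theorem edges_5_81 : edgesRangeI iota E 5 2147 202571 = true := by decide +kernel

set_option maxRecDepth 1000000 in
theorem edges_1_102 : edgesRangeI iota E 1 1862 202470 = true := by decide +kernel

set_option maxRecDepth 1000000 in
theorem edges_6_107 : edgesRangeI iota E 6 1805 251595 = true := by decide +kernel

set_option maxRecDepth 1000000 in
theorem edges_3_95 : edgesRangeI iota E 3 1710 238157 = true := by decide +kernel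

set_option maxRecDepth 1000000 in
theorem edges_6_92 : edgesRangeI iota E 6 1937 223023 = true := by decide +kernel

set_option maxRecDepth 1000000 in
theorem edges_3_34 : edgesRangeI iota E 3 2616 97975 = true := by decide +kernel

set_option maxRecDepth 1000000 in
theorem edges_6_2 : edgesRangeI iota E 6 3193 6247 = true := by decide +kernel

set_option maxRecDepth 1000000 in
theorem edges_0_51 : edgesRangeI iota E 0 1863 96084 = true := by decide +kernel

set_option maxRecDepth 1000000 in
theorem edges_0_125 : edgesRangeI iota E 0 1742 230224 = true := by decide +kernel

set_option maxRecDepth 1000000 in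
theorem edges_1_89 : edgesRangeI iota E 1 1873 178258 = true := by decide +kernel

set_option maxRecDepth 1000000 in
theorem edges_2_25 : edgesRangeI iota E 2 2218 56617 = true := by decide +kernel

set_option maxRecDepth 1000000 in
theorem edges_3_3 : edgesRangeI iota E 3 3725 11228 = true := by decide +kernel

set_option maxRecDepth 1000000 in
theorem edges_4_2 : edgesRangeI iota E 4 2884 5436 = true := by decide +kernel

set_option maxRecDepth 1000000 in
theorem edges_4_74 : edgesRangeI iota E 4 2124 176184 = true := by decide +kernel

set_option maxRecDepth 1000000 in
theorem edges_5_90 : edgesRangeI iota E 5 1955 221725 = true := by decide +kernel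

set_option maxRecDepth 1000000 in
theorem edges_6_68 : edgesRangeI iota E 6 2233 170795 = true := by decide +kernel

set_option maxRecDepth 1000000 in
theorem edges_0_26 : edgesRangeI iota E 0 1889 49885 = true := by decide +kernel

set_option maxRecDepth 1000000 in
theorem edges_0_87 : edgesRangeI iota E 0 1834 162588 = true := by decide +kernel

set_option maxRecDepth 1000000 in
theorem edges_1_37 : edgesRangeI iota E 1 1992 77420 = true := by decide +kernel

set_option maxRecDepth 1000000 in
theorem edges_1_109 : edgesRangeI iota E 1 1822 215243 = true := by decide +kernel

set_option maxRecDepth 1000000 in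
theorem edges_2_62 : edgesRangeI iota E 2 1888 131672 = true := by decide +kernel

set_option maxRecDepth 1000000 in
theorem edges_3_50 : edgesRangeI iota E 3 2847 139824 = true := by decide +kernel

set_option maxRecDepth 1000000 in
theorem edges_4_25 : edgesRangeI iota E 4 2390 63982 = true := by decide +kernel

set_option maxRecDepth 1000000 in
theorem edges_4_92 : edgesRangeI iota E 4 2074 214723 = true := by decide +kernel

set_option maxRecDepth 1000000 in
theorem edges_5_29 : edgesRangeI iota E 5 2402 79892 = true := by decide +kernel

set_option maxRecDepth 1000000 in
theorem edges_5_99 : edgesRangeI iota E 5 1969 239349 = true := by decide +kernel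

set_option maxRecDepth 1000000 in
theorem edges_6_102 : edgesRangeI iota E 6 1822 242519 = true := by decide +kernel

set_option maxRecDepth 1000000 in
theorem edges_0_35 : edgesRangeI iota E 0 1846 66677 = true := by decide +kernel

set_option maxRecDepth 1000000 in
theorem edges_0_93 : edgesRangeI iota E 0 1860 173511 = true := by decide +kernel

set_option maxRecDepth 1000000 in
theorem edges_0_137 : edgesRangeI iota E 0 1636 250377 = true := by decide +kernel

set_option maxRecDepth 1000000 in
theorem edges_1_79 : edgesRangeI iota E 1 2022 159178 = true := by decide +kernel

set_option maxRecDepth 1000000 in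
theorem edges_2_13 : edgesRangeI iota E 2 2185 30767 = true := by decide +kernel

set_option maxRecDepth 1000000 in
theorem edges_2_72 : edgesRangeI iota E 2 2025 151626 = true := by decide +kernel

set_option maxRecDepth 1000000 in
theorem edges_3_53 : edgesRangeI iota E 3 2700 147965 = true := by decide +kernel

set_option maxRecDepth 1000000 in
theorem edges_4_28 : edgesRangeI iota E 4 2291 70940 = true := by decide +kernel

set_option maxRecDepth 1000000 in
theorem edges_4_116 : edgesRangeI iota E 4 1720 260149 = true := by decide +kernel

set_option maxRecDepth 1000000 in
theorem edges_6_57 : edgesRangeI iota E 6 2449 144347 = true := by decide +kernel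

set_option maxRecDepth 1000000 in
theorem edges_0_2 : edgesRangeI iota E 0 2031 3612 = true := by decide +kernel

set_option maxRecDepth 1000000 in
theorem edges_0_37 : edgesRangeI iota E 0 1761 70409 = true := by decide +kernel

set_option maxRecDepth 1000000 in
theorem edges_0_74 : edgesRangeI iota E 0 1878 138425 = true := by decide +kernel

set_option maxRecDepth 1000000 in
theorem edges_0_103 : edgesRangeI iota E 0 1751 191571 = true := by decide +kernel

set_option maxRecDepth 1000000 in
theorem edges_1_2 : edgesRangeI iota E 1 2132 4243 = true := by decide +kernel

set_option maxRecDepth 1000000 in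
theorem edges_1_26 : edgesRangeI iota E 1 2086 55076 = true := by decide +kernel

set_option maxRecDepth 1000000 in
theorem edges_1_63 : edgesRangeI iota E 1 2027 128226 = true := by decide +kernel

set_option maxRecDepth 1000000 in
theorem edges_1_86 : edgesRangeI iota E 1 1862 172699 = true := by decide +kernel

set_option maxRecDepth 1000000 in
theorem edges_1_124 : edgesRangeI iota E 1 1691 241216 = true := by decide +kernel

set_option maxRecDepth 1000000 in
theorem edges_2_35 : edgesRangeI iota E 2 2194 77304 = true := by decide +kernel

set_option maxRecDepth 1000000 in
theorem edges_2_67 : edgesRangeI iota E 2 2023 141617 = true := by decide +kernel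

set_option maxRecDepth 1000000 in
theorem edges_2_96 : edgesRangeI iota E 2 1773 197046 = true := by decide +kernel

set_option maxRecDepth 1000000 in
theorem edges_3_5 : edgesRangeI iota E 3 3575 18218 = true := by decide +kernel

set_option maxRecDepth 1000000 in
theorem edges_3_43 : edgesRangeI iota E 3 2362 122425 = true := by decide +kernel

set_option maxRecDepth 1000000 in
theorem edges_3_87 : edgesRangeI iota E 3 1922 223573 = true := by decide +kernel

set_option maxRecDepth 1000000 in
theorem edges_4_31 : edgesRangeI iota E 4 2285 77880 = true := by decide +kernel

set_option maxRecDepth 1000000 in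
theorem edges_4_72 : edgesRangeI iota E 4 2188 171871 = true := by decide +kernel

set_option maxRecDepth 1000000 in
theorem edges_5_12 : edgesRangeI iota E 5 2754 36370 = true := by decide +kernel

set_option maxRecDepth 1000000 in
theorem edges_5_48 : edgesRangeI iota E 5 2166 125358 = true := by decide +kernel

set_option maxRecDepth 1000000 in
theorem edges_5_88 : edgesRangeI iota E 5 2004 217686 = true := by decide +kernel

set_option maxRecDepth 1000000 in
theorem edges_6_18 : edgesRangeI iota E 6 2394 51240 = true := by decide +kernel

set_option maxRecDepth 1000000 in
theorem edges_6_61 : edgesRangeI iota E 6 2473 154192 = true := by decide +kernel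

set_option maxRecDepth 1000000 in
theorem edges_6_115 : edgesRangeI iota E 6 1590 265194 = true := by decide +kernel

set_option maxRecDepth 1000000 in
theorem edges_0_64 : edgesRangeI iota E 0 1868 120218 = true := by decide +kernel

set_option maxRecDepth 1000000 in
theorem edges_0_99 : edgesRangeI iota E 0 1811 184349 = true := by decide +kernel

set_option maxRecDepth 1000000 in
theorem edges_0_135 : edgesRangeI iota E 0 1681 247037 = true := by decide +kernel

set_option maxRecDepth 1000000 in
theorem edges_1_44 : edgesRangeI iota E 1 2010 91259 = true := by decide +kernel

set_option maxRecDepth 1000000 in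
theorem edges_1_70 : edgesRangeI iota E 1 1871 141788 = true := by decide +kernel

set_option maxRecDepth 1000000 in
theorem edges_1_117 : edgesRangeI iota E 1 1731 229252 = true := by decide +kernel

set_option maxRecDepth 1000000 in
theorem edges_2_19 : edgesRangeI iota E 2 2203 43789 = true := by decide +kernel

set_option maxRecDepth 1000000 in
theorem edges_2_46 : edgesRangeI iota E 2 2080 99574 = true := by decide +kernel

set_option maxRecDepth 1000000 in
theorem edges_2_87 : edgesRangeI iota E 2 1852 180428 = true := by decide +kernel

set_option maxRecDepth 1000000 in
theorem edges_2_133 : edgesRangeI iota E 2 1363 254952 = true := by decide +kernel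

set_option maxRecDepth 1000000 in
theorem edges_3_79 : edgesRangeI iota E 3 2064 207922 = true := by decide +kernel

set_option maxRecDepth 1000000 in
theorem edges_4_18 : edgesRangeI iota E 4 2430 47139 = true := by decide +kernel

set_option maxRecDepth 1000000 in
theorem edges_4_58 : edgesRangeI iota E 4 2348 139649 = true := by decide +kernel

set_option maxRecDepth 1000000 in
theorem edges_4_83 : edgesRangeI iota E 4 2110 195846 = true := by decide +kernel

set_option maxRecDepth 1000000 in
theorem edges_4_107 : edgesRangeI iota E 4 1928 243900 = true := by decide +kernel

set_option maxRecDepth 1000000 in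
theorem edges_5_32 : edgesRangeI iota E 5 2313 86861 = true := by decide +kernel

set_option maxRecDepth 1000000 in
theorem edges_5_74 : edgesRangeI iota E 5 2237 187038 = true := by decide +kernel

set_option maxRecDepth 1000000 in
theorem edges_6_15 : edgesRangeI iota E 6 2721 43552 = true := by decide +kernel

set_option maxRecDepth 1000000 in
theorem edges_6_69 : edgesRangeI iota E 6 2233 173028 = true := by decide +kernel

set_option maxRecDepth 1000000 in
theorem edges_0_13 : edgesRangeI iota E 0 2138 24897 = true := by decide +kernel

set_option maxRecDepth 1000000 in
theorem edges_0_20 : edgesRangeI iota E 0 1972 38502 = true := by decide +kernel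

set_option maxRecDepth 1000000 in
theorem edges_0_66 : edgesRangeI iota E 0 1794 123869 = true := by decide +kernel

set_option maxRecDepth 1000000 in
theorem edges_0_105 : edgesRangeI iota E 0 1728 195159 = true := by decide +kernel

set_option maxRecDepth 1000000 in
theorem edges_0_129 : edgesRangeI iota E 0 1685 237015 = true := by decide +kernel

set_option maxRecDepth 1000000 in
theorem edges_1_10 : edgesRangeI iota E 1 2111 21557 = true := by decide +kernel

set_option maxRecDepth 1000000 in
theorem edges_1_35 : edgesRangeI iota E 1 2036 73389 = true := by decide +kernel

set_option maxRecDepth 1000000 in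
theorem edges_1_75 : edgesRangeI iota E 1 1931 151353 = true := by decide +kernel

set_option maxRecDepth 1000000 in
theorem edges_1_108 : edgesRangeI iota E 1 1791 213452 = true := by decide +kernel

set_option maxRecDepth 1000000 in
theorem edges_2_3 : edgesRangeI iota E 2 2445 7451 = true := by decide +kernel

set_option maxRecDepth 1000000 in
theorem edges_2_38 : edgesRangeI iota E 2 1941 83622 = true := by decide +kernel

set_option maxRecDepth 1000000 in
theorem edges_2_70 : edgesRangeI iota E 2 2026 147656 = true := by decide +kernel

set_option maxRecDepth 1000000 in
theorem edges_2_121 : edgesRangeI iota E 2 1560 237984 = true := by decide +kernel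

set_option maxRecDepth 1000000 in
theorem edges_3_6 : edgesRangeI iota E 3 3472 21793 = true := by decide +kernel

set_option maxRecDepth 1000000 in
theorem edges_3_38 : edgesRangeI iota E 3 2649 108465 = true := by decide +kernel

set_option maxRecDepth 1000000 in
theorem edges_3_74 : edgesRangeI iota E 3 1980 197541 = true := by decide +kernel

set_option maxRecDepth 1000000 in
theorem edges_3_107 : edgesRangeI iota E 3 1534 258150 = true := by decide +kernel

set_option maxRecDepth 1000000 in
theorem edges_4_14 : edgesRangeI iota E 4 2522 37263 = true := by decide +kernel

set_option maxRecDepth 1000000 in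
theorem edges_4_48 : edgesRangeI iota E 4 2375 116932 = true := by decide +kernel

set_option maxRecDepth 1000000 in
theorem edges_4_70 : edgesRangeI iota E 4 2177 167526 = true := by decide +kernel

set_option maxRecDepth 1000000 in
theorem edges_4_110 : edgesRangeI iota E 4 1785 249493 = true := by decide +kernel

set_option maxRecDepth 1000000 in
theorem edges_5_9 : edgesRangeI iota E 5 2747 28018 = true := by decide +kernel

set_option maxRecDepth 1000000 in
theorem edges_5_31 : edgesRangeI iota E 5 2242 84619 = true := by decide +kernel

set_option maxRecDepth 1000000 in
theorem edges_5_62 : edgesRangeI iota E 5 2644 159154 = true := by decide +kernel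

set_option maxRecDepth 1000000 in
theorem edges_5_83 : edgesRangeI iota E 5 2209 207040 = true := by decide +kernel

set_option maxRecDepth 1000000 in
theorem edges_6_0 : edgesRangeI iota E 6 2920 0 = true := by decide +kernel

set_option maxRecDepth 1000000 in
theorem edges_6_16 : edgesRangeI iota E 6 2536 46273 = true := by decide +kernel

set_option maxRecDepth 1000000 in
theorem edges_6_44 : edgesRangeI iota E 6 2625 113746 = true := by decide +kernel

set_option maxRecDepth 1000000 in
theorem edges_6_60 : edgesRangeI iota E 6 2419 151773 = true := by decide +kernel

set_option maxRecDepth 1000000 in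
theorem edges_6_86 : edgesRangeI iota E 6 2115 210790 = true := by decide +kernel

set_option maxRecDepth 1000000 in
theorem aliases_3 : aliasRange E 6990 21638 = true := by decide +kernel

set_option maxRecDepth 1000000 in
theorem aliases_12 : aliasRange E 7695 88822 = true := by decide +kernel

set_option maxRecDepth 1000000 in
theorem aliases_20 : aliasRange E 7624 150015 = true := by decide +kernel

set_option maxRecDepth 1000000 in
theorem aliases_28 : aliasRange E 7796 211224 = true := by decide +kernel

set_option maxRecDepth 1000000 in
theorem rows_0 : rowsRange E RS 1500 0 = true := by decide +kernel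

set_option maxRecDepth 1000000 in
theorem rows_2 : rowsRange E RS 1500 3000 = true := by decide +kernel

set_option maxRecDepth 1000000 in
theorem rows_10 : rowsRange E RS 1500 15000 = true := by decide +kernel

set_option maxRecDepth 1000000 in
theorem rows_18 : rowsRange E RS 1500 27000 = true := by decide +kernel

set_option maxRecDepth 1000000 in
theorem rows_26 : rowsRange E RS 1500 39000 = true := by decide +kernel

set_option maxRecDepth 1000000 in
theorem rows_34 : rowsRange E RS 1500 51000 = true := by decide +kernel

set_option maxRecDepth 1000000 in
theorem rows_42 : rowsRange E RS 1500 63000 = true := by decide +kernel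

set_option maxRecDepth 1000000 in
theorem rows_50 : rowsRange E RS 1500 75000 = true := by decide +kernel

set_option maxRecDepth 1000000 in
theorem rows_58 : rowsRange E RS 1500 87000 = true := by decide +kernel

set_option maxRecDepth 1000000 in
theorem rows_66 : rowsRange E RS 1500 99000 = true := by decide +kernel

set_option maxRecDepth 1000000 in
theorem rows_74 : rowsRange E RS 1500 111000 = true := by decide +kernel

set_option maxRecDepth 1000000 in
theorem rows_82 : rowsRange E RS 1500 123000 = true := by decide +kernel

set_option maxRecDepth 1000000 in
theorem rows_90 : rowsRange E RS 1500 135000 = true := by decide +kernel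

set_option maxRecDepth 1000000 in
theorem rows_98 : rowsRange E RS 1500 147000 = true := by decide +kernel

set_option maxRecDepth 1000000 in
theorem rows_106 : rowsRange E RS 1500 159000 = true := by decide +kernel

set_option maxRecDepth 1000000 in
theorem rows_114 : rowsRange E RS 1500 171000 = true := by decide +kernel

set_option maxRecDepth 1000000 in
theorem rows_122 : rowsRange E RS 1500 183000 = true := by decide +kernel

set_option maxRecDepth 1000000 in
theorem rows_130 : rowsRange E RS 1500 195000 = true := by decide +kernel

set_option maxRecDepth 1000000 in
theorem rows_138 : rowsRange E RS 1500 207000 = true := by decide +kernel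

set_option maxRecDepth 1000000 in
theorem rows_146 : rowsRange E RS 1500 219000 = true := by decide +kernel

set_option maxRecDepth 1000000 in
theorem rows_154 : rowsRange E RS 1500 231000 = true := by decide +kernel

set_option maxRecDepth 1000000 in
theorem rows_162 : rowsRange E RS 1500 243000 = true := by decide +kernel

set_option maxRecDepth 1000000 in
theorem rows_170 : rowsRange E RS 1500 255000 = true := by decide +kernel

set_option maxRecDepth 1000000 in
theorem rows_178 : rowsRange E RS 1500 267000 = true := by decide +kernel

end Cfsg.Agent.Helper5.HeXATC
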