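import Cfsg.Agent.Helper5.HeXATCDatD
import Cfsg.Agent.Helper5.HeXATCDatT
import Cfsg.Agent.Helper5.TCIB

/-! kernel checks of the coset table: HeXATC -/

set_option autoImplicit false
set_option Elab.async false

namespace Cfsg.Agent.Helper5.HeXATC
open Cfsg.Agent.Helper5.TC Cfsg.Agent.Helper5.TCI

set_option maxRecDepth 1000000 in
theorem relc_18_1 : fixPtsF W_18 100000 100000 = true := by decide +kernel

set_option maxRecDepth 1000000 in
theorem relc_3_0 : fixPtsF W_3 50000 0 = true := by decide +kernel

set_option maxRecDepth 1000000 in
theorem relc_5_0 : fixPtsF W_5 50000 0 = true := by decide +kernel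

set_option maxRecDepth 1000000 in
theorem relc_9_2 : fixPtsF W_9 50000 100000 = true := by decide +kernel

set_option maxRecDepth 1000000 in
theorem relc_11_4 : fixPtsF W_11 50000 200000 = true := by decide +kernel

set_option maxRecDepth 1000000 in
theorem relc_16_1 : fixPtsF W_16 50000 50000 = true := by decide +kernel

set_option maxRecDepth 1000000 in
theorem relc_23_3 : fixPtsF W_23 50000 150000 = true := by decide +kernel

set_option maxRecDepth 1000000 in
theorem relc_25_2 : fixPtsF W_25 66560 200000 = true := by decide +kernel

set_option maxRecDepth 1000000 in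
theorem relc_19_0 : fixPtsF W_19 33333 0 = true := by decide +kernel

set_option maxRecDepth 1000000 in
theorem relc_20_4 : fixPtsF W_20 33333 133332 = true := by decide +kernel

set_option maxRecDepth 1000000 in
theorem relc_20_7 : fixPtsF W_20 33229 233331 = true := by decide +kernel

set_option maxRecDepth 1000000 in
theorem relc_1_8 : fixPtsF W_1 25000 200000 = true := by decide +kernel

set_option maxRecDepth 1000000 in
theorem relc_29_0 : fixPtsF W_29 20000 0 = true := by decide +kernel

set_option maxRecDepth 1000000 in
theorem relc_29_8 : fixPtsF W_29 20000 160000 = true := by decide +kernel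

set_option maxRecDepth 1000000 in
theorem relc_30_9 : fixPtsF W_30 18181 163629 = true := by decide +kernel

set_option maxRecDepth 1000000 in
theorem relc_31_9 : fixPtsF W_31 12500 112500 = true := by decide +kernel

set_option maxRecDepth 1000000 in
theorem relc_14_0 : fixPtsF W_14 10000 0 = true := by decide +kernel

set_option maxRecDepth 1000000 in
theorem relc_14_9 : fixPtsF W_14 10000 90000 = true := by decide +kernel

set_option maxRecDepth 1000000 in
theorem relc_14_21 : fixPtsF W_14 10000 210000 = true := by decide +kernel

set_option maxRecDepth 1000000 in
theorem inv_1_0 : invRowFI ctF 266560 1 1 50000 0 = true := by decide +kernel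

set_option maxRecDepth 1000000 in
theorem inv_3_2 : invRowFI ctF 266560 3 3 50000 100000 = true := by decide +kernel

set_option maxRecDepth 1000000 in
theorem inv_5_4 : invRowFI ctF 266560 5 5 50000 200000 = true := by decide +kernel

set_option maxRecDepth 1000000 in
theorem relc_11_5 : fixPtsF W_11 16560 250000 = true := by decide +kernel

set_option maxRecDepth 1000000 in
theorem relc_29_13 : fixPtsF W_29 6560 260000 = true := by decide +kernel

end Cfsg.Agent.Helper5.HeXATC
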