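import Cfsg.Agent.Helper5.TC2A

/-! generated coset table (generator 0): HeXBTC -/

set_option autoImplicit false
set_option Elab.async false

namespace Cfsg.Agent.Helper5.HeXBTC
open Cfsg.Agent.Helper5.TC

def ct0_0 : ℕ := 0x13900013a00013600013400013800013100013700012b00013000013500013200012700012100012c00012d00013300011b00012200011c00012f00011d00011f00011100010500012900012e00010300012500010000012600012800012a0001040000f80000fb0000f10000fa0000ef0000ed0000f200010e0001240000fe0000ff0001120000e60000e50000e90001080000e100010a0000df00010100012300011a0001200000da00010600011e00010f0001100000f40000f30001180001160000e80001190000d10000d30000d40000fd0000fc0001130001170000ee0001150000f00001140000cd0000cc0000ce00010b0000f90000d600010d00010c0000c20000c50000e00001090000e20001070000d50000d80000d70000bf0001020000b60000dd0000dc0000e70000de0000f50000f60000c40000f70000b10000b20000ea0000ec0000eb0000c90000c80000cb0000ca0000ab0000ac0000e30000d20000b40000e40000a20000a40000db0000bc0000bb0000be0000bd0000ad0000990000b30000b50000d90000b70000c30000b80000cf0000d00000a30000900000910000ba0000c60000c70000a90000aa00009500008500008a00008b0000c00000b00000c100008300008200009400007f00007d00009b00009c0000860000b90000920000930000870000a800009f0000970000980000ae0000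af0000730000720000760000750000a50000a600008800008900009600009a0000a700006e0000a10000a000006700007e00009e00008000009d00007b00007c00006a00006900007400006b00008d00008c00007800008f00008e00005900005c00005b00008400006c00006d00007700007a00007900005500008100004c00006300006200006500006400006000006100004d00005a00004e00007000006f00005e00007100003f00004100004000006800004900005000004700004600005300003900005d00005f00006600004a00004b00005400004500005200005100004800003100003700003800005700005600005800002f00002e00003400003300003200004f00004200004300003500003600003c00003b00003a00004400002900003e00003d00002200002600002500002400003000002700002800002c00002b00002a00001e00002d00001500001700001600002300001d00001900001b00001a00001c00000f00002000001f00002100000e00000d00001200001100001000001800001400001300000800000b00000a00000900000c000004000006000005000007000003000002000001000000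
def ctSel0 (c : ℕ) : ℕ := ct0_0
def ct0F (v : ℕ) : ℕ := Nat.rec (motive := fun _ => ℕ) 0 (fun c _ => Nat.mod (Nat.shiftRight (ctSel0 c) (Nat.mul 24 (Nat.mod v 682))) 16777216) (Nat.add (Nat.div v 682) 1)

end Cfsg.Agent.Helper5.HeXBTC
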