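import Cfsg.Agent.Helper5.TC2A

/-! generated certificate data (A): HeXBTC -/

set_option autoImplicit false
set_option Elab.async false

namespace Cfsg.Agent.Helper5.HeXBTC
open Cfsg.Agent.Helper5.TC

def par_0 : ℕ := 0x13900013700013600013400013200013000012c00012b00012a00012800012300012200012200012100011c00011c00011c00011b00011100011100011000010c0001060001060001040001040001030001010001010000ff0000ff0000ff0000f90000f50000f20000f20000f10000f00000ee0000ec0000ec0000ea0000e80000e70000e60000e50000e50000e40000e30000e20000e10000e00000dd0000dd0000db0000db0000da0000d80000d80000d70000d70000d60000d60000d50000d40000d30000d20000d20000d00000d00000cf0000ce0000cd0000cd0000cb0000cb0000c90000c90000c80000c80000c70000c60000c50000c40000c30000c30000c20000c10000be0000be0000bc0000bc0000b90000b80000b80000b70000b70000b70000b60000b60000b50000b40000b30000b20000b10000b10000b00000af0000ad0000ac0000ac0000ab0000ab0000aa0000aa0000a70000a60000a50000a40000a30000a30000a30000a10000a100009d00009d00009c00009c00009a00009a00009800009800009800009400009400009300009200009100009100008f00008f00008e00008b00008b00008a00008900008500008500008400008300008200008200008200008100008100008000007f00007d00007c00007b00007900007900007800007800007700007600007500007400007300007200007200007100007100007000006f00006e00006e00006d00006c00006b00006a000069000069000068000067000067000066000064000064000062000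06200006100006000005f00005f00005e00005d00005c00005b00005a00005900005900005800005700005600005500005300005000004e00004d00004d00004c00004c00004c00004b00004b00004a00004a00004800004500004300004300004200004100004000003f00003f00003f00003d00003d00003d00003c00003c00003b00003a00003900003900003700003700003700003600003500003400003400003300003200003100003100003000002f00002e00002e00002e00002d00002d00002c00002b00002a00002a00002900002900002800002700002600002500002400002400002300002200002200002100002000001f00001f00001e00001c00001900001700001600001600001500001500001500001300001300001300001200001200001100001000000f00000f00000d00000d00000d00000c00000c00000b00000a000009000009000008000008000007000006000005000005000004000004000002000002000002000001000001000000000000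
def parSel (c : ℕ) : ℕ := par_0
def parF (v : ℕ) : ℕ := Nat.rec (motive := fun _ => ℕ) 0 (fun c _ => Nat.mod (Nat.shiftRight (parSel c) (Nat.mul 24 (Nat.mod v 682))) 16777216) (Nat.add (Nat.div v 682) 1)
def gen_0 : ℕ := 0x3000300020002000200030002000300030003000300040000000100040003000000020003000100020001000400000004000100020004000000040003000100030001000400000003000000000004000100010002000300040004000200020003000000030000000400010004000200030004000100040002000400020001000200030004000000040002000200030004000100040001000400010004000200030002000300030004000200030003000400010004000100030004000200040003000000040002000300030002000300040001000400030003000400020004000200040002000300020003000400040003000000040001000400020004000200040000000400030001000300010002000300040002000300010001000400030003000300040000000200030004000300010004000200030000000000030003000400010004000200020001000200020003000400030004000200020003000400020002000200020003000400010003000400020003000400010004000100020002000400020003000300020003000300040002000300030004000300030003000300040002000400030000000400020004000200030003000300010002000300040004000300000004000300010003000100020003000400000004000300010003000300030001000200030004000000020003000400030001000400020002000300040001000400020002000200020003000400010003000400020003000300040002000300030003000300040002000400030000000400030001000300010002000300040000000400030001000400020002000300040001000400020003000300040002000300000004000300010004000200030000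
def genSel (c : ℕ) : ℕ := gen_0
def genF (v : ℕ) : ℕ := Nat.rec (motive := fun _ => ℕ) 0 (fun c _ => Nat.mod (Nat.shiftRight (genSel c) (Nat.mul 16 (Nat.mod v 1024))) 65536) (Nat.add (Nat.div v 1024) 1)

end Cfsg.Agent.Helper5.HeXBTC
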