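import Cfsg.Agent.Helper5.TC2A

/-! generated certificate data (ranks of generator 0): HeXBTC -/

set_option autoImplicit false
set_option Elab.async false

namespace Cfsg.Agent.Helper5.HeXBTC
open Cfsg.Agent.Helper5.TC

def rk0_0 : ℕ := 0x4040004050003fa0003f40003fb0003ea0003f50003e40003de0003eb0003df0003d20000000003c90003c80003e50000000003b40003ae0003d30003a60003a000039a0000000003b500000000038c0003a10000000003a70003af00000000037a00037200036a00000000035a00000000000000034400034100039b00033a00033400034000032c00032800032200031e00000000031f00000000030800000000037b00038d00030000030900000000033500033b0002f40002ec00036b00035b0002e40003730000000002d00002cc0002f50002ed0003450000000002be0000000002bf0000000002b60002b20002ae0003230002e50002a800032d0003290002a20002a000029c00000000029d00000000029400029200028e00028800030100000000029300028f0002a90002950002cd0002d100027600000000027000026c0002af0002b70002b300026000025e00026100025f0002580002520002a100027700024c0002a300000000024000028900023a00023800023b00023900023000000000022600022400000000022500024d00022700026d00027100021a0002160002130002310002530002590002060002070001fe0000000001f60001f000024100021b0000000001e60001e40001de0000000000000001ce0001cf0001c60000000001be0001bc0001b40001ff0001df0001bd0001bf0002120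002170001a800019e00019c0001980001f10001f700018e00018fffffff0001b50001c70000000001800001e70001e500017a00017600000000017700000000016c00016d00016800016400016000015c00019d0001990001610001a900019f00015400015200014e00018100014600014700015d00016900016500013a00017b00000000012c00012a00012d00012b00012200012300011e00011d00011200015300014f00011c00015500000000010600010200013b0000e80000ee0000e40000e00000ef00000000011300011f0000000000d40000d50000e90000f30000e50000e10000f20000000000ca0000c40001070001030000000000ba0000b80000b60000b20000ae0000000000c50000cb0000a40000a50000b70000b30000af0000000000980000bb0000b900009200009000008e00008a00009900008200008300009100008f00008b00007800009300000000006c00006a00007900005800005e00005400005000005f00000000006d00006b00000000004200004000003e00003a00003600000000004300004100002e00002c00002a00002600002f00000000001a00001800000000001000000e00000a000002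
def rkSel0 (c : ℕ) : ℕ := rk0_0
def rk0F (v : ℕ) : ℕ := Nat.rec (motive := fun _ => ℕ) 0 (fun c _ => Nat.mod (Nat.shiftRight (rkSel0 c) (Nat.mul 24 (Nat.mod v 682))) 16777216) (Nat.add (Nat.div v 682) 1)

end Cfsg.Agent.Helper5.HeXBTC
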