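import Cfsg.Agent.Helper5.TC2A

/-! generated certificate data (ranks of generator 1): HeXBTC -/

set_option autoImplicit false
set_option Elab.async false

namespace Cfsg.Agent.Helper5.HeXBTC
open Cfsg.Agent.Helper5.TC

def rk1_0 : ℕ := 0x4060004000003fc0003f60003f00003ec0003e80003e60003e70003da0003ed0003d40003ca0000000003be0003bc0003ba0003bb0003db0000000003cb00000000039c0003940003d500000000000000038a0003880003bf0003bd00000000037c00000000036c00036200035c00035200034e00034600000000000000000000033600035d00032e00034700000000038900031800039500031000039d00000000030400000000030200038b0000000002fa00000000032f0002f300000000036300037d0002e20002d60002d20002ce0000000002c800036d00000000035300000000034f0000000002f20000000002b00000000003370002aa0002a60002cf0002a40003030003190000000003110000000002d700030500000000028a0002860002800002fb00000000027c0002a50000000002c90002e30000000002d300026e00026a00026800000000026200000000025a0000000002b10002540002ab0002a700024e00024a00024600028100000000023c00000000023600000000023200022a00028b00028700000000027d00000000024700026b00026900000000026f00000000000000020c00020a0002080002040002000001fa0002550001f200024f00024b0000000001e800000000022b0001d80001d40001d00001cc0002330000000001c00000000001ba0000000001fb0000000001ac00020d00020b0001bb0000000000000001e900019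600019400019000018affffff0001f300020100000000018200017e00000000017c0001d90000000001d500000000016e00016a0001c100000000016200015e0000000001ad00015800015600019500015f00017d00019700014c00014800014200018300017f00000000013c00013800013200012e00000000012600000000012400012000016300000000011400015900015700010e00010c00011500013300014d0000000001490000000000f50001430000de0000f400013d0001390000000000d60000d20001250000000000f80001210000cc0000f90000000000c600010f00010d0000000000bc0000000000000000bd0000df0000000000aa0000000000a60000a00000000000c70000cd00000000009a0000960000000000940000950000ab00000000008800008400007e00009b00009700000000007a00007600007200007300008900000000008500000000006300007f00004e00006200007b00007700000000004400000000000000004500004f00000000003200000000003000003100003300000000002400002000002100002500000000001200000000000c000004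
def rkSel1 (c : ℕ) : ℕ := rk1_0
def rk1F (v : ℕ) : ℕ := Nat.rec (motive := fun _ => ℕ) 0 (fun c _ => Nat.mod (Nat.shiftRight (rkSel1 c) (Nat.mul 24 (Nat.mod v 682))) 16777216) (Nat.add (Nat.div v 682) 1)

end Cfsg.Agent.Helper5.HeXBTC
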