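import Cfsg.Agent.Helper5.TC2A

/-! generated certificate data (ranks of generator 2): HeXBTC -/

set_option autoImplicit false
set_option Elab.async false

namespace Cfsg.Agent.Helper5.HeXBTC
open Cfsg.Agent.Helper5.TC

def rk2_0 : ℕ := 0x4080004020000000000000000000000000000000000000003e00000000003d80003d60003cc0003c20003c00000000003b80000000003b00003ac0000000003c30003d70003cd0003920003900000000003c10003b900038400038200038000000000037400036e00036400035e00035400034c00034800033c0003ad00000000000000033200033d00000000000000032000031a00031600030e00030a0003910003930000000000000002fe0003810003850000000002f600000000037500000000032100036f00036500035f0000000000000002db0002c60002c20002c00002bc0002ba0002b80003490000000002f700000000031700000000033300000000000000000000029e00029a0002980002960002da00030b00000000028c0000000002820002ff0000000000000000000000000000000002780002c30002720000000000000002c70000000002c10000000002bb00000000000000000000000000027300025000000000024400024200023e00029f00000000029900000000028d00028300022800000000022200000000022000000000000000027900000000021800021000023f00020e0000000000000000000002510002450000000000000001ee0002190001ec0002430000000001e20001da0001d20000000000000001c80002230002290000000000000002210000000000000000000001aa0000000002110000000000000001e300020f0000000000000000000000000001a40001860001ed0000000001ef000000000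0000001780001740001720001700000000000000001c90000000000000000000000000000000000000001ab00000000000000000000015000000000000000000000000000018700000000013e00000000013400017900000000017300000000000000000000000000011800000000000000015100011000000000010a0001080001040000ec0000ea0000ed00000000010000013f0001350000da0000000000d80000000000000000d00001190000000000fe00011100010b0000000000000000c20001050000c00001090000000000000000000000b00000d90000db00000000000000000000000000000000009c0000c10000000000c30000000000000000000000b100000000000000000000000000000000009d00000000007c00000000007000006e00000000005c00005a00005d00000000006800007d00007100004a00000000004800006f00000000000000000000003800004900004b00000000000000000000003900000000000000001e00001c00000000001600001d000000000000000006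
def rkSel2 (c : ℕ) : ℕ := rk2_0
def rk2F (v : ℕ) : ℕ := Nat.rec (motive := fun _ => ℕ) 0 (fun c _ => Nat.mod (Nat.shiftRight (rkSel2 c) (Nat.mul 24 (Nat.mod v 682))) 16777216) (Nat.add (Nat.div v 682) 1)

end Cfsg.Agent.Helper5.HeXBTC
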