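import Cfsg.Agent.Helper5.TC2A

/-! generated certificate data (ranks of generator 3): HeXBTC -/

set_option autoImplicit false
set_option Elab.async false

namespace Cfsg.Agent.Helper5.HeXBTC
open Cfsg.Agent.Helper5.TC

def rk3_0 : ℕ := 0x3f80000000000000003f90000000000000000000000000000000003ce0003c40003cf0000000000000000000000000000000003aa0003a200039e0003960000000003c500038e0003a30003860003ab00000000000000000000037600037000036600000000035600036700034b00033e00039f00000000000000035700033000032a00032400000000038700000000039700030d00030600037700038f0000000003250002fc0003310000000002f80002f00003710002eb0000000000000002d80002d400034a0002e10000000002de0002c400000000033f0002ea0002c50002f10002b400000000030c00000000000000000000032b0000000000000000000002fd0000000003070000000002e00002900002d90000000000000002f900027e0000000000000002df0000000000000002740002d50000000000000000000002660002640002b500025c00026700000000000000000000000000000000000000000000000000027500026500027f00025d00029100023400022c00000000000000000000000000000000000000000000000000021c0000000000000002350000000000000000000000000002020001f80000000000000000000000000000000001ea00021d00000000022d0001f90000000000000001cb0001c40001c20000000001b60002030001b30000000000000000000000000001c30000000001ca0000000001eb000000000000000000ffffff0000000001a70001840000000000000000000000000000000001c50001b2000185000000000000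0001b70001660000000000000001a60000000000000000000000000000000000000000000000000000000000000000000000000001400000000000000000000001300001670001280001410000000000000000000000000000000000000000000000000000000000000000000000000000000000000000000000fa0000000000000000dc0000000000000000000000000000000000000000000000fb0000000000000000dd0000000000000000000000000000000000be0000000000000000000000000000ac0000bf0000000000000000000000000000000000000000ad00000000000000000000000000000000000000008c00000000000000000000000000000000008d00000000000000000000000000000000000000000000000000006400000000000000004c000000000000000000000046000000000000000000000000000034000047000000000000000000000000000028000000000000000000000000000000000014000000000000000000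
def rkSel3 (c : ℕ) : ℕ := rk3_0
def rk3F (v : ℕ) : ℕ := Nat.rec (motive := fun _ => ℕ) 0 (fun c _ => Nat.mod (Nat.shiftRight (rkSel3 c) (Nat.mul 24 (Nat.mod v 682))) 16777216) (Nat.add (Nat.div v 682) 1)

end Cfsg.Agent.Helper5.HeXBTC
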