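import Cfsg.Agent.Helper5.TC2A

/-! generated certificate data (ranks of generator 4): HeXBTC -/

set_option autoImplicit false
set_option Elab.async false

namespace Cfsg.Agent.Helper5.HeXBTC
open Cfsg.Agent.Helper5.TC

def rk4_0 : ℕ := 0x40a00040b0003fe0003ff0003f20003ee0003f30003ef0003e20003dc0003e30000000003d10003c60000000003dd0003c70003b60003b20003d00003a80003a40000000003990000000000000003b70000000003a50000000003b300000000037e0003780000000003690003600003580003500000000003430003980003a900033800000000000000034200032600032700031c00031400031200000000000000000000000000037f0000000000000000000000000000000002ee0003680002e80002e60000000003790000000003610002dc0002ca0000000000000000000003590000000003510000000000000002ef0003150002ac0003390000000000000000000002e700000000031d0000000003130002dd0000000000000000000000000002850000000000000000000000000002e900027a0000000000000000000000000002cb0000000000000000000000000000000000000000000002560002ad00000000000000000000024900000000028400000000000000000000000000000000022f00000000000000000000000000024800021e00027b00000000000000000000021500022e0000000000000000000000000000000001fd0002570001f40000000000000000000000000000000001e00001dc0001d60000000000000000000000000000000000000001b90001fc0001b000021f0001ae0000000000000000000002140001e100019a00000000000000019200018c0001a00001880000000000000001f5000000000000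0000000000000001dd0000000001d700019300018d0000000000000000000001b80001b100015a0001af00000000000000000000019b00000000000000014a00014400018900000000000000000000000000013700000000000000000000000000014b00014500000000011a00011600015b00000000000000000000011b0000000000000001360000fd0000f00000e60000e20000000000f10000000000000000000000000000000000fc0000f60000ce0000e30000000000f70001170000c80000000000000000000000000000000000e70000b40000000000000000000000000000a80000a20000cf00009e0000000000000000c90000000000000000000000b500000000000000000000008600008000009f00000000000000000000000000007500000000000000007400006600006000005600005200000000006100000000000000000000000000000000005700003c00000000000000000000000000000000003d000000000000000000000022000000000000000023000000000000000000000008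
def rkSel4 (c : ℕ) : ℕ := rk4_0
def rk4F (v : ℕ) : ℕ := Nat.rec (motive := fun _ => ℕ) 0 (fun c _ => Nat.mod (Nat.shiftRight (rkSel4 c) (Nat.mul 24 (Nat.mod v 682))) 16777216) (Nat.add (Nat.div v 682) 1)

end Cfsg.Agent.Helper5.HeXBTC
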