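import Cfsg.Agent.Helper5.TC2A

/-! generated certificate data (targets of generator 1): HeXBTC -/

set_option autoImplicit false
set_option Elab.async false

namespace Cfsg.Agent.Helper5.HeXBTC
open Cfsg.Agent.Helper5.TC

def tg1_0 : ℕ := 0x13b00013a00013900013800013700013100013500013300013400012900013600012300012700012100011e00011d00012a00012b00013200011100012f00010c00010700010900013000010400012e00010200010b00012d00012c0000ff0000fa0000f50000f30000fb00010f0000f10000ef00010d0000ec0000ea0001280000e90001170000fe00011400012600011f0000e30001240000e10001250000dd0000de0001220000e40001200000d80000d900011c00010e0000ed0000d500011800011b0000d30000df0000d10000e600011a0000d40001190000cd0001160000cb0001150000c90000fd0001130000c80001120001100000c60000c50000f60000d600010300010a0000be0001080000bc0000f80001050001060000b90000b80000c10001000001010000b60000e50000fc0000f40000f90000b10000f70000b00000b30000b20000f20000cc0000f00000ca0000ee0000eb0000a70000e80000e70000a50000a40000b40000da0000a10000bf0000e20000bd0000e000009b0000a00000dc0000db0000980000d70000940000c20000cf0000ce0000d20000d000008f00008e0000920000910000ab0000aa0000860000950000c70000870000c40000c300008200008d0000c00000ba00008000007e00009d00009c0000bb00007900007a0000b70000900000760000a80000b50000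750000ad0000ac0000970000af0000ae0000a200006f00007200008a0000890000000000a60000a900006900006b00006a0000a300007000009f00006400009e00006200007c00007b00009900009a00005f00007100009600009300005c00005b00008b00007700008100008c00005600005400005100008400008300008500004e00004d00005700006500007f00006300007d00004900004600007800004300005800007400007300004100004000005d00006600006e00003d00006d00003c00004f00006c00003a00005200006800006700003700004b00004a00006100003400004400006000003200004700005e00003300005a00005900002e00003b00005500005300003e00005000002a00002b00004c00003600003500004800004200004500002400002600002500003f00002c00002d00003800003900001f00001d00001a00003000002f00003100001700001600002000002100002900001300002800001200001800002700001000001b00002300002200000d00001100001e00001c00001400001900000900000a00001500000b00000c00000e00000f000005000006000007000008000002000003000004000001000000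
def tgSel1 (c : ℕ) : ℕ := tg1_0
def tg1F (v : ℕ) : ℕ := Nat.rec (motive := fun _ => ℕ) 0 (fun c _ => Nat.mod (Nat.shiftRight (tgSel1 c) (Nat.mul 24 (Nat.mod v 682))) 16777216) (Nat.add (Nat.div v 682) 1)

end Cfsg.Agent.Helper5.HeXBTC
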