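import Cfsg.Agent.Helper5.TC2A

/-! generated certificate data (targets of generator 2): HeXBTC -/

set_option autoImplicit false
set_option Elab.async false

namespace Cfsg.Agent.Helper5.HeXBTC
open Cfsg.Agent.Helper5.TC

def tg2_0 : ℕ := 0x13b00013a00013600013400013200013900012c00013800013300013700013100012500012400012600012000013500011f00011b00012900011200011000012e00013000012f00010500010600010300012d00012b00010000011d00010100012a0000fc0000f90000f80000f70001160001150000ed00010e0001280000e80001270000e70001130000e50000e40000fa00010a0000e90001080000de0001220001230000db0001210000d900011c00011e0000d70000eb0000d600011a0000d400010b0001190001180001170000d00000cf0000df0000ce0000d20000cc0000f00000ca0000ee0001140000c80000fe0000c600010900011100010f0000c300010d00010c0000bf0000e20000bd0000e00000f40001070000b80000bb0001040000ba0001020000b60000ff0000fd0000b30000fb0000b20000f20000c50000f60000f50000f30000ac0000f10000ab0000ef0000aa0000ec0000a60000ea0000d10000a90000e60000a80000a20000ae0000e300009d0000e100009c0000dc0000da0000990000dd00009a0000d80000960000930000d50000d30000910000a40000900000c000008c0000cd0000cb0000c90000c40000c20000840000c70000830000b00000850000c100008100008d00009f00009e0000be0000bc00007a0000b70000b90000780000770000b500007500007400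00b40000730000b10000af0000710000700000a00000ad00006e00006d00006c00006b00006b00006a0000a30000a70000a50000670000a100006500007f00006300007d00006100006000009b00005f00009800009700005c00009500009400009200005900008f00008e00005b00008b00008a00008900008800008600004d00005000008200004f00008000004b00007e00004a00007c00007b00007900004800004200007600006f00004500007200004400003e00004000005300005400005500003b00005100006800006600003800006900003900006400006200004900005e00003300004600005a00005800003000005d00002f00005600003100005700002d00002c00005200002b00004c00004e00002900002800002700002600004700002500003f00004300004100002200003d00003c00003a00001f00003700003600003500003400003200001600001900002e00001800001400002a00001c00001d00001e00001100001a00002300002100000e00002400000f00002000000c00000b00001b00000a00001500001700000800001300001200001000000500000d000007000003000009000004000006000001000002000000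
def tgSel2 (c : ℕ) : ℕ := tg2_0
def tg2F (v : ℕ) : ℕ := Nat.rec (motive := fun _ => ℕ) 0 (fun c _ => Nat.mod (Nat.shiftRight (tgSel2 c) (Nat.mul 24 (Nat.mod v 682))) 16777216) (Nat.add (Nat.div v 682) 1)

end Cfsg.Agent.Helper5.HeXBTC
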