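import Cfsg.Agent.Helper5.TC2A

/-! generated certificate data (targets of generator 3): HeXBTC -/

set_option autoImplicit false
set_option Elab.async false

namespace Cfsg.Agent.Helper5.HeXBTC
open Cfsg.Agent.Helper5.TC

def tg3_0 : ℕ := 0x13900013700013b00013500013a00013000013800012b00012a00012800012300013600012d00012200012f00011c00013400013300011100013200011e00012000011200010800013100012e00010400012600010a0001270000ff00012c0000f90001050000fc0001150000f100010f0001180000f60000f00001250001290000e70001160001000000e60001020000e300011f0000e10001240000ea0000e000011a0001210000da00010c0000e200010e00011d0000d90000ed0001190000ef0000d300011b0000dc0000d10001140000de0000ce0000d50000ee0001170001130000fb0000f20000fd0000cb0000c70001070000c50000c400011000010d0000c20000c100010b0001010001090001060000b90000f50000bc0000f80000b70001030000fe0000be0000b50000b40000f30000b20000fa0000c00000f70000af0000ad0000f40000c90000bf0000ec0000bd0000cd0000a70000eb0000a50000e90000e80000a30000e50000e40000d20000cc0000d80000ca0000dd0000ae00009f0000df0000980000db0000940000d70000d60000920000d40000a100008f0000d00000bb0000cf00008b00008a00008900009600009e0000c80000830000c60000820000c300008c0000b10000800000ba0000a800007c00007b00008e00007f0000900000b800007a0000a900007e0000b60000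730000b30000720000990000b000009b00006f0000a20000ac0000ab0000aa00000000006a00007600007d0000680000a60000a40000660000a000009a00009500008500009d00009c00009700006400005e00005d00008600005b00005a00009300009100005800005700008d00005500005300005000004e00008700006200008400004c00008100006500007900006300006900004800004500004300007800007700004100007500007400003f00007100007000003d00006e00003c00006d00004700003a00006c00004400006b00003700006700003600003500003400006100005200003200006000004f00005f00002f00005c00002e00005900003800005600005400002b00005100003100003e00004d00004b00004a00004900002500004600003900002300004200004000002100002000003b00002400001e00001c00001900001700003300002a00003000001500002d00002c00001300002900001200002800001b00001000002700001800002600000d00002200000e00001f00001d00000a00001a00000f00001400001600000700000600001100000900000400000c00000b000002000008000003000005000000000001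
def tgSel3 (c : ℕ) : ℕ := tg3_0
def tg3F (v : ℕ) : ℕ := Nat.rec (motive := fun _ => ℕ) 0 (fun c _ => Nat.mod (Nat.shiftRight (tgSel3 c) (Nat.mul 24 (Nat.mod v 682))) 16777216) (Nat.add (Nat.div v 682) 1)

end Cfsg.Agent.Helper5.HeXBTC
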