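import Cfsg.Agent.Helper5.TC2A

/-! generated certificate data (targets of generator 4): HeXBTC -/

set_option autoImplicit false
set_option Elab.async false

namespace Cfsg.Agent.Helper5.HeXBTC
open Cfsg.Agent.Helper5.TC

def tg4_0 : ℕ := 0x13a00013b00013800013900013500013400013700013600013100012c00013300012200012800012b00011c00013200012e00012100011d00012f00011100011f00010600011200010400013000012a0001010001260000ff00012900012d0001030000f80000f20000fc0000f60000f00000ee0000ec00010d0001240001270000e80000e60000e500011300010b00010c0000e20000ea0000e00000dd0001250000db00012300011b0000d80001200000d700011e0000d60000eb0001180000d50000e40000d200011a0000d00001170000df0000cf0000cd0001190000cb0001160000c90001150000c80001140000fd0001090000c60001100000c300010f00010e0000fa0000be00010a0000bc0001080000f50000b80001070000b70001050000c00000b60001020001000000fe0000fb0000b30000b10000f90000b00000f70000f40000ac0000f30000ab0000f10000aa0000ef0000ed0000a70000e90000a40000a30000e70000b50000a10000da00009d0000e300009c0000e100009a0000ae0000980000de0000dc0000d90000c20000940000d40000910000d30000d100008f0000ba00008b0000ce0000cc0000ca0000850000960000c70000840000820000c50000c40000810000c100008e00007f00007d0000bf0000bd0000790000bb0000780000b90000770000a80000760000b400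00740000720000b20000710000af0000a000007000006e0000ad00007c00007b00006b00006b0000690000a90000a60000670000a50000a200006400009f00006200009e00008a00008900005f00009b00009900009700009500005c00009300005900009200009000008d00005600008c00006100006000008700004d00008600004c00008300005500004b00008000004a00007e00006d00006c00007a00005800004300007500004000003f00007300005e00003d00006f00006600004900004f00003c00004600003900005300003700006a00006800006500006300005400004400003400005100003100004800005d00003000002e00005b00005a00002d00005700005200002c00002a00005000002900004e00003600003500004700002600002400004500004200002200004100003e00003b00001f00003a00003800002800002700003300001600003200001500002f00001e00001300002b00002100001d00001800001200001a00000f00001c00000d00002500002300000c00002000001b00000b00000900001900000800001700001400001100000500001000000e00000400000200000a000007000001000006000003000000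
def tgSel4 (c : ℕ) : ℕ := tg4_0
def tg4F (v : ℕ) : ℕ := Nat.rec (motive := fun _ => ℕ) 0 (fun c _ => Nat.mod (Nat.shiftRight (tgSel4 c) (Nat.mul 24 (Nat.mod v 682))) 16777216) (Nat.add (Nat.div v 682) 1)

end Cfsg.Agent.Helper5.HeXBTC
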