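import Cfsg.Agent.Helper5.TC2A

/-! generated certificate data (targets of generator 0): HeXBTC -/

set_option autoImplicit false
set_option Elab.async false

namespace Cfsg.Agent.Helper5.HeXBTC
open Cfsg.Agent.Helper5.TC

def tg0_0 : ℕ := 0x13a00013b00013700013500013900013200013800012c00013100013600013300012800012200012d00012e00013400011c00012300011d00013000011e00012000011200010600012a00012f00010400012600010100012700012900012b0001050000f90000fc0000f20000fb0000f00000ee0000f300010f0001250000ff0001000001130000e70000e60000ea0001090000e200010b0000e000010200012400011b0001210000db00010700011f0001100001110000f50000f40001190001170000e900011a0000d20000d40000d50000fe0000fd0001140001180000ef0001160000f10001150000ce0000cd0000cf00010c0000fa0000d700010e00010d0000c30000c60000e100010a0000e30001080000d60000d90000d80000c00001030000b70000de0000dd0000e80000df0000f60000f70000c50000f80000b20000b30000eb0000ed0000ec0000ca0000c90000cc0000cb0000ac0000ad0000e40000d30000b50000e50000a30000a50000dc0000bd0000bc0000bf0000be0000ae00009a0000b40000b60000da0000b80000c40000b90000d00000d10000a40000910000920000bb0000c70000c80000aa0000ab00009600008500008b00008c0000c10000b10000c200008300008200009500007f00007d00009c00009d0000860000ba0000930000940000870000a90000a00000980000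990000af0000b00000730000720000760000750000a60000a700008900008a00000000009700009b0000a800006e0000a20000a100006700007e00009f00008000009e00007b00007c00006a00006900007400006b00008e00008d00007800009000008f00005900005c00005b00008400006c00006d00007700007a00007900005500008100004c00006300006200006500006400006000006100004d00005a00004e00007000006f00005e00007100003f00004100004000006800004900005000004700004600005300003900005d00005f00006600004a00004b00005400004500005200005100004800003100003700003800005700005600005800002f00002e00003400003300003200004f00004200004300003500003600003c00003b00003a00004400002900003e00003d00002200002600002500002400003000002700002800002c00002b00002a00001e00002d00001500001700001600002300001d00001900001b00001a00001c00000f00002000001f00002100000e00000d00001200001100001000001800001400001300000800000b00000a00000900000c000004000006000005000007000003000002000001000000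
def tgSel0 (c : ℕ) : ℕ := tg0_0
def tg0F (v : ℕ) : ℕ := Nat.rec (motive := fun _ => ℕ) 0 (fun c _ => Nat.mod (Nat.shiftRight (tgSel0 c) (Nat.mul 24 (Nat.mod v 682))) 16777216) (Nat.add (Nat.div v 682) 1)

end Cfsg.Agent.Helper5.HeXBTC
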