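import Cfsg.Agent.Helper5.TC2A

/-! generated certificate data (events 0): HeXKTC -/

set_option autoImplicit false
set_option Elab.async false

namespace Cfsg.Agent.Helper5.HeXKTC
open Cfsg.Agent.Helper5.TC

def ev_0 : ℕ := 0x81e0000000800760000003c081e0000002008020000006428760000006808020000003800790000002028790000003c088100000068088100000068082d00000020084500000020084100000020042100000020008100000008084500000040081e00000050081e0000001008020000000c184e0000000408250000000c082d00000008086600000048081e0000001808360000001c080200000004185200000058083600000044081e0000001408020000002c10160000003008810000002c00710000003408660000006000030000006008660000000408360000000c0802000000102c7a000000540c410000000c04810000000c04450000000c04410000000c043d00000008048100000008042d00000008042900000008042500000004048100000004041900000004041500000004041100000004040d000000040409000000000481000000000000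
def evSel0 (c : ℕ) : ℕ := ev_0

end Cfsg.Agent.Helper5.HeXKTC
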