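import Cfsg.Agent.Helper5.TC2A

/-! generated certificate data (targets of generator 1): HeXKTC -/

set_option autoImplicit false
set_option Elab.async false

namespace Cfsg.Agent.Helper5.HeXKTC
open Cfsg.Agent.Helper5.TC

def tg1_0 : ℕ := 0xf00000f00000000000000000000000000000300000700000600000500000400001a000002000000000000000000000000000000000001000013000012000011000010000014000000000008000002
def tgSel1 (c : ℕ) : ℕ := tg1_0
def tg1F (v : ℕ) : ℕ := Nat.rec (motive := fun _ => ℕ) 0 (fun c _ => Nat.mod (Nat.shiftRight (tgSel1 c) (Nat.mul 24 (Nat.mod v 682))) 16777216) (Nat.add (Nat.div v 682) 1)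

end Cfsg.Agent.Helper5.HeXKTC
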