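import Cfsg.Agent.Helper5.HecTCDatD

/-! kernel checks of edges, aliases, rows: HecTC -/

set_option autoImplicit false
set_option Elab.async false

namespace Cfsg.Agent.Helper5.HecTC
open Cfsg.Agent.Helper5.TC

set_option maxRecDepth 1000000 in
theorem edges_5_0 : edgesRange E 5 5410 0 = true := by decide +kernel

set_option maxRecDepth 1000000 in
theorem edges_4_0 : edgesRange E 4 5038 0 = true := by decide +kernel

set_option maxRecDepth 1000000 in
theorem edges_6_0 : edgesRange E 6 5411 0 = true := by decide +kernel

set_option maxRecDepth 1000000 in
theorem aliases_0 : aliasRange E 4501 0 = true := by decide +kernel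

set_option maxRecDepth 1000000 in
theorem edges_2_0 : edgesRange E 2 4369 0 = true := by decide +kernel

set_option maxRecDepth 1000000 in
theorem edges_1_0 : edgesRange E 1 3790 0 = true := by decide +kernel

set_option maxRecDepth 1000000 in
theorem edges_0_0 : edgesRange E 0 3287 0 = true := by decide +kernel

set_option maxRecDepth 1000000 in
theorem edges_3_0 : edgesRange E 3 5411 0 = true := by decide +kernel

set_option maxRecDepth 1000000 in
theorem edges_0_1 : edgesRange E 0 2124 3287 = true := by decide +kernel

set_option maxRecDepth 1000000 in
theorem edges_1_1 : edgesRange E 1 1621 3790 = true := by decide +kernel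

set_option maxRecDepth 1000000 in
theorem rows_0 : rowsRange E RS 3000 0 = true := by decide +kernel

set_option maxRecDepth 1000000 in
theorem edges_2_1 : edgesRange E 2 1042 4369 = true := by decide +kernel

set_option maxRecDepth 1000000 in
theorem rows_1 : rowsRange E RS 2411 3000 = true := by decide +kernel

set_option maxRecDepth 1000000 in
theorem aliases_1 : aliasRange E 910 4501 = true := by decide +kernel

set_option maxRecDepth 1000000 in
theorem edges_4_1 : edgesRange E 4 373 5038 = true := by decide +kernel

set_option maxRecDepth 1000000 in
theorem edges_5_1 : edgesRange E 5 1 5410 = true := by decide +kernel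

end Cfsg.Agent.Helper5.HecTC
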