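import Cfsg.Agent.Helper5.HecTCDatD
import Cfsg.Agent.Helper5.HecTCDatT
import Cfsg.Agent.Helper5.TC2C

/-! kernel checks of the coset table: HecTC -/

set_option autoImplicit false
set_option Elab.async false

namespace Cfsg.Agent.Helper5.HecTC
open Cfsg.Agent.Helper5.TC

set_option maxRecDepth 1000000 in
theorem relc_17_0 : relPtsF ctF (D.wlen 17) (D.wordP 17) 2058 0 = true := by decide +kernel

set_option maxRecDepth 1000000 in
theorem relc_23_0 : relPtsF ctF (D.wlen 23) (D.wordP 23) 2058 0 = true := by decide +kernel

set_option maxRecDepth 1000000 in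
theorem orb1_ok : orbOK ctF D 2058 S1 1 1360 oc1 = true := by decide +kernel

set_option maxRecDepth 1000000 in
theorem orb2_ok : orbOK ctF D 2058 S2 2 425 oc2 = true := by decide +kernel

set_option maxRecDepth 1000000 in
theorem orb3_ok : orbOK ctF D 2058 S3 46 136 oc3 = true := by decide +kernel

set_option maxRecDepth 1000000 in
theorem orb4_ok : orbOK ctF D 2058 S4 65 136 oc4 = true := by decide +kernel

set_option maxRecDepth 1000000 in
theorem relc_52_0 : relPtsF ctF (D.wlen 52) (D.wordP 52) 2058 0 = true := by decide +kernel

set_option maxRecDepth 1000000 in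
theorem relc_51_0 : relPtsF ctF (D.wlen 51) (D.wordP 51) 2058 0 = true := by decide +kernel

set_option maxRecDepth 1000000 in
theorem relc_50_0 : relPtsF ctF (D.wlen 50) (D.wordP 50) 2058 0 = true := by decide +kernel

set_option maxRecDepth 1000000 in
theorem relc_1_0 : relPtsF ctF (D.wlen 1) (D.wordP 1) 2058 0 = true := by decide +kernel

set_option maxRecDepth 1000000 in
theorem relc_7_0 : relPtsF ctF (D.wlen 7) (D.wordP 7) 2058 0 = true := by decide +kernel

set_option maxRecDepth 1000000 in
theorem relc_41_0 : relPtsF ctF (D.wlen 41) (D.wordP 41) 2058 0 = true := by decide +kernel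

set_option maxRecDepth 1000000 in
theorem relc_47_0 : relPtsF ctF (D.wlen 47) (D.wordP 47) 2058 0 = true := by decide +kernel

set_option maxRecDepth 1000000 in
theorem relc_9_0 : relPtsF ctF (D.wlen 9) (D.wordP 9) 2058 0 = true := by decide +kernel

set_option maxRecDepth 1000000 in
theorem relc_15_0 : relPtsF ctF (D.wlen 15) (D.wordP 15) 2058 0 = true := by decide +kernel

set_option maxRecDepth 1000000 in
theorem relc_25_0 : relPtsF ctF (D.wlen 25) (D.wordP 25) 2058 0 = true := by decide +kernel

set_option maxRecDepth 1000000 in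
theorem relc_26_0 : relPtsF ctF (D.wlen 26) (D.wordP 26) 2058 0 = true := by decide +kernel

set_option maxRecDepth 1000000 in
theorem relc_27_0 : relPtsF ctF (D.wlen 27) (D.wordP 27) 2058 0 = true := by decide +kernel

set_option maxRecDepth 1000000 in
theorem relc_31_0 : relPtsF ctF (D.wlen 31) (D.wordP 31) 2058 0 = true := by decide +kernel

set_option maxRecDepth 1000000 in
theorem relc_38_0 : relPtsF ctF (D.wlen 38) (D.wordP 38) 2058 0 = true := by decide +kernel

set_option maxRecDepth 1000000 in
theorem relc_45_0 : relPtsF ctF (D.wlen 45) (D.wordP 45) 2058 0 = true := by decide +kernel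

set_option maxRecDepth 1000000 in
theorem relc_49_0 : relPtsF ctF (D.wlen 49) (D.wordP 49) 2058 0 = true := by decide +kernel

set_option maxRecDepth 1000000 in
theorem relc_2_0 : relPtsF ctF (D.wlen 2) (D.wordP 2) 2058 0 = true := by decide +kernel

set_option maxRecDepth 1000000 in
theorem relc_3_0 : relPtsF ctF (D.wlen 3) (D.wordP 3) 2058 0 = true := by decide +kernel

set_option maxRecDepth 1000000 in
theorem relc_4_0 : relPtsF ctF (D.wlen 4) (D.wordP 4) 2058 0 = true := by decide +kernel

set_option maxRecDepth 1000000 in
theorem relc_5_0 : relPtsF ctF (D.wlen 5) (D.wordP 5) 2058 0 = true := by decide +kernel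

set_option maxRecDepth 1000000 in
theorem relc_6_0 : relPtsF ctF (D.wlen 6) (D.wordP 6) 2058 0 = true := by decide +kernel

set_option maxRecDepth 1000000 in
theorem relc_10_0 : relPtsF ctF (D.wlen 10) (D.wordP 10) 2058 0 = true := by decide +kernel

set_option maxRecDepth 1000000 in
theorem relc_11_0 : relPtsF ctF (D.wlen 11) (D.wordP 11) 2058 0 = true := by decide +kernel

set_option maxRecDepth 1000000 in
theorem relc_12_0 : relPtsF ctF (D.wlen 12) (D.wordP 12) 2058 0 = true := by decide +kernel

set_option maxRecDepth 1000000 in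
theorem relc_13_0 : relPtsF ctF (D.wlen 13) (D.wordP 13) 2058 0 = true := by decide +kernel

set_option maxRecDepth 1000000 in
theorem relc_14_0 : relPtsF ctF (D.wlen 14) (D.wordP 14) 2058 0 = true := by decide +kernel

set_option maxRecDepth 1000000 in
theorem relc_18_0 : relPtsF ctF (D.wlen 18) (D.wordP 18) 2058 0 = true := by decide +kernel

set_option maxRecDepth 1000000 in
theorem relc_19_0 : relPtsF ctF (D.wlen 19) (D.wordP 19) 2058 0 = true := by decide +kernel

set_option maxRecDepth 1000000 in
theorem relc_20_0 : relPtsF ctF (D.wlen 20) (D.wordP 20) 2058 0 = true := by decide +kernel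

set_option maxRecDepth 1000000 in
theorem relc_21_0 : relPtsF ctF (D.wlen 21) (D.wordP 21) 2058 0 = true := by decide +kernel

set_option maxRecDepth 1000000 in
theorem relc_22_0 : relPtsF ctF (D.wlen 22) (D.wordP 22) 2058 0 = true := by decide +kernel

set_option maxRecDepth 1000000 in
theorem relc_28_0 : relPtsF ctF (D.wlen 28) (D.wordP 28) 2058 0 = true := by decide +kernel

set_option maxRecDepth 1000000 in
theorem relc_29_0 : relPtsF ctF (D.wlen 29) (D.wordP 29) 2058 0 = true := by decide +kernel

set_option maxRecDepth 1000000 in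
theorem relc_30_0 : relPtsF ctF (D.wlen 30) (D.wordP 30) 2058 0 = true := by decide +kernel

set_option maxRecDepth 1000000 in
theorem relc_33_0 : relPtsF ctF (D.wlen 33) (D.wordP 33) 2058 0 = true := by decide +kernel

set_option maxRecDepth 1000000 in
theorem relc_34_0 : relPtsF ctF (D.wlen 34) (D.wordP 34) 2058 0 = true := by decide +kernel

set_option maxRecDepth 1000000 in
theorem relc_35_0 : relPtsF ctF (D.wlen 35) (D.wordP 35) 2058 0 = true := by decide +kernel

set_option maxRecDepth 1000000 in
theorem relc_36_0 : relPtsF ctF (D.wlen 36) (D.wordP 36) 2058 0 = true := by decide +kernel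

set_option maxRecDepth 1000000 in
theorem relc_37_0 : relPtsF ctF (D.wlen 37) (D.wordP 37) 2058 0 = true := by decide +kernel

set_option maxRecDepth 1000000 in
theorem relc_39_0 : relPtsF ctF (D.wlen 39) (D.wordP 39) 2058 0 = true := by decide +kernel

set_option maxRecDepth 1000000 in
theorem relc_42_0 : relPtsF ctF (D.wlen 42) (D.wordP 42) 2058 0 = true := by decide +kernel

set_option maxRecDepth 1000000 in
theorem relc_43_0 : relPtsF ctF (D.wlen 43) (D.wordP 43) 2058 0 = true := by decide +kernel

set_option maxRecDepth 1000000 in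
theorem relc_44_0 : relPtsF ctF (D.wlen 44) (D.wordP 44) 2058 0 = true := by decide +kernel

set_option maxRecDepth 1000000 in
theorem relc_46_0 : relPtsF ctF (D.wlen 46) (D.wordP 46) 2058 0 = true := by decide +kernel

set_option maxRecDepth 1000000 in
theorem relc_0_0 : relPtsF ctF (D.wlen 0) (D.wordP 0) 2058 0 = true := by decide +kernel

set_option maxRecDepth 1000000 in
theorem relc_8_0 : relPtsF ctF (D.wlen 8) (D.wordP 8) 2058 0 = true := by decide +kernel

set_option maxRecDepth 1000000 in
theorem relc_16_0 : relPtsF ctF (D.wlen 16) (D.wordP 16) 2058 0 = true := by decide +kernel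

set_option maxRecDepth 1000000 in
theorem relc_24_0 : relPtsF ctF (D.wlen 24) (D.wordP 24) 2058 0 = true := by decide +kernel

set_option maxRecDepth 1000000 in
theorem relc_32_0 : relPtsF ctF (D.wlen 32) (D.wordP 32) 2058 0 = true := by decide +kernel

set_option maxRecDepth 1000000 in
theorem relc_40_0 : relPtsF ctF (D.wlen 40) (D.wordP 40) 2058 0 = true := by decide +kernel

set_option maxRecDepth 1000000 in
theorem relc_48_0 : relPtsF ctF (D.wlen 48) (D.wordP 48) 2058 0 = true := by decide +kernel

set_option maxRecDepth 1000000 in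
theorem inv_0 : invRowF ctF 2058 0 2058 0 = true := by decide +kernel

set_option maxRecDepth 1000000 in
theorem inv_1 : invRowF ctF 2058 1 2058 0 = true := by decide +kernel

set_option maxRecDepth 1000000 in
theorem inv_2 : invRowF ctF 2058 2 2058 0 = true := by decide +kernel

set_option maxRecDepth 1000000 in
theorem inv_3 : invRowF ctF 2058 3 2058 0 = true := by decide +kernel

set_option maxRecDepth 1000000 in
theorem inv_4 : invRowF ctF 2058 4 2058 0 = true := by decide +kernel

set_option maxRecDepth 1000000 in
theorem inv_5 : invRowF ctF 2058 5 2058 0 = true := by decide +kernel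

set_option maxRecDepth 1000000 in
theorem inv_6 : invRowF ctF 2058 6 2058 0 = true := by decide +kernel

set_option maxRecDepth 1000000 in
theorem conn_ok : connF ctF 7 2058 0 = true := by decide +kernel

set_option maxRecDepth 1000000 in
theorem sub_ok : subAll ctF D D.nw = true := by decide +kernel

end Cfsg.Agent.Helper5.HecTC
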