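import Cfsg.Agent.Helper5.HecTCDatA
import Cfsg.Agent.Helper5.HecTCDatB
import Cfsg.Agent.Helper5.HecTCDatC

/-! generated certificate data (D): HecTC -/

set_option autoImplicit false
set_option Elab.async false

namespace Cfsg.Agent.Helper5.HecTC
open Cfsg.Agent.Helper5.TC

def D : Dat where
  k := 7
  tgt := tgF
  par := parF
  gen := genF
  ali := aliF
  wordP := fun wi => Nat.mod (Nat.shiftRight wtT (Nat.mul 512 wi)) 13407807929942597099574024998205846127479365820592393377723561443721764030073546976801874298166903427690031858186486050853753882811946569946433649006084096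
  wordR := fun wi => Nat.mod (Nat.shiftRight wrT (Nat.mul 512 wi)) 13407807929942597099574024998205846127479365820592393377723561443721764030073546976801874298166903427690031858186486050853753882811946569946433649006084096
  wlen := fun wi => Nat.mod (Nat.shiftRight wlT (Nat.mul 8 wi)) 256
  nrel := 53
  nw := 60
  fuel := 6

def E : Dat2 where
  D := D
  rank := rkF
  arank := arkF
  ev := evF
  M := 5411

def RS : ℕ := 0x7fffffffffffffffffffffffffffffffffffffffffffffffffffffffffffffffffffffff7ffffffbffffffffffffffdffffbfffffffffbfff800000000000200000000000800000c680000261b7ac0000008c00cb033cf689e8b0ba441c17e40d2b000000260695b4ffbf79440008247c4322e720000148b206695c09095b8ec0c6f5400c8350040bf7db940063b2d69780ab6ba987800068c2a04581a000453eaf004290508b0b68842171ec6040312c6204000000000000040c000000c4000000000000000e05c01c3fe087dffe0000000000000000000095142057ffe8311f404f9ffdff97f8061800000000000800000000000000000001e16088000000000000000000018e044fe7e00000000000000000000000000000000000080000002100052000046002805be0263da07dfefffffe059ef5fd083cab4dffbf0c08a3df5dea1022d68f9ee2dfef7af0bebd600ff5fbfef9406d6e2004bebd10f2c0c5b9ec91d75af4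d1f3b7c014f0700000000000000000010302830704000000000000000431ffc2ff000000000000000000000002f897ff9ff0f7fde0f80000000040e000000000000000000000000000005daa000000000000000000000000400002165ffe00000040000000000000000000000000080000033015c002ce3c1dfffffceffdbbffe8fbffd7bf1f73ffeb0ffe75ffd07df4db5ffebd7fbff01e8000000000070c4fc000000005de7800000000000000077ffc7d2c0007d00000000000000010406d0c0000000000000000022420bffe002400000000140000204061a760791ffe7fff7ffebfffbfffbfffffff9600000fb80001e800000000bef400e000000002d7a0020000000baf9f830100700cff3c3fcfffffffffffe801c00c0003e0c0003e0c0003ff08218fe7ffffff06083d83d807eafffffda38e1affffadbdf3ff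

end Cfsg.Agent.Helper5.HecTC
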