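import Mathlib
import Cfsg.Agent.Helper7.SUParE

set_option autoImplicit false
set_option linter.unusedSectionVars false

/-! Counting totally isotropic subspaces of the finite unitary space (helper5, for helper7's S5953):
isotropic frames of length `m` are the bases of the totally isotropic `m`-subspaces. -/

namespace Cfsg.Agent.Helper5.HermCount

open Matrix Module Cfsg Cfsg.Agent.Helper7.Herm Cfsg.Agent.Helper8.GUOrder Cfsg.Agent.Helper8.SURoot
  Cfsg.Agent.Helper8.AutSU Cfsg.Agent.Helper7.SUPar

variable {F : Type*} [Field F] [Fintype F] {q N m : ℕ} [hF : Fact (Fintype.card F = q ^ 2)]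

/-- the totally isotropic `m`-subspaces. -/
abbrev TI (F : Type*) [Field F] (q N m : ℕ) : Type _ :=
  {W : Submodule F (Fin N → F) // finrank F W = m ∧ ∀ u ∈ W, ∀ v ∈ W, hermForm N F q u v = 0}

/-- the span of an isotropic frame is totally isotropic. -/
theorem ti_span {w : Fin m → (Fin N → F)} (hw : ∀ i l, hermForm N F q (w i) (w l) = 0) :
    ∀ u ∈ Submodule.span F (Set.range w), ∀ v ∈ Submodule.span F (Set.range w),
      hermForm N F q u v = 0 := by
  intro u hu v hv
  induction hu using Submodule.span_induction with
  | mem x hx =>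
    obtain ⟨i, rfl⟩ := hx
    induction hv using Submodule.span_induction with
    | mem y hy =>
      obtain ⟨l, rfl⟩ := hy
      exact hw i l
    | zero => exact hermForm_zero_right _
    | add y z _ _ hy hz => rw [hermForm_add_right hF.out, hy, hz, add_zero]
    | smul a y _ hy => rw [hermForm_smul_right, hy, mul_zero]
  | zero => exact hermForm_zero_left _
  | add x y _ _ hx hy => rw [hermForm_add_left, hx, hy, add_zero]
  | smul a x _ hx => rw [hermForm_smul_left, hx, mul_zero]

/-- the span of an isotropic frame, as a totally isotropic subspace. -/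
noncomputable def spanTI (w : IsoFr F q N m) : TI F q N m :=
  ⟨Submodule.span F (Set.range w.1),
    by rw [finrank_span_eq_card w.2.1, Fintype.card_fin], ti_span w.2.2⟩

/-- the frames spanning a given totally isotropic subspace are its bases. -/
noncomputable def fiberEquiv (W : TI F q N m) :
    {w : IsoFr F q N m // spanTI w = W} ≃ {s : Fin m → W.1 // LinearIndependent F s} where
  toFun w := ⟨fun i => ⟨w.1.1 i, by
      have h := congrArg Subtype.val w.2
      change Submodule.span F (Set.range w.1.1) = W.1 at h
      rw [← h]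
      exact Submodule.subset_span ⟨i, rfl⟩⟩,
    LinearIndependent.of_comp W.1.subtype w.1.2.1⟩
  invFun s := ⟨⟨fun i => ((s.1 i : W.1) : Fin N → F),
      s.2.map' W.1.subtype (Submodule.ker_subtype W.1),
      fun i l => W.2.2 _ (s.1 i).2 _ (s.1 l).2⟩, by
    apply Subtype.ext
    change Submodule.span F (Set.range fun i => ((s.1 i : W.1) : Fin N → F)) = W.1
    exact Cfsg.Agent.Helper7.SUPar.span_eq_of_li
      (s.2.map' W.1.subtype (Submodule.ker_subtype W.1)) (fun i => (s.1 i).2) W.2.1⟩
  left_inv w := by
    apply Subtype.ext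
    apply Subtype.ext
    rfl
  right_inv s := by
    apply Subtype.ext
    funext i
    rfl

theorem card_fiber (W : TI F q N m) :
    Nat.card {w : IsoFr F q N m // spanTI w = W} = ∏ i : Fin m, ((q ^ 2) ^ m - (q ^ 2) ^ (i : ℕ)) := by
  rw [Nat.card_congr (fiberEquiv W)]
  have h := card_linearIndependent (K := F) (V := W.1) (k := m) (le_of_eq W.2.1.symm)
  rw [W.2.1, hF.out] at h
  exact h

/-- **the number of totally isotropic `m`-subspaces, through the isotropic frames.** -/
theorem card_ti_mul (n m : ℕ) :
    Nat.card {W : Submodule F (Fin n → F) // Module.finrank F ↥W = m ∧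
        (∀ u ∈ W, ∀ v ∈ W, Cfsg.hermForm n F q u v = 0)} *
      ∏ i : Fin m, ((q ^ 2) ^ m - (q ^ 2) ^ (i : ℕ)) =
    Nat.card (Cfsg.Agent.Helper7.SUPar.IsoFr F q n m) := by
  classical
  have hfin : Finite (TI F q n m) := by
    unfold TI
    infer_instance
  letI : Fintype (TI F q n m) := Fintype.ofFinite _
  rw [← Nat.card_congr (Equiv.sigmaFiberEquiv (spanTI (F := F) (q := q) (N := n) (m := m))),
    Nat.card_sigma, Finset.sum_congr rfl (fun W _ => card_fiber W), Finset.sum_const,
    Finset.card_univ, smul_eq_mul, Nat.card_eq_fintype_card]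

end Cfsg.Agent.Helper5.HermCount
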