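import Mathlib
import Cfsg.Agent.Helper5.HermCntA
import Cfsg.Agent.Helper7.UBlkE

set_option autoImplicit false
set_option linter.unusedSectionVars false

/-! A prime `r ≠ p` dividing the number of totally isotropic `m`-subspaces of the unitary `n`-space
satisfies `n % c < 2 * m`, `c` the order of `-q` modulo `r` (helper5, for helper7's S5953). -/

namespace Cfsg.Agent.Helper5.HermCount

open Matrix Module Cfsg Cfsg.Agent.Helper7.Herm Cfsg.Agent.Helper8.GUOrder Cfsg.Agent.Helper8.SURoot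
  Cfsg.Agent.Helper8.AutSU Cfsg.Agent.Helper7.SUPar Cfsg.Agent.Helper7.UBlk

variable {F : Type*} [Field F] [Fintype F] {q : ℕ} [hF : Fact (Fintype.card F = q ^ 2)]
variable {r : ℕ} [Fact r.Prime] {p : ℕ} [Fact p.Prime] [CharP F p]

/-- **a prime dividing the number of totally isotropic `m`-spaces.** -/
theorem lt_of_dvd_card_ti (hrp : r ≠ p) (n m : ℕ) (hmn : 2 * m ≤ n)
    (h : r ∣ Nat.card {W : Submodule F (Fin n → F) // Module.finrank F ↥W = m ∧
        (∀ u ∈ W, ∀ v ∈ W, Cfsg.hermForm n F q u v = 0)}) :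
    n % cU F q r < 2 * m := by
  have hrpr : r.Prime := Fact.out
  have h1 := card_ti_mul (F := F) (q := q) n m
  rw [card_IsoFr (F := F) (q := q) (N := n) m (by omega)] at h1
  have h2 : r ∣ ∏ i ∈ Finset.range m, (q ^ (2 * i) * (A (n - 2 * i) F q 0 - 1)) := by
    rw [← h1]
    exact Dvd.dvd.mul_right h _
  obtain ⟨i, hi, hdvd⟩ := (hrpr.prime.dvd_finsetProd_iff _).mp h2
  rw [Finset.mem_range] at hi
  have h3 := (hrpr.dvd_mul.mp hdvd).resolve_left
    (fun hh => not_dvd_q F hrp (hrpr.dvd_of_dvd_pow hh))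
  obtain ⟨M, hM⟩ : ∃ M, n - 2 * i = M + 2 := ⟨n - 2 * i - 2, by omega⟩
  rw [hM, A_two] at h3
  unfold ff at h3
  rcases hrpr.dvd_mul.mp h3 with h4 | h4
  · rw [dvd_fU_iff (F := F) hrp] at h4
    obtain ⟨t, ht⟩ := h4
    have h5 : n = cU F q r * t + (2 * i + 1) := by omega
    rw [h5, Nat.mul_add_mod]
    exact lt_of_le_of_lt (Nat.mod_le _ _) (by omega)
  · rw [dvd_fU_iff (F := F) hrp] at h4
    obtain ⟨t, ht⟩ := h4
    have h5 : n = cU F q r * t + 2 * i := by omega
    rw [h5, Nat.mul_add_mod]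
    exact lt_of_le_of_lt (Nat.mod_le _ _) (by omega)

end Cfsg.Agent.Helper5.HermCount
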