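import Mathlib
import Cfsg.Prelude.Def_Spor_J1
import Cfsg.Prelude.Def_KGroupFacts
import Cfsg.Agent.Helper5.J1Cent
import Cfsg.Agent.Helper5.SchurAbs

/-!
# The Schur multiplier of the Janko group `J₁` is trivial
-/

set_option autoImplicit false

namespace Cfsg.Agent.Helper5.J1

open Cfsg Cfsg.Spor Subgroup
open scoped commutatorElement
open Cfsg.Agent.Helper5.SchurAbs

theorem X7_ok : eqW [0, 0, 0, 0, 0, 0, 0] [] = true := by decide +kernel

theorem elX_pow_seven : el [0] ^ 7 = 1 := by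
  rw [el_pow]
  exact el_eq_of_eqW X7_ok

theorem elXi : el [1] = (el [0])⁻¹ := by
  rw [← el_invW]; rfl

theorem el_conj_replicate (w : List ℕ) : ∀ i : ℕ,
    el (List.replicate i 0 ++ w ++ List.replicate i 1) = el [0] ^ i * el w * (el [0] ^ i)⁻¹
  | 0 => by simp
  | i + 1 => by
    have e : List.replicate (i + 1) 0 ++ w ++ List.replicate (i + 1) 1
        = [0] ++ (List.replicate i 0 ++ w ++ List.replicate i 1) ++ [1] := by
      rw [List.replicate_succ, List.replicate_succ']
      simp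
    rw [e, el_append, el_append, el_conj_replicate w i, elXi, pow_succ']
    group

theorem fW_shape : ∀ i < 7, fW (i + 1) = List.replicate i 0 ++ tW ++ List.replicate i 1 := by
  decide

theorem el_fW_succ {i : ℕ} (hi : i < 7) : el (fW (i + 1)) = T (el [0]) (el tW) i := by
  rw [fW_shape i hi, el_conj_replicate]
  rfl

theorem T_mem_E8 : ∀ i : ℕ, T (el [0]) (el tW) i ∈ E8 := by
  intro i
  induction i using Nat.strong_induction_on with
  | _ i ih =>
    by_cases hi : i < 7
    · exact ⟨i + 1, by omega, (el_fW_succ hi).symm⟩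
    · have h7 : el [0] ^ 7 ∈ center ↥Spor.J1 := by rw [elX_pow_seven]; exact one_mem _
      have := T_add_seven (el [0]) (el tW) h7 (i - 7)
      rw [show i - 7 + 7 = i by omega] at this
      rw [this]
      exact ih (i - 7) (by omega)

theorem fMul_comm : ∀ i < 8, ∀ j < 8, fMul i j = fMul j i := by decide

theorem E8_comm : ∀ a ∈ E8, ∀ b ∈ E8, a * b = b * a := by
  rintro _ ⟨i, hi, rfl⟩ _ ⟨j, hj, rfl⟩
  rw [fW_mul hi hj, fW_mul hj hi, fMul_comm i hi j hj]

theorem T_rel : T (el [0]) (el tW) 0 * T (el [0]) (el tW) 1 = T (el [0]) (el tW) 5 := by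
  rw [← el_fW_succ (i := 0) (by norm_num), ← el_fW_succ (i := 1) (by norm_num),
    ← el_fW_succ (i := 5) (by norm_num), fW_mul (by norm_num) (by norm_num)]
  rfl

theorem index_E8 : E8.index = 21945 := by
  have h := E8.card_mul_index
  rw [card_J1, card_E8] at h
  omega

theorem index_zpowers_gW {p : ℕ} (hp : p ∈ oddPrimes) :
    (zpowers (el (gW p))).index = 175560 / p := by
  have h := (zpowers (el (gW p))).card_mul_index
  rw [card_J1, Nat.card_zpowers, orderOf_gW hp] at h
  have hpos : 0 < p := (oddPrimes_spec p hp).1.pos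
  exact (Nat.div_eq_of_eq_mul_right hpos h.symm).symm

/-- the preimage of `E8` in a central extension is commutative. -/
theorem comm_comap_E8 {Γ : Type*} [Group Γ] (σ : Γ →* ↥Spor.J1) (hs : Function.Surjective σ)
    (hK : σ.ker ≤ center Γ) : ∀ a ∈ E8.comap σ, ∀ b ∈ E8.comap σ, a * b = b * a := by
  obtain ⟨x, hx⟩ := hs (el [0])
  obtain ⟨t, ht⟩ := hs (el tW)
  have hT : ∀ i, σ (T x t i) = T (el [0]) (el tW) i := by
    intro i
    simp only [T, map_mul, map_pow, map_inv, hx, ht]
  have h7 : x ^ 7 ∈ center Γ := by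
    apply hK
    rw [MonoidHom.mem_ker, map_pow, hx, elX_pow_seven]
  have hc : ∀ i j : ℕ, ⁅T x t i, T x t j⁆ ∈ center Γ := by
    intro i j
    apply hK
    rw [MonoidHom.mem_ker, map_commutatorElement, hT, hT, commutatorElement_eq_one_iff_mul_comm]
    exact E8_comm _ (T_mem_E8 i) _ (T_mem_E8 j)
  have hr : ∃ k ∈ center Γ, T x t 0 * T x t 1 = T x t 5 * k := by
    refine ⟨(T x t 5)⁻¹ * (T x t 0 * T x t 1), hK ?_, by group⟩
    rw [MonoidHom.mem_ker, map_mul, map_inv, map_mul, hT, hT, hT, T_rel, inv_mul_cancel]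
  have hcomm := commute_T x t h7 hc hr
  have key : ∀ a ∈ E8.comap σ, a ∈ center Γ ∨ ∃ i < 7, ∃ k ∈ center Γ, a = T x t i * k := by
    intro a ha
    obtain ⟨i, hi, hai⟩ := (mem_comap.mp ha)
    rcases Nat.eq_zero_or_pos i with rfl | hpos
    · left
      apply hK
      rw [MonoidHom.mem_ker, hai]; rfl
    · right
      obtain ⟨j, rfl⟩ : ∃ j, i = j + 1 := ⟨i - 1, by omega⟩
      have hj : j < 7 := by omega
      refine ⟨j, hj, (T x t j)⁻¹ * a, hK ?_, by group⟩
      rw [MonoidHom.mem_ker, map_mul, map_inv, hT, hai, el_fW_succ hj, inv_mul_cancel]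
  intro a ha b hb
  rcases key a ha with hac | ⟨i, hi, k, hk, rfl⟩
  · exact ((mem_center_iff.mp hac) b).symm
  rcases key b hb with hbc | ⟨j, hj, l, hl, rfl⟩
  · exact (mem_center_iff.mp hbc) _
  have c1 : ∀ y : Γ, k * y = y * k := fun y => ((mem_center_iff.mp hk) y).symm
  have c2 : ∀ y : Γ, l * y = y * l := fun y => ((mem_center_iff.mp hl) y).symm
  calc T x t i * k * (T x t j * l) = T x t i * (k * (T x t j * l)) := by rw [mul_assoc]
    _ = T x t i * (T x t j * l * k) := by rw [c1]
    _ = T x t i * T x t j * (l * k) := by simp only [mul_assoc]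
    _ = T x t j * T x t i * (l * k) := by rw [hcomm i j hi hj]
    _ = T x t j * (T x t i * k * l) := by rw [c2 k]; simp only [mul_assoc]
    _ = T x t j * (l * (T x t i * k)) := by rw [c2 (T x t i * k)]
    _ = T x t j * l * (T x t i * k) := by rw [mul_assoc]

/-- every finite stem extension of `J₁` is an isomorphism. -/
theorem stem_ker_eq_bot {Γ : Type*} [Group Γ] [Finite Γ] (σ : Γ →* ↥Spor.J1)
    (h : IsStemExtension σ) : σ.ker = ⊥ := by
  obtain ⟨hs, hK, hK'⟩ := h
  rw [eq_bot_iff]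
  intro z hz
  rw [mem_bot]
  have hzc := hK hz
  have hzd := hK' hz
  have hodd : ∀ p ∈ oddPrimes, z ^ (175560 / p) = 1 := by
    intro p hp
    have h1 := pow_index_eq_one_of_comm ((zpowers (el (gW p))).comap σ)
      (comm_comap_zpowers σ hs hK _) z hzc hzd
    rwa [index_comap_of_surjective _ hs, index_zpowers_gW hp] at h1
  have h2 : z ^ 21945 = 1 := by
    have h1 := pow_index_eq_one_of_comm (E8.comap σ) (comm_comap_E8 σ hs hK) z hzc hzd
    rwa [index_comap_of_surjective _ hs, index_E8] at h1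
  have d2 := orderOf_dvd_of_pow_eq_one h2
  have d3 := orderOf_dvd_of_pow_eq_one (hodd 3 (by decide))
  have d5 := orderOf_dvd_of_pow_eq_one (hodd 5 (by decide))
  have d7 := orderOf_dvd_of_pow_eq_one (hodd 7 (by decide))
  have d11 := orderOf_dvd_of_pow_eq_one (hodd 11 (by decide))
  have d19 := orderOf_dvd_of_pow_eq_one (hodd 19 (by decide))
  have g := Nat.dvd_gcd (Nat.dvd_gcd (Nat.dvd_gcd (Nat.dvd_gcd (Nat.dvd_gcd d2 d3) d5) d7) d11) d19
  have e : Nat.gcd (Nat.gcd (Nat.gcd (Nat.gcd (Nat.gcd 21945 (175560 / 3)) (175560 / 5))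
      (175560 / 7)) (175560 / 11)) (175560 / 19) = 1 := by norm_num
  rw [e, Nat.dvd_one] at g
  exact orderOf_eq_one_iff.mp g

/-- the Schur multiplier of `J₁` is trivial. -/
theorem schur_trivial : Cfsg.HasCyclicSchurMultiplier ↥Spor.J1 1 := by
  constructor
  · refine ⟨↥Spor.J1, inferInstance, ?_, MonoidHom.id _, ⟨Function.surjective_id, ?_, ?_⟩, ⟨?_⟩⟩
    · exact Nat.finite_of_card_ne_zero (by rw [card_J1]; norm_num)
    · rw [MonoidHom.ker_id]; exact bot_le
    · rw [MonoidHom.ker_id]; exact bot_le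
    · have hu : Subsingleton (MonoidHom.id ↥Spor.J1).ker := by
        rw [MonoidHom.ker_id]; infer_instance
      have hv : Subsingleton (Multiplicative (ZMod 1)) := by
        change Subsingleton (ZMod 1); infer_instance
      letI u1 : Unique (MonoidHom.id ↥Spor.J1).ker := ⟨⟨1⟩, fun a => Subsingleton.elim _ _⟩
      letI u2 : Unique (Multiplicative (ZMod 1)) := ⟨⟨1⟩, fun a => Subsingleton.elim _ _⟩
      exact MulEquiv.ofUnique
  · intro Γ _ _ σ hσ
    refine ⟨1, ?_⟩
    have hb := stem_ker_eq_bot σ hσ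
    intro y
    refine ⟨1, ?_⟩
    have : Subsingleton σ.ker := by rw [hb]; infer_instance
    exact Subsingleton.elim _ _

end Cfsg.Agent.Helper5.J1
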