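import Mathlib
import Cfsg.Prelude.Def_Spor_J1
import Cfsg.Prelude.Def_KGroupFacts
import Cfsg.Agent.Helper5.J1Schur
import Cfsg.Agent.Helper5.J1OutData

/-!
# Every automorphism of the Janko group `J₁` is inner
-/

set_option autoImplicit false

namespace Cfsg.Agent.Helper5.J1

open Cfsg Cfsg.Spor Subgroup

/-! ### words in `x`, `s` -/

/-- evaluation of a word in the letters `0 ↦ a`, `1 ↦ a⁻¹`, `2 ↦ b`. -/
def evXS {G : Type*} [Group G] (a b : G) : List ℕ → G
  | [] => 1
  | c :: w => (if c = 0 then a else if c = 1 then a⁻¹ else b) * evXS a b w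

theorem map_evXS {G H : Type*} [Group G] [Group H] (φ : G →* H) (a b : G) :
    ∀ w : List ℕ, φ (evXS a b w) = evXS (φ a) (φ b) w
  | [] => map_one φ
  | c :: w => by
    rw [evXS, evXS, map_mul, map_evXS φ a b w]
    split_ifs <;> simp

theorem evXS_mem {G : Type*} [Group G] (a b : G) :
    ∀ w : List ℕ, evXS a b w ∈ Subgroup.closure ({a, b} : Set G)
  | [] => one_mem _
  | c :: w => by
    rw [evXS]
    refine mul_mem ?_ (evXS_mem a b w)
    have ha : a ∈ Subgroup.closure ({a, b} : Set G) := Subgroup.subset_closure (by simp)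
    have hb : b ∈ Subgroup.closure ({a, b} : Set G) := Subgroup.subset_closure (by simp)
    split_ifs
    · exact ha
    · exact inv_mem ha
    · exact hb

theorem evXS_el (sw : List ℕ) : ∀ w : List ℕ, evXS (el [0]) (el sw) w = el (subst sw w)
  | [] => el_nil.symm
  | c :: w => by
    rw [evXS, subst, el_append, evXS_el sw w]
    split_ifs
    · rfl
    · rw [elXi]
    · rfl

/-- the generator of order 7. -/
def xJ : ↥Spor.J1 := el [0]

/-- the second generator. -/
def sJ : ↥Spor.J1 := el sW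

theorem rel_spec : eqW (subst sW R1) [] = true ∧ eqW (subst sW R2) [] = true ∧
    eqW [2] (subst sW yXS) = true ∧ eqW (sW ++ sW) [] = true ∧ neW [0] [] 1 = true := by
  have h := rel_ok
  simp only [Bool.and_eq_true] at h
  obtain ⟨⟨⟨⟨h1, h2⟩, h3⟩, h4⟩, h5⟩ := h
  exact ⟨h1, h2, h3, h4, h5⟩

theorem closure_xs : Subgroup.closure ({xJ, sJ} : Set ↥Spor.J1) = ⊤ := by
  rw [eq_top_iff, ← closure_el, Subgroup.closure_le]
  rintro g (rfl | rfl)
  · exact Subgroup.subset_closure (by simp [xJ])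
  · rw [el_eq_of_eqW rel_spec.2.2.1, ← evXS_el]
    exact evXS_mem _ _ _

theorem R1_eq : evXS xJ sJ R1 = 1 := by
  unfold xJ sJ
  rw [evXS_el, el_eq_of_eqW rel_spec.1, el_nil]

theorem R2_eq : evXS xJ sJ R2 = 1 := by
  unfold xJ sJ
  rw [evXS_el, el_eq_of_eqW rel_spec.2.1, el_nil]

theorem sJ_sq : sJ * sJ = 1 := by
  unfold sJ
  rw [← el_append, el_eq_of_eqW rel_spec.2.2.2.1, el_nil]

theorem orderOf_xJ : orderOf xJ = 7 := by
  have : Fact (Nat.Prime 7) := ⟨by norm_num⟩
  refine orderOf_eq_prime elX_pow_seven ?_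
  unfold xJ
  rw [← el_nil]
  exact el_ne_of_neW rel_spec.2.2.2.2

theorem el_replicate_zero : ∀ k : ℕ, el (List.replicate k 0) = xJ ^ k
  | 0 => by simp [el_nil]
  | k + 1 => by
    rw [List.replicate_succ, show (0 :: List.replicate k 0) = [0] ++ List.replicate k 0 from rfl,
      el_append, el_replicate_zero k, pow_succ']
    rfl

/-- `X` is conjugate to each of its non-trivial powers. -/
theorem conj_pow_xJ {k : ℕ} (h1 : 1 ≤ k) (h6 : k ≤ 6) :
    xJ ^ k = el (nW k) * xJ * (el (nW k))⁻¹ := by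
  have hk : k ∈ [1, 2, 3, 4, 5, 6] := by
    simp only [List.mem_cons, List.not_mem_nil, or_false]
    omega
  have h := List.all_eq_true.mp nW_ok k hk
  have h2 := el_eq_of_eqW h
  rw [el_append, el_append, el_replicate_zero] at h2
  rw [eq_mul_inv_iff_mul_eq]
  exact h2.symm

instance finite_J1 : Finite ↥Spor.J1 := Nat.finite_of_card_ne_zero (by rw [card_J1]; norm_num)

/-- every automorphism maps `X` to a conjugate of `X`. -/
theorem exists_conj_xJ (φ : MulAut ↥Spor.J1) : ∃ g : ↥Spor.J1, φ xJ = g * xJ * g⁻¹ := by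
  have : Fact (Nat.Prime 7) := ⟨by norm_num⟩
  have ho : orderOf (φ xJ) = 7 := by rw [MulEquiv.orderOf_eq, orderOf_xJ]
  have p1 : IsPGroup 7 (zpowers xJ) :=
    IsPGroup.of_card (n := 1) (by rw [Nat.card_zpowers, orderOf_xJ, pow_one])
  have p2 : IsPGroup 7 (zpowers (φ xJ)) :=
    IsPGroup.of_card (n := 1) (by rw [Nat.card_zpowers, ho, pow_one])
  obtain ⟨S1, h1⟩ := p1.exists_le_sylow
  obtain ⟨S2, h2⟩ := p2.exists_le_sylow
  have c1 : Nat.card (S1 : Subgroup ↥Spor.J1) = 7 :=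
    sylow_card_eq card_J1 (by decide) S1 orderOf_xJ (h1 (mem_zpowers _))
  have e1 : zpowers xJ = (S1 : Subgroup ↥Spor.J1) :=
    Subgroup.eq_of_le_of_card_ge h1 (by rw [c1, Nat.card_zpowers, orderOf_xJ])
  obtain ⟨g, hg⟩ := MulAction.exists_smul_eq ↥Spor.J1 S1 S2
  have hmem : φ xJ ∈ (S2 : Subgroup ↥Spor.J1) := h2 (mem_zpowers _)
  rw [← hg, Sylow.coe_subgroup_smul, ← e1] at hmem
  obtain ⟨y, hy, hyx⟩ := (Subgroup.mem_smul_pointwise_iff_exists _ _ _).mp hmem
  rw [MulAut.smul_def, MulAut.conj_apply] at hyx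
  obtain ⟨k, hk, rfl⟩ : ∃ k < 7, xJ ^ k = y := by
    classical
    have := (mem_zpowers_iff_mem_range_orderOf.mp hy)
    rw [orderOf_xJ] at this
    obtain ⟨k, hk, hk'⟩ := Finset.mem_image.mp this
    exact ⟨k, Finset.mem_range.mp hk, hk'⟩
  rcases Nat.eq_zero_or_pos k with rfl | hpos
  · exfalso
    rw [pow_zero, mul_one, mul_inv_cancel] at hyx
    have : xJ = 1 := by
      have := hyx.symm
      rwa [map_eq_one_iff φ φ.injective] at this
    have ho7 := orderOf_xJ
    rw [this, orderOf_one] at ho7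
    norm_num at ho7
  · refine ⟨g * el (nW k), ?_⟩
    rw [← hyx, conj_pow_xJ hpos (by omega)]
    group

/-! ### involutions -/

attribute [local irreducible] el evalW

theorem CJ_iso : Nonempty (↥CJ ≃* Multiplicative (ZMod 2) × ↥(alternatingGroup (Fin 5))) := by
  refine iso_two_times_alt (H := CJ) card_CJ_le ⟨tJ, mem_CJ.mpr rfl⟩ ?_ ?_ ?_
    ⟨el x3W, x3_mem⟩ ⟨el y5W, y5_mem⟩ ?_ ?_ ?_ ?_
  · exact Subtype.ext (by rw [Subgroup.coe_pow, Subgroup.coe_one, pow_two]; exact tJ_sq)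
  · exact fun h => tJ_ne (congrArg Subtype.val h)
  · intro g
    exact Subtype.ext (mem_CJ.mp g.2)
  · exact Subtype.ext (by rw [Subgroup.coe_pow, Subgroup.coe_one]; exact x3_pow)
  · exact Subtype.ext (by rw [Subgroup.coe_pow, Subgroup.coe_one]; exact y5_pow)
  · exact Subtype.ext (by
      rw [Subgroup.coe_pow, Subgroup.coe_mul, Subgroup.coe_one]; exact xy_pow)
  · exact fun h => x3_ne (congrArg Subtype.val h)

theorem card_CJ : Nat.card CJ = 120 := by
  obtain ⟨e⟩ := CJ_iso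
  exact (Nat.card_congr e.toEquiv).trans card_two_times_alt

theorem index_CJ : CJ.index = 1463 := by
  have h := CJ.card_mul_index
  rw [card_J1, card_CJ] at h
  omega

/-- the coset of the `i`-th conjugating word. -/
noncomputable def cosetOf (i : Fin 1463) : ↥Spor.J1 ⧸ CJ :=
  QuotientGroup.mk (el (conjL[i.val]'(by rw [conjL_length]; exact i.isLt)))

theorem conj_eq_of_mem_CJ {a b : ↥Spor.J1} (h : a⁻¹ * b ∈ CJ) :
    a * tJ * a⁻¹ = b * tJ * b⁻¹ := by
  rw [mem_CJ] at h
  have := congrArg (fun z => a * z * b⁻¹) h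
  simp only [mul_assoc, mul_inv_cancel_left, mul_inv_cancel, mul_one] at this
  rw [mul_assoc, this]
  simp [mul_assoc]

theorem cosetOf_injective : Function.Injective cosetOf := by
  have hnd : (conjL.map (fun u => invar (conjW u))).Nodup := nodup_of_incrFrom conjL_sorted
  intro i j hij
  have hi : i.val < conjL.length := by rw [conjL_length]; exact i.isLt
  have hj : j.val < conjL.length := by rw [conjL_length]; exact j.isLt
  have h1 : (el conjL[i.val])⁻¹ * el conjL[j.val] ∈ CJ := QuotientGroup.eq.mp hij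
  have h2 : el (conjW conjL[i.val]) = el (conjW conjL[j.val]) := by
    rw [el_conjW, el_conjW]
    exact conj_eq_of_mem_CJ h1
  have h3 := invar_eq_of_el_eq h2
  have hi' : i.val < (conjL.map (fun u => invar (conjW u))).length := by
    rw [List.length_map]; exact hi
  have hj' : j.val < (conjL.map (fun u => invar (conjW u))).length := by
    rw [List.length_map]; exact hj
  have h4 : (conjL.map (fun u => invar (conjW u)))[i.val] =
      (conjL.map (fun u => invar (conjW u)))[j.val] := by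
    rw [List.getElem_map, List.getElem_map]; exact h3
  exact Fin.ext ((hnd.getElem_inj_iff).mp h4)

/-- every conjugate of `tJ` is in the list. -/
theorem conj_mem_list (c : ↥Spor.J1) : ∃ u ∈ conjL, c * tJ * c⁻¹ = el (conjW u) := by
  have hcard : Nat.card (↥Spor.J1 ⧸ CJ) = 1463 := index_CJ
  have hfin : Finite (↥Spor.J1 ⧸ CJ) := Nat.finite_of_card_ne_zero (by rw [hcard]; norm_num)
  have hbij : Function.Bijective cosetOf :=
    cosetOf_injective.bijective_of_nat_card_le (by rw [hcard, Nat.card_fin])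
  obtain ⟨i, hi⟩ := hbij.2 (QuotientGroup.mk c)
  have hi' : i.val < conjL.length := by rw [conjL_length]; exact i.isLt
  refine ⟨conjL[i.val], List.getElem_mem hi', ?_⟩
  rw [el_conjW]
  have h1 : (el conjL[i.val])⁻¹ * c ∈ CJ := QuotientGroup.eq.mp hi
  exact (conj_eq_of_mem_CJ h1).symm

/-- every involution is conjugate to `tJ`. -/
theorem invol_conj (r : ↥Spor.J1) (h1 : r * r = 1) (h2 : r ≠ 1) :
    ∃ c : ↥Spor.J1, r = c * tJ * c⁻¹ := by
  have : Fact (Nat.Prime 2) := ⟨Nat.prime_two⟩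
  have ho : orderOf r = 2 := orderOf_eq_prime (by rw [pow_two]; exact h1) h2
  have pE : IsPGroup 2 E8 := IsPGroup.of_card (n := 3) (by rw [card_E8]; norm_num)
  have pr : IsPGroup 2 (zpowers r) :=
    IsPGroup.of_card (n := 1) (by rw [Nat.card_zpowers, ho, pow_one])
  obtain ⟨S1, hS1⟩ := pE.exists_le_sylow
  obtain ⟨S2, hS2⟩ := pr.exists_le_sylow
  obtain ⟨n, hn⟩ := IsPGroup.iff_card.mp S1.isPGroup'
  have hdvd : 2 ^ n ∣ 175560 := by
    rw [← hn, ← card_J1]; exact Subgroup.card_subgroup_dvd_card _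
  have hn3 : n ≤ 3 := by
    by_contra hgt
    have : 2 ^ 4 ∣ 175560 := dvd_trans (pow_dvd_pow 2 (by omega)) hdvd
    norm_num at this
  have hle : Nat.card (S1 : Subgroup ↥Spor.J1) ≤ Nat.card E8 := by
    rw [hn, card_E8]
    calc 2 ^ n ≤ 2 ^ 3 := Nat.pow_le_pow_right (by norm_num) hn3
      _ = 8 := by norm_num
  have e1 : E8 = (S1 : Subgroup ↥Spor.J1) := Subgroup.eq_of_le_of_card_ge hS1 hle
  obtain ⟨g, hg⟩ := MulAction.exists_smul_eq ↥Spor.J1 S1 S2
  have hmem : r ∈ (S2 : Subgroup ↥Spor.J1) := hS2 (mem_zpowers _)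
  rw [← hg, Sylow.coe_subgroup_smul, ← e1] at hmem
  obtain ⟨y, hy, hyx⟩ := (Subgroup.mem_smul_pointwise_iff_exists _ _ _).mp hmem
  rw [MulAut.smul_def, MulAut.conj_apply] at hyx
  obtain ⟨i, hi, rfl⟩ := hy
  rcases Nat.eq_zero_or_pos i with rfl | hpos
  · exfalso
    apply h2
    rw [← hyx]
    have : el (fW 0) = 1 := el_nil
    rw [this, mul_one, mul_inv_cancel]
  · obtain ⟨j, rfl⟩ : ∃ j, i = j + 1 := ⟨i - 1, by omega⟩
    have hj : j < 7 := by omega
    refine ⟨g * el [0] ^ j, ?_⟩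
    rw [← hyx, el_fW_succ hj]
    unfold SchurAbs.T tJ
    group

/-! ### the main argument -/

theorem chkAll_spec : ∀ (us : List (List ℕ)) (fs : List (ℕ × ℕ)), chkAll us fs = true →
    ∀ u ∈ us, ∃ k v : ℕ, chk u k v = true
  | [], [], _ => by simp
  | [], _ :: _, h => by simp [chkAll] at h
  | _ :: _, [], h => by simp [chkAll] at h
  | u :: us, kv :: fs, h => by
    rw [chkAll, Bool.and_eq_true] at h
    intro u' hu'
    rcases List.mem_cons.mp hu' with rfl | hu'
    · exact ⟨kv.1, kv.2, h.1⟩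
    · exact chkAll_spec us fs h.2 u' hu'

/-- an automorphism fixing `X` maps `s` to one of its conjugates under the powers of `X`. -/
theorem fix_xJ (ψ : MulAut ↥Spor.J1) (hx : ψ xJ = xJ) :
    ∃ j : ℕ, ψ sJ = xJ ^ j * sJ * (xJ ^ j)⁻¹ := by
  have hne : sJ ≠ 1 := by
    intro h
    have h1 : evXS xJ sJ R1 = xJ ^ 3 := by
      rw [h]
      simp [R1, evXS, pow_succ, mul_assoc]
    rw [R1_eq] at h1
    have := orderOf_dvd_of_pow_eq_one h1.symm
    rw [orderOf_xJ] at this
    norm_num at this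
  have hs1 : ψ sJ * ψ sJ = 1 := by rw [← map_mul, sJ_sq, map_one]
  have hs2 : ψ sJ ≠ 1 := fun h => hne ((map_eq_one_iff ψ ψ.injective).mp h)
  obtain ⟨c, hc⟩ := invol_conj _ hs1 hs2
  obtain ⟨u, hu, hcu⟩ := conj_mem_list c
  rw [hcu] at hc
  obtain ⟨k, v, hchk⟩ := chkAll_spec conjL fpL fp_ok u hu
  have key : ∀ w : List ℕ, evXS xJ sJ w = 1 → el (subst (conjW u) w) = 1 := by
    intro w hw
    rw [← evXS_el, ← hc]
    change evXS xJ (ψ sJ) w = 1
    have h3 := map_evXS (ψ : ↥Spor.J1 →* ↥Spor.J1) xJ sJ w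
    simp only [MonoidHom.coe_coe] at h3
    rw [hx, hw, map_one] at h3
    exact h3.symm
  unfold chk at hchk
  split_ifs at hchk with hk0 hk1
  · exact absurd (key R1 R1_eq) (by rw [← el_nil]; exact el_ne_of_neW hchk)
  · exact absurd (key R2 R2_eq) (by rw [← el_nil]; exact el_ne_of_neW hchk)
  · refine ⟨v, ?_⟩
    rw [hc, el_eq_of_eqW hchk, el_conj_replicate]
    rfl

/-- every automorphism of `J₁` is inner. -/
theorem aut_inner (φ : MulAut ↥Spor.J1) : φ ∈ Cfsg.Inn ↥Spor.J1 := by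
  obtain ⟨g, hg⟩ := exists_conj_xJ φ
  set ψ : MulAut ↥Spor.J1 := (MulAut.conj g)⁻¹ * φ with hψ
  have hx : ψ xJ = xJ := by
    rw [hψ, MulAut.mul_apply, hg, MulAut.conj_inv_apply]
    group
  obtain ⟨j, hj⟩ := fix_xJ ψ hx
  have hψ' : ψ = MulAut.conj (xJ ^ j) := by
    apply MulEquiv.toMonoidHom_injective
    apply MonoidHom.eq_of_eqOn_dense closure_xs
    intro y hy
    simp only [Set.mem_insert_iff, Set.mem_singleton_iff] at hy
    rcases hy with rfl | rfl
    · change ψ xJ = MulAut.conj (xJ ^ j) xJ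
      rw [hx, MulAut.conj_apply]
      have : Commute (xJ ^ j) xJ := (Commute.refl xJ).pow_left j
      rw [this.eq, mul_inv_cancel_right]
    · change ψ sJ = MulAut.conj (xJ ^ j) sJ
      rw [hj, MulAut.conj_apply]
  have : φ = MulAut.conj (g * xJ ^ j) := by
    rw [map_mul, ← hψ', hψ, mul_inv_cancel_left]
  rw [this]
  exact ⟨_, rfl⟩

theorem card_out : Nat.card (Cfsg.Out ↥Spor.J1) = 1 := by
  have h : Cfsg.Inn ↥Spor.J1 = ⊤ := eq_top_iff.mpr (fun φ _ => aut_inner φ)
  change (Cfsg.Inn ↥Spor.J1).index = 1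
  rw [h, Subgroup.index_top]

end Cfsg.Agent.Helper5.J1
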