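import Cfsg.Agent.Helper5.J3XBDat

/-! generated labelled Todd-Coxeter certificate: J3XB -/

set_option autoImplicit false
set_option Elab.async false
set_option maxRecDepth 1000000

namespace Cfsg.Agent.Helper5.J3XB
open Cfsg.Agent.Helper5.LTC

def ju_43 : List ℕ := [0x288400595100080000c04400013, 0x2883c0595100080000c04400017, 0x6c60c063a100080000c0480000f, 0x4b79005a8580080000c05400003, 0x4b78405a8580080000c05400007, 0x4b7a005a8580080000c0540000f, 0x56944045fd805711800c0000c05c00003, 0x4248c0571180080000c05c00007, 0x424840571180080000c05c0000b, 0x4247c0571180080000c05c0000f, 0x56134049a6005711800c0000c05c00013, 0x1300001280000f800001000000800000800000400000800000800000400000c00000400001400001c00013c00003c000840f139, 0xa7fd80000040008400019, 0x1dde001ddd801acac01a8d801a8c8018b280034c001a18401acb401ddec0000280dcd80a20d, 0xa7fe80000040dcd800019, 0x1f56801e2740039480002ec0002f40000f800023000022801e34401e34c01f5e001f5d80000300e5540c229, 0xa7ff80000040e55400019, 0x1ae04019214000214018ae401f96c01ae04019214000214018ae401f96c0000280cb540a1f1, 0xa80080000040cb5400019, 0x18ae000021000020801f96001e35c0002f001ace801daa401daac01adfc01f96800002c0c0600a1fd,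 0xa80180000040c06000019, 0x1f58c01fc6001f9d8008004024e801009, 0x1fbe40a80280000080cb5800019, 0x1dbb001dba80006f00004c801fd500192b800039000038800038000013c0039e40193e801fe9c0000340dc200c221, 0xa80380000040dc2000019, 0x21c040237680236bc01b2e000800801ee401001, 0x2374c0a80480000080158800019, 0x3ed002357001e1a0023bc800049c023bc40235e80235f8020604023d3801cb20023c80015b10023c6c023bb002337c020828018b7c02454c00004c01d180a201, 0xa805800000401d1800019, 0x23304022e20018ba8025048025050020724024978024ab8024a9c0240180213ec004c4802396c021d3c02367c024c9c003c88024490015e64025cd0025cc8000054015600f1bd, 0xa80680000040156000019, 0x28a58028848027dac0289a8014c04028db8027490014f1c029118029110029480029478000030101000a20d, 0xa80780000041010000019, 0x4fb3c031b3c00b050031f0003330801f1c403308803331404dbec04dbe8030a8000be1c04ef340448a0046fbc046fb0042c3002dff002d2a402e14405087c00005409ba40f031, 0xa808800000409ba400019]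

theorem len_43 : ju_43.length = 35 := by decide +kernel

theorem chk_43 : checkList cert 86000 ju_43 = true := by decide +kernel

end Cfsg.Agent.Helper5.J3XB
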