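import Mathlib
import Cfsg.Agent.Helper5.J3XDat
import Cfsg.Agent.Helper5.LPX
import Cfsg.Agent.Helper5.LPS
import Cfsg.Agent.Helper5.StemPF
import Cfsg.Agent.Helper9.J3.Tabs

/-!
# Checks for the Schur multiplier of `J₃`

The words of `J3XDat` in the action of the group on 6156 points: the tables of the six letters,
the relators, the orders, the four original letters as words in the six letters, the stabiliser
chain of the subgroup of order 4080.
-/

set_option autoImplicit false

namespace Cfsg.Agent.Helper5.J3X

open Cfsg.Agent.Helper5.LP Cfsg.Agent.Helper5.StemP Cfsg.Agent.Helper5.TC Cfsg.Agent.Helper5.TCI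

/-- the action of the six letters on the 6156 points. -/
def tabF (c v : ℕ) : ℕ := pLook 682 (tabB c) v

/-- the inverse of a word in the four original letters. -/
def winv (w : List ℕ) : List ℕ := (w.map Cfsg.Agent.Helper9.J3.linv).reverse

theorem W_lt : ∀ c, c < 6 → ∀ x ∈ W c, x < 4 := by decide

theorem W_rev : W 1 = winv (W 0) ∧ W 3 = winv (W 2) ∧ W 5 = winv (W 4) := by decide

theorem letW_lt : ∀ c, c < 4 → ∀ x ∈ letW c, x < 6 := by decide

set_option maxRecDepth 1000000 in
theorem tab_agree : ∀ c, c < 6 →
    agreeRangeF Cfsg.Agent.Helper9.J3.tab (W c) (tabF c) 6156 0 = true := by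
  decide +kernel

set_option maxRecDepth 1000000 in
theorem chk_rels : ∀ r ∈ CC, fixRangeF tabF r 6156 0 = true := by decide +kernel

set_option maxRecDepth 1000000 in
theorem chk_pow : fixRangeF tabF (List.replicate 17 0) 6156 0 = true ∧
    fixRangeF tabF (List.replicate 17 2) 6156 0 = true ∧
    fixRangeF tabF (List.replicate 19 4) 6156 0 = true := by decide +kernel

set_option maxRecDepth 1000000 in
theorem chk_let : ∀ c, c < 4 →
    agreeRangeF tabF (letW c) (Cfsg.Agent.Helper9.J3.tab c) 6156 0 = true := by decide +kernel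

set_option maxRecDepth 1000000 in
theorem chk_move : tabF 0 0 ≠ 0 := by decide +kernel

set_option maxRecDepth 1000000 in
theorem chainU_ok : chainOK tabF (2 * 2) 6156 [] levelUs = true := chainOK_of_F (by decide +kernel)

theorem chainU_prod : chainProd levelUs = 4080 := by decide +kernel

theorem CC_lt : ∀ r ∈ CC, ∀ c ∈ r, c < 2 * 3 := by decide

theorem CU_lt : ∀ r ∈ CU, ∀ c ∈ r, c < 2 * 2 := by decide

theorem CU_sub : ∀ r ∈ CU, r ∈ CC := by decide

end Cfsg.Agent.Helper5.J3X
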