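import Mathlib
import Cfsg.Agent.Helper5.J3XChk
import Cfsg.Agent.Helper5.LPL
import Cfsg.Agent.Helper9.J3.Levels

/-!
# Generators of `J₃` for the Schur multiplier

In the permutation group on 6156 points generated by four letters (of order 50232960): elements
`a, b` of order 17 and `c` of order 19, their relators, generation, and the action on the 6156
points in terms of the six letters `a, a⁻¹, b, b⁻¹, c, c⁻¹`.
-/

set_option autoImplicit false

namespace Cfsg.Agent.Helper5.J3X

open Cfsg.Agent.Helper5.LP Cfsg.Agent.Helper5.StemP Cfsg.Agent.Helper5.TC Cfsg.Agent.Helper5.TCI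
open Cfsg.Agent.Helper9 (J3.G J3.P J3.permW J3.tab J3.linv)

/-- the group. -/
abbrev P : Type := ↥Cfsg.Agent.Helper9.J3.G

/-- the permutation representation on 6156 points. -/
noncomputable def rho : P →* Equiv.Perm (Fin 6156) := Cfsg.Agent.Helper9.J3.G.subtype

theorem rho_inj : Function.Injective rho := Subtype.val_injective

/-- the element spelled by a word in the four original letters. -/
noncomputable def ev4 (w : List ℕ) : P :=
  ⟨Cfsg.Agent.Helper9.J3.permW w, Cfsg.Agent.Helper9.J3.permW_mem w⟩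

theorem ev4_append (a b : List ℕ) : ev4 (a ++ b) = ev4 a * ev4 b := by
  apply Subtype.ext
  exact Cfsg.Agent.Helper9.J3.permW_append a b

theorem ev4_nil : ev4 [] = 1 := rfl

theorem permW_winv : ∀ w : List ℕ, (∀ c ∈ w, c < 4) →
    Cfsg.Agent.Helper9.J3.permW (winv w) = (Cfsg.Agent.Helper9.J3.permW w)⁻¹
  | [], _ => by
    unfold winv
    rw [List.map_nil, List.reverse_nil, Cfsg.Agent.Helper9.J3.permW_nil, inv_one]
  | c :: w, h => by
    have ih := permW_winv w (fun c hc => h c (List.mem_cons_of_mem _ hc))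
    unfold winv at ih ⊢
    rw [List.map_cons, List.reverse_cons, Cfsg.Agent.Helper9.J3.permW_append, ih,
      Cfsg.Agent.Helper9.J3.permW_cons, Cfsg.Agent.Helper9.J3.permW_cons,
      Cfsg.Agent.Helper9.J3.permW_nil, mul_one,
      Cfsg.Agent.Helper9.J3.P_linv c (h c List.mem_cons_self), mul_inv_rev]

theorem ev4_winv (w : List ℕ) (hw : ∀ c ∈ w, c < 4) : ev4 (winv w) = (ev4 w)⁻¹ := by
  apply Subtype.ext
  exact permW_winv w hw

theorem evalW_eq_actL (T : ℕ → ℕ → ℕ) : ∀ (w : List ℕ) (x : ℕ),
    Cfsg.Agent.Helper9.PChain.evalW T w x = actL T w x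
  | [], _ => rfl
  | c :: w, x => by
    have ih := evalW_eq_actL T w x
    unfold Cfsg.Agent.Helper9.PChain.evalW at ih ⊢
    rw [List.foldr_cons, ih]
    rfl

theorem hA4 : ActsOn rho ev4 4 Cfsg.Agent.Helper9.J3.tab :=
  ⟨fun l _ v => by
    rw [← evalW_eq_actL]
    exact Cfsg.Agent.Helper9.J3.permW_apply l v⟩

instance finP : Finite P := inferInstance

theorem card_P : Nat.card P = 50232960 := Cfsg.Agent.Helper9.J3.card_G

/-- the generators. -/
noncomputable def g (i : ℕ) : P := ev4 (W (2 * i))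

/-- the orders. -/
def mm (i : ℕ) : ℕ := if i = 2 then 19 else 17

theorem lval_g : ∀ c, c < 6 → lval g c = ev4 (W c) := by
  intro c hc
  obtain ⟨h1, h3, h5⟩ := W_rev
  interval_cases c
  · rfl
  · rw [h1, ev4_winv _ (W_lt 0 (by norm_num))]
    rfl
  · rfl
  · rw [h3, ev4_winv _ (W_lt 2 (by norm_num))]
    rfl
  · rfl
  · rw [h5, ev4_winv _ (W_lt 4 (by norm_num))]
    rfl

/-! ### the action on the 6156 points -/

theorem tabF_eq (c : ℕ) (hc : c < 6) (v : ℕ) (hv : v < 6156) :
    tabF c v = actL Cfsg.Agent.Helper9.J3.tab (W c) v :=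
  agreeRangeF_spec _ _ _ 6156 0 (tab_agree c hc) v (Nat.zero_le _) (by omega)

theorem rho_lval (c : ℕ) (hc : c < 6) (v : Fin 6156) :
    (rho (lval g c) v).val = tabF c v.val := by
  rw [lval_g c hc, hA4.act (W c) (W_lt c hc) v, tabF_eq c hc v.val v.isLt]

theorem rho_word : ∀ l : List ℕ, (∀ c ∈ l, c < 6) → ∀ v : Fin 6156,
    (rho ((l.map (lval g)).prod) v).val = actL tabF l v.val
  | [], _, v => by
    rw [List.map_nil, List.prod_nil, map_one]
    rfl
  | c :: l, h, v => by
    rw [List.map_cons, List.prod_cons, map_mul, Equiv.Perm.mul_apply,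
      rho_lval c (h c List.mem_cons_self),
      rho_word l (fun c hc => h c (List.mem_cons_of_mem _ hc)) v]
    rfl

theorem word_eq_one (l : List ℕ) (hl : ∀ c ∈ l, c < 6)
    (h : fixRangeF tabF l 6156 0 = true) : (l.map (lval g)).prod = 1 := by
  apply rho_inj
  ext v
  rw [rho_word l hl v, fixRange_spec _ _ 6156 0 (fixRange_of_F h) v.val (Nat.zero_le _)
    (by have := v.isLt; omega), map_one]
  rfl

theorem CC_rel : ∀ r ∈ CC, (r.map (lval g)).prod = 1 := fun r hr =>
  word_eq_one r (CC_lt r hr) (chk_rels r hr)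

theorem pow_eq_one {i n : ℕ} (hi : i < 3)
    (h : fixRangeF tabF (List.replicate n (2 * i)) 6156 0 = true) :
    g i ^ n = 1 := by
  have h1 : ((List.replicate n (2 * i)).map (lval g)).prod = 1 := by
    apply word_eq_one _ _ h
    intro c hc
    rw [List.eq_of_mem_replicate hc]
    omega
  rwa [List.map_replicate, List.prod_replicate, lval_even] at h1

theorem g_pow : ∀ i, i < 3 → g i ^ mm i = 1 := by
  intro i hi
  interval_cases i
  · exact pow_eq_one (by norm_num) chk_pow.1
  · exact pow_eq_one (by norm_num) chk_pow.2.1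
  · exact pow_eq_one (by norm_num) chk_pow.2.2

theorem g0_ne : g 0 ≠ 1 := by
  intro h
  apply chk_move
  have h1 := rho_lval 0 (by norm_num) ⟨0, by norm_num⟩
  have h2 : lval g 0 = g 0 := rfl
  rw [h2, h, map_one] at h1
  exact h1.symm

theorem order_g0 : orderOf (g 0) = 17 := by
  have : Fact (Nat.Prime 17) := ⟨by norm_num⟩
  have h17 : g 0 ^ 17 = 1 := g_pow 0 (by norm_num)
  exact orderOf_eq_prime h17 g0_ne

/-- a group whose words act on the table as prescribed by a homomorphism to the group. -/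
theorem actsOn_of_hom {Q : Type*} [Group Q] (π : Q →* P) (e : List ℕ → Q) (k : ℕ) (hk : k ≤ 6)
    (he : ∀ l : List ℕ, (∀ c ∈ l, c < k) → π (e l) = (l.map (lval g)).prod) :
    ActsOn (rho.comp π) e k tabF := by
  constructor
  intro l hl v
  rw [MonoidHom.comp_apply, he l hl]
  exact rho_word l (fun c hc => lt_of_lt_of_le (hl c hc) hk) v

/-! ### generation -/

theorem word_mem (l : List ℕ) (hl : ∀ c ∈ l, c < 6) :
    (l.map (lval g)).prod ∈ Subgroup.closure {y : P | ∃ i, i < 3 ∧ y = g i} := by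
  apply Subgroup.list_prod_mem
  intro y hy
  obtain ⟨c, hc, rfl⟩ := List.mem_map.mp hy
  have hi : c / 2 < 3 := by have := hl c hc; omega
  unfold lval
  split_ifs
  · exact Subgroup.subset_closure ⟨c / 2, hi, rfl⟩
  · exact inv_mem (Subgroup.subset_closure ⟨c / 2, hi, rfl⟩)

theorem letter_eq (c : ℕ) (hc : c < 4) : ev4 [c] = ((letW c).map (lval g)).prod := by
  apply rho_inj
  ext v
  rw [rho_word _ (letW_lt c hc) v, hA4.act [c] (by
    intro x hx
    rw [List.mem_singleton] at hx
    omega) v,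
    ← agreeRangeF_spec _ _ _ 6156 0 (chk_let c hc) v.val (Nat.zero_le _)
      (by have := v.isLt; omega)]
  rfl

/-- the three generators generate the group. -/
theorem g_closure : Subgroup.closure {y : P | ∃ i, i < 3 ∧ y = g i} = ⊤ := by
  rw [eq_top_iff]
  have h := Subgroup.closure_closure_coe_preimage
    (k := Set.range fun l : Fin 4 => Cfsg.Agent.Helper9.J3.P l.val)
  have h' : (⊤ : Subgroup P) = Subgroup.closure (((↑) : P → Equiv.Perm (Fin 6156)) ⁻¹'
      (Set.range fun l : Fin 4 => Cfsg.Agent.Helper9.J3.P l.val)) := h.symm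
  rw [h', Subgroup.closure_le]
  rintro x ⟨l, hl⟩
  have hx : x = ev4 [l.val] := by
    apply Subtype.ext
    rw [← hl]
    unfold ev4
    simp only [Cfsg.Agent.Helper9.J3.permW_cons, Cfsg.Agent.Helper9.J3.permW_nil, mul_one]
  rw [hx, letter_eq l.val l.isLt]
  exact word_mem _ (letW_lt l.val l.isLt)

end Cfsg.Agent.Helper5.J3X
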