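import Cfsg.Agent.Helper5.J3XMDat

/-! generated permutation model of a central extension, checks: J3XM -/

set_option autoImplicit false
set_option Elab.async false
set_option maxRecDepth 1000000

namespace Cfsg.Agent.Helper5.J3XM
open Cfsg.Agent.Helper5.TC Cfsg.Agent.Helper5.TCI Cfsg.Agent.Helper5.LP

theorem iterc_4_11111 : iterFixRangeF Wb_4 18 11111 11111 = true := by decide +kernel

theorem iterc_0_12820 : iterFixRangeF Wb_0 18 12820 12820 = true := by decide +kernel

theorem iterc_9_0 : iterFixRangeF Wb_9 18 16666 0 = true := by decide +kernel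

theorem relc_30_0 : fixPtsF W_30 36936 0 = true := by decide +kernel

theorem relc_39_0 : fixPtsF W_39 36936 0 = true := by decide +kernel

theorem relc_2_0 : fixPtsF W_2 36936 0 = true := by decide +kernel

end Cfsg.Agent.Helper5.J3XM
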