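import Cfsg.Agent.Helper5.J3XMDat

/-! generated permutation model of a central extension, checks: J3XM -/

set_option autoImplicit false
set_option Elab.async false
set_option maxRecDepth 1000000

namespace Cfsg.Agent.Helper5.J3XM
open Cfsg.Agent.Helper5.TC Cfsg.Agent.Helper5.TCI Cfsg.Agent.Helper5.LP

theorem iterc_1_22222 : iterFixRangeF Wb_1 18 11111 22222 = true := by decide +kernel

theorem iterc_5_22222 : iterFixRangeF Wb_5 18 11111 22222 = true := by decide +kernel

theorem iterc_0_25640 : iterFixRangeF Wb_0 18 11296 25640 = true := by decide +kernel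

theorem relc_28_0 : fixPtsF W_28 36936 0 = true := by decide +kernel

theorem iterc_5_33333 : iterFixRangeF Wb_5 18 3603 33333 = true := by decide +kernel

theorem relc_8_0 : fixPtsF W_8 36936 0 = true := by decide +kernel

end Cfsg.Agent.Helper5.J3XM
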