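import Cfsg.Agent.Helper5.J3XMDat

/-! generated permutation model of a central extension, checks: J3XM -/

set_option autoImplicit false
set_option Elab.async false
set_option maxRecDepth 1000000

namespace Cfsg.Agent.Helper5.J3XM
open Cfsg.Agent.Helper5.TC Cfsg.Agent.Helper5.TCI Cfsg.Agent.Helper5.LP

theorem iterc_2_11111 : iterFixRangeF Wb_2 18 11111 11111 = true := by decide +kernel

theorem iterc_6_11111 : iterFixRangeF Wb_6 18 11111 11111 = true := by decide +kernel

theorem relc_12_0 : fixPtsF W_12 36936 0 = true := by decide +kernel

theorem relc_17_0 : fixPtsF W_17 36936 0 = true := by decide +kernel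

theorem relc_23_0 : fixPtsF W_23 36936 0 = true := by decide +kernel

theorem relc_11_0 : fixPtsF W_11 36936 0 = true := by decide +kernel

theorem relc_38_0 : fixPtsF W_38 36936 0 = true := by decide +kernel

end Cfsg.Agent.Helper5.J3XM
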