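import Cfsg.Agent.Helper5.J3XMDat

/-! generated permutation model of a central extension, checks: J3XM -/

set_option autoImplicit false
set_option Elab.async false
set_option maxRecDepth 1000000

namespace Cfsg.Agent.Helper5.J3XM
open Cfsg.Agent.Helper5.TC Cfsg.Agent.Helper5.TCI Cfsg.Agent.Helper5.LP

theorem iterc_3_22222 : iterFixRangeF Wb_3 18 11111 22222 = true := by decide +kernel

theorem iterc_7_22222 : iterFixRangeF Wb_7 18 11111 22222 = true := by decide +kernel

theorem relc_16_0 : fixPtsF W_16 36936 0 = true := by decide +kernel

theorem relc_21_0 : fixPtsF W_21 36936 0 = true := by decide +kernel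

theorem relc_27_0 : fixPtsF W_27 36936 0 = true := by decide +kernel

theorem iterc_4_33333 : iterFixRangeF Wb_4 18 3603 33333 = true := by decide +kernel

theorem relc_37_0 : fixPtsF W_37 36936 0 = true := by decide +kernel

theorem relc_4_0 : fixPtsF W_4 36936 0 = true := by decide +kernel

end Cfsg.Agent.Helper5.J3XM
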