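import Cfsg.Agent.Helper5.J3XMDat

/-! generated permutation model of a central extension, checks: J3XM -/

set_option autoImplicit false
set_option Elab.async false
set_option maxRecDepth 1000000

namespace Cfsg.Agent.Helper5.J3XM
open Cfsg.Agent.Helper5.TC Cfsg.Agent.Helper5.TCI Cfsg.Agent.Helper5.LP

theorem iterc_4_0 : iterFixRangeF Wb_4 18 11111 0 = true := by decide +kernel

theorem iterc_0_0 : iterFixRangeF Wb_0 18 12820 0 = true := by decide +kernel

theorem iterc_8_16666 : iterFixRangeF Wb_8 18 16666 16666 = true := by decide +kernel

theorem relc_29_0 : fixPtsF W_29 36936 0 = true := by decide +kernel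

theorem iterc_7_33333 : iterFixRangeF Wb_7 18 3603 33333 = true := by decide +kernel

theorem inv_1 : invRowFI mT 36936 1 0 36936 0 = true := by decide +kernel

theorem inv_3 : invRowFI mT 36936 3 2 36936 0 = true := by decide +kernel

theorem inv_5 : invRowFI mT 36936 5 4 36936 0 = true := by decide +kernel

theorem relc_7_0 : fixPtsF W_7 36936 0 = true := by decide +kernel

end Cfsg.Agent.Helper5.J3XM
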