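import Cfsg.Agent.Helper5.J3XMDat

/-! generated permutation model of a central extension, checks: J3XM -/

set_option autoImplicit false
set_option Elab.async false
set_option maxRecDepth 1000000

namespace Cfsg.Agent.Helper5.J3XM
open Cfsg.Agent.Helper5.TC Cfsg.Agent.Helper5.TCI Cfsg.Agent.Helper5.LP

theorem iterc_1_0 : iterFixRangeF Wb_1 18 11111 0 = true := by decide +kernel

theorem iterc_5_0 : iterFixRangeF Wb_5 18 11111 0 = true := by decide +kernel

theorem iterc_10_0 : iterFixRangeF Wb_10 18 13888 0 = true := by decide +kernel

theorem relc_32_0 : fixPtsF W_32 36936 0 = true := by decide +kernel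

theorem relc_41_0 : fixPtsF W_41 36936 0 = true := by decide +kernel

theorem inv_0 : invRowFI mT 36936 0 1 36936 0 = true := by decide +kernel

theorem inv_2 : invRowFI mT 36936 2 3 36936 0 = true := by decide +kernel

theorem inv_4 : invRowFI mT 36936 4 5 36936 0 = true := by decide +kernel

theorem relc_6_0 : fixPtsF W_6 36936 0 = true := by decide +kernel

end Cfsg.Agent.Helper5.J3XM
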