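import Mathlib

/-!
Helper lemmas (helper5): the relative trace `∏_{q ∈ D/S} q a q⁻¹` on an abelian subgroup `M`
normalized by `D`, for `S ≤ D`.
-/

set_option autoImplicit false

namespace Cfsg.Agent.Helper5.RelTrace

open scoped IsMulCommutative

variable {H : Type*} [Group H]

/-- conjugation by an element of the normalizer, as an endomorphism of `M` -/
def conjM (M : Subgroup H) (d : H) (hd : d ∈ Subgroup.normalizer (M : Set H)) : ↥M →* ↥M where
  toFun a := ⟨d * a * d⁻¹, (Subgroup.mem_normalizer_iff.mp hd a).mp a.2⟩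
  map_one' := by ext; simp
  map_mul' a b := by ext; simp [mul_assoc]

@[simp] theorem conjM_coe (M : Subgroup H) (d : H) (hd : d ∈ Subgroup.normalizer (M : Set H)) (a : ↥M) :
    ((conjM M d hd a : ↥M) : H) = d * a * d⁻¹ := rfl

variable (D S M : Subgroup H) (hDM : D ≤ Subgroup.normalizer (M : Set H))
  [IsMulCommutative ↥M] [Fintype (↥D ⧸ S.subgroupOf D)]

/-- the relative trace -/
noncomputable def tr (a : ↥M) : ↥M :=
  ∏ q : ↥D ⧸ S.subgroupOf D, conjM M ((q.out : ↥D) : H) (hDM (q.out).2) a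

theorem tr_mul (a b : ↥M) : tr D S M hDM (a * b) = tr D S M hDM a * tr D S M hDM b := by
  unfold tr
  rw [← Finset.prod_mul_distrib]
  exact Finset.prod_congr rfl (fun q _ => map_mul _ a b)

theorem tr_one : tr D S M hDM 1 = 1 := by
  unfold tr
  exact Finset.prod_eq_one (fun q _ => map_one _)

theorem tr_pow (a : ↥M) (n : ℕ) : tr D S M hDM (a ^ n) = tr D S M hDM a ^ n := by
  unfold tr
  rw [← Finset.prod_pow]
  exact Finset.prod_congr rfl (fun q _ => map_pow _ a n)

theorem tr_inv (a : ↥M) : tr D S M hDM a⁻¹ = (tr D S M hDM a)⁻¹ := by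
  unfold tr
  rw [← Finset.prod_inv_distrib]
  exact Finset.prod_congr rfl (fun q _ => map_inv _ a)

omit [IsMulCommutative ↥M] [Fintype (↥D ⧸ S.subgroupOf D)] in
/-- conjugating by two elements of the same coset gives the same result on elements centralized by `S` -/
theorem conj_eq_of_coset {a : ↥M} (ha : ∀ s ∈ S, s * (a : H) = a * s) {x y : ↥D}
    (hxy : x⁻¹ * y ∈ S.subgroupOf D) :
    (y : H) * a * (y : H)⁻¹ = (x : H) * a * (x : H)⁻¹ := by
  rw [Subgroup.mem_subgroupOf] at hxy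
  have h1 := ha _ hxy
  have e : (y : H) = x * ((x⁻¹ * y : ↥D) : H) := by
    simp
  rw [e]
  set s : H := ((x⁻¹ * y : ↥D) : H) with hs
  calc (x : H) * s * a * ((x : H) * s)⁻¹ = x * (s * a) * s⁻¹ * (x : H)⁻¹ := by group
    _ = x * (a * s) * s⁻¹ * (x : H)⁻¹ := by rw [h1]
    _ = x * a * (x : H)⁻¹ := by group

omit [IsMulCommutative ↥M] [Fintype (↥D ⧸ S.subgroupOf D)] in
theorem conj_out_eq {a : ↥M} (ha : ∀ s ∈ S, s * (a : H) = a * s) (x : ↥D) :
    (((QuotientGroup.mk x : ↥D ⧸ S.subgroupOf D).out : ↥D) : H) * a *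
      (((QuotientGroup.mk x : ↥D ⧸ S.subgroupOf D).out : ↥D) : H)⁻¹ = (x : H) * a * (x : H)⁻¹ := by
  apply conj_eq_of_coset D S M ha
  apply QuotientGroup.eq.mp
  exact (QuotientGroup.out_eq' _).symm

/-- the trace of an element centralized by `S` is centralized by `D` -/
theorem conj_tr {a : ↥M} (ha : ∀ s ∈ S, s * (a : H) = a * s) (d : H) (hd : d ∈ D) :
    d * (tr D S M hDM a : H) * d⁻¹ = tr D S M hDM a := by
  have h1 : conjM M d (hDM hd) (tr D S M hDM a) = tr D S M hDM a := by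
    unfold tr
    rw [map_prod]
    let e : (↥D ⧸ S.subgroupOf D) ≃ (↥D ⧸ S.subgroupOf D) := MulAction.toPerm (⟨d, hd⟩ : ↥D)
    rw [← Equiv.prod_comp e (fun q => conjM M ((q.out : ↥D) : H) (hDM (q.out).2) a)]
    apply Finset.prod_congr rfl
    intro q _
    apply Subtype.ext
    rw [conjM_coe, conjM_coe, conjM_coe]
    have h2 : e q = QuotientGroup.mk (⟨d, hd⟩ * q.out) := by
      show (⟨d, hd⟩ : ↥D) • q = _
      conv_lhs => rw [← QuotientGroup.out_eq' q]
      rfl
    rw [h2, conj_out_eq D S M ha]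
    simp [mul_assoc]
  have := congrArg Subtype.val h1
  simpa using this

/-- the trace of an element centralized by `D` is its power -/
theorem tr_eq_pow {a : ↥M} (ha : ∀ d ∈ D, d * (a : H) = a * d) :
    tr D S M hDM a = a ^ (Fintype.card (↥D ⧸ S.subgroupOf D)) := by
  unfold tr
  rw [← Finset.card_univ, ← Finset.prod_const]
  apply Finset.prod_congr rfl
  intro q _
  apply Subtype.ext
  rw [conjM_coe, ha _ (q.out).2]
  group

/-- equivariance under an element normalizing `D`, `S`, `M` -/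
theorem tr_conj [Finite H] {a : ↥M} (ha : ∀ s ∈ S, s * (a : H) = a * s) (t : H)
    (htD : t ∈ Subgroup.normalizer (D : Set H)) (htS : t ∈ Subgroup.normalizer (S : Set H))
    (htM : t ∈ Subgroup.normalizer (M : Set H)) :
    t * (tr D S M hDM a : H) * t⁻¹ = tr D S M hDM (conjM M t htM a) := by
  have hconjD : ∀ x : ↥D, t * (x : H) * t⁻¹ ∈ D := fun x =>
    (Subgroup.mem_normalizer_iff.mp htD x).mp x.2
  let σ : (↥D ⧸ S.subgroupOf D) → (↥D ⧸ S.subgroupOf D) :=
    fun q => QuotientGroup.mk ⟨t * (q.out : ↥D) * t⁻¹, hconjD _⟩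
  have hσinj : Function.Injective σ := by
    intro q q' hqq
    have h1 : (⟨t * (q.out : ↥D) * t⁻¹, hconjD _⟩ : ↥D)⁻¹ * ⟨t * (q'.out : ↥D) * t⁻¹, hconjD _⟩ ∈
        S.subgroupOf D := QuotientGroup.eq.mp hqq
    rw [Subgroup.mem_subgroupOf] at h1
    have h2 : t * (((q.out : ↥D) : H)⁻¹ * ((q'.out : ↥D) : H)) * t⁻¹ ∈ S := by
      have e : t * (((q.out : ↥D) : H)⁻¹ * ((q'.out : ↥D) : H)) * t⁻¹ =
          (t * (q.out : ↥D) * t⁻¹)⁻¹ * (t * (q'.out : ↥D) * t⁻¹) := by group
      rw [e]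
      simpa using h1
    have h3 : ((q.out : ↥D) : H)⁻¹ * ((q'.out : ↥D) : H) ∈ S :=
      (Subgroup.mem_normalizer_iff.mp htS _).mpr h2
    have h4 : (q.out)⁻¹ * q'.out ∈ S.subgroupOf D := by
      rw [Subgroup.mem_subgroupOf]; simpa using h3
    have h5 : (QuotientGroup.mk q.out : ↥D ⧸ S.subgroupOf D) = QuotientGroup.mk q'.out :=
      QuotientGroup.eq.mpr h4
    rwa [QuotientGroup.out_eq', QuotientGroup.out_eq'] at h5
  have hσbij : Function.Bijective σ := Finite.injective_iff_bijective.mp hσinj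
  let e : (↥D ⧸ S.subgroupOf D) ≃ (↥D ⧸ S.subgroupOf D) := Equiv.ofBijective σ hσbij
  have ha' : ∀ s ∈ S, s * ((conjM M t htM a : ↥M) : H) = (conjM M t htM a : ↥M) * s := by
    intro s hs
    rw [conjM_coe]
    have hs' : t⁻¹ * s * t⁻¹⁻¹ ∈ S :=
      (Subgroup.mem_normalizer_iff.mp (Subgroup.inv_mem _ htS) s).mp hs
    have h1 := ha _ hs'
    calc s * (t * (a : H) * t⁻¹) = t * ((t⁻¹ * s * t⁻¹⁻¹) * a) * t⁻¹ := by group
      _ = t * (a * (t⁻¹ * s * t⁻¹⁻¹)) * t⁻¹ := by rw [h1]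
      _ = t * a * t⁻¹ * s := by group
  have h1 : conjM M t htM (tr D S M hDM a) = tr D S M hDM (conjM M t htM a) := by
    unfold tr
    rw [map_prod]
    rw [← Equiv.prod_comp e
      (fun q => conjM M ((q.out : ↥D) : H) (hDM (q.out).2) (conjM M t htM a))]
    apply Finset.prod_congr rfl
    intro q _
    apply Subtype.ext
    rw [conjM_coe, conjM_coe]
    have h2 : e q = QuotientGroup.mk ⟨t * (q.out : ↥D) * t⁻¹, hconjD _⟩ := rfl
    rw [conjM_coe, h2, conj_out_eq D S M ha', conjM_coe]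
    simp only
    group
  have := congrArg Subtype.val h1
  simpa using this

end Cfsg.Agent.Helper5.RelTrace
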