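import Mathlib
import Cfsg.Agent.Helper5.RelTrace
import Cfsg.Agent.Helper5.PGroupCenter
import Cfsg.Agent.Helper5.Misc
import Cfsg.Agent.Helper5.CharP2

/-!
Helper lemmas (helper5): the abstract core of Kieler's Lemma.
-/

set_option autoImplicit false

namespace Cfsg.Agent.Helper5.Kieler

open scoped IsMulCommutative
open Cfsg.Agent.Helper5.RelTrace

variable {H : Type*} [Group H]

/-- the generating set of `Ω₁(Z(T))` -/
def zset (p : ℕ) (T : Subgroup H) : Set H :=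
  {a | a ∈ T ⊓ Subgroup.centralizer (T : Set H) ∧ a ^ p = 1}

theorem commute_of_commute_pow {p n : ℕ} [hp : Fact p.Prime] (hn : n.Coprime p) {x d : H} (hx : x ^ p = 1)
    (h : d * x ^ n = x ^ n * d) : d * x = x * d := by
  obtain ⟨m, -, hm⟩ := Nat.exists_mul_mod_eq_one_of_coprime hn hp.out.one_lt
  have h1 : (x ^ n) ^ m = x := by
    rw [← pow_mul, pow_eq_pow_mod (n * m) hx, hm, pow_one]
  have h2 : Commute d (x ^ n) := h
  have h3 := h2.pow_right m
  rw [h1] at h3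
  exact h3

variable [Finite H] {p : ℕ} [Fact p.Prime]

omit [Finite H] in
theorem coprime_relIndex_of_le {T₀ D E : Subgroup H} (hTD : T₀ ≤ D) (hDE : D ≤ E)
    (hSyl : ¬ p ∣ T₀.relIndex E) : (T₀.relIndex D).Coprime p := by
  rw [Nat.coprime_comm]
  refine (Nat.Prime.coprime_iff_not_dvd Fact.out).mpr (fun h => hSyl (dvd_trans h ?_))
  exact Dvd.intro _ (Subgroup.relIndex_mul_relIndex T₀ D E hTD hDE)

/-- The abstract core of Kieler's lemma (the normal case). -/
theorem kieler_normal (T E MH ME : Subgroup H) (hT : IsPGroup p T)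
    (hTE : T ≤ Subgroup.normalizer (E : Set H))
    (hSyl : ¬ p ∣ (T ⊓ E).relIndex E)
    (hMHc : ∀ x ∈ MH, ∀ y ∈ MH, x * y = y * x) (hEMH : E ≤ Subgroup.normalizer (MH : Set H))
    (hMHT : MH ≤ T) (hZMH : zset p T ⊆ MH)
    (hMEc : ∀ x ∈ ME, ∀ y ∈ ME, x * y = y * x) (hEME : E ≤ Subgroup.normalizer (ME : Set H))
    (hTME : T ≤ Subgroup.normalizer (ME : Set H)) (hMET : ME ≤ T ⊓ E)
    (hZME : zset p (T ⊓ E) ⊆ ME) :
    E ⊓ Subgroup.centralizer (zset p T) = E ⊓ Subgroup.centralizer (zset p (T ⊓ E)) := by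
  obtain ⟨T₀, hT₀⟩ : ∃ T₀, T₀ = T ⊓ E := ⟨_, rfl⟩
  rw [← hT₀] at hSyl hMET hZME ⊢
  have hT₀T : T₀ ≤ T := hT₀ ▸ inf_le_left
  have hT₀E : T₀ ≤ E := hT₀ ▸ inf_le_right
  apply le_antisymm
  · -- (⊆)
    obtain ⟨D, hD⟩ : ∃ D, D = E ⊓ Subgroup.centralizer (zset p T) := ⟨_, rfl⟩
    rw [← hD]
    refine le_inf (hD ▸ inf_le_left) ?_
    have hDE : D ≤ E := hD ▸ inf_le_left
    have hTcen : T ≤ Subgroup.centralizer (zset p T) := by
      intro t ht
      rw [Subgroup.mem_centralizer_iff]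
      intro a ha
      exact (Subgroup.mem_centralizer_iff.mp ha.1.2 t ht).symm
    have hT₀D : T₀ ≤ D := hD ▸ le_inf hT₀E (hT₀T.trans hTcen)
    letI : Fintype (↥D ⧸ T₀.subgroupOf D) := Fintype.ofFinite _
    have hn : Fintype.card (↥D ⧸ T₀.subgroupOf D) = T₀.relIndex D := by
      rw [← Nat.card_eq_fintype_card]; rfl
    have hcop : (Fintype.card (↥D ⧸ T₀.subgroupOf D)).Coprime p := by
      rw [hn]; exact coprime_relIndex_of_le hT₀D hDE hSyl
    haveI : IsMulCommutative ↥ME := ⟨⟨fun x y => Subtype.ext (hMEc x x.2 y y.2)⟩⟩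
    have hDM : D ≤ Subgroup.normalizer (ME : Set H) := hDE.trans hEME
    -- T normalizes D, T₀
    have hTD : T ≤ Subgroup.normalizer (D : Set H) := by
      intro t ht
      rw [hD]
      exact mem_normalizer_inf _ _ t (hTE ht) (Subgroup.le_normalizer (hTcen ht))
    have hTT₀ : T ≤ Subgroup.normalizer (T₀ : Set H) := by
      intro t ht
      rw [hT₀]
      exact mem_normalizer_inf _ _ t (Subgroup.le_normalizer ht) (hTE ht)
    -- the trace as a hom
    let trHom : ↥ME →* ↥ME := MonoidHom.mk' (tr D T₀ ME hDM) (tr_mul D T₀ ME hDM)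
    have htrHom : ∀ y, trHom y = tr D T₀ ME hDM y := fun y => rfl
    let K₁ : Subgroup ↥ME := trHom.ker ⊓ (Subgroup.centralizer (T₀ : Set H)).subgroupOf ME ⊓
      (powMonoidHom p : ↥ME →* ↥ME).ker
    have hK₁ : ∀ y : ↥ME, y ∈ K₁ ↔ tr D T₀ ME hDM y = 1 ∧ (∀ s ∈ T₀, s * (y : H) = y * s) ∧
        y ^ p = 1 := by
      intro y
      simp only [K₁, Subgroup.mem_inf, MonoidHom.mem_ker, htrHom, Subgroup.mem_subgroupOf,
        Subgroup.mem_centralizer_iff, powMonoidHom_apply, SetLike.mem_coe, and_assoc]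
    obtain ⟨K₀, hK₀⟩ : ∃ K₀ : Subgroup H, K₀ = K₁.map ME.subtype := ⟨_, rfl⟩
    have hK₀mem : ∀ x : H, x ∈ K₀ ↔ ∃ hx : x ∈ ME, (⟨x, hx⟩ : ↥ME) ∈ K₁ := by
      intro x
      rw [hK₀]
      constructor
      · rintro ⟨y, hy, rfl⟩
        exact ⟨y.2, hy⟩
      · rintro ⟨hx, hy⟩
        exact ⟨⟨x, hx⟩, hy, rfl⟩
    have hK₀T : K₀ ≤ T := by
      intro x hx
      obtain ⟨hxM, _⟩ := (hK₀mem x).mp hx
      exact hT₀T (hMET hxM)
    have hTK₀ : T ≤ Subgroup.normalizer (K₀ : Set H) := by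
      apply le_normalizer_of_conj_mem
      intro t ht x hx
      obtain ⟨hxM, hy⟩ := (hK₀mem x).mp hx
      obtain ⟨h1, h2, h3⟩ := (hK₁ _).mp hy
      have htM : t ∈ Subgroup.normalizer (ME : Set H) := hTME ht
      rw [hK₀mem]
      refine ⟨(Subgroup.mem_normalizer_iff.mp htM x).mp hxM, ?_⟩
      have e : (⟨t * x * t⁻¹, (Subgroup.mem_normalizer_iff.mp htM x).mp hxM⟩ : ↥ME) =
          conjM ME t htM ⟨x, hxM⟩ := rfl
      rw [e, hK₁]
      refine ⟨?_, ?_, ?_⟩
      · have h4 := tr_conj D T₀ ME hDM (a := ⟨x, hxM⟩) h2 t (hTD ht) (hTT₀ ht) htM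
        rw [h1] at h4
        apply Subtype.ext
        rw [← h4]
        simp
      · intro s hs
        rw [conjM_coe]
        have hs' : t⁻¹ * s * t⁻¹⁻¹ ∈ T₀ :=
          (Subgroup.mem_normalizer_iff.mp (Subgroup.inv_mem _ (hTT₀ ht)) s).mp hs
        have h5 := h2 _ hs'
        simp only at h5
        calc s * (t * x * t⁻¹) = t * ((t⁻¹ * s * t⁻¹⁻¹) * x) * t⁻¹ := by group
          _ = t * (x * (t⁻¹ * s * t⁻¹⁻¹)) * t⁻¹ := by rw [h5]
          _ = t * x * t⁻¹ * s := by group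
      · rw [← map_pow, h3, map_one]
    have hK₀bot : K₀ = ⊥ := by
      by_contra hne
      obtain ⟨x, hxK, hxo, hxc⟩ := exists_orderOf_eq_prime_central T K₀ hT hK₀T hne hTK₀
      obtain ⟨hxM, hy⟩ := (hK₀mem x).mp hxK
      obtain ⟨h1, _, h3⟩ := (hK₁ _).mp hy
      have hxp : x ^ p = 1 := by rw [← hxo]; exact pow_orderOf_eq_one x
      have hxz : x ∈ zset p T := by
        refine ⟨Subgroup.mem_inf.mpr ⟨hK₀T hxK, ?_⟩, hxp⟩
        rw [Subgroup.mem_centralizer_iff]
        intro t ht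
        exact hxc t ht
      have hxD : ∀ d ∈ D, d * x = x * d := by
        intro d hd
        have hd' : d ∈ Subgroup.centralizer (zset p T) := (hD ▸ hd : d ∈ E ⊓ _).2
        exact (Subgroup.mem_centralizer_iff.mp hd' x hxz).symm
      have h4 := tr_eq_pow D T₀ ME hDM (a := ⟨x, hxM⟩) hxD
      rw [h1] at h4
      have h5 : x ^ (Fintype.card (↥D ⧸ T₀.subgroupOf D)) = 1 := by
        have := congrArg Subtype.val h4
        simpa using this.symm
      have h6 : orderOf x ∣ Fintype.card (↥D ⧸ T₀.subgroupOf D) := orderOf_dvd_of_pow_eq_one h5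
      rw [hxo] at h6
      have h7 := Nat.Coprime.eq_one_of_dvd hcop.symm h6
      exact (Fact.out : p.Prime).one_lt.ne' h7
    -- conclusion
    intro d hd
    rw [Subgroup.mem_centralizer_iff]
    intro a ha
    obtain ⟨haT, hap⟩ := ha
    have haM : a ∈ ME := hZME ⟨haT, hap⟩
    have hacen : ∀ s ∈ T₀, s * a = a * s := fun s hs => Subgroup.mem_centralizer_iff.mp haT.2 s hs
    obtain ⟨y, hy⟩ : ∃ y : ↥ME, y = ⟨a, haM⟩ := ⟨_, rfl⟩
    have hyc : ∀ s ∈ T₀, s * (y : H) = y * s := by rw [hy]; exact hacen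
    have hyp : y ^ p = 1 := by
      rw [hy]; apply Subtype.ext; simpa using hap
    have htrc : ∀ d ∈ D, d * (tr D T₀ ME hDM y : H) = (tr D T₀ ME hDM y : H) * d := by
      intro d hd
      have := conj_tr D T₀ ME hDM hyc d hd
      calc d * (tr D T₀ ME hDM y : H) = (d * (tr D T₀ ME hDM y : H) * d⁻¹) * d := by group
        _ = (tr D T₀ ME hDM y : H) * d := by rw [this]
    obtain ⟨n, hndef⟩ : ∃ n, n = Fintype.card (↥D ⧸ T₀.subgroupOf D) := ⟨_, rfl⟩
    have hb : y ^ n * (tr D T₀ ME hDM y)⁻¹ ∈ K₁ := by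
      rw [hK₁]
      refine ⟨?_, ?_, ?_⟩
      · rw [tr_mul, tr_pow, tr_inv, tr_eq_pow D T₀ ME hDM (a := tr D T₀ ME hDM y) htrc, ← hndef]
        exact mul_inv_cancel _
      · intro s hs
        have h1 : Commute s (y : H) := hyc s hs
        have h2 : Commute s (tr D T₀ ME hDM y : H) := htrc s (hT₀D hs)
        have h3 : Commute s ((y : H) ^ n * (tr D T₀ ME hDM y : H)⁻¹) :=
          (h1.pow_right n).mul_right h2.inv_right
        simpa using h3.eq
      · rw [mul_pow, ← pow_mul, mul_comm n p, pow_mul, hyp, one_pow, one_mul, inv_pow,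
          ← tr_pow, hyp, tr_one, inv_one]
    have hb0 : ((y ^ n * (tr D T₀ ME hDM y)⁻¹ : ↥ME) : H) ∈ K₀ := by
      rw [hK₀mem]; exact ⟨Subtype.property _, hb⟩
    rw [hK₀bot, Subgroup.mem_bot] at hb0
    have hyn : y ^ n = tr D T₀ ME hDM y := by
      have : y ^ n * (tr D T₀ ME hDM y)⁻¹ = 1 := Subtype.ext hb0
      exact mul_inv_eq_one.mp this
    have h8 : d * a ^ n = a ^ n * d := by
      have := htrc d hd
      rw [← hyn, hy] at this
      simpa using this
    exact (commute_of_commute_pow (hndef ▸ hcop) hap h8).symm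
  · -- (⊇)
    obtain ⟨D, hD⟩ : ∃ D, D = E ⊓ Subgroup.centralizer (zset p T₀) := ⟨_, rfl⟩
    rw [← hD]
    refine le_inf (hD ▸ inf_le_left) ?_
    have hDE : D ≤ E := hD ▸ inf_le_left
    have hT₀D : T₀ ≤ D := by
      rw [hD]
      refine le_inf hT₀E ?_
      intro t ht
      rw [Subgroup.mem_centralizer_iff]
      intro a ha
      exact (Subgroup.mem_centralizer_iff.mp ha.1.2 t ht).symm
    letI : Fintype (↥D ⧸ T₀.subgroupOf D) := Fintype.ofFinite _
    have hn : Fintype.card (↥D ⧸ T₀.subgroupOf D) = T₀.relIndex D := by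
      rw [← Nat.card_eq_fintype_card]; rfl
    have hcop : (Fintype.card (↥D ⧸ T₀.subgroupOf D)).Coprime p := by
      rw [hn]; exact coprime_relIndex_of_le hT₀D hDE hSyl
    haveI : IsMulCommutative ↥MH := ⟨⟨fun x y => Subtype.ext (hMHc x x.2 y y.2)⟩⟩
    have hDM : D ≤ Subgroup.normalizer (MH : Set H) := hDE.trans hEMH
    intro d hd
    rw [Subgroup.mem_centralizer_iff]
    intro z hz
    obtain ⟨hzT, hzp⟩ := hz
    have hzM : z ∈ MH := hZMH ⟨hzT, hzp⟩
    have hzTT : z ∈ T := hzT.1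
    have hzcen : ∀ s ∈ T, s * z = z * s := fun s hs => Subgroup.mem_centralizer_iff.mp hzT.2 s hs
    obtain ⟨y, hy⟩ : ∃ y : ↥MH, y = ⟨z, hzM⟩ := ⟨_, rfl⟩
    have hyc : ∀ s ∈ T₀, s * (y : H) = y * s := by
      rw [hy]; exact fun s hs => hzcen s (hT₀T hs)
    have hyp : y ^ p = 1 := by
      rw [hy]; apply Subtype.ext; simpa using hzp
    have htrc : ∀ d ∈ D, d * (tr D T₀ MH hDM y : H) = (tr D T₀ MH hDM y : H) * d := by
      intro d hd
      have := conj_tr D T₀ MH hDM hyc d hd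
      calc d * (tr D T₀ MH hDM y : H) = (d * (tr D T₀ MH hDM y : H) * d⁻¹) * d := by group
        _ = (tr D T₀ MH hDM y : H) * d := by rw [this]
    obtain ⟨n, hndef⟩ : ∃ n, n = Fintype.card (↥D ⧸ T₀.subgroupOf D) := ⟨_, rfl⟩
    -- m = tr y * (y^n)⁻¹
    obtain ⟨m, hm⟩ : ∃ m : ↥MH, m = tr D T₀ MH hDM y * (y ^ n)⁻¹ := ⟨_, rfl⟩
    have hm_prod : m = ∏ q : ↥D ⧸ T₀.subgroupOf D,
        (conjM MH ((q.out : ↥D) : H) (hDM (q.out).2) y * y⁻¹) := by
      rw [hm, Finset.prod_mul_distrib, Finset.prod_const, Finset.card_univ, ← hndef, inv_pow]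
      rfl
    have hmE : m ∈ E.subgroupOf MH := by
      rw [hm_prod]
      apply Subgroup.prod_mem
      intro q _
      rw [Subgroup.mem_subgroupOf]
      have hqE : ((q.out : ↥D) : H) ∈ E := hDE (q.out).2
      have h1 : z * ((q.out : ↥D) : H)⁻¹ * z⁻¹ ∈ E :=
        (Subgroup.mem_normalizer_iff.mp (hTE hzTT) _).mp (E.inv_mem hqE)
      have e : ((conjM MH ((q.out : ↥D) : H) (hDM (q.out).2) y * y⁻¹ : ↥MH) : H) =
          ((q.out : ↥D) : H) * (z * ((q.out : ↥D) : H)⁻¹ * z⁻¹) := by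
        rw [hy]
        simp only [Subgroup.coe_mul, conjM_coe, Subgroup.coe_inv]
        group
      rw [e]
      exact E.mul_mem hqE h1
    rw [Subgroup.mem_subgroupOf] at hmE
    have hmT₀ : (m : H) ∈ T₀ := by
      rw [hT₀]; exact Subgroup.mem_inf.mpr ⟨hMHT m.2, hmE⟩
    have hmc : ∀ s ∈ T₀, s * (m : H) = m * s := by
      intro s hs
      have h1 : Commute s (y : H) := hyc s hs
      have h2 : Commute s (tr D T₀ MH hDM y : H) := htrc s (hT₀D hs)
      have h3 : Commute s ((tr D T₀ MH hDM y : H) * ((y : H) ^ n)⁻¹) :=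
        h2.mul_right (h1.pow_right n).inv_right
      rw [hm]
      simpa using h3.eq
    have hmp : (m : H) ^ p = 1 := by
      have : m ^ p = 1 := by
        rw [hm, mul_pow, ← tr_pow, hyp, tr_one, one_mul, inv_pow, ← pow_mul, mul_comm n p, pow_mul,
          hyp, one_pow, inv_one]
      have := congrArg Subtype.val this
      simpa using this
    have hmz : (m : H) ∈ zset p T₀ := by
      refine ⟨Subgroup.mem_inf.mpr ⟨hmT₀, ?_⟩, hmp⟩
      rw [Subgroup.mem_centralizer_iff]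
      exact hmc
    have hdm : d * (m : H) = m * d := by
      have hd' : d ∈ Subgroup.centralizer (zset p T₀) := (hD ▸ hd : d ∈ E ⊓ _).2
      exact (Subgroup.mem_centralizer_iff.mp hd' _ hmz).symm
    have hzn : z ^ n = (m : H)⁻¹ * (tr D T₀ MH hDM y : H) := by
      have h1 : y ^ n = m⁻¹ * tr D T₀ MH hDM y := by
        rw [hm]
        rw [mul_inv_rev, inv_inv, mul_assoc, inv_mul_cancel, mul_one]
      have h2 := congrArg Subtype.val h1
      have h3 : ((y ^ n : ↥MH) : H) = z ^ n := by rw [hy]; rfl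
      rw [← h3, h2]
      rfl
    have h8 : d * z ^ n = z ^ n * d := by
      have h1 : Commute d (m : H) := hdm
      have h2 : Commute d (tr D T₀ MH hDM y : H) := htrc d hd
      rw [hzn]
      exact (h1.inv_right.mul_right h2).eq
    exact (commute_of_commute_pow (hndef ▸ hcop) hzp h8).symm

end Cfsg.Agent.Helper5.Kieler
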