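import Mathlib

/-!
# S4607, piece G4 (abstract part): fixed points of a `p`-group on a stable subspace

For a linear action `L : G →* End F V` in characteristic `p`, a `p`-subgroup `Q` and a `Q`-stable
subspace `W` we show `dim W ≤ |Q| · dim W^Q`, and deduce a divisibility statement for stable
complementary subspaces.
-/

set_option autoImplicit false
set_option linter.unusedSectionVars false
set_option linter.unusedVariables false
set_option linter.style.haveILetI false

namespace Cfsg.Agent.Helper6.Ku

open Module

section abs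

variable {F : Type*} [Field F] {V : Type*} [AddCommGroup V] [Module F V]
variable {G : Type*} [Group G]

/-- the vectors of `W` fixed by the subgroup `H` -/
def h5_fx (L : G →* Module.End F V) (H : Subgroup G) (W : Submodule F V) : Submodule F V where
  carrier := {w | w ∈ W ∧ ∀ h ∈ H, L h w = w}
  add_mem' := by
    rintro a b ⟨ha, ha'⟩ ⟨hb, hb'⟩
    exact ⟨W.add_mem ha hb, fun h hh => by rw [map_add, ha' h hh, hb' h hh]⟩
  zero_mem' := ⟨W.zero_mem, fun h _ => map_zero _⟩
  smul_mem' := by
    rintro c a ⟨ha, ha'⟩
    exact ⟨W.smul_mem c ha, fun h hh => by rw [map_smul, ha' h hh]⟩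

theorem h5_mem_fx {L : G →* Module.End F V} {H : Subgroup G} {W : Submodule F V} {w : V} :
    w ∈ h5_fx L H W ↔ w ∈ W ∧ ∀ h ∈ H, L h w = w := Iff.rfl

theorem h5_fx_le (L : G →* Module.End F V) (H : Subgroup G) (W : Submodule F V) :
    h5_fx L H W ≤ W := fun _ hw => hw.1

theorem h5_fx_bot (L : G →* Module.End F V) (W : Submodule F V) : h5_fx L ⊥ W = W := by
  apply le_antisymm (h5_fx_le L ⊥ W)
  intro w hw
  refine ⟨hw, fun h hh => ?_⟩
  rw [Subgroup.mem_bot] at hh
  rw [hh, map_one]
  rfl

/-- rank–nullity for the restriction of `f` to a subspace -/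
theorem h5_rank_nullity [FiniteDimensional F V] (f : Module.End F V) (A : Submodule F V) :
    finrank F A = finrank F (A.map f) + finrank F (A ⊓ LinearMap.ker f : Submodule F V) := by
  have h1 := LinearMap.finrank_range_add_finrank_ker (f.domRestrict A)
  rw [LinearMap.range_domRestrict, LinearMap.ker_domRestrict] at h1
  have h2 : finrank F ((LinearMap.ker f).comap A.subtype) =
      finrank F (A ⊓ LinearMap.ker f : Submodule F V) := by
    rw [← Submodule.finrank_map_subtype_eq A ((LinearMap.ker f).comap A.subtype),
      Submodule.map_comap_subtype]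
  rw [h2] at h1
  exact h1.symm

/-- a subspace killed by `f ^ k` has dimension at most `k · dim (A ∩ ker f)` -/
theorem h5_nilp [FiniteDimensional F V] (f : Module.End F V) (k : ℕ) :
    ∀ A : Submodule F V, (∀ a ∈ A, f a ∈ A) → (∀ a ∈ A, (f ^ k) a = 0) →
      finrank F A ≤ k * finrank F (A ⊓ LinearMap.ker f : Submodule F V) := by
  induction k with
  | zero =>
    intro A _ hk
    have : A = ⊥ := by
      rw [Submodule.eq_bot_iff]
      intro a ha
      have := hk a ha
      simpa using this
    rw [this, finrank_bot]
    exact Nat.zero_le _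
  | succ k ih =>
    intro A hA hk
    have hA' : ∀ a ∈ A.map f, f a ∈ A.map f := by
      rintro _ ⟨a, ha, rfl⟩
      exact ⟨f a, hA a ha, rfl⟩
    have hk' : ∀ a ∈ A.map f, (f ^ k) a = 0 := by
      rintro _ ⟨a, ha, rfl⟩
      have := hk a ha
      rwa [pow_succ, Module.End.mul_apply] at this
    have h1 := ih (A.map f) hA' hk'
    have hle : (A.map f ⊓ LinearMap.ker f : Submodule F V) ≤ A ⊓ LinearMap.ker f := by
      apply inf_le_inf_right
      rintro _ ⟨a, ha, rfl⟩
      exact hA a ha
    have h2 := Submodule.finrank_mono hle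
    have h3 := h5_rank_nullity f A
    have h4 : k * finrank F (A.map f ⊓ LinearMap.ker f : Submodule F V) ≤
        k * finrank F (A ⊓ LinearMap.ker f : Submodule F V) := Nat.mul_le_mul_left k h2
    rw [h3, Nat.succ_mul]
    omega

end abs

end Cfsg.Agent.Helper6.Ku
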