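import Mathlib
import Cfsg.Agent.Helper5.Ku_G4a

/-!
# S4607, piece G4 (abstract part, continued): the step lemma and the induction
-/

set_option autoImplicit false
set_option linter.unusedSectionVars false
set_option linter.unusedVariables false
set_option linter.style.haveILetI false

namespace Cfsg.Agent.Helper6.Ku

open Module

section abs

variable {F : Type*} [Field F] {V : Type*} [AddCommGroup V] [Module F V]
variable {G : Type*} [Group G]

/-- freshman's dream for an endomorphism, through the polynomial ring -/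
theorem h5_sub_one_pow (p : ℕ) [Fact p.Prime] [CharP F p] (T : Module.End F V) :
    (T - 1) ^ p = T ^ p - 1 := by
  have h : ((Polynomial.X : Polynomial F) - 1) ^ p = Polynomial.X ^ p - 1 := by
    rw [sub_pow_char_of_commute p (Commute.one_right _), one_pow]
  have := congrArg (Polynomial.aeval T) h
  simpa using this

/-- the step: adjoining an element `y` normalizing `H` with `y ^ p ∈ H` -/
theorem h5_fix_step [FiniteDimensional F V] (p : ℕ) [Fact p.Prime] [CharP F p]
    (L : G →* Module.End F V) (H : Subgroup G) (W : Submodule F V) (y : G)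
    (hy : ∀ h ∈ H, y⁻¹ * h * y ∈ H) (hyp : y ^ p ∈ H) (hW : ∀ w ∈ W, L y w ∈ W) :
    finrank F (h5_fx L H W) ≤ p * finrank F (h5_fx L (H ⊔ Subgroup.zpowers y) W) := by
  set A := h5_fx L H W with hAdef
  set f : Module.End F V := L y - 1 with hf
  have hLy : ∀ a ∈ A, L y a ∈ A := by
    intro a ha
    refine ⟨hW a ha.1, fun h hh => ?_⟩
    have h1 : h * y = y * (y⁻¹ * h * y) := by group
    rw [← Module.End.mul_apply, ← map_mul, h1, map_mul, Module.End.mul_apply,
      ha.2 _ (hy h hh)]
  have hfA : ∀ a ∈ A, f a ∈ A := by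
    intro a ha
    rw [hf, LinearMap.sub_apply, Module.End.one_apply]
    exact A.sub_mem (hLy a ha) ha
  have hfp : ∀ a ∈ A, (f ^ p) a = 0 := by
    intro a ha
    rw [hf, h5_sub_one_pow p (L y), LinearMap.sub_apply, Module.End.one_apply, ← map_pow,
      ha.2 _ hyp, sub_self]
  have h1 := h5_nilp f p A hfA hfp
  have hle : (A ⊓ LinearMap.ker f : Submodule F V) ≤ h5_fx L (H ⊔ Subgroup.zpowers y) W := by
    intro a ha
    rw [Submodule.mem_inf, LinearMap.mem_ker] at ha
    obtain ⟨haA, hfa⟩ := ha
    have hya : L y a = a := by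
      rw [hf, LinearMap.sub_apply, Module.End.one_apply, sub_eq_zero] at hfa
      exact hfa
    refine ⟨haA.1, ?_⟩
    -- the stabilizer of `a` is a subgroup containing `H` and `y`
    let S : Subgroup G :=
      { carrier := {g | L g a = a}
        mul_mem' := by
          intro g g' hg hg'
          show L (g * g') a = a
          rw [map_mul, Module.End.mul_apply, hg', hg]
        one_mem' := by
          show L 1 a = a
          rw [map_one]; rfl
        inv_mem' := by
          intro g hg
          show L g⁻¹ a = a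
          have h2 : L g⁻¹ (L g a) = a := by
            rw [← Module.End.mul_apply, ← map_mul, inv_mul_cancel, map_one]; rfl
          rwa [hg] at h2 }
    have hHS : H ≤ S := fun h hh => haA.2 h hh
    have hyS : Subgroup.zpowers y ≤ S := by
      rw [Subgroup.zpowers_le]
      exact hya
    intro g hg
    exact (sup_le hHS hyS) hg
  exact h1.trans (Nat.mul_le_mul_left p (Submodule.finrank_mono hle))

/-- downward induction along a `p`-group -/
theorem h5_fix_le [FiniteDimensional F V] [Finite G] (p : ℕ) [Fact p.Prime] [CharP F p]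
    (L : G →* Module.End F V) (Q : Subgroup G) (hQ : IsPGroup p Q) (W : Submodule F V)
    (hW : ∀ g ∈ Q, ∀ w ∈ W, L g w ∈ W) :
    ∀ (m : ℕ) (H : Subgroup G), H ≤ Q → H.relIndex Q = m →
      finrank F (h5_fx L H W) ≤ m * finrank F (h5_fx L Q W) := by
  intro m
  induction m using Nat.strong_induction_on with
  | _ m ih =>
    intro H hHQ hm
    by_cases hQH : Q ≤ H
    · have : H = Q := le_antisymm hHQ hQH
      have hm1 : m = 1 := by rw [← hm, Subgroup.relIndex_eq_one]; exact hQH
      rw [this, hm1, one_mul]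
    · -- find `x ∈ N_Q(H) ∖ H`
      haveI : Group.IsNilpotent Q := hQ.isNilpotent
      have hnc := Group.normalizerCondition_of_isNilpotent (G := Q)
      have hlt : H.subgroupOf Q < ⊤ := by
        rw [lt_top_iff_ne_top, Ne, Subgroup.subgroupOf_eq_top]
        exact hQH
      obtain ⟨x, hxn, hxH⟩ := SetLike.exists_of_lt (hnc _ hlt)
      -- pass to a suitable `p`-power of `x`
      have hex : ∃ k : ℕ, x ^ p ^ k ∈ H.subgroupOf Q := by
        obtain ⟨k, hk⟩ := hQ x
        exact ⟨k, by rw [hk]; exact Subgroup.one_mem _⟩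
      classical
      set k0 := Nat.find hex with hk0
      have hk0mem : x ^ p ^ k0 ∈ H.subgroupOf Q := Nat.find_spec hex
      have hk0ne : k0 ≠ 0 := by
        intro h0
        rw [h0, pow_zero, pow_one] at hk0mem
        exact hxH hk0mem
      obtain ⟨j, hj⟩ := Nat.exists_eq_succ_of_ne_zero hk0ne
      set z : Q := x ^ p ^ j with hz
      have hzH : z ∉ H.subgroupOf Q := by
        have := Nat.find_min hex (m := j) (by rw [← hk0, hj]; exact Nat.lt_succ_self j)
        exact this
      have hzp : z ^ p ∈ H.subgroupOf Q := by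
        have hj' : k0 = j + 1 := hj
        rw [hz, ← pow_mul, ← pow_succ, ← hj']
        exact hk0mem
      have hzn : z ∈ Subgroup.normalizer ((H.subgroupOf Q : Subgroup Q) : Set Q) :=
        Subgroup.pow_mem _ hxn _
      set y : G := (z : G) with hy
      have hyQ : y ∈ Q := z.2
      have hyH : y ∉ H := fun h => hzH (Subgroup.mem_subgroupOf.2 h)
      have hypH : y ^ p ∈ H := by
        have := Subgroup.mem_subgroupOf.1 hzp
        simpa using this
      have hynorm : ∀ h ∈ H, y⁻¹ * h * y ∈ H := by
        intro h hh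
        have h1 : (⟨h, hHQ hh⟩ : Q) ∈ H.subgroupOf Q := Subgroup.mem_subgroupOf.2 hh
        have h2 := (Subgroup.mem_normalizer_iff.1 (Subgroup.inv_mem _ hzn) ⟨h, hHQ hh⟩).1 h1
        have h3 := Subgroup.mem_subgroupOf.1 h2
        simpa using h3
      set H' := H ⊔ Subgroup.zpowers y with hH'
      have hHH' : H ≤ H' := le_sup_left
      have hH'Q : H' ≤ Q := sup_le hHQ (by rw [Subgroup.zpowers_le]; exact hyQ)
      have hyH' : y ∈ H' := (le_sup_right : Subgroup.zpowers y ≤ H') (Subgroup.mem_zpowers y)
      have hmul := Subgroup.relIndex_mul_relIndex H H' Q hHH' hH'Q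
      -- the index of `H` in `H'` is at least `p`
      have hpi : p ≤ H.relIndex H' := by
        have hH'p : IsPGroup p H' := hQ.to_le hH'Q
        obtain ⟨n, hn⟩ := hH'p.index (H.subgroupOf H')
        have hn' : H.relIndex H' = p ^ n := hn
        have hn0 : n ≠ 0 := by
          rintro rfl
          rw [pow_zero, Subgroup.relIndex_eq_one] at hn'
          exact hyH (hn' hyH')
        rw [hn']
        calc p = p ^ 1 := (pow_one p).symm
          _ ≤ p ^ n := Nat.pow_le_pow_right (Fact.out : p.Prime).pos (by omega)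
      have hpos : 0 < H'.relIndex Q := by
        apply Nat.pos_of_ne_zero
        intro h0
        have : (H'.subgroupOf Q).index = 0 := h0
        exact Subgroup.index_ne_zero_of_finite this
      have hlt' : H'.relIndex Q < m := by
        rw [← hm, ← hmul]
        have h2 : 2 ≤ p := (Fact.out : p.Prime).two_le
        nlinarith
      have h1 := ih _ hlt' H' hH'Q rfl
      have h2 := h5_fix_step p L H W y hynorm hypH (hW y hyQ)
      calc finrank F (h5_fx L H W) ≤ p * finrank F (h5_fx L H' W) := h2
        _ ≤ p * (H'.relIndex Q * finrank F (h5_fx L Q W)) := Nat.mul_le_mul_left p h1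
        _ ≤ H.relIndex H' * (H'.relIndex Q * finrank F (h5_fx L Q W)) :=
            Nat.mul_le_mul_right _ hpi
        _ = m * finrank F (h5_fx L Q W) := by rw [← mul_assoc, hmul, hm]

/-- `dim W ≤ |Q| · dim W^Q` -/
theorem h5_finrank_le_card_mul [FiniteDimensional F V] [Finite G] (p : ℕ) [Fact p.Prime]
    [CharP F p] (L : G →* Module.End F V) (Q : Subgroup G) (hQ : IsPGroup p Q)
    (W : Submodule F V) (hW : ∀ g ∈ Q, ∀ w ∈ W, L g w ∈ W) :
    finrank F W ≤ Nat.card Q * finrank F (h5_fx L Q W) := by
  have := h5_fix_le p L Q hQ W hW _ ⊥ bot_le rfl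
  rwa [h5_fx_bot, Subgroup.relIndex_bot_left] at this

/-- the abstract divisibility statement -/
theorem h5_card_dvd_finrank [FiniteDimensional F V] [Finite G] (p : ℕ) [Fact p.Prime]
    [CharP F p] (L : G →* Module.End F V) (Q : Subgroup G) (hQ : IsPGroup p Q)
    (X Y : Submodule F V) (hXY : IsCompl X Y)
    (hX : ∀ g ∈ Q, ∀ w ∈ X, L g w ∈ X) (hY : ∀ g ∈ Q, ∀ w ∈ Y, L g w ∈ Y)
    (hfix : Nat.card Q * finrank F (h5_fx L Q ⊤) ≤ finrank F V) :
    Nat.card Q ∣ finrank F X := by
  have h1 := h5_finrank_le_card_mul p L Q hQ X hX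
  have h2 := h5_finrank_le_card_mul p L Q hQ Y hY
  have h3 := Submodule.finrank_add_eq_of_isCompl hXY
  have hdisj : h5_fx L Q X ⊓ h5_fx L Q Y = ⊥ := by
    rw [eq_bot_iff]
    intro v hv
    rw [Submodule.mem_inf] at hv
    have : v ∈ X ⊓ Y := ⟨hv.1.1, hv.2.1⟩
    rw [hXY.inf_eq_bot] at this
    exact this
  have hsup : h5_fx L Q X ⊔ h5_fx L Q Y ≤ h5_fx L Q ⊤ := by
    apply sup_le
    · intro v hv; exact ⟨Submodule.mem_top, hv.2⟩
    · intro v hv; exact ⟨Submodule.mem_top, hv.2⟩
  have h4 := Submodule.finrank_sup_add_finrank_inf_eq (h5_fx L Q X) (h5_fx L Q Y)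
  rw [hdisj, finrank_bot, add_zero] at h4
  have h5 := Submodule.finrank_mono hsup
  set c := Nat.card Q
  set eX := finrank F (h5_fx L Q X)
  set eY := finrank F (h5_fx L Q Y)
  set e := finrank F (h5_fx L Q ⊤)
  have h6 : c * (eX + eY) ≤ c * e := Nat.mul_le_mul_left c (by omega)
  rw [mul_add] at h6
  refine ⟨eX, ?_⟩
  omega

end abs

end Cfsg.Agent.Helper6.Ku
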