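import Mathlib
import Cfsg.Agent.Helper6.KuDefs
import Cfsg.Agent.Helper5.Ku_G4b

/-!
# S4607, piece G4: the `p`-part of `|G|` divides the dimension of `F[G] i`
-/

set_option autoImplicit false
set_option linter.unusedSectionVars false
set_option linter.unusedVariables false
set_option linter.style.haveILetI false

namespace Cfsg.Agent.Helper6.Ku

open Module

section conc

variable {F : Type*} [Field F] {G : Type*} [Group G]

/-- left multiplication by group elements on the group algebra -/
noncomputable def h5_L (F : Type*) [Field F] (G : Type*) [Group G] :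
    G →* Module.End F (MonoidAlgebra F G) :=
  ((Algebra.lmul F (MonoidAlgebra F G) : MonoidAlgebra F G →* Module.End F (MonoidAlgebra F G))).comp
    (MonoidAlgebra.of F G)

theorem h5_L_apply (g : G) (v : MonoidAlgebra F G) :
    h5_L F G g v = MonoidAlgebra.single g 1 * v := rfl

theorem h5_leftIdeal_stable (i : MonoidAlgebra F G) (g : G) (w : MonoidAlgebra F G)
    (hw : w ∈ leftIdeal F i) : h5_L F G g w ∈ leftIdeal F i := by
  rw [mem_leftIdeal] at hw ⊢
  obtain ⟨x, rfl⟩ := hw
  exact ⟨MonoidAlgebra.single g 1 * x, by rw [h5_L_apply, mul_assoc]⟩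

theorem h5_isCompl_leftIdeal {A : Type*} [Ring A] [Algebra F A] (i : A) (hi : i * i = i) :
    IsCompl (leftIdeal F i) (leftIdeal F (1 - i)) := by
  constructor
  · rw [Submodule.disjoint_def]
    intro v hv1 hv2
    rw [mem_leftIdeal] at hv1 hv2
    obtain ⟨x, hx⟩ := hv1
    obtain ⟨y, hy⟩ := hv2
    have h1 : v * i = v := by rw [← hx, mul_assoc, hi]
    have h2 : v * i = 0 := by rw [← hy, mul_assoc, sub_mul, one_mul, hi, sub_self, mul_zero]
    rw [← h1, h2]
  · rw [codisjoint_iff, eq_top_iff]
    intro v _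
    have : v = v * i + v * (1 - i) := by rw [mul_sub, mul_one]; abel
    rw [this]
    exact Submodule.add_mem_sup ((mem_leftIdeal F).2 ⟨v, rfl⟩) ((mem_leftIdeal F).2 ⟨v, rfl⟩)

theorem h5_finrank_monoidAlgebra [Finite G] :
    finrank F (MonoidAlgebra F G) = Nat.card G := by
  haveI := Fintype.ofFinite G
  rw [(MonoidAlgebra.coeffLinearEquiv F (S := F) (M := G)).finrank_eq, Module.finrank_finsupp_self,
    Nat.card_eq_fintype_card]

instance h5_finite_monoidAlgebra [Finite G] : FiniteDimensional F (MonoidAlgebra F G) := by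
  haveI := Fintype.ofFinite G
  exact Module.Finite.equiv (MonoidAlgebra.coeffLinearEquiv F (S := F) (M := G)).symm

/-- fixed vectors have constant coefficients along right cosets; hence the bound -/
theorem h5_finrank_fx_le [Finite G] (P : Subgroup G) :
    finrank F (h5_fx (h5_L F G) P ⊤) ≤ P.index := by
  classical
  haveI := Fintype.ofFinite (G ⧸ P)
  let φ : h5_fx (h5_L F G) P ⊤ →ₗ[F] (G ⧸ P → F) :=
    { toFun := fun v q => (v : MonoidAlgebra F G).coeff (q.out)⁻¹
      map_add' := by
        intro v w
        funext q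
        simp
      map_smul' := by
        intro c v
        funext q
        simp }
  have hφ : Function.Injective φ := by
    rw [← LinearMap.ker_eq_bot, LinearMap.ker_eq_bot']
    intro v hv
    apply Subtype.ext
    apply MonoidAlgebra.ext
    ext g
    have hq := congrFun hv (QuotientGroup.mk g⁻¹ : G ⧸ P)
    obtain ⟨h, hh⟩ := QuotientGroup.mk_out_eq_mul P g⁻¹
    have hfix := v.2.2 (h : G) h.2
    have h1 := congrArg (fun w => w.coeff g) hfix
    simp only [h5_L_apply, MonoidAlgebra.coeff_single_mul_apply, one_mul] at h1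
    have h2 : (φ v) (QuotientGroup.mk g⁻¹ : G ⧸ P) =
        (v : MonoidAlgebra F G).coeff ((h:G)⁻¹ * g) := by
      show (v : MonoidAlgebra F G).coeff ((QuotientGroup.mk g⁻¹ : G ⧸ P).out)⁻¹ = _
      rw [hh, mul_inv_rev, inv_inv]
    rw [← h1, ← h2, hq]
    rfl
  have h1 := LinearMap.finrank_le_finrank_of_injective hφ
  rw [Module.finrank_fintype_fun_eq_card, ← Nat.card_eq_fintype_card, ← Subgroup.index_eq_card] at h1
  exact h1

end conc

theorem pow_dvd_finrank_leftIdeal {F : Type*} [Field F] (p : ℕ) [Fact p.Prime] [CharP F p]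
    {G : Type*} [Group G] [Finite G] (i : MonoidAlgebra F G) (hi : i * i = i) :
    p ^ (Nat.card G).factorization p ∣ Module.finrank F (leftIdeal F i) := by
  obtain ⟨P⟩ : Nonempty (Sylow p G) := inferInstance
  rw [← Sylow.card_eq_multiplicity P]
  apply h5_card_dvd_finrank p (h5_L F G) (P : Subgroup G) P.isPGroup' (leftIdeal F i)
    (leftIdeal F (1 - i)) (h5_isCompl_leftIdeal i hi)
    (fun g _ w hw => h5_leftIdeal_stable i g w hw)
    (fun g _ w hw => h5_leftIdeal_stable (1 - i) g w hw)
  rw [h5_finrank_monoidAlgebra, ← Subgroup.card_mul_index (P : Subgroup G)]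
  exact Nat.mul_le_mul_left _ (h5_finrank_fx_le (P : Subgroup G))

end Cfsg.Agent.Helper6.Ku
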