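import Cfsg.Agent.Helper5.TC2A

/-! generated coset table (generator 1): L27BTC -/

set_option autoImplicit false
set_option Elab.async false

namespace Cfsg.Agent.Helper5.L27BTC
open Cfsg.Agent.Helper5.TC

def ct1_0 : ℕ := 0x4b00004700004c00004400005000004300004800004500004a00005300004e00004200004600005200005100004f00004900004d00003100004100003000003f00002f00003d00002e00003b00002d00003900002c00003700003200002a00003400002b00004000003e00003c00003a00003800003600003500003300001b00002900001a00002700001900002500001800002300001700002100001600001f00001500001d00002800002600002400002200002000001e00001c00000c00001400000b00001200000a00001000000900000e00001300001100000f00000d000004000008000003000006000007000005000000000002000001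
def ctSel1 (c : ℕ) : ℕ := ct1_0
def ct1F (v : ℕ) : ℕ := Nat.rec (motive := fun _ => ℕ) 0 (fun c _ => Nat.mod (Nat.shiftRight (ctSel1 c) (Nat.mul 24 (Nat.mod v 682))) 16777216) (Nat.add (Nat.div v 682) 1)

end Cfsg.Agent.Helper5.L27BTC
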