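import Cfsg.Agent.Helper5.TC2A

/-! generated coset table (generator 2): L27BTC -/

set_option autoImplicit false
set_option Elab.async false

namespace Cfsg.Agent.Helper5.L27BTC
open Cfsg.Agent.Helper5.TC

def ct2_0 : ℕ := 0x4a00004600004500004f00004400004900004200005100005300004b00004300004d00005200004700004c00005000004e00004800004000003100003e00003000003c00002f00003a00002e00003800002d00003600002c00002b00003300002a00003500004100003f00003d00003b00003900003700003200003400002800001b00002600001a00002400001900002200001800002000001700001e00001600001c00001500002900002700002500002300002100001f00001d00001300000c00001100000b00000f00000a00000d00000900001400001200001000000e000007000004000005000003000008000006000001000000000002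
def ctSel2 (c : ℕ) : ℕ := ct2_0
def ct2F (v : ℕ) : ℕ := Nat.rec (motive := fun _ => ℕ) 0 (fun c _ => Nat.mod (Nat.shiftRight (ctSel2 c) (Nat.mul 24 (Nat.mod v 682))) 16777216) (Nat.add (Nat.div v 682) 1)

end Cfsg.Agent.Helper5.L27BTC
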