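import Cfsg.Agent.Helper5.TC2A

/-! generated coset table (generator 0): L27BTC -/

set_option autoImplicit false
set_option Elab.async false

namespace Cfsg.Agent.Helper5.L27BTC
open Cfsg.Agent.Helper5.TC

def ct0_0 : ℕ := 0x5200005300005100004d00004e00004f00005000004100003e00003d00003c00003b00003a00003900003600003500003400003300004c00003f00004000004b00004a00004900004800004700004600003700003800004500004400004300004200002900002800002700002500002200002000001f00001e00001d00003200003100003000002600002f00002300002400002e00002100002d00002c00002b00002a00001400001300001200001100001000000f00000e00000d00001c00001b00001a00001900001800001700001600001500000800000700000600000500000c00000b00000a000009000002000001000004000003000000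
def ctSel0 (c : ℕ) : ℕ := ct0_0
def ct0F (v : ℕ) : ℕ := Nat.rec (motive := fun _ => ℕ) 0 (fun c _ => Nat.mod (Nat.shiftRight (ctSel0 c) (Nat.mul 24 (Nat.mod v 682))) 16777216) (Nat.add (Nat.div v 682) 1)

end Cfsg.Agent.Helper5.L27BTC
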