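import Cfsg.Agent.Helper5.TC2A

/-! generated certificate data (A): L27BTC -/

set_option autoImplicit false
set_option Elab.async false

namespace Cfsg.Agent.Helper5.L27BTC
open Cfsg.Agent.Helper5.TC

def par_0 : ℕ := 0x5e00005800005500005400005400005300005100005000004f00004d00004d00004c00004b00004b00004a00004900004900004800004700004500004500004400004300004200004200003f00003f00003e00003e00003c00003c00003900003900003700003700003600003600003400003300003300003100003000003000002f00002e00002d00002c00002a00002a00002800002800002700002600002600002500002300002100002100002000002000001e00001e00001d00001d00001b00001b00001a00001a00001800001800001700001600001600001500001400001400001300001200001200001100001000001000000f00000f00000d00000d00000c00000c00000a00000a000009000008000008000007000006000006000005000005000003000003000002000001000001000000000000000000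
def parSel (c : ℕ) : ℕ := par_0
def parF (v : ℕ) : ℕ := Nat.rec (motive := fun _ => ℕ) 0 (fun c _ => Nat.mod (Nat.shiftRight (parSel c) (Nat.mul 24 (Nat.mod v 682))) 16777216) (Nat.add (Nat.div v 682) 1)
def gen_0 : ℕ := 0x1000100010002000100020001000000010001000000000001000000000001000000000001000100000000000000010000000200010002000100020001000200010002000100020001000100020001000000010000000000010000000100010000000100000000000100000000000100020001000200010002000100020001000200010002000100020001000000010000000000010000000000010000000000010000000200010002000100020001000200010000000100000000000100000002000100020001000000010000000200010000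
def genSel (c : ℕ) : ℕ := gen_0
def genF (v : ℕ) : ℕ := Nat.rec (motive := fun _ => ℕ) 0 (fun c _ => Nat.mod (Nat.shiftRight (genSel c) (Nat.mul 16 (Nat.mod v 1024))) 65536) (Nat.add (Nat.div v 1024) 1)

end Cfsg.Agent.Helper5.L27BTC
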