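import Cfsg.Agent.Helper5.TC2A

/-! generated certificate data (events 0): L27BTC -/

set_option autoImplicit false
set_option Elab.async false

namespace Cfsg.Agent.Helper5.L27BTC
open Cfsg.Agent.Helper5.TC

def ev_0 : ℕ := 0x178041100000178040d00000160040d00000154041100000154040d000001940011000000d00c1500000150081500000150041100000144040d00000084101500000184000300000184080a0000013c040d00000180000300000180080a00000134040d000000f8081100000174000300000174080a0000012c040d000000f0081500000074101500000168000300000168080a00000124040d000000e408110000015c00030000015c080a0000011c040d00000158000300000158080a00000114040d00000148000300000148080a00000108040d000000fc0411000000dc0411000000d0040d0000003c101500000100000300000100080a000000c0040d000000f40003000000f4080a000000b8040d000000ec0003000000ec080a000000b0040d000000e80003000000e8080a000000a8040d000000e00003000000e0080a000000a0040d000000d40003000000d4080a00000098040d000000c80003000000c8080a0000008c040d000000800415000000780411000000300c1500000090000300000090080200000060041100000088000300000088080a00000058040d0000007c00030000007c080a00000050040d00000070000300000070080a00000048040d00000064000300000064080a00000040040d00000038000300000038080a00000020040d0000002c00030000002c080a00000018040d00000010000300000010080a00000004040d000000000019000000000000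
def evSel0 (c : ℕ) : ℕ := ev_0

end Cfsg.Agent.Helper5.L27BTC
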