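import Cfsg.Agent.Helper5.TC2A

/-! generated certificate data (ranks of generator 1): L27BTC -/

set_option autoImplicit false
set_option Elab.async false

namespace Cfsg.Agent.Helper5.L27BTC
open Cfsg.Agent.Helper5.TC

def rk1_0 : ℕ := 0xb00000ae0000aa0000000000a80000000000a000009e00009800009200009000000000008a0000a500008600008000007e00000000007800007200000000000000008900006c00000000000000000000000000000000000000000000000000000000000000000000000000000000006600000000000000006400005e00000000000000005800000000005200004c00000000004600000000000000004000000000000000003a000000000000000000000000000000000000000000000000000000000000000000000000000000ffffff00000000002800000000000000002200000000000000001c00000000000000001600000000000000000000000000000000000000000000000000000000000000001000000000000000000a000000000000000000000000000000000000000004000000000000000000000000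
def rkSel1 (c : ℕ) : ℕ := rk1_0
def rk1F (v : ℕ) : ℕ := Nat.rec (motive := fun _ => ℕ) 0 (fun c _ => Nat.mod (Nat.shiftRight (rkSel1 c) (Nat.mul 24 (Nat.mod v 682))) 16777216) (Nat.add (Nat.div v 682) 1)

end Cfsg.Agent.Helper5.L27BTC
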