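import Cfsg.Agent.Helper5.TC2A

/-! generated certificate data (ranks of generator 2): L27BTC -/

set_option autoImplicit false
set_option Elab.async false

namespace Cfsg.Agent.Helper5.L27BTC
open Cfsg.Agent.Helper5.TC

def rk2_0 : ℕ := 0xa90000000000a40000000000ab0000000000000000b10000910000000000880000a10000000000af00007f00000000000000009f00000000000000000000008700009c00000000009600000000008e00000000008400000000007c00000000007600000000000000007000000000006700000000000000000000000000000000000000000000000000000000000000000000000000006500000000000000006200000000005c00000000005600000000005000000000004a00000000004400000000003e00000000003200000000000000000000000000000000000000000000000000000000000000000000002c00000000002600000000002000000000001a00000000000000000000000000000000000000000000001400000000000e000000000000000000000000000008000000000000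
def rkSel2 (c : ℕ) : ℕ := rk2_0
def rk2F (v : ℕ) : ℕ := Nat.rec (motive := fun _ => ℕ) 0 (fun c _ => Nat.mod (Nat.shiftRight (rkSel2 c) (Nat.mul 24 (Nat.mod v 682))) 16777216) (Nat.add (Nat.div v 682) 1)

end Cfsg.Agent.Helper5.L27BTC
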