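import Cfsg.Agent.Helper5.TC2A

/-! generated certificate data (targets of generator 1): L27BTC -/

set_option autoImplicit false
set_option Elab.async false

namespace Cfsg.Agent.Helper5.L27BTC
open Cfsg.Agent.Helper5.TC

def tg1_0 : ℕ := 0x5f00005900006200005400006600005300005b00005500003f00003e00005e00006900003c00006400005100003900005800006800003700003600006700006500005c00003300006300003f00006100003e00006000003c00005d00003900005a00003700005700003600005600004100003300005200003400002100004f00004d00002000004b00001e00001d00004900001b00004700004500001a00004400004200001800002100004000002000003d00001e00003b00001d00003a00001b00003800001a00003500001800000000003200000f00003000002e00000d00002c00002a00000c00002800002600000a00002400000f00002200000d00001f00000c00001c00000a00001900001600000500001400001200000300001000000500000e00000300000b000008000000000006000000000004000001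
def tgSel1 (c : ℕ) : ℕ := tg1_0
def tg1F (v : ℕ) : ℕ := Nat.rec (motive := fun _ => ℕ) 0 (fun c _ => Nat.mod (Nat.shiftRight (tgSel1 c) (Nat.mul 24 (Nat.mod v 682))) 16777216) (Nat.add (Nat.div v 682) 1)

end Cfsg.Agent.Helper5.L27BTC
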