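import Cfsg.Agent.Helper5.TC2A

/-! generated certificate data (targets of generator 2): L27BTC -/

set_option autoImplicit false
set_option Elab.async false

namespace Cfsg.Agent.Helper5.L27BTC
open Cfsg.Agent.Helper5.TC

def tg2_0 : ℕ := 0x5e00005800005500006500005400005c00005100006700004f00004d00006900005f00004b00005300006300004900006800005900004700004500006200006600006400004200005b00004f00003f00004d00003e00004b00003c00004900003900004700003700004500003600003400004200003300004400003000005000004e00002e00004c00002c00002a00004a00002800004800004600002600004100004300002300003000002100002e00002000002c00001e00002a00001d00002800001b00002600001a00002300001800001800001600003100002f00001400002d00002b00001200002900002700001000002500001600000f00001400000d00001200000c00001000000a000017000008000015000013000006000011000008000005000006000003000009000001000007000001000000000002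
def tgSel2 (c : ℕ) : ℕ := tg2_0
def tg2F (v : ℕ) : ℕ := Nat.rec (motive := fun _ => ℕ) 0 (fun c _ => Nat.mod (Nat.shiftRight (tgSel2 c) (Nat.mul 24 (Nat.mod v 682))) 16777216) (Nat.add (Nat.div v 682) 1)

end Cfsg.Agent.Helper5.L27BTC
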