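import Cfsg.Agent.Helper5.TC2A

/-! generated certificate data (targets of generator 0): L27BTC -/

set_option autoImplicit false
set_option Elab.async false

namespace Cfsg.Agent.Helper5.L27BTC
open Cfsg.Agent.Helper5.TC

def tg0_0 : ℕ := 0x6800006900006700006300006400006500006600005000000000000000004d00004c00000000004b00004a00000000004900004800000000000000004500004400004300000000004200006200004e00004f00005f00005e00005c00005b00005900005800004600004700005500005400005300005100003100000000003000002f00000000002d00000000000000002a00000000002800002700000000002600002500000000004100003f00003e00002e00003c00002b00002c00003900002900003700003600003400003300001700001700000000001600001500000000001400001300000000001200001100000000001000002300002100002000001e00001d00001b00001a00001800000900000000000800000700000000000600000f00000d00000c00000a000002000000000001000005000003000000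
def tgSel0 (c : ℕ) : ℕ := tg0_0
def tg0F (v : ℕ) : ℕ := Nat.rec (motive := fun _ => ℕ) 0 (fun c _ => Nat.mod (Nat.shiftRight (tgSel0 c) (Nat.mul 24 (Nat.mod v 682))) 16777216) (Nat.add (Nat.div v 682) 1)

end Cfsg.Agent.Helper5.L27BTC
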