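import Mathlib
import Cfsg.Agent.Helper5.L27LPA
import Cfsg.Agent.Helper5.L27LPB
import Cfsg.Agent.Helper5.L27LPC
import Cfsg.Agent.Helper5.LPI

/-! generated: the L27 presentation, as a list-presented group, defines a simple group of order
168 -/

set_option autoImplicit false

namespace Cfsg.Agent.Helper5.L27LP

open Cfsg.Agent.Helper5.TC Cfsg.Agent.Helper5.TCI Cfsg.Agent.Helper5.LP

/-- the permutation of `xw`, packed. -/
def pxBlocks : List ℕ := [0x2000006000005000001000003000000000004]

/-- the permutation of `xw`. -/
def px (v : ℕ) : ℕ := pLook 682 pxBlocks v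

set_option maxRecDepth 1000000 in
theorem px_agree : agreeRangeF L27TTC.ctF xw px 7 0 = true := by decide +kernel

set_option maxRecDepth 1000000 in
theorem px_pow : iterFixRangeF px (7 ^ 1) 7 0 = true := by decide +kernel

theorem tableI : TableOKI 3 7 iot L27TTC.ctF := tableOKI_of_cert rfl L27TTC.hT

theorem xw_pow : fixRange L27TTC.ctF (List.replicate (7 ^ 1) xw).flatten 7 0 = true :=
  fixRange_pow_of_tableI tableI xw (by decide)
    px (7 ^ 1) px_agree px_pow

theorem xw_move : actL L27TTC.ctF xw 0 ≠ 0 := by decide +kernel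

theorem lettersA : LettersLt 3 R3 := by decide +kernel

/-- **The presentation defines a simple group of order 168.** -/
theorem simple_card : IsSimpleGroup (LPG 3 R3) ∧ Nat.card (LPG 3 R3) = 168 :=
  lp_simple_acts lettersA (tableHomI iot_iot iot_lt lettersA tableI (relsFix_of_cert subsT rfl wordsT L27TTC.hrelT))
    (actsOn_tableHomI iot_iot iot_lt lettersA tableI (relsFix_of_cert subsT rfl wordsT L27TTC.hrelT)) 168 ubB.1
    (le_trans ubB.2 (by norm_num)) levels chain_ok chain_prod Hgens prim prim_ok 7 1 1
    (by norm_num) (by norm_num) (by norm_num) xw (by decide) xw_pow killed (by norm_num)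

end Cfsg.Agent.Helper5.L27LP
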