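import Mathlib
import Cfsg.Agent.Helper5.GF9
import Cfsg.Agent.Helper5.L27LPD

/-!
# Matrices for `PSL₂(7)`

Explicit `2 × 2` matrices over the integers modulo 7 satisfying the relators of the presentation
`a² = b³ = (ab)⁷ = [a, b]⁴ = 1` up to sign, and explicit unitary `3 × 3` matrices of determinant 1
over the field with nine elements satisfying them exactly.
-/

set_option autoImplicit false

namespace Cfsg.Agent.Helper5.L27

open Cfsg.Agent.Helper5.LP Cfsg.Agent.Helper5.TC Cfsg.Agent.Helper5.TCI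
open Cfsg.Agent.Helper5.L27LP (R3)
open Cfsg.Agent.Helper5.GF9

/-- the field with seven elements. -/
abbrev F7 : Type := ZMod 7

/-- the images of the letters `a, b, b⁻¹` in `SL₂(7)`. -/
def N7 : ℕ → Matrix (Fin 2) (Fin 2) F7
  | 0 => !![0, 6; 1, 0]
  | 1 => !![0, 1; 6, 6]
  | _ => !![6, 6; 1, 0]

theorem N7_det (c : ℕ) : (N7 c).det = 1 := by
  rcases c with _ | _ | c
  · rw [Matrix.det_fin_two]; decide
  · rw [Matrix.det_fin_two]; decide
  · rw [show N7 (c + 1 + 1) = N7 2 from rfl, Matrix.det_fin_two]; decide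

set_option maxRecDepth 100000 in
theorem N7_rels : ∀ l ∈ R3, (l.map N7).prod = 1 ∨ (l.map N7).prod = -1 := by decide +kernel

set_option maxRecDepth 100000 in
theorem N7_ncomm : N7 0 * N7 1 ≠ N7 1 * N7 0 := by decide +kernel

/-- a matrix over the field with nine elements from a table of numbers `0, …, 8`. -/
def mk9 (l : List (List ℕ)) : Matrix (Fin 3) (Fin 3) F9 :=
  fun i j => F9.ofN ((l.getD i.val []).getD j.val 0)

/-- the images of the letters `a, b, b⁻¹` in `SU₃(3)`. -/
def U9 : ℕ → Matrix (Fin 3) (Fin 3) F9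
  | 0 => mk9 [[0, 0, 1], [0, 2, 0], [1, 0, 0]]
  | 1 => mk9 [[0, 7, 5], [4, 2, 2], [4, 1, 1]]
  | _ => mk9 [[0, 7, 7], [4, 2, 1], [8, 2, 1]]

set_option maxRecDepth 100000 in
theorem U9_det (c : ℕ) : (U9 c).det = 1 := by
  rcases c with _ | _ | c
  · rw [Matrix.det_fin_three]; decide +kernel
  · rw [Matrix.det_fin_three]; decide +kernel
  · rw [show U9 (c + 1 + 1) = U9 2 from rfl, Matrix.det_fin_three]; decide +kernel

set_option maxRecDepth 100000 in
theorem U9_unitary (c : ℕ) : (U9 c).transpose * (U9 c).map (· ^ 3) = 1 := by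
  rcases c with _ | _ | c
  · decide +kernel
  · decide +kernel
  · rw [show U9 (c + 1 + 1) = U9 2 from rfl]; decide +kernel

set_option maxRecDepth 100000 in
theorem U9_rels : ∀ l ∈ R3, (l.map U9).prod = 1 := by decide +kernel

set_option maxRecDepth 100000 in
theorem U9_ne : U9 0 ≠ 1 := by decide +kernel

end Cfsg.Agent.Helper5.L27
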