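import Mathlib
import Cfsg.Prelude.Def_Classical
import Cfsg.Agent.Helper5.L27Mat
import Cfsg.Agent.Helper5.SUMap
import Cfsg.Agent.Helper5.SimpleHom
import Cfsg.Agent.Helper4.AffSLF

/-!
# `PSL₂(7)` inside `PSU₃(3)`

The group presented by `a² = b³ = (ab)⁷ = [a, b]⁴ = 1` is simple of order 168 (`L27LPD`); it is
isomorphic to `PSL₂` over every field with seven elements and embeds into `PSU₃(3)` realised over
any field with nine elements.
-/

set_option autoImplicit false

namespace Cfsg.Agent.Helper5.L27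

open Cfsg.Agent.Helper5.LP Cfsg.Agent.Helper5.TC Cfsg.Agent.Helper5.TCI
open Cfsg.Agent.Helper5.L27LP (R3 lettersA)
open Cfsg.Agent.Helper5.GF9 Cfsg.Agent.Helper5.SUMap Cfsg.Agent.Helper5.SimpleHom

theorem not_prime_card : ¬ (Nat.card (LPG 3 R3)).Prime := by
  rw [L27LP.simple_card.2]
  norm_num

/-! ### the unitary side -/

theorem hK9 : Fintype.card F9 = 3 ^ 2 := by decide

/-- the images of the letters in `SU₃(3)` over the model field. -/
def V9 (c : ℕ) : Cfsg.SU 3 F9 3 :=
  Cfsg.Agent.Helper8.SUCenter.mkSU hK9 (U9 c) (U9_unitary c) (U9_det c)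

theorem V9_rels : ∀ l ∈ R3, (l.map V9).prod = 1 := by
  intro l hl
  apply Subtype.ext
  apply Subtype.ext
  rw [sub_list_prod, List.map_map]
  exact U9_rels l hl

/-- the homomorphism to `SU₃(3)` over the model field. -/
def theta9 : LPG 3 R3 →* Cfsg.SU 3 F9 3 := lift V9 lettersA V9_rels

theorem theta9_injective : Function.Injective theta9 := by
  have := L27LP.simple_card.1
  apply injective_of_simple theta9 (ev 3 R3 [0])
  unfold theta9
  rw [lift_ev V9 lettersA V9_rels [0] (by simp)]
  intro h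
  have h1 : V9 0 = 1 := by simpa using h
  have h2 := congrArg (fun z : Cfsg.SU 3 F9 3 =>
    ((z : Matrix.SpecialLinearGroup (Fin 3) F9) : Matrix (Fin 3) (Fin 3) F9)) h1
  exact U9_ne h2

section
variable {F : Type*} [Field F] [Fintype F]

/-- the model field is the given field with nine elements. -/
noncomputable def e9 (hF : Fintype.card F = 9) : F9 ≃+* F :=
  FiniteField.ringEquivOfCardEq (by rw [F9.card_eq, hF])

/-- the homomorphism to `SU₃(3)`. -/
noncomputable def theta (hF : Fintype.card F = 9) : LPG 3 R3 →* Cfsg.SU 3 F 3 :=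
  (suMap hK9 (by rw [hF]; norm_num) ((e9 hF : F9 ≃+* F) : F9 →+* F)).comp theta9

theorem theta_injective (hF : Fintype.card F = 9) : Function.Injective (theta hF) :=
  (suMap_injective hK9 (by rw [hF]; norm_num) _).comp theta9_injective

/-- the homomorphism to `PSU₃(3)`. -/
noncomputable def psi (hF : Fintype.card F = 9) : LPG 3 R3 →* Cfsg.PSU 3 F 3 :=
  (QuotientGroup.mk' (Subgroup.center (Cfsg.SU 3 F 3))).comp (theta hF)

theorem psi_injective (hF : Fintype.card F = 9) : Function.Injective (psi hF) := by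
  have := L27LP.simple_card.1
  exact injective_mk_center not_prime_card (theta hF) (theta_injective hF)

end

/-! ### the linear side -/

/-- the images of the letters in `SL₂(7)`. -/
def S7 (c : ℕ) : Matrix.SpecialLinearGroup (Fin 2) F7 := ⟨N7 c, N7_det c⟩

section
variable {K : Type*} [Field K] [Fintype K]

omit [Fintype K] in
/-- a special linear matrix equal to `1` or `-1` is central. -/
theorem mem_center_of_pm (y : Matrix.SpecialLinearGroup (Fin 2) K)
    (h : (y : Matrix (Fin 2) (Fin 2) K) = 1 ∨ (y : Matrix (Fin 2) (Fin 2) K) = -1) :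
    y ∈ Subgroup.center (Matrix.SpecialLinearGroup (Fin 2) K) := by
  rw [Subgroup.mem_center_iff]
  intro g
  apply Subtype.ext
  rw [Matrix.SpecialLinearGroup.coe_mul, Matrix.SpecialLinearGroup.coe_mul]
  rcases h with h | h <;> rw [h] <;> simp

instance : Fact (Nat.Prime 7) := ⟨by norm_num⟩

/-- the prime field is the given field with seven elements. -/
noncomputable def e7 (hK : Fintype.card K = 7) : F7 ≃+* K :=
  FiniteField.ringEquivOfCardEq (by rw [ZMod.card, hK])

/-- the homomorphism `SL₂(7) → PSL₂(K)`. -/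
noncomputable def g7 (hK : Fintype.card K = 7) :
    Matrix.SpecialLinearGroup (Fin 2) F7 →* Matrix.ProjectiveSpecialLinearGroup (Fin 2) K :=
  (QuotientGroup.mk' (Subgroup.center (Matrix.SpecialLinearGroup (Fin 2) K))).comp
    (Matrix.SpecialLinearGroup.map ((e7 hK : F7 ≃+* K) : F7 →+* K))

theorem g7_eq_one (hK : Fintype.card K = 7) (x : Matrix.SpecialLinearGroup (Fin 2) F7)
    (h : (x : Matrix (Fin 2) (Fin 2) F7) = 1 ∨ (x : Matrix (Fin 2) (Fin 2) F7) = -1) :
    g7 hK x = 1 := by
  show (QuotientGroup.mk' _) (Matrix.SpecialLinearGroup.map _ x) = 1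
  rw [QuotientGroup.mk'_apply, QuotientGroup.eq_one_iff]
  apply mem_center_of_pm
  have h1 : ((Matrix.SpecialLinearGroup.map ((e7 hK : F7 ≃+* K) : F7 →+* K) x :
      Matrix.SpecialLinearGroup (Fin 2) K) : Matrix (Fin 2) (Fin 2) K)
      = (x : Matrix (Fin 2) (Fin 2) F7).map ((e7 hK : F7 ≃+* K) : F7 →+* K) := rfl
  rw [h1]
  rcases h with h | h
  · left
    rw [h]
    ext i j
    simp [Matrix.map_apply, Matrix.one_apply]
  · right
    rw [h]
    ext i j
    simp [Matrix.map_apply, Matrix.one_apply]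

/-- the images of the letters in `PSL₂(K)`. -/
noncomputable def W (hK : Fintype.card K = 7) (c : ℕ) :
    Matrix.ProjectiveSpecialLinearGroup (Fin 2) K := g7 hK (S7 c)

theorem W_rels (hK : Fintype.card K = 7) : ∀ l ∈ R3, (l.map (W hK)).prod = 1 := by
  intro l hl
  have h1 : (l.map (W hK)).prod = g7 hK ((l.map S7).prod) := by
    rw [map_list_prod, List.map_map]
    rfl
  rw [h1]
  apply g7_eq_one
  rw [sl_list_prod, List.map_map]
  exact N7_rels l hl

/-- the homomorphism to `PSL₂(K)`. -/
noncomputable def chi (hK : Fintype.card K = 7) :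
    LPG 3 R3 →* Matrix.ProjectiveSpecialLinearGroup (Fin 2) K :=
  lift (W hK) lettersA (W_rels hK)

theorem chi_injective (hK : Fintype.card K = 7) : Function.Injective (chi hK) := by
  have := L27LP.simple_card.1
  apply injective_of_simple (chi hK) (ev 3 R3 [0])
  unfold chi
  rw [lift_ev (W hK) lettersA (W_rels hK) [0] (by simp)]
  intro h
  have h1 : W hK 0 = 1 := by simpa using h
  have h2 : Matrix.SpecialLinearGroup.map ((e7 hK : F7 ≃+* K) : F7 →+* K) (S7 0)
      ∈ Subgroup.center (Matrix.SpecialLinearGroup (Fin 2) K) := by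
    have h3 : (QuotientGroup.mk' (Subgroup.center (Matrix.SpecialLinearGroup (Fin 2) K)))
        (Matrix.SpecialLinearGroup.map ((e7 hK : F7 ≃+* K) : F7 →+* K) (S7 0)) = 1 := h1
    rwa [QuotientGroup.mk'_apply, QuotientGroup.eq_one_iff] at h3
  have h4 := (Subgroup.mem_center_iff.mp h2)
    (Matrix.SpecialLinearGroup.map ((e7 hK : F7 ≃+* K) : F7 →+* K) (S7 1))
  rw [← map_mul, ← map_mul] at h4
  have h5 := congrArg (fun z : Matrix.SpecialLinearGroup (Fin 2) K =>
    (z : Matrix (Fin 2) (Fin 2) K)) h4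
  have h6 : (N7 1 * N7 0).map ((e7 hK : F7 ≃+* K) : F7 →+* K)
      = (N7 0 * N7 1).map ((e7 hK : F7 ≃+* K) : F7 →+* K) := h5
  exact N7_ncomm (Matrix.map_injective (RingHom.injective _) h6).symm

/-- **The presented group is `PSL₂(K)`.** -/
noncomputable def chiEquiv (hK : Fintype.card K = 7) :
    LPG 3 R3 ≃* Matrix.ProjectiveSpecialLinearGroup (Fin 2) K :=
  MulEquiv.ofBijective (chi hK) ((chi_injective hK).bijective_of_nat_card_le (by
    rw [Cfsg.Agent.Helper4.card_psl2_F7 hK, L27LP.simple_card.2]))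

end

/-- **`PSU₃(3)` has a subgroup isomorphic to `PSL₂(7)`.** -/
theorem main {F : Type*} [Field F] [Fintype F] (hF : Fintype.card F = 9)
    {K : Type*} [Field K] [Fintype K] (hK : Fintype.card K = 7) :
    ∃ H : Subgroup (Cfsg.PSU 3 F 3),
      Nonempty (H ≃* Matrix.ProjectiveSpecialLinearGroup (Fin 2) K) :=
  ⟨(psi hF).range, ⟨(MonoidHom.ofInjective (psi_injective hF)).symm.trans (chiEquiv hK)⟩⟩

end Cfsg.Agent.Helper5.L27
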