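import Cfsg.Agent.Helper5.TC2A

/-! generated certificate data (events 0): L27TTC -/

set_option autoImplicit false
set_option Elab.async false

namespace Cfsg.Agent.Helper5.L27TTC
open Cfsg.Agent.Helper5.TC

def ev_0 : ℕ := 0x1c00030000001c0c0e000000100811000000000c1500000000040d00000000041d000000000419000000000000
def evSel0 (c : ℕ) : ℕ := ev_0

end Cfsg.Agent.Helper5.L27TTC
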