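import Cfsg.Agent.Helper5.TC2A

/-! generated coset table (generator 0): L28BTC -/

set_option autoImplicit false
set_option Elab.async false

namespace Cfsg.Agent.Helper5.L28BTC
open Cfsg.Agent.Helper5.TC

def ct0_0 : ℕ := 0xfb0000f40000f20000ef0000ec0000ea0000eb0000fa0000e90000f90000ed0000e80000f80000e60000f10000f70000f50000f60000f30000f00000e70000ee0000cf0000ce0000c90000c20000c10000c00000bf0000ba0000b80000b30000b20000b10000b00000a90000a40000a30000a000009f00009e00009d0000c70000c80000e50000e40000bb0000cb0000cc0000bc0000e30000d00000d10000b40000b50000c30000c40000e20000e10000e00000df0000ac0000ad0000ca0000cd0000de0000b90000dd0000a50000a80000c50000c60000dc0000db0000da0000d90000ae0000af0000bd0000be0000a10000a20000d80000b60000a60000a70000b70000d70000d60000aa0000ab0000d50000d40000d30000d200007f00007e00007d00007c00007b00007a00007900007800007700007600007300007200007100007000006f00006e00006b00006a00006900006800006700006600006500006400006300006200005f00005e00005d00009c00009b00009a00009900009800009700009600009500009400009300007400007500009200009100009000008f00008e00008d00006c00006d00008c00008b00008a00008900008800008700008600008500008400008300006000006100008200008100008000004a00004900004800004500004400004300004200004100004000003f00003e00003d00003c00003900003800003700003600003500005c00005b00005a00004600004700005900005800005700005600005500005400005300005200005100005000003a00003b00004f00004e00004d00004c00004b00002900002800002700002600002500002200002100002000001f00001e00001d00003400003300003200003100003000002300002400002f00002e00002d00002c00002b00002a00001400001300001200001100001000000f00000e00000d00001c00001b00001a00001900001800001700001600001500000800000700000600000500000c00000b00000a000009000002000001000004000003000000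
def ctSel0 (c : ℕ) : ℕ := ct0_0
def ct0F (v : ℕ) : ℕ := Nat.rec (motive := fun _ => ℕ) 0 (fun c _ => Nat.mod (Nat.shiftRight (ctSel0 c) (Nat.mul 24 (Nat.mod v 682))) 16777216) (Nat.add (Nat.div v 682) 1)

end Cfsg.Agent.Helper5.L28BTC
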