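import Cfsg.Agent.Helper5.TC2A

/-! generated certificate data (A): L28BTC -/

set_option autoImplicit false
set_option Elab.async false

namespace Cfsg.Agent.Helper5.L28BTC
open Cfsg.Agent.Helper5.TC

def par_0 : ℕ := 0x13100012c00012a00012700012400012300012200012100011b00011b00011700011700011500011500011000010d00010d00010b00010b0001070001070001030001000000fe0000fb0000fa0000fa0000f50000f40000ee0000ed0000ec0000ec0000eb0000ea0000e80000e60000e40000e30000df0000de0000dd0000dd0000dc0000db0000d50000d00000cf0000cf0000cd0000cc0000cb0000cb0000ca0000c90000c90000c80000c80000c70000c70000c50000c50000c40000c40000c20000c20000c10000c10000bf0000bf0000be0000be0000bc0000bc0000bb0000bb0000b80000b80000b70000b70000b40000b20000b20000b10000b10000ae0000ae0000ad0000ad0000ab0000ab0000aa0000aa0000a80000a80000a70000a70000a50000a50000a40000a40000a20000a20000a10000a100009e00009e00009d00009d00009900009800009700009700009600009500009500009400009300009300009200009100009100009000008f00008d00008d00008c00008b00008b00008a00008900008900008800008700008500008500008400008300008300008200008100008100008000007f00007f00007e00007d00007d00007c00007b00007900007900007800007700007700007600007600007400007400007300007300007000007000006f00006f00006d00006d00006c00006c00006a00006a00006900006900006700006700006600006600006400006400006300006300006000006000005f00005f00005d00005d00005c00005c00005a0000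5a00005900005800005800005700005600005400005400005300005200005200005100005000005000004f00004e00004e00004d00004c00004c00004b00004a00004800004800004700004600004600004500004400004400004300004300004100004100004000004000003e00003e00003d00003d00003a00003a00003900003900003700003700003600003600003400003400003300003300003100003000003000002f00002e00002e00002d00002c00002a00002a00002900002800002800002700002600002600002500002300002100002100002000002000001e00001e00001d00001d00001b00001b00001a00001a00001800001800001700001600001600001500001400001400001300001200001200001100001000001000000f00000f00000d00000d00000c00000c00000a00000a000009000008000008000007000006000006000005000005000003000003000002000001000001000000000000000000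
def parSel (c : ℕ) : ℕ := par_0
def parF (v : ℕ) : ℕ := Nat.rec (motive := fun _ => ℕ) 0 (fun c _ => Nat.mod (Nat.shiftRight (parSel c) (Nat.mul 24 (Nat.mod v 682))) 16777216) (Nat.add (Nat.div v 682) 1)
def gen_0 : ℕ := 0x1000000000000000000010000000100020001000200010002000100010002000100020001000200010001000200020000000100000000000100000000000100000000000100000000000000010000000000010000000000010000000000010000000100000001000000000001000000020001000200010002000100020001000200010002000100020001000200010002000100020001000200010002000100010002000100020001000200010002000100020001000200010002000100020001000200010002000100020001000200010002000100020001000000000001000000000001000000000001000000000001000000000001000100000000000100000000000100000000000100010000000000010000000000010000000000010000000000010000000000010001000000000001000000020001000200010002000100020001000200010002000100020001000200010002000100020001000200010002000100020001000200010002000100020001000200010002000100000001000000000001000100000000000100000000000100000000000100000000000100000000000100010000000000010000000000010000000200010002000100020001000200010002000100020001000200010002000100020001000200010002000100000001000000000001000000000001000100000000000100000000000100000000000100020001000200010002000100020001000200010002000100020001000000010000000000010000000000010000000000010000000200010002000100020001000200010000000100000000000100000002000100020001000000010000000200010000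
def genSel (c : ℕ) : ℕ := gen_0
def genF (v : ℕ) : ℕ := Nat.rec (motive := fun _ => ℕ) 0 (fun c _ => Nat.mod (Nat.shiftRight (genSel c) (Nat.mul 16 (Nat.mod v 1024))) 65536) (Nat.add (Nat.div v 1024) 1)

end Cfsg.Agent.Helper5.L28BTC
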