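import Cfsg.Agent.Helper5.TC2A

/-! generated certificate data (events 0): L28BTC -/

set_option autoImplicit false
set_option Elab.async false

namespace Cfsg.Agent.Helper5.L28BTC
open Cfsg.Agent.Helper5.TC

def ev_0 : ℕ := 0x4c40411000004c4040d0000016420150000049008150000046c08110000048808150000045c0811000004400811000004c00003000004c0080a0000048c040d000004b80003000004b8080a00000484040d0000046c04150000045c0415000004a00011000000bc281500000454041500000454041100000440040d000004380011000002b40c150000040c040d000004040011000002740c15000001d010150000031c081500000470000300000470080a000003e8040d00000044381500000464000300000464080a000003d0040d0000009c281500000460080d000000f8181500000458000300000458080a000003b0040d000003a808110000044c00030000044c080a000003a8040d0000021c5015000000841c15000004480003000004480003000004480c0e000003680815000002e00811000003140815000002dc08110000043c00030000043c080a0000038c040d000003f808110000006c201500000430000300000430080a00000374040d00000424000300000424080a0000036c040d00000414081100000394381500000418000300000418080a0000033c040d0000029408150000034c001100000410000300000410000300000410080a000000f4441500000334041100000334040d00000408000300000408080a0000032c040d000000602015000003fc0003000003fc080a00000324040d000002181015000002680c15000001cc10150000005c24150000031404110000023c5815000003040411000000e42015000002fc0415000002fc04110000001c3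015000002ec0411000002e00415000003480015000002d40415000002d0040d000000ac1c15000002ac041100000008341500000294041100000318000300000318080a0000025c040d0000030c00030000030c080a00000254040d00000300000300000300080a0000024c040d000002f40003000002f4080a00000244040d000002e80003000002e8080a0000023c040d000002e40003000002e4080a00000234040d000002d80003000002d8080a0000022c040d000001a80811000002cc0003000002cc080a00000224040d000002c00003000002c0080a0000021c040d000002bc0003000002bc080a00000214040d000002b00003000002b0080a0000020c040d000002a40003000002a4080a00000204040d00000298000300000298080a000001fc040d0000028c00030000028c080a000001f4040d00000280000300000280080a000001ec040d0000027c00030000027c080a000001e4040d00000270000300000270080a000001dc040d00000268080d0000026c00030000026c080a000001680811000001b404110000019c0411000001740411000001d40003000001d4080a00000160040d000001c80003000001c8080a00000158040d000001c40003000001c4080a00000150040d000001b80003000001b8080a00000148040d000001ac0003000001ac080a00000140040d000001a00003000001a0080a00000138040d00000194000300000194080a00000130040d00000188000300000188080a00000128040d00000184000300000184080a00000120040d00000178000300000178080a00000118040d0000016c00030000016c080a00000110040d000001040411000000dc041100000108000300000108080a000000c0040d000000fc0003000000fc080a000000b8040d000000f00003000000f0080a000000b0040d000000ec0003000000ec080a000000a8040d000000e00003000000e0080a000000a0040d000000d40003000000d4080a00000098040d000000c80003000000c8080a0000008c040d00000078041100000090000300000090080200000060041100000088000300000088080a00000058040d0000007c00030000007c080a00000050040d00000070000300000070080a00000048040d00000064000300000064080a00000040040d00000038000300000038080a00000020040d0000002c00030000002c080a00000018040d00000010000300000010080a00000004040d000000000019000000000000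
def evSel0 (c : ℕ) : ℕ := ev_0

end Cfsg.Agent.Helper5.L28BTC
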