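import Cfsg.Agent.Helper5.TC2A

/-! generated certificate data (ranks of generator 0): L28BTC -/

set_option autoImplicit false
set_option Elab.async false

namespace Cfsg.Agent.Helper5.L28BTC
open Cfsg.Agent.Helper5.TC

def rk0_0 : ℕ := 0x1ec000000000000000000000000ffffff000000ffffff0001d00000000001ce0000000001c80001c60000000001c00001c90000000001d10000000001cf0001c70001ba0001c1000000ffffff000000000000ffffff000000000000ffffff000000000000ffffff000000000000000000ffffff000000000000ffffff000000000000ffffff000000000000ffffff000000000154000000ffffff000000000000ffffff00000000014000019000000000000000013c00013a00013b00018c00000000019100014100013600013200013000013100000000000000000000000000012c00012a00000000013d00000000012600000000012200015700013300013700000000000000000000000000012000012100012b00012d00011e00015500000000015600011c00011d00012300000000000000015a00011f000000000000000000000000000000000000ffffff000000000000ffffff000000000000ffffff000000000000ffffff000000000000ffffffffffff000000000000ffffff000000000000ffffff000000000000ffffffffffff000000000000ffffff000000000000ffffff000000000000ffffff000000000000ffffff000000000000ffffffffffff000000000000ffffff0000000000b00000000000000000000000000000000000000000000000000000000000000000aa0000ab0000000000000000000000000000000000000000a80000a900000000000000000000000000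00000000000000000000000000000000000000a60000a7000000000000000000000000ffffff000000000000ffffffffffff000000000000ffffff000000000000ffffff000000000000ffffff000000000000ffffff000000000000ffffffffffff000000000000ffffff000000000000ffffff000000000000000000000000000062000063000000000000000000000000000000000000000000000000000000000000000060000061000000000000000000000000000000000000ffffff000000000000ffffff000000000000ffffffffffff000000000000ffffff000000000000ffffff000000000000ffffff00000000000000000000000000000000003400003500000000000000000000000000000000000000002e000000ffffff000000000000ffffff000000000000ffffff000000000000ffffff000000000000000000000000000000000000000000000000000000000000ffffff000000000000ffffff000000000000000000000000000000000000ffffff000000000000000000000002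
def rkSel0 (c : ℕ) : ℕ := rk0_0
def rk0F (v : ℕ) : ℕ := Nat.rec (motive := fun _ => ℕ) 0 (fun c _ => Nat.mod (Nat.shiftRight (rkSel0 c) (Nat.mul 24 (Nat.mod v 682))) 16777216) (Nat.add (Nat.div v 682) 1)

end Cfsg.Agent.Helper5.L28BTC
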