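import Cfsg.Agent.Helper5.TC2A

/-! generated certificate data (ranks of generator 1): L28BTC -/

set_option autoImplicit false
set_option Elab.async false

namespace Cfsg.Agent.Helper5.L28BTC
open Cfsg.Agent.Helper5.TC

def rk1_0 : ℕ := 0x1ea0001e40001e00001de0000000001d80001e90001d20000000001e70000000001e30000000001cc0001c40000000001ca0000000000000000000000000001be0000000000000001b80001b00000000001b70001a80001a200000000019c00000000019a00019400018600018200000000017c0001c20000000001720000000001af00016c0001a400000000016200016900015200000000014c0001bc00014b00014400017900000000019200000000000000000000013e00000000018e0000000000000000000001420000000001350000000001a600000000000000000000000000000000018900000000018500012400000000000000000000016100000000017a00000000000000000000000000000000013900000000012e00000000016a00000000015e00000000012900000000000000000000000000000000000000000000000000000000000000011600000000000000011000000000000000010a0000000000000001040000000000000000fe0000f80000000000000000f20000f00000000000ea0000000000000000e40000de0000000000000000d80000000000000000d20000000000000000cc0000000000000000c60000000000000000c00000ba0000000000000000b40000ac0000000000b20000000000000000000000000000000000000000000000000000000000000000000000000000000000000000000000000000000000000000000000000000000000000000000000000000000000000000000000000000000000000000000000000000000000000000000000a000000000000000009a00009400000000000000008e00000000000000008800000000000000008200000000000000007c00000000000000007600007000000000000000006a00000000000000006400000000000000000000000000000000000000000000000000000000000000000000000000000000000000000000000000000000000000000000000000000000000000000000000000005a00000000000000005400000000000000004e00004800000000000000004200000000000000003c000000000000000036000000000000000000000000000000000000000000000000000000000000000000000000000000ffffff00000000002800000000000000002200000000000000001c00000000000000001600000000000000000000000000000000000000000000000000000000000000001000000000000000000a000000000000000000000000000000000000000004000000000000000000000000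
def rkSel1 (c : ℕ) : ℕ := rk1_0
def rk1F (v : ℕ) : ℕ := Nat.rec (motive := fun _ => ℕ) 0 (fun c _ => Nat.mod (Nat.shiftRight (rkSel1 c) (Nat.mul 24 (Nat.mod v 682))) 16777216) (Nat.add (Nat.div v 682) 1)

end Cfsg.Agent.Helper5.L28BTC
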