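import Cfsg.Agent.Helper5.TC2A

/-! generated certificate data (ranks of generator 2): L28BTC -/

set_option autoImplicit false
set_option Elab.async false

namespace Cfsg.Agent.Helper5.L28BTC
open Cfsg.Agent.Helper5.TC

def rk2_0 : ℕ := 0x1e80001eb0001e50001e10000000001df0000000001e60000000001e20000000001cd0000000000000001cb0000000001dc0000000001d60000000000000001bd0001c30001b60000000000000001ae0000000001a50000000000000000000001bf000000ffffff0001c50001830000000001780000000000000000000001b90000000001680000000000000001a300000000019b00000000014a0000000000000000000001930000000001b400000000013f0000000001870000000001ac0000000001430000000001340000000001a70000000001a000000000019800000000018800000000018400000000000000018000000000016000000000017b00000000017600000000017000000000013800000000012f00000000016b00000000015f00000000012800000000016600000000015c0000000001500000000001480000000000000000000000000000000000000000000000000000000000000000000000000000000000000000000000000000000000000000000000000001250000f1000000000000000000000000000000000000000000000000000000000000000000000000000000000000000000000000000000000000000000000000000000000000000000000000ffffff0000b300000000011a00000000011400000000010e0000000001080000000001020000000000fc0000000000f60000000000ee0000000000e80000000000e20000000000dc0000000000d60000000000d00000000000ca0000000000c40000000000be0000000000b80000000000000000000000000000000000000000000000000000000000000000000000000000000000000000000000000000000000000000000000000000000000000000000000000000000000000000000000000000000000000000a400000000009e00000000009800000000009200000000008c00000000008600000000008000000000007a00000000007400000000006e00000000006800000000000000000000000000000000000000000000000000000000000000000000000000000000000000000000000000000000000000000000005e00000000005800000000005200000000004c00000000004600000000004000000000003a00000000003200000000000000000000000000000000000000000000000000000000000000000000002c00000000002600000000002000000000001a00000000000000000000000000000000000000000000001400000000000e000000000000000000000000000008000000000000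
def rkSel2 (c : ℕ) : ℕ := rk2_0
def rk2F (v : ℕ) : ℕ := Nat.rec (motive := fun _ => ℕ) 0 (fun c _ => Nat.mod (Nat.shiftRight (rkSel2 c) (Nat.mul 24 (Nat.mod v 682))) 16777216) (Nat.add (Nat.div v 682) 1)

end Cfsg.Agent.Helper5.L28BTC
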