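import Cfsg.Agent.Helper5.TC2A

/-! generated certificate data (targets of generator 1): L28BTC -/

set_option autoImplicit false
set_option Elab.async false

namespace Cfsg.Agent.Helper5.L28BTC
open Cfsg.Agent.Helper5.TC

def tg1_0 : ℕ := 0x13300013200013100012f00013500010b00013400010700011b00012d00011700012b00011500012900011100010d00012600010b00013000010700012e0001140001000000fe00010a0000c700012c00011d0000c200010500012a0000bc0001280001030000bb0000f70001100001270000b200011e0001250000ad00012300011a0000ab0001180001210000a20001080000a100012000009e00011f00010100009d00010e0000c80000fd0000c700011c0000c50000f90000c40000f70000c20001190000c10000f30000bf0000f10000be0000ef0000bc0001160000bb0001130000b80000e90000b70000e70000b50000b200010f0000b10000e20000ae0000e00000ad00010c0000ab0001090000aa0000da0000a80000d80000a70000d60000a50000d40000a40000d20000a20001060000a100010400009e00010200009d0000ff0000fc0000fa0000740000f80000f60000730000f40000f20000700000f00000ee00006f0000ec0000ea00006d00006c0000e80000e600006a0000b40000e50000690000e30000e10000670000660000df0000dd0000640000db0000d90000630000d70000d50000600000d30000d100005f0000cf0000cd00005d00005c0000cb0000c900005a00007600007600009a0000740000c60000730000c30000700000c000006f0000bd00006d0000ba0000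6c0000b900006a0000b60000690000b30000670000b00000660000af0000640000ac0000630000a90000600000a600005f0000a300005d0000a000005c00009f00005a00009c00009900004300009700009500004100004000009300009100003e00008f00008d00003d00008b00008900003a00008700008500003900008300008100003700003600007f00007d00003400007b00007900003300007700004300007500004100007200004000007100003e00006e00003d00006b00003a00006800003900006500003700006200003600006100003400005e00003300005b00005800002100005600005400002000005200005000001e00001d00004e00004c00001b00004a00004800001a00004600004400001800002100004200002000003f00001e00003c00001d00003b00001b00003800001a00003500001800000000003200000f00003000002e00000d00002c00002a00000c00002800002600000a00002400000f00002200000d00001f00000c00001c00000a00001900001600000500001400001200000300001000000500000e00000300000b000008000000000006000000000004000001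
def tgSel1 (c : ℕ) : ℕ := tg1_0
def tg1F (v : ℕ) : ℕ := Nat.rec (motive := fun _ => ℕ) 0 (fun c _ => Nat.mod (Nat.shiftRight (tgSel1 c) (Nat.mul 24 (Nat.mod v 682))) 16777216) (Nat.add (Nat.div v 682) 1)

end Cfsg.Agent.Helper5.L28BTC
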