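import Cfsg.Agent.Helper5.TC2A

/-! generated certificate data (targets of generator 2): L28BTC -/

set_option autoImplicit false
set_option Elab.async false

namespace Cfsg.Agent.Helper5.L28BTC
open Cfsg.Agent.Helper5.TC

def tg2_0 : ℕ := 0x13100012f00013500013400013300012300013200012100012c00011b00012a00011700012800011500011000012500010d00012300010b00012100010700010300010100010e00011a0000fa00012d00010a0000f400010800012b0000ec0001290001200000ea0000c40001270001110000e30000fe0001260000dd00012400011d0000db0001050001220000cf0001180000cd0001140000cb00010000011f0000c900011e0000fc0000c80000fa0000c70000f80000c50001120000c40000f40000c20000f20000c10000f00000bf0000ee0000be0000ec0000bc0000ea0000bb0000e80000b80000e60000b70000b40000e30000b20000e10000b10000df0000ae0000dd0000ad0000db0000ab0000d90000aa0000d70000a80000d50000a70000d30000a50000d10000a40000cf0000a20000cd0000a10000cb00009e0000c900009d0000fd0000fb0000970000f90000f70000950000f50000f30000930000f10000ef0000910000ed0000eb00008f00008d0000e90000e700008b0000e50000b50000890000e40000e20000870000850000e00000de0000830000dc0000da0000810000d80000d600007f0000d40000d200007d0000d00000ce00007b0000790000cc0000ca00007700000000009900007600009700007400009500007300009300007000009100006f00008f00006d00008d00006c00008b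00006a00008900006900008700006700008500006600008300006400008100006300007f00006000007d00005f00007b00005d00007900005c00007700005a00009a00005800009800009600005600005400009400009200005200009000008e00005000008c00008a00004e00008800008600004c00008400008200004a00004800008000007e00004600007c00007a00004400007800005800004300005600004100005400004000005200003e00005000003d00004e00003a00004c00003900004a00003700004800003600004600003400004400003300005900003000005700005500002e00005300005100002c00002a00004f00004d00002800004b00004900002600004700004500002300003000002100002e00002000002c00001e00002a00001d00002800001b00002600001a00002300001800001800001600003100002f00001400002d00002b00001200002900002700001000002500001600000f00001400000d00001200000c00001000000a000017000008000015000013000006000011000008000005000006000003000009000001000007000001000000000002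
def tgSel2 (c : ℕ) : ℕ := tg2_0
def tg2F (v : ℕ) : ℕ := Nat.rec (motive := fun _ => ℕ) 0 (fun c _ => Nat.mod (Nat.shiftRight (tgSel2 c) (Nat.mul 24 (Nat.mod v 682))) 16777216) (Nat.add (Nat.div v 682) 1)

end Cfsg.Agent.Helper5.L28BTC
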