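import Cfsg.Agent.Helper5.TC2A

/-! generated certificate data (targets of generator 0): L28BTC -/

set_option autoImplicit false
set_option Elab.async false

namespace Cfsg.Agent.Helper5.L28BTC
open Cfsg.Agent.Helper5.TC

def tg0_0 : ℕ := 0x13500012c00012a00012700012400000000012200000000012300013400012100013300012500012000013200011e00012900013100012d00012f00012b00012800011f0001260000fb0000000000fa0000f50000000000ee0000ed0000000000ec0000eb0000000000e80000e60000e40000000000df0000de0000000000dd0000dc0000000000d50000d00000000000cf0000d60000cc0000000000cb0000ca0000000000c90000f30000f400011d00011b0000e70000f70000f80000e800011a0000fc0000fd0000e00000e10000ef0000f00001180001170001150001140000d80000d90001120000f90001110000e50001100000d10000d40000f10000f200010e00010d00010b00010a0000da0000db0000e90000ea0000cd0001040001080000e20000d20000d30000e30001070001050000d60000d70001030001010001000000fe00009900009800000000009700009600000000009500009400000000009300009200000000009100009000000000000000008d00008c00000000008b00008a00000000008900008800000000000000008500008400000000008300008200000000008100008000000000007f00007e00000000007d00007c0000000000000000790000780000000000770000770000c80000c70000c50000c40000c20000c10000bf0000be0000bc0000bb00008e00008f0000b80000b70000b50000b40000b20000b1000086000087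0000ae0000ad0000ab0000aa0000a80000a70000a50000a40000a20000a100007a00007b00009e00009d00009b00005900000000005800005700000000000000005400005300000000005200005100000000005000004f00000000004e00004d00000000004c00004b00000000000000004800004700000000004600004500000000004400007600007400007300005500005600007000006f00006d00006c00006a00006900006700006600006400006300004900004a00006000005f00005d00005c00005a00003100000000003000002f00000000002e00002d00000000000000002a00002900000000002800002700000000002600002500000000004300004100004000003e00003d00002b00002c00003a00003900003700003600003400003300001700001700000000001600001500000000001400001300000000001200001100000000001000002300002100002000001e00001d00001b00001a00001800000900000000000800000700000000000600000f00000d00000c00000a000002000000000001000005000003000000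
def tgSel0 (c : ℕ) : ℕ := tg0_0
def tg0F (v : ℕ) : ℕ := Nat.rec (motive := fun _ => ℕ) 0 (fun c _ => Nat.mod (Nat.shiftRight (tgSel0 c) (Nat.mul 24 (Nat.mod v 682))) 16777216) (Nat.add (Nat.div v 682) 1)

end Cfsg.Agent.Helper5.L28BTC
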