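import Mathlib
import Cfsg.Agent.Helper5.GF8
import Cfsg.Agent.Helper5.L28LPD

/-!
# Matrices for `PSL₂(8)`

Explicit `2 × 2` matrices of determinant 1 over the field with eight elements satisfying the
relators of the presentation `a² = b³ = (ab)⁷ = ((ab)²ab⁻¹(ab)²(ab⁻¹)²)² = 1`.
-/

set_option autoImplicit false

namespace Cfsg.Agent.Helper5.L28

open Cfsg.Agent.Helper5.LP Cfsg.Agent.Helper5.TC Cfsg.Agent.Helper5.TCI
open Cfsg.Agent.Helper5.L28LP (R3)
open Cfsg.Agent.Helper5.GF8

/-- a matrix over the field with eight elements from a table of numbers `0, …, 7`. -/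
def mk8 (l : List (List ℕ)) : Matrix (Fin 2) (Fin 2) F8 :=
  fun i j => F8.ofN ((l.getD i.val []).getD j.val 0)

/-- the images of the letters `a, b, b⁻¹` in `SL₂(8)`. -/
def N8 : ℕ → Matrix (Fin 2) (Fin 2) F8
  | 0 => mk8 [[0, 1], [1, 0]]
  | 1 => mk8 [[0, 2], [5, 1]]
  | _ => mk8 [[1, 2], [5, 0]]

set_option maxRecDepth 100000 in
theorem N8_det (c : ℕ) : (N8 c).det = 1 := by
  rcases c with _ | _ | c
  · rw [Matrix.det_fin_two]; decide +kernel
  · rw [Matrix.det_fin_two]; decide +kernel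
  · rw [show N8 (c + 1 + 1) = N8 2 from rfl, Matrix.det_fin_two]; decide +kernel

set_option maxRecDepth 100000 in
theorem N8_rels : ∀ l ∈ R3, (l.map N8).prod = 1 := by decide +kernel

set_option maxRecDepth 100000 in
theorem N8_ncomm : N8 0 * N8 1 ≠ N8 1 * N8 0 := by decide +kernel

end Cfsg.Agent.Helper5.L28
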