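import Mathlib
import Cfsg.Agent.Helper5.L28Mat
import Cfsg.Agent.Helper5.SUMap
import Cfsg.Agent.Helper5.SimpleHom
import Cfsg.Agent.Helper4.AffSLF

/-!
# `PSL₂(8)` by generators and relations

The group presented by `a² = b³ = (ab)⁷ = ((ab)²ab⁻¹(ab)²(ab⁻¹)²)² = 1` is simple of order 504
(`L28LPD`); it is isomorphic to `PSL₂` over every field with eight elements.
-/

set_option autoImplicit false

namespace Cfsg.Agent.Helper5.L28

open Cfsg.Agent.Helper5.LP Cfsg.Agent.Helper5.TC Cfsg.Agent.Helper5.TCI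
open Cfsg.Agent.Helper5.L28LP (R3 lettersA)
open Cfsg.Agent.Helper5.GF8 Cfsg.Agent.Helper5.SUMap Cfsg.Agent.Helper5.SimpleHom

theorem not_prime_card : ¬ (Nat.card (LPG 3 R3)).Prime := by
  rw [L28LP.simple_card.2]
  norm_num

/-- the images of the letters in `SL₂(8)`. -/
def S8 (c : ℕ) : Matrix.SpecialLinearGroup (Fin 2) F8 := ⟨N8 c, N8_det c⟩

section
variable {K : Type*} [Field K] [Fintype K]

/-- the model field is the given field with eight elements. -/
noncomputable def e8 (hK : Fintype.card K = 8) : F8 ≃+* K :=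
  FiniteField.ringEquivOfCardEq (by rw [F8.card_eq, hK])

/-- the homomorphism `SL₂(8) → PSL₂(K)`. -/
noncomputable def g8 (hK : Fintype.card K = 8) :
    Matrix.SpecialLinearGroup (Fin 2) F8 →* Matrix.ProjectiveSpecialLinearGroup (Fin 2) K :=
  (QuotientGroup.mk' (Subgroup.center (Matrix.SpecialLinearGroup (Fin 2) K))).comp
    (Matrix.SpecialLinearGroup.map ((e8 hK : F8 ≃+* K) : F8 →+* K))

/-- the images of the letters in `PSL₂(K)`. -/
noncomputable def W (hK : Fintype.card K = 8) (c : ℕ) :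
    Matrix.ProjectiveSpecialLinearGroup (Fin 2) K := g8 hK (S8 c)

theorem W_rels (hK : Fintype.card K = 8) : ∀ l ∈ R3, (l.map (W hK)).prod = 1 := by
  intro l hl
  have h1 : (l.map (W hK)).prod = g8 hK ((l.map S8).prod) := by
    rw [map_list_prod, List.map_map]
    rfl
  rw [h1]
  have h2 : (l.map S8).prod = 1 := by
    apply Subtype.ext
    rw [sl_list_prod, List.map_map]
    exact N8_rels l hl
  rw [h2, map_one]

/-- the homomorphism to `PSL₂(K)`. -/
noncomputable def chi (hK : Fintype.card K = 8) :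
    LPG 3 R3 →* Matrix.ProjectiveSpecialLinearGroup (Fin 2) K :=
  lift (W hK) lettersA (W_rels hK)

theorem chi_injective (hK : Fintype.card K = 8) : Function.Injective (chi hK) := by
  have := L28LP.simple_card.1
  apply injective_of_simple (chi hK) (ev 3 R3 [0])
  unfold chi
  rw [lift_ev (W hK) lettersA (W_rels hK) [0] (by simp)]
  intro h
  have h1 : W hK 0 = 1 := by simpa using h
  have h2 : Matrix.SpecialLinearGroup.map ((e8 hK : F8 ≃+* K) : F8 →+* K) (S8 0)
      ∈ Subgroup.center (Matrix.SpecialLinearGroup (Fin 2) K) := by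
    have h3 : (QuotientGroup.mk' (Subgroup.center (Matrix.SpecialLinearGroup (Fin 2) K)))
        (Matrix.SpecialLinearGroup.map ((e8 hK : F8 ≃+* K) : F8 →+* K) (S8 0)) = 1 := h1
    rwa [QuotientGroup.mk'_apply, QuotientGroup.eq_one_iff] at h3
  have h4 := (Subgroup.mem_center_iff.mp h2)
    (Matrix.SpecialLinearGroup.map ((e8 hK : F8 ≃+* K) : F8 →+* K) (S8 1))
  rw [← map_mul, ← map_mul] at h4
  have h5 := congrArg (fun z : Matrix.SpecialLinearGroup (Fin 2) K =>
    (z : Matrix (Fin 2) (Fin 2) K)) h4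
  have h6 : (N8 1 * N8 0).map ((e8 hK : F8 ≃+* K) : F8 →+* K)
      = (N8 0 * N8 1).map ((e8 hK : F8 ≃+* K) : F8 →+* K) := h5
  exact N8_ncomm (Matrix.map_injective (RingHom.injective _) h6).symm

theorem card_psl_le (hK : Fintype.card K = 8) :
    Nat.card (Matrix.ProjectiveSpecialLinearGroup (Fin 2) K) ≤ 504 := by
  rw [← Cfsg.Agent.Helper4.card_sl2_F8 hK]
  exact Nat.card_le_card_of_surjective
    (QuotientGroup.mk' (Subgroup.center (Matrix.SpecialLinearGroup (Fin 2) K)))
    (QuotientGroup.mk'_surjective _)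

/-- **The presented group is `PSL₂(K)`.** -/
noncomputable def chiEquiv (hK : Fintype.card K = 8) :
    LPG 3 R3 ≃* Matrix.ProjectiveSpecialLinearGroup (Fin 2) K :=
  MulEquiv.ofBijective (chi hK) ((chi_injective hK).bijective_of_nat_card_le (by
    rw [L28LP.simple_card.2]; exact card_psl_le hK))

end

end Cfsg.Agent.Helper5.L28
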