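import Cfsg.Agent.Helper5.L34DTCCt0
import Cfsg.Agent.Helper5.L34DTCCt1
import Cfsg.Agent.Helper5.L34DTCCt2
import Cfsg.Agent.Helper5.L34DTCCt3
import Cfsg.Agent.Helper5.TC3A

/-! generated coset table: L34DTC -/

set_option autoImplicit false
set_option Elab.async false

namespace Cfsg.Agent.Helper5.L34DTC
open Cfsg.Agent.Helper5.TC

def ctF (x v : ℕ) : ℕ := (Bool.rec (motive := fun _ => ℕ) (Bool.rec (motive := fun _ => ℕ) (ct0F v) (ct1F v) (Nat.ble 1 x)) (Bool.rec (motive := fun _ => ℕ) (ct2F v) (ct3F v) (Nat.ble 3 x)) (Nat.ble 2 x))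
set_option maxRecDepth 1000000 in
def W_0 (v : ℕ) : ℕ := forceL (ct1F v) (fun a1 => forceL (ct0F a1) (fun a2 => a2))
set_option maxRecDepth 1000000 in
def W_1 (v : ℕ) : ℕ := forceL (ct0F v) (fun a1 => forceL (ct1F a1) (fun a2 => a2))
set_option maxRecDepth 1000000 in
def W_2 (v : ℕ) : ℕ := forceL (ct0F v) (fun a1 => forceL (ct0F a1) (fun a2 => forceL (ct0F a2) (fun a3 => forceL (ct0F a3) (fun a4 => forceL (ct0F a4) (fun a5 => forceL (ct0F a5) (fun a6 => forceL (ct0F a6) (fun a7 => a7)))))))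
set_option maxRecDepth 1000000 in
def W_3 (v : ℕ) : ℕ := forceL (ct3F v) (fun a1 => forceL (ct2F a1) (fun a2 => a2))
set_option maxRecDepth 1000000 in
def W_4 (v : ℕ) : ℕ := forceL (ct2F v) (fun a1 => forceL (ct3F a1) (fun a2 => a2))
set_option maxRecDepth 1000000 in
def W_5 (v : ℕ) : ℕ := forceL (ct2F v) (fun a1 => forceL (ct2F a1) (fun a2 => forceL (ct2F a2) (fun a3 => forceL (ct2F a3) (fun a4 => forceL (ct2F a4) (fun a5 => forceL (ct2F a5) (fun a6 => forceL (ct2F a6) (fun a7 => a7)))))))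
set_option maxRecDepth 1000000 in
def W_6 (v : ℕ) : ℕ := forceL (ct1F v) (fun a1 => forceL (ct1F a1) (fun a2 => forceL (ct3F a2) (fun a3 => forceL (ct3F a3) (fun a4 => forceL (ct1F a4) (fun a5 => forceL (ct3F a5) (fun a6 => forceL (ct3F a6) (fun a7 => forceL (ct1F a7) (fun a8 => forceL (ct3F a8) (fun a9 => forceL (ct3F a9) (fun a10 => forceL (ct0F a10) (fun a11 => forceL (ct2F a11) (fun a12 => forceL (ct2F a12) (fun a13 => forceL (ct0F a13) (fun a14 => forceL (ct2F a14) (fun a15 => forceL (ct2F a15) (fun a16 => forceL (ct0F a16) (fun a17 => forceL (ct2F a17) (fun a18 => forceL (ct2F a18) (fun a19 => forceL (ct0F a19) (fun a20 => a20))))))))))))))))))))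
set_option maxRecDepth 1000000 in
def W_7 (v : ℕ) : ℕ := forceL (ct3F v) (fun a1 => forceL (ct1F a1) (fun a2 => forceL (ct3F a2) (fun a3 => forceL (ct3F a3) (fun a4 => forceL (ct1F a4) (fun a5 => forceL (ct3F a5) (fun a6 => forceL (ct3F a6) (fun a7 => forceL (ct1F a7) (fun a8 => forceL (ct3F a8) (fun a9 => forceL (ct3F a9) (fun a10 => forceL (ct2F a10) (fun a11 => forceL (ct2F a11) (fun a12 => forceL (ct2F a12) (fun a13 => forceL (ct0F a13) (fun a14 => forceL (ct2F a14) (fun a15 => forceL (ct2F a15) (fun a16 => forceL (ct0F a16) (fun a17 => forceL (ct2F a17) (fun a18 => forceL (ct2F a18) (fun a19 => forceL (ct0F a19) (fun a20 => a20))))))))))))))))))))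
set_option maxRecDepth 1000000 in
def W_8 (v : ℕ) : ℕ := forceL (ct1F v) (fun a1 => forceL (ct0F a1) (fun a2 => forceL (ct2F a2) (fun a3 => forceL (ct2F a3) (fun a4 => forceL (ct0F a4) (fun a5 => forceL (ct2F a5) (fun a6 => forceL (ct2F a6) (fun a7 => forceL (ct0F a7) (fun a8 => forceL (ct2F a8) (fun a9 => forceL (ct2F a9) (fun a10 => forceL (ct0F a10) (fun a11 => forceL (ct3F a11) (fun a12 => forceL (ct3F a12) (fun a13 => forceL (ct1F a13) (fun a14 => forceL (ct3F a14) (fun a15 => forceL (ct3F a15) (fun a16 => forceL (ct1F a16) (fun a17 => forceL (ct3F a17) (fun a18 => forceL (ct3F a18) (fun a19 => forceL (ct1F a19) (fun a20 => a20))))))))))))))))))))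
set_option maxRecDepth 1000000 in
def W_9 (v : ℕ) : ℕ := forceL (ct3F v) (fun a1 => forceL (ct0F a1) (fun a2 => forceL (ct2F a2) (fun a3 => forceL (ct2F a3) (fun a4 => forceL (ct0F a4) (fun a5 => forceL (ct2F a5) (fun a6 => forceL (ct2F a6) (fun a7 => forceL (ct0F a7) (fun a8 => forceL (ct2F a8) (fun a9 => forceL (ct2F a9) (fun a10 => forceL (ct2F a10) (fun a11 => forceL (ct3F a11) (fun a12 => forceL (ct3F a12) (fun a13 => forceL (ct1F a13) (fun a14 => forceL (ct3F a14) (fun a15 => forceL (ct3F a15) (fun a16 => forceL (ct1F a16) (fun a17 => forceL (ct3F a17) (fun a18 => forceL (ct3F a18) (fun a19 => forceL (ct1F a19) (fun a20 => a20))))))))))))))))))))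
set_option maxRecDepth 1000000 in
def W_10 (v : ℕ) : ℕ := forceL (ct1F v) (fun a1 => forceL (ct0F a1) (fun a2 => forceL (ct0F a2) (fun a3 => forceL (ct2F a3) (fun a4 => forceL (ct2F a4) (fun a5 => forceL (ct2F a5) (fun a6 => forceL (ct0F a6) (fun a7 => forceL (ct0F a7) (fun a8 => forceL (ct2F a8) (fun a9 => forceL (ct2F a9) (fun a10 => forceL (ct2F a10) (fun a11 => forceL (ct0F a11) (fun a12 => forceL (ct3F a12) (fun a13 => forceL (ct3F a13) (fun a14 => forceL (ct3F a14) (fun a15 => forceL (ct1F a15) (fun a16 => forceL (ct1F a16) (fun a17 => forceL (ct3F a17) (fun a18 => forceL (ct3F a18) (fun a19 => forceL (ct3F a19) (fun a20 => forceL (ct1F a20) (fun a21 => forceL (ct1F a21) (fun a22 => a22))))))))))))))))))))))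
set_option maxRecDepth 1000000 in
def W_11 (v : ℕ) : ℕ := forceL (ct3F v) (fun a1 => forceL (ct0F a1) (fun a2 => forceL (ct0F a2) (fun a3 => forceL (ct2F a3) (fun a4 => forceL (ct2F a4) (fun a5 => forceL (ct2F a5) (fun a6 => forceL (ct0F a6) (fun a7 => forceL (ct0F a7) (fun a8 => forceL (ct2F a8) (fun a9 => forceL (ct2F a9) (fun a10 => forceL (ct2F a10) (fun a11 => forceL (ct2F a11) (fun a12 => forceL (ct3F a12) (fun a13 => forceL (ct3F a13) (fun a14 => forceL (ct3F a14) (fun a15 => forceL (ct1F a15) (fun a16 => forceL (ct1F a16) (fun a17 => forceL (ct3F a17) (fun a18 => forceL (ct3F a18) (fun a19 => forceL (ct3F a19) (fun a20 => forceL (ct1F a20) (fun a21 => forceL (ct1F a21) (fun a22 => a22))))))))))))))))))))))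
set_option maxRecDepth 1000000 in
def W_12 (v : ℕ) : ℕ := forceL (ct1F v) (fun a1 => forceL (ct1F a1) (fun a2 => forceL (ct1F a2) (fun a3 => forceL (ct3F a3) (fun a4 => forceL (ct3F a4) (fun a5 => forceL (ct3F a5) (fun a6 => forceL (ct1F a6) (fun a7 => forceL (ct1F a7) (fun a8 => forceL (ct3F a8) (fun a9 => forceL (ct3F a9) (fun a10 => forceL (ct3F a10) (fun a11 => forceL (ct0F a11) (fun a12 => forceL (ct2F a12) (fun a13 => forceL (ct2F a13) (fun a14 => forceL (ct2F a14) (fun a15 => forceL (ct0F a15) (fun a16 => forceL (ct0F a16) (fun a17 => forceL (ct2F a17) (fun a18 => forceL (ct2F a18) (fun a19 => forceL (ct2F a19) (fun a20 => forceL (ct0F a20) (fun a21 => forceL (ct0F a21) (fun a22 => a22))))))))))))))))))))))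
set_option maxRecDepth 1000000 in
def W_13 (v : ℕ) : ℕ := forceL (ct3F v) (fun a1 => forceL (ct1F a1) (fun a2 => forceL (ct1F a2) (fun a3 => forceL (ct3F a3) (fun a4 => forceL (ct3F a4) (fun a5 => forceL (ct3F a5) (fun a6 => forceL (ct1F a6) (fun a7 => forceL (ct1F a7) (fun a8 => forceL (ct3F a8) (fun a9 => forceL (ct3F a9) (fun a10 => forceL (ct3F a10) (fun a11 => forceL (ct2F a11) (fun a12 => forceL (ct2F a12) (fun a13 => forceL (ct2F a13) (fun a14 => forceL (ct2F a14) (fun a15 => forceL (ct0F a15) (fun a16 => forceL (ct0F a16) (fun a17 => forceL (ct2F a17) (fun a18 => forceL (ct2F a18) (fun a19 => forceL (ct2F a19) (fun a20 => forceL (ct0F a20) (fun a21 => forceL (ct0F a21) (fun a22 => a22))))))))))))))))))))))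
set_option maxRecDepth 1000000 in
def W_14 (v : ℕ) : ℕ := forceL (ct1F v) (fun a1 => forceL (ct1F a1) (fun a2 => forceL (ct2F a2) (fun a3 => forceL (ct2F a3) (fun a4 => forceL (ct1F a4) (fun a5 => forceL (ct2F a5) (fun a6 => forceL (ct2F a6) (fun a7 => forceL (ct1F a7) (fun a8 => forceL (ct2F a8) (fun a9 => forceL (ct2F a9) (fun a10 => forceL (ct1F a10) (fun a11 => forceL (ct2F a11) (fun a12 => forceL (ct2F a12) (fun a13 => forceL (ct0F a13) (fun a14 => forceL (ct3F a14) (fun a15 => forceL (ct3F a15) (fun a16 => forceL (ct0F a16) (fun a17 => forceL (ct3F a17) (fun a18 => forceL (ct3F a18) (fun a19 => forceL (ct0F a19) (fun a20 => forceL (ct3F a20) (fun a21 => forceL (ct3F a21) (fun a22 => forceL (ct0F a22) (fun a23 => forceL (ct3F a23) (fun a24 => forceL (ct3F a24) (fun a25 => forceL (ct0F a25) (fun a26 => a26))))))))))))))))))))))))))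
set_option maxRecDepth 1000000 in
def W_15 (v : ℕ) : ℕ := forceL (ct3F v) (fun a1 => forceL (ct1F a1) (fun a2 => forceL (ct2F a2) (fun a3 => forceL (ct2F a3) (fun a4 => forceL (ct1F a4) (fun a5 => forceL (ct2F a5) (fun a6 => forceL (ct2F a6) (fun a7 => forceL (ct1F a7) (fun a8 => forceL (ct2F a8) (fun a9 => forceL (ct2F a9) (fun a10 => forceL (ct1F a10) (fun a11 => forceL (ct2F a11) (fun a12 => forceL (ct2F a12) (fun a13 => forceL (ct2F a13) (fun a14 => forceL (ct3F a14) (fun a15 => forceL (ct3F a15) (fun a16 => forceL (ct0F a16) (fun a17 => forceL (ct3F a17) (fun a18 => forceL (ct3F a18) (fun a19 => forceL (ct0F a19) (fun a20 => forceL (ct3F a20) (fun a21 => forceL (ct3F a21) (fun a22 => forceL (ct0F a22) (fun a23 => forceL (ct3F a23) (fun a24 => forceL (ct3F a24) (fun a25 => forceL (ct0F a25) (fun a26 => a26))))))))))))))))))))))))))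
set_option maxRecDepth 1000000 in
def W_16 (v : ℕ) : ℕ := forceL (ct1F v) (fun a1 => forceL (ct0F a1) (fun a2 => forceL (ct3F a2) (fun a3 => forceL (ct3F a3) (fun a4 => forceL (ct0F a4) (fun a5 => forceL (ct3F a5) (fun a6 => forceL (ct3F a6) (fun a7 => forceL (ct0F a7) (fun a8 => forceL (ct3F a8) (fun a9 => forceL (ct3F a9) (fun a10 => forceL (ct0F a10) (fun a11 => forceL (ct3F a11) (fun a12 => forceL (ct3F a12) (fun a13 => forceL (ct0F a13) (fun a14 => forceL (ct2F a14) (fun a15 => forceL (ct2F a15) (fun a16 => forceL (ct1F a16) (fun a17 => forceL (ct2F a17) (fun a18 => forceL (ct2F a18) (fun a19 => forceL (ct1F a19) (fun a20 => forceL (ct2F a20) (fun a21 => forceL (ct2F a21) (fun a22 => forceL (ct1F a22) (fun a23 => forceL (ct2F a23) (fun a24 => forceL (ct2F a24) (fun a25 => forceL (ct1F a25) (fun a26 => a26))))))))))))))))))))))))))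
set_option maxRecDepth 1000000 in
def W_17 (v : ℕ) : ℕ := forceL (ct3F v) (fun a1 => forceL (ct0F a1) (fun a2 => forceL (ct3F a2) (fun a3 => forceL (ct3F a3) (fun a4 => forceL (ct0F a4) (fun a5 => forceL (ct3F a5) (fun a6 => forceL (ct3F a6) (fun a7 => forceL (ct0F a7) (fun a8 => forceL (ct3F a8) (fun a9 => forceL (ct3F a9) (fun a10 => forceL (ct0F a10) (fun a11 => forceL (ct3F a11) (fun a12 => forceL (ct3F a12) (fun a13 => forceL (ct2F a13) (fun a14 => forceL (ct2F a14) (fun a15 => forceL (ct2F a15) (fun a16 => forceL (ct1F a16) (fun a17 => forceL (ct2F a17) (fun a18 => forceL (ct2F a18) (fun a19 => forceL (ct1F a19) (fun a20 => forceL (ct2F a20) (fun a21 => forceL (ct2F a21) (fun a22 => forceL (ct1F a22) (fun a23 => forceL (ct2F a23) (fun a24 => forceL (ct2F a24) (fun a25 => forceL (ct1F a25) (fun a26 => a26))))))))))))))))))))))))))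
set_option maxRecDepth 1000000 in
def W_18 (v : ℕ) : ℕ := forceL (ct1F v) (fun a1 => forceL (ct1F a1) (fun a2 => forceL (ct1F a2) (fun a3 => forceL (ct3F a3) (fun a4 => forceL (ct0F a4) (fun a5 => forceL (ct0F a5) (fun a6 => forceL (ct3F a6) (fun a7 => forceL (ct1F a7) (fun a8 => forceL (ct1F a8) (fun a9 => forceL (ct3F a9) (fun a10 => forceL (ct0F a10) (fun a11 => forceL (ct0F a11) (fun a12 => forceL (ct3F a12) (fun a13 => forceL (ct0F a13) (fun a14 => forceL (ct2F a14) (fun a15 => forceL (ct1F a15) (fun a16 => forceL (ct1F a16) (fun a17 => forceL (ct2F a17) (fun a18 => forceL (ct0F a18) (fun a19 => forceL (ct0F a19) (fun a20 => forceL (ct2F a20) (fun a21 => forceL (ct1F a21) (fun a22 => forceL (ct1F a22) (fun a23 => forceL (ct2F a23) (fun a24 => forceL (ct0F a24) (fun a25 => forceL (ct0F a25) (fun a26 => a26))))))))))))))))))))))))))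
set_option maxRecDepth 1000000 in
def W_19 (v : ℕ) : ℕ := forceL (ct3F v) (fun a1 => forceL (ct1F a1) (fun a2 => forceL (ct1F a2) (fun a3 => forceL (ct3F a3) (fun a4 => forceL (ct0F a4) (fun a5 => forceL (ct0F a5) (fun a6 => forceL (ct3F a6) (fun a7 => forceL (ct1F a7) (fun a8 => forceL (ct1F a8) (fun a9 => forceL (ct3F a9) (fun a10 => forceL (ct0F a10) (fun a11 => forceL (ct0F a11) (fun a12 => forceL (ct3F a12) (fun a13 => forceL (ct2F a13) (fun a14 => forceL (ct2F a14) (fun a15 => forceL (ct1F a15) (fun a16 => forceL (ct1F a16) (fun a17 => forceL (ct2F a17) (fun a18 => forceL (ct0F a18) (fun a19 => forceL (ct0F a19) (fun a20 => forceL (ct2F a20) (fun a21 => forceL (ct1F a21) (fun a22 => forceL (ct1F a22) (fun a23 => forceL (ct2F a23) (fun a24 => forceL (ct0F a24) (fun a25 => forceL (ct0F a25) (fun a26 => a26))))))))))))))))))))))))))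
set_option maxRecDepth 1000000 in
def W_20 (v : ℕ) : ℕ := forceL (ct1F v) (fun a1 => forceL (ct1F a1) (fun a2 => forceL (ct1F a2) (fun a3 => forceL (ct2F a3) (fun a4 => forceL (ct0F a4) (fun a5 => forceL (ct0F a5) (fun a6 => forceL (ct2F a6) (fun a7 => forceL (ct1F a7) (fun a8 => forceL (ct1F a8) (fun a9 => forceL (ct2F a9) (fun a10 => forceL (ct0F a10) (fun a11 => forceL (ct0F a11) (fun a12 => forceL (ct2F a12) (fun a13 => forceL (ct0F a13) (fun a14 => forceL (ct3F a14) (fun a15 => forceL (ct1F a15) (fun a16 => forceL (ct1F a16) (fun a17 => forceL (ct3F a17) (fun a18 => forceL (ct0F a18) (fun a19 => forceL (ct0F a19) (fun a20 => forceL (ct3F a20) (fun a21 => forceL (ct1F a21) (fun a22 => forceL (ct1F a22) (fun a23 => forceL (ct3F a23) (fun a24 => forceL (ct0F a24) (fun a25 => forceL (ct0F a25) (fun a26 => a26))))))))))))))))))))))))))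
set_option maxRecDepth 1000000 in
def W_21 (v : ℕ) : ℕ := forceL (ct3F v) (fun a1 => forceL (ct1F a1) (fun a2 => forceL (ct1F a2) (fun a3 => forceL (ct2F a3) (fun a4 => forceL (ct0F a4) (fun a5 => forceL (ct0F a5) (fun a6 => forceL (ct2F a6) (fun a7 => forceL (ct1F a7) (fun a8 => forceL (ct1F a8) (fun a9 => forceL (ct2F a9) (fun a10 => forceL (ct0F a10) (fun a11 => forceL (ct0F a11) (fun a12 => forceL (ct2F a12) (fun a13 => forceL (ct2F a13) (fun a14 => forceL (ct3F a14) (fun a15 => forceL (ct1F a15) (fun a16 => forceL (ct1F a16) (fun a17 => forceL (ct3F a17) (fun a18 => forceL (ct0F a18) (fun a19 => forceL (ct0F a19) (fun a20 => forceL (ct3F a20) (fun a21 => forceL (ct1F a21) (fun a22 => forceL (ct1F a22) (fun a23 => forceL (ct3F a23) (fun a24 => forceL (ct0F a24) (fun a25 => forceL (ct0F a25) (fun a26 => a26))))))))))))))))))))))))))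
set_option maxRecDepth 1000000 in
def W_22 (v : ℕ) : ℕ := forceL (ct1F v) (fun a1 => forceL (ct1F a1) (fun a2 => forceL (ct2F a2) (fun a3 => forceL (ct1F a3) (fun a4 => forceL (ct1F a4) (fun a5 => forceL (ct2F a5) (fun a6 => forceL (ct2F a6) (fun a7 => forceL (ct0F a7) (fun a8 => forceL (ct3F a8) (fun a9 => forceL (ct0F a9) (fun a10 => forceL (ct0F a10) (fun a11 => forceL (ct0F a11) (fun a12 => forceL (ct2F a12) (fun a13 => forceL (ct2F a13) (fun a14 => forceL (ct0F a14) (fun a15 => forceL (ct3F a15) (fun a16 => forceL (ct3F a16) (fun a17 => forceL (ct1F a17) (fun a18 => forceL (ct1F a18) (fun a19 => forceL (ct1F a19) (fun a20 => forceL (ct2F a20) (fun a21 => forceL (ct1F a21) (fun a22 => forceL (ct3F a22) (fun a23 => forceL (ct3F a23) (fun a24 => forceL (ct0F a24) (fun a25 => forceL (ct0F a25) (fun a26 => forceL (ct3F a26) (fun a27 => forceL (ct0F a27) (fun a28 => a28))))))))))))))))))))))))))))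
set_option maxRecDepth 1000000 in
def W_23 (v : ℕ) : ℕ := forceL (ct3F v) (fun a1 => forceL (ct1F a1) (fun a2 => forceL (ct2F a2) (fun a3 => forceL (ct1F a3) (fun a4 => forceL (ct1F a4) (fun a5 => forceL (ct2F a5) (fun a6 => forceL (ct2F a6) (fun a7 => forceL (ct0F a7) (fun a8 => forceL (ct3F a8) (fun a9 => forceL (ct0F a9) (fun a10 => forceL (ct0F a10) (fun a11 => forceL (ct0F a11) (fun a12 => forceL (ct2F a12) (fun a13 => forceL (ct2F a13) (fun a14 => forceL (ct2F a14) (fun a15 => forceL (ct3F a15) (fun a16 => forceL (ct3F a16) (fun a17 => forceL (ct1F a17) (fun a18 => forceL (ct1F a18) (fun a19 => forceL (ct1F a19) (fun a20 => forceL (ct2F a20) (fun a21 => forceL (ct1F a21) (fun a22 => forceL (ct3F a22) (fun a23 => forceL (ct3F a23) (fun a24 => forceL (ct0F a24) (fun a25 => forceL (ct0F a25) (fun a26 => forceL (ct3F a26) (fun a27 => forceL (ct0F a27) (fun a28 => a28))))))))))))))))))))))))))))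
set_option maxRecDepth 1000000 in
def W_24 (v : ℕ) : ℕ := forceL (ct1F v) (fun a1 => forceL (ct1F a1) (fun a2 => forceL (ct2F a2) (fun a3 => forceL (ct1F a3) (fun a4 => forceL (ct1F a4) (fun a5 => forceL (ct1F a5) (fun a6 => forceL (ct3F a6) (fun a7 => forceL (ct3F a7) (fun a8 => forceL (ct0F a8) (fun a9 => forceL (ct3F a9) (fun a10 => forceL (ct0F a10) (fun a11 => forceL (ct0F a11) (fun a12 => forceL (ct3F a12) (fun a13 => forceL (ct3F a13) (fun a14 => forceL (ct0F a14) (fun a15 => forceL (ct2F a15) (fun a16 => forceL (ct2F a16) (fun a17 => forceL (ct1F a17) (fun a18 => forceL (ct1F a18) (fun a19 => forceL (ct2F a19) (fun a20 => forceL (ct1F a20) (fun a21 => forceL (ct2F a21) (fun a22 => forceL (ct2F a22) (fun a23 => forceL (ct0F a23) (fun a24 => forceL (ct0F a24) (fun a25 => forceL (ct0F a25) (fun a26 => forceL (ct3F a26) (fun a27 => forceL (ct0F a27) (fun a28 => a28))))))))))))))))))))))))))))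
set_option maxRecDepth 1000000 in
def W_25 (v : ℕ) : ℕ := forceL (ct3F v) (fun a1 => forceL (ct1F a1) (fun a2 => forceL (ct2F a2) (fun a3 => forceL (ct1F a3) (fun a4 => forceL (ct1F a4) (fun a5 => forceL (ct1F a5) (fun a6 => forceL (ct3F a6) (fun a7 => forceL (ct3F a7) (fun a8 => forceL (ct0F a8) (fun a9 => forceL (ct3F a9) (fun a10 => forceL (ct0F a10) (fun a11 => forceL (ct0F a11) (fun a12 => forceL (ct3F a12) (fun a13 => forceL (ct3F a13) (fun a14 => forceL (ct2F a14) (fun a15 => forceL (ct2F a15) (fun a16 => forceL (ct2F a16) (fun a17 => forceL (ct1F a17) (fun a18 => forceL (ct1F a18) (fun a19 => forceL (ct2F a19) (fun a20 => forceL (ct1F a20) (fun a21 => forceL (ct2F a21) (fun a22 => forceL (ct2F a22) (fun a23 => forceL (ct0F a23) (fun a24 => forceL (ct0F a24) (fun a25 => forceL (ct0F a25) (fun a26 => forceL (ct3F a26) (fun a27 => forceL (ct0F a27) (fun a28 => a28))))))))))))))))))))))))))))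
set_option maxRecDepth 1000000 in
def W_26 (v : ℕ) : ℕ := forceL (ct1F v) (fun a1 => forceL (ct1F a1) (fun a2 => forceL (ct3F a2) (fun a3 => forceL (ct3F a3) (fun a4 => forceL (ct3F a4) (fun a5 => forceL (ct1F a5) (fun a6 => forceL (ct1F a6) (fun a7 => forceL (ct3F a7) (fun a8 => forceL (ct0F a8) (fun a9 => forceL (ct2F a9) (fun a10 => forceL (ct2F a10) (fun a11 => forceL (ct0F a11) (fun a12 => forceL (ct2F a12) (fun a13 => forceL (ct2F a13) (fun a14 => forceL (ct0F a14) (fun a15 => forceL (ct3F a15) (fun a16 => forceL (ct3F a16) (fun a17 => forceL (ct1F a17) (fun a18 => forceL (ct3F a18) (fun a19 => forceL (ct3F a19) (fun a20 => forceL (ct1F a20) (fun a21 => forceL (ct2F a21) (fun a22 => forceL (ct0F a22) (fun a23 => forceL (ct0F a23) (fun a24 => forceL (ct2F a24) (fun a25 => forceL (ct2F a25) (fun a26 => forceL (ct2F a26) (fun a27 => forceL (ct0F a27) (fun a28 => a28))))))))))))))))))))))))))))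
set_option maxRecDepth 1000000 in
def W_27 (v : ℕ) : ℕ := forceL (ct3F v) (fun a1 => forceL (ct1F a1) (fun a2 => forceL (ct3F a2) (fun a3 => forceL (ct3F a3) (fun a4 => forceL (ct3F a4) (fun a5 => forceL (ct1F a5) (fun a6 => forceL (ct1F a6) (fun a7 => forceL (ct3F a7) (fun a8 => forceL (ct0F a8) (fun a9 => forceL (ct2F a9) (fun a10 => forceL (ct2F a10) (fun a11 => forceL (ct0F a11) (fun a12 => forceL (ct2F a12) (fun a13 => forceL (ct2F a13) (fun a14 => forceL (ct2F a14) (fun a15 => forceL (ct3F a15) (fun a16 => forceL (ct3F a16) (fun a17 => forceL (ct1F a17) (fun a18 => forceL (ct3F a18) (fun a19 => forceL (ct3F a19) (fun a20 => forceL (ct1F a20) (fun a21 => forceL (ct2F a21) (fun a22 => forceL (ct0F a22) (fun a23 => forceL (ct0F a23) (fun a24 => forceL (ct2F a24) (fun a25 => forceL (ct2F a25) (fun a26 => forceL (ct2F a26) (fun a27 => forceL (ct0F a27) (fun a28 => a28))))))))))))))))))))))))))))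
set_option maxRecDepth 1000000 in
def W_28 (v : ℕ) : ℕ := forceL (ct1F v) (fun a1 => forceL (ct1F a1) (fun a2 => forceL (ct2F a2) (fun a3 => forceL (ct2F a3) (fun a4 => forceL (ct0F a4) (fun a5 => forceL (ct2F a5) (fun a6 => forceL (ct2F a6) (fun a7 => forceL (ct0F a7) (fun a8 => forceL (ct3F a8) (fun a9 => forceL (ct1F a9) (fun a10 => forceL (ct1F a10) (fun a11 => forceL (ct3F a11) (fun a12 => forceL (ct3F a12) (fun a13 => forceL (ct3F a13) (fun a14 => forceL (ct0F a14) (fun a15 => forceL (ct2F a15) (fun a16 => forceL (ct2F a16) (fun a17 => forceL (ct2F a17) (fun a18 => forceL (ct0F a18) (fun a19 => forceL (ct0F a19) (fun a20 => forceL (ct2F a20) (fun a21 => forceL (ct1F a21) (fun a22 => forceL (ct3F a22) (fun a23 => forceL (ct3F a23) (fun a24 => forceL (ct1F a24) (fun a25 => forceL (ct3F a25) (fun a26 => forceL (ct3F a26) (fun a27 => forceL (ct0F a27) (fun a28 => a28))))))))))))))))))))))))))))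
set_option maxRecDepth 1000000 in
def W_29 (v : ℕ) : ℕ := forceL (ct3F v) (fun a1 => forceL (ct1F a1) (fun a2 => forceL (ct2F a2) (fun a3 => forceL (ct2F a3) (fun a4 => forceL (ct0F a4) (fun a5 => forceL (ct2F a5) (fun a6 => forceL (ct2F a6) (fun a7 => forceL (ct0F a7) (fun a8 => forceL (ct3F a8) (fun a9 => forceL (ct1F a9) (fun a10 => forceL (ct1F a10) (fun a11 => forceL (ct3F a11) (fun a12 => forceL (ct3F a12) (fun a13 => forceL (ct3F a13) (fun a14 => forceL (ct2F a14) (fun a15 => forceL (ct2F a15) (fun a16 => forceL (ct2F a16) (fun a17 => forceL (ct2F a17) (fun a18 => forceL (ct0F a18) (fun a19 => forceL (ct0F a19) (fun a20 => forceL (ct2F a20) (fun a21 => forceL (ct1F a21) (fun a22 => forceL (ct3F a22) (fun a23 => forceL (ct3F a23) (fun a24 => forceL (ct1F a24) (fun a25 => forceL (ct3F a25) (fun a26 => forceL (ct3F a26) (fun a27 => forceL (ct0F a27) (fun a28 => a28))))))))))))))))))))))))))))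
set_option maxRecDepth 1000000 in
def W_30 (v : ℕ) : ℕ := forceL (ct1F v) (fun a1 => forceL (ct1F a1) (fun a2 => forceL (ct3F a2) (fun a3 => forceL (ct3F a3) (fun a4 => forceL (ct1F a4) (fun a5 => forceL (ct2F a5) (fun a6 => forceL (ct0F a6) (fun a7 => forceL (ct0F a7) (fun a8 => forceL (ct2F a8) (fun a9 => forceL (ct2F a9) (fun a10 => forceL (ct2F a10) (fun a11 => forceL (ct0F a11) (fun a12 => forceL (ct3F a12) (fun a13 => forceL (ct3F a13) (fun a14 => forceL (ct0F a14) (fun a15 => forceL (ct2F a15) (fun a16 => forceL (ct2F a16) (fun a17 => forceL (ct1F a17) (fun a18 => forceL (ct3F a18) (fun a19 => forceL (ct3F a19) (fun a20 => forceL (ct3F a20) (fun a21 => forceL (ct1F a21) (fun a22 => forceL (ct1F a22) (fun a23 => forceL (ct3F a23) (fun a24 => forceL (ct0F a24) (fun a25 => forceL (ct2F a25) (fun a26 => forceL (ct2F a26) (fun a27 => forceL (ct0F a27) (fun a28 => a28))))))))))))))))))))))))))))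
set_option maxRecDepth 1000000 in
def W_31 (v : ℕ) : ℕ := forceL (ct3F v) (fun a1 => forceL (ct1F a1) (fun a2 => forceL (ct3F a2) (fun a3 => forceL (ct3F a3) (fun a4 => forceL (ct1F a4) (fun a5 => forceL (ct2F a5) (fun a6 => forceL (ct0F a6) (fun a7 => forceL (ct0F a7) (fun a8 => forceL (ct2F a8) (fun a9 => forceL (ct2F a9) (fun a10 => forceL (ct2F a10) (fun a11 => forceL (ct0F a11) (fun a12 => forceL (ct3F a12) (fun a13 => forceL (ct3F a13) (fun a14 => forceL (ct2F a14) (fun a15 => forceL (ct2F a15) (fun a16 => forceL (ct2F a16) (fun a17 => forceL (ct1F a17) (fun a18 => forceL (ct3F a18) (fun a19 => forceL (ct3F a19) (fun a20 => forceL (ct3F a20) (fun a21 => forceL (ct1F a21) (fun a22 => forceL (ct1F a22) (fun a23 => forceL (ct3F a23) (fun a24 => forceL (ct0F a24) (fun a25 => forceL (ct2F a25) (fun a26 => forceL (ct2F a26) (fun a27 => forceL (ct0F a27) (fun a28 => a28))))))))))))))))))))))))))))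
set_option maxRecDepth 1000000 in
def W_32 (v : ℕ) : ℕ := forceL (ct1F v) (fun a1 => forceL (ct1F a1) (fun a2 => forceL (ct3F a2) (fun a3 => forceL (ct3F a3) (fun a4 => forceL (ct0F a4) (fun a5 => forceL (ct0F a5) (fun a6 => forceL (ct3F a6) (fun a7 => forceL (ct0F a7) (fun a8 => forceL (ct3F a8) (fun a9 => forceL (ct3F a9) (fun a10 => forceL (ct1F a10) (fun a11 => forceL (ct1F a11) (fun a12 => forceL (ct1F a12) (fun a13 => forceL (ct2F a13) (fun a14 => forceL (ct0F a14) (fun a15 => forceL (ct3F a15) (fun a16 => forceL (ct0F a16) (fun a17 => forceL (ct0F a17) (fun a18 => forceL (ct0F a18) (fun a19 => forceL (ct2F a19) (fun a20 => forceL (ct2F a20) (fun a21 => forceL (ct1F a21) (fun a22 => forceL (ct2F a22) (fun a23 => forceL (ct1F a23) (fun a24 => forceL (ct1F a24) (fun a25 => forceL (ct2F a25) (fun a26 => forceL (ct2F a26) (fun a27 => forceL (ct0F a27) (fun a28 => a28))))))))))))))))))))))))))))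
set_option maxRecDepth 1000000 in
def W_33 (v : ℕ) : ℕ := forceL (ct3F v) (fun a1 => forceL (ct1F a1) (fun a2 => forceL (ct3F a2) (fun a3 => forceL (ct3F a3) (fun a4 => forceL (ct0F a4) (fun a5 => forceL (ct0F a5) (fun a6 => forceL (ct3F a6) (fun a7 => forceL (ct0F a7) (fun a8 => forceL (ct3F a8) (fun a9 => forceL (ct3F a9) (fun a10 => forceL (ct1F a10) (fun a11 => forceL (ct1F a11) (fun a12 => forceL (ct1F a12) (fun a13 => forceL (ct2F a13) (fun a14 => forceL (ct2F a14) (fun a15 => forceL (ct3F a15) (fun a16 => forceL (ct0F a16) (fun a17 => forceL (ct0F a17) (fun a18 => forceL (ct0F a18) (fun a19 => forceL (ct2F a19) (fun a20 => forceL (ct2F a20) (fun a21 => forceL (ct1F a21) (fun a22 => forceL (ct2F a22) (fun a23 => forceL (ct1F a23) (fun a24 => forceL (ct1F a24) (fun a25 => forceL (ct2F a25) (fun a26 => forceL (ct2F a26) (fun a27 => forceL (ct0F a27) (fun a28 => a28))))))))))))))))))))))))))))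
set_option maxRecDepth 1000000 in
def W_34 (v : ℕ) : ℕ := forceL (ct1F v) (fun a1 => forceL (ct1F a1) (fun a2 => forceL (ct3F a2) (fun a3 => forceL (ct3F a3) (fun a4 => forceL (ct1F a4) (fun a5 => forceL (ct3F a5) (fun a6 => forceL (ct3F a6) (fun a7 => forceL (ct0F a7) (fun a8 => forceL (ct2F a8) (fun a9 => forceL (ct2F a9) (fun a10 => forceL (ct2F a10) (fun a11 => forceL (ct0F a11) (fun a12 => forceL (ct0F a12) (fun a13 => forceL (ct2F a13) (fun a14 => forceL (ct0F a14) (fun a15 => forceL (ct3F a15) (fun a16 => forceL (ct1F a16) (fun a17 => forceL (ct1F a17) (fun a18 => forceL (ct3F a18) (fun a19 => forceL (ct3F a19) (fun a20 => forceL (ct3F a20) (fun a21 => forceL (ct1F a21) (fun a22 => forceL (ct2F a22) (fun a23 => forceL (ct2F a23) (fun a24 => forceL (ct0F a24) (fun a25 => forceL (ct2F a25) (fun a26 => forceL (ct2F a26) (fun a27 => forceL (ct0F a27) (fun a28 => a28))))))))))))))))))))))))))))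
set_option maxRecDepth 1000000 in
def W_35 (v : ℕ) : ℕ := forceL (ct3F v) (fun a1 => forceL (ct1F a1) (fun a2 => forceL (ct3F a2) (fun a3 => forceL (ct3F a3) (fun a4 => forceL (ct1F a4) (fun a5 => forceL (ct3F a5) (fun a6 => forceL (ct3F a6) (fun a7 => forceL (ct0F a7) (fun a8 => forceL (ct2F a8) (fun a9 => forceL (ct2F a9) (fun a10 => forceL (ct2F a10) (fun a11 => forceL (ct0F a11) (fun a12 => forceL (ct0F a12) (fun a13 => forceL (ct2F a13) (fun a14 => forceL (ct2F a14) (fun a15 => forceL (ct3F a15) (fun a16 => forceL (ct1F a16) (fun a17 => forceL (ct1F a17) (fun a18 => forceL (ct3F a18) (fun a19 => forceL (ct3F a19) (fun a20 => forceL (ct3F a20) (fun a21 => forceL (ct1F a21) (fun a22 => forceL (ct2F a22) (fun a23 => forceL (ct2F a23) (fun a24 => forceL (ct0F a24) (fun a25 => forceL (ct2F a25) (fun a26 => forceL (ct2F a26) (fun a27 => forceL (ct0F a27) (fun a28 => a28))))))))))))))))))))))))))))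
set_option maxRecDepth 1000000 in
def W_36 (v : ℕ) : ℕ := forceL (ct1F v) (fun a1 => forceL (ct1F a1) (fun a2 => forceL (ct2F a2) (fun a3 => forceL (ct2F a3) (fun a4 => forceL (ct0F a4) (fun a5 => forceL (ct0F a5) (fun a6 => forceL (ct0F a6) (fun a7 => forceL (ct3F a7) (fun a8 => forceL (ct0F a8) (fun a9 => forceL (ct2F a9) (fun a10 => forceL (ct2F a10) (fun a11 => forceL (ct1F a11) (fun a12 => forceL (ct1F a12) (fun a13 => forceL (ct2F a13) (fun a14 => forceL (ct0F a14) (fun a15 => forceL (ct3F a15) (fun a16 => forceL (ct0F a16) (fun a17 => forceL (ct0F a17) (fun a18 => forceL (ct3F a18) (fun a19 => forceL (ct3F a19) (fun a20 => forceL (ct1F a20) (fun a21 => forceL (ct2F a21) (fun a22 => forceL (ct1F a22) (fun a23 => forceL (ct1F a23) (fun a24 => forceL (ct1F a24) (fun a25 => forceL (ct3F a25) (fun a26 => forceL (ct3F a26) (fun a27 => forceL (ct0F a27) (fun a28 => a28))))))))))))))))))))))))))))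
set_option maxRecDepth 1000000 in
def W_37 (v : ℕ) : ℕ := forceL (ct3F v) (fun a1 => forceL (ct1F a1) (fun a2 => forceL (ct2F a2) (fun a3 => forceL (ct2F a3) (fun a4 => forceL (ct0F a4) (fun a5 => forceL (ct0F a5) (fun a6 => forceL (ct0F a6) (fun a7 => forceL (ct3F a7) (fun a8 => forceL (ct0F a8) (fun a9 => forceL (ct2F a9) (fun a10 => forceL (ct2F a10) (fun a11 => forceL (ct1F a11) (fun a12 => forceL (ct1F a12) (fun a13 => forceL (ct2F a13) (fun a14 => forceL (ct2F a14) (fun a15 => forceL (ct3F a15) (fun a16 => forceL (ct0F a16) (fun a17 => forceL (ct0F a17) (fun a18 => forceL (ct3F a18) (fun a19 => forceL (ct3F a19) (fun a20 => forceL (ct1F a20) (fun a21 => forceL (ct2F a21) (fun a22 => forceL (ct1F a22) (fun a23 => forceL (ct1F a23) (fun a24 => forceL (ct1F a24) (fun a25 => forceL (ct3F a25) (fun a26 => forceL (ct3F a26) (fun a27 => forceL (ct0F a27) (fun a28 => a28))))))))))))))))))))))))))))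
set_option maxRecDepth 1000000 in
def W_38 (v : ℕ) : ℕ := forceL (ct2F v) (fun a1 => forceL (ct2F a1) (fun a2 => forceL (ct0F a2) (fun a3 => forceL (ct2F a3) (fun a4 => forceL (ct2F a4) (fun a5 => forceL (ct0F a5) (fun a6 => forceL (ct2F a6) (fun a7 => forceL (ct2F a7) (fun a8 => forceL (ct0F a8) (fun a9 => forceL (ct2F a9) (fun a10 => forceL (ct2F a10) (fun a11 => forceL (ct0F a11) (fun a12 => forceL (ct2F a12) (fun a13 => forceL (ct2F a13) (fun a14 => forceL (ct0F a14) (fun a15 => forceL (ct2F a15) (fun a16 => forceL (ct2F a16) (fun a17 => forceL (ct0F a17) (fun a18 => forceL (ct2F a18) (fun a19 => forceL (ct2F a19) (fun a20 => forceL (ct0F a20) (fun a21 => forceL (ct2F a21) (fun a22 => forceL (ct2F a22) (fun a23 => forceL (ct0F a23) (fun a24 => forceL (ct2F a24) (fun a25 => forceL (ct2F a25) (fun a26 => forceL (ct0F a26) (fun a27 => forceL (ct2F a27) (fun a28 => forceL (ct2F a28) (fun a29 => forceL (ct0F a29) (fun a30 => forceL (ct2F a30) (fun a31 => forceL (ct2F a31) (fun a32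 => forceL (ct0F a32) (fun a33 => forceL (ct2F a33) (fun a34 => forceL (ct2F a34) (fun a35 => forceL (ct0F a35) (fun a36 => forceL (ct2F a36) (fun a37 => forceL (ct2F a37) (fun a38 => forceL (ct0F a38) (fun a39 => forceL (ct2F a39) (fun a40 => forceL (ct2F a40) (fun a41 => forceL (ct0F a41) (fun a42 => forceL (ct2F a42) (fun a43 => forceL (ct2F a43) (fun a44 => forceL (ct0F a44) (fun a45 => forceL (ct2F a45) (fun a46 => forceL (ct2F a46) (fun a47 => forceL (ct0F a47) (fun a48 => forceL (ct2F a48) (fun a49 => forceL (ct2F a49) (fun a50 => forceL (ct0F a50) (fun a51 => forceL (ct2F a51) (fun a52 => forceL (ct2F a52) (fun a53 => forceL (ct0F a53) (fun a54 => forceL (ct2F a54) (fun a55 => forceL (ct2F a55) (fun a56 => forceL (ct0F a56) (fun a57 => forceL (ct2F a57) (fun a58 => forceL (ct2F a58) (fun a59 => forceL (ct0F a59) (fun a60 => forceL (ct2F a60) (fun a61 => forceL (ct2F a61) (fun a62 => forceL (ct0F a62) (fun a63 => forceL (ct2F a63) (fun a64 => forceL (ct2F a64) (fun a65 =>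 forceL (ct0F a65) (fun a66 => forceL (ct2F a66) (fun a67 => forceL (ct2F a67) (fun a68 => forceL (ct0F a68) (fun a69 => forceL (ct2F a69) (fun a70 => forceL (ct2F a70) (fun a71 => forceL (ct0F a71) (fun a72 => a72))))))))))))))))))))))))))))))))))))))))))))))))))))))))))))))))))))))))
set_option maxRecDepth 1000000 in
def W_39 (v : ℕ) : ℕ := forceL (ct3F v) (fun a1 => forceL (ct3F a1) (fun a2 => forceL (ct1F a2) (fun a3 => forceL (ct3F a3) (fun a4 => forceL (ct3F a4) (fun a5 => forceL (ct1F a5) (fun a6 => forceL (ct3F a6) (fun a7 => forceL (ct3F a7) (fun a8 => forceL (ct1F a8) (fun a9 => forceL (ct3F a9) (fun a10 => forceL (ct3F a10) (fun a11 => forceL (ct1F a11) (fun a12 => forceL (ct3F a12) (fun a13 => forceL (ct3F a13) (fun a14 => forceL (ct1F a14) (fun a15 => forceL (ct3F a15) (fun a16 => forceL (ct3F a16) (fun a17 => forceL (ct1F a17) (fun a18 => forceL (ct3F a18) (fun a19 => forceL (ct3F a19) (fun a20 => forceL (ct1F a20) (fun a21 => forceL (ct3F a21) (fun a22 => forceL (ct3F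 a22) (fun a23 => forceL (ct1F a23) (fun a24 => forceL (ct3F a24) (fun a25 => forceL (ct3F a25) (fun a26 => forceL (ct1F a26) (fun a27 => forceL (ct3F a27) (fun a28 => forceL (ct3F a28) (fun a29 => forceL (ct1F a29) (fun a30 => forceL (ct3F a30) (fun a31 => forceL (ct3F a31) (fun a32 => forceL (ct1F a32) (fun a33 => forceL (ct3F a33) (fun a34 => forceL (ct3F a34) (fun a35 => forceL (ct1F a35) (fun a36 => forceL (ct3F a36) (fun a37 => forceL (ct3F a37) (fun a38 => forceL (ct1F a38) (fun a39 => forceL (ct3F a39) (fun a40 => forceL (ct3F a40) (fun a41 => forceL (ct1F a41) (fun a42 => forceL (ct3F a42) (fun a43 => forceL (ct3F a43) (fun a44 => forceL (ct1F a44) (fun a45 => forceL (ct3F a45) (fun a46 => forceL (ct3F a46) (fun a47 => forceL (ct1F a47) (fun a48 => forceL (ct3F a48) (fun a49 => forceL (ct3F a49) (fun a50 => forceL (ct1F a50) (fun a51 => forceL (ct3F a51) (fun a52 => forceL (ct3F a52) (fun a53 => forceL (ct1F a53) (fun a54 => forceL (ct3F a54) (fun a55 => forceL (ct3F a55)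 (fun a56 => forceL (ct1F a56) (fun a57 => forceL (ct3F a57) (fun a58 => forceL (ct3F a58) (fun a59 => forceL (ct1F a59) (fun a60 => forceL (ct3F a60) (fun a61 => forceL (ct3F a61) (fun a62 => forceL (ct1F a62) (fun a63 => forceL (ct3F a63) (fun a64 => forceL (ct3F a64) (fun a65 => forceL (ct1F a65) (fun a66 => forceL (ct3F a66) (fun a67 => forceL (ct3F a67) (fun a68 => forceL (ct1F a68) (fun a69 => forceL (ct3F a69) (fun a70 => forceL (ct3F a70) (fun a71 => forceL (ct1F a71) (fun a72 => a72))))))))))))))))))))))))))))))))))))))))))))))))))))))))))))))))))))))))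
set_option maxRecDepth 1000000 in
def W_40 (v : ℕ) : ℕ := forceL (ct3F v) (fun a1 => forceL (ct3F a1) (fun a2 => forceL (ct3F a2) (fun a3 => forceL (ct1F a3) (fun a4 => forceL (ct1F a4) (fun a5 => forceL (ct3F a5) (fun a6 => forceL (ct3F a6) (fun a7 => forceL (ct3F a7) (fun a8 => forceL (ct1F a8) (fun a9 => forceL (ct1F a9) (fun a10 => forceL (ct3F a10) (fun a11 => forceL (ct3F a11) (fun a12 => forceL (ct3F a12) (fun a13 => forceL (ct1F a13) (fun a14 => forceL (ct1F a14) (fun a15 => forceL (ct3F a15) (fun a16 => forceL (ct3F a16) (fun a17 => forceL (ct3F a17) (fun a18 => forceL (ct1F a18) (fun a19 => forceL (ct1F a19) (fun a20 => forceL (ct3F a20) (fun a21 => forceL (ct3F a21) (fun a22 => forceL (ct3F a22) (fun a23 => forceL (ct1F a23) (fun a24 => forceL (ct1F a24) (fun a25 => forceL (ct3F a25) (fun a26 => forceL (ct3F a26) (fun a27 => forceL (ct3F a27) (fun a28 => forceL (ct1F a28) (fun a29 => forceL (ct1F a29) (fun a30 => forceL (ct3F a30) (fun a31 => forceL (ct3F a31) (fun a32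 => forceL (ct3F a32) (fun a33 => forceL (ct1F a33) (fun a34 => forceL (ct1F a34) (fun a35 => forceL (ct3F a35) (fun a36 => forceL (ct3F a36) (fun a37 => forceL (ct3F a37) (fun a38 => forceL (ct1F a38) (fun a39 => forceL (ct1F a39) (fun a40 => forceL (ct3F a40) (fun a41 => forceL (ct3F a41) (fun a42 => forceL (ct3F a42) (fun a43 => forceL (ct1F a43) (fun a44 => forceL (ct1F a44) (fun a45 => forceL (ct3F a45) (fun a46 => forceL (ct3F a46) (fun a47 => forceL (ct3F a47) (fun a48 => forceL (ct1F a48) (fun a49 => forceL (ct1F a49) (fun a50 => forceL (ct3F a50) (fun a51 => forceL (ct3F a51) (fun a52 => forceL (ct3F a52) (fun a53 => forceL (ct1F a53) (fun a54 => forceL (ct1F a54) (fun a55 => forceL (ct3F a55) (fun a56 => forceL (ct3F a56) (fun a57 => forceL (ct3F a57) (fun a58 => forceL (ct1F a58) (fun a59 => forceL (ct1F a59) (fun a60 => forceL (ct3F a60) (fun a61 => forceL (ct3F a61) (fun a62 => forceL (ct3F a62) (fun a63 => forceL (ct1F a63) (fun a64 => forceL (ct1F a64) (fun a65 =>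 forceL (ct3F a65) (fun a66 => forceL (ct3F a66) (fun a67 => forceL (ct3F a67) (fun a68 => forceL (ct1F a68) (fun a69 => forceL (ct1F a69) (fun a70 => forceL (ct3F a70) (fun a71 => forceL (ct3F a71) (fun a72 => forceL (ct3F a72) (fun a73 => forceL (ct1F a73) (fun a74 => forceL (ct1F a74) (fun a75 => forceL (ct3F a75) (fun a76 => forceL (ct3F a76) (fun a77 => forceL (ct3F a77) (fun a78 => forceL (ct1F a78) (fun a79 => forceL (ct1F a79) (fun a80 => a80))))))))))))))))))))))))))))))))))))))))))))))))))))))))))))))))))))))))))))))))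
set_option maxRecDepth 1000000 in
def W_41 (v : ℕ) : ℕ := forceL (ct2F v) (fun a1 => forceL (ct2F a1) (fun a2 => forceL (ct2F a2) (fun a3 => forceL (ct0F a3) (fun a4 => forceL (ct0F a4) (fun a5 => forceL (ct2F a5) (fun a6 => forceL (ct2F a6) (fun a7 => forceL (ct2F a7) (fun a8 => forceL (ct0F a8) (fun a9 => forceL (ct0F a9) (fun a10 => forceL (ct2F a10) (fun a11 => forceL (ct2F a11) (fun a12 => forceL (ct2F a12) (fun a13 => forceL (ct0F a13) (fun a14 => forceL (ct0F a14) (fun a15 => forceL (ct2F a15) (fun a16 => forceL (ct2F a16) (fun a17 => forceL (ct2F a17) (fun a18 => forceL (ct0F a18) (fun a19 => forceL (ct0F a19) (fun a20 => forceL (ct2F a20) (fun a21 => forceL (ct2F a21) (fun a22 => forceL (ct2F a22) (fun a23 => forceL (ct0F a23) (fun a24 => forceL (ct0F a24) (fun a25 => forceL (ct2F a25) (fun a26 => forceL (ct2F a26) (fun a27 => forceL (ct2F a27) (fun a28 => forceL (ct0F a28) (fun a29 => forceL (ct0F a29) (fun a30 => forceL (ct2F a30) (fun a31 => forceL (ct2F a31) (fun a32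 => forceL (ct2F a32) (fun a33 => forceL (ct0F a33) (fun a34 => forceL (ct0F a34) (fun a35 => forceL (ct2F a35) (fun a36 => forceL (ct2F a36) (fun a37 => forceL (ct2F a37) (fun a38 => forceL (ct0F a38) (fun a39 => forceL (ct0F a39) (fun a40 => forceL (ct2F a40) (fun a41 => forceL (ct2F a41) (fun a42 => forceL (ct2F a42) (fun a43 => forceL (ct0F a43) (fun a44 => forceL (ct0F a44) (fun a45 => forceL (ct2F a45) (fun a46 => forceL (ct2F a46) (fun a47 => forceL (ct2F a47) (fun a48 => forceL (ct0F a48) (fun a49 => forceL (ct0F a49) (fun a50 => forceL (ct2F a50) (fun a51 => forceL (ct2F a51) (fun a52 => forceL (ct2F a52) (fun a53 => forceL (ct0F a53) (fun a54 => forceL (ct0F a54) (fun a55 => forceL (ct2F a55) (fun a56 => forceL (ct2F a56) (fun a57 => forceL (ct2F a57) (fun a58 => forceL (ct0F a58) (fun a59 => forceL (ct0F a59) (fun a60 => forceL (ct2F a60) (fun a61 => forceL (ct2F a61) (fun a62 => forceL (ct2F a62) (fun a63 => forceL (ct0F a63) (fun a64 => forceL (ct0F a64) (fun a65 =>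 forceL (ct2F a65) (fun a66 => forceL (ct2F a66) (fun a67 => forceL (ct2F a67) (fun a68 => forceL (ct0F a68) (fun a69 => forceL (ct0F a69) (fun a70 => forceL (ct2F a70) (fun a71 => forceL (ct2F a71) (fun a72 => forceL (ct2F a72) (fun a73 => forceL (ct0F a73) (fun a74 => forceL (ct0F a74) (fun a75 => forceL (ct2F a75) (fun a76 => forceL (ct2F a76) (fun a77 => forceL (ct2F a77) (fun a78 => forceL (ct0F a78) (fun a79 => forceL (ct0F a79) (fun a80 => a80))))))))))))))))))))))))))))))))))))))))))))))))))))))))))))))))))))))))))))))))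
set_option maxRecDepth 1000000 in
def W_42 (v : ℕ) : ℕ := forceL (ct3F v) (fun a1 => forceL (ct3F a1) (fun a2 => forceL (ct0F a2) (fun a3 => forceL (ct3F a3) (fun a4 => forceL (ct3F a4) (fun a5 => forceL (ct0F a5) (fun a6 => forceL (ct3F a6) (fun a7 => forceL (ct3F a7) (fun a8 => forceL (ct0F a8) (fun a9 => forceL (ct3F a9) (fun a10 => forceL (ct3F a10) (fun a11 => forceL (ct0F a11) (fun a12 => forceL (ct3F a12) (fun a13 => forceL (ct3F a13) (fun a14 => forceL (ct0F a14) (fun a15 => forceL (ct3F a15) (fun a16 => forceL (ct3F a16) (fun a17 => forceL (ct0F a17) (fun a18 => forceL (ct3F a18) (fun a19 => forceL (ct3F a19) (fun a20 => forceL (ct0F a20) (fun a21 => forceL (ct3F a21) (fun a22 => forceL (ct3F a22) (fun a23 => forceL (ct0F a23) (fun a24 => forceL (ct3F a24) (fun a25 => forceL (ct3F a25) (fun a26 => forceL (ct0F a26) (fun a27 => forceL (ct3F a27) (fun a28 => forceL (ct3F a28) (fun a29 => forceL (ct0F a29) (fun a30 => forceL (ct3F a30) (fun a31 => forceL (ct3F a31) (fun a32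 => forceL (ct0F a32) (fun a33 => forceL (ct3F a33) (fun a34 => forceL (ct3F a34) (fun a35 => forceL (ct0F a35) (fun a36 => forceL (ct3F a36) (fun a37 => forceL (ct3F a37) (fun a38 => forceL (ct0F a38) (fun a39 => forceL (ct3F a39) (fun a40 => forceL (ct3F a40) (fun a41 => forceL (ct0F a41) (fun a42 => forceL (ct3F a42) (fun a43 => forceL (ct3F a43) (fun a44 => forceL (ct0F a44) (fun a45 => forceL (ct3F a45) (fun a46 => forceL (ct3F a46) (fun a47 => forceL (ct0F a47) (fun a48 => forceL (ct3F a48) (fun a49 => forceL (ct3F a49) (fun a50 => forceL (ct0F a50) (fun a51 => forceL (ct3F a51) (fun a52 => forceL (ct3F a52) (fun a53 => forceL (ct0F a53) (fun a54 => forceL (ct3F a54) (fun a55 => forceL (ct3F a55) (fun a56 => forceL (ct0F a56) (fun a57 => forceL (ct3F a57) (fun a58 => forceL (ct3F a58) (fun a59 => forceL (ct0F a59) (fun a60 => forceL (ct3F a60) (fun a61 => forceL (ct3F a61) (fun a62 => forceL (ct0F a62) (fun a63 => forceL (ct3F a63) (fun a64 => forceL (ct3F a64) (fun a65 =>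 forceL (ct0F a65) (fun a66 => forceL (ct3F a66) (fun a67 => forceL (ct3F a67) (fun a68 => forceL (ct0F a68) (fun a69 => forceL (ct3F a69) (fun a70 => forceL (ct3F a70) (fun a71 => forceL (ct0F a71) (fun a72 => forceL (ct3F a72) (fun a73 => forceL (ct3F a73) (fun a74 => forceL (ct0F a74) (fun a75 => forceL (ct3F a75) (fun a76 => forceL (ct3F a76) (fun a77 => forceL (ct0F a77) (fun a78 => forceL (ct3F a78) (fun a79 => forceL (ct3F a79) (fun a80 => forceL (ct0F a80) (fun a81 => forceL (ct3F a81) (fun a82 => forceL (ct3F a82) (fun a83 => forceL (ct0F a83) (fun a84 => forceL (ct3F a84) (fun a85 => forceL (ct3F a85) (fun a86 => forceL (ct0F a86) (fun a87 => forceL (ct3F a87) (fun a88 => forceL (ct3F a88) (fun a89 => forceL (ct0F a89) (fun a90 => forceL (ct3F a90) (fun a91 => forceL (ct3F a91) (fun a92 => forceL (ct0F a92) (fun a93 => forceL (ct3F a93) (fun a94 => forceL (ct3F a94) (fun a95 => forceL (ct0F a95) (fun a96 => a96))))))))))))))))))))))))))))))))))))))))))))))))))))))))))))))))))))))))))))))))))))))))))))))))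
set_option maxRecDepth 1000000 in
def W_43 (v : ℕ) : ℕ := forceL (ct2F v) (fun a1 => forceL (ct2F a1) (fun a2 => forceL (ct1F a2) (fun a3 => forceL (ct2F a3) (fun a4 => forceL (ct2F a4) (fun a5 => forceL (ct1F a5) (fun a6 => forceL (ct2F a6) (fun a7 => forceL (ct2F a7) (fun a8 => forceL (ct1F a8) (fun a9 => forceL (ct2F a9) (fun a10 => forceL (ct2F a10) (fun a11 => forceL (ct1F a11) (fun a12 => forceL (ct2F a12) (fun a13 => forceL (ct2F a13) (fun a14 => forceL (ct1F a14) (fun a15 => forceL (ct2F a15) (fun a16 => forceL (ct2F a16) (fun a17 => forceL (ct1F a17) (fun a18 => forceL (ct2F a18) (fun a19 => forceL (ct2F a19) (fun a20 => forceL (ct1F a20) (fun a21 => forceL (ct2F a21) (fun a22 => forceL (ct2F a22) (fun a23 => forceL (ct1F a23) (fun a24 => forceL (ct2F a24) (fun a25 => forceL (ct2F a25) (fun a26 => forceL (ct1F a26) (fun a27 => forceL (ct2F a27) (fun a28 => forceL (ct2F a28) (fun a29 => forceL (ct1F a29) (fun a30 => forceL (ct2F a30) (fun a31 => forceL (ct2F a31) (fun a32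 => forceL (ct1F a32) (fun a33 => forceL (ct2F a33) (fun a34 => forceL (ct2F a34) (fun a35 => forceL (ct1F a35) (fun a36 => forceL (ct2F a36) (fun a37 => forceL (ct2F a37) (fun a38 => forceL (ct1F a38) (fun a39 => forceL (ct2F a39) (fun a40 => forceL (ct2F a40) (fun a41 => forceL (ct1F a41) (fun a42 => forceL (ct2F a42) (fun a43 => forceL (ct2F a43) (fun a44 => forceL (ct1F a44) (fun a45 => forceL (ct2F a45) (fun a46 => forceL (ct2F a46) (fun a47 => forceL (ct1F a47) (fun a48 => forceL (ct2F a48) (fun a49 => forceL (ct2F a49) (fun a50 => forceL (ct1F a50) (fun a51 => forceL (ct2F a51) (fun a52 => forceL (ct2F a52) (fun a53 => forceL (ct1F a53) (fun a54 => forceL (ct2F a54) (fun a55 => forceL (ct2F a55) (fun a56 => forceL (ct1F a56) (fun a57 => forceL (ct2F a57) (fun a58 => forceL (ct2F a58) (fun a59 => forceL (ct1F a59) (fun a60 => forceL (ct2F a60) (fun a61 => forceL (ct2F a61) (fun a62 => forceL (ct1F a62) (fun a63 => forceL (ct2F a63) (fun a64 => forceL (ct2F a64) (fun a65 =>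 forceL (ct1F a65) (fun a66 => forceL (ct2F a66) (fun a67 => forceL (ct2F a67) (fun a68 => forceL (ct1F a68) (fun a69 => forceL (ct2F a69) (fun a70 => forceL (ct2F a70) (fun a71 => forceL (ct1F a71) (fun a72 => forceL (ct2F a72) (fun a73 => forceL (ct2F a73) (fun a74 => forceL (ct1F a74) (fun a75 => forceL (ct2F a75) (fun a76 => forceL (ct2F a76) (fun a77 => forceL (ct1F a77) (fun a78 => forceL (ct2F a78) (fun a79 => forceL (ct2F a79) (fun a80 => forceL (ct1F a80) (fun a81 => forceL (ct2F a81) (fun a82 => forceL (ct2F a82) (fun a83 => forceL (ct1F a83) (fun a84 => forceL (ct2F a84) (fun a85 => forceL (ct2F a85) (fun a86 => forceL (ct1F a86) (fun a87 => forceL (ct2F a87) (fun a88 => forceL (ct2F a88) (fun a89 => forceL (ct1F a89) (fun a90 => forceL (ct2F a90) (fun a91 => forceL (ct2F a91) (fun a92 => forceL (ct1F a92) (fun a93 => forceL (ct2F a93) (fun a94 => forceL (ct2F a94) (fun a95 => forceL (ct1F a95) (fun a96 => a96))))))))))))))))))))))))))))))))))))))))))))))))))))))))))))))))))))))))))))))))))))))))))))))))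
set_option maxRecDepth 1000000 in
def W_44 (v : ℕ) : ℕ := forceL (ct2F v) (fun a1 => forceL (ct1F a1) (fun a2 => forceL (ct1F a2) (fun a3 => forceL (ct2F a3) (fun a4 => forceL (ct0F a4) (fun a5 => forceL (ct0F a5) (fun a6 => forceL (ct2F a6) (fun a7 => forceL (ct1F a7) (fun a8 => forceL (ct1F a8) (fun a9 => forceL (ct2F a9) (fun a10 => forceL (ct0F a10) (fun a11 => forceL (ct0F a11) (fun a12 => forceL (ct2F a12) (fun a13 => forceL (ct1F a13) (fun a14 => forceL (ct1F a14) (fun a15 => forceL (ct2F a15) (fun a16 => forceL (ct0F a16) (fun a17 => forceL (ct0F a17) (fun a18 => forceL (ct2F a18) (fun a19 => forceL (ct1F a19) (fun a20 => forceL (ct1F a20) (fun a21 => forceL (ct2F a21) (fun a22 => forceL (ct0F a22) (fun a23 => forceL (ct0F a23) (fun a24 => forceL (ct2F a24) (fun a25 => forceL (ct1F a25) (fun a26 => forceL (ct1F a26) (fun a27 => forceL (ct2F a27) (fun a28 => forceL (ct0F a28) (fun a29 => forceL (ct0F a29) (fun a30 => forceL (ct2F a30) (fun a31 => forceL (ct1F a31) (fun a32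 => forceL (ct1F a32) (fun a33 => forceL (ct2F a33) (fun a34 => forceL (ct0F a34) (fun a35 => forceL (ct0F a35) (fun a36 => forceL (ct2F a36) (fun a37 => forceL (ct1F a37) (fun a38 => forceL (ct1F a38) (fun a39 => forceL (ct2F a39) (fun a40 => forceL (ct0F a40) (fun a41 => forceL (ct0F a41) (fun a42 => forceL (ct2F a42) (fun a43 => forceL (ct1F a43) (fun a44 => forceL (ct1F a44) (fun a45 => forceL (ct2F a45) (fun a46 => forceL (ct0F a46) (fun a47 => forceL (ct0F a47) (fun a48 => forceL (ct2F a48) (fun a49 => forceL (ct1F a49) (fun a50 => forceL (ct1F a50) (fun a51 => forceL (ct2F a51) (fun a52 => forceL (ct0F a52) (fun a53 => forceL (ct0F a53) (fun a54 => forceL (ct2F a54) (fun a55 => forceL (ct1F a55) (fun a56 => forceL (ct1F a56) (fun a57 => forceL (ct2F a57) (fun a58 => forceL (ct0F a58) (fun a59 => forceL (ct0F a59) (fun a60 => forceL (ct2F a60) (fun a61 => forceL (ct1F a61) (fun a62 => forceL (ct1F a62) (fun a63 => forceL (ct2F a63) (fun a64 => forceL (ct0F a64) (fun a65 =>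 forceL (ct0F a65) (fun a66 => forceL (ct2F a66) (fun a67 => forceL (ct1F a67) (fun a68 => forceL (ct1F a68) (fun a69 => forceL (ct2F a69) (fun a70 => forceL (ct0F a70) (fun a71 => forceL (ct0F a71) (fun a72 => forceL (ct2F a72) (fun a73 => forceL (ct1F a73) (fun a74 => forceL (ct1F a74) (fun a75 => forceL (ct2F a75) (fun a76 => forceL (ct0F a76) (fun a77 => forceL (ct0F a77) (fun a78 => forceL (ct2F a78) (fun a79 => forceL (ct1F a79) (fun a80 => forceL (ct1F a80) (fun a81 => forceL (ct2F a81) (fun a82 => forceL (ct0F a82) (fun a83 => forceL (ct0F a83) (fun a84 => forceL (ct2F a84) (fun a85 => forceL (ct1F a85) (fun a86 => forceL (ct1F a86) (fun a87 => forceL (ct2F a87) (fun a88 => forceL (ct0F a88) (fun a89 => forceL (ct0F a89) (fun a90 => forceL (ct2F a90) (fun a91 => forceL (ct1F a91) (fun a92 => forceL (ct1F a92) (fun a93 => forceL (ct2F a93) (fun a94 => forceL (ct0F a94) (fun a95 => forceL (ct0F a95) (fun a96 => a96))))))))))))))))))))))))))))))))))))))))))))))))))))))))))))))))))))))))))))))))))))))))))))))))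
set_option maxRecDepth 1000000 in
def W_45 (v : ℕ) : ℕ := forceL (ct3F v) (fun a1 => forceL (ct1F a1) (fun a2 => forceL (ct1F a2) (fun a3 => forceL (ct3F a3) (fun a4 => forceL (ct0F a4) (fun a5 => forceL (ct0F a5) (fun a6 => forceL (ct3F a6) (fun a7 => forceL (ct1F a7) (fun a8 => forceL (ct1F a8) (fun a9 => forceL (ct3F a9) (fun a10 => forceL (ct0F a10) (fun a11 => forceL (ct0F a11) (fun a12 => forceL (ct3F a12) (fun a13 => forceL (ct1F a13) (fun a14 => forceL (ct1F a14) (fun a15 => forceL (ct3F a15) (fun a16 => forceL (ct0F a16) (fun a17 => forceL (ct0F a17) (fun a18 => forceL (ct3F a18) (fun a19 => forceL (ct1F a19) (fun a20 => forceL (ct1F a20) (fun a21 => forceL (ct3F a21) (fun a22 => forceL (ct0F a22) (fun a23 => forceL (ct0F a23) (fun a24 => forceL (ct3F a24) (fun a25 => forceL (ct1F a25) (fun a26 => forceL (ct1F a26) (fun a27 => forceL (ct3F a27) (fun a28 => forceL (ct0F a28) (fun a29 => forceL (ct0F a29) (fun a30 => forceL (ct3F a30) (fun a31 => forceL (ct1F a31) (fun a32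 => forceL (ct1F a32) (fun a33 => forceL (ct3F a33) (fun a34 => forceL (ct0F a34) (fun a35 => forceL (ct0F a35) (fun a36 => forceL (ct3F a36) (fun a37 => forceL (ct1F a37) (fun a38 => forceL (ct1F a38) (fun a39 => forceL (ct3F a39) (fun a40 => forceL (ct0F a40) (fun a41 => forceL (ct0F a41) (fun a42 => forceL (ct3F a42) (fun a43 => forceL (ct1F a43) (fun a44 => forceL (ct1F a44) (fun a45 => forceL (ct3F a45) (fun a46 => forceL (ct0F a46) (fun a47 => forceL (ct0F a47) (fun a48 => forceL (ct3F a48) (fun a49 => forceL (ct1F a49) (fun a50 => forceL (ct1F a50) (fun a51 => forceL (ct3F a51) (fun a52 => forceL (ct0F a52) (fun a53 => forceL (ct0F a53) (fun a54 => forceL (ct3F a54) (fun a55 => forceL (ct1F a55) (fun a56 => forceL (ct1F a56) (fun a57 => forceL (ct3F a57) (fun a58 => forceL (ct0F a58) (fun a59 => forceL (ct0F a59) (fun a60 => forceL (ct3F a60) (fun a61 => forceL (ct1F a61) (fun a62 => forceL (ct1F a62) (fun a63 => forceL (ct3F a63) (fun a64 => forceL (ct0F a64) (fun a65 =>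 forceL (ct0F a65) (fun a66 => forceL (ct3F a66) (fun a67 => forceL (ct1F a67) (fun a68 => forceL (ct1F a68) (fun a69 => forceL (ct3F a69) (fun a70 => forceL (ct0F a70) (fun a71 => forceL (ct0F a71) (fun a72 => forceL (ct3F a72) (fun a73 => forceL (ct1F a73) (fun a74 => forceL (ct1F a74) (fun a75 => forceL (ct3F a75) (fun a76 => forceL (ct0F a76) (fun a77 => forceL (ct0F a77) (fun a78 => forceL (ct3F a78) (fun a79 => forceL (ct1F a79) (fun a80 => forceL (ct1F a80) (fun a81 => forceL (ct3F a81) (fun a82 => forceL (ct0F a82) (fun a83 => forceL (ct0F a83) (fun a84 => forceL (ct3F a84) (fun a85 => forceL (ct1F a85) (fun a86 => forceL (ct1F a86) (fun a87 => forceL (ct3F a87) (fun a88 => forceL (ct0F a88) (fun a89 => forceL (ct0F a89) (fun a90 => forceL (ct3F a90) (fun a91 => forceL (ct1F a91) (fun a92 => forceL (ct1F a92) (fun a93 => forceL (ct3F a93) (fun a94 => forceL (ct0F a94) (fun a95 => forceL (ct0F a95) (fun a96 => a96))))))))))))))))))))))))))))))))))))))))))))))))))))))))))))))))))))))))))))))))))))))))))))))))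
set_option maxRecDepth 1000000 in
def W_46 (v : ℕ) : ℕ := forceL (ct3F v) (fun a1 => forceL (ct3F a1) (fun a2 => forceL (ct1F a2) (fun a3 => forceL (ct1F a3) (fun a4 => forceL (ct1F a4) (fun a5 => forceL (ct2F a5) (fun a6 => forceL (ct1F a6) (fun a7 => forceL (ct3F a7) (fun a8 => forceL (ct3F a8) (fun a9 => forceL (ct0F a9) (fun a10 => forceL (ct0F a10) (fun a11 => forceL (ct3F a11) (fun a12 => forceL (ct0F a12) (fun a13 => forceL (ct3F a13) (fun a14 => forceL (ct3F a14) (fun a15 => forceL (ct1F a15) (fun a16 => forceL (ct1F a16) (fun a17 => forceL (ct1F a17) (fun a18 => forceL (ct2F a18) (fun a19 => forceL (ct1F a19) (fun a20 => forceL (ct3F a20) (fun a21 => forceL (ct3F a21) (fun a22 => forceL (ct0F a22) (fun a23 => forceL (ct0F a23) (fun a24 => forceL (ct3F a24) (fun a25 => forceL (ct0F a25) (fun a26 => forceL (ct3F a26) (fun a27 => forceL (ct3F a27) (fun a28 => forceL (ct1F a28) (fun a29 => forceL (ct1F a29) (fun a30 => forceL (ct1F a30) (fun a31 => forceL (ct2F a31) (fun a32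 => forceL (ct1F a32) (fun a33 => forceL (ct3F a33) (fun a34 => forceL (ct3F a34) (fun a35 => forceL (ct0F a35) (fun a36 => forceL (ct0F a36) (fun a37 => forceL (ct3F a37) (fun a38 => forceL (ct0F a38) (fun a39 => forceL (ct3F a39) (fun a40 => forceL (ct3F a40) (fun a41 => forceL (ct1F a41) (fun a42 => forceL (ct1F a42) (fun a43 => forceL (ct1F a43) (fun a44 => forceL (ct2F a44) (fun a45 => forceL (ct1F a45) (fun a46 => forceL (ct3F a46) (fun a47 => forceL (ct3F a47) (fun a48 => forceL (ct0F a48) (fun a49 => forceL (ct0F a49) (fun a50 => forceL (ct3F a50) (fun a51 => forceL (ct0F a51) (fun a52 => forceL (ct3F a52) (fun a53 => forceL (ct3F a53) (fun a54 => forceL (ct1F a54) (fun a55 => forceL (ct1F a55) (fun a56 => forceL (ct1F a56) (fun a57 => forceL (ct2F a57) (fun a58 => forceL (ct1F a58) (fun a59 => forceL (ct3F a59) (fun a60 => forceL (ct3F a60) (fun a61 => forceL (ct0F a61) (fun a62 => forceL (ct0F a62) (fun a63 => forceL (ct3F a63) (fun a64 => forceL (ct0F a64) (fun a65 =>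 forceL (ct3F a65) (fun a66 => forceL (ct3F a66) (fun a67 => forceL (ct1F a67) (fun a68 => forceL (ct1F a68) (fun a69 => forceL (ct1F a69) (fun a70 => forceL (ct2F a70) (fun a71 => forceL (ct1F a71) (fun a72 => forceL (ct3F a72) (fun a73 => forceL (ct3F a73) (fun a74 => forceL (ct0F a74) (fun a75 => forceL (ct0F a75) (fun a76 => forceL (ct3F a76) (fun a77 => forceL (ct0F a77) (fun a78 => forceL (ct3F a78) (fun a79 => forceL (ct3F a79) (fun a80 => forceL (ct1F a80) (fun a81 => forceL (ct1F a81) (fun a82 => forceL (ct1F a82) (fun a83 => forceL (ct2F a83) (fun a84 => forceL (ct1F a84) (fun a85 => forceL (ct3F a85) (fun a86 => forceL (ct3F a86) (fun a87 => forceL (ct0F a87) (fun a88 => forceL (ct0F a88) (fun a89 => forceL (ct3F a89) (fun a90 => forceL (ct0F a90) (fun a91 => forceL (ct3F a91) (fun a92 => forceL (ct3F a92) (fun a93 => forceL (ct1F a93) (fun a94 => forceL (ct1F a94) (fun a95 => forceL (ct1F a95) (fun a96 => forceL (ct2F a96) (fun a97 => forceL (ct1F a97) (fun a98 => forceL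 (ct3F a98) (fun a99 => forceL (ct3F a99) (fun a100 => forceL (ct0F a100) (fun a101 => forceL (ct0F a101) (fun a102 => forceL (ct3F a102) (fun a103 => forceL (ct0F a103) (fun a104 => a104))))))))))))))))))))))))))))))))))))))))))))))))))))))))))))))))))))))))))))))))))))))))))))))))))))))))
set_option maxRecDepth 1000000 in
def W_47 (v : ℕ) : ℕ := forceL (ct2F v) (fun a1 => forceL (ct2F a1) (fun a2 => forceL (ct1F a2) (fun a3 => forceL (ct1F a3) (fun a4 => forceL (ct2F a4) (fun a5 => forceL (ct1F a5) (fun a6 => forceL (ct2F a6) (fun a7 => forceL (ct2F a7) (fun a8 => forceL (ct0F a8) (fun a9 => forceL (ct0F a9) (fun a10 => forceL (ct0F a10) (fun a11 => forceL (ct3F a11) (fun a12 => forceL (ct0F a12) (fun a13 => forceL (ct2F a13) (fun a14 => forceL (ct2F a14) (fun a15 => forceL (ct1F a15) (fun a16 => forceL (ct1F a16) (fun a17 => forceL (ct2F a17) (fun a18 => forceL (ct1F a18) (fun a19 => forceL (ct2F a19) (fun a20 => forceL (ct2F a20) (fun a21 => forceL (ct0F a21) (fun a22 => forceL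 (ct0F a22) (fun a23 => forceL (ct0F a23) (fun a24 => forceL (ct3F a24) (fun a25 => forceL (ct0F a25) (fun a26 => forceL (ct2F a26) (fun a27 => forceL (ct2F a27) (fun a28 => forceL (ct1F a28) (fun a29 => forceL (ct1F a29) (fun a30 => forceL (ct2F a30) (fun a31 => forceL (ct1F a31) (fun a32 => forceL (ct2F a32) (fun a33 => forceL (ct2F a33) (fun a34 => forceL (ct0F a34) (fun a35 => forceL (ct0F a35) (fun a36 => forceL (ct0F a36) (fun a37 => forceL (ct3F a37) (fun a38 => forceL (ct0F a38) (fun a39 => forceL (ct2F a39) (fun a40 => forceL (ct2F a40) (fun a41 => forceL (ct1F a41) (fun a42 => forceL (ct1F a42) (fun a43 => forceL (ct2F a43) (fun a44 => forceL (ct1F a44) (fun a45 => forceL (ct2F a45) (fun a46 => forceL (ct2F a46) (fun a47 => forceL (ct0F a47) (fun a48 => forceL (ct0F a48) (fun a49 => forceL (ct0F a49) (fun a50 => forceL (ct3F a50) (fun a51 => forceL (ct0F a51) (fun a52 => forceL (ct2F a52) (fun a53 => forceL (ct2F a53) (fun a54 => forceL (ct1F a54) (fun a55 => forceL (ct1F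 a55) (fun a56 => forceL (ct2F a56) (fun a57 => forceL (ct1F a57) (fun a58 => forceL (ct2F a58) (fun a59 => forceL (ct2F a59) (fun a60 => forceL (ct0F a60) (fun a61 => forceL (ct0F a61) (fun a62 => forceL (ct0F a62) (fun a63 => forceL (ct3F a63) (fun a64 => forceL (ct0F a64) (fun a65 => forceL (ct2F a65) (fun a66 => forceL (ct2F a66) (fun a67 => forceL (ct1F a67) (fun a68 => forceL (ct1F a68) (fun a69 => forceL (ct2F a69) (fun a70 => forceL (ct1F a70) (fun a71 => forceL (ct2F a71) (fun a72 => forceL (ct2F a72) (fun a73 => forceL (ct0F a73) (fun a74 => forceL (ct0F a74) (fun a75 => forceL (ct0F a75) (fun a76 => forceL (ct3F a76) (fun a77 => forceL (ct0F a77) (fun a78 => forceL (ct2F a78) (fun a79 => forceL (ct2F a79) (fun a80 => forceL (ct1F a80) (fun a81 => forceL (ct1F a81) (fun a82 => forceL (ct2F a82) (fun a83 => forceL (ct1F a83) (fun a84 => forceL (ct2F a84) (fun a85 => forceL (ct2F a85) (fun a86 => forceL (ct0F a86) (fun a87 => forceL (ct0F a87) (fun a88 => forceL (ct0F a88)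 (fun a89 => forceL (ct3F a89) (fun a90 => forceL (ct0F a90) (fun a91 => forceL (ct2F a91) (fun a92 => forceL (ct2F a92) (fun a93 => forceL (ct1F a93) (fun a94 => forceL (ct1F a94) (fun a95 => forceL (ct2F a95) (fun a96 => forceL (ct1F a96) (fun a97 => forceL (ct2F a97) (fun a98 => forceL (ct2F a98) (fun a99 => forceL (ct0F a99) (fun a100 => forceL (ct0F a100) (fun a101 => forceL (ct0F a101) (fun a102 => forceL (ct3F a102) (fun a103 => forceL (ct0F a103) (fun a104 => a104))))))))))))))))))))))))))))))))))))))))))))))))))))))))))))))))))))))))))))))))))))))))))))))))))))))))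
set_option maxRecDepth 1000000 in
def W_48 (v : ℕ) : ℕ := forceL (ct3F v) (fun a1 => forceL (ct3F a1) (fun a2 => forceL (ct1F a2) (fun a3 => forceL (ct3F a3) (fun a4 => forceL (ct3F a4) (fun a5 => forceL (ct1F a5) (fun a6 => forceL (ct2F a6) (fun a7 => forceL (ct0F a7) (fun a8 => forceL (ct0F a8) (fun a9 => forceL (ct2F a9) (fun a10 => forceL (ct2F a10) (fun a11 => forceL (ct2F a11) (fun a12 => forceL (ct0F a12) (fun a13 => forceL (ct3F a13) (fun a14 => forceL (ct3F a14) (fun a15 => forceL (ct1F a15) (fun a16 => forceL (ct3F a16) (fun a17 => forceL (ct3F a17) (fun a18 => forceL (ct1F a18) (fun a19 => forceL (ct2F a19) (fun a20 => forceL (ct0F a20) (fun a21 => forceL (ct0F a21) (fun a22 => forceL (ct2F a22) (fun a23 => forceL (ct2F a23) (fun a24 => forceL (ct2F a24) (fun a25 => forceL (ct0F a25) (fun a26 => forceL (ct3F a26) (fun a27 => forceL (ct3F a27) (fun a28 => forceL (ct1F a28) (fun a29 => forceL (ct3F a29) (fun a30 => forceL (ct3F a30) (fun a31 => forceL (ct1F a31) (fun a32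 => forceL (ct2F a32) (fun a33 => forceL (ct0F a33) (fun a34 => forceL (ct0F a34) (fun a35 => forceL (ct2F a35) (fun a36 => forceL (ct2F a36) (fun a37 => forceL (ct2F a37) (fun a38 => forceL (ct0F a38) (fun a39 => forceL (ct3F a39) (fun a40 => forceL (ct3F a40) (fun a41 => forceL (ct1F a41) (fun a42 => forceL (ct3F a42) (fun a43 => forceL (ct3F a43) (fun a44 => forceL (ct1F a44) (fun a45 => forceL (ct2F a45) (fun a46 => forceL (ct0F a46) (fun a47 => forceL (ct0F a47) (fun a48 => forceL (ct2F a48) (fun a49 => forceL (ct2F a49) (fun a50 => forceL (ct2F a50) (fun a51 => forceL (ct0F a51) (fun a52 => forceL (ct3F a52) (fun a53 => forceL (ct3F a53) (fun a54 => forceL (ct1F a54) (fun a55 => forceL (ct3F a55) (fun a56 => forceL (ct3F a56) (fun a57 => forceL (ct1F a57) (fun a58 => forceL (ct2F a58) (fun a59 => forceL (ct0F a59) (fun a60 => forceL (ct0F a60) (fun a61 => forceL (ct2F a61) (fun a62 => forceL (ct2F a62) (fun a63 => forceL (ct2F a63) (fun a64 => forceL (ct0F a64) (fun a65 =>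 forceL (ct3F a65) (fun a66 => forceL (ct3F a66) (fun a67 => forceL (ct1F a67) (fun a68 => forceL (ct3F a68) (fun a69 => forceL (ct3F a69) (fun a70 => forceL (ct1F a70) (fun a71 => forceL (ct2F a71) (fun a72 => forceL (ct0F a72) (fun a73 => forceL (ct0F a73) (fun a74 => forceL (ct2F a74) (fun a75 => forceL (ct2F a75) (fun a76 => forceL (ct2F a76) (fun a77 => forceL (ct0F a77) (fun a78 => forceL (ct3F a78) (fun a79 => forceL (ct3F a79) (fun a80 => forceL (ct1F a80) (fun a81 => forceL (ct3F a81) (fun a82 => forceL (ct3F a82) (fun a83 => forceL (ct1F a83) (fun a84 => forceL (ct2F a84) (fun a85 => forceL (ct0F a85) (fun a86 => forceL (ct0F a86) (fun a87 => forceL (ct2F a87) (fun a88 => forceL (ct2F a88) (fun a89 => forceL (ct2F a89) (fun a90 => forceL (ct0F a90) (fun a91 => forceL (ct3F a91) (fun a92 => forceL (ct3F a92) (fun a93 => forceL (ct1F a93) (fun a94 => forceL (ct3F a94) (fun a95 => forceL (ct3F a95) (fun a96 => forceL (ct1F a96) (fun a97 => forceL (ct2F a97) (fun a98 => forceL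 (ct0F a98) (fun a99 => forceL (ct0F a99) (fun a100 => forceL (ct2F a100) (fun a101 => forceL (ct2F a101) (fun a102 => forceL (ct2F a102) (fun a103 => forceL (ct0F a103) (fun a104 => a104))))))))))))))))))))))))))))))))))))))))))))))))))))))))))))))))))))))))))))))))))))))))))))))))))))))))
set_option maxRecDepth 1000000 in
def W_49 (v : ℕ) : ℕ := forceL (ct2F v) (fun a1 => forceL (ct2F a1) (fun a2 => forceL (ct2F a2) (fun a3 => forceL (ct0F a3) (fun a4 => forceL (ct0F a4) (fun a5 => forceL (ct2F a5) (fun a6 => forceL (ct1F a6) (fun a7 => forceL (ct3F a7) (fun a8 => forceL (ct3F a8) (fun a9 => forceL (ct1F a9) (fun a10 => forceL (ct3F a10) (fun a11 => forceL (ct3F a11) (fun a12 => forceL (ct0F a12) (fun a13 => forceL (ct2F a13) (fun a14 => forceL (ct2F a14) (fun a15 => forceL (ct2F a15) (fun a16 => forceL (ct0F a16) (fun a17 => forceL (ct0F a17) (fun a18 => forceL (ct2F a18) (fun a19 => forceL (ct1F a19) (fun a20 => forceL (ct3F a20) (fun a21 => forceL (ct3F a21) (fun a22 => forceL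 (ct1F a22) (fun a23 => forceL (ct3F a23) (fun a24 => forceL (ct3F a24) (fun a25 => forceL (ct0F a25) (fun a26 => forceL (ct2F a26) (fun a27 => forceL (ct2F a27) (fun a28 => forceL (ct2F a28) (fun a29 => forceL (ct0F a29) (fun a30 => forceL (ct0F a30) (fun a31 => forceL (ct2F a31) (fun a32 => forceL (ct1F a32) (fun a33 => forceL (ct3F a33) (fun a34 => forceL (ct3F a34) (fun a35 => forceL (ct1F a35) (fun a36 => forceL (ct3F a36) (fun a37 => forceL (ct3F a37) (fun a38 => forceL (ct0F a38) (fun a39 => forceL (ct2F a39) (fun a40 => forceL (ct2F a40) (fun a41 => forceL (ct2F a41) (fun a42 => forceL (ct0F a42) (fun a43 => forceL (ct0F a43) (fun a44 => forceL (ct2F a44) (fun a45 => forceL (ct1F a45) (fun a46 => forceL (ct3F a46) (fun a47 => forceL (ct3F a47) (fun a48 => forceL (ct1F a48) (fun a49 => forceL (ct3F a49) (fun a50 => forceL (ct3F a50) (fun a51 => forceL (ct0F a51) (fun a52 => forceL (ct2F a52) (fun a53 => forceL (ct2F a53) (fun a54 => forceL (ct2F a54) (fun a55 => forceL (ct0F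 a55) (fun a56 => forceL (ct0F a56) (fun a57 => forceL (ct2F a57) (fun a58 => forceL (ct1F a58) (fun a59 => forceL (ct3F a59) (fun a60 => forceL (ct3F a60) (fun a61 => forceL (ct1F a61) (fun a62 => forceL (ct3F a62) (fun a63 => forceL (ct3F a63) (fun a64 => forceL (ct0F a64) (fun a65 => forceL (ct2F a65) (fun a66 => forceL (ct2F a66) (fun a67 => forceL (ct2F a67) (fun a68 => forceL (ct0F a68) (fun a69 => forceL (ct0F a69) (fun a70 => forceL (ct2F a70) (fun a71 => forceL (ct1F a71) (fun a72 => forceL (ct3F a72) (fun a73 => forceL (ct3F a73) (fun a74 => forceL (ct1F a74) (fun a75 => forceL (ct3F a75) (fun a76 => forceL (ct3F a76) (fun a77 => forceL (ct0F a77) (fun a78 => forceL (ct2F a78) (fun a79 => forceL (ct2F a79) (fun a80 => forceL (ct2F a80) (fun a81 => forceL (ct0F a81) (fun a82 => forceL (ct0F a82) (fun a83 => forceL (ct2F a83) (fun a84 => forceL (ct1F a84) (fun a85 => forceL (ct3F a85) (fun a86 => forceL (ct3F a86) (fun a87 => forceL (ct1F a87) (fun a88 => forceL (ct3F a88)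 (fun a89 => forceL (ct3F a89) (fun a90 => forceL (ct0F a90) (fun a91 => forceL (ct2F a91) (fun a92 => forceL (ct2F a92) (fun a93 => forceL (ct2F a93) (fun a94 => forceL (ct0F a94) (fun a95 => forceL (ct0F a95) (fun a96 => forceL (ct2F a96) (fun a97 => forceL (ct1F a97) (fun a98 => forceL (ct3F a98) (fun a99 => forceL (ct3F a99) (fun a100 => forceL (ct1F a100) (fun a101 => forceL (ct3F a101) (fun a102 => forceL (ct3F a102) (fun a103 => forceL (ct0F a103) (fun a104 => a104))))))))))))))))))))))))))))))))))))))))))))))))))))))))))))))))))))))))))))))))))))))))))))))))))))))))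
set_option maxRecDepth 1000000 in
def W_50 (v : ℕ) : ℕ := forceL (ct2F v) (fun a1 => forceL (ct2F a1) (fun a2 => forceL (ct1F a2) (fun a3 => forceL (ct3F a3) (fun a4 => forceL (ct3F a4) (fun a5 => forceL (ct3F a5) (fun a6 => forceL (ct1F a6) (fun a7 => forceL (ct1F a7) (fun a8 => forceL (ct3F a8) (fun a9 => forceL (ct0F a9) (fun a10 => forceL (ct2F a10) (fun a11 => forceL (ct2F a11) (fun a12 => forceL (ct0F a12) (fun a13 => forceL (ct2F a13) (fun a14 => forceL (ct2F a14) (fun a15 => forceL (ct1F a15) (fun a16 => forceL (ct3F a16) (fun a17 => forceL (ct3F a17) (fun a18 => forceL (ct3F a18) (fun a19 => forceL (ct1F a19) (fun a20 => forceL (ct1F a20) (fun a21 => forceL (ct3F a21) (fun a22 => forceL (ct0F a22) (fun a23 => forceL (ct2F a23) (fun a24 => forceL (ct2F a24) (fun a25 => forceL (ct0F a25) (fun a26 => forceL (ct2F a26) (fun a27 => forceL (ct2F a27) (fun a28 => forceL (ct1F a28) (fun a29 => forceL (ct3F a29) (fun a30 => forceL (ct3F a30) (fun a31 => forceL (ct3F a31) (fun a32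 => forceL (ct1F a32) (fun a33 => forceL (ct1F a33) (fun a34 => forceL (ct3F a34) (fun a35 => forceL (ct0F a35) (fun a36 => forceL (ct2F a36) (fun a37 => forceL (ct2F a37) (fun a38 => forceL (ct0F a38) (fun a39 => forceL (ct2F a39) (fun a40 => forceL (ct2F a40) (fun a41 => forceL (ct1F a41) (fun a42 => forceL (ct3F a42) (fun a43 => forceL (ct3F a43) (fun a44 => forceL (ct3F a44) (fun a45 => forceL (ct1F a45) (fun a46 => forceL (ct1F a46) (fun a47 => forceL (ct3F a47) (fun a48 => forceL (ct0F a48) (fun a49 => forceL (ct2F a49) (fun a50 => forceL (ct2F a50) (fun a51 => forceL (ct0F a51) (fun a52 => forceL (ct2F a52) (fun a53 => forceL (ct2F a53) (fun a54 => forceL (ct1F a54) (fun a55 => forceL (ct3F a55) (fun a56 => forceL (ct3F a56) (fun a57 => forceL (ct3F a57) (fun a58 => forceL (ct1F a58) (fun a59 => forceL (ct1F a59) (fun a60 => forceL (ct3F a60) (fun a61 => forceL (ct0F a61) (fun a62 => forceL (ct2F a62) (fun a63 => forceL (ct2F a63) (fun a64 => forceL (ct0F a64) (fun a65 =>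 forceL (ct2F a65) (fun a66 => forceL (ct2F a66) (fun a67 => forceL (ct1F a67) (fun a68 => forceL (ct3F a68) (fun a69 => forceL (ct3F a69) (fun a70 => forceL (ct3F a70) (fun a71 => forceL (ct1F a71) (fun a72 => forceL (ct1F a72) (fun a73 => forceL (ct3F a73) (fun a74 => forceL (ct0F a74) (fun a75 => forceL (ct2F a75) (fun a76 => forceL (ct2F a76) (fun a77 => forceL (ct0F a77) (fun a78 => forceL (ct2F a78) (fun a79 => forceL (ct2F a79) (fun a80 => forceL (ct1F a80) (fun a81 => forceL (ct3F a81) (fun a82 => forceL (ct3F a82) (fun a83 => forceL (ct3F a83) (fun a84 => forceL (ct1F a84) (fun a85 => forceL (ct1F a85) (fun a86 => forceL (ct3F a86) (fun a87 => forceL (ct0F a87) (fun a88 => forceL (ct2F a88) (fun a89 => forceL (ct2F a89) (fun a90 => forceL (ct0F a90) (fun a91 => forceL (ct2F a91) (fun a92 => forceL (ct2F a92) (fun a93 => forceL (ct1F a93) (fun a94 => forceL (ct3F a94) (fun a95 => forceL (ct3F a95) (fun a96 => forceL (ct3F a96) (fun a97 => forceL (ct1F a97) (fun a98 => forceL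 (ct1F a98) (fun a99 => forceL (ct3F a99) (fun a100 => forceL (ct0F a100) (fun a101 => forceL (ct2F a101) (fun a102 => forceL (ct2F a102) (fun a103 => forceL (ct0F a103) (fun a104 => a104))))))))))))))))))))))))))))))))))))))))))))))))))))))))))))))))))))))))))))))))))))))))))))))))))))))))
set_option maxRecDepth 1000000 in
def W_51 (v : ℕ) : ℕ := forceL (ct3F v) (fun a1 => forceL (ct0F a1) (fun a2 => forceL (ct0F a2) (fun a3 => forceL (ct0F a3) (fun a4 => forceL (ct2F a4) (fun a5 => forceL (ct2F a5) (fun a6 => forceL (ct1F a6) (fun a7 => forceL (ct2F a7) (fun a8 => forceL (ct1F a8) (fun a9 => forceL (ct1F a9) (fun a10 => forceL (ct2F a10) (fun a11 => forceL (ct2F a11) (fun a12 => forceL (ct0F a12) (fun a13 => forceL (ct3F a13) (fun a14 => forceL (ct0F a14) (fun a15 => forceL (ct0F a15) (fun a16 => forceL (ct0F a16) (fun a17 => forceL (ct2F a17) (fun a18 => forceL (ct2F a18) (fun a19 => forceL (ct1F a19) (fun a20 => forceL (ct2F a20) (fun a21 => forceL (ct1F a21) (fun a22 => forceL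 (ct1F a22) (fun a23 => forceL (ct2F a23) (fun a24 => forceL (ct2F a24) (fun a25 => forceL (ct0F a25) (fun a26 => forceL (ct3F a26) (fun a27 => forceL (ct0F a27) (fun a28 => forceL (ct0F a28) (fun a29 => forceL (ct0F a29) (fun a30 => forceL (ct2F a30) (fun a31 => forceL (ct2F a31) (fun a32 => forceL (ct1F a32) (fun a33 => forceL (ct2F a33) (fun a34 => forceL (ct1F a34) (fun a35 => forceL (ct1F a35) (fun a36 => forceL (ct2F a36) (fun a37 => forceL (ct2F a37) (fun a38 => forceL (ct0F a38) (fun a39 => forceL (ct3F a39) (fun a40 => forceL (ct0F a40) (fun a41 => forceL (ct0F a41) (fun a42 => forceL (ct0F a42) (fun a43 => forceL (ct2F a43) (fun a44 => forceL (ct2F a44) (fun a45 => forceL (ct1F a45) (fun a46 => forceL (ct2F a46) (fun a47 => forceL (ct1F a47) (fun a48 => forceL (ct1F a48) (fun a49 => forceL (ct2F a49) (fun a50 => forceL (ct2F a50) (fun a51 => forceL (ct0F a51) (fun a52 => forceL (ct3F a52) (fun a53 => forceL (ct0F a53) (fun a54 => forceL (ct0F a54) (fun a55 => forceL (ct0F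 a55) (fun a56 => forceL (ct2F a56) (fun a57 => forceL (ct2F a57) (fun a58 => forceL (ct1F a58) (fun a59 => forceL (ct2F a59) (fun a60 => forceL (ct1F a60) (fun a61 => forceL (ct1F a61) (fun a62 => forceL (ct2F a62) (fun a63 => forceL (ct2F a63) (fun a64 => forceL (ct0F a64) (fun a65 => forceL (ct3F a65) (fun a66 => forceL (ct0F a66) (fun a67 => forceL (ct0F a67) (fun a68 => forceL (ct0F a68) (fun a69 => forceL (ct2F a69) (fun a70 => forceL (ct2F a70) (fun a71 => forceL (ct1F a71) (fun a72 => forceL (ct2F a72) (fun a73 => forceL (ct1F a73) (fun a74 => forceL (ct1F a74) (fun a75 => forceL (ct2F a75) (fun a76 => forceL (ct2F a76) (fun a77 => forceL (ct0F a77) (fun a78 => forceL (ct3F a78) (fun a79 => forceL (ct0F a79) (fun a80 => forceL (ct0F a80) (fun a81 => forceL (ct0F a81) (fun a82 => forceL (ct2F a82) (fun a83 => forceL (ct2F a83) (fun a84 => forceL (ct1F a84) (fun a85 => forceL (ct2F a85) (fun a86 => forceL (ct1F a86) (fun a87 => forceL (ct1F a87) (fun a88 => forceL (ct2F a88)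 (fun a89 => forceL (ct2F a89) (fun a90 => forceL (ct0F a90) (fun a91 => forceL (ct3F a91) (fun a92 => forceL (ct0F a92) (fun a93 => forceL (ct0F a93) (fun a94 => forceL (ct0F a94) (fun a95 => forceL (ct2F a95) (fun a96 => forceL (ct2F a96) (fun a97 => forceL (ct1F a97) (fun a98 => forceL (ct2F a98) (fun a99 => forceL (ct1F a99) (fun a100 => forceL (ct1F a100) (fun a101 => forceL (ct2F a101) (fun a102 => forceL (ct2F a102) (fun a103 => forceL (ct0F a103) (fun a104 => a104))))))))))))))))))))))))))))))))))))))))))))))))))))))))))))))))))))))))))))))))))))))))))))))))))))))))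
set_option maxRecDepth 1000000 in
def W_52 (v : ℕ) : ℕ := forceL (ct3F v) (fun a1 => forceL (ct1F a1) (fun a2 => forceL (ct1F a2) (fun a3 => forceL (ct3F a3) (fun a4 => forceL (ct3F a4) (fun a5 => forceL (ct3F a5) (fun a6 => forceL (ct1F a6) (fun a7 => forceL (ct2F a7) (fun a8 => forceL (ct2F a8) (fun a9 => forceL (ct0F a9) (fun a10 => forceL (ct2F a10) (fun a11 => forceL (ct2F a11) (fun a12 => forceL (ct0F a12) (fun a13 => forceL (ct3F a13) (fun a14 => forceL (ct1F a14) (fun a15 => forceL (ct1F a15) (fun a16 => forceL (ct3F a16) (fun a17 => forceL (ct3F a17) (fun a18 => forceL (ct3F a18) (fun a19 => forceL (ct1F a19) (fun a20 => forceL (ct2F a20) (fun a21 => forceL (ct2F a21) (fun a22 => forceL (ct0F a22) (fun a23 => forceL (ct2F a23) (fun a24 => forceL (ct2F a24) (fun a25 => forceL (ct0F a25) (fun a26 => forceL (ct3F a26) (fun a27 => forceL (ct1F a27) (fun a28 => forceL (ct1F a28) (fun a29 => forceL (ct3F a29) (fun a30 => forceL (ct3F a30) (fun a31 => forceL (ct3F a31) (fun a32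 => forceL (ct1F a32) (fun a33 => forceL (ct2F a33) (fun a34 => forceL (ct2F a34) (fun a35 => forceL (ct0F a35) (fun a36 => forceL (ct2F a36) (fun a37 => forceL (ct2F a37) (fun a38 => forceL (ct0F a38) (fun a39 => forceL (ct3F a39) (fun a40 => forceL (ct1F a40) (fun a41 => forceL (ct1F a41) (fun a42 => forceL (ct3F a42) (fun a43 => forceL (ct3F a43) (fun a44 => forceL (ct3F a44) (fun a45 => forceL (ct1F a45) (fun a46 => forceL (ct2F a46) (fun a47 => forceL (ct2F a47) (fun a48 => forceL (ct0F a48) (fun a49 => forceL (ct2F a49) (fun a50 => forceL (ct2F a50) (fun a51 => forceL (ct0F a51) (fun a52 => forceL (ct3F a52) (fun a53 => forceL (ct1F a53) (fun a54 => forceL (ct1F a54) (fun a55 => forceL (ct3F a55) (fun a56 => forceL (ct3F a56) (fun a57 => forceL (ct3F a57) (fun a58 => forceL (ct1F a58) (fun a59 => forceL (ct2F a59) (fun a60 => forceL (ct2F a60) (fun a61 => forceL (ct0F a61) (fun a62 => forceL (ct2F a62) (fun a63 => forceL (ct2F a63) (fun a64 => forceL (ct0F a64) (fun a65 =>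 forceL (ct3F a65) (fun a66 => forceL (ct1F a66) (fun a67 => forceL (ct1F a67) (fun a68 => forceL (ct3F a68) (fun a69 => forceL (ct3F a69) (fun a70 => forceL (ct3F a70) (fun a71 => forceL (ct1F a71) (fun a72 => forceL (ct2F a72) (fun a73 => forceL (ct2F a73) (fun a74 => forceL (ct0F a74) (fun a75 => forceL (ct2F a75) (fun a76 => forceL (ct2F a76) (fun a77 => forceL (ct0F a77) (fun a78 => forceL (ct3F a78) (fun a79 => forceL (ct1F a79) (fun a80 => forceL (ct1F a80) (fun a81 => forceL (ct3F a81) (fun a82 => forceL (ct3F a82) (fun a83 => forceL (ct3F a83) (fun a84 => forceL (ct1F a84) (fun a85 => forceL (ct2F a85) (fun a86 => forceL (ct2F a86) (fun a87 => forceL (ct0F a87) (fun a88 => forceL (ct2F a88) (fun a89 => forceL (ct2F a89) (fun a90 => forceL (ct0F a90) (fun a91 => forceL (ct3F a91) (fun a92 => forceL (ct1F a92) (fun a93 => forceL (ct1F a93) (fun a94 => forceL (ct3F a94) (fun a95 => forceL (ct3F a95) (fun a96 => forceL (ct3F a96) (fun a97 => forceL (ct1F a97) (fun a98 => forceL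 (ct2F a98) (fun a99 => forceL (ct2F a99) (fun a100 => forceL (ct0F a100) (fun a101 => forceL (ct2F a101) (fun a102 => forceL (ct2F a102) (fun a103 => forceL (ct0F a103) (fun a104 => a104))))))))))))))))))))))))))))))))))))))))))))))))))))))))))))))))))))))))))))))))))))))))))))))))))))))))
set_option maxRecDepth 1000000 in
def W_53 (v : ℕ) : ℕ := forceL (ct3F v) (fun a1 => forceL (ct0F a1) (fun a2 => forceL (ct0F a2) (fun a3 => forceL (ct3F a3) (fun a4 => forceL (ct3F a4) (fun a5 => forceL (ct1F a5) (fun a6 => forceL (ct2F a6) (fun a7 => forceL (ct1F a7) (fun a8 => forceL (ct1F a8) (fun a9 => forceL (ct1F a9) (fun a10 => forceL (ct3F a10) (fun a11 => forceL (ct3F a11) (fun a12 => forceL (ct0F a12) (fun a13 => forceL (ct3F a13) (fun a14 => forceL (ct0F a14) (fun a15 => forceL (ct0F a15) (fun a16 => forceL (ct3F a16) (fun a17 => forceL (ct3F a17) (fun a18 => forceL (ct1F a18) (fun a19 => forceL (ct2F a19) (fun a20 => forceL (ct1F a20) (fun a21 => forceL (ct1F a21) (fun a22 => forceL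 (ct1F a22) (fun a23 => forceL (ct3F a23) (fun a24 => forceL (ct3F a24) (fun a25 => forceL (ct0F a25) (fun a26 => forceL (ct3F a26) (fun a27 => forceL (ct0F a27) (fun a28 => forceL (ct0F a28) (fun a29 => forceL (ct3F a29) (fun a30 => forceL (ct3F a30) (fun a31 => forceL (ct1F a31) (fun a32 => forceL (ct2F a32) (fun a33 => forceL (ct1F a33) (fun a34 => forceL (ct1F a34) (fun a35 => forceL (ct1F a35) (fun a36 => forceL (ct3F a36) (fun a37 => forceL (ct3F a37) (fun a38 => forceL (ct0F a38) (fun a39 => forceL (ct3F a39) (fun a40 => forceL (ct0F a40) (fun a41 => forceL (ct0F a41) (fun a42 => forceL (ct3F a42) (fun a43 => forceL (ct3F a43) (fun a44 => forceL (ct1F a44) (fun a45 => forceL (ct2F a45) (fun a46 => forceL (ct1F a46) (fun a47 => forceL (ct1F a47) (fun a48 => forceL (ct1F a48) (fun a49 => forceL (ct3F a49) (fun a50 => forceL (ct3F a50) (fun a51 => forceL (ct0F a51) (fun a52 => forceL (ct3F a52) (fun a53 => forceL (ct0F a53) (fun a54 => forceL (ct0F a54) (fun a55 => forceL (ct3F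 a55) (fun a56 => forceL (ct3F a56) (fun a57 => forceL (ct1F a57) (fun a58 => forceL (ct2F a58) (fun a59 => forceL (ct1F a59) (fun a60 => forceL (ct1F a60) (fun a61 => forceL (ct1F a61) (fun a62 => forceL (ct3F a62) (fun a63 => forceL (ct3F a63) (fun a64 => forceL (ct0F a64) (fun a65 => forceL (ct3F a65) (fun a66 => forceL (ct0F a66) (fun a67 => forceL (ct0F a67) (fun a68 => forceL (ct3F a68) (fun a69 => forceL (ct3F a69) (fun a70 => forceL (ct1F a70) (fun a71 => forceL (ct2F a71) (fun a72 => forceL (ct1F a72) (fun a73 => forceL (ct1F a73) (fun a74 => forceL (ct1F a74) (fun a75 => forceL (ct3F a75) (fun a76 => forceL (ct3F a76) (fun a77 => forceL (ct0F a77) (fun a78 => forceL (ct3F a78) (fun a79 => forceL (ct0F a79) (fun a80 => forceL (ct0F a80) (fun a81 => forceL (ct3F a81) (fun a82 => forceL (ct3F a82) (fun a83 => forceL (ct1F a83) (fun a84 => forceL (ct2F a84) (fun a85 => forceL (ct1F a85) (fun a86 => forceL (ct1F a86) (fun a87 => forceL (ct1F a87) (fun a88 => forceL (ct3F a88)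 (fun a89 => forceL (ct3F a89) (fun a90 => forceL (ct0F a90) (fun a91 => forceL (ct3F a91) (fun a92 => forceL (ct0F a92) (fun a93 => forceL (ct0F a93) (fun a94 => forceL (ct3F a94) (fun a95 => forceL (ct3F a95) (fun a96 => forceL (ct1F a96) (fun a97 => forceL (ct2F a97) (fun a98 => forceL (ct1F a98) (fun a99 => forceL (ct1F a99) (fun a100 => forceL (ct1F a100) (fun a101 => forceL (ct3F a101) (fun a102 => forceL (ct3F a102) (fun a103 => forceL (ct0F a103) (fun a104 => a104))))))))))))))))))))))))))))))))))))))))))))))))))))))))))))))))))))))))))))))))))))))))))))))))))))))))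

end Cfsg.Agent.Helper5.L34DTC
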