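import Cfsg.Agent.Helper5.L34DTCDatD
import Cfsg.Agent.Helper5.TCIB

/-! kernel checks of edges, aliases, rows: L34DTC -/

set_option autoImplicit false
set_option Elab.async false

namespace Cfsg.Agent.Helper5.L34DTC
open Cfsg.Agent.Helper5.TC Cfsg.Agent.Helper5.TCI

set_option maxRecDepth 1000000 in
theorem cnt_1 : cntFrom RS 20000 20000 0 = 3409 := by decide +kernel

set_option maxRecDepth 1000000 in
theorem cnt_5 : cntFrom RS 20000 100000 0 = 2346 := by decide +kernel

set_option maxRecDepth 1000000 in
theorem edges_3_40 : edgesRangeI iota E 3 2901 124484 = true := by decide +kernel

set_option maxRecDepth 1000000 in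
theorem edges_2_48 : edgesRangeI iota E 2 2565 126527 = true := by decide +kernel

set_option maxRecDepth 1000000 in
theorem edges_1_20 : edgesRangeI iota E 1 2880 60161 = true := by decide +kernel

set_option maxRecDepth 1000000 in
theorem edges_0_63 : edgesRangeI iota E 0 1458 167069 = true := by decide +kernel

set_option maxRecDepth 1000000 in
theorem edges_2_64 : edgesRangeI iota E 2 1803 165892 = true := by decide +kernel

set_option maxRecDepth 1000000 in
theorem edges_2_75 : edgesRangeI iota E 2 870 179025 = true := by decide +kernel

set_option maxRecDepth 1000000 in
theorem edges_2_6 : edgesRangeI iota E 2 2254 14489 = true := by decide +kernel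

set_option maxRecDepth 1000000 in
theorem edges_2_65 : edgesRangeI iota E 2 1220 167695 = true := by decide +kernel

set_option maxRecDepth 1000000 in
theorem edges_0_7 : edgesRangeI iota E 0 2872 17829 = true := by decide +kernel

set_option maxRecDepth 1000000 in
theorem edges_3_9 : edgesRangeI iota E 3 2546 26777 = true := by decide +kernel

set_option maxRecDepth 1000000 in
theorem edges_3_14 : edgesRangeI iota E 3 3022 41718 = true := by decide +kernel

set_option maxRecDepth 1000000 in
theorem edges_1_25 : edgesRangeI iota E 1 3397 75978 = true := by decide +kernel

set_option maxRecDepth 1000000 in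
theorem edges_2_71 : edgesRangeI iota E 2 995 175253 = true := by decide +kernel

set_option maxRecDepth 1000000 in
theorem edges_2_69 : edgesRangeI iota E 2 1178 173092 = true := by decide +kernel

set_option maxRecDepth 1000000 in
theorem edges_0_73 : edgesRangeI iota E 0 810 178931 = true := by decide +kernel

set_option maxRecDepth 1000000 in
theorem edges_3_21 : edgesRangeI iota E 3 3211 64129 = true := by decide +kernel

set_option maxRecDepth 1000000 in
theorem edges_0_11 : edgesRangeI iota E 0 2796 29070 = true := by decide +kernel

set_option maxRecDepth 1000000 in
theorem edges_0_54 : edgesRangeI iota E 0 3012 147915 = true := by decide +kernel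

set_option maxRecDepth 1000000 in
theorem edges_1_41 : edgesRangeI iota E 1 2320 123346 = true := by decide +kernel

set_option maxRecDepth 1000000 in
theorem edges_2_74 : edgesRangeI iota E 2 894 178131 = true := by decide +kernel

set_option maxRecDepth 1000000 in
theorem edges_0_34 : edgesRangeI iota E 0 1993 92459 = true := by decide +kernel

set_option maxRecDepth 1000000 in
theorem edges_2_42 : edgesRangeI iota E 2 2791 110112 = true := by decide +kernel

set_option maxRecDepth 1000000 in
theorem edges_3_71 : edgesRangeI iota E 3 682 182828 = true := by decide +kernel

set_option maxRecDepth 1000000 in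
theorem edges_1_44 : edgesRangeI iota E 1 2561 132349 = true := by decide +kernel

set_option maxRecDepth 1000000 in
theorem aliases_47 : aliasRange E 1930 103070 = true := by decide +kernel

set_option maxRecDepth 1000000 in
theorem edges_1_51 : edgesRangeI iota E 1 3305 153126 = true := by decide +kernel

set_option maxRecDepth 1000000 in
theorem edges_3_22 : edgesRangeI iota E 3 3643 67340 = true := by decide +kernel

set_option maxRecDepth 1000000 in
theorem edges_1_78 : edgesRangeI iota E 1 591 183919 = true := by decide +kernel

set_option maxRecDepth 1000000 in
theorem edges_3_57 : edgesRangeI iota E 3 1507 168553 = true := by decide +kernel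

set_option maxRecDepth 1000000 in
theorem edges_1_43 : edgesRangeI iota E 1 3856 128493 = true := by decide +kernel

set_option maxRecDepth 1000000 in
theorem edges_0_9 : edgesRangeI iota E 0 2921 23482 = true := by decide +kernel

set_option maxRecDepth 1000000 in
theorem edges_0_78 : edgesRangeI iota E 0 792 183032 = true := by decide +kernel

set_option maxRecDepth 1000000 in
theorem edges_2_23 : edgesRangeI iota E 2 2616 58290 = true := by decide +kernel

set_option maxRecDepth 1000000 in
theorem edges_1_35 : edgesRangeI iota E 1 2992 105196 = true := by decide +kernel

set_option maxRecDepth 1000000 in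
theorem edges_0_61 : edgesRangeI iota E 0 1671 163720 = true := by decide +kernel

set_option maxRecDepth 1000000 in
theorem edges_3_27 : edgesRangeI iota E 3 3283 83221 = true := by decide +kernel

set_option maxRecDepth 1000000 in
theorem edges_1_73 : edgesRangeI iota E 1 672 180802 = true := by decide +kernel

set_option maxRecDepth 1000000 in
theorem edges_2_82 : edgesRangeI iota E 2 684 184691 = true := by decide +kernel

set_option maxRecDepth 1000000 in
theorem edges_3_61 : edgesRangeI iota E 3 1055 173996 = true := by decide +kernel

set_option maxRecDepth 1000000 in
theorem edges_2_66 : edgesRangeI iota E 2 1536 168915 = true := by decide +kernel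

set_option maxRecDepth 1000000 in
theorem edges_0_67 : edgesRangeI iota E 0 1237 172865 = true := by decide +kernel

set_option maxRecDepth 1000000 in
theorem edges_3_58 : edgesRangeI iota E 3 1496 170060 = true := by decide +kernel

set_option maxRecDepth 1000000 in
theorem edges_1_16 : edgesRangeI iota E 1 3169 48171 = true := by decide +kernel

set_option maxRecDepth 1000000 in
theorem edges_2_47 : edgesRangeI iota E 2 2929 123598 = true := by decide +kernel

set_option maxRecDepth 1000000 in
theorem edges_0_65 : edgesRangeI iota E 0 1405 170160 = true := by decide +kernel

set_option maxRecDepth 1000000 in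
theorem edges_2_73 : edgesRangeI iota E 2 979 177152 = true := by decide +kernel

set_option maxRecDepth 1000000 in
theorem edges_1_46 : edgesRangeI iota E 1 3234 137918 = true := by decide +kernel

set_option maxRecDepth 1000000 in
theorem edges_2_40 : edgesRangeI iota E 2 2568 104790 = true := by decide +kernel

set_option maxRecDepth 1000000 in
theorem aliases_34 : aliasRange E 2091 75620 = true := by decide +kernel

set_option maxRecDepth 1000000 in
theorem aliases_49 : aliasRange E 2146 107006 = true := by decide +kernel

set_option maxRecDepth 1000000 in
theorem edges_0_38 : edgesRangeI iota E 0 2584 102612 = true := by decide +kernel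

set_option maxRecDepth 1000000 in
theorem edges_1_23 : edgesRangeI iota E 1 2427 70564 = true := by decide +kernel

set_option maxRecDepth 1000000 in
theorem edges_2_44 : edgesRangeI iota E 2 2474 115908 = true := by decide +kernel

set_option maxRecDepth 1000000 in
theorem aliases_25 : aliasRange E 2098 57203 = true := by decide +kernel

set_option maxRecDepth 1000000 in
theorem aliases_52 : aliasRange E 1928 113160 = true := by decide +kernel

set_option maxRecDepth 1000000 in
theorem aliases_64 : aliasRange E 1832 137279 = true := by decide +kernel

set_option maxRecDepth 1000000 in
theorem edges_0_31 : edgesRangeI iota E 0 2553 84240 = true := by decide +kernel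

set_option maxRecDepth 1000000 in
theorem edges_1_33 : edgesRangeI iota E 1 3096 99350 = true := by decide +kernel

set_option maxRecDepth 1000000 in
theorem edges_2_4 : edgesRangeI iota E 2 2522 9668 = true := by decide +kernel

set_option maxRecDepth 1000000 in
theorem edges_3_7 : edgesRangeI iota E 3 2544 21285 = true := by decide +kernel

set_option maxRecDepth 1000000 in
theorem aliases_1 : aliasRange E 2552 2489 = true := by decide +kernel

set_option maxRecDepth 1000000 in
theorem aliases_15 : aliasRange E 2351 35175 = true := by decide +kernel

set_option maxRecDepth 1000000 in
theorem aliases_32 : aliasRange E 1998 71628 = true := by decide +kernel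

set_option maxRecDepth 1000000 in
theorem aliases_62 : aliasRange E 2020 133388 = true := by decide +kernel

set_option maxRecDepth 1000000 in
theorem aliases_77 : aliasRange E 3657 166793 = true := by decide +kernel

set_option maxRecDepth 1000000 in
theorem edges_0_60 : edgesRangeI iota E 0 1406 162314 = true := by decide +kernel

set_option maxRecDepth 1000000 in
theorem edges_1_72 : edgesRangeI iota E 1 765 180037 = true := by decide +kernel

set_option maxRecDepth 1000000 in
theorem edges_2_53 : edgesRangeI iota E 2 2969 140062 = true := by decide +kernel

set_option maxRecDepth 1000000 in
theorem edges_3_3 : edgesRangeI iota E 3 3434 9289 = true := by decide +kernel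

set_option maxRecDepth 1000000 in
theorem edges_3_52 : edgesRangeI iota E 3 1671 160731 = true := by decide +kernel

set_option maxRecDepth 1000000 in
theorem aliases_7 : aliasRange E 2517 16919 = true := by decide +kernel

set_option maxRecDepth 1000000 in
theorem aliases_20 : aliasRange E 2318 46363 = true := by decide +kernel

set_option maxRecDepth 1000000 in
theorem aliases_39 : aliasRange E 2058 86182 = true := by decide +kernel

set_option maxRecDepth 1000000 in
theorem aliases_50 : aliasRange E 1931 109152 = true := by decide +kernel

set_option maxRecDepth 1000000 in
theorem aliases_73 : aliasRange E 1975 154693 = true := by decide +kernel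

set_option maxRecDepth 1000000 in
theorem edges_0_12 : edgesRangeI iota E 0 2661 31866 = true := by decide +kernel

set_option maxRecDepth 1000000 in
theorem edges_0_27 : edgesRangeI iota E 0 3044 73641 = true := by decide +kernel

set_option maxRecDepth 1000000 in
theorem edges_0_37 : edgesRangeI iota E 0 2889 99723 = true := by decide +kernel

set_option maxRecDepth 1000000 in
theorem edges_0_51 : edgesRangeI iota E 0 3088 139706 = true := by decide +kernel

set_option maxRecDepth 1000000 in
theorem edges_1_2 : edgesRangeI iota E 1 3477 5909 = true := by decide +kernel

set_option maxRecDepth 1000000 in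
theorem edges_1_10 : edgesRangeI iota E 1 2830 28753 = true := by decide +kernel

set_option maxRecDepth 1000000 in
theorem edges_1_17 : edgesRangeI iota E 1 2801 51340 = true := by decide +kernel

set_option maxRecDepth 1000000 in
theorem edges_1_29 : edgesRangeI iota E 1 2560 88149 = true := by decide +kernel

set_option maxRecDepth 1000000 in
theorem edges_1_47 : edgesRangeI iota E 1 2712 141152 = true := by decide +kernel

set_option maxRecDepth 1000000 in
theorem edges_1_64 : edgesRangeI iota E 1 995 173485 = true := by decide +kernel

set_option maxRecDepth 1000000 in
theorem edges_2_8 : edgesRangeI iota E 2 2597 19513 = true := by decide +kernel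

set_option maxRecDepth 1000000 in
theorem edges_2_24 : edgesRangeI iota E 2 2282 60906 = true := by decide +kernel

set_option maxRecDepth 1000000 in
theorem edges_2_29 : edgesRangeI iota E 2 2459 73772 = true := by decide +kernel

set_option maxRecDepth 1000000 in
theorem edges_2_39 : edgesRangeI iota E 2 2856 101934 = true := by decide +kernel

set_option maxRecDepth 1000000 in
theorem edges_2_57 : edgesRangeI iota E 2 3407 152089 = true := by decide +kernel

set_option maxRecDepth 1000000 in
theorem edges_3_0 : edgesRangeI iota E 3 3501 0 = true := by decide +kernel

set_option maxRecDepth 1000000 in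
theorem edges_3_11 : edgesRangeI iota E 3 3603 32258 = true := by decide +kernel

set_option maxRecDepth 1000000 in
theorem edges_3_20 : edgesRangeI iota E 3 3224 60905 = true := by decide +kernel

set_option maxRecDepth 1000000 in
theorem edges_3_29 : edgesRangeI iota E 3 3455 89773 = true := by decide +kernel

set_option maxRecDepth 1000000 in
theorem edges_3_42 : edgesRangeI iota E 3 2950 131063 = true := by decide +kernel

set_option maxRecDepth 1000000 in
theorem edges_3_46 : edgesRangeI iota E 3 3558 143418 = true := by decide +kernel

set_option maxRecDepth 1000000 in
theorem edges_3_50 : edgesRangeI iota E 3 2097 157051 = true := by decide +kernel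

set_option maxRecDepth 1000000 in
theorem aliases_8 : aliasRange E 2428 19436 = true := by decide +kernel

set_option maxRecDepth 1000000 in
theorem aliases_38 : aliasRange E 1923 84259 = true := by decide +kernel

set_option maxRecDepth 1000000 in
theorem aliases_60 : aliasRange E 2006 129297 = true := by decide +kernel

set_option maxRecDepth 1000000 in
theorem aliases_75 : aliasRange E 3934 159136 = true := by decide +kernel

set_option maxRecDepth 1000000 in
theorem rows_1 : rowsRange E RS 1500 1500 = true := by decide +kernel

set_option maxRecDepth 1000000 in
theorem rows_4 : rowsRange E RS 1500 6000 = true := by decide +kernel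

set_option maxRecDepth 1000000 in
theorem rows_8 : rowsRange E RS 1500 12000 = true := by decide +kernel

set_option maxRecDepth 1000000 in
theorem rows_12 : rowsRange E RS 1500 18000 = true := by decide +kernel

set_option maxRecDepth 1000000 in
theorem rows_16 : rowsRange E RS 1500 24000 = true := by decide +kernel

set_option maxRecDepth 1000000 in
theorem rows_20 : rowsRange E RS 1500 30000 = true := by decide +kernel

set_option maxRecDepth 1000000 in
theorem rows_24 : rowsRange E RS 1500 36000 = true := by decide +kernel

set_option maxRecDepth 1000000 in
theorem rows_28 : rowsRange E RS 1500 42000 = true := by decide +kernel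

set_option maxRecDepth 1000000 in
theorem rows_32 : rowsRange E RS 1500 48000 = true := by decide +kernel

set_option maxRecDepth 1000000 in
theorem rows_36 : rowsRange E RS 1500 54000 = true := by decide +kernel

set_option maxRecDepth 1000000 in
theorem rows_40 : rowsRange E RS 1500 60000 = true := by decide +kernel

set_option maxRecDepth 1000000 in
theorem rows_44 : rowsRange E RS 1500 66000 = true := by decide +kernel

set_option maxRecDepth 1000000 in
theorem rows_48 : rowsRange E RS 1500 72000 = true := by decide +kernel

set_option maxRecDepth 1000000 in
theorem rows_52 : rowsRange E RS 1500 78000 = true := by decide +kernel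

set_option maxRecDepth 1000000 in
theorem rows_56 : rowsRange E RS 1500 84000 = true := by decide +kernel

set_option maxRecDepth 1000000 in
theorem rows_60 : rowsRange E RS 1500 90000 = true := by decide +kernel

set_option maxRecDepth 1000000 in
theorem rows_64 : rowsRange E RS 1500 96000 = true := by decide +kernel

set_option maxRecDepth 1000000 in
theorem rows_68 : rowsRange E RS 1500 102000 = true := by decide +kernel

set_option maxRecDepth 1000000 in
theorem rows_72 : rowsRange E RS 1500 108000 = true := by decide +kernel

set_option maxRecDepth 1000000 in
theorem rows_76 : rowsRange E RS 1500 114000 = true := by decide +kernel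

set_option maxRecDepth 1000000 in
theorem rows_80 : rowsRange E RS 1500 120000 = true := by decide +kernel

set_option maxRecDepth 1000000 in
theorem rows_84 : rowsRange E RS 1500 126000 = true := by decide +kernel

set_option maxRecDepth 1000000 in
theorem rows_88 : rowsRange E RS 1500 132000 = true := by decide +kernel

set_option maxRecDepth 1000000 in
theorem rows_92 : rowsRange E RS 1500 138000 = true := by decide +kernel

set_option maxRecDepth 1000000 in
theorem rows_96 : rowsRange E RS 1500 144000 = true := by decide +kernel

set_option maxRecDepth 1000000 in
theorem rows_100 : rowsRange E RS 1500 150000 = true := by decide +kernel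

set_option maxRecDepth 1000000 in
theorem rows_104 : rowsRange E RS 1500 156000 = true := by decide +kernel

set_option maxRecDepth 1000000 in
theorem rows_108 : rowsRange E RS 1500 162000 = true := by decide +kernel

set_option maxRecDepth 1000000 in
theorem rows_112 : rowsRange E RS 1500 168000 = true := by decide +kernel

set_option maxRecDepth 1000000 in
theorem rows_116 : rowsRange E RS 1500 174000 = true := by decide +kernel

set_option maxRecDepth 1000000 in
theorem rows_120 : rowsRange E RS 1500 180000 = true := by decide +kernel

set_option maxRecDepth 1000000 in
theorem aliases_80 : aliasRange E 5282 181039 = true := by decide +kernel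

set_option maxRecDepth 1000000 in
theorem cnt_9 : cntFrom RS 6321 180000 0 = 6186 := by decide +kernel

end Cfsg.Agent.Helper5.L34DTC
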