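import Cfsg.Agent.Helper5.L34DTCDatD
import Cfsg.Agent.Helper5.TCIB

/-! kernel checks of edges, aliases, rows: L34DTC -/

set_option autoImplicit false
set_option Elab.async false

namespace Cfsg.Agent.Helper5.L34DTC
open Cfsg.Agent.Helper5.TC Cfsg.Agent.Helper5.TCI

set_option maxRecDepth 1000000 in
theorem cnt_2 : cntFrom RS 20000 40000 0 = 3036 := by decide +kernel

set_option maxRecDepth 1000000 in
theorem cnt_6 : cntFrom RS 20000 120000 0 = 2462 := by decide +kernel

set_option maxRecDepth 1000000 in
theorem edges_2_35 : edgesRangeI iota E 2 3264 90588 = true := by decide +kernel

set_option maxRecDepth 1000000 in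
theorem edges_1_32 : edgesRangeI iota E 1 2859 96491 = true := by decide +kernel

set_option maxRecDepth 1000000 in
theorem edges_3_23 : edgesRangeI iota E 3 3343 70983 = true := by decide +kernel

set_option maxRecDepth 1000000 in
theorem edges_2_5 : edgesRangeI iota E 2 2299 12190 = true := by decide +kernel

set_option maxRecDepth 1000000 in
theorem edges_1_9 : edgesRangeI iota E 1 2617 26136 = true := by decide +kernel

set_option maxRecDepth 1000000 in
theorem edges_0_17 : edgesRangeI iota E 0 2772 44814 = true := by decide +kernel

set_option maxRecDepth 1000000 in
theorem edges_2_14 : edgesRangeI iota E 2 2483 34965 = true := by decide +kernel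

set_option maxRecDepth 1000000 in
theorem edges_3_38 : edgesRangeI iota E 3 2988 118409 = true := by decide +kernel

set_option maxRecDepth 1000000 in
theorem edges_1_22 : edgesRangeI iota E 1 4065 66499 = true := by decide +kernel

set_option maxRecDepth 1000000 in
theorem edges_2_25 : edgesRangeI iota E 2 2360 63188 = true := by decide +kernel

set_option maxRecDepth 1000000 in
theorem edges_0_40 : edgesRangeI iota E 0 3062 108210 = true := by decide +kernel

set_option maxRecDepth 1000000 in
theorem edges_2_2 : edgesRangeI iota E 2 2472 4903 = true := by decide +kernel

set_option maxRecDepth 1000000 in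
theorem edges_3_15 : edgesRangeI iota E 3 2618 44740 = true := by decide +kernel

set_option maxRecDepth 1000000 in
theorem edges_3_5 : edgesRangeI iota E 3 2905 15686 = true := by decide +kernel

set_option maxRecDepth 1000000 in
theorem edges_2_22 : edgesRangeI iota E 2 2207 56083 = true := by decide +kernel

set_option maxRecDepth 1000000 in
theorem edges_3_73 : edgesRangeI iota E 3 720 184185 = true := by decide +kernel

set_option maxRecDepth 1000000 in
theorem edges_0_22 : edgesRangeI iota E 0 3230 59051 = true := by decide +kernel

set_option maxRecDepth 1000000 in
theorem edges_1_6 : edgesRangeI iota E 1 2470 18618 = true := by decide +kernel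

set_option maxRecDepth 1000000 in
theorem edges_2_33 : edgesRangeI iota E 2 3052 85182 = true := by decide +kernel

set_option maxRecDepth 1000000 in
theorem aliases_0 : aliasRange E 2489 0 = true := by decide +kernel

set_option maxRecDepth 1000000 in
theorem edges_1_74 : edgesRangeI iota E 1 602 181474 = true := by decide +kernel

set_option maxRecDepth 1000000 in
theorem edges_2_79 : edgesRangeI iota E 2 767 182454 = true := by decide +kernel

set_option maxRecDepth 1000000 in
theorem edges_0_8 : edgesRangeI iota E 0 2781 20701 = true := by decide +kernel

set_option maxRecDepth 1000000 in
theorem edges_2_41 : edgesRangeI iota E 2 2754 107358 = true := by decide +kernel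

set_option maxRecDepth 1000000 in
theorem edges_0_77 : edgesRangeI iota E 0 763 182269 = true := by decide +kernel

set_option maxRecDepth 1000000 in
theorem edges_1_54 : edgesRangeI iota E 1 1324 160067 = true := by decide +kernel

set_option maxRecDepth 1000000 in
theorem edges_3_25 : edgesRangeI iota E 3 3205 77080 = true := by decide +kernel

set_option maxRecDepth 1000000 in
theorem edges_1_81 : edgesRangeI iota E 1 532 185603 = true := by decide +kernel

set_option maxRecDepth 1000000 in
theorem aliases_63 : aliasRange E 1871 135408 = true := by decide +kernel

set_option maxRecDepth 1000000 in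
theorem edges_3_33 : edgesRangeI iota E 3 3362 102770 = true := by decide +kernel

set_option maxRecDepth 1000000 in
theorem edges_0_19 : edgesRangeI iota E 0 2571 50112 = true := by decide +kernel

set_option maxRecDepth 1000000 in
theorem edges_1_18 : edgesRangeI iota E 1 3216 54141 = true := by decide +kernel

set_option maxRecDepth 1000000 in
theorem edges_0_25 : edgesRangeI iota E 0 2106 68237 = true := by decide +kernel

set_option maxRecDepth 1000000 in
theorem edges_2_15 : edgesRangeI iota E 2 2634 37448 = true := by decide +kernel

set_option maxRecDepth 1000000 in
theorem edges_0_74 : edgesRangeI iota E 0 943 179741 = true := by decide +kernel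

set_option maxRecDepth 1000000 in
theorem edges_0_5 : edgesRangeI iota E 0 2292 12751 = true := by decide +kernel

set_option maxRecDepth 1000000 in
theorem edges_1_26 : edgesRangeI iota E 1 2313 79375 = true := by decide +kernel

set_option maxRecDepth 1000000 in
theorem edges_2_51 : edgesRangeI iota E 2 2533 134688 = true := by decide +kernel

set_option maxRecDepth 1000000 in
theorem edges_1_70 : edgesRangeI iota E 1 679 178642 = true := by decide +kernel

set_option maxRecDepth 1000000 in
theorem edges_0_76 : edgesRangeI iota E 0 844 181425 = true := by decide +kernel

set_option maxRecDepth 1000000 in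
theorem edges_3_72 : edgesRangeI iota E 3 675 183510 = true := by decide +kernel

set_option maxRecDepth 1000000 in
theorem edges_3_68 : edgesRangeI iota E 3 783 180614 = true := by decide +kernel

set_option maxRecDepth 1000000 in
theorem edges_1_27 : edgesRangeI iota E 1 3378 81688 = true := by decide +kernel

set_option maxRecDepth 1000000 in
theorem edges_2_52 : edgesRangeI iota E 2 2841 137221 = true := by decide +kernel

set_option maxRecDepth 1000000 in
theorem edges_1_31 : edgesRangeI iota E 1 3071 93420 = true := by decide +kernel

set_option maxRecDepth 1000000 in
theorem edges_3_31 : edgesRangeI iota E 3 3147 96329 = true := by decide +kernel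

set_option maxRecDepth 1000000 in
theorem edges_1_49 : edgesRangeI iota E 1 2706 147268 = true := by decide +kernel

set_option maxRecDepth 1000000 in
theorem aliases_5 : aliasRange E 2463 12135 = true := by decide +kernel

set_option maxRecDepth 1000000 in
theorem aliases_36 : aliasRange E 2223 79880 = true := by decide +kernel

set_option maxRecDepth 1000000 in
theorem aliases_57 : aliasRange E 1908 123265 = true := by decide +kernel

set_option maxRecDepth 1000000 in
theorem edges_0_39 : edgesRangeI iota E 0 3014 105196 = true := by decide +kernel

set_option maxRecDepth 1000000 in
theorem edges_1_53 : edgesRangeI iota E 1 1381 158686 = true := by decide +kernel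

set_option maxRecDepth 1000000 in
theorem edges_3_18 : edgesRangeI iota E 3 3623 53629 = true := by decide +kernel

set_option maxRecDepth 1000000 in
theorem aliases_35 : aliasRange E 2169 77711 = true := by decide +kernel

set_option maxRecDepth 1000000 in
theorem aliases_54 : aliasRange E 2034 117365 = true := by decide +kernel

set_option maxRecDepth 1000000 in
theorem aliases_74 : aliasRange E 2468 156668 = true := by decide +kernel

set_option maxRecDepth 1000000 in
theorem edges_0_59 : edgesRangeI iota E 0 1565 160749 = true := by decide +kernel

set_option maxRecDepth 1000000 in
theorem edges_1_45 : edgesRangeI iota E 1 3008 134910 = true := by decide +kernel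

set_option maxRecDepth 1000000 in
theorem edges_2_9 : edgesRangeI iota E 2 2487 22110 = true := by decide +kernel

set_option maxRecDepth 1000000 in
theorem edges_3_59 : edgesRangeI iota E 3 1246 171556 = true := by decide +kernel

set_option maxRecDepth 1000000 in
theorem aliases_4 : aliasRange E 2299 9836 = true := by decide +kernel

set_option maxRecDepth 1000000 in
theorem aliases_16 : aliasRange E 2164 37526 = true := by decide +kernel

set_option maxRecDepth 1000000 in
theorem aliases_33 : aliasRange E 1994 73626 = true := by decide +kernel

set_option maxRecDepth 1000000 in
theorem aliases_65 : aliasRange E 1772 139111 = true := by decide +kernel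

set_option maxRecDepth 1000000 in
theorem edges_0_15 : edgesRangeI iota E 0 2479 39862 = true := by decide +kernel

set_option maxRecDepth 1000000 in
theorem edges_0_49 : edgesRangeI iota E 0 3180 133831 = true := by decide +kernel

set_option maxRecDepth 1000000 in
theorem edges_1_52 : edgesRangeI iota E 1 2255 156431 = true := by decide +kernel

set_option maxRecDepth 1000000 in
theorem edges_2_31 : edgesRangeI iota E 2 2699 79503 = true := by decide +kernel

set_option maxRecDepth 1000000 in
theorem edges_2_61 : edgesRangeI iota E 2 1430 161453 = true := by decide +kernel

set_option maxRecDepth 1000000 in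
theorem edges_3_39 : edgesRangeI iota E 3 3087 121397 = true := by decide +kernel

set_option maxRecDepth 1000000 in
theorem edges_3_56 : edgesRangeI iota E 3 1639 166914 = true := by decide +kernel

set_option maxRecDepth 1000000 in
theorem aliases_12 : aliasRange E 2270 29017 = true := by decide +kernel

set_option maxRecDepth 1000000 in
theorem aliases_23 : aliasRange E 2096 52959 = true := by decide +kernel

set_option maxRecDepth 1000000 in
theorem aliases_44 : aliasRange E 2110 96842 = true := by decide +kernel

set_option maxRecDepth 1000000 in
theorem aliases_69 : aliasRange E 1994 146804 = true := by decide +kernel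

set_option maxRecDepth 1000000 in
theorem edges_0_6 : edgesRangeI iota E 0 2786 15043 = true := by decide +kernel

set_option maxRecDepth 1000000 in
theorem edges_0_23 : edgesRangeI iota E 0 2951 62281 = true := by decide +kernel

set_option maxRecDepth 1000000 in
theorem edges_0_32 : edgesRangeI iota E 0 2634 86793 = true := by decide +kernel

set_option maxRecDepth 1000000 in
theorem edges_0_45 : edgesRangeI iota E 0 3080 122872 = true := by decide +kernel

set_option maxRecDepth 1000000 in
theorem edges_0_64 : edgesRangeI iota E 0 1633 168527 = true := by decide +kernel

set_option maxRecDepth 1000000 in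
theorem edges_1_4 : edgesRangeI iota E 1 3396 12285 = true := by decide +kernel

set_option maxRecDepth 1000000 in
theorem edges_1_12 : edgesRangeI iota E 1 3331 35073 = true := by decide +kernel

set_option maxRecDepth 1000000 in
theorem edges_1_24 : edgesRangeI iota E 1 2987 72991 = true := by decide +kernel

set_option maxRecDepth 1000000 in
theorem edges_1_39 : edgesRangeI iota E 1 2404 118287 = true := by decide +kernel

set_option maxRecDepth 1000000 in
theorem edges_1_50 : edgesRangeI iota E 1 3152 149974 = true := by decide +kernel

set_option maxRecDepth 1000000 in
theorem edges_1_77 : edgesRangeI iota E 1 594 183325 = true := by decide +kernel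

set_option maxRecDepth 1000000 in
theorem edges_2_12 : edgesRangeI iota E 2 2536 29715 = true := by decide +kernel

set_option maxRecDepth 1000000 in
theorem edges_2_27 : edgesRangeI iota E 2 2963 68085 = true := by decide +kernel

set_option maxRecDepth 1000000 in
theorem edges_2_32 : edgesRangeI iota E 2 2980 82202 = true := by decide +kernel

set_option maxRecDepth 1000000 in
theorem edges_2_49 : edgesRangeI iota E 2 2935 129092 = true := by decide +kernel

set_option maxRecDepth 1000000 in
theorem edges_2_63 : edgesRangeI iota E 2 1648 164244 = true := by decide +kernel

set_option maxRecDepth 1000000 in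
theorem edges_3_8 : edgesRangeI iota E 3 2948 23829 = true := by decide +kernel

set_option maxRecDepth 1000000 in
theorem edges_3_16 : edgesRangeI iota E 3 3066 47358 = true := by decide +kernel

set_option maxRecDepth 1000000 in
theorem edges_3_26 : edgesRangeI iota E 3 2936 80285 = true := by decide +kernel

set_option maxRecDepth 1000000 in
theorem edges_3_32 : edgesRangeI iota E 3 3294 99476 = true := by decide +kernel

set_option maxRecDepth 1000000 in
theorem edges_3_44 : edgesRangeI iota E 3 2869 137392 = true := by decide +kernel

set_option maxRecDepth 1000000 in
theorem edges_3_48 : edgesRangeI iota E 3 3280 150372 = true := by decide +kernel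

set_option maxRecDepth 1000000 in
theorem edges_3_60 : edgesRangeI iota E 3 1194 172802 = true := by decide +kernel

set_option maxRecDepth 1000000 in
theorem aliases_24 : aliasRange E 2148 55055 = true := by decide +kernel

set_option maxRecDepth 1000000 in
theorem aliases_48 : aliasRange E 2006 105000 = true := by decide +kernel

set_option maxRecDepth 1000000 in
theorem aliases_66 : aliasRange E 1877 140883 = true := by decide +kernel

set_option maxRecDepth 1000000 in
theorem aliases_79 : aliasRange E 6228 174811 = true := by decide +kernel

set_option maxRecDepth 1000000 in
theorem rows_6 : rowsRange E RS 1500 9000 = true := by decide +kernel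

set_option maxRecDepth 1000000 in
theorem rows_10 : rowsRange E RS 1500 15000 = true := by decide +kernel

set_option maxRecDepth 1000000 in
theorem rows_14 : rowsRange E RS 1500 21000 = true := by decide +kernel

set_option maxRecDepth 1000000 in
theorem rows_18 : rowsRange E RS 1500 27000 = true := by decide +kernel

set_option maxRecDepth 1000000 in
theorem rows_22 : rowsRange E RS 1500 33000 = true := by decide +kernel

set_option maxRecDepth 1000000 in
theorem rows_26 : rowsRange E RS 1500 39000 = true := by decide +kernel

set_option maxRecDepth 1000000 in
theorem rows_30 : rowsRange E RS 1500 45000 = true := by decide +kernel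

set_option maxRecDepth 1000000 in
theorem rows_34 : rowsRange E RS 1500 51000 = true := by decide +kernel

set_option maxRecDepth 1000000 in
theorem rows_38 : rowsRange E RS 1500 57000 = true := by decide +kernel

set_option maxRecDepth 1000000 in
theorem rows_42 : rowsRange E RS 1500 63000 = true := by decide +kernel

set_option maxRecDepth 1000000 in
theorem rows_46 : rowsRange E RS 1500 69000 = true := by decide +kernel

set_option maxRecDepth 1000000 in
theorem rows_50 : rowsRange E RS 1500 75000 = true := by decide +kernel

set_option maxRecDepth 1000000 in
theorem rows_54 : rowsRange E RS 1500 81000 = true := by decide +kernel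

set_option maxRecDepth 1000000 in
theorem rows_58 : rowsRange E RS 1500 87000 = true := by decide +kernel

set_option maxRecDepth 1000000 in
theorem rows_62 : rowsRange E RS 1500 93000 = true := by decide +kernel

set_option maxRecDepth 1000000 in
theorem rows_66 : rowsRange E RS 1500 99000 = true := by decide +kernel

set_option maxRecDepth 1000000 in
theorem rows_70 : rowsRange E RS 1500 105000 = true := by decide +kernel

set_option maxRecDepth 1000000 in
theorem rows_74 : rowsRange E RS 1500 111000 = true := by decide +kernel

set_option maxRecDepth 1000000 in
theorem rows_78 : rowsRange E RS 1500 117000 = true := by decide +kernel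

set_option maxRecDepth 1000000 in
theorem rows_82 : rowsRange E RS 1500 123000 = true := by decide +kernel

set_option maxRecDepth 1000000 in
theorem rows_86 : rowsRange E RS 1500 129000 = true := by decide +kernel

set_option maxRecDepth 1000000 in
theorem rows_90 : rowsRange E RS 1500 135000 = true := by decide +kernel

set_option maxRecDepth 1000000 in
theorem rows_94 : rowsRange E RS 1500 141000 = true := by decide +kernel

set_option maxRecDepth 1000000 in
theorem rows_98 : rowsRange E RS 1500 147000 = true := by decide +kernel

set_option maxRecDepth 1000000 in
theorem rows_102 : rowsRange E RS 1500 153000 = true := by decide +kernel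

set_option maxRecDepth 1000000 in
theorem rows_106 : rowsRange E RS 1500 159000 = true := by decide +kernel

set_option maxRecDepth 1000000 in
theorem rows_110 : rowsRange E RS 1500 165000 = true := by decide +kernel

set_option maxRecDepth 1000000 in
theorem rows_114 : rowsRange E RS 1500 171000 = true := by decide +kernel

set_option maxRecDepth 1000000 in
theorem rows_118 : rowsRange E RS 1500 177000 = true := by decide +kernel

set_option maxRecDepth 1000000 in
theorem rows_122 : rowsRange E RS 1500 183000 = true := by decide +kernel

set_option maxRecDepth 1000000 in
theorem edges_2_84 : edgesRangeI iota E 2 270 186051 = true := by decide +kernel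

set_option maxRecDepth 1000000 in
theorem edges_3_76 : edgesRangeI iota E 3 208 186113 = true := by decide +kernel

end Cfsg.Agent.Helper5.L34DTC
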