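import Cfsg.Agent.Helper5.L34DTCDatD
import Cfsg.Agent.Helper5.TCIB

/-! kernel checks of edges, aliases, rows: L34DTC -/

set_option autoImplicit false
set_option Elab.async false

namespace Cfsg.Agent.Helper5.L34DTC
open Cfsg.Agent.Helper5.TC Cfsg.Agent.Helper5.TCI

set_option maxRecDepth 1000000 in
theorem cnt_3 : cntFrom RS 20000 60000 0 = 2761 := by decide +kernel

set_option maxRecDepth 1000000 in
theorem cnt_7 : cntFrom RS 20000 140000 0 = 2647 := by decide +kernel

set_option maxRecDepth 1000000 in
theorem aliases_13 : aliasRange E 1999 31287 = true := by decide +kernel

set_option maxRecDepth 1000000 in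
theorem edges_0_16 : edgesRangeI iota E 0 2473 42341 = true := by decide +kernel

set_option maxRecDepth 1000000 in
theorem edges_0_30 : edgesRangeI iota E 0 2225 82015 = true := by decide +kernel

set_option maxRecDepth 1000000 in
theorem edges_1_65 : edgesRangeI iota E 1 890 174480 = true := by decide +kernel

set_option maxRecDepth 1000000 in
theorem edges_3_34 : edgesRangeI iota E 3 2916 106132 = true := by decide +kernel

set_option maxRecDepth 1000000 in
theorem edges_3_6 : edgesRangeI iota E 3 2694 18591 = true := by decide +kernel

set_option maxRecDepth 1000000 in
theorem edges_2_7 : edgesRangeI iota E 2 2770 16743 = true := by decide +kernel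

set_option maxRecDepth 1000000 in
theorem edges_3_19 : edgesRangeI iota E 3 3653 57252 = true := by decide +kernel

set_option maxRecDepth 1000000 in
theorem edges_0_70 : edgesRangeI iota E 0 967 176240 = true := by decide +kernel

set_option maxRecDepth 1000000 in
theorem edges_0_50 : edgesRangeI iota E 0 2695 137011 = true := by decide +kernel

set_option maxRecDepth 1000000 in
theorem edges_0_13 : edgesRangeI iota E 0 2670 34527 = true := by decide +kernel

set_option maxRecDepth 1000000 in
theorem edges_1_66 : edgesRangeI iota E 1 867 175370 = true := by decide +kernel

set_option maxRecDepth 1000000 in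
theorem edges_3_13 : edgesRangeI iota E 3 2929 38789 = true := by decide +kernel

set_option maxRecDepth 1000000 in
theorem edges_2_83 : edgesRangeI iota E 2 676 185375 = true := by decide +kernel

set_option maxRecDepth 1000000 in
theorem edges_1_58 : edgesRangeI iota E 1 1429 165733 = true := by decide +kernel

set_option maxRecDepth 1000000 in
theorem edges_3_62 : edgesRangeI iota E 3 1048 175051 = true := by decide +kernel

set_option maxRecDepth 1000000 in
theorem edges_0_14 : edgesRangeI iota E 0 2665 37197 = true := by decide +kernel

set_option maxRecDepth 1000000 in
theorem edges_0_69 : edgesRangeI iota E 0 994 175246 = true := by decide +kernel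

set_option maxRecDepth 1000000 in
theorem edges_2_18 : edgesRangeI iota E 2 2697 45700 = true := by decide +kernel

set_option maxRecDepth 1000000 in
theorem edges_3_63 : edgesRangeI iota E 3 962 176099 = true := by decide +kernel

set_option maxRecDepth 1000000 in
theorem edges_1_59 : edgesRangeI iota E 1 1384 167162 = true := by decide +kernel

set_option maxRecDepth 1000000 in
theorem edges_2_54 : edgesRangeI iota E 2 2924 143031 = true := by decide +kernel

set_option maxRecDepth 1000000 in
theorem edges_0_1 : edgesRangeI iota E 0 2614 2890 = true := by decide +kernel

set_option maxRecDepth 1000000 in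
theorem edges_2_13 : edgesRangeI iota E 2 2714 32251 = true := by decide +kernel

set_option maxRecDepth 1000000 in
theorem edges_0_68 : edgesRangeI iota E 0 1144 174102 = true := by decide +kernel

set_option maxRecDepth 1000000 in
theorem edges_1_42 : edgesRangeI iota E 1 2827 125666 = true := by decide +kernel

set_option maxRecDepth 1000000 in
theorem edges_2_50 : edgesRangeI iota E 2 2661 132027 = true := by decide +kernel

set_option maxRecDepth 1000000 in
theorem edges_0_81 : edgesRangeI iota E 0 697 185255 = true := by decide +kernel

set_option maxRecDepth 1000000 in
theorem edges_3_54 : edgesRangeI iota E 3 1654 163759 = true := by decide +kernel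

set_option maxRecDepth 1000000 in
theorem edges_0_52 : edgesRangeI iota E 0 2916 142794 = true := by decide +kernel

set_option maxRecDepth 1000000 in
theorem edges_3_75 : edgesRangeI iota E 3 599 185514 = true := by decide +kernel

set_option maxRecDepth 1000000 in
theorem edges_0_80 : edgesRangeI iota E 0 730 184525 = true := by decide +kernel

set_option maxRecDepth 1000000 in
theorem edges_2_59 : edgesRangeI iota E 2 1582 158406 = true := by decide +kernel

set_option maxRecDepth 1000000 in
theorem edges_2_81 : edgesRangeI iota E 2 742 183949 = true := by decide +kernel

set_option maxRecDepth 1000000 in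
theorem edges_2_20 : edgesRangeI iota E 2 2528 51207 = true := by decide +kernel

set_option maxRecDepth 1000000 in
theorem edges_0_48 : edgesRangeI iota E 0 2490 131341 = true := by decide +kernel

set_option maxRecDepth 1000000 in
theorem edges_1_34 : edgesRangeI iota E 1 2750 102446 = true := by decide +kernel

set_option maxRecDepth 1000000 in
theorem edges_2_77 : edgesRangeI iota E 2 793 180876 = true := by decide +kernel

set_option maxRecDepth 1000000 in
theorem edges_3_35 : edgesRangeI iota E 3 3272 109048 = true := by decide +kernel

set_option maxRecDepth 1000000 in
theorem edges_1_61 : edgesRangeI iota E 1 1352 170008 = true := by decide +kernel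

set_option maxRecDepth 1000000 in
theorem aliases_22 : aliasRange E 1998 50961 = true := by decide +kernel

set_option maxRecDepth 1000000 in
theorem edges_0_0 : edgesRangeI iota E 0 2890 0 = true := by decide +kernel

set_option maxRecDepth 1000000 in
theorem edges_1_0 : edgesRangeI iota E 1 2703 0 = true := by decide +kernel

set_option maxRecDepth 1000000 in
theorem edges_1_55 : edgesRangeI iota E 1 1490 161391 = true := by decide +kernel

set_option maxRecDepth 1000000 in
theorem edges_0_33 : edgesRangeI iota E 0 3032 89427 = true := by decide +kernel

set_option maxRecDepth 1000000 in
theorem edges_2_45 : edgesRangeI iota E 2 2677 118382 = true := by decide +kernel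

set_option maxRecDepth 1000000 in
theorem edges_0_75 : edgesRangeI iota E 0 741 180684 = true := by decide +kernel

set_option maxRecDepth 1000000 in
theorem edges_2_19 : edgesRangeI iota E 2 2810 48397 = true := by decide +kernel

set_option maxRecDepth 1000000 in
theorem aliases_30 : aliasRange E 2203 67468 = true := by decide +kernel

set_option maxRecDepth 1000000 in
theorem aliases_40 : aliasRange E 2203 88240 = true := by decide +kernel

set_option maxRecDepth 1000000 in
theorem edges_0_2 : edgesRangeI iota E 0 2450 5504 = true := by decide +kernel

set_option maxRecDepth 1000000 in
theorem edges_0_58 : edgesRangeI iota E 0 1406 159343 = true := by decide +kernel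

set_option maxRecDepth 1000000 in
theorem edges_2_21 : edgesRangeI iota E 2 2348 53735 = true := by decide +kernel

set_option maxRecDepth 1000000 in
theorem aliases_11 : aliasRange E 2367 26650 = true := by decide +kernel

set_option maxRecDepth 1000000 in
theorem aliases_46 : aliasRange E 2143 100927 = true := by decide +kernel

set_option maxRecDepth 1000000 in
theorem aliases_56 : aliasRange E 1801 121464 = true := by decide +kernel

set_option maxRecDepth 1000000 in
theorem edges_0_28 : edgesRangeI iota E 0 2264 76685 = true := by decide +kernel

set_option maxRecDepth 1000000 in
theorem edges_1_14 : edgesRangeI iota E 1 3458 41707 = true := by decide +kernel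

set_option maxRecDepth 1000000 in
theorem edges_1_76 : edgesRangeI iota E 1 607 182718 = true := by decide +kernel

set_option maxRecDepth 1000000 in
theorem edges_2_76 : edgesRangeI iota E 2 981 179895 = true := by decide +kernel

set_option maxRecDepth 1000000 in
theorem edges_3_69 : edgesRangeI iota E 3 744 181397 = true := by decide +kernel

set_option maxRecDepth 1000000 in
theorem aliases_14 : aliasRange E 1889 33286 = true := by decide +kernel

set_option maxRecDepth 1000000 in
theorem aliases_31 : aliasRange E 1957 69671 = true := by decide +kernel

set_option maxRecDepth 1000000 in
theorem aliases_53 : aliasRange E 2277 115088 = true := by decide +kernel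

set_option maxRecDepth 1000000 in
theorem aliases_72 : aliasRange E 2132 152561 = true := by decide +kernel

set_option maxRecDepth 1000000 in
theorem edges_0_57 : edgesRangeI iota E 0 1673 157670 = true := by decide +kernel

set_option maxRecDepth 1000000 in
theorem edges_1_56 : edgesRangeI iota E 1 1226 162881 = true := by decide +kernel

set_option maxRecDepth 1000000 in
theorem edges_2_37 : edgesRangeI iota E 2 2777 96731 = true := by decide +kernel

set_option maxRecDepth 1000000 in
theorem edges_3_2 : edgesRangeI iota E 3 3167 6122 = true := by decide +kernel

set_option maxRecDepth 1000000 in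
theorem edges_3_41 : edgesRangeI iota E 3 3678 127385 = true := by decide +kernel

set_option maxRecDepth 1000000 in
theorem aliases_3 : aliasRange E 2331 7505 = true := by decide +kernel

set_option maxRecDepth 1000000 in
theorem aliases_17 : aliasRange E 2361 39690 = true := by decide +kernel

set_option maxRecDepth 1000000 in
theorem aliases_29 : aliasRange E 2115 65353 = true := by decide +kernel

set_option maxRecDepth 1000000 in
theorem aliases_45 : aliasRange E 1975 98952 = true := by decide +kernel

set_option maxRecDepth 1000000 in
theorem aliases_71 : aliasRange E 1892 150669 = true := by decide +kernel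

set_option maxRecDepth 1000000 in
theorem edges_0_10 : edgesRangeI iota E 0 2667 26403 = true := by decide +kernel

set_option maxRecDepth 1000000 in
theorem edges_0_26 : edgesRangeI iota E 0 3298 70343 = true := by decide +kernel

set_option maxRecDepth 1000000 in
theorem edges_0_36 : edgesRangeI iota E 0 2694 97029 = true := by decide +kernel

set_option maxRecDepth 1000000 in
theorem edges_0_46 : edgesRangeI iota E 0 3195 125952 = true := by decide +kernel

set_option maxRecDepth 1000000 in
theorem edges_1_1 : edgesRangeI iota E 1 3206 2703 = true := by decide +kernel

set_option maxRecDepth 1000000 in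
theorem edges_1_7 : edgesRangeI iota E 1 2471 21088 = true := by decide +kernel

set_option maxRecDepth 1000000 in
theorem edges_1_15 : edgesRangeI iota E 1 3006 45165 = true := by decide +kernel

set_option maxRecDepth 1000000 in
theorem edges_1_28 : edgesRangeI iota E 1 3083 85066 = true := by decide +kernel

set_option maxRecDepth 1000000 in
theorem edges_1_40 : edgesRangeI iota E 1 2655 120691 = true := by decide +kernel

set_option maxRecDepth 1000000 in
theorem edges_1_63 : edgesRangeI iota E 1 1011 172474 = true := by decide +kernel

set_option maxRecDepth 1000000 in
theorem edges_2_0 : edgesRangeI iota E 2 2662 0 = true := by decide +kernel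

set_option maxRecDepth 1000000 in
theorem edges_2_17 : edgesRangeI iota E 2 3083 42617 = true := by decide +kernel

set_option maxRecDepth 1000000 in
theorem edges_2_28 : edgesRangeI iota E 2 2724 71048 = true := by decide +kernel

set_option maxRecDepth 1000000 in
theorem edges_2_34 : edgesRangeI iota E 2 2354 88234 = true := by decide +kernel

set_option maxRecDepth 1000000 in
theorem edges_2_55 : edgesRangeI iota E 2 3220 145955 = true := by decide +kernel

set_option maxRecDepth 1000000 in
theorem edges_2_72 : edgesRangeI iota E 2 904 176248 = true := by decide +kernel

set_option maxRecDepth 1000000 in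
theorem edges_3_10 : edgesRangeI iota E 3 2935 29323 = true := by decide +kernel

set_option maxRecDepth 1000000 in
theorem edges_3_17 : edgesRangeI iota E 3 3205 50424 = true := by decide +kernel

set_option maxRecDepth 1000000 in
theorem edges_3_28 : edgesRangeI iota E 3 3269 86504 = true := by decide +kernel

set_option maxRecDepth 1000000 in
theorem edges_3_37 : edgesRangeI iota E 3 2674 115735 = true := by decide +kernel

set_option maxRecDepth 1000000 in
theorem edges_3_45 : edgesRangeI iota E 3 3157 140261 = true := by decide +kernel

set_option maxRecDepth 1000000 in
theorem edges_3_49 : edgesRangeI iota E 3 3399 153652 = true := by decide +kernel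

set_option maxRecDepth 1000000 in
theorem aliases_6 : aliasRange E 2321 14598 = true := by decide +kernel

set_option maxRecDepth 1000000 in
theorem aliases_28 : aliasRange E 2058 63295 = true := by decide +kernel

set_option maxRecDepth 1000000 in
theorem aliases_59 : aliasRange E 2058 127239 = true := by decide +kernel

set_option maxRecDepth 1000000 in
theorem aliases_67 : aliasRange E 2005 142760 = true := by decide +kernel

set_option maxRecDepth 1000000 in
theorem rows_0 : rowsRange E RS 1500 0 = true := by decide +kernel

set_option maxRecDepth 1000000 in
theorem rows_3 : rowsRange E RS 1500 4500 = true := by decide +kernel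

set_option maxRecDepth 1000000 in
theorem rows_7 : rowsRange E RS 1500 10500 = true := by decide +kernel

set_option maxRecDepth 1000000 in
theorem rows_11 : rowsRange E RS 1500 16500 = true := by decide +kernel

set_option maxRecDepth 1000000 in
theorem rows_15 : rowsRange E RS 1500 22500 = true := by decide +kernel

set_option maxRecDepth 1000000 in
theorem rows_19 : rowsRange E RS 1500 28500 = true := by decide +kernel

set_option maxRecDepth 1000000 in
theorem rows_23 : rowsRange E RS 1500 34500 = true := by decide +kernel

set_option maxRecDepth 1000000 in
theorem rows_27 : rowsRange E RS 1500 40500 = true := by decide +kernel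

set_option maxRecDepth 1000000 in
theorem rows_31 : rowsRange E RS 1500 46500 = true := by decide +kernel

set_option maxRecDepth 1000000 in
theorem rows_35 : rowsRange E RS 1500 52500 = true := by decide +kernel

set_option maxRecDepth 1000000 in
theorem rows_39 : rowsRange E RS 1500 58500 = true := by decide +kernel

set_option maxRecDepth 1000000 in
theorem rows_43 : rowsRange E RS 1500 64500 = true := by decide +kernel

set_option maxRecDepth 1000000 in
theorem rows_47 : rowsRange E RS 1500 70500 = true := by decide +kernel

set_option maxRecDepth 1000000 in
theorem rows_51 : rowsRange E RS 1500 76500 = true := by decide +kernel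

set_option maxRecDepth 1000000 in
theorem rows_55 : rowsRange E RS 1500 82500 = true := by decide +kernel

set_option maxRecDepth 1000000 in
theorem rows_59 : rowsRange E RS 1500 88500 = true := by decide +kernel

set_option maxRecDepth 1000000 in
theorem rows_63 : rowsRange E RS 1500 94500 = true := by decide +kernel

set_option maxRecDepth 1000000 in
theorem rows_67 : rowsRange E RS 1500 100500 = true := by decide +kernel

set_option maxRecDepth 1000000 in
theorem rows_71 : rowsRange E RS 1500 106500 = true := by decide +kernel

set_option maxRecDepth 1000000 in
theorem rows_75 : rowsRange E RS 1500 112500 = true := by decide +kernel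

set_option maxRecDepth 1000000 in
theorem rows_79 : rowsRange E RS 1500 118500 = true := by decide +kernel

set_option maxRecDepth 1000000 in
theorem rows_83 : rowsRange E RS 1500 124500 = true := by decide +kernel

set_option maxRecDepth 1000000 in
theorem rows_87 : rowsRange E RS 1500 130500 = true := by decide +kernel

set_option maxRecDepth 1000000 in
theorem rows_91 : rowsRange E RS 1500 136500 = true := by decide +kernel

set_option maxRecDepth 1000000 in
theorem rows_95 : rowsRange E RS 1500 142500 = true := by decide +kernel

set_option maxRecDepth 1000000 in
theorem rows_99 : rowsRange E RS 1500 148500 = true := by decide +kernel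

set_option maxRecDepth 1000000 in
theorem rows_103 : rowsRange E RS 1500 154500 = true := by decide +kernel

set_option maxRecDepth 1000000 in
theorem rows_107 : rowsRange E RS 1500 160500 = true := by decide +kernel

set_option maxRecDepth 1000000 in
theorem rows_111 : rowsRange E RS 1500 166500 = true := by decide +kernel

set_option maxRecDepth 1000000 in
theorem rows_115 : rowsRange E RS 1500 172500 = true := by decide +kernel

set_option maxRecDepth 1000000 in
theorem rows_119 : rowsRange E RS 1500 178500 = true := by decide +kernel

set_option maxRecDepth 1000000 in
theorem rows_123 : rowsRange E RS 1500 184500 = true := by decide +kernel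

set_option maxRecDepth 1000000 in
theorem edges_1_82 : edgesRangeI iota E 1 186 186135 = true := by decide +kernel

end Cfsg.Agent.Helper5.L34DTC
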