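import Cfsg.Agent.Helper5.L34DTCDatD
import Cfsg.Agent.Helper5.L34DTCDatT
import Cfsg.Agent.Helper5.TCIB

/-! kernel checks of the coset table: L34DTC -/

set_option autoImplicit false
set_option Elab.async false

namespace Cfsg.Agent.Helper5.L34DTC
open Cfsg.Agent.Helper5.TC Cfsg.Agent.Helper5.TCI

set_option maxRecDepth 1000000 in
theorem relc_2_0 : fixPtsF W_2 28571 0 = true := by decide +kernel

set_option maxRecDepth 1000000 in
theorem relc_8_0 : fixPtsF W_8 10000 0 = true := by decide +kernel

set_option maxRecDepth 1000000 in
theorem relc_10_0 : fixPtsF W_10 9090 0 = true := by decide +kernel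

set_option maxRecDepth 1000000 in
theorem relc_11_3 : fixPtsF W_11 9090 27270 = true := by decide +kernel

set_option maxRecDepth 1000000 in
theorem relc_13_1 : fixPtsF W_13 9090 9090 = true := by decide +kernel

set_option maxRecDepth 1000000 in
theorem relc_14_4 : fixPtsF W_14 7692 30768 = true := by decide +kernel

set_option maxRecDepth 1000000 in
theorem relc_16_2 : fixPtsF W_16 7692 15384 = true := by decide +kernel

set_option maxRecDepth 1000000 in
theorem relc_18_0 : fixPtsF W_18 7692 0 = true := by decide +kernel

set_option maxRecDepth 1000000 in
theorem relc_19_3 : fixPtsF W_19 7692 23076 = true := by decide +kernel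

set_option maxRecDepth 1000000 in
theorem relc_21_1 : fixPtsF W_21 7692 7692 = true := by decide +kernel

set_option maxRecDepth 1000000 in
theorem relc_22_4 : fixPtsF W_22 7142 28568 = true := by decide +kernel

set_option maxRecDepth 1000000 in
theorem relc_24_0 : fixPtsF W_24 7142 0 = true := by decide +kernel

set_option maxRecDepth 1000000 in
theorem relc_25_2 : fixPtsF W_25 7142 14284 = true := by decide +kernel

set_option maxRecDepth 1000000 in
theorem relc_26_4 : fixPtsF W_26 7142 28568 = true := by decide +kernel

set_option maxRecDepth 1000000 in
theorem relc_28_0 : fixPtsF W_28 7142 0 = true := by decide +kernel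

set_option maxRecDepth 1000000 in
theorem relc_29_2 : fixPtsF W_29 7142 14284 = true := by decide +kernel

set_option maxRecDepth 1000000 in
theorem relc_30_4 : fixPtsF W_30 7142 28568 = true := by decide +kernel

set_option maxRecDepth 1000000 in
theorem relc_32_0 : fixPtsF W_32 7142 0 = true := by decide +kernel

set_option maxRecDepth 1000000 in
theorem relc_33_2 : fixPtsF W_33 7142 14284 = true := by decide +kernel

set_option maxRecDepth 1000000 in
theorem relc_34_4 : fixPtsF W_34 7142 28568 = true := by decide +kernel

set_option maxRecDepth 1000000 in
theorem relc_36_0 : fixPtsF W_36 7142 0 = true := by decide +kernel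

set_option maxRecDepth 1000000 in
theorem relc_37_2 : fixPtsF W_37 7142 14284 = true := by decide +kernel

set_option maxRecDepth 1000000 in
theorem relc_18_5 : fixPtsF W_18 7620 38460 = true := by decide +kernel

set_option maxRecDepth 1000000 in
theorem relc_38_4 : fixPtsF W_38 2777 11108 = true := by decide +kernel

set_option maxRecDepth 1000000 in
theorem relc_38_12 : fixPtsF W_38 2777 33324 = true := by decide +kernel

set_option maxRecDepth 1000000 in
theorem relc_39_4 : fixPtsF W_39 2777 11108 = true := by decide +kernel

set_option maxRecDepth 1000000 in
theorem relc_39_12 : fixPtsF W_39 2777 33324 = true := by decide +kernel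

set_option maxRecDepth 1000000 in
theorem relc_40_4 : fixPtsF W_40 2500 10000 = true := by decide +kernel

set_option maxRecDepth 1000000 in
theorem relc_40_12 : fixPtsF W_40 2500 30000 = true := by decide +kernel

set_option maxRecDepth 1000000 in
theorem relc_41_2 : fixPtsF W_41 2500 5000 = true := by decide +kernel

set_option maxRecDepth 1000000 in
theorem relc_41_10 : fixPtsF W_41 2500 25000 = true := by decide +kernel

set_option maxRecDepth 1000000 in
theorem relc_42_0 : fixPtsF W_42 2083 0 = true := by decide +kernel

set_option maxRecDepth 1000000 in
theorem relc_42_8 : fixPtsF W_42 2083 16664 = true := by decide +kernel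

set_option maxRecDepth 1000000 in
theorem relc_42_16 : fixPtsF W_42 2083 33328 = true := by decide +kernel

set_option maxRecDepth 1000000 in
theorem relc_43_2 : fixPtsF W_43 2083 4166 = true := by decide +kernel

set_option maxRecDepth 1000000 in
theorem relc_43_10 : fixPtsF W_43 2083 20830 = true := by decide +kernel

set_option maxRecDepth 1000000 in
theorem relc_43_18 : fixPtsF W_43 2083 37494 = true := by decide +kernel

set_option maxRecDepth 1000000 in
theorem relc_44_4 : fixPtsF W_44 2083 8332 = true := by decide +kernel

set_option maxRecDepth 1000000 in
theorem relc_44_12 : fixPtsF W_44 2083 24996 = true := by decide +kernel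

set_option maxRecDepth 1000000 in
theorem relc_44_20 : fixPtsF W_44 2083 41660 = true := by decide +kernel

set_option maxRecDepth 1000000 in
theorem relc_45_6 : fixPtsF W_45 2083 12498 = true := by decide +kernel

set_option maxRecDepth 1000000 in
theorem relc_45_14 : fixPtsF W_45 2083 29162 = true := by decide +kernel

set_option maxRecDepth 1000000 in
theorem relc_46_0 : fixPtsF W_46 1923 0 = true := by decide +kernel

set_option maxRecDepth 1000000 in
theorem relc_46_8 : fixPtsF W_46 1923 15384 = true := by decide +kernel

set_option maxRecDepth 1000000 in
theorem relc_46_16 : fixPtsF W_46 1923 30768 = true := by decide +kernel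

set_option maxRecDepth 1000000 in
theorem relc_47_1 : fixPtsF W_47 1923 1923 = true := by decide +kernel

set_option maxRecDepth 1000000 in
theorem relc_47_9 : fixPtsF W_47 1923 17307 = true := by decide +kernel

set_option maxRecDepth 1000000 in
theorem relc_47_17 : fixPtsF W_47 1923 32691 = true := by decide +kernel

set_option maxRecDepth 1000000 in
theorem relc_48_2 : fixPtsF W_48 1923 3846 = true := by decide +kernel

set_option maxRecDepth 1000000 in
theorem relc_48_10 : fixPtsF W_48 1923 19230 = true := by decide +kernel

set_option maxRecDepth 1000000 in
theorem relc_48_18 : fixPtsF W_48 1923 34614 = true := by decide +kernel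

set_option maxRecDepth 1000000 in
theorem relc_49_3 : fixPtsF W_49 1923 5769 = true := by decide +kernel

set_option maxRecDepth 1000000 in
theorem relc_49_11 : fixPtsF W_49 1923 21153 = true := by decide +kernel

set_option maxRecDepth 1000000 in
theorem relc_49_19 : fixPtsF W_49 1923 36537 = true := by decide +kernel

set_option maxRecDepth 1000000 in
theorem relc_50_4 : fixPtsF W_50 1923 7692 = true := by decide +kernel

set_option maxRecDepth 1000000 in
theorem relc_50_12 : fixPtsF W_50 1923 23076 = true := by decide +kernel

set_option maxRecDepth 1000000 in
theorem relc_50_20 : fixPtsF W_50 1923 38460 = true := by decide +kernel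

set_option maxRecDepth 1000000 in
theorem relc_51_5 : fixPtsF W_51 1923 9615 = true := by decide +kernel

set_option maxRecDepth 1000000 in
theorem relc_51_13 : fixPtsF W_51 1923 24999 = true := by decide +kernel

set_option maxRecDepth 1000000 in
theorem relc_51_21 : fixPtsF W_51 1923 40383 = true := by decide +kernel

set_option maxRecDepth 1000000 in
theorem relc_52_6 : fixPtsF W_52 1923 11538 = true := by decide +kernel

set_option maxRecDepth 1000000 in
theorem relc_52_14 : fixPtsF W_52 1923 26922 = true := by decide +kernel

set_option maxRecDepth 1000000 in
theorem relc_52_22 : fixPtsF W_52 1923 42306 = true := by decide +kernel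

set_option maxRecDepth 1000000 in
theorem relc_53_7 : fixPtsF W_53 1923 13461 = true := by decide +kernel

set_option maxRecDepth 1000000 in
theorem relc_53_15 : fixPtsF W_53 1923 28845 = true := by decide +kernel

set_option maxRecDepth 1000000 in
theorem relc_46_23 : fixPtsF W_46 1851 44229 = true := by decide +kernel

set_option maxRecDepth 1000000 in
theorem relc_2_1 : fixPtsF W_2 17509 28571 = true := by decide +kernel

set_option maxRecDepth 1000000 in
theorem inv_2_0 : invRowFI ctF 46080 2 3 46080 0 = true := by decide +kernel

set_option maxRecDepth 1000000 in
theorem relc_26_6 : fixPtsF W_26 3228 42852 = true := by decide +kernel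

set_option maxRecDepth 1000000 in
theorem relc_32_6 : fixPtsF W_32 3228 42852 = true := by decide +kernel

set_option maxRecDepth 1000000 in
theorem relc_41_18 : fixPtsF W_41 1080 45000 = true := by decide +kernel

end Cfsg.Agent.Helper5.L34DTC
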