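import Cfsg.Agent.Helper5.L34DTCDatD
import Cfsg.Agent.Helper5.L34DTCDatT
import Cfsg.Agent.Helper5.TCIB

/-! kernel checks of the coset table: L34DTC -/

set_option autoImplicit false
set_option Elab.async false

namespace Cfsg.Agent.Helper5.L34DTC
open Cfsg.Agent.Helper5.TC Cfsg.Agent.Helper5.TCI

set_option maxRecDepth 1000000 in
theorem relc_5_0 : fixPtsF W_5 28571 0 = true := by decide +kernel

set_option maxRecDepth 1000000 in
theorem relc_8_1 : fixPtsF W_8 10000 10000 = true := by decide +kernel

set_option maxRecDepth 1000000 in
theorem relc_10_1 : fixPtsF W_10 9090 9090 = true := by decide +kernel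

set_option maxRecDepth 1000000 in
theorem relc_11_4 : fixPtsF W_11 9090 36360 = true := by decide +kernel

set_option maxRecDepth 1000000 in
theorem relc_13_2 : fixPtsF W_13 9090 18180 = true := by decide +kernel

set_option maxRecDepth 1000000 in
theorem relc_15_0 : fixPtsF W_15 7692 0 = true := by decide +kernel

set_option maxRecDepth 1000000 in
theorem relc_16_3 : fixPtsF W_16 7692 23076 = true := by decide +kernel

set_option maxRecDepth 1000000 in
theorem relc_18_1 : fixPtsF W_18 7692 7692 = true := by decide +kernel

set_option maxRecDepth 1000000 in
theorem relc_19_4 : fixPtsF W_19 7692 30768 = true := by decide +kernel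

set_option maxRecDepth 1000000 in
theorem relc_21_2 : fixPtsF W_21 7692 15384 = true := by decide +kernel

set_option maxRecDepth 1000000 in
theorem relc_22_5 : fixPtsF W_22 7142 35710 = true := by decide +kernel

set_option maxRecDepth 1000000 in
theorem relc_24_1 : fixPtsF W_24 7142 7142 = true := by decide +kernel

set_option maxRecDepth 1000000 in
theorem relc_25_3 : fixPtsF W_25 7142 21426 = true := by decide +kernel

set_option maxRecDepth 1000000 in
theorem relc_26_5 : fixPtsF W_26 7142 35710 = true := by decide +kernel

set_option maxRecDepth 1000000 in
theorem relc_28_1 : fixPtsF W_28 7142 7142 = true := by decide +kernel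

set_option maxRecDepth 1000000 in
theorem relc_29_3 : fixPtsF W_29 7142 21426 = true := by decide +kernel

set_option maxRecDepth 1000000 in
theorem relc_30_5 : fixPtsF W_30 7142 35710 = true := by decide +kernel

set_option maxRecDepth 1000000 in
theorem relc_32_1 : fixPtsF W_32 7142 7142 = true := by decide +kernel

set_option maxRecDepth 1000000 in
theorem relc_33_3 : fixPtsF W_33 7142 21426 = true := by decide +kernel

set_option maxRecDepth 1000000 in
theorem relc_34_5 : fixPtsF W_34 7142 35710 = true := by decide +kernel

set_option maxRecDepth 1000000 in
theorem relc_36_1 : fixPtsF W_36 7142 7142 = true := by decide +kernel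

set_option maxRecDepth 1000000 in
theorem relc_37_3 : fixPtsF W_37 7142 21426 = true := by decide +kernel

set_option maxRecDepth 1000000 in
theorem relc_19_5 : fixPtsF W_19 7620 38460 = true := by decide +kernel

set_option maxRecDepth 1000000 in
theorem relc_38_5 : fixPtsF W_38 2777 13885 = true := by decide +kernel

set_option maxRecDepth 1000000 in
theorem relc_38_13 : fixPtsF W_38 2777 36101 = true := by decide +kernel

set_option maxRecDepth 1000000 in
theorem relc_39_5 : fixPtsF W_39 2777 13885 = true := by decide +kernel

set_option maxRecDepth 1000000 in
theorem relc_39_13 : fixPtsF W_39 2777 36101 = true := by decide +kernel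

set_option maxRecDepth 1000000 in
theorem relc_40_5 : fixPtsF W_40 2500 12500 = true := by decide +kernel

set_option maxRecDepth 1000000 in
theorem relc_40_13 : fixPtsF W_40 2500 32500 = true := by decide +kernel

set_option maxRecDepth 1000000 in
theorem relc_41_3 : fixPtsF W_41 2500 7500 = true := by decide +kernel

set_option maxRecDepth 1000000 in
theorem relc_41_11 : fixPtsF W_41 2500 27500 = true := by decide +kernel

set_option maxRecDepth 1000000 in
theorem relc_42_1 : fixPtsF W_42 2083 2083 = true := by decide +kernel

set_option maxRecDepth 1000000 in
theorem relc_42_9 : fixPtsF W_42 2083 18747 = true := by decide +kernel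

set_option maxRecDepth 1000000 in
theorem relc_42_17 : fixPtsF W_42 2083 35411 = true := by decide +kernel

set_option maxRecDepth 1000000 in
theorem relc_43_3 : fixPtsF W_43 2083 6249 = true := by decide +kernel

set_option maxRecDepth 1000000 in
theorem relc_43_11 : fixPtsF W_43 2083 22913 = true := by decide +kernel

set_option maxRecDepth 1000000 in
theorem relc_43_19 : fixPtsF W_43 2083 39577 = true := by decide +kernel

set_option maxRecDepth 1000000 in
theorem relc_44_5 : fixPtsF W_44 2083 10415 = true := by decide +kernel

set_option maxRecDepth 1000000 in
theorem relc_44_13 : fixPtsF W_44 2083 27079 = true := by decide +kernel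

set_option maxRecDepth 1000000 in
theorem relc_44_21 : fixPtsF W_44 2083 43743 = true := by decide +kernel

set_option maxRecDepth 1000000 in
theorem relc_45_7 : fixPtsF W_45 2083 14581 = true := by decide +kernel

set_option maxRecDepth 1000000 in
theorem relc_45_15 : fixPtsF W_45 2083 31245 = true := by decide +kernel

set_option maxRecDepth 1000000 in
theorem relc_46_1 : fixPtsF W_46 1923 1923 = true := by decide +kernel

set_option maxRecDepth 1000000 in
theorem relc_46_9 : fixPtsF W_46 1923 17307 = true := by decide +kernel

set_option maxRecDepth 1000000 in
theorem relc_46_17 : fixPtsF W_46 1923 32691 = true := by decide +kernel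

set_option maxRecDepth 1000000 in
theorem relc_47_2 : fixPtsF W_47 1923 3846 = true := by decide +kernel

set_option maxRecDepth 1000000 in
theorem relc_47_10 : fixPtsF W_47 1923 19230 = true := by decide +kernel

set_option maxRecDepth 1000000 in
theorem relc_47_18 : fixPtsF W_47 1923 34614 = true := by decide +kernel

set_option maxRecDepth 1000000 in
theorem relc_48_3 : fixPtsF W_48 1923 5769 = true := by decide +kernel

set_option maxRecDepth 1000000 in
theorem relc_48_11 : fixPtsF W_48 1923 21153 = true := by decide +kernel

set_option maxRecDepth 1000000 in
theorem relc_48_19 : fixPtsF W_48 1923 36537 = true := by decide +kernel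

set_option maxRecDepth 1000000 in
theorem relc_49_4 : fixPtsF W_49 1923 7692 = true := by decide +kernel

set_option maxRecDepth 1000000 in
theorem relc_49_12 : fixPtsF W_49 1923 23076 = true := by decide +kernel

set_option maxRecDepth 1000000 in
theorem relc_49_20 : fixPtsF W_49 1923 38460 = true := by decide +kernel

set_option maxRecDepth 1000000 in
theorem relc_50_5 : fixPtsF W_50 1923 9615 = true := by decide +kernel

set_option maxRecDepth 1000000 in
theorem relc_50_13 : fixPtsF W_50 1923 24999 = true := by decide +kernel

set_option maxRecDepth 1000000 in
theorem relc_50_21 : fixPtsF W_50 1923 40383 = true := by decide +kernel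

set_option maxRecDepth 1000000 in
theorem relc_51_6 : fixPtsF W_51 1923 11538 = true := by decide +kernel

set_option maxRecDepth 1000000 in
theorem relc_51_14 : fixPtsF W_51 1923 26922 = true := by decide +kernel

set_option maxRecDepth 1000000 in
theorem relc_51_22 : fixPtsF W_51 1923 42306 = true := by decide +kernel

set_option maxRecDepth 1000000 in
theorem relc_52_7 : fixPtsF W_52 1923 13461 = true := by decide +kernel

set_option maxRecDepth 1000000 in
theorem relc_52_15 : fixPtsF W_52 1923 28845 = true := by decide +kernel

set_option maxRecDepth 1000000 in
theorem relc_53_0 : fixPtsF W_53 1923 0 = true := by decide +kernel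

set_option maxRecDepth 1000000 in
theorem relc_53_8 : fixPtsF W_53 1923 15384 = true := by decide +kernel

set_option maxRecDepth 1000000 in
theorem relc_53_16 : fixPtsF W_53 1923 30768 = true := by decide +kernel

set_option maxRecDepth 1000000 in
theorem relc_47_23 : fixPtsF W_47 1851 44229 = true := by decide +kernel

set_option maxRecDepth 1000000 in
theorem relc_5_1 : fixPtsF W_5 17509 28571 = true := by decide +kernel

set_option maxRecDepth 1000000 in
theorem inv_3_0 : invRowFI ctF 46080 3 2 46080 0 = true := by decide +kernel

set_option maxRecDepth 1000000 in
theorem relc_27_6 : fixPtsF W_27 3228 42852 = true := by decide +kernel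

set_option maxRecDepth 1000000 in
theorem relc_33_6 : fixPtsF W_33 3228 42852 = true := by decide +kernel

set_option maxRecDepth 1000000 in
theorem relc_42_22 : fixPtsF W_42 254 45826 = true := by decide +kernel

set_option maxRecDepth 1000000 in
theorem relc_45_22 : fixPtsF W_45 254 45826 = true := by decide +kernel

end Cfsg.Agent.Helper5.L34DTC
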