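import Cfsg.Agent.Helper5.L34DTCDatD
import Cfsg.Agent.Helper5.L34DTCDatT
import Cfsg.Agent.Helper5.TCIB

/-! kernel checks of the coset table: L34DTC -/

set_option autoImplicit false
set_option Elab.async false

namespace Cfsg.Agent.Helper5.L34DTC
open Cfsg.Agent.Helper5.TC Cfsg.Agent.Helper5.TCI

set_option maxRecDepth 1000000 in
theorem relc_0_0 : fixPtsF W_0 46080 0 = true := by decide +kernel

set_option maxRecDepth 1000000 in
theorem relc_7_0 : fixPtsF W_7 10000 0 = true := by decide +kernel

set_option maxRecDepth 1000000 in
theorem relc_9_0 : fixPtsF W_9 10000 0 = true := by decide +kernel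

set_option maxRecDepth 1000000 in
theorem relc_10_4 : fixPtsF W_10 9090 36360 = true := by decide +kernel

set_option maxRecDepth 1000000 in
theorem relc_12_2 : fixPtsF W_12 9090 18180 = true := by decide +kernel

set_option maxRecDepth 1000000 in
theorem relc_14_0 : fixPtsF W_14 7692 0 = true := by decide +kernel

set_option maxRecDepth 1000000 in
theorem relc_15_1 : fixPtsF W_15 7692 7692 = true := by decide +kernel

set_option maxRecDepth 1000000 in
theorem relc_16_4 : fixPtsF W_16 7692 30768 = true := by decide +kernel

set_option maxRecDepth 1000000 in
theorem relc_18_2 : fixPtsF W_18 7692 15384 = true := by decide +kernel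

set_option maxRecDepth 1000000 in
theorem relc_20_0 : fixPtsF W_20 7692 0 = true := by decide +kernel

set_option maxRecDepth 1000000 in
theorem relc_21_3 : fixPtsF W_21 7692 23076 = true := by decide +kernel

set_option maxRecDepth 1000000 in
theorem relc_23_2 : fixPtsF W_23 7142 14284 = true := by decide +kernel

set_option maxRecDepth 1000000 in
theorem relc_24_4 : fixPtsF W_24 7142 28568 = true := by decide +kernel

set_option maxRecDepth 1000000 in
theorem relc_26_0 : fixPtsF W_26 7142 0 = true := by decide +kernel

set_option maxRecDepth 1000000 in
theorem relc_27_2 : fixPtsF W_27 7142 14284 = true := by decide +kernel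

set_option maxRecDepth 1000000 in
theorem relc_28_4 : fixPtsF W_28 7142 28568 = true := by decide +kernel

set_option maxRecDepth 1000000 in
theorem relc_30_0 : fixPtsF W_30 7142 0 = true := by decide +kernel

set_option maxRecDepth 1000000 in
theorem relc_31_2 : fixPtsF W_31 7142 14284 = true := by decide +kernel

set_option maxRecDepth 1000000 in
theorem relc_32_4 : fixPtsF W_32 7142 28568 = true := by decide +kernel

set_option maxRecDepth 1000000 in
theorem relc_34_0 : fixPtsF W_34 7142 0 = true := by decide +kernel

set_option maxRecDepth 1000000 in
theorem relc_35_2 : fixPtsF W_35 7142 14284 = true := by decide +kernel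

set_option maxRecDepth 1000000 in
theorem relc_36_4 : fixPtsF W_36 7142 28568 = true := by decide +kernel

set_option maxRecDepth 1000000 in
theorem relc_14_5 : fixPtsF W_14 7620 38460 = true := by decide +kernel

set_option maxRecDepth 1000000 in
theorem relc_38_0 : fixPtsF W_38 2777 0 = true := by decide +kernel

set_option maxRecDepth 1000000 in
theorem relc_38_6 : fixPtsF W_38 2777 16662 = true := by decide +kernel

set_option maxRecDepth 1000000 in
theorem relc_38_14 : fixPtsF W_38 2777 38878 = true := by decide +kernel

set_option maxRecDepth 1000000 in
theorem relc_39_6 : fixPtsF W_39 2777 16662 = true := by decide +kernel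

set_option maxRecDepth 1000000 in
theorem relc_39_14 : fixPtsF W_39 2777 38878 = true := by decide +kernel

set_option maxRecDepth 1000000 in
theorem relc_40_6 : fixPtsF W_40 2500 15000 = true := by decide +kernel

set_option maxRecDepth 1000000 in
theorem relc_40_14 : fixPtsF W_40 2500 35000 = true := by decide +kernel

set_option maxRecDepth 1000000 in
theorem relc_41_4 : fixPtsF W_41 2500 10000 = true := by decide +kernel

set_option maxRecDepth 1000000 in
theorem relc_41_12 : fixPtsF W_41 2500 30000 = true := by decide +kernel

set_option maxRecDepth 1000000 in
theorem relc_42_2 : fixPtsF W_42 2083 4166 = true := by decide +kernel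

set_option maxRecDepth 1000000 in
theorem relc_42_10 : fixPtsF W_42 2083 20830 = true := by decide +kernel

set_option maxRecDepth 1000000 in
theorem relc_42_18 : fixPtsF W_42 2083 37494 = true := by decide +kernel

set_option maxRecDepth 1000000 in
theorem relc_43_4 : fixPtsF W_43 2083 8332 = true := by decide +kernel

set_option maxRecDepth 1000000 in
theorem relc_43_12 : fixPtsF W_43 2083 24996 = true := by decide +kernel

set_option maxRecDepth 1000000 in
theorem relc_43_20 : fixPtsF W_43 2083 41660 = true := by decide +kernel

set_option maxRecDepth 1000000 in
theorem relc_44_6 : fixPtsF W_44 2083 12498 = true := by decide +kernel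

set_option maxRecDepth 1000000 in
theorem relc_44_14 : fixPtsF W_44 2083 29162 = true := by decide +kernel

set_option maxRecDepth 1000000 in
theorem relc_45_0 : fixPtsF W_45 2083 0 = true := by decide +kernel

set_option maxRecDepth 1000000 in
theorem relc_45_8 : fixPtsF W_45 2083 16664 = true := by decide +kernel

set_option maxRecDepth 1000000 in
theorem relc_45_16 : fixPtsF W_45 2083 33328 = true := by decide +kernel

set_option maxRecDepth 1000000 in
theorem relc_46_2 : fixPtsF W_46 1923 3846 = true := by decide +kernel

set_option maxRecDepth 1000000 in
theorem relc_46_10 : fixPtsF W_46 1923 19230 = true := by decide +kernel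

set_option maxRecDepth 1000000 in
theorem relc_46_18 : fixPtsF W_46 1923 34614 = true := by decide +kernel

set_option maxRecDepth 1000000 in
theorem relc_47_3 : fixPtsF W_47 1923 5769 = true := by decide +kernel

set_option maxRecDepth 1000000 in
theorem relc_47_11 : fixPtsF W_47 1923 21153 = true := by decide +kernel

set_option maxRecDepth 1000000 in
theorem relc_47_19 : fixPtsF W_47 1923 36537 = true := by decide +kernel

set_option maxRecDepth 1000000 in
theorem relc_48_4 : fixPtsF W_48 1923 7692 = true := by decide +kernel

set_option maxRecDepth 1000000 in
theorem relc_48_12 : fixPtsF W_48 1923 23076 = true := by decide +kernel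

set_option maxRecDepth 1000000 in
theorem relc_48_20 : fixPtsF W_48 1923 38460 = true := by decide +kernel

set_option maxRecDepth 1000000 in
theorem relc_49_5 : fixPtsF W_49 1923 9615 = true := by decide +kernel

set_option maxRecDepth 1000000 in
theorem relc_49_13 : fixPtsF W_49 1923 24999 = true := by decide +kernel

set_option maxRecDepth 1000000 in
theorem relc_49_21 : fixPtsF W_49 1923 40383 = true := by decide +kernel

set_option maxRecDepth 1000000 in
theorem relc_50_6 : fixPtsF W_50 1923 11538 = true := by decide +kernel

set_option maxRecDepth 1000000 in
theorem relc_50_14 : fixPtsF W_50 1923 26922 = true := by decide +kernel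

set_option maxRecDepth 1000000 in
theorem relc_50_22 : fixPtsF W_50 1923 42306 = true := by decide +kernel

set_option maxRecDepth 1000000 in
theorem relc_51_7 : fixPtsF W_51 1923 13461 = true := by decide +kernel

set_option maxRecDepth 1000000 in
theorem relc_51_15 : fixPtsF W_51 1923 28845 = true := by decide +kernel

set_option maxRecDepth 1000000 in
theorem relc_52_0 : fixPtsF W_52 1923 0 = true := by decide +kernel

set_option maxRecDepth 1000000 in
theorem relc_52_8 : fixPtsF W_52 1923 15384 = true := by decide +kernel

set_option maxRecDepth 1000000 in
theorem relc_52_16 : fixPtsF W_52 1923 30768 = true := by decide +kernel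

set_option maxRecDepth 1000000 in
theorem relc_53_1 : fixPtsF W_53 1923 1923 = true := by decide +kernel

set_option maxRecDepth 1000000 in
theorem relc_53_9 : fixPtsF W_53 1923 17307 = true := by decide +kernel

set_option maxRecDepth 1000000 in
theorem relc_53_17 : fixPtsF W_53 1923 32691 = true := by decide +kernel

set_option maxRecDepth 1000000 in
theorem relc_48_23 : fixPtsF W_48 1851 44229 = true := by decide +kernel

set_option maxRecDepth 1000000 in
theorem relc_6_4 : fixPtsF W_6 6080 40000 = true := by decide +kernel

set_option maxRecDepth 1000000 in
theorem relc_38_16 : fixPtsF W_38 1648 44432 = true := by decide +kernel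

set_option maxRecDepth 1000000 in
theorem relc_34_6 : fixPtsF W_34 3228 42852 = true := by decide +kernel

set_option maxRecDepth 1000000 in
theorem relc_43_22 : fixPtsF W_43 254 45826 = true := by decide +kernel

set_option maxRecDepth 1000000 in
theorem relc_10_5 : fixPtsF W_10 630 45450 = true := by decide +kernel

set_option maxRecDepth 1000000 in
theorem relc_12_5 : fixPtsF W_12 630 45450 = true := by decide +kernel

end Cfsg.Agent.Helper5.L34DTC
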