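import Cfsg.Agent.Helper5.L34DTCDatD
import Cfsg.Agent.Helper5.L34DTCDatT
import Cfsg.Agent.Helper5.TCIB

/-! kernel checks of the coset table: L34DTC -/

set_option autoImplicit false
set_option Elab.async false

namespace Cfsg.Agent.Helper5.L34DTC
open Cfsg.Agent.Helper5.TC Cfsg.Agent.Helper5.TCI

set_option maxRecDepth 1000000 in
theorem relc_1_0 : fixPtsF W_1 46080 0 = true := by decide +kernel

set_option maxRecDepth 1000000 in
theorem relc_7_1 : fixPtsF W_7 10000 10000 = true := by decide +kernel

set_option maxRecDepth 1000000 in
theorem relc_9_1 : fixPtsF W_9 10000 10000 = true := by decide +kernel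

set_option maxRecDepth 1000000 in
theorem relc_11_0 : fixPtsF W_11 9090 0 = true := by decide +kernel

set_option maxRecDepth 1000000 in
theorem relc_12_3 : fixPtsF W_12 9090 27270 = true := by decide +kernel

set_option maxRecDepth 1000000 in
theorem relc_14_1 : fixPtsF W_14 7692 7692 = true := by decide +kernel

set_option maxRecDepth 1000000 in
theorem relc_15_2 : fixPtsF W_15 7692 15384 = true := by decide +kernel

set_option maxRecDepth 1000000 in
theorem relc_17_0 : fixPtsF W_17 7692 0 = true := by decide +kernel

set_option maxRecDepth 1000000 in
theorem relc_18_3 : fixPtsF W_18 7692 23076 = true := by decide +kernel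

set_option maxRecDepth 1000000 in
theorem relc_20_1 : fixPtsF W_20 7692 7692 = true := by decide +kernel

set_option maxRecDepth 1000000 in
theorem relc_21_4 : fixPtsF W_21 7692 30768 = true := by decide +kernel

set_option maxRecDepth 1000000 in
theorem relc_23_3 : fixPtsF W_23 7142 21426 = true := by decide +kernel

set_option maxRecDepth 1000000 in
theorem relc_24_5 : fixPtsF W_24 7142 35710 = true := by decide +kernel

set_option maxRecDepth 1000000 in
theorem relc_26_1 : fixPtsF W_26 7142 7142 = true := by decide +kernel

set_option maxRecDepth 1000000 in
theorem relc_27_3 : fixPtsF W_27 7142 21426 = true := by decide +kernel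

set_option maxRecDepth 1000000 in
theorem relc_28_5 : fixPtsF W_28 7142 35710 = true := by decide +kernel

set_option maxRecDepth 1000000 in
theorem relc_30_1 : fixPtsF W_30 7142 7142 = true := by decide +kernel

set_option maxRecDepth 1000000 in
theorem relc_31_3 : fixPtsF W_31 7142 21426 = true := by decide +kernel

set_option maxRecDepth 1000000 in
theorem relc_32_5 : fixPtsF W_32 7142 35710 = true := by decide +kernel

set_option maxRecDepth 1000000 in
theorem relc_34_1 : fixPtsF W_34 7142 7142 = true := by decide +kernel

set_option maxRecDepth 1000000 in
theorem relc_35_3 : fixPtsF W_35 7142 21426 = true := by decide +kernel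

set_option maxRecDepth 1000000 in
theorem relc_36_5 : fixPtsF W_36 7142 35710 = true := by decide +kernel

set_option maxRecDepth 1000000 in
theorem relc_15_5 : fixPtsF W_15 7620 38460 = true := by decide +kernel

set_option maxRecDepth 1000000 in
theorem relc_38_1 : fixPtsF W_38 2777 2777 = true := by decide +kernel

set_option maxRecDepth 1000000 in
theorem relc_38_7 : fixPtsF W_38 2777 19439 = true := by decide +kernel

set_option maxRecDepth 1000000 in
theorem relc_38_15 : fixPtsF W_38 2777 41655 = true := by decide +kernel

set_option maxRecDepth 1000000 in
theorem relc_39_7 : fixPtsF W_39 2777 19439 = true := by decide +kernel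

set_option maxRecDepth 1000000 in
theorem relc_39_15 : fixPtsF W_39 2777 41655 = true := by decide +kernel

set_option maxRecDepth 1000000 in
theorem relc_40_7 : fixPtsF W_40 2500 17500 = true := by decide +kernel

set_option maxRecDepth 1000000 in
theorem relc_40_15 : fixPtsF W_40 2500 37500 = true := by decide +kernel

set_option maxRecDepth 1000000 in
theorem relc_41_5 : fixPtsF W_41 2500 12500 = true := by decide +kernel

set_option maxRecDepth 1000000 in
theorem relc_41_13 : fixPtsF W_41 2500 32500 = true := by decide +kernel

set_option maxRecDepth 1000000 in
theorem relc_42_3 : fixPtsF W_42 2083 6249 = true := by decide +kernel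

set_option maxRecDepth 1000000 in
theorem relc_42_11 : fixPtsF W_42 2083 22913 = true := by decide +kernel

set_option maxRecDepth 1000000 in
theorem relc_42_19 : fixPtsF W_42 2083 39577 = true := by decide +kernel

set_option maxRecDepth 1000000 in
theorem relc_43_5 : fixPtsF W_43 2083 10415 = true := by decide +kernel

set_option maxRecDepth 1000000 in
theorem relc_43_13 : fixPtsF W_43 2083 27079 = true := by decide +kernel

set_option maxRecDepth 1000000 in
theorem relc_43_21 : fixPtsF W_43 2083 43743 = true := by decide +kernel

set_option maxRecDepth 1000000 in
theorem relc_44_7 : fixPtsF W_44 2083 14581 = true := by decide +kernel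

set_option maxRecDepth 1000000 in
theorem relc_44_15 : fixPtsF W_44 2083 31245 = true := by decide +kernel

set_option maxRecDepth 1000000 in
theorem relc_45_1 : fixPtsF W_45 2083 2083 = true := by decide +kernel

set_option maxRecDepth 1000000 in
theorem relc_45_9 : fixPtsF W_45 2083 18747 = true := by decide +kernel

set_option maxRecDepth 1000000 in
theorem relc_45_17 : fixPtsF W_45 2083 35411 = true := by decide +kernel

set_option maxRecDepth 1000000 in
theorem relc_46_3 : fixPtsF W_46 1923 5769 = true := by decide +kernel

set_option maxRecDepth 1000000 in
theorem relc_46_11 : fixPtsF W_46 1923 21153 = true := by decide +kernel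

set_option maxRecDepth 1000000 in
theorem relc_46_19 : fixPtsF W_46 1923 36537 = true := by decide +kernel

set_option maxRecDepth 1000000 in
theorem relc_47_4 : fixPtsF W_47 1923 7692 = true := by decide +kernel

set_option maxRecDepth 1000000 in
theorem relc_47_12 : fixPtsF W_47 1923 23076 = true := by decide +kernel

set_option maxRecDepth 1000000 in
theorem relc_47_20 : fixPtsF W_47 1923 38460 = true := by decide +kernel

set_option maxRecDepth 1000000 in
theorem relc_48_5 : fixPtsF W_48 1923 9615 = true := by decide +kernel

set_option maxRecDepth 1000000 in
theorem relc_48_13 : fixPtsF W_48 1923 24999 = true := by decide +kernel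

set_option maxRecDepth 1000000 in
theorem relc_48_21 : fixPtsF W_48 1923 40383 = true := by decide +kernel

set_option maxRecDepth 1000000 in
theorem relc_49_6 : fixPtsF W_49 1923 11538 = true := by decide +kernel

set_option maxRecDepth 1000000 in
theorem relc_49_14 : fixPtsF W_49 1923 26922 = true := by decide +kernel

set_option maxRecDepth 1000000 in
theorem relc_49_22 : fixPtsF W_49 1923 42306 = true := by decide +kernel

set_option maxRecDepth 1000000 in
theorem relc_50_7 : fixPtsF W_50 1923 13461 = true := by decide +kernel

set_option maxRecDepth 1000000 in
theorem relc_50_15 : fixPtsF W_50 1923 28845 = true := by decide +kernel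

set_option maxRecDepth 1000000 in
theorem relc_51_0 : fixPtsF W_51 1923 0 = true := by decide +kernel

set_option maxRecDepth 1000000 in
theorem relc_51_8 : fixPtsF W_51 1923 15384 = true := by decide +kernel

set_option maxRecDepth 1000000 in
theorem relc_51_16 : fixPtsF W_51 1923 30768 = true := by decide +kernel

set_option maxRecDepth 1000000 in
theorem relc_52_1 : fixPtsF W_52 1923 1923 = true := by decide +kernel

set_option maxRecDepth 1000000 in
theorem relc_52_9 : fixPtsF W_52 1923 17307 = true := by decide +kernel

set_option maxRecDepth 1000000 in
theorem relc_52_17 : fixPtsF W_52 1923 32691 = true := by decide +kernel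

set_option maxRecDepth 1000000 in
theorem relc_53_2 : fixPtsF W_53 1923 3846 = true := by decide +kernel

set_option maxRecDepth 1000000 in
theorem relc_53_10 : fixPtsF W_53 1923 19230 = true := by decide +kernel

set_option maxRecDepth 1000000 in
theorem relc_53_18 : fixPtsF W_53 1923 34614 = true := by decide +kernel

set_option maxRecDepth 1000000 in
theorem relc_49_23 : fixPtsF W_49 1851 44229 = true := by decide +kernel

set_option maxRecDepth 1000000 in
theorem relc_7_4 : fixPtsF W_7 6080 40000 = true := by decide +kernel

set_option maxRecDepth 1000000 in
theorem relc_39_16 : fixPtsF W_39 1648 44432 = true := by decide +kernel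

set_option maxRecDepth 1000000 in
theorem relc_35_6 : fixPtsF W_35 3228 42852 = true := by decide +kernel

set_option maxRecDepth 1000000 in
theorem relc_44_22 : fixPtsF W_44 254 45826 = true := by decide +kernel

set_option maxRecDepth 1000000 in
theorem relc_11_5 : fixPtsF W_11 630 45450 = true := by decide +kernel

set_option maxRecDepth 1000000 in
theorem relc_13_5 : fixPtsF W_13 630 45450 = true := by decide +kernel

end Cfsg.Agent.Helper5.L34DTC
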