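import Cfsg.Agent.Helper5.L34DTCDatD
import Cfsg.Agent.Helper5.L34DTCDatT
import Cfsg.Agent.Helper5.TCIB

/-! kernel checks of the coset table: L34DTC -/

set_option autoImplicit false
set_option Elab.async false

namespace Cfsg.Agent.Helper5.L34DTC
open Cfsg.Agent.Helper5.TC Cfsg.Agent.Helper5.TCI

set_option maxRecDepth 1000000 in
theorem relc_3_0 : fixPtsF W_3 46080 0 = true := by decide +kernel

set_option maxRecDepth 1000000 in
theorem relc_7_2 : fixPtsF W_7 10000 20000 = true := by decide +kernel

set_option maxRecDepth 1000000 in
theorem relc_9_2 : fixPtsF W_9 10000 20000 = true := by decide +kernel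

set_option maxRecDepth 1000000 in
theorem relc_11_1 : fixPtsF W_11 9090 9090 = true := by decide +kernel

set_option maxRecDepth 1000000 in
theorem relc_12_4 : fixPtsF W_12 9090 36360 = true := by decide +kernel

set_option maxRecDepth 1000000 in
theorem relc_14_2 : fixPtsF W_14 7692 15384 = true := by decide +kernel

set_option maxRecDepth 1000000 in
theorem relc_15_3 : fixPtsF W_15 7692 23076 = true := by decide +kernel

set_option maxRecDepth 1000000 in
theorem relc_17_1 : fixPtsF W_17 7692 7692 = true := by decide +kernel

set_option maxRecDepth 1000000 in
theorem relc_18_4 : fixPtsF W_18 7692 30768 = true := by decide +kernel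

set_option maxRecDepth 1000000 in
theorem relc_20_2 : fixPtsF W_20 7692 15384 = true := by decide +kernel

set_option maxRecDepth 1000000 in
theorem relc_22_0 : fixPtsF W_22 7142 0 = true := by decide +kernel

set_option maxRecDepth 1000000 in
theorem relc_23_0 : fixPtsF W_23 7142 0 = true := by decide +kernel

set_option maxRecDepth 1000000 in
theorem relc_24_2 : fixPtsF W_24 7142 14284 = true := by decide +kernel

set_option maxRecDepth 1000000 in
theorem relc_25_4 : fixPtsF W_25 7142 28568 = true := by decide +kernel

set_option maxRecDepth 1000000 in
theorem relc_27_0 : fixPtsF W_27 7142 0 = true := by decide +kernel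

set_option maxRecDepth 1000000 in
theorem relc_28_2 : fixPtsF W_28 7142 14284 = true := by decide +kernel

set_option maxRecDepth 1000000 in
theorem relc_29_4 : fixPtsF W_29 7142 28568 = true := by decide +kernel

set_option maxRecDepth 1000000 in
theorem relc_31_0 : fixPtsF W_31 7142 0 = true := by decide +kernel

set_option maxRecDepth 1000000 in
theorem relc_32_2 : fixPtsF W_32 7142 14284 = true := by decide +kernel

set_option maxRecDepth 1000000 in
theorem relc_33_4 : fixPtsF W_33 7142 28568 = true := by decide +kernel

set_option maxRecDepth 1000000 in
theorem relc_35_0 : fixPtsF W_35 7142 0 = true := by decide +kernel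

set_option maxRecDepth 1000000 in
theorem relc_36_2 : fixPtsF W_36 7142 14284 = true := by decide +kernel

set_option maxRecDepth 1000000 in
theorem relc_37_4 : fixPtsF W_37 7142 28568 = true := by decide +kernel

set_option maxRecDepth 1000000 in
theorem relc_20_5 : fixPtsF W_20 7620 38460 = true := by decide +kernel

set_option maxRecDepth 1000000 in
theorem relc_38_10 : fixPtsF W_38 2777 27770 = true := by decide +kernel

set_option maxRecDepth 1000000 in
theorem relc_39_2 : fixPtsF W_39 2777 5554 = true := by decide +kernel

set_option maxRecDepth 1000000 in
theorem relc_39_10 : fixPtsF W_39 2777 27770 = true := by decide +kernel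

set_option maxRecDepth 1000000 in
theorem relc_40_2 : fixPtsF W_40 2500 5000 = true := by decide +kernel

set_option maxRecDepth 1000000 in
theorem relc_40_10 : fixPtsF W_40 2500 25000 = true := by decide +kernel

set_option maxRecDepth 1000000 in
theorem relc_41_0 : fixPtsF W_41 2500 0 = true := by decide +kernel

set_option maxRecDepth 1000000 in
theorem relc_41_8 : fixPtsF W_41 2500 20000 = true := by decide +kernel

set_option maxRecDepth 1000000 in
theorem relc_41_16 : fixPtsF W_41 2500 40000 = true := by decide +kernel

set_option maxRecDepth 1000000 in
theorem relc_42_6 : fixPtsF W_42 2083 12498 = true := by decide +kernel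

set_option maxRecDepth 1000000 in
theorem relc_42_14 : fixPtsF W_42 2083 29162 = true := by decide +kernel

set_option maxRecDepth 1000000 in
theorem relc_43_0 : fixPtsF W_43 2083 0 = true := by decide +kernel

set_option maxRecDepth 1000000 in
theorem relc_43_8 : fixPtsF W_43 2083 16664 = true := by decide +kernel

set_option maxRecDepth 1000000 in
theorem relc_43_16 : fixPtsF W_43 2083 33328 = true := by decide +kernel

set_option maxRecDepth 1000000 in
theorem relc_44_2 : fixPtsF W_44 2083 4166 = true := by decide +kernel

set_option maxRecDepth 1000000 in
theorem relc_44_10 : fixPtsF W_44 2083 20830 = true := by decide +kernel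

set_option maxRecDepth 1000000 in
theorem relc_44_18 : fixPtsF W_44 2083 37494 = true := by decide +kernel

set_option maxRecDepth 1000000 in
theorem relc_45_4 : fixPtsF W_45 2083 8332 = true := by decide +kernel

set_option maxRecDepth 1000000 in
theorem relc_45_12 : fixPtsF W_45 2083 24996 = true := by decide +kernel

set_option maxRecDepth 1000000 in
theorem relc_45_20 : fixPtsF W_45 2083 41660 = true := by decide +kernel

set_option maxRecDepth 1000000 in
theorem relc_46_6 : fixPtsF W_46 1923 11538 = true := by decide +kernel

set_option maxRecDepth 1000000 in
theorem relc_46_14 : fixPtsF W_46 1923 26922 = true := by decide +kernel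

set_option maxRecDepth 1000000 in
theorem relc_46_22 : fixPtsF W_46 1923 42306 = true := by decide +kernel

set_option maxRecDepth 1000000 in
theorem relc_47_7 : fixPtsF W_47 1923 13461 = true := by decide +kernel

set_option maxRecDepth 1000000 in
theorem relc_47_15 : fixPtsF W_47 1923 28845 = true := by decide +kernel

set_option maxRecDepth 1000000 in
theorem relc_48_0 : fixPtsF W_48 1923 0 = true := by decide +kernel

set_option maxRecDepth 1000000 in
theorem relc_48_8 : fixPtsF W_48 1923 15384 = true := by decide +kernel

set_option maxRecDepth 1000000 in
theorem relc_48_16 : fixPtsF W_48 1923 30768 = true := by decide +kernel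

set_option maxRecDepth 1000000 in
theorem relc_49_1 : fixPtsF W_49 1923 1923 = true := by decide +kernel

set_option maxRecDepth 1000000 in
theorem relc_49_9 : fixPtsF W_49 1923 17307 = true := by decide +kernel

set_option maxRecDepth 1000000 in
theorem relc_49_17 : fixPtsF W_49 1923 32691 = true := by decide +kernel

set_option maxRecDepth 1000000 in
theorem relc_50_2 : fixPtsF W_50 1923 3846 = true := by decide +kernel

set_option maxRecDepth 1000000 in
theorem relc_50_10 : fixPtsF W_50 1923 19230 = true := by decide +kernel

set_option maxRecDepth 1000000 in
theorem relc_50_18 : fixPtsF W_50 1923 34614 = true := by decide +kernel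

set_option maxRecDepth 1000000 in
theorem relc_51_3 : fixPtsF W_51 1923 5769 = true := by decide +kernel

set_option maxRecDepth 1000000 in
theorem relc_51_11 : fixPtsF W_51 1923 21153 = true := by decide +kernel

set_option maxRecDepth 1000000 in
theorem relc_51_19 : fixPtsF W_51 1923 36537 = true := by decide +kernel

set_option maxRecDepth 1000000 in
theorem relc_52_4 : fixPtsF W_52 1923 7692 = true := by decide +kernel

set_option maxRecDepth 1000000 in
theorem relc_52_12 : fixPtsF W_52 1923 23076 = true := by decide +kernel

set_option maxRecDepth 1000000 in
theorem relc_52_20 : fixPtsF W_52 1923 38460 = true := by decide +kernel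

set_option maxRecDepth 1000000 in
theorem relc_53_5 : fixPtsF W_53 1923 9615 = true := by decide +kernel

set_option maxRecDepth 1000000 in
theorem relc_53_13 : fixPtsF W_53 1923 24999 = true := by decide +kernel

set_option maxRecDepth 1000000 in
theorem relc_53_21 : fixPtsF W_53 1923 40383 = true := by decide +kernel

set_option maxRecDepth 1000000 in
theorem relc_52_23 : fixPtsF W_52 1851 44229 = true := by decide +kernel

set_option maxRecDepth 1000000 in
theorem inv_0_0 : invRowFI ctF 46080 0 1 46080 0 = true := by decide +kernel

set_option maxRecDepth 1000000 in
theorem relc_24_6 : fixPtsF W_24 3228 42852 = true := by decide +kernel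

set_option maxRecDepth 1000000 in
theorem relc_30_6 : fixPtsF W_30 3228 42852 = true := by decide +kernel

set_option maxRecDepth 1000000 in
theorem conn_0 : connF ctF 4 46080 0 = true := by decide +kernel

end Cfsg.Agent.Helper5.L34DTC
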