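import Cfsg.Agent.Helper5.L34DTCDatD
import Cfsg.Agent.Helper5.L34DTCDatT
import Cfsg.Agent.Helper5.TCIB

/-! kernel checks of the coset table: L34DTC -/

set_option autoImplicit false
set_option Elab.async false

namespace Cfsg.Agent.Helper5.L34DTC
open Cfsg.Agent.Helper5.TC Cfsg.Agent.Helper5.TCI

set_option maxRecDepth 1000000 in
theorem relc_4_0 : fixPtsF W_4 46080 0 = true := by decide +kernel

set_option maxRecDepth 1000000 in
theorem relc_7_3 : fixPtsF W_7 10000 30000 = true := by decide +kernel

set_option maxRecDepth 1000000 in
theorem relc_9_3 : fixPtsF W_9 10000 30000 = true := by decide +kernel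

set_option maxRecDepth 1000000 in
theorem relc_11_2 : fixPtsF W_11 9090 18180 = true := by decide +kernel

set_option maxRecDepth 1000000 in
theorem relc_13_0 : fixPtsF W_13 9090 0 = true := by decide +kernel

set_option maxRecDepth 1000000 in
theorem relc_14_3 : fixPtsF W_14 7692 23076 = true := by decide +kernel

set_option maxRecDepth 1000000 in
theorem relc_15_4 : fixPtsF W_15 7692 30768 = true := by decide +kernel

set_option maxRecDepth 1000000 in
theorem relc_17_2 : fixPtsF W_17 7692 15384 = true := by decide +kernel

set_option maxRecDepth 1000000 in
theorem relc_19_0 : fixPtsF W_19 7692 0 = true := by decide +kernel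

set_option maxRecDepth 1000000 in
theorem relc_20_3 : fixPtsF W_20 7692 23076 = true := by decide +kernel

set_option maxRecDepth 1000000 in
theorem relc_22_1 : fixPtsF W_22 7142 7142 = true := by decide +kernel

set_option maxRecDepth 1000000 in
theorem relc_23_1 : fixPtsF W_23 7142 7142 = true := by decide +kernel

set_option maxRecDepth 1000000 in
theorem relc_24_3 : fixPtsF W_24 7142 21426 = true := by decide +kernel

set_option maxRecDepth 1000000 in
theorem relc_25_5 : fixPtsF W_25 7142 35710 = true := by decide +kernel

set_option maxRecDepth 1000000 in
theorem relc_27_1 : fixPtsF W_27 7142 7142 = true := by decide +kernel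

set_option maxRecDepth 1000000 in
theorem relc_28_3 : fixPtsF W_28 7142 21426 = true := by decide +kernel

set_option maxRecDepth 1000000 in
theorem relc_29_5 : fixPtsF W_29 7142 35710 = true := by decide +kernel

set_option maxRecDepth 1000000 in
theorem relc_31_1 : fixPtsF W_31 7142 7142 = true := by decide +kernel

set_option maxRecDepth 1000000 in
theorem relc_32_3 : fixPtsF W_32 7142 21426 = true := by decide +kernel

set_option maxRecDepth 1000000 in
theorem relc_33_5 : fixPtsF W_33 7142 35710 = true := by decide +kernel

set_option maxRecDepth 1000000 in
theorem relc_35_1 : fixPtsF W_35 7142 7142 = true := by decide +kernel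

set_option maxRecDepth 1000000 in
theorem relc_36_3 : fixPtsF W_36 7142 21426 = true := by decide +kernel

set_option maxRecDepth 1000000 in
theorem relc_37_5 : fixPtsF W_37 7142 35710 = true := by decide +kernel

set_option maxRecDepth 1000000 in
theorem relc_21_5 : fixPtsF W_21 7620 38460 = true := by decide +kernel

set_option maxRecDepth 1000000 in
theorem relc_38_11 : fixPtsF W_38 2777 30547 = true := by decide +kernel

set_option maxRecDepth 1000000 in
theorem relc_39_3 : fixPtsF W_39 2777 8331 = true := by decide +kernel

set_option maxRecDepth 1000000 in
theorem relc_39_11 : fixPtsF W_39 2777 30547 = true := by decide +kernel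

set_option maxRecDepth 1000000 in
theorem relc_40_3 : fixPtsF W_40 2500 7500 = true := by decide +kernel

set_option maxRecDepth 1000000 in
theorem relc_40_11 : fixPtsF W_40 2500 27500 = true := by decide +kernel

set_option maxRecDepth 1000000 in
theorem relc_41_1 : fixPtsF W_41 2500 2500 = true := by decide +kernel

set_option maxRecDepth 1000000 in
theorem relc_41_9 : fixPtsF W_41 2500 22500 = true := by decide +kernel

set_option maxRecDepth 1000000 in
theorem relc_41_17 : fixPtsF W_41 2500 42500 = true := by decide +kernel

set_option maxRecDepth 1000000 in
theorem relc_42_7 : fixPtsF W_42 2083 14581 = true := by decide +kernel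

set_option maxRecDepth 1000000 in
theorem relc_42_15 : fixPtsF W_42 2083 31245 = true := by decide +kernel

set_option maxRecDepth 1000000 in
theorem relc_43_1 : fixPtsF W_43 2083 2083 = true := by decide +kernel

set_option maxRecDepth 1000000 in
theorem relc_43_9 : fixPtsF W_43 2083 18747 = true := by decide +kernel

set_option maxRecDepth 1000000 in
theorem relc_43_17 : fixPtsF W_43 2083 35411 = true := by decide +kernel

set_option maxRecDepth 1000000 in
theorem relc_44_3 : fixPtsF W_44 2083 6249 = true := by decide +kernel

set_option maxRecDepth 1000000 in
theorem relc_44_11 : fixPtsF W_44 2083 22913 = true := by decide +kernel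

set_option maxRecDepth 1000000 in
theorem relc_44_19 : fixPtsF W_44 2083 39577 = true := by decide +kernel

set_option maxRecDepth 1000000 in
theorem relc_45_5 : fixPtsF W_45 2083 10415 = true := by decide +kernel

set_option maxRecDepth 1000000 in
theorem relc_45_13 : fixPtsF W_45 2083 27079 = true := by decide +kernel

set_option maxRecDepth 1000000 in
theorem relc_45_21 : fixPtsF W_45 2083 43743 = true := by decide +kernel

set_option maxRecDepth 1000000 in
theorem relc_46_7 : fixPtsF W_46 1923 13461 = true := by decide +kernel

set_option maxRecDepth 1000000 in
theorem relc_46_15 : fixPtsF W_46 1923 28845 = true := by decide +kernel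

set_option maxRecDepth 1000000 in
theorem relc_47_0 : fixPtsF W_47 1923 0 = true := by decide +kernel

set_option maxRecDepth 1000000 in
theorem relc_47_8 : fixPtsF W_47 1923 15384 = true := by decide +kernel

set_option maxRecDepth 1000000 in
theorem relc_47_16 : fixPtsF W_47 1923 30768 = true := by decide +kernel

set_option maxRecDepth 1000000 in
theorem relc_48_1 : fixPtsF W_48 1923 1923 = true := by decide +kernel

set_option maxRecDepth 1000000 in
theorem relc_48_9 : fixPtsF W_48 1923 17307 = true := by decide +kernel

set_option maxRecDepth 1000000 in
theorem relc_48_17 : fixPtsF W_48 1923 32691 = true := by decide +kernel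

set_option maxRecDepth 1000000 in
theorem relc_49_2 : fixPtsF W_49 1923 3846 = true := by decide +kernel

set_option maxRecDepth 1000000 in
theorem relc_49_10 : fixPtsF W_49 1923 19230 = true := by decide +kernel

set_option maxRecDepth 1000000 in
theorem relc_49_18 : fixPtsF W_49 1923 34614 = true := by decide +kernel

set_option maxRecDepth 1000000 in
theorem relc_50_3 : fixPtsF W_50 1923 5769 = true := by decide +kernel

set_option maxRecDepth 1000000 in
theorem relc_50_11 : fixPtsF W_50 1923 21153 = true := by decide +kernel

set_option maxRecDepth 1000000 in
theorem relc_50_19 : fixPtsF W_50 1923 36537 = true := by decide +kernel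

set_option maxRecDepth 1000000 in
theorem relc_51_4 : fixPtsF W_51 1923 7692 = true := by decide +kernel

set_option maxRecDepth 1000000 in
theorem relc_51_12 : fixPtsF W_51 1923 23076 = true := by decide +kernel

set_option maxRecDepth 1000000 in
theorem relc_51_20 : fixPtsF W_51 1923 38460 = true := by decide +kernel

set_option maxRecDepth 1000000 in
theorem relc_52_5 : fixPtsF W_52 1923 9615 = true := by decide +kernel

set_option maxRecDepth 1000000 in
theorem relc_52_13 : fixPtsF W_52 1923 24999 = true := by decide +kernel

set_option maxRecDepth 1000000 in
theorem relc_52_21 : fixPtsF W_52 1923 40383 = true := by decide +kernel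

set_option maxRecDepth 1000000 in
theorem relc_53_6 : fixPtsF W_53 1923 11538 = true := by decide +kernel

set_option maxRecDepth 1000000 in
theorem relc_53_14 : fixPtsF W_53 1923 26922 = true := by decide +kernel

set_option maxRecDepth 1000000 in
theorem relc_53_22 : fixPtsF W_53 1923 42306 = true := by decide +kernel

set_option maxRecDepth 1000000 in
theorem relc_53_23 : fixPtsF W_53 1851 44229 = true := by decide +kernel

set_option maxRecDepth 1000000 in
theorem inv_1_0 : invRowFI ctF 46080 1 0 46080 0 = true := by decide +kernel

set_option maxRecDepth 1000000 in
theorem relc_25_6 : fixPtsF W_25 3228 42852 = true := by decide +kernel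

set_option maxRecDepth 1000000 in
theorem relc_31_6 : fixPtsF W_31 3228 42852 = true := by decide +kernel

set_option maxRecDepth 1000000 in
theorem relc_40_18 : fixPtsF W_40 1080 45000 = true := by decide +kernel

end Cfsg.Agent.Helper5.L34DTC
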