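import Cfsg.Agent.Helper5.L34DTCDatD
import Cfsg.Agent.Helper5.L34DTCDatT
import Cfsg.Agent.Helper5.TCIB

/-! kernel checks of the coset table: L34DTC -/

set_option autoImplicit false
set_option Elab.async false

namespace Cfsg.Agent.Helper5.L34DTC
open Cfsg.Agent.Helper5.TC Cfsg.Agent.Helper5.TCI

set_option maxRecDepth 1000000 in
theorem relc_6_0 : fixPtsF W_6 10000 0 = true := by decide +kernel

set_option maxRecDepth 1000000 in
theorem relc_6_2 : fixPtsF W_6 10000 20000 = true := by decide +kernel

set_option maxRecDepth 1000000 in
theorem relc_8_2 : fixPtsF W_8 10000 20000 = true := by decide +kernel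

set_option maxRecDepth 1000000 in
theorem relc_10_2 : fixPtsF W_10 9090 18180 = true := by decide +kernel

set_option maxRecDepth 1000000 in
theorem relc_12_0 : fixPtsF W_12 9090 0 = true := by decide +kernel

set_option maxRecDepth 1000000 in
theorem relc_13_3 : fixPtsF W_13 9090 27270 = true := by decide +kernel

set_option maxRecDepth 1000000 in
theorem relc_16_0 : fixPtsF W_16 7692 0 = true := by decide +kernel

set_option maxRecDepth 1000000 in
theorem relc_17_3 : fixPtsF W_17 7692 23076 = true := by decide +kernel

set_option maxRecDepth 1000000 in
theorem relc_19_1 : fixPtsF W_19 7692 7692 = true := by decide +kernel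

set_option maxRecDepth 1000000 in
theorem relc_20_4 : fixPtsF W_20 7692 30768 = true := by decide +kernel

set_option maxRecDepth 1000000 in
theorem relc_22_2 : fixPtsF W_22 7142 14284 = true := by decide +kernel

set_option maxRecDepth 1000000 in
theorem relc_23_4 : fixPtsF W_23 7142 28568 = true := by decide +kernel

set_option maxRecDepth 1000000 in
theorem relc_25_0 : fixPtsF W_25 7142 0 = true := by decide +kernel

set_option maxRecDepth 1000000 in
theorem relc_26_2 : fixPtsF W_26 7142 14284 = true := by decide +kernel

set_option maxRecDepth 1000000 in
theorem relc_27_4 : fixPtsF W_27 7142 28568 = true := by decide +kernel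

set_option maxRecDepth 1000000 in
theorem relc_29_0 : fixPtsF W_29 7142 0 = true := by decide +kernel

set_option maxRecDepth 1000000 in
theorem relc_30_2 : fixPtsF W_30 7142 14284 = true := by decide +kernel

set_option maxRecDepth 1000000 in
theorem relc_31_4 : fixPtsF W_31 7142 28568 = true := by decide +kernel

set_option maxRecDepth 1000000 in
theorem relc_33_0 : fixPtsF W_33 7142 0 = true := by decide +kernel

set_option maxRecDepth 1000000 in
theorem relc_34_2 : fixPtsF W_34 7142 14284 = true := by decide +kernel

set_option maxRecDepth 1000000 in
theorem relc_35_4 : fixPtsF W_35 7142 28568 = true := by decide +kernel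

set_option maxRecDepth 1000000 in
theorem relc_37_0 : fixPtsF W_37 7142 0 = true := by decide +kernel

set_option maxRecDepth 1000000 in
theorem relc_16_5 : fixPtsF W_16 7620 38460 = true := by decide +kernel

set_option maxRecDepth 1000000 in
theorem relc_38_2 : fixPtsF W_38 2777 5554 = true := by decide +kernel

set_option maxRecDepth 1000000 in
theorem relc_38_8 : fixPtsF W_38 2777 22216 = true := by decide +kernel

set_option maxRecDepth 1000000 in
theorem relc_39_0 : fixPtsF W_39 2777 0 = true := by decide +kernel

set_option maxRecDepth 1000000 in
theorem relc_39_8 : fixPtsF W_39 2777 22216 = true := by decide +kernel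

set_option maxRecDepth 1000000 in
theorem relc_40_0 : fixPtsF W_40 2500 0 = true := by decide +kernel

set_option maxRecDepth 1000000 in
theorem relc_40_8 : fixPtsF W_40 2500 20000 = true := by decide +kernel

set_option maxRecDepth 1000000 in
theorem relc_40_16 : fixPtsF W_40 2500 40000 = true := by decide +kernel

set_option maxRecDepth 1000000 in
theorem relc_41_6 : fixPtsF W_41 2500 15000 = true := by decide +kernel

set_option maxRecDepth 1000000 in
theorem relc_41_14 : fixPtsF W_41 2500 35000 = true := by decide +kernel

set_option maxRecDepth 1000000 in
theorem relc_42_4 : fixPtsF W_42 2083 8332 = true := by decide +kernel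

set_option maxRecDepth 1000000 in
theorem relc_42_12 : fixPtsF W_42 2083 24996 = true := by decide +kernel

set_option maxRecDepth 1000000 in
theorem relc_42_20 : fixPtsF W_42 2083 41660 = true := by decide +kernel

set_option maxRecDepth 1000000 in
theorem relc_43_6 : fixPtsF W_43 2083 12498 = true := by decide +kernel

set_option maxRecDepth 1000000 in
theorem relc_43_14 : fixPtsF W_43 2083 29162 = true := by decide +kernel

set_option maxRecDepth 1000000 in
theorem relc_44_0 : fixPtsF W_44 2083 0 = true := by decide +kernel

set_option maxRecDepth 1000000 in
theorem relc_44_8 : fixPtsF W_44 2083 16664 = true := by decide +kernel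

set_option maxRecDepth 1000000 in
theorem relc_44_16 : fixPtsF W_44 2083 33328 = true := by decide +kernel

set_option maxRecDepth 1000000 in
theorem relc_45_2 : fixPtsF W_45 2083 4166 = true := by decide +kernel

set_option maxRecDepth 1000000 in
theorem relc_45_10 : fixPtsF W_45 2083 20830 = true := by decide +kernel

set_option maxRecDepth 1000000 in
theorem relc_45_18 : fixPtsF W_45 2083 37494 = true := by decide +kernel

set_option maxRecDepth 1000000 in
theorem relc_46_4 : fixPtsF W_46 1923 7692 = true := by decide +kernel

set_option maxRecDepth 1000000 in
theorem relc_46_12 : fixPtsF W_46 1923 23076 = true := by decide +kernel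

set_option maxRecDepth 1000000 in
theorem relc_46_20 : fixPtsF W_46 1923 38460 = true := by decide +kernel

set_option maxRecDepth 1000000 in
theorem relc_47_5 : fixPtsF W_47 1923 9615 = true := by decide +kernel

set_option maxRecDepth 1000000 in
theorem relc_47_13 : fixPtsF W_47 1923 24999 = true := by decide +kernel

set_option maxRecDepth 1000000 in
theorem relc_47_21 : fixPtsF W_47 1923 40383 = true := by decide +kernel

set_option maxRecDepth 1000000 in
theorem relc_48_6 : fixPtsF W_48 1923 11538 = true := by decide +kernel

set_option maxRecDepth 1000000 in
theorem relc_48_14 : fixPtsF W_48 1923 26922 = true := by decide +kernel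

set_option maxRecDepth 1000000 in
theorem relc_48_22 : fixPtsF W_48 1923 42306 = true := by decide +kernel

set_option maxRecDepth 1000000 in
theorem relc_49_7 : fixPtsF W_49 1923 13461 = true := by decide +kernel

set_option maxRecDepth 1000000 in
theorem relc_49_15 : fixPtsF W_49 1923 28845 = true := by decide +kernel

set_option maxRecDepth 1000000 in
theorem relc_50_0 : fixPtsF W_50 1923 0 = true := by decide +kernel

set_option maxRecDepth 1000000 in
theorem relc_50_8 : fixPtsF W_50 1923 15384 = true := by decide +kernel

set_option maxRecDepth 1000000 in
theorem relc_50_16 : fixPtsF W_50 1923 30768 = true := by decide +kernel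

set_option maxRecDepth 1000000 in
theorem relc_51_1 : fixPtsF W_51 1923 1923 = true := by decide +kernel

set_option maxRecDepth 1000000 in
theorem relc_51_9 : fixPtsF W_51 1923 17307 = true := by decide +kernel

set_option maxRecDepth 1000000 in
theorem relc_51_17 : fixPtsF W_51 1923 32691 = true := by decide +kernel

set_option maxRecDepth 1000000 in
theorem relc_52_2 : fixPtsF W_52 1923 3846 = true := by decide +kernel

set_option maxRecDepth 1000000 in
theorem relc_52_10 : fixPtsF W_52 1923 19230 = true := by decide +kernel

set_option maxRecDepth 1000000 in
theorem relc_52_18 : fixPtsF W_52 1923 34614 = true := by decide +kernel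

set_option maxRecDepth 1000000 in
theorem relc_53_3 : fixPtsF W_53 1923 5769 = true := by decide +kernel

set_option maxRecDepth 1000000 in
theorem relc_53_11 : fixPtsF W_53 1923 21153 = true := by decide +kernel

set_option maxRecDepth 1000000 in
theorem relc_53_19 : fixPtsF W_53 1923 36537 = true := by decide +kernel

set_option maxRecDepth 1000000 in
theorem relc_50_23 : fixPtsF W_50 1851 44229 = true := by decide +kernel

set_option maxRecDepth 1000000 in
theorem relc_8_4 : fixPtsF W_8 6080 40000 = true := by decide +kernel

set_option maxRecDepth 1000000 in
theorem relc_22_6 : fixPtsF W_22 3228 42852 = true := by decide +kernel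

set_option maxRecDepth 1000000 in
theorem relc_28_6 : fixPtsF W_28 3228 42852 = true := by decide +kernel

set_option maxRecDepth 1000000 in
theorem relc_36_6 : fixPtsF W_36 3228 42852 = true := by decide +kernel

end Cfsg.Agent.Helper5.L34DTC
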