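import Cfsg.Agent.Helper5.L34DTCDatD
import Cfsg.Agent.Helper5.L34DTCDatT
import Cfsg.Agent.Helper5.TCIB

/-! kernel checks of the coset table: L34DTC -/

set_option autoImplicit false
set_option Elab.async false

namespace Cfsg.Agent.Helper5.L34DTC
open Cfsg.Agent.Helper5.TC Cfsg.Agent.Helper5.TCI

set_option maxRecDepth 1000000 in
theorem relc_6_1 : fixPtsF W_6 10000 10000 = true := by decide +kernel

set_option maxRecDepth 1000000 in
theorem relc_6_3 : fixPtsF W_6 10000 30000 = true := by decide +kernel

set_option maxRecDepth 1000000 in
theorem relc_8_3 : fixPtsF W_8 10000 30000 = true := by decide +kernel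

set_option maxRecDepth 1000000 in
theorem relc_10_3 : fixPtsF W_10 9090 27270 = true := by decide +kernel

set_option maxRecDepth 1000000 in
theorem relc_12_1 : fixPtsF W_12 9090 9090 = true := by decide +kernel

set_option maxRecDepth 1000000 in
theorem relc_13_4 : fixPtsF W_13 9090 36360 = true := by decide +kernel

set_option maxRecDepth 1000000 in
theorem relc_16_1 : fixPtsF W_16 7692 7692 = true := by decide +kernel

set_option maxRecDepth 1000000 in
theorem relc_17_4 : fixPtsF W_17 7692 30768 = true := by decide +kernel

set_option maxRecDepth 1000000 in
theorem relc_19_2 : fixPtsF W_19 7692 15384 = true := by decide +kernel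

set_option maxRecDepth 1000000 in
theorem relc_21_0 : fixPtsF W_21 7692 0 = true := by decide +kernel

set_option maxRecDepth 1000000 in
theorem relc_22_3 : fixPtsF W_22 7142 21426 = true := by decide +kernel

set_option maxRecDepth 1000000 in
theorem relc_23_5 : fixPtsF W_23 7142 35710 = true := by decide +kernel

set_option maxRecDepth 1000000 in
theorem relc_25_1 : fixPtsF W_25 7142 7142 = true := by decide +kernel

set_option maxRecDepth 1000000 in
theorem relc_26_3 : fixPtsF W_26 7142 21426 = true := by decide +kernel

set_option maxRecDepth 1000000 in
theorem relc_27_5 : fixPtsF W_27 7142 35710 = true := by decide +kernel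

set_option maxRecDepth 1000000 in
theorem relc_29_1 : fixPtsF W_29 7142 7142 = true := by decide +kernel

set_option maxRecDepth 1000000 in
theorem relc_30_3 : fixPtsF W_30 7142 21426 = true := by decide +kernel

set_option maxRecDepth 1000000 in
theorem relc_31_5 : fixPtsF W_31 7142 35710 = true := by decide +kernel

set_option maxRecDepth 1000000 in
theorem relc_33_1 : fixPtsF W_33 7142 7142 = true := by decide +kernel

set_option maxRecDepth 1000000 in
theorem relc_34_3 : fixPtsF W_34 7142 21426 = true := by decide +kernel

set_option maxRecDepth 1000000 in
theorem relc_35_5 : fixPtsF W_35 7142 35710 = true := by decide +kernel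

set_option maxRecDepth 1000000 in
theorem relc_37_1 : fixPtsF W_37 7142 7142 = true := by decide +kernel

set_option maxRecDepth 1000000 in
theorem relc_17_5 : fixPtsF W_17 7620 38460 = true := by decide +kernel

set_option maxRecDepth 1000000 in
theorem relc_38_3 : fixPtsF W_38 2777 8331 = true := by decide +kernel

set_option maxRecDepth 1000000 in
theorem relc_38_9 : fixPtsF W_38 2777 24993 = true := by decide +kernel

set_option maxRecDepth 1000000 in
theorem relc_39_1 : fixPtsF W_39 2777 2777 = true := by decide +kernel

set_option maxRecDepth 1000000 in
theorem relc_39_9 : fixPtsF W_39 2777 24993 = true := by decide +kernel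

set_option maxRecDepth 1000000 in
theorem relc_40_1 : fixPtsF W_40 2500 2500 = true := by decide +kernel

set_option maxRecDepth 1000000 in
theorem relc_40_9 : fixPtsF W_40 2500 22500 = true := by decide +kernel

set_option maxRecDepth 1000000 in
theorem relc_40_17 : fixPtsF W_40 2500 42500 = true := by decide +kernel

set_option maxRecDepth 1000000 in
theorem relc_41_7 : fixPtsF W_41 2500 17500 = true := by decide +kernel

set_option maxRecDepth 1000000 in
theorem relc_41_15 : fixPtsF W_41 2500 37500 = true := by decide +kernel

set_option maxRecDepth 1000000 in
theorem relc_42_5 : fixPtsF W_42 2083 10415 = true := by decide +kernel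

set_option maxRecDepth 1000000 in
theorem relc_42_13 : fixPtsF W_42 2083 27079 = true := by decide +kernel

set_option maxRecDepth 1000000 in
theorem relc_42_21 : fixPtsF W_42 2083 43743 = true := by decide +kernel

set_option maxRecDepth 1000000 in
theorem relc_43_7 : fixPtsF W_43 2083 14581 = true := by decide +kernel

set_option maxRecDepth 1000000 in
theorem relc_43_15 : fixPtsF W_43 2083 31245 = true := by decide +kernel

set_option maxRecDepth 1000000 in
theorem relc_44_1 : fixPtsF W_44 2083 2083 = true := by decide +kernel

set_option maxRecDepth 1000000 in
theorem relc_44_9 : fixPtsF W_44 2083 18747 = true := by decide +kernel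

set_option maxRecDepth 1000000 in
theorem relc_44_17 : fixPtsF W_44 2083 35411 = true := by decide +kernel

set_option maxRecDepth 1000000 in
theorem relc_45_3 : fixPtsF W_45 2083 6249 = true := by decide +kernel

set_option maxRecDepth 1000000 in
theorem relc_45_11 : fixPtsF W_45 2083 22913 = true := by decide +kernel

set_option maxRecDepth 1000000 in
theorem relc_45_19 : fixPtsF W_45 2083 39577 = true := by decide +kernel

set_option maxRecDepth 1000000 in
theorem relc_46_5 : fixPtsF W_46 1923 9615 = true := by decide +kernel

set_option maxRecDepth 1000000 in
theorem relc_46_13 : fixPtsF W_46 1923 24999 = true := by decide +kernel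

set_option maxRecDepth 1000000 in
theorem relc_46_21 : fixPtsF W_46 1923 40383 = true := by decide +kernel

set_option maxRecDepth 1000000 in
theorem relc_47_6 : fixPtsF W_47 1923 11538 = true := by decide +kernel

set_option maxRecDepth 1000000 in
theorem relc_47_14 : fixPtsF W_47 1923 26922 = true := by decide +kernel

set_option maxRecDepth 1000000 in
theorem relc_47_22 : fixPtsF W_47 1923 42306 = true := by decide +kernel

set_option maxRecDepth 1000000 in
theorem relc_48_7 : fixPtsF W_48 1923 13461 = true := by decide +kernel

set_option maxRecDepth 1000000 in
theorem relc_48_15 : fixPtsF W_48 1923 28845 = true := by decide +kernel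

set_option maxRecDepth 1000000 in
theorem relc_49_0 : fixPtsF W_49 1923 0 = true := by decide +kernel

set_option maxRecDepth 1000000 in
theorem relc_49_8 : fixPtsF W_49 1923 15384 = true := by decide +kernel

set_option maxRecDepth 1000000 in
theorem relc_49_16 : fixPtsF W_49 1923 30768 = true := by decide +kernel

set_option maxRecDepth 1000000 in
theorem relc_50_1 : fixPtsF W_50 1923 1923 = true := by decide +kernel

set_option maxRecDepth 1000000 in
theorem relc_50_9 : fixPtsF W_50 1923 17307 = true := by decide +kernel

set_option maxRecDepth 1000000 in
theorem relc_50_17 : fixPtsF W_50 1923 32691 = true := by decide +kernel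

set_option maxRecDepth 1000000 in
theorem relc_51_2 : fixPtsF W_51 1923 3846 = true := by decide +kernel

set_option maxRecDepth 1000000 in
theorem relc_51_10 : fixPtsF W_51 1923 19230 = true := by decide +kernel

set_option maxRecDepth 1000000 in
theorem relc_51_18 : fixPtsF W_51 1923 34614 = true := by decide +kernel

set_option maxRecDepth 1000000 in
theorem relc_52_3 : fixPtsF W_52 1923 5769 = true := by decide +kernel

set_option maxRecDepth 1000000 in
theorem relc_52_11 : fixPtsF W_52 1923 21153 = true := by decide +kernel

set_option maxRecDepth 1000000 in
theorem relc_52_19 : fixPtsF W_52 1923 36537 = true := by decide +kernel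

set_option maxRecDepth 1000000 in
theorem relc_53_4 : fixPtsF W_53 1923 7692 = true := by decide +kernel

set_option maxRecDepth 1000000 in
theorem relc_53_12 : fixPtsF W_53 1923 23076 = true := by decide +kernel

set_option maxRecDepth 1000000 in
theorem relc_53_20 : fixPtsF W_53 1923 38460 = true := by decide +kernel

set_option maxRecDepth 1000000 in
theorem relc_51_23 : fixPtsF W_51 1851 44229 = true := by decide +kernel

set_option maxRecDepth 1000000 in
theorem relc_9_4 : fixPtsF W_9 6080 40000 = true := by decide +kernel

set_option maxRecDepth 1000000 in
theorem relc_23_6 : fixPtsF W_23 3228 42852 = true := by decide +kernel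

set_option maxRecDepth 1000000 in
theorem relc_29_6 : fixPtsF W_29 3228 42852 = true := by decide +kernel

set_option maxRecDepth 1000000 in
theorem relc_37_6 : fixPtsF W_37 3228 42852 = true := by decide +kernel

end Cfsg.Agent.Helper5.L34DTC
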