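import Cfsg.Agent.Helper5.L34DTCChkE0
import Cfsg.Agent.Helper5.L34DTCChkE1
import Cfsg.Agent.Helper5.L34DTCChkE2
import Cfsg.Agent.Helper5.L34DTCChkE3
import Cfsg.Agent.Helper5.L34DTCChkR0
import Cfsg.Agent.Helper5.L34DTCChkR1
import Cfsg.Agent.Helper5.L34DTCChkR2
import Cfsg.Agent.Helper5.L34DTCChkR3
import Cfsg.Agent.Helper5.L34DTCChkR4
import Cfsg.Agent.Helper5.L34DTCChkR5
import Cfsg.Agent.Helper5.L34DTCChkR6
import Cfsg.Agent.Helper5.L34DTCChkR7
import Cfsg.Agent.Helper5.L34DTCChkA
import Cfsg.Agent.Helper5.TCIB

/-! summary of the kernel checks: L34DTC -/

set_option autoImplicit false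
set_option Elab.async false

namespace Cfsg.Agent.Helper5.L34DTC
open Cfsg.Agent.Helper5.TC Cfsg.Agent.Helper5.TCI

theorem edgesx_0 : ∀ v, v < 186321 → edgeOKI iota E 0 v = true := by
  intro v hv
  rcases Nat.lt_or_ge v 111272 with h | h
  · rcases Nat.lt_or_ge v 52683 with h | h
    · rcases Nat.lt_or_ge v 26403 with h | h
      · rcases Nat.lt_or_ge v 12751 with h | h
        · rcases Nat.lt_or_ge v 5504 with h | h
          · rcases Nat.lt_or_ge v 2890 with h | h
            · exact edgesRangeI_spec iota E 0 2890 0 edges_0_0 v (by omega) (by omega)
            · exact edgesRangeI_spec iota E 0 2614 2890 edges_0_1 v (by omega) (by omega)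
          · rcases Nat.lt_or_ge v 7954 with h | h
            · exact edgesRangeI_spec iota E 0 2450 5504 edges_0_2 v (by omega) (by omega)
            · rcases Nat.lt_or_ge v 10278 with h | h
              · exact edgesRangeI_spec iota E 0 2324 7954 edges_0_3 v (by omega) (by omega)
              · exact edgesRangeI_spec iota E 0 2473 10278 edges_0_4 v (by omega) (by omega)
        · rcases Nat.lt_or_ge v 17829 with h | h
          · rcases Nat.lt_or_ge v 15043 with h | h
            · exact edgesRangeI_spec iota E 0 2292 12751 edges_0_5 v (by omega) (by omega)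
            · exact edgesRangeI_spec iota E 0 2786 15043 edges_0_6 v (by omega) (by omega)
          · rcases Nat.lt_or_ge v 20701 with h | h
            · exact edgesRangeI_spec iota E 0 2872 17829 edges_0_7 v (by omega) (by omega)
            · rcases Nat.lt_or_ge v 23482 with h | h
              · exact edgesRangeI_spec iota E 0 2781 20701 edges_0_8 v (by omega) (by omega)
              · exact edgesRangeI_spec iota E 0 2921 23482 edges_0_9 v (by omega) (by omega)
      · rcases Nat.lt_or_ge v 39862 with h | h
        · rcases Nat.lt_or_ge v 31866 with h | h
          · rcases Nat.lt_or_ge v 29070 with h | h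
            · exact edgesRangeI_spec iota E 0 2667 26403 edges_0_10 v (by omega) (by omega)
            · exact edgesRangeI_spec iota E 0 2796 29070 edges_0_11 v (by omega) (by omega)
          · rcases Nat.lt_or_ge v 34527 with h | h
            · exact edgesRangeI_spec iota E 0 2661 31866 edges_0_12 v (by omega) (by omega)
            · rcases Nat.lt_or_ge v 37197 with h | h
              · exact edgesRangeI_spec iota E 0 2670 34527 edges_0_13 v (by omega) (by omega)
              · exact edgesRangeI_spec iota E 0 2665 37197 edges_0_14 v (by omega) (by omega)
        · rcases Nat.lt_or_ge v 44814 with h | h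
          · rcases Nat.lt_or_ge v 42341 with h | h
            · exact edgesRangeI_spec iota E 0 2479 39862 edges_0_15 v (by omega) (by omega)
            · exact edgesRangeI_spec iota E 0 2473 42341 edges_0_16 v (by omega) (by omega)
          · rcases Nat.lt_or_ge v 47586 with h | h
            · exact edgesRangeI_spec iota E 0 2772 44814 edges_0_17 v (by omega) (by omega)
            · rcases Nat.lt_or_ge v 50112 with h | h
              · exact edgesRangeI_spec iota E 0 2526 47586 edges_0_18 v (by omega) (by omega)
              · exact edgesRangeI_spec iota E 0 2571 50112 edges_0_19 v (by omega) (by omega)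
    · rcases Nat.lt_or_ge v 82015 with h | h
      · rcases Nat.lt_or_ge v 68237 with h | h
        · rcases Nat.lt_or_ge v 59051 with h | h
          · rcases Nat.lt_or_ge v 55914 with h | h
            · exact edgesRangeI_spec iota E 0 3231 52683 edges_0_20 v (by omega) (by omega)
            · exact edgesRangeI_spec iota E 0 3137 55914 edges_0_21 v (by omega) (by omega)
          · rcases Nat.lt_or_ge v 62281 with h | h
            · exact edgesRangeI_spec iota E 0 3230 59051 edges_0_22 v (by omega) (by omega)
            · rcases Nat.lt_or_ge v 65232 with h | h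
              · exact edgesRangeI_spec iota E 0 2951 62281 edges_0_23 v (by omega) (by omega)
              · exact edgesRangeI_spec iota E 0 3005 65232 edges_0_24 v (by omega) (by omega)
        · rcases Nat.lt_or_ge v 73641 with h | h
          · rcases Nat.lt_or_ge v 70343 with h | h
            · exact edgesRangeI_spec iota E 0 2106 68237 edges_0_25 v (by omega) (by omega)
            · exact edgesRangeI_spec iota E 0 3298 70343 edges_0_26 v (by omega) (by omega)
          · rcases Nat.lt_or_ge v 76685 with h | h
            · exact edgesRangeI_spec iota E 0 3044 73641 edges_0_27 v (by omega) (by omega)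
            · rcases Nat.lt_or_ge v 78949 with h | h
              · exact edgesRangeI_spec iota E 0 2264 76685 edges_0_28 v (by omega) (by omega)
              · exact edgesRangeI_spec iota E 0 3066 78949 edges_0_29 v (by omega) (by omega)
      · rcases Nat.lt_or_ge v 94452 with h | h
        · rcases Nat.lt_or_ge v 86793 with h | h
          · rcases Nat.lt_or_ge v 84240 with h | h
            · exact edgesRangeI_spec iota E 0 2225 82015 edges_0_30 v (by omega) (by omega)
            · exact edgesRangeI_spec iota E 0 2553 84240 edges_0_31 v (by omega) (by omega)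
          · rcases Nat.lt_or_ge v 89427 with h | h
            · exact edgesRangeI_spec iota E 0 2634 86793 edges_0_32 v (by omega) (by omega)
            · rcases Nat.lt_or_ge v 92459 with h | h
              · exact edgesRangeI_spec iota E 0 3032 89427 edges_0_33 v (by omega) (by omega)
              · exact edgesRangeI_spec iota E 0 1993 92459 edges_0_34 v (by omega) (by omega)
        · rcases Nat.lt_or_ge v 102612 with h | h
          · rcases Nat.lt_or_ge v 97029 with h | h
            · exact edgesRangeI_spec iota E 0 2577 94452 edges_0_35 v (by omega) (by omega)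
            · rcases Nat.lt_or_ge v 99723 with h | h
              · exact edgesRangeI_spec iota E 0 2694 97029 edges_0_36 v (by omega) (by omega)
              · exact edgesRangeI_spec iota E 0 2889 99723 edges_0_37 v (by omega) (by omega)
          · rcases Nat.lt_or_ge v 105196 with h | h
            · exact edgesRangeI_spec iota E 0 2584 102612 edges_0_38 v (by omega) (by omega)
            · rcases Nat.lt_or_ge v 108210 with h | h
              · exact edgesRangeI_spec iota E 0 3014 105196 edges_0_39 v (by omega) (by omega)
              · exact edgesRangeI_spec iota E 0 3062 108210 edges_0_40 v (by omega) (by omega)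
  · rcases Nat.lt_or_ge v 165391 with h | h
    · rcases Nat.lt_or_ge v 139706 with h | h
      · rcases Nat.lt_or_ge v 125952 with h | h
        · rcases Nat.lt_or_ge v 116804 with h | h
          · rcases Nat.lt_or_ge v 114103 with h | h
            · exact edgesRangeI_spec iota E 0 2831 111272 edges_0_41 v (by omega) (by omega)
            · exact edgesRangeI_spec iota E 0 2701 114103 edges_0_42 v (by omega) (by omega)
          · rcases Nat.lt_or_ge v 119706 with h | h
            · exact edgesRangeI_spec iota E 0 2902 116804 edges_0_43 v (by omega) (by omega)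
            · rcases Nat.lt_or_ge v 122872 with h | h
              · exact edgesRangeI_spec iota E 0 3166 119706 edges_0_44 v (by omega) (by omega)
              · exact edgesRangeI_spec iota E 0 3080 122872 edges_0_45 v (by omega) (by omega)
        · rcases Nat.lt_or_ge v 131341 with h | h
          · rcases Nat.lt_or_ge v 129147 with h | h
            · exact edgesRangeI_spec iota E 0 3195 125952 edges_0_46 v (by omega) (by omega)
            · exact edgesRangeI_spec iota E 0 2194 129147 edges_0_47 v (by omega) (by omega)
          · rcases Nat.lt_or_ge v 133831 with h | h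
            · exact edgesRangeI_spec iota E 0 2490 131341 edges_0_48 v (by omega) (by omega)
            · rcases Nat.lt_or_ge v 137011 with h | h
              · exact edgesRangeI_spec iota E 0 3180 133831 edges_0_49 v (by omega) (by omega)
              · exact edgesRangeI_spec iota E 0 2695 137011 edges_0_50 v (by omega) (by omega)
      · rcases Nat.lt_or_ge v 154126 with h | h
        · rcases Nat.lt_or_ge v 145710 with h | h
          · rcases Nat.lt_or_ge v 142794 with h | h
            · exact edgesRangeI_spec iota E 0 3088 139706 edges_0_51 v (by omega) (by omega)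
            · exact edgesRangeI_spec iota E 0 2916 142794 edges_0_52 v (by omega) (by omega)
          · rcases Nat.lt_or_ge v 147915 with h | h
            · exact edgesRangeI_spec iota E 0 2205 145710 edges_0_53 v (by omega) (by omega)
            · rcases Nat.lt_or_ge v 150927 with h | h
              · exact edgesRangeI_spec iota E 0 3012 147915 edges_0_54 v (by omega) (by omega)
              · exact edgesRangeI_spec iota E 0 3199 150927 edges_0_55 v (by omega) (by omega)
        · rcases Nat.lt_or_ge v 160749 with h | h
          · rcases Nat.lt_or_ge v 157670 with h | h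
            · exact edgesRangeI_spec iota E 0 3544 154126 edges_0_56 v (by omega) (by omega)
            · rcases Nat.lt_or_ge v 159343 with h | h
              · exact edgesRangeI_spec iota E 0 1673 157670 edges_0_57 v (by omega) (by omega)
              · exact edgesRangeI_spec iota E 0 1406 159343 edges_0_58 v (by omega) (by omega)
          · rcases Nat.lt_or_ge v 162314 with h | h
            · exact edgesRangeI_spec iota E 0 1565 160749 edges_0_59 v (by omega) (by omega)
            · rcases Nat.lt_or_ge v 163720 with h | h
              · exact edgesRangeI_spec iota E 0 1406 162314 edges_0_60 v (by omega) (by omega)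
              · exact edgesRangeI_spec iota E 0 1671 163720 edges_0_61 v (by omega) (by omega)
    · rcases Nat.lt_or_ge v 178067 with h | h
      · rcases Nat.lt_or_ge v 172865 with h | h
        · rcases Nat.lt_or_ge v 168527 with h | h
          · rcases Nat.lt_or_ge v 167069 with h | h
            · exact edgesRangeI_spec iota E 0 1678 165391 edges_0_62 v (by omega) (by omega)
            · exact edgesRangeI_spec iota E 0 1458 167069 edges_0_63 v (by omega) (by omega)
          · rcases Nat.lt_or_ge v 170160 with h | h
            · exact edgesRangeI_spec iota E 0 1633 168527 edges_0_64 v (by omega) (by omega)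
            · rcases Nat.lt_or_ge v 171565 with h | h
              · exact edgesRangeI_spec iota E 0 1405 170160 edges_0_65 v (by omega) (by omega)
              · exact edgesRangeI_spec iota E 0 1300 171565 edges_0_66 v (by omega) (by omega)
        · rcases Nat.lt_or_ge v 175246 with h | h
          · rcases Nat.lt_or_ge v 174102 with h | h
            · exact edgesRangeI_spec iota E 0 1237 172865 edges_0_67 v (by omega) (by omega)
            · exact edgesRangeI_spec iota E 0 1144 174102 edges_0_68 v (by omega) (by omega)
          · rcases Nat.lt_or_ge v 176240 with h | h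
            · exact edgesRangeI_spec iota E 0 994 175246 edges_0_69 v (by omega) (by omega)
            · rcases Nat.lt_or_ge v 177207 with h | h
              · exact edgesRangeI_spec iota E 0 967 176240 edges_0_70 v (by omega) (by omega)
              · exact edgesRangeI_spec iota E 0 860 177207 edges_0_71 v (by omega) (by omega)
      · rcases Nat.lt_or_ge v 182269 with h | h
        · rcases Nat.lt_or_ge v 179741 with h | h
          · rcases Nat.lt_or_ge v 178931 with h | h
            · exact edgesRangeI_spec iota E 0 864 178067 edges_0_72 v (by omega) (by omega)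
            · exact edgesRangeI_spec iota E 0 810 178931 edges_0_73 v (by omega) (by omega)
          · rcases Nat.lt_or_ge v 180684 with h | h
            · exact edgesRangeI_spec iota E 0 943 179741 edges_0_74 v (by omega) (by omega)
            · rcases Nat.lt_or_ge v 181425 with h | h
              · exact edgesRangeI_spec iota E 0 741 180684 edges_0_75 v (by omega) (by omega)
              · exact edgesRangeI_spec iota E 0 844 181425 edges_0_76 v (by omega) (by omega)
        · rcases Nat.lt_or_ge v 184525 with h | h
          · rcases Nat.lt_or_ge v 183032 with h | h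
            · exact edgesRangeI_spec iota E 0 763 182269 edges_0_77 v (by omega) (by omega)
            · rcases Nat.lt_or_ge v 183824 with h | h
              · exact edgesRangeI_spec iota E 0 792 183032 edges_0_78 v (by omega) (by omega)
              · exact edgesRangeI_spec iota E 0 701 183824 edges_0_79 v (by omega) (by omega)
          · rcases Nat.lt_or_ge v 185255 with h | h
            · exact edgesRangeI_spec iota E 0 730 184525 edges_0_80 v (by omega) (by omega)
            · rcases Nat.lt_or_ge v 185952 with h | h
              · exact edgesRangeI_spec iota E 0 697 185255 edges_0_81 v (by omega) (by omega)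
              · exact edgesRangeI_spec iota E 0 369 185952 edges_0_82 v (by omega) (by omega)

theorem edgesx_1 : ∀ v, v < 186321 → edgeOKI iota E 1 v = true := by
  intro v hv
  rcases Nat.lt_or_ge v 123346 with h | h
  · rcases Nat.lt_or_ge v 60161 with h | h
    · rcases Nat.lt_or_ge v 28753 with h | h
      · rcases Nat.lt_or_ge v 15681 with h | h
        · rcases Nat.lt_or_ge v 5909 with h | h
          · rcases Nat.lt_or_ge v 2703 with h | h
            · exact edgesRangeI_spec iota E 1 2703 0 edges_1_0 v (by omega) (by omega)
            · exact edgesRangeI_spec iota E 1 3206 2703 edges_1_1 v (by omega) (by omega)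
          · rcases Nat.lt_or_ge v 9386 with h | h
            · exact edgesRangeI_spec iota E 1 3477 5909 edges_1_2 v (by omega) (by omega)
            · rcases Nat.lt_or_ge v 12285 with h | h
              · exact edgesRangeI_spec iota E 1 2899 9386 edges_1_3 v (by omega) (by omega)
              · exact edgesRangeI_spec iota E 1 3396 12285 edges_1_4 v (by omega) (by omega)
        · rcases Nat.lt_or_ge v 21088 with h | h
          · rcases Nat.lt_or_ge v 18618 with h | h
            · exact edgesRangeI_spec iota E 1 2937 15681 edges_1_5 v (by omega) (by omega)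
            · exact edgesRangeI_spec iota E 1 2470 18618 edges_1_6 v (by omega) (by omega)
          · rcases Nat.lt_or_ge v 23559 with h | h
            · exact edgesRangeI_spec iota E 1 2471 21088 edges_1_7 v (by omega) (by omega)
            · rcases Nat.lt_or_ge v 26136 with h | h
              · exact edgesRangeI_spec iota E 1 2577 23559 edges_1_8 v (by omega) (by omega)
              · exact edgesRangeI_spec iota E 1 2617 26136 edges_1_9 v (by omega) (by omega)
      · rcases Nat.lt_or_ge v 45165 with h | h
        · rcases Nat.lt_or_ge v 35073 with h | h
          · rcases Nat.lt_or_ge v 31583 with h | h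
            · exact edgesRangeI_spec iota E 1 2830 28753 edges_1_10 v (by omega) (by omega)
            · exact edgesRangeI_spec iota E 1 3490 31583 edges_1_11 v (by omega) (by omega)
          · rcases Nat.lt_or_ge v 38404 with h | h
            · exact edgesRangeI_spec iota E 1 3331 35073 edges_1_12 v (by omega) (by omega)
            · rcases Nat.lt_or_ge v 41707 with h | h
              · exact edgesRangeI_spec iota E 1 3303 38404 edges_1_13 v (by omega) (by omega)
              · exact edgesRangeI_spec iota E 1 3458 41707 edges_1_14 v (by omega) (by omega)
        · rcases Nat.lt_or_ge v 51340 with h | h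
          · rcases Nat.lt_or_ge v 48171 with h | h
            · exact edgesRangeI_spec iota E 1 3006 45165 edges_1_15 v (by omega) (by omega)
            · exact edgesRangeI_spec iota E 1 3169 48171 edges_1_16 v (by omega) (by omega)
          · rcases Nat.lt_or_ge v 54141 with h | h
            · exact edgesRangeI_spec iota E 1 2801 51340 edges_1_17 v (by omega) (by omega)
            · rcases Nat.lt_or_ge v 57357 with h | h
              · exact edgesRangeI_spec iota E 1 3216 54141 edges_1_18 v (by omega) (by omega)
              · exact edgesRangeI_spec iota E 1 2804 57357 edges_1_19 v (by omega) (by omega)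
    · rcases Nat.lt_or_ge v 90709 with h | h
      · rcases Nat.lt_or_ge v 75978 with h | h
        · rcases Nat.lt_or_ge v 66499 with h | h
          · rcases Nat.lt_or_ge v 63041 with h | h
            · exact edgesRangeI_spec iota E 1 2880 60161 edges_1_20 v (by omega) (by omega)
            · exact edgesRangeI_spec iota E 1 3458 63041 edges_1_21 v (by omega) (by omega)
          · rcases Nat.lt_or_ge v 70564 with h | h
            · exact edgesRangeI_spec iota E 1 4065 66499 edges_1_22 v (by omega) (by omega)
            · rcases Nat.lt_or_ge v 72991 with h | h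
              · exact edgesRangeI_spec iota E 1 2427 70564 edges_1_23 v (by omega) (by omega)
              · exact edgesRangeI_spec iota E 1 2987 72991 edges_1_24 v (by omega) (by omega)
        · rcases Nat.lt_or_ge v 81688 with h | h
          · rcases Nat.lt_or_ge v 79375 with h | h
            · exact edgesRangeI_spec iota E 1 3397 75978 edges_1_25 v (by omega) (by omega)
            · exact edgesRangeI_spec iota E 1 2313 79375 edges_1_26 v (by omega) (by omega)
          · rcases Nat.lt_or_ge v 85066 with h | h
            · exact edgesRangeI_spec iota E 1 3378 81688 edges_1_27 v (by omega) (by omega)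
            · rcases Nat.lt_or_ge v 88149 with h | h
              · exact edgesRangeI_spec iota E 1 3083 85066 edges_1_28 v (by omega) (by omega)
              · exact edgesRangeI_spec iota E 1 2560 88149 edges_1_29 v (by omega) (by omega)
      · rcases Nat.lt_or_ge v 105196 with h | h
        · rcases Nat.lt_or_ge v 96491 with h | h
          · rcases Nat.lt_or_ge v 93420 with h | h
            · exact edgesRangeI_spec iota E 1 2711 90709 edges_1_30 v (by omega) (by omega)
            · exact edgesRangeI_spec iota E 1 3071 93420 edges_1_31 v (by omega) (by omega)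
          · rcases Nat.lt_or_ge v 99350 with h | h
            · exact edgesRangeI_spec iota E 1 2859 96491 edges_1_32 v (by omega) (by omega)
            · rcases Nat.lt_or_ge v 102446 with h | h
              · exact edgesRangeI_spec iota E 1 3096 99350 edges_1_33 v (by omega) (by omega)
              · exact edgesRangeI_spec iota E 1 2750 102446 edges_1_34 v (by omega) (by omega)
        · rcases Nat.lt_or_ge v 115517 with h | h
          · rcases Nat.lt_or_ge v 108188 with h | h
            · exact edgesRangeI_spec iota E 1 2992 105196 edges_1_35 v (by omega) (by omega)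
            · rcases Nat.lt_or_ge v 111705 with h | h
              · exact edgesRangeI_spec iota E 1 3517 108188 edges_1_36 v (by omega) (by omega)
              · exact edgesRangeI_spec iota E 1 3812 111705 edges_1_37 v (by omega) (by omega)
          · rcases Nat.lt_or_ge v 118287 with h | h
            · exact edgesRangeI_spec iota E 1 2770 115517 edges_1_38 v (by omega) (by omega)
            · rcases Nat.lt_or_ge v 120691 with h | h
              · exact edgesRangeI_spec iota E 1 2404 118287 edges_1_39 v (by omega) (by omega)
              · exact edgesRangeI_spec iota E 1 2655 120691 edges_1_40 v (by omega) (by omega)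
  · rcases Nat.lt_or_ge v 171360 with h | h
    · rcases Nat.lt_or_ge v 153126 with h | h
      · rcases Nat.lt_or_ge v 137918 with h | h
        · rcases Nat.lt_or_ge v 128493 with h | h
          · rcases Nat.lt_or_ge v 125666 with h | h
            · exact edgesRangeI_spec iota E 1 2320 123346 edges_1_41 v (by omega) (by omega)
            · exact edgesRangeI_spec iota E 1 2827 125666 edges_1_42 v (by omega) (by omega)
          · rcases Nat.lt_or_ge v 132349 with h | h
            · exact edgesRangeI_spec iota E 1 3856 128493 edges_1_43 v (by omega) (by omega)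
            · rcases Nat.lt_or_ge v 134910 with h | h
              · exact edgesRangeI_spec iota E 1 2561 132349 edges_1_44 v (by omega) (by omega)
              · exact edgesRangeI_spec iota E 1 3008 134910 edges_1_45 v (by omega) (by omega)
        · rcases Nat.lt_or_ge v 143864 with h | h
          · rcases Nat.lt_or_ge v 141152 with h | h
            · exact edgesRangeI_spec iota E 1 3234 137918 edges_1_46 v (by omega) (by omega)
            · exact edgesRangeI_spec iota E 1 2712 141152 edges_1_47 v (by omega) (by omega)
          · rcases Nat.lt_or_ge v 147268 with h | h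
            · exact edgesRangeI_spec iota E 1 3404 143864 edges_1_48 v (by omega) (by omega)
            · rcases Nat.lt_or_ge v 149974 with h | h
              · exact edgesRangeI_spec iota E 1 2706 147268 edges_1_49 v (by omega) (by omega)
              · exact edgesRangeI_spec iota E 1 3152 149974 edges_1_50 v (by omega) (by omega)
      · rcases Nat.lt_or_ge v 162881 with h | h
        · rcases Nat.lt_or_ge v 158686 with h | h
          · rcases Nat.lt_or_ge v 156431 with h | h
            · exact edgesRangeI_spec iota E 1 3305 153126 edges_1_51 v (by omega) (by omega)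
            · exact edgesRangeI_spec iota E 1 2255 156431 edges_1_52 v (by omega) (by omega)
          · rcases Nat.lt_or_ge v 160067 with h | h
            · exact edgesRangeI_spec iota E 1 1381 158686 edges_1_53 v (by omega) (by omega)
            · rcases Nat.lt_or_ge v 161391 with h | h
              · exact edgesRangeI_spec iota E 1 1324 160067 edges_1_54 v (by omega) (by omega)
              · exact edgesRangeI_spec iota E 1 1490 161391 edges_1_55 v (by omega) (by omega)
        · rcases Nat.lt_or_ge v 167162 with h | h
          · rcases Nat.lt_or_ge v 164107 with h | h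
            · exact edgesRangeI_spec iota E 1 1226 162881 edges_1_56 v (by omega) (by omega)
            · rcases Nat.lt_or_ge v 165733 with h | h
              · exact edgesRangeI_spec iota E 1 1626 164107 edges_1_57 v (by omega) (by omega)
              · exact edgesRangeI_spec iota E 1 1429 165733 edges_1_58 v (by omega) (by omega)
          · rcases Nat.lt_or_ge v 168546 with h | h
            · exact edgesRangeI_spec iota E 1 1384 167162 edges_1_59 v (by omega) (by omega)
            · rcases Nat.lt_or_ge v 170008 with h | h
              · exact edgesRangeI_spec iota E 1 1462 168546 edges_1_60 v (by omega) (by omega)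
              · exact edgesRangeI_spec iota E 1 1352 170008 edges_1_61 v (by omega) (by omega)
    · rcases Nat.lt_or_ge v 180037 with h | h
      · rcases Nat.lt_or_ge v 176237 with h | h
        · rcases Nat.lt_or_ge v 173485 with h | h
          · rcases Nat.lt_or_ge v 172474 with h | h
            · exact edgesRangeI_spec iota E 1 1114 171360 edges_1_62 v (by omega) (by omega)
            · exact edgesRangeI_spec iota E 1 1011 172474 edges_1_63 v (by omega) (by omega)
          · rcases Nat.lt_or_ge v 174480 with h | h
            · exact edgesRangeI_spec iota E 1 995 173485 edges_1_64 v (by omega) (by omega)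
            · rcases Nat.lt_or_ge v 175370 with h | h
              · exact edgesRangeI_spec iota E 1 890 174480 edges_1_65 v (by omega) (by omega)
              · exact edgesRangeI_spec iota E 1 867 175370 edges_1_66 v (by omega) (by omega)
        · rcases Nat.lt_or_ge v 177825 with h | h
          · rcases Nat.lt_or_ge v 177030 with h | h
            · exact edgesRangeI_spec iota E 1 793 176237 edges_1_67 v (by omega) (by omega)
            · exact edgesRangeI_spec iota E 1 795 177030 edges_1_68 v (by omega) (by omega)
          · rcases Nat.lt_or_ge v 178642 with h | h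
            · exact edgesRangeI_spec iota E 1 817 177825 edges_1_69 v (by omega) (by omega)
            · rcases Nat.lt_or_ge v 179321 with h | h
              · exact edgesRangeI_spec iota E 1 679 178642 edges_1_70 v (by omega) (by omega)
              · exact edgesRangeI_spec iota E 1 716 179321 edges_1_71 v (by omega) (by omega)
      · rcases Nat.lt_or_ge v 183325 with h | h
        · rcases Nat.lt_or_ge v 181474 with h | h
          · rcases Nat.lt_or_ge v 180802 with h | h
            · exact edgesRangeI_spec iota E 1 765 180037 edges_1_72 v (by omega) (by omega)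
            · exact edgesRangeI_spec iota E 1 672 180802 edges_1_73 v (by omega) (by omega)
          · rcases Nat.lt_or_ge v 182076 with h | h
            · exact edgesRangeI_spec iota E 1 602 181474 edges_1_74 v (by omega) (by omega)
            · rcases Nat.lt_or_ge v 182718 with h | h
              · exact edgesRangeI_spec iota E 1 642 182076 edges_1_75 v (by omega) (by omega)
              · exact edgesRangeI_spec iota E 1 607 182718 edges_1_76 v (by omega) (by omega)
        · rcases Nat.lt_or_ge v 185071 with h | h
          · rcases Nat.lt_or_ge v 183919 with h | h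
            · exact edgesRangeI_spec iota E 1 594 183325 edges_1_77 v (by omega) (by omega)
            · rcases Nat.lt_or_ge v 184510 with h | h
              · exact edgesRangeI_spec iota E 1 591 183919 edges_1_78 v (by omega) (by omega)
              · exact edgesRangeI_spec iota E 1 561 184510 edges_1_79 v (by omega) (by omega)
          · rcases Nat.lt_or_ge v 185603 with h | h
            · exact edgesRangeI_spec iota E 1 532 185071 edges_1_80 v (by omega) (by omega)
            · rcases Nat.lt_or_ge v 186135 with h | h
              · exact edgesRangeI_spec iota E 1 532 185603 edges_1_81 v (by omega) (by omega)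
              · exact edgesRangeI_spec iota E 1 186 186135 edges_1_82 v (by omega) (by omega)

theorem edgesx_2 : ∀ v, v < 186321 → edgeOKI iota E 2 v = true := by
  intro v hv
  rcases Nat.lt_or_ge v 110112 with h | h
  · rcases Nat.lt_or_ge v 53735 with h | h
    · rcases Nat.lt_or_ge v 24597 with h | h
      · rcases Nat.lt_or_ge v 12190 with h | h
        · rcases Nat.lt_or_ge v 4903 with h | h
          · rcases Nat.lt_or_ge v 2662 with h | h
            · exact edgesRangeI_spec iota E 2 2662 0 edges_2_0 v (by omega) (by omega)
            · exact edgesRangeI_spec iota E 2 2241 2662 edges_2_1 v (by omega) (by omega)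
          · rcases Nat.lt_or_ge v 7375 with h | h
            · exact edgesRangeI_spec iota E 2 2472 4903 edges_2_2 v (by omega) (by omega)
            · rcases Nat.lt_or_ge v 9668 with h | h
              · exact edgesRangeI_spec iota E 2 2293 7375 edges_2_3 v (by omega) (by omega)
              · exact edgesRangeI_spec iota E 2 2522 9668 edges_2_4 v (by omega) (by omega)
        · rcases Nat.lt_or_ge v 16743 with h | h
          · rcases Nat.lt_or_ge v 14489 with h | h
            · exact edgesRangeI_spec iota E 2 2299 12190 edges_2_5 v (by omega) (by omega)
            · exact edgesRangeI_spec iota E 2 2254 14489 edges_2_6 v (by omega) (by omega)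
          · rcases Nat.lt_or_ge v 19513 with h | h
            · exact edgesRangeI_spec iota E 2 2770 16743 edges_2_7 v (by omega) (by omega)
            · rcases Nat.lt_or_ge v 22110 with h | h
              · exact edgesRangeI_spec iota E 2 2597 19513 edges_2_8 v (by omega) (by omega)
              · exact edgesRangeI_spec iota E 2 2487 22110 edges_2_9 v (by omega) (by omega)
      · rcases Nat.lt_or_ge v 37448 with h | h
        · rcases Nat.lt_or_ge v 29715 with h | h
          · rcases Nat.lt_or_ge v 27338 with h | h
            · exact edgesRangeI_spec iota E 2 2741 24597 edges_2_10 v (by omega) (by omega)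
            · exact edgesRangeI_spec iota E 2 2377 27338 edges_2_11 v (by omega) (by omega)
          · rcases Nat.lt_or_ge v 32251 with h | h
            · exact edgesRangeI_spec iota E 2 2536 29715 edges_2_12 v (by omega) (by omega)
            · rcases Nat.lt_or_ge v 34965 with h | h
              · exact edgesRangeI_spec iota E 2 2714 32251 edges_2_13 v (by omega) (by omega)
              · exact edgesRangeI_spec iota E 2 2483 34965 edges_2_14 v (by omega) (by omega)
        · rcases Nat.lt_or_ge v 45700 with h | h
          · rcases Nat.lt_or_ge v 40082 with h | h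
            · exact edgesRangeI_spec iota E 2 2634 37448 edges_2_15 v (by omega) (by omega)
            · rcases Nat.lt_or_ge v 42617 with h | h
              · exact edgesRangeI_spec iota E 2 2535 40082 edges_2_16 v (by omega) (by omega)
              · exact edgesRangeI_spec iota E 2 3083 42617 edges_2_17 v (by omega) (by omega)
          · rcases Nat.lt_or_ge v 48397 with h | h
            · exact edgesRangeI_spec iota E 2 2697 45700 edges_2_18 v (by omega) (by omega)
            · rcases Nat.lt_or_ge v 51207 with h | h
              · exact edgesRangeI_spec iota E 2 2810 48397 edges_2_19 v (by omega) (by omega)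
              · exact edgesRangeI_spec iota E 2 2528 51207 edges_2_20 v (by omega) (by omega)
    · rcases Nat.lt_or_ge v 79503 with h | h
      · rcases Nat.lt_or_ge v 65548 with h | h
        · rcases Nat.lt_or_ge v 58290 with h | h
          · rcases Nat.lt_or_ge v 56083 with h | h
            · exact edgesRangeI_spec iota E 2 2348 53735 edges_2_21 v (by omega) (by omega)
            · exact edgesRangeI_spec iota E 2 2207 56083 edges_2_22 v (by omega) (by omega)
          · rcases Nat.lt_or_ge v 60906 with h | h
            · exact edgesRangeI_spec iota E 2 2616 58290 edges_2_23 v (by omega) (by omega)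
            · rcases Nat.lt_or_ge v 63188 with h | h
              · exact edgesRangeI_spec iota E 2 2282 60906 edges_2_24 v (by omega) (by omega)
              · exact edgesRangeI_spec iota E 2 2360 63188 edges_2_25 v (by omega) (by omega)
        · rcases Nat.lt_or_ge v 71048 with h | h
          · rcases Nat.lt_or_ge v 68085 with h | h
            · exact edgesRangeI_spec iota E 2 2537 65548 edges_2_26 v (by omega) (by omega)
            · exact edgesRangeI_spec iota E 2 2963 68085 edges_2_27 v (by omega) (by omega)
          · rcases Nat.lt_or_ge v 73772 with h | h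
            · exact edgesRangeI_spec iota E 2 2724 71048 edges_2_28 v (by omega) (by omega)
            · rcases Nat.lt_or_ge v 76231 with h | h
              · exact edgesRangeI_spec iota E 2 2459 73772 edges_2_29 v (by omega) (by omega)
              · exact edgesRangeI_spec iota E 2 3272 76231 edges_2_30 v (by omega) (by omega)
      · rcases Nat.lt_or_ge v 93852 with h | h
        · rcases Nat.lt_or_ge v 85182 with h | h
          · rcases Nat.lt_or_ge v 82202 with h | h
            · exact edgesRangeI_spec iota E 2 2699 79503 edges_2_31 v (by omega) (by omega)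
            · exact edgesRangeI_spec iota E 2 2980 82202 edges_2_32 v (by omega) (by omega)
          · rcases Nat.lt_or_ge v 88234 with h | h
            · exact edgesRangeI_spec iota E 2 3052 85182 edges_2_33 v (by omega) (by omega)
            · rcases Nat.lt_or_ge v 90588 with h | h
              · exact edgesRangeI_spec iota E 2 2354 88234 edges_2_34 v (by omega) (by omega)
              · exact edgesRangeI_spec iota E 2 3264 90588 edges_2_35 v (by omega) (by omega)
        · rcases Nat.lt_or_ge v 101934 with h | h
          · rcases Nat.lt_or_ge v 96731 with h | h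
            · exact edgesRangeI_spec iota E 2 2879 93852 edges_2_36 v (by omega) (by omega)
            · rcases Nat.lt_or_ge v 99508 with h | h
              · exact edgesRangeI_spec iota E 2 2777 96731 edges_2_37 v (by omega) (by omega)
              · exact edgesRangeI_spec iota E 2 2426 99508 edges_2_38 v (by omega) (by omega)
          · rcases Nat.lt_or_ge v 104790 with h | h
            · exact edgesRangeI_spec iota E 2 2856 101934 edges_2_39 v (by omega) (by omega)
            · rcases Nat.lt_or_ge v 107358 with h | h
              · exact edgesRangeI_spec iota E 2 2568 104790 edges_2_40 v (by omega) (by omega)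
              · exact edgesRangeI_spec iota E 2 2754 107358 edges_2_41 v (by omega) (by omega)
  · rcases Nat.lt_or_ge v 164244 with h | h
    · rcases Nat.lt_or_ge v 137221 with h | h
      · rcases Nat.lt_or_ge v 123598 with h | h
        · rcases Nat.lt_or_ge v 115908 with h | h
          · rcases Nat.lt_or_ge v 112903 with h | h
            · exact edgesRangeI_spec iota E 2 2791 110112 edges_2_42 v (by omega) (by omega)
            · exact edgesRangeI_spec iota E 2 3005 112903 edges_2_43 v (by omega) (by omega)
          · rcases Nat.lt_or_ge v 118382 with h | h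
            · exact edgesRangeI_spec iota E 2 2474 115908 edges_2_44 v (by omega) (by omega)
            · rcases Nat.lt_or_ge v 121059 with h | h
              · exact edgesRangeI_spec iota E 2 2677 118382 edges_2_45 v (by omega) (by omega)
              · exact edgesRangeI_spec iota E 2 2539 121059 edges_2_46 v (by omega) (by omega)
        · rcases Nat.lt_or_ge v 129092 with h | h
          · rcases Nat.lt_or_ge v 126527 with h | h
            · exact edgesRangeI_spec iota E 2 2929 123598 edges_2_47 v (by omega) (by omega)
            · exact edgesRangeI_spec iota E 2 2565 126527 edges_2_48 v (by omega) (by omega)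
          · rcases Nat.lt_or_ge v 132027 with h | h
            · exact edgesRangeI_spec iota E 2 2935 129092 edges_2_49 v (by omega) (by omega)
            · rcases Nat.lt_or_ge v 134688 with h | h
              · exact edgesRangeI_spec iota E 2 2661 132027 edges_2_50 v (by omega) (by omega)
              · exact edgesRangeI_spec iota E 2 2533 134688 edges_2_51 v (by omega) (by omega)
      · rcases Nat.lt_or_ge v 152089 with h | h
        · rcases Nat.lt_or_ge v 143031 with h | h
          · rcases Nat.lt_or_ge v 140062 with h | h
            · exact edgesRangeI_spec iota E 2 2841 137221 edges_2_52 v (by omega) (by omega)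
            · exact edgesRangeI_spec iota E 2 2969 140062 edges_2_53 v (by omega) (by omega)
          · rcases Nat.lt_or_ge v 145955 with h | h
            · exact edgesRangeI_spec iota E 2 2924 143031 edges_2_54 v (by omega) (by omega)
            · rcases Nat.lt_or_ge v 149175 with h | h
              · exact edgesRangeI_spec iota E 2 3220 145955 edges_2_55 v (by omega) (by omega)
              · exact edgesRangeI_spec iota E 2 2914 149175 edges_2_56 v (by omega) (by omega)
        · rcases Nat.lt_or_ge v 159988 with h | h
          · rcases Nat.lt_or_ge v 155496 with h | h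
            · exact edgesRangeI_spec iota E 2 3407 152089 edges_2_57 v (by omega) (by omega)
            · rcases Nat.lt_or_ge v 158406 with h | h
              · exact edgesRangeI_spec iota E 2 2910 155496 edges_2_58 v (by omega) (by omega)
              · exact edgesRangeI_spec iota E 2 1582 158406 edges_2_59 v (by omega) (by omega)
          · rcases Nat.lt_or_ge v 161453 with h | h
            · exact edgesRangeI_spec iota E 2 1465 159988 edges_2_60 v (by omega) (by omega)
            · rcases Nat.lt_or_ge v 162883 with h | h
              · exact edgesRangeI_spec iota E 2 1430 161453 edges_2_61 v (by omega) (by omega)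
              · exact edgesRangeI_spec iota E 2 1361 162883 edges_2_62 v (by omega) (by omega)
    · rcases Nat.lt_or_ge v 178131 with h | h
      · rcases Nat.lt_or_ge v 171944 with h | h
        · rcases Nat.lt_or_ge v 167695 with h | h
          · rcases Nat.lt_or_ge v 165892 with h | h
            · exact edgesRangeI_spec iota E 2 1648 164244 edges_2_63 v (by omega) (by omega)
            · exact edgesRangeI_spec iota E 2 1803 165892 edges_2_64 v (by omega) (by omega)
          · rcases Nat.lt_or_ge v 168915 with h | h
            · exact edgesRangeI_spec iota E 2 1220 167695 edges_2_65 v (by omega) (by omega)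
            · rcases Nat.lt_or_ge v 170451 with h | h
              · exact edgesRangeI_spec iota E 2 1536 168915 edges_2_66 v (by omega) (by omega)
              · exact edgesRangeI_spec iota E 2 1493 170451 edges_2_67 v (by omega) (by omega)
        · rcases Nat.lt_or_ge v 175253 with h | h
          · rcases Nat.lt_or_ge v 173092 with h | h
            · exact edgesRangeI_spec iota E 2 1148 171944 edges_2_68 v (by omega) (by omega)
            · rcases Nat.lt_or_ge v 174270 with h | h
              · exact edgesRangeI_spec iota E 2 1178 173092 edges_2_69 v (by omega) (by omega)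
              · exact edgesRangeI_spec iota E 2 983 174270 edges_2_70 v (by omega) (by omega)
          · rcases Nat.lt_or_ge v 176248 with h | h
            · exact edgesRangeI_spec iota E 2 995 175253 edges_2_71 v (by omega) (by omega)
            · rcases Nat.lt_or_ge v 177152 with h | h
              · exact edgesRangeI_spec iota E 2 904 176248 edges_2_72 v (by omega) (by omega)
              · exact edgesRangeI_spec iota E 2 979 177152 edges_2_73 v (by omega) (by omega)
      · rcases Nat.lt_or_ge v 182454 with h | h
        · rcases Nat.lt_or_ge v 179895 with h | h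
          · rcases Nat.lt_or_ge v 179025 with h | h
            · exact edgesRangeI_spec iota E 2 894 178131 edges_2_74 v (by omega) (by omega)
            · exact edgesRangeI_spec iota E 2 870 179025 edges_2_75 v (by omega) (by omega)
          · rcases Nat.lt_or_ge v 180876 with h | h
            · exact edgesRangeI_spec iota E 2 981 179895 edges_2_76 v (by omega) (by omega)
            · rcases Nat.lt_or_ge v 181669 with h | h
              · exact edgesRangeI_spec iota E 2 793 180876 edges_2_77 v (by omega) (by omega)
              · exact edgesRangeI_spec iota E 2 785 181669 edges_2_78 v (by omega) (by omega)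
        · rcases Nat.lt_or_ge v 184691 with h | h
          · rcases Nat.lt_or_ge v 183221 with h | h
            · exact edgesRangeI_spec iota E 2 767 182454 edges_2_79 v (by omega) (by omega)
            · rcases Nat.lt_or_ge v 183949 with h | h
              · exact edgesRangeI_spec iota E 2 728 183221 edges_2_80 v (by omega) (by omega)
              · exact edgesRangeI_spec iota E 2 742 183949 edges_2_81 v (by omega) (by omega)
          · rcases Nat.lt_or_ge v 185375 with h | h
            · exact edgesRangeI_spec iota E 2 684 184691 edges_2_82 v (by omega) (by omega)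
            · rcases Nat.lt_or_ge v 186051 with h | h
              · exact edgesRangeI_spec iota E 2 676 185375 edges_2_83 v (by omega) (by omega)
              · exact edgesRangeI_spec iota E 2 270 186051 edges_2_84 v (by omega) (by omega)

theorem edgesx_3 : ∀ v, v < 186321 → edgeOKI iota E 3 v = true := by
  intro v hv
  rcases Nat.lt_or_ge v 118409 with h | h
  · rcases Nat.lt_or_ge v 57252 with h | h
    · rcases Nat.lt_or_ge v 26777 with h | h
      · rcases Nat.lt_or_ge v 12723 with h | h
        · rcases Nat.lt_or_ge v 6122 with h | h
          · rcases Nat.lt_or_ge v 3501 with h | h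
            · exact edgesRangeI_spec iota E 3 3501 0 edges_3_0 v (by omega) (by omega)
            · exact edgesRangeI_spec iota E 3 2621 3501 edges_3_1 v (by omega) (by omega)
          · rcases Nat.lt_or_ge v 9289 with h | h
            · exact edgesRangeI_spec iota E 3 3167 6122 edges_3_2 v (by omega) (by omega)
            · exact edgesRangeI_spec iota E 3 3434 9289 edges_3_3 v (by omega) (by omega)
        · rcases Nat.lt_or_ge v 18591 with h | h
          · rcases Nat.lt_or_ge v 15686 with h | h
            · exact edgesRangeI_spec iota E 3 2963 12723 edges_3_4 v (by omega) (by omega)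
            · exact edgesRangeI_spec iota E 3 2905 15686 edges_3_5 v (by omega) (by omega)
          · rcases Nat.lt_or_ge v 21285 with h | h
            · exact edgesRangeI_spec iota E 3 2694 18591 edges_3_6 v (by omega) (by omega)
            · rcases Nat.lt_or_ge v 23829 with h | h
              · exact edgesRangeI_spec iota E 3 2544 21285 edges_3_7 v (by omega) (by omega)
              · exact edgesRangeI_spec iota E 3 2948 23829 edges_3_8 v (by omega) (by omega)
      · rcases Nat.lt_or_ge v 41718 with h | h
        · rcases Nat.lt_or_ge v 32258 with h | h
          · rcases Nat.lt_or_ge v 29323 with h | h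
            · exact edgesRangeI_spec iota E 3 2546 26777 edges_3_9 v (by omega) (by omega)
            · exact edgesRangeI_spec iota E 3 2935 29323 edges_3_10 v (by omega) (by omega)
          · rcases Nat.lt_or_ge v 35861 with h | h
            · exact edgesRangeI_spec iota E 3 3603 32258 edges_3_11 v (by omega) (by omega)
            · rcases Nat.lt_or_ge v 38789 with h | h
              · exact edgesRangeI_spec iota E 3 2928 35861 edges_3_12 v (by omega) (by omega)
              · exact edgesRangeI_spec iota E 3 2929 38789 edges_3_13 v (by omega) (by omega)
        · rcases Nat.lt_or_ge v 47358 with h | h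
          · rcases Nat.lt_or_ge v 44740 with h | h
            · exact edgesRangeI_spec iota E 3 3022 41718 edges_3_14 v (by omega) (by omega)
            · exact edgesRangeI_spec iota E 3 2618 44740 edges_3_15 v (by omega) (by omega)
          · rcases Nat.lt_or_ge v 50424 with h | h
            · exact edgesRangeI_spec iota E 3 3066 47358 edges_3_16 v (by omega) (by omega)
            · rcases Nat.lt_or_ge v 53629 with h | h
              · exact edgesRangeI_spec iota E 3 3205 50424 edges_3_17 v (by omega) (by omega)
              · exact edgesRangeI_spec iota E 3 3623 53629 edges_3_18 v (by omega) (by omega)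
    · rcases Nat.lt_or_ge v 86504 with h | h
      · rcases Nat.lt_or_ge v 70983 with h | h
        · rcases Nat.lt_or_ge v 64129 with h | h
          · rcases Nat.lt_or_ge v 60905 with h | h
            · exact edgesRangeI_spec iota E 3 3653 57252 edges_3_19 v (by omega) (by omega)
            · exact edgesRangeI_spec iota E 3 3224 60905 edges_3_20 v (by omega) (by omega)
          · rcases Nat.lt_or_ge v 67340 with h | h
            · exact edgesRangeI_spec iota E 3 3211 64129 edges_3_21 v (by omega) (by omega)
            · exact edgesRangeI_spec iota E 3 3643 67340 edges_3_22 v (by omega) (by omega)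
        · rcases Nat.lt_or_ge v 77080 with h | h
          · rcases Nat.lt_or_ge v 74326 with h | h
            · exact edgesRangeI_spec iota E 3 3343 70983 edges_3_23 v (by omega) (by omega)
            · exact edgesRangeI_spec iota E 3 2754 74326 edges_3_24 v (by omega) (by omega)
          · rcases Nat.lt_or_ge v 80285 with h | h
            · exact edgesRangeI_spec iota E 3 3205 77080 edges_3_25 v (by omega) (by omega)
            · rcases Nat.lt_or_ge v 83221 with h | h
              · exact edgesRangeI_spec iota E 3 2936 80285 edges_3_26 v (by omega) (by omega)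
              · exact edgesRangeI_spec iota E 3 3283 83221 edges_3_27 v (by omega) (by omega)
      · rcases Nat.lt_or_ge v 102770 with h | h
        · rcases Nat.lt_or_ge v 93228 with h | h
          · rcases Nat.lt_or_ge v 89773 with h | h
            · exact edgesRangeI_spec iota E 3 3269 86504 edges_3_28 v (by omega) (by omega)
            · exact edgesRangeI_spec iota E 3 3455 89773 edges_3_29 v (by omega) (by omega)
          · rcases Nat.lt_or_ge v 96329 with h | h
            · exact edgesRangeI_spec iota E 3 3101 93228 edges_3_30 v (by omega) (by omega)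
            · rcases Nat.lt_or_ge v 99476 with h | h
              · exact edgesRangeI_spec iota E 3 3147 96329 edges_3_31 v (by omega) (by omega)
              · exact edgesRangeI_spec iota E 3 3294 99476 edges_3_32 v (by omega) (by omega)
        · rcases Nat.lt_or_ge v 109048 with h | h
          · rcases Nat.lt_or_ge v 106132 with h | h
            · exact edgesRangeI_spec iota E 3 3362 102770 edges_3_33 v (by omega) (by omega)
            · exact edgesRangeI_spec iota E 3 2916 106132 edges_3_34 v (by omega) (by omega)
          · rcases Nat.lt_or_ge v 112320 with h | h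
            · exact edgesRangeI_spec iota E 3 3272 109048 edges_3_35 v (by omega) (by omega)
            · rcases Nat.lt_or_ge v 115735 with h | h
              · exact edgesRangeI_spec iota E 3 3415 112320 edges_3_36 v (by omega) (by omega)
              · exact edgesRangeI_spec iota E 3 2674 115735 edges_3_37 v (by omega) (by omega)
  · rcases Nat.lt_or_ge v 168553 with h | h
    · rcases Nat.lt_or_ge v 146976 with h | h
      · rcases Nat.lt_or_ge v 131063 with h | h
        · rcases Nat.lt_or_ge v 124484 with h | h
          · rcases Nat.lt_or_ge v 121397 with h | h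
            · exact edgesRangeI_spec iota E 3 2988 118409 edges_3_38 v (by omega) (by omega)
            · exact edgesRangeI_spec iota E 3 3087 121397 edges_3_39 v (by omega) (by omega)
          · rcases Nat.lt_or_ge v 127385 with h | h
            · exact edgesRangeI_spec iota E 3 2901 124484 edges_3_40 v (by omega) (by omega)
            · exact edgesRangeI_spec iota E 3 3678 127385 edges_3_41 v (by omega) (by omega)
        · rcases Nat.lt_or_ge v 137392 with h | h
          · rcases Nat.lt_or_ge v 134013 with h | h
            · exact edgesRangeI_spec iota E 3 2950 131063 edges_3_42 v (by omega) (by omega)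
            · exact edgesRangeI_spec iota E 3 3379 134013 edges_3_43 v (by omega) (by omega)
          · rcases Nat.lt_or_ge v 140261 with h | h
            · exact edgesRangeI_spec iota E 3 2869 137392 edges_3_44 v (by omega) (by omega)
            · rcases Nat.lt_or_ge v 143418 with h | h
              · exact edgesRangeI_spec iota E 3 3157 140261 edges_3_45 v (by omega) (by omega)
              · exact edgesRangeI_spec iota E 3 3558 143418 edges_3_46 v (by omega) (by omega)
      · rcases Nat.lt_or_ge v 160731 with h | h
        · rcases Nat.lt_or_ge v 153652 with h | h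
          · rcases Nat.lt_or_ge v 150372 with h | h
            · exact edgesRangeI_spec iota E 3 3396 146976 edges_3_47 v (by omega) (by omega)
            · exact edgesRangeI_spec iota E 3 3280 150372 edges_3_48 v (by omega) (by omega)
          · rcases Nat.lt_or_ge v 157051 with h | h
            · exact edgesRangeI_spec iota E 3 3399 153652 edges_3_49 v (by omega) (by omega)
            · rcases Nat.lt_or_ge v 159148 with h | h
              · exact edgesRangeI_spec iota E 3 2097 157051 edges_3_50 v (by omega) (by omega)
              · exact edgesRangeI_spec iota E 3 1583 159148 edges_3_51 v (by omega) (by omega)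
        · rcases Nat.lt_or_ge v 163759 with h | h
          · rcases Nat.lt_or_ge v 162402 with h | h
            · exact edgesRangeI_spec iota E 3 1671 160731 edges_3_52 v (by omega) (by omega)
            · exact edgesRangeI_spec iota E 3 1357 162402 edges_3_53 v (by omega) (by omega)
          · rcases Nat.lt_or_ge v 165413 with h | h
            · exact edgesRangeI_spec iota E 3 1654 163759 edges_3_54 v (by omega) (by omega)
            · rcases Nat.lt_or_ge v 166914 with h | h
              · exact edgesRangeI_spec iota E 3 1501 165413 edges_3_55 v (by omega) (by omega)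
              · exact edgesRangeI_spec iota E 3 1639 166914 edges_3_56 v (by omega) (by omega)
    · rcases Nat.lt_or_ge v 179686 with h | h
      · rcases Nat.lt_or_ge v 175051 with h | h
        · rcases Nat.lt_or_ge v 171556 with h | h
          · rcases Nat.lt_or_ge v 170060 with h | h
            · exact edgesRangeI_spec iota E 3 1507 168553 edges_3_57 v (by omega) (by omega)
            · exact edgesRangeI_spec iota E 3 1496 170060 edges_3_58 v (by omega) (by omega)
          · rcases Nat.lt_or_ge v 172802 with h | h
            · exact edgesRangeI_spec iota E 3 1246 171556 edges_3_59 v (by omega) (by omega)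
            · rcases Nat.lt_or_ge v 173996 with h | h
              · exact edgesRangeI_spec iota E 3 1194 172802 edges_3_60 v (by omega) (by omega)
              · exact edgesRangeI_spec iota E 3 1055 173996 edges_3_61 v (by omega) (by omega)
        · rcases Nat.lt_or_ge v 177061 with h | h
          · rcases Nat.lt_or_ge v 176099 with h | h
            · exact edgesRangeI_spec iota E 3 1048 175051 edges_3_62 v (by omega) (by omega)
            · exact edgesRangeI_spec iota E 3 962 176099 edges_3_63 v (by omega) (by omega)
          · rcases Nat.lt_or_ge v 177957 with h | h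
            · exact edgesRangeI_spec iota E 3 896 177061 edges_3_64 v (by omega) (by omega)
            · rcases Nat.lt_or_ge v 178883 with h | h
              · exact edgesRangeI_spec iota E 3 926 177957 edges_3_65 v (by omega) (by omega)
              · exact edgesRangeI_spec iota E 3 803 178883 edges_3_66 v (by omega) (by omega)
      · rcases Nat.lt_or_ge v 183510 with h | h
        · rcases Nat.lt_or_ge v 181397 with h | h
          · rcases Nat.lt_or_ge v 180614 with h | h
            · exact edgesRangeI_spec iota E 3 928 179686 edges_3_67 v (by omega) (by omega)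
            · exact edgesRangeI_spec iota E 3 783 180614 edges_3_68 v (by omega) (by omega)
          · rcases Nat.lt_or_ge v 182141 with h | h
            · exact edgesRangeI_spec iota E 3 744 181397 edges_3_69 v (by omega) (by omega)
            · rcases Nat.lt_or_ge v 182828 with h | h
              · exact edgesRangeI_spec iota E 3 687 182141 edges_3_70 v (by omega) (by omega)
              · exact edgesRangeI_spec iota E 3 682 182828 edges_3_71 v (by omega) (by omega)
        · rcases Nat.lt_or_ge v 184905 with h | h
          · rcases Nat.lt_or_ge v 184185 with h | h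
            · exact edgesRangeI_spec iota E 3 675 183510 edges_3_72 v (by omega) (by omega)
            · exact edgesRangeI_spec iota E 3 720 184185 edges_3_73 v (by omega) (by omega)
          · rcases Nat.lt_or_ge v 185514 with h | h
            · exact edgesRangeI_spec iota E 3 609 184905 edges_3_74 v (by omega) (by omega)
            · rcases Nat.lt_or_ge v 186113 with h | h
              · exact edgesRangeI_spec iota E 3 599 185514 edges_3_75 v (by omega) (by omega)
              · exact edgesRangeI_spec iota E 3 208 186113 edges_3_76 v (by omega) (by omega)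

theorem hA0 : ∀ v, v < 186321 → aliasOK E v = true := by
  intro v hv
  rcases Nat.lt_or_ge v 88240 with h | h
  · rcases Nat.lt_or_ge v 46363 with h | h
    · rcases Nat.lt_or_ge v 24414 with h | h
      · rcases Nat.lt_or_ge v 12135 with h | h
        · rcases Nat.lt_or_ge v 5041 with h | h
          · rcases Nat.lt_or_ge v 2489 with h | h
            · exact aliasRange_spec E 2489 0 aliases_0 v (by omega) (by omega)
            · exact aliasRange_spec E 2552 2489 aliases_1 v (by omega) (by omega)
          · rcases Nat.lt_or_ge v 7505 with h | h
            · exact aliasRange_spec E 2464 5041 aliases_2 v (by omega) (by omega)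
            · rcases Nat.lt_or_ge v 9836 with h | h
              · exact aliasRange_spec E 2331 7505 aliases_3 v (by omega) (by omega)
              · exact aliasRange_spec E 2299 9836 aliases_4 v (by omega) (by omega)
        · rcases Nat.lt_or_ge v 16919 with h | h
          · rcases Nat.lt_or_ge v 14598 with h | h
            · exact aliasRange_spec E 2463 12135 aliases_5 v (by omega) (by omega)
            · exact aliasRange_spec E 2321 14598 aliases_6 v (by omega) (by omega)
          · rcases Nat.lt_or_ge v 19436 with h | h
            · exact aliasRange_spec E 2517 16919 aliases_7 v (by omega) (by omega)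
            · rcases Nat.lt_or_ge v 21864 with h | h
              · exact aliasRange_spec E 2428 19436 aliases_8 v (by omega) (by omega)
              · exact aliasRange_spec E 2550 21864 aliases_9 v (by omega) (by omega)
      · rcases Nat.lt_or_ge v 35175 with h | h
        · rcases Nat.lt_or_ge v 29017 with h | h
          · rcases Nat.lt_or_ge v 26650 with h | h
            · exact aliasRange_spec E 2236 24414 aliases_10 v (by omega) (by omega)
            · exact aliasRange_spec E 2367 26650 aliases_11 v (by omega) (by omega)
          · rcases Nat.lt_or_ge v 31287 with h | h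
            · exact aliasRange_spec E 2270 29017 aliases_12 v (by omega) (by omega)
            · rcases Nat.lt_or_ge v 33286 with h | h
              · exact aliasRange_spec E 1999 31287 aliases_13 v (by omega) (by omega)
              · exact aliasRange_spec E 1889 33286 aliases_14 v (by omega) (by omega)
        · rcases Nat.lt_or_ge v 39690 with h | h
          · rcases Nat.lt_or_ge v 37526 with h | h
            · exact aliasRange_spec E 2351 35175 aliases_15 v (by omega) (by omega)
            · exact aliasRange_spec E 2164 37526 aliases_16 v (by omega) (by omega)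
          · rcases Nat.lt_or_ge v 42051 with h | h
            · exact aliasRange_spec E 2361 39690 aliases_17 v (by omega) (by omega)
            · rcases Nat.lt_or_ge v 44275 with h | h
              · exact aliasRange_spec E 2224 42051 aliases_18 v (by omega) (by omega)
              · exact aliasRange_spec E 2088 44275 aliases_19 v (by omega) (by omega)
    · rcases Nat.lt_or_ge v 67468 with h | h
      · rcases Nat.lt_or_ge v 57203 with h | h
        · rcases Nat.lt_or_ge v 50961 with h | h
          · rcases Nat.lt_or_ge v 48681 with h | h
            · exact aliasRange_spec E 2318 46363 aliases_20 v (by omega) (by omega)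
            · exact aliasRange_spec E 2280 48681 aliases_21 v (by omega) (by omega)
          · rcases Nat.lt_or_ge v 52959 with h | h
            · exact aliasRange_spec E 1998 50961 aliases_22 v (by omega) (by omega)
            · rcases Nat.lt_or_ge v 55055 with h | h
              · exact aliasRange_spec E 2096 52959 aliases_23 v (by omega) (by omega)
              · exact aliasRange_spec E 2148 55055 aliases_24 v (by omega) (by omega)
        · rcases Nat.lt_or_ge v 61153 with h | h
          · rcases Nat.lt_or_ge v 59301 with h | h
            · exact aliasRange_spec E 2098 57203 aliases_25 v (by omega) (by omega)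
            · exact aliasRange_spec E 1852 59301 aliases_26 v (by omega) (by omega)
          · rcases Nat.lt_or_ge v 63295 with h | h
            · exact aliasRange_spec E 2142 61153 aliases_27 v (by omega) (by omega)
            · rcases Nat.lt_or_ge v 65353 with h | h
              · exact aliasRange_spec E 2058 63295 aliases_28 v (by omega) (by omega)
              · exact aliasRange_spec E 2115 65353 aliases_29 v (by omega) (by omega)
      · rcases Nat.lt_or_ge v 77711 with h | h
        · rcases Nat.lt_or_ge v 71628 with h | h
          · rcases Nat.lt_or_ge v 69671 with h | h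
            · exact aliasRange_spec E 2203 67468 aliases_30 v (by omega) (by omega)
            · exact aliasRange_spec E 1957 69671 aliases_31 v (by omega) (by omega)
          · rcases Nat.lt_or_ge v 73626 with h | h
            · exact aliasRange_spec E 1998 71628 aliases_32 v (by omega) (by omega)
            · rcases Nat.lt_or_ge v 75620 with h | h
              · exact aliasRange_spec E 1994 73626 aliases_33 v (by omega) (by omega)
              · exact aliasRange_spec E 2091 75620 aliases_34 v (by omega) (by omega)
        · rcases Nat.lt_or_ge v 82103 with h | h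
          · rcases Nat.lt_or_ge v 79880 with h | h
            · exact aliasRange_spec E 2169 77711 aliases_35 v (by omega) (by omega)
            · exact aliasRange_spec E 2223 79880 aliases_36 v (by omega) (by omega)
          · rcases Nat.lt_or_ge v 84259 with h | h
            · exact aliasRange_spec E 2156 82103 aliases_37 v (by omega) (by omega)
            · rcases Nat.lt_or_ge v 86182 with h | h
              · exact aliasRange_spec E 1923 84259 aliases_38 v (by omega) (by omega)
              · exact aliasRange_spec E 2058 86182 aliases_39 v (by omega) (by omega)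
  · rcases Nat.lt_or_ge v 129297 with h | h
    · rcases Nat.lt_or_ge v 109152 with h | h
      · rcases Nat.lt_or_ge v 98952 with h | h
        · rcases Nat.lt_or_ge v 92467 with h | h
          · rcases Nat.lt_or_ge v 90443 with h | h
            · exact aliasRange_spec E 2203 88240 aliases_40 v (by omega) (by omega)
            · exact aliasRange_spec E 2024 90443 aliases_41 v (by omega) (by omega)
          · rcases Nat.lt_or_ge v 94710 with h | h
            · exact aliasRange_spec E 2243 92467 aliases_42 v (by omega) (by omega)
            · rcases Nat.lt_or_ge v 96842 with h | h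
              · exact aliasRange_spec E 2132 94710 aliases_43 v (by omega) (by omega)
              · exact aliasRange_spec E 2110 96842 aliases_44 v (by omega) (by omega)
        · rcases Nat.lt_or_ge v 103070 with h | h
          · rcases Nat.lt_or_ge v 100927 with h | h
            · exact aliasRange_spec E 1975 98952 aliases_45 v (by omega) (by omega)
            · exact aliasRange_spec E 2143 100927 aliases_46 v (by omega) (by omega)
          · rcases Nat.lt_or_ge v 105000 with h | h
            · exact aliasRange_spec E 1930 103070 aliases_47 v (by omega) (by omega)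
            · rcases Nat.lt_or_ge v 107006 with h | h
              · exact aliasRange_spec E 2006 105000 aliases_48 v (by omega) (by omega)
              · exact aliasRange_spec E 2146 107006 aliases_49 v (by omega) (by omega)
      · rcases Nat.lt_or_ge v 119399 with h | h
        · rcases Nat.lt_or_ge v 113160 with h | h
          · rcases Nat.lt_or_ge v 111083 with h | h
            · exact aliasRange_spec E 1931 109152 aliases_50 v (by omega) (by omega)
            · exact aliasRange_spec E 2077 111083 aliases_51 v (by omega) (by omega)
          · rcases Nat.lt_or_ge v 115088 with h | h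
            · exact aliasRange_spec E 1928 113160 aliases_52 v (by omega) (by omega)
            · rcases Nat.lt_or_ge v 117365 with h | h
              · exact aliasRange_spec E 2277 115088 aliases_53 v (by omega) (by omega)
              · exact aliasRange_spec E 2034 117365 aliases_54 v (by omega) (by omega)
        · rcases Nat.lt_or_ge v 123265 with h | h
          · rcases Nat.lt_or_ge v 121464 with h | h
            · exact aliasRange_spec E 2065 119399 aliases_55 v (by omega) (by omega)
            · exact aliasRange_spec E 1801 121464 aliases_56 v (by omega) (by omega)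
          · rcases Nat.lt_or_ge v 125173 with h | h
            · exact aliasRange_spec E 1908 123265 aliases_57 v (by omega) (by omega)
            · rcases Nat.lt_or_ge v 127239 with h | h
              · exact aliasRange_spec E 2066 125173 aliases_58 v (by omega) (by omega)
              · exact aliasRange_spec E 2058 127239 aliases_59 v (by omega) (by omega)
    · rcases Nat.lt_or_ge v 148798 with h | h
      · rcases Nat.lt_or_ge v 139111 with h | h
        · rcases Nat.lt_or_ge v 133388 with h | h
          · rcases Nat.lt_or_ge v 131303 with h | h
            · exact aliasRange_spec E 2006 129297 aliases_60 v (by omega) (by omega)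
            · exact aliasRange_spec E 2085 131303 aliases_61 v (by omega) (by omega)
          · rcases Nat.lt_or_ge v 135408 with h | h
            · exact aliasRange_spec E 2020 133388 aliases_62 v (by omega) (by omega)
            · rcases Nat.lt_or_ge v 137279 with h | h
              · exact aliasRange_spec E 1871 135408 aliases_63 v (by omega) (by omega)
              · exact aliasRange_spec E 1832 137279 aliases_64 v (by omega) (by omega)
        · rcases Nat.lt_or_ge v 142760 with h | h
          · rcases Nat.lt_or_ge v 140883 with h | h
            · exact aliasRange_spec E 1772 139111 aliases_65 v (by omega) (by omega)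
            · exact aliasRange_spec E 1877 140883 aliases_66 v (by omega) (by omega)
          · rcases Nat.lt_or_ge v 144765 with h | h
            · exact aliasRange_spec E 2005 142760 aliases_67 v (by omega) (by omega)
            · rcases Nat.lt_or_ge v 146804 with h | h
              · exact aliasRange_spec E 2039 144765 aliases_68 v (by omega) (by omega)
              · exact aliasRange_spec E 1994 146804 aliases_69 v (by omega) (by omega)
      · rcases Nat.lt_or_ge v 159136 with h | h
        · rcases Nat.lt_or_ge v 152561 with h | h
          · rcases Nat.lt_or_ge v 150669 with h | h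
            · exact aliasRange_spec E 1871 148798 aliases_70 v (by omega) (by omega)
            · exact aliasRange_spec E 1892 150669 aliases_71 v (by omega) (by omega)
          · rcases Nat.lt_or_ge v 154693 with h | h
            · exact aliasRange_spec E 2132 152561 aliases_72 v (by omega) (by omega)
            · rcases Nat.lt_or_ge v 156668 with h | h
              · exact aliasRange_spec E 1975 154693 aliases_73 v (by omega) (by omega)
              · exact aliasRange_spec E 2468 156668 aliases_74 v (by omega) (by omega)
        · rcases Nat.lt_or_ge v 170450 with h | h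
          · rcases Nat.lt_or_ge v 163070 with h | h
            · exact aliasRange_spec E 3934 159136 aliases_75 v (by omega) (by omega)
            · rcases Nat.lt_or_ge v 166793 with h | h
              · exact aliasRange_spec E 3723 163070 aliases_76 v (by omega) (by omega)
              · exact aliasRange_spec E 3657 166793 aliases_77 v (by omega) (by omega)
          · rcases Nat.lt_or_ge v 174811 with h | h
            · exact aliasRange_spec E 4361 170450 aliases_78 v (by omega) (by omega)
            · rcases Nat.lt_or_ge v 181039 with h | h
              · exact aliasRange_spec E 6228 174811 aliases_79 v (by omega) (by omega)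
              · exact aliasRange_spec E 5282 181039 aliases_80 v (by omega) (by omega)

theorem hrows0 : ∀ v, v < 186321 → tb RS v = true → rowOK2 E RS v E.D.k = true := by
  intro v hv
  rcases Nat.lt_or_ge v 93000 with h | h
  · rcases Nat.lt_or_ge v 46500 with h | h
    · rcases Nat.lt_or_ge v 22500 with h | h
      · rcases Nat.lt_or_ge v 10500 with h | h
        · rcases Nat.lt_or_ge v 4500 with h | h
          · rcases Nat.lt_or_ge v 1500 with h | h
            · exact rowsRange_spec E RS 1500 0 rows_0 v (by omega) (by omega)
            · rcases Nat.lt_or_ge v 3000 with h | h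
              · exact rowsRange_spec E RS 1500 1500 rows_1 v (by omega) (by omega)
              · exact rowsRange_spec E RS 1500 3000 rows_2 v (by omega) (by omega)
          · rcases Nat.lt_or_ge v 7500 with h | h
            · rcases Nat.lt_or_ge v 6000 with h | h
              · exact rowsRange_spec E RS 1500 4500 rows_3 v (by omega) (by omega)
              · exact rowsRange_spec E RS 1500 6000 rows_4 v (by omega) (by omega)
            · rcases Nat.lt_or_ge v 9000 with h | h
              · exact rowsRange_spec E RS 1500 7500 rows_5 v (by omega) (by omega)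
              · exact rowsRange_spec E RS 1500 9000 rows_6 v (by omega) (by omega)
        · rcases Nat.lt_or_ge v 16500 with h | h
          · rcases Nat.lt_or_ge v 13500 with h | h
            · rcases Nat.lt_or_ge v 12000 with h | h
              · exact rowsRange_spec E RS 1500 10500 rows_7 v (by omega) (by omega)
              · exact rowsRange_spec E RS 1500 12000 rows_8 v (by omega) (by omega)
            · rcases Nat.lt_or_ge v 15000 with h | h
              · exact rowsRange_spec E RS 1500 13500 rows_9 v (by omega) (by omega)
              · exact rowsRange_spec E RS 1500 15000 rows_10 v (by omega) (by omega)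
          · rcases Nat.lt_or_ge v 19500 with h | h
            · rcases Nat.lt_or_ge v 18000 with h | h
              · exact rowsRange_spec E RS 1500 16500 rows_11 v (by omega) (by omega)
              · exact rowsRange_spec E RS 1500 18000 rows_12 v (by omega) (by omega)
            · rcases Nat.lt_or_ge v 21000 with h | h
              · exact rowsRange_spec E RS 1500 19500 rows_13 v (by omega) (by omega)
              · exact rowsRange_spec E RS 1500 21000 rows_14 v (by omega) (by omega)
      · rcases Nat.lt_or_ge v 34500 with h | h
        · rcases Nat.lt_or_ge v 28500 with h | h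
          · rcases Nat.lt_or_ge v 25500 with h | h
            · rcases Nat.lt_or_ge v 24000 with h | h
              · exact rowsRange_spec E RS 1500 22500 rows_15 v (by omega) (by omega)
              · exact rowsRange_spec E RS 1500 24000 rows_16 v (by omega) (by omega)
            · rcases Nat.lt_or_ge v 27000 with h | h
              · exact rowsRange_spec E RS 1500 25500 rows_17 v (by omega) (by omega)
              · exact rowsRange_spec E RS 1500 27000 rows_18 v (by omega) (by omega)
          · rcases Nat.lt_or_ge v 31500 with h | h
            · rcases Nat.lt_or_ge v 30000 with h | h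
              · exact rowsRange_spec E RS 1500 28500 rows_19 v (by omega) (by omega)
              · exact rowsRange_spec E RS 1500 30000 rows_20 v (by omega) (by omega)
            · rcases Nat.lt_or_ge v 33000 with h | h
              · exact rowsRange_spec E RS 1500 31500 rows_21 v (by omega) (by omega)
              · exact rowsRange_spec E RS 1500 33000 rows_22 v (by omega) (by omega)
        · rcases Nat.lt_or_ge v 40500 with h | h
          · rcases Nat.lt_or_ge v 37500 with h | h
            · rcases Nat.lt_or_ge v 36000 with h | h
              · exact rowsRange_spec E RS 1500 34500 rows_23 v (by omega) (by omega)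
              · exact rowsRange_spec E RS 1500 36000 rows_24 v (by omega) (by omega)
            · rcases Nat.lt_or_ge v 39000 with h | h
              · exact rowsRange_spec E RS 1500 37500 rows_25 v (by omega) (by omega)
              · exact rowsRange_spec E RS 1500 39000 rows_26 v (by omega) (by omega)
          · rcases Nat.lt_or_ge v 43500 with h | h
            · rcases Nat.lt_or_ge v 42000 with h | h
              · exact rowsRange_spec E RS 1500 40500 rows_27 v (by omega) (by omega)
              · exact rowsRange_spec E RS 1500 42000 rows_28 v (by omega) (by omega)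
            · rcases Nat.lt_or_ge v 45000 with h | h
              · exact rowsRange_spec E RS 1500 43500 rows_29 v (by omega) (by omega)
              · exact rowsRange_spec E RS 1500 45000 rows_30 v (by omega) (by omega)
    · rcases Nat.lt_or_ge v 69000 with h | h
      · rcases Nat.lt_or_ge v 57000 with h | h
        · rcases Nat.lt_or_ge v 51000 with h | h
          · rcases Nat.lt_or_ge v 48000 with h | h
            · exact rowsRange_spec E RS 1500 46500 rows_31 v (by omega) (by omega)
            · rcases Nat.lt_or_ge v 49500 with h | h
              · exact rowsRange_spec E RS 1500 48000 rows_32 v (by omega) (by omega)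
              · exact rowsRange_spec E RS 1500 49500 rows_33 v (by omega) (by omega)
          · rcases Nat.lt_or_ge v 54000 with h | h
            · rcases Nat.lt_or_ge v 52500 with h | h
              · exact rowsRange_spec E RS 1500 51000 rows_34 v (by omega) (by omega)
              · exact rowsRange_spec E RS 1500 52500 rows_35 v (by omega) (by omega)
            · rcases Nat.lt_or_ge v 55500 with h | h
              · exact rowsRange_spec E RS 1500 54000 rows_36 v (by omega) (by omega)
              · exact rowsRange_spec E RS 1500 55500 rows_37 v (by omega) (by omega)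
        · rcases Nat.lt_or_ge v 63000 with h | h
          · rcases Nat.lt_or_ge v 60000 with h | h
            · rcases Nat.lt_or_ge v 58500 with h | h
              · exact rowsRange_spec E RS 1500 57000 rows_38 v (by omega) (by omega)
              · exact rowsRange_spec E RS 1500 58500 rows_39 v (by omega) (by omega)
            · rcases Nat.lt_or_ge v 61500 with h | h
              · exact rowsRange_spec E RS 1500 60000 rows_40 v (by omega) (by omega)
              · exact rowsRange_spec E RS 1500 61500 rows_41 v (by omega) (by omega)
          · rcases Nat.lt_or_ge v 66000 with h | h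
            · rcases Nat.lt_or_ge v 64500 with h | h
              · exact rowsRange_spec E RS 1500 63000 rows_42 v (by omega) (by omega)
              · exact rowsRange_spec E RS 1500 64500 rows_43 v (by omega) (by omega)
            · rcases Nat.lt_or_ge v 67500 with h | h
              · exact rowsRange_spec E RS 1500 66000 rows_44 v (by omega) (by omega)
              · exact rowsRange_spec E RS 1500 67500 rows_45 v (by omega) (by omega)
      · rcases Nat.lt_or_ge v 81000 with h | h
        · rcases Nat.lt_or_ge v 75000 with h | h
          · rcases Nat.lt_or_ge v 72000 with h | h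
            · rcases Nat.lt_or_ge v 70500 with h | h
              · exact rowsRange_spec E RS 1500 69000 rows_46 v (by omega) (by omega)
              · exact rowsRange_spec E RS 1500 70500 rows_47 v (by omega) (by omega)
            · rcases Nat.lt_or_ge v 73500 with h | h
              · exact rowsRange_spec E RS 1500 72000 rows_48 v (by omega) (by omega)
              · exact rowsRange_spec E RS 1500 73500 rows_49 v (by omega) (by omega)
          · rcases Nat.lt_or_ge v 78000 with h | h
            · rcases Nat.lt_or_ge v 76500 with h | h
              · exact rowsRange_spec E RS 1500 75000 rows_50 v (by omega) (by omega)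
              · exact rowsRange_spec E RS 1500 76500 rows_51 v (by omega) (by omega)
            · rcases Nat.lt_or_ge v 79500 with h | h
              · exact rowsRange_spec E RS 1500 78000 rows_52 v (by omega) (by omega)
              · exact rowsRange_spec E RS 1500 79500 rows_53 v (by omega) (by omega)
        · rcases Nat.lt_or_ge v 87000 with h | h
          · rcases Nat.lt_or_ge v 84000 with h | h
            · rcases Nat.lt_or_ge v 82500 with h | h
              · exact rowsRange_spec E RS 1500 81000 rows_54 v (by omega) (by omega)
              · exact rowsRange_spec E RS 1500 82500 rows_55 v (by omega) (by omega)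
            · rcases Nat.lt_or_ge v 85500 with h | h
              · exact rowsRange_spec E RS 1500 84000 rows_56 v (by omega) (by omega)
              · exact rowsRange_spec E RS 1500 85500 rows_57 v (by omega) (by omega)
          · rcases Nat.lt_or_ge v 90000 with h | h
            · rcases Nat.lt_or_ge v 88500 with h | h
              · exact rowsRange_spec E RS 1500 87000 rows_58 v (by omega) (by omega)
              · exact rowsRange_spec E RS 1500 88500 rows_59 v (by omega) (by omega)
            · rcases Nat.lt_or_ge v 91500 with h | h
              · exact rowsRange_spec E RS 1500 90000 rows_60 v (by omega) (by omega)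
              · exact rowsRange_spec E RS 1500 91500 rows_61 v (by omega) (by omega)
  · rcases Nat.lt_or_ge v 139500 with h | h
    · rcases Nat.lt_or_ge v 115500 with h | h
      · rcases Nat.lt_or_ge v 103500 with h | h
        · rcases Nat.lt_or_ge v 97500 with h | h
          · rcases Nat.lt_or_ge v 94500 with h | h
            · exact rowsRange_spec E RS 1500 93000 rows_62 v (by omega) (by omega)
            · rcases Nat.lt_or_ge v 96000 with h | h
              · exact rowsRange_spec E RS 1500 94500 rows_63 v (by omega) (by omega)
              · exact rowsRange_spec E RS 1500 96000 rows_64 v (by omega) (by omega)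
          · rcases Nat.lt_or_ge v 100500 with h | h
            · rcases Nat.lt_or_ge v 99000 with h | h
              · exact rowsRange_spec E RS 1500 97500 rows_65 v (by omega) (by omega)
              · exact rowsRange_spec E RS 1500 99000 rows_66 v (by omega) (by omega)
            · rcases Nat.lt_or_ge v 102000 with h | h
              · exact rowsRange_spec E RS 1500 100500 rows_67 v (by omega) (by omega)
              · exact rowsRange_spec E RS 1500 102000 rows_68 v (by omega) (by omega)
        · rcases Nat.lt_or_ge v 109500 with h | h
          · rcases Nat.lt_or_ge v 106500 with h | h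
            · rcases Nat.lt_or_ge v 105000 with h | h
              · exact rowsRange_spec E RS 1500 103500 rows_69 v (by omega) (by omega)
              · exact rowsRange_spec E RS 1500 105000 rows_70 v (by omega) (by omega)
            · rcases Nat.lt_or_ge v 108000 with h | h
              · exact rowsRange_spec E RS 1500 106500 rows_71 v (by omega) (by omega)
              · exact rowsRange_spec E RS 1500 108000 rows_72 v (by omega) (by omega)
          · rcases Nat.lt_or_ge v 112500 with h | h
            · rcases Nat.lt_or_ge v 111000 with h | h
              · exact rowsRange_spec E RS 1500 109500 rows_73 v (by omega) (by omega)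
              · exact rowsRange_spec E RS 1500 111000 rows_74 v (by omega) (by omega)
            · rcases Nat.lt_or_ge v 114000 with h | h
              · exact rowsRange_spec E RS 1500 112500 rows_75 v (by omega) (by omega)
              · exact rowsRange_spec E RS 1500 114000 rows_76 v (by omega) (by omega)
      · rcases Nat.lt_or_ge v 127500 with h | h
        · rcases Nat.lt_or_ge v 121500 with h | h
          · rcases Nat.lt_or_ge v 118500 with h | h
            · rcases Nat.lt_or_ge v 117000 with h | h
              · exact rowsRange_spec E RS 1500 115500 rows_77 v (by omega) (by omega)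
              · exact rowsRange_spec E RS 1500 117000 rows_78 v (by omega) (by omega)
            · rcases Nat.lt_or_ge v 120000 with h | h
              · exact rowsRange_spec E RS 1500 118500 rows_79 v (by omega) (by omega)
              · exact rowsRange_spec E RS 1500 120000 rows_80 v (by omega) (by omega)
          · rcases Nat.lt_or_ge v 124500 with h | h
            · rcases Nat.lt_or_ge v 123000 with h | h
              · exact rowsRange_spec E RS 1500 121500 rows_81 v (by omega) (by omega)
              · exact rowsRange_spec E RS 1500 123000 rows_82 v (by omega) (by omega)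
            · rcases Nat.lt_or_ge v 126000 with h | h
              · exact rowsRange_spec E RS 1500 124500 rows_83 v (by omega) (by omega)
              · exact rowsRange_spec E RS 1500 126000 rows_84 v (by omega) (by omega)
        · rcases Nat.lt_or_ge v 133500 with h | h
          · rcases Nat.lt_or_ge v 130500 with h | h
            · rcases Nat.lt_or_ge v 129000 with h | h
              · exact rowsRange_spec E RS 1500 127500 rows_85 v (by omega) (by omega)
              · exact rowsRange_spec E RS 1500 129000 rows_86 v (by omega) (by omega)
            · rcases Nat.lt_or_ge v 132000 with h | h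
              · exact rowsRange_spec E RS 1500 130500 rows_87 v (by omega) (by omega)
              · exact rowsRange_spec E RS 1500 132000 rows_88 v (by omega) (by omega)
          · rcases Nat.lt_or_ge v 136500 with h | h
            · rcases Nat.lt_or_ge v 135000 with h | h
              · exact rowsRange_spec E RS 1500 133500 rows_89 v (by omega) (by omega)
              · exact rowsRange_spec E RS 1500 135000 rows_90 v (by omega) (by omega)
            · rcases Nat.lt_or_ge v 138000 with h | h
              · exact rowsRange_spec E RS 1500 136500 rows_91 v (by omega) (by omega)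
              · exact rowsRange_spec E RS 1500 138000 rows_92 v (by omega) (by omega)
    · rcases Nat.lt_or_ge v 163500 with h | h
      · rcases Nat.lt_or_ge v 151500 with h | h
        · rcases Nat.lt_or_ge v 145500 with h | h
          · rcases Nat.lt_or_ge v 142500 with h | h
            · rcases Nat.lt_or_ge v 141000 with h | h
              · exact rowsRange_spec E RS 1500 139500 rows_93 v (by omega) (by omega)
              · exact rowsRange_spec E RS 1500 141000 rows_94 v (by omega) (by omega)
            · rcases Nat.lt_or_ge v 144000 with h | h
              · exact rowsRange_spec E RS 1500 142500 rows_95 v (by omega) (by omega)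
              · exact rowsRange_spec E RS 1500 144000 rows_96 v (by omega) (by omega)
          · rcases Nat.lt_or_ge v 148500 with h | h
            · rcases Nat.lt_or_ge v 147000 with h | h
              · exact rowsRange_spec E RS 1500 145500 rows_97 v (by omega) (by omega)
              · exact rowsRange_spec E RS 1500 147000 rows_98 v (by omega) (by omega)
            · rcases Nat.lt_or_ge v 150000 with h | h
              · exact rowsRange_spec E RS 1500 148500 rows_99 v (by omega) (by omega)
              · exact rowsRange_spec E RS 1500 150000 rows_100 v (by omega) (by omega)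
        · rcases Nat.lt_or_ge v 157500 with h | h
          · rcases Nat.lt_or_ge v 154500 with h | h
            · rcases Nat.lt_or_ge v 153000 with h | h
              · exact rowsRange_spec E RS 1500 151500 rows_101 v (by omega) (by omega)
              · exact rowsRange_spec E RS 1500 153000 rows_102 v (by omega) (by omega)
            · rcases Nat.lt_or_ge v 156000 with h | h
              · exact rowsRange_spec E RS 1500 154500 rows_103 v (by omega) (by omega)
              · exact rowsRange_spec E RS 1500 156000 rows_104 v (by omega) (by omega)
          · rcases Nat.lt_or_ge v 160500 with h | h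
            · rcases Nat.lt_or_ge v 159000 with h | h
              · exact rowsRange_spec E RS 1500 157500 rows_105 v (by omega) (by omega)
              · exact rowsRange_spec E RS 1500 159000 rows_106 v (by omega) (by omega)
            · rcases Nat.lt_or_ge v 162000 with h | h
              · exact rowsRange_spec E RS 1500 160500 rows_107 v (by omega) (by omega)
              · exact rowsRange_spec E RS 1500 162000 rows_108 v (by omega) (by omega)
      · rcases Nat.lt_or_ge v 175500 with h | h
        · rcases Nat.lt_or_ge v 169500 with h | h
          · rcases Nat.lt_or_ge v 166500 with h | h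
            · rcases Nat.lt_or_ge v 165000 with h | h
              · exact rowsRange_spec E RS 1500 163500 rows_109 v (by omega) (by omega)
              · exact rowsRange_spec E RS 1500 165000 rows_110 v (by omega) (by omega)
            · rcases Nat.lt_or_ge v 168000 with h | h
              · exact rowsRange_spec E RS 1500 166500 rows_111 v (by omega) (by omega)
              · exact rowsRange_spec E RS 1500 168000 rows_112 v (by omega) (by omega)
          · rcases Nat.lt_or_ge v 172500 with h | h
            · rcases Nat.lt_or_ge v 171000 with h | h
              · exact rowsRange_spec E RS 1500 169500 rows_113 v (by omega) (by omega)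
              · exact rowsRange_spec E RS 1500 171000 rows_114 v (by omega) (by omega)
            · rcases Nat.lt_or_ge v 174000 with h | h
              · exact rowsRange_spec E RS 1500 172500 rows_115 v (by omega) (by omega)
              · exact rowsRange_spec E RS 1500 174000 rows_116 v (by omega) (by omega)
        · rcases Nat.lt_or_ge v 181500 with h | h
          · rcases Nat.lt_or_ge v 178500 with h | h
            · rcases Nat.lt_or_ge v 177000 with h | h
              · exact rowsRange_spec E RS 1500 175500 rows_117 v (by omega) (by omega)
              · exact rowsRange_spec E RS 1500 177000 rows_118 v (by omega) (by omega)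
            · rcases Nat.lt_or_ge v 180000 with h | h
              · exact rowsRange_spec E RS 1500 178500 rows_119 v (by omega) (by omega)
              · exact rowsRange_spec E RS 1500 180000 rows_120 v (by omega) (by omega)
          · rcases Nat.lt_or_ge v 184500 with h | h
            · rcases Nat.lt_or_ge v 183000 with h | h
              · exact rowsRange_spec E RS 1500 181500 rows_121 v (by omega) (by omega)
              · exact rowsRange_spec E RS 1500 183000 rows_122 v (by omega) (by omega)
            · rcases Nat.lt_or_ge v 186000 with h | h
              · exact rowsRange_spec E RS 1500 184500 rows_123 v (by omega) (by omega)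
              · exact rowsRange_spec E RS 321 186000 rows_124 v (by omega) (by omega)

theorem cb_0 : cntBits RS 0 = 0 := rfl

theorem cb_1 : cntBits RS 20000 = 4955 := by
  have h := cntBits_step RS 0 20000
  rw [cb_0, cnt_0] at h
  exact h

theorem cb_2 : cntBits RS 40000 = 8364 := by
  have h := cntBits_step RS 20000 20000
  rw [cb_1, cnt_1] at h
  exact h

theorem cb_3 : cntBits RS 60000 = 11400 := by
  have h := cntBits_step RS 40000 20000
  rw [cb_2, cnt_2] at h
  exact h

theorem cb_4 : cntBits RS 80000 = 14161 := by
  have h := cntBits_step RS 60000 20000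
  rw [cb_3, cnt_3] at h
  exact h

theorem cb_5 : cntBits RS 100000 = 17284 := by
  have h := cntBits_step RS 80000 20000
  rw [cb_4, cnt_4] at h
  exact h

theorem cb_6 : cntBits RS 120000 = 19630 := by
  have h := cntBits_step RS 100000 20000
  rw [cb_5, cnt_5] at h
  exact h

theorem cb_7 : cntBits RS 140000 = 22092 := by
  have h := cntBits_step RS 120000 20000
  rw [cb_6, cnt_6] at h
  exact h

theorem cb_8 : cntBits RS 160000 = 24739 := by
  have h := cntBits_step RS 140000 20000
  rw [cb_7, cnt_7] at h
  exact h

theorem cb_9 : cntBits RS 180000 = 39894 := by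
  have h := cntBits_step RS 160000 20000
  rw [cb_8, cnt_8] at h
  exact h

theorem cb_10 : cntBits RS 186321 = 46080 := by
  have h := cntBits_step RS 180000 6321
  rw [cb_9, cnt_9] at h
  exact h

theorem set_ok : setOK 186321 46080 RS = true :=
  setOK_of_parts cb_10 set_zero set_lt

theorem relf_0 : ∀ v, v < 46080 → W_0 v = v := by
  intro v hv
  exact fixPtsF_spec W_0 46080 0 relc_0_0 v (by omega) (by omega)

set_option maxRecDepth 1000000 in
theorem walk_0 : ∀ v, walkT ctF (D.wlen 0) (D.wordP 0) v = W_0 v := by
  intro v
  simp only [W_0, forceL_eq]
  rfl

theorem relw_0 : ∀ v, v < 46080 → walkT ctF (D.wlen 0) (D.wordP 0) v = v := by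
  intro v hv
  rw [walk_0]
  exact relf_0 v hv

theorem relf_1 : ∀ v, v < 46080 → W_1 v = v := by
  intro v hv
  exact fixPtsF_spec W_1 46080 0 relc_1_0 v (by omega) (by omega)

set_option maxRecDepth 1000000 in
theorem walk_1 : ∀ v, walkT ctF (D.wlen 1) (D.wordP 1) v = W_1 v := by
  intro v
  simp only [W_1, forceL_eq]
  rfl

theorem relw_1 : ∀ v, v < 46080 → walkT ctF (D.wlen 1) (D.wordP 1) v = v := by
  intro v hv
  rw [walk_1]
  exact relf_1 v hv

theorem relf_2 : ∀ v, v < 46080 → W_2 v = v := by
  intro v hv
  rcases Nat.lt_or_ge v 28571 with h | h
  · exact fixPtsF_spec W_2 28571 0 relc_2_0 v (by omega) (by omega)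
  · exact fixPtsF_spec W_2 17509 28571 relc_2_1 v (by omega) (by omega)

set_option maxRecDepth 1000000 in
theorem walk_2 : ∀ v, walkT ctF (D.wlen 2) (D.wordP 2) v = W_2 v := by
  intro v
  simp only [W_2, forceL_eq]
  rfl

theorem relw_2 : ∀ v, v < 46080 → walkT ctF (D.wlen 2) (D.wordP 2) v = v := by
  intro v hv
  rw [walk_2]
  exact relf_2 v hv

theorem relf_3 : ∀ v, v < 46080 → W_3 v = v := by
  intro v hv
  exact fixPtsF_spec W_3 46080 0 relc_3_0 v (by omega) (by omega)

set_option maxRecDepth 1000000 in
theorem walk_3 : ∀ v, walkT ctF (D.wlen 3) (D.wordP 3) v = W_3 v := by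
  intro v
  simp only [W_3, forceL_eq]
  rfl

theorem relw_3 : ∀ v, v < 46080 → walkT ctF (D.wlen 3) (D.wordP 3) v = v := by
  intro v hv
  rw [walk_3]
  exact relf_3 v hv

theorem relf_4 : ∀ v, v < 46080 → W_4 v = v := by
  intro v hv
  exact fixPtsF_spec W_4 46080 0 relc_4_0 v (by omega) (by omega)

set_option maxRecDepth 1000000 in
theorem walk_4 : ∀ v, walkT ctF (D.wlen 4) (D.wordP 4) v = W_4 v := by
  intro v
  simp only [W_4, forceL_eq]
  rfl

theorem relw_4 : ∀ v, v < 46080 → walkT ctF (D.wlen 4) (D.wordP 4) v = v := by
  intro v hv
  rw [walk_4]
  exact relf_4 v hv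

theorem relf_5 : ∀ v, v < 46080 → W_5 v = v := by
  intro v hv
  rcases Nat.lt_or_ge v 28571 with h | h
  · exact fixPtsF_spec W_5 28571 0 relc_5_0 v (by omega) (by omega)
  · exact fixPtsF_spec W_5 17509 28571 relc_5_1 v (by omega) (by omega)

set_option maxRecDepth 1000000 in
theorem walk_5 : ∀ v, walkT ctF (D.wlen 5) (D.wordP 5) v = W_5 v := by
  intro v
  simp only [W_5, forceL_eq]
  rfl

theorem relw_5 : ∀ v, v < 46080 → walkT ctF (D.wlen 5) (D.wordP 5) v = v := by
  intro v hv
  rw [walk_5]
  exact relf_5 v hv

theorem relf_6 : ∀ v, v < 46080 → W_6 v = v := by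
  intro v hv
  rcases Nat.lt_or_ge v 20000 with h | h
  · rcases Nat.lt_or_ge v 10000 with h | h
    · exact fixPtsF_spec W_6 10000 0 relc_6_0 v (by omega) (by omega)
    · exact fixPtsF_spec W_6 10000 10000 relc_6_1 v (by omega) (by omega)
  · rcases Nat.lt_or_ge v 30000 with h | h
    · exact fixPtsF_spec W_6 10000 20000 relc_6_2 v (by omega) (by omega)
    · rcases Nat.lt_or_ge v 40000 with h | h
      · exact fixPtsF_spec W_6 10000 30000 relc_6_3 v (by omega) (by omega)
      · exact fixPtsF_spec W_6 6080 40000 relc_6_4 v (by omega) (by omega)

set_option maxRecDepth 1000000 in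
theorem walk_6 : ∀ v, walkT ctF (D.wlen 6) (D.wordP 6) v = W_6 v := by
  intro v
  simp only [W_6, forceL_eq]
  rfl

theorem relw_6 : ∀ v, v < 46080 → walkT ctF (D.wlen 6) (D.wordP 6) v = v := by
  intro v hv
  rw [walk_6]
  exact relf_6 v hv

theorem relf_7 : ∀ v, v < 46080 → W_7 v = v := by
  intro v hv
  rcases Nat.lt_or_ge v 20000 with h | h
  · rcases Nat.lt_or_ge v 10000 with h | h
    · exact fixPtsF_spec W_7 10000 0 relc_7_0 v (by omega) (by omega)
    · exact fixPtsF_spec W_7 10000 10000 relc_7_1 v (by omega) (by omega)
  · rcases Nat.lt_or_ge v 30000 with h | h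
    · exact fixPtsF_spec W_7 10000 20000 relc_7_2 v (by omega) (by omega)
    · rcases Nat.lt_or_ge v 40000 with h | h
      · exact fixPtsF_spec W_7 10000 30000 relc_7_3 v (by omega) (by omega)
      · exact fixPtsF_spec W_7 6080 40000 relc_7_4 v (by omega) (by omega)

set_option maxRecDepth 1000000 in
theorem walk_7 : ∀ v, walkT ctF (D.wlen 7) (D.wordP 7) v = W_7 v := by
  intro v
  simp only [W_7, forceL_eq]
  rfl

theorem relw_7 : ∀ v, v < 46080 → walkT ctF (D.wlen 7) (D.wordP 7) v = v := by
  intro v hv
  rw [walk_7]
  exact relf_7 v hv

theorem relf_8 : ∀ v, v < 46080 → W_8 v = v := by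
  intro v hv
  rcases Nat.lt_or_ge v 20000 with h | h
  · rcases Nat.lt_or_ge v 10000 with h | h
    · exact fixPtsF_spec W_8 10000 0 relc_8_0 v (by omega) (by omega)
    · exact fixPtsF_spec W_8 10000 10000 relc_8_1 v (by omega) (by omega)
  · rcases Nat.lt_or_ge v 30000 with h | h
    · exact fixPtsF_spec W_8 10000 20000 relc_8_2 v (by omega) (by omega)
    · rcases Nat.lt_or_ge v 40000 with h | h
      · exact fixPtsF_spec W_8 10000 30000 relc_8_3 v (by omega) (by omega)
      · exact fixPtsF_spec W_8 6080 40000 relc_8_4 v (by omega) (by omega)

set_option maxRecDepth 1000000 in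
theorem walk_8 : ∀ v, walkT ctF (D.wlen 8) (D.wordP 8) v = W_8 v := by
  intro v
  simp only [W_8, forceL_eq]
  rfl

theorem relw_8 : ∀ v, v < 46080 → walkT ctF (D.wlen 8) (D.wordP 8) v = v := by
  intro v hv
  rw [walk_8]
  exact relf_8 v hv

theorem relf_9 : ∀ v, v < 46080 → W_9 v = v := by
  intro v hv
  rcases Nat.lt_or_ge v 20000 with h | h
  · rcases Nat.lt_or_ge v 10000 with h | h
    · exact fixPtsF_spec W_9 10000 0 relc_9_0 v (by omega) (by omega)
    · exact fixPtsF_spec W_9 10000 10000 relc_9_1 v (by omega) (by omega)
  · rcases Nat.lt_or_ge v 30000 with h | h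
    · exact fixPtsF_spec W_9 10000 20000 relc_9_2 v (by omega) (by omega)
    · rcases Nat.lt_or_ge v 40000 with h | h
      · exact fixPtsF_spec W_9 10000 30000 relc_9_3 v (by omega) (by omega)
      · exact fixPtsF_spec W_9 6080 40000 relc_9_4 v (by omega) (by omega)

set_option maxRecDepth 1000000 in
theorem walk_9 : ∀ v, walkT ctF (D.wlen 9) (D.wordP 9) v = W_9 v := by
  intro v
  simp only [W_9, forceL_eq]
  rfl

theorem relw_9 : ∀ v, v < 46080 → walkT ctF (D.wlen 9) (D.wordP 9) v = v := by
  intro v hv
  rw [walk_9]
  exact relf_9 v hv

theorem relf_10 : ∀ v, v < 46080 → W_10 v = v := by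
  intro v hv
  rcases Nat.lt_or_ge v 27270 with h | h
  · rcases Nat.lt_or_ge v 9090 with h | h
    · exact fixPtsF_spec W_10 9090 0 relc_10_0 v (by omega) (by omega)
    · rcases Nat.lt_or_ge v 18180 with h | h
      · exact fixPtsF_spec W_10 9090 9090 relc_10_1 v (by omega) (by omega)
      · exact fixPtsF_spec W_10 9090 18180 relc_10_2 v (by omega) (by omega)
  · rcases Nat.lt_or_ge v 36360 with h | h
    · exact fixPtsF_spec W_10 9090 27270 relc_10_3 v (by omega) (by omega)
    · rcases Nat.lt_or_ge v 45450 with h | h
      · exact fixPtsF_spec W_10 9090 36360 relc_10_4 v (by omega) (by omega)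
      · exact fixPtsF_spec W_10 630 45450 relc_10_5 v (by omega) (by omega)

set_option maxRecDepth 1000000 in
theorem walk_10 : ∀ v, walkT ctF (D.wlen 10) (D.wordP 10) v = W_10 v := by
  intro v
  simp only [W_10, forceL_eq]
  rfl

theorem relw_10 : ∀ v, v < 46080 → walkT ctF (D.wlen 10) (D.wordP 10) v = v := by
  intro v hv
  rw [walk_10]
  exact relf_10 v hv

theorem relf_11 : ∀ v, v < 46080 → W_11 v = v := by
  intro v hv
  rcases Nat.lt_or_ge v 27270 with h | h
  · rcases Nat.lt_or_ge v 9090 with h | h
    · exact fixPtsF_spec W_11 9090 0 relc_11_0 v (by omega) (by omega)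
    · rcases Nat.lt_or_ge v 18180 with h | h
      · exact fixPtsF_spec W_11 9090 9090 relc_11_1 v (by omega) (by omega)
      · exact fixPtsF_spec W_11 9090 18180 relc_11_2 v (by omega) (by omega)
  · rcases Nat.lt_or_ge v 36360 with h | h
    · exact fixPtsF_spec W_11 9090 27270 relc_11_3 v (by omega) (by omega)
    · rcases Nat.lt_or_ge v 45450 with h | h
      · exact fixPtsF_spec W_11 9090 36360 relc_11_4 v (by omega) (by omega)
      · exact fixPtsF_spec W_11 630 45450 relc_11_5 v (by omega) (by omega)

set_option maxRecDepth 1000000 in
theorem walk_11 : ∀ v, walkT ctF (D.wlen 11) (D.wordP 11) v = W_11 v := by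
  intro v
  simp only [W_11, forceL_eq]
  rfl

theorem relw_11 : ∀ v, v < 46080 → walkT ctF (D.wlen 11) (D.wordP 11) v = v := by
  intro v hv
  rw [walk_11]
  exact relf_11 v hv

theorem relf_12 : ∀ v, v < 46080 → W_12 v = v := by
  intro v hv
  rcases Nat.lt_or_ge v 27270 with h | h
  · rcases Nat.lt_or_ge v 9090 with h | h
    · exact fixPtsF_spec W_12 9090 0 relc_12_0 v (by omega) (by omega)
    · rcases Nat.lt_or_ge v 18180 with h | h
      · exact fixPtsF_spec W_12 9090 9090 relc_12_1 v (by omega) (by omega)
      · exact fixPtsF_spec W_12 9090 18180 relc_12_2 v (by omega) (by omega)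
  · rcases Nat.lt_or_ge v 36360 with h | h
    · exact fixPtsF_spec W_12 9090 27270 relc_12_3 v (by omega) (by omega)
    · rcases Nat.lt_or_ge v 45450 with h | h
      · exact fixPtsF_spec W_12 9090 36360 relc_12_4 v (by omega) (by omega)
      · exact fixPtsF_spec W_12 630 45450 relc_12_5 v (by omega) (by omega)

set_option maxRecDepth 1000000 in
theorem walk_12 : ∀ v, walkT ctF (D.wlen 12) (D.wordP 12) v = W_12 v := by
  intro v
  simp only [W_12, forceL_eq]
  rfl

theorem relw_12 : ∀ v, v < 46080 → walkT ctF (D.wlen 12) (D.wordP 12) v = v := by
  intro v hv
  rw [walk_12]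
  exact relf_12 v hv

theorem relf_13 : ∀ v, v < 46080 → W_13 v = v := by
  intro v hv
  rcases Nat.lt_or_ge v 27270 with h | h
  · rcases Nat.lt_or_ge v 9090 with h | h
    · exact fixPtsF_spec W_13 9090 0 relc_13_0 v (by omega) (by omega)
    · rcases Nat.lt_or_ge v 18180 with h | h
      · exact fixPtsF_spec W_13 9090 9090 relc_13_1 v (by omega) (by omega)
      · exact fixPtsF_spec W_13 9090 18180 relc_13_2 v (by omega) (by omega)
  · rcases Nat.lt_or_ge v 36360 with h | h
    · exact fixPtsF_spec W_13 9090 27270 relc_13_3 v (by omega) (by omega)
    · rcases Nat.lt_or_ge v 45450 with h | h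
      · exact fixPtsF_spec W_13 9090 36360 relc_13_4 v (by omega) (by omega)
      · exact fixPtsF_spec W_13 630 45450 relc_13_5 v (by omega) (by omega)

set_option maxRecDepth 1000000 in
theorem walk_13 : ∀ v, walkT ctF (D.wlen 13) (D.wordP 13) v = W_13 v := by
  intro v
  simp only [W_13, forceL_eq]
  rfl

theorem relw_13 : ∀ v, v < 46080 → walkT ctF (D.wlen 13) (D.wordP 13) v = v := by
  intro v hv
  rw [walk_13]
  exact relf_13 v hv

theorem relf_14 : ∀ v, v < 46080 → W_14 v = v := by
  intro v hv
  rcases Nat.lt_or_ge v 23076 with h | h
  · rcases Nat.lt_or_ge v 7692 with h | h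
    · exact fixPtsF_spec W_14 7692 0 relc_14_0 v (by omega) (by omega)
    · rcases Nat.lt_or_ge v 15384 with h | h
      · exact fixPtsF_spec W_14 7692 7692 relc_14_1 v (by omega) (by omega)
      · exact fixPtsF_spec W_14 7692 15384 relc_14_2 v (by omega) (by omega)
  · rcases Nat.lt_or_ge v 30768 with h | h
    · exact fixPtsF_spec W_14 7692 23076 relc_14_3 v (by omega) (by omega)
    · rcases Nat.lt_or_ge v 38460 with h | h
      · exact fixPtsF_spec W_14 7692 30768 relc_14_4 v (by omega) (by omega)
      · exact fixPtsF_spec W_14 7620 38460 relc_14_5 v (by omega) (by omega)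

set_option maxRecDepth 1000000 in
theorem walk_14 : ∀ v, walkT ctF (D.wlen 14) (D.wordP 14) v = W_14 v := by
  intro v
  simp only [W_14, forceL_eq]
  rfl

theorem relw_14 : ∀ v, v < 46080 → walkT ctF (D.wlen 14) (D.wordP 14) v = v := by
  intro v hv
  rw [walk_14]
  exact relf_14 v hv

theorem relf_15 : ∀ v, v < 46080 → W_15 v = v := by
  intro v hv
  rcases Nat.lt_or_ge v 23076 with h | h
  · rcases Nat.lt_or_ge v 7692 with h | h
    · exact fixPtsF_spec W_15 7692 0 relc_15_0 v (by omega) (by omega)
    · rcases Nat.lt_or_ge v 15384 with h | h
      · exact fixPtsF_spec W_15 7692 7692 relc_15_1 v (by omega) (by omega)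
      · exact fixPtsF_spec W_15 7692 15384 relc_15_2 v (by omega) (by omega)
  · rcases Nat.lt_or_ge v 30768 with h | h
    · exact fixPtsF_spec W_15 7692 23076 relc_15_3 v (by omega) (by omega)
    · rcases Nat.lt_or_ge v 38460 with h | h
      · exact fixPtsF_spec W_15 7692 30768 relc_15_4 v (by omega) (by omega)
      · exact fixPtsF_spec W_15 7620 38460 relc_15_5 v (by omega) (by omega)

set_option maxRecDepth 1000000 in
theorem walk_15 : ∀ v, walkT ctF (D.wlen 15) (D.wordP 15) v = W_15 v := by
  intro v
  simp only [W_15, forceL_eq]
  rfl

theorem relw_15 : ∀ v, v < 46080 → walkT ctF (D.wlen 15) (D.wordP 15) v = v := by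
  intro v hv
  rw [walk_15]
  exact relf_15 v hv

theorem relf_16 : ∀ v, v < 46080 → W_16 v = v := by
  intro v hv
  rcases Nat.lt_or_ge v 23076 with h | h
  · rcases Nat.lt_or_ge v 7692 with h | h
    · exact fixPtsF_spec W_16 7692 0 relc_16_0 v (by omega) (by omega)
    · rcases Nat.lt_or_ge v 15384 with h | h
      · exact fixPtsF_spec W_16 7692 7692 relc_16_1 v (by omega) (by omega)
      · exact fixPtsF_spec W_16 7692 15384 relc_16_2 v (by omega) (by omega)
  · rcases Nat.lt_or_ge v 30768 with h | h
    · exact fixPtsF_spec W_16 7692 23076 relc_16_3 v (by omega) (by omega)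
    · rcases Nat.lt_or_ge v 38460 with h | h
      · exact fixPtsF_spec W_16 7692 30768 relc_16_4 v (by omega) (by omega)
      · exact fixPtsF_spec W_16 7620 38460 relc_16_5 v (by omega) (by omega)

set_option maxRecDepth 1000000 in
theorem walk_16 : ∀ v, walkT ctF (D.wlen 16) (D.wordP 16) v = W_16 v := by
  intro v
  simp only [W_16, forceL_eq]
  rfl

theorem relw_16 : ∀ v, v < 46080 → walkT ctF (D.wlen 16) (D.wordP 16) v = v := by
  intro v hv
  rw [walk_16]
  exact relf_16 v hv

theorem relf_17 : ∀ v, v < 46080 → W_17 v = v := by
  intro v hv
  rcases Nat.lt_or_ge v 23076 with h | h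
  · rcases Nat.lt_or_ge v 7692 with h | h
    · exact fixPtsF_spec W_17 7692 0 relc_17_0 v (by omega) (by omega)
    · rcases Nat.lt_or_ge v 15384 with h | h
      · exact fixPtsF_spec W_17 7692 7692 relc_17_1 v (by omega) (by omega)
      · exact fixPtsF_spec W_17 7692 15384 relc_17_2 v (by omega) (by omega)
  · rcases Nat.lt_or_ge v 30768 with h | h
    · exact fixPtsF_spec W_17 7692 23076 relc_17_3 v (by omega) (by omega)
    · rcases Nat.lt_or_ge v 38460 with h | h
      · exact fixPtsF_spec W_17 7692 30768 relc_17_4 v (by omega) (by omega)
      · exact fixPtsF_spec W_17 7620 38460 relc_17_5 v (by omega) (by omega)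

set_option maxRecDepth 1000000 in
theorem walk_17 : ∀ v, walkT ctF (D.wlen 17) (D.wordP 17) v = W_17 v := by
  intro v
  simp only [W_17, forceL_eq]
  rfl

theorem relw_17 : ∀ v, v < 46080 → walkT ctF (D.wlen 17) (D.wordP 17) v = v := by
  intro v hv
  rw [walk_17]
  exact relf_17 v hv

theorem relf_18 : ∀ v, v < 46080 → W_18 v = v := by
  intro v hv
  rcases Nat.lt_or_ge v 23076 with h | h
  · rcases Nat.lt_or_ge v 7692 with h | h
    · exact fixPtsF_spec W_18 7692 0 relc_18_0 v (by omega) (by omega)
    · rcases Nat.lt_or_ge v 15384 with h | h
      · exact fixPtsF_spec W_18 7692 7692 relc_18_1 v (by omega) (by omega)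
      · exact fixPtsF_spec W_18 7692 15384 relc_18_2 v (by omega) (by omega)
  · rcases Nat.lt_or_ge v 30768 with h | h
    · exact fixPtsF_spec W_18 7692 23076 relc_18_3 v (by omega) (by omega)
    · rcases Nat.lt_or_ge v 38460 with h | h
      · exact fixPtsF_spec W_18 7692 30768 relc_18_4 v (by omega) (by omega)
      · exact fixPtsF_spec W_18 7620 38460 relc_18_5 v (by omega) (by omega)

set_option maxRecDepth 1000000 in
theorem walk_18 : ∀ v, walkT ctF (D.wlen 18) (D.wordP 18) v = W_18 v := by
  intro v
  simp only [W_18, forceL_eq]
  rfl

theorem relw_18 : ∀ v, v < 46080 → walkT ctF (D.wlen 18) (D.wordP 18) v = v := by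
  intro v hv
  rw [walk_18]
  exact relf_18 v hv

theorem relf_19 : ∀ v, v < 46080 → W_19 v = v := by
  intro v hv
  rcases Nat.lt_or_ge v 23076 with h | h
  · rcases Nat.lt_or_ge v 7692 with h | h
    · exact fixPtsF_spec W_19 7692 0 relc_19_0 v (by omega) (by omega)
    · rcases Nat.lt_or_ge v 15384 with h | h
      · exact fixPtsF_spec W_19 7692 7692 relc_19_1 v (by omega) (by omega)
      · exact fixPtsF_spec W_19 7692 15384 relc_19_2 v (by omega) (by omega)
  · rcases Nat.lt_or_ge v 30768 with h | h
    · exact fixPtsF_spec W_19 7692 23076 relc_19_3 v (by omega) (by omega)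
    · rcases Nat.lt_or_ge v 38460 with h | h
      · exact fixPtsF_spec W_19 7692 30768 relc_19_4 v (by omega) (by omega)
      · exact fixPtsF_spec W_19 7620 38460 relc_19_5 v (by omega) (by omega)

set_option maxRecDepth 1000000 in
theorem walk_19 : ∀ v, walkT ctF (D.wlen 19) (D.wordP 19) v = W_19 v := by
  intro v
  simp only [W_19, forceL_eq]
  rfl

theorem relw_19 : ∀ v, v < 46080 → walkT ctF (D.wlen 19) (D.wordP 19) v = v := by
  intro v hv
  rw [walk_19]
  exact relf_19 v hv

theorem relf_20 : ∀ v, v < 46080 → W_20 v = v := by
  intro v hv
  rcases Nat.lt_or_ge v 23076 with h | h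
  · rcases Nat.lt_or_ge v 7692 with h | h
    · exact fixPtsF_spec W_20 7692 0 relc_20_0 v (by omega) (by omega)
    · rcases Nat.lt_or_ge v 15384 with h | h
      · exact fixPtsF_spec W_20 7692 7692 relc_20_1 v (by omega) (by omega)
      · exact fixPtsF_spec W_20 7692 15384 relc_20_2 v (by omega) (by omega)
  · rcases Nat.lt_or_ge v 30768 with h | h
    · exact fixPtsF_spec W_20 7692 23076 relc_20_3 v (by omega) (by omega)
    · rcases Nat.lt_or_ge v 38460 with h | h
      · exact fixPtsF_spec W_20 7692 30768 relc_20_4 v (by omega) (by omega)
      · exact fixPtsF_spec W_20 7620 38460 relc_20_5 v (by omega) (by omega)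

set_option maxRecDepth 1000000 in
theorem walk_20 : ∀ v, walkT ctF (D.wlen 20) (D.wordP 20) v = W_20 v := by
  intro v
  simp only [W_20, forceL_eq]
  rfl

theorem relw_20 : ∀ v, v < 46080 → walkT ctF (D.wlen 20) (D.wordP 20) v = v := by
  intro v hv
  rw [walk_20]
  exact relf_20 v hv

theorem relf_21 : ∀ v, v < 46080 → W_21 v = v := by
  intro v hv
  rcases Nat.lt_or_ge v 23076 with h | h
  · rcases Nat.lt_or_ge v 7692 with h | h
    · exact fixPtsF_spec W_21 7692 0 relc_21_0 v (by omega) (by omega)
    · rcases Nat.lt_or_ge v 15384 with h | h
      · exact fixPtsF_spec W_21 7692 7692 relc_21_1 v (by omega) (by omega)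
      · exact fixPtsF_spec W_21 7692 15384 relc_21_2 v (by omega) (by omega)
  · rcases Nat.lt_or_ge v 30768 with h | h
    · exact fixPtsF_spec W_21 7692 23076 relc_21_3 v (by omega) (by omega)
    · rcases Nat.lt_or_ge v 38460 with h | h
      · exact fixPtsF_spec W_21 7692 30768 relc_21_4 v (by omega) (by omega)
      · exact fixPtsF_spec W_21 7620 38460 relc_21_5 v (by omega) (by omega)

set_option maxRecDepth 1000000 in
theorem walk_21 : ∀ v, walkT ctF (D.wlen 21) (D.wordP 21) v = W_21 v := by
  intro v
  simp only [W_21, forceL_eq]
  rfl

theorem relw_21 : ∀ v, v < 46080 → walkT ctF (D.wlen 21) (D.wordP 21) v = v := by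
  intro v hv
  rw [walk_21]
  exact relf_21 v hv

theorem relf_22 : ∀ v, v < 46080 → W_22 v = v := by
  intro v hv
  rcases Nat.lt_or_ge v 21426 with h | h
  · rcases Nat.lt_or_ge v 7142 with h | h
    · exact fixPtsF_spec W_22 7142 0 relc_22_0 v (by omega) (by omega)
    · rcases Nat.lt_or_ge v 14284 with h | h
      · exact fixPtsF_spec W_22 7142 7142 relc_22_1 v (by omega) (by omega)
      · exact fixPtsF_spec W_22 7142 14284 relc_22_2 v (by omega) (by omega)
  · rcases Nat.lt_or_ge v 35710 with h | h
    · rcases Nat.lt_or_ge v 28568 with h | h
      · exact fixPtsF_spec W_22 7142 21426 relc_22_3 v (by omega) (by omega)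
      · exact fixPtsF_spec W_22 7142 28568 relc_22_4 v (by omega) (by omega)
    · rcases Nat.lt_or_ge v 42852 with h | h
      · exact fixPtsF_spec W_22 7142 35710 relc_22_5 v (by omega) (by omega)
      · exact fixPtsF_spec W_22 3228 42852 relc_22_6 v (by omega) (by omega)

set_option maxRecDepth 1000000 in
theorem walk_22 : ∀ v, walkT ctF (D.wlen 22) (D.wordP 22) v = W_22 v := by
  intro v
  simp only [W_22, forceL_eq]
  rfl

theorem relw_22 : ∀ v, v < 46080 → walkT ctF (D.wlen 22) (D.wordP 22) v = v := by
  intro v hv
  rw [walk_22]
  exact relf_22 v hv

theorem relf_23 : ∀ v, v < 46080 → W_23 v = v := by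
  intro v hv
  rcases Nat.lt_or_ge v 21426 with h | h
  · rcases Nat.lt_or_ge v 7142 with h | h
    · exact fixPtsF_spec W_23 7142 0 relc_23_0 v (by omega) (by omega)
    · rcases Nat.lt_or_ge v 14284 with h | h
      · exact fixPtsF_spec W_23 7142 7142 relc_23_1 v (by omega) (by omega)
      · exact fixPtsF_spec W_23 7142 14284 relc_23_2 v (by omega) (by omega)
  · rcases Nat.lt_or_ge v 35710 with h | h
    · rcases Nat.lt_or_ge v 28568 with h | h
      · exact fixPtsF_spec W_23 7142 21426 relc_23_3 v (by omega) (by omega)
      · exact fixPtsF_spec W_23 7142 28568 relc_23_4 v (by omega) (by omega)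
    · rcases Nat.lt_or_ge v 42852 with h | h
      · exact fixPtsF_spec W_23 7142 35710 relc_23_5 v (by omega) (by omega)
      · exact fixPtsF_spec W_23 3228 42852 relc_23_6 v (by omega) (by omega)

set_option maxRecDepth 1000000 in
theorem walk_23 : ∀ v, walkT ctF (D.wlen 23) (D.wordP 23) v = W_23 v := by
  intro v
  simp only [W_23, forceL_eq]
  rfl

theorem relw_23 : ∀ v, v < 46080 → walkT ctF (D.wlen 23) (D.wordP 23) v = v := by
  intro v hv
  rw [walk_23]
  exact relf_23 v hv

theorem relf_24 : ∀ v, v < 46080 → W_24 v = v := by
  intro v hv
  rcases Nat.lt_or_ge v 21426 with h | h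
  · rcases Nat.lt_or_ge v 7142 with h | h
    · exact fixPtsF_spec W_24 7142 0 relc_24_0 v (by omega) (by omega)
    · rcases Nat.lt_or_ge v 14284 with h | h
      · exact fixPtsF_spec W_24 7142 7142 relc_24_1 v (by omega) (by omega)
      · exact fixPtsF_spec W_24 7142 14284 relc_24_2 v (by omega) (by omega)
  · rcases Nat.lt_or_ge v 35710 with h | h
    · rcases Nat.lt_or_ge v 28568 with h | h
      · exact fixPtsF_spec W_24 7142 21426 relc_24_3 v (by omega) (by omega)
      · exact fixPtsF_spec W_24 7142 28568 relc_24_4 v (by omega) (by omega)
    · rcases Nat.lt_or_ge v 42852 with h | h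
      · exact fixPtsF_spec W_24 7142 35710 relc_24_5 v (by omega) (by omega)
      · exact fixPtsF_spec W_24 3228 42852 relc_24_6 v (by omega) (by omega)

set_option maxRecDepth 1000000 in
theorem walk_24 : ∀ v, walkT ctF (D.wlen 24) (D.wordP 24) v = W_24 v := by
  intro v
  simp only [W_24, forceL_eq]
  rfl

theorem relw_24 : ∀ v, v < 46080 → walkT ctF (D.wlen 24) (D.wordP 24) v = v := by
  intro v hv
  rw [walk_24]
  exact relf_24 v hv

theorem relf_25 : ∀ v, v < 46080 → W_25 v = v := by
  intro v hv
  rcases Nat.lt_or_ge v 21426 with h | h
  · rcases Nat.lt_or_ge v 7142 with h | h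
    · exact fixPtsF_spec W_25 7142 0 relc_25_0 v (by omega) (by omega)
    · rcases Nat.lt_or_ge v 14284 with h | h
      · exact fixPtsF_spec W_25 7142 7142 relc_25_1 v (by omega) (by omega)
      · exact fixPtsF_spec W_25 7142 14284 relc_25_2 v (by omega) (by omega)
  · rcases Nat.lt_or_ge v 35710 with h | h
    · rcases Nat.lt_or_ge v 28568 with h | h
      · exact fixPtsF_spec W_25 7142 21426 relc_25_3 v (by omega) (by omega)
      · exact fixPtsF_spec W_25 7142 28568 relc_25_4 v (by omega) (by omega)
    · rcases Nat.lt_or_ge v 42852 with h | h
      · exact fixPtsF_spec W_25 7142 35710 relc_25_5 v (by omega) (by omega)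
      · exact fixPtsF_spec W_25 3228 42852 relc_25_6 v (by omega) (by omega)

set_option maxRecDepth 1000000 in
theorem walk_25 : ∀ v, walkT ctF (D.wlen 25) (D.wordP 25) v = W_25 v := by
  intro v
  simp only [W_25, forceL_eq]
  rfl

theorem relw_25 : ∀ v, v < 46080 → walkT ctF (D.wlen 25) (D.wordP 25) v = v := by
  intro v hv
  rw [walk_25]
  exact relf_25 v hv

theorem relf_26 : ∀ v, v < 46080 → W_26 v = v := by
  intro v hv
  rcases Nat.lt_or_ge v 21426 with h | h
  · rcases Nat.lt_or_ge v 7142 with h | h
    · exact fixPtsF_spec W_26 7142 0 relc_26_0 v (by omega) (by omega)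
    · rcases Nat.lt_or_ge v 14284 with h | h
      · exact fixPtsF_spec W_26 7142 7142 relc_26_1 v (by omega) (by omega)
      · exact fixPtsF_spec W_26 7142 14284 relc_26_2 v (by omega) (by omega)
  · rcases Nat.lt_or_ge v 35710 with h | h
    · rcases Nat.lt_or_ge v 28568 with h | h
      · exact fixPtsF_spec W_26 7142 21426 relc_26_3 v (by omega) (by omega)
      · exact fixPtsF_spec W_26 7142 28568 relc_26_4 v (by omega) (by omega)
    · rcases Nat.lt_or_ge v 42852 with h | h
      · exact fixPtsF_spec W_26 7142 35710 relc_26_5 v (by omega) (by omega)
      · exact fixPtsF_spec W_26 3228 42852 relc_26_6 v (by omega) (by omega)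

set_option maxRecDepth 1000000 in
theorem walk_26 : ∀ v, walkT ctF (D.wlen 26) (D.wordP 26) v = W_26 v := by
  intro v
  simp only [W_26, forceL_eq]
  rfl

theorem relw_26 : ∀ v, v < 46080 → walkT ctF (D.wlen 26) (D.wordP 26) v = v := by
  intro v hv
  rw [walk_26]
  exact relf_26 v hv

theorem relf_27 : ∀ v, v < 46080 → W_27 v = v := by
  intro v hv
  rcases Nat.lt_or_ge v 21426 with h | h
  · rcases Nat.lt_or_ge v 7142 with h | h
    · exact fixPtsF_spec W_27 7142 0 relc_27_0 v (by omega) (by omega)
    · rcases Nat.lt_or_ge v 14284 with h | h
      · exact fixPtsF_spec W_27 7142 7142 relc_27_1 v (by omega) (by omega)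
      · exact fixPtsF_spec W_27 7142 14284 relc_27_2 v (by omega) (by omega)
  · rcases Nat.lt_or_ge v 35710 with h | h
    · rcases Nat.lt_or_ge v 28568 with h | h
      · exact fixPtsF_spec W_27 7142 21426 relc_27_3 v (by omega) (by omega)
      · exact fixPtsF_spec W_27 7142 28568 relc_27_4 v (by omega) (by omega)
    · rcases Nat.lt_or_ge v 42852 with h | h
      · exact fixPtsF_spec W_27 7142 35710 relc_27_5 v (by omega) (by omega)
      · exact fixPtsF_spec W_27 3228 42852 relc_27_6 v (by omega) (by omega)

set_option maxRecDepth 1000000 in
theorem walk_27 : ∀ v, walkT ctF (D.wlen 27) (D.wordP 27) v = W_27 v := by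
  intro v
  simp only [W_27, forceL_eq]
  rfl

theorem relw_27 : ∀ v, v < 46080 → walkT ctF (D.wlen 27) (D.wordP 27) v = v := by
  intro v hv
  rw [walk_27]
  exact relf_27 v hv

theorem relf_28 : ∀ v, v < 46080 → W_28 v = v := by
  intro v hv
  rcases Nat.lt_or_ge v 21426 with h | h
  · rcases Nat.lt_or_ge v 7142 with h | h
    · exact fixPtsF_spec W_28 7142 0 relc_28_0 v (by omega) (by omega)
    · rcases Nat.lt_or_ge v 14284 with h | h
      · exact fixPtsF_spec W_28 7142 7142 relc_28_1 v (by omega) (by omega)
      · exact fixPtsF_spec W_28 7142 14284 relc_28_2 v (by omega) (by omega)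
  · rcases Nat.lt_or_ge v 35710 with h | h
    · rcases Nat.lt_or_ge v 28568 with h | h
      · exact fixPtsF_spec W_28 7142 21426 relc_28_3 v (by omega) (by omega)
      · exact fixPtsF_spec W_28 7142 28568 relc_28_4 v (by omega) (by omega)
    · rcases Nat.lt_or_ge v 42852 with h | h
      · exact fixPtsF_spec W_28 7142 35710 relc_28_5 v (by omega) (by omega)
      · exact fixPtsF_spec W_28 3228 42852 relc_28_6 v (by omega) (by omega)

set_option maxRecDepth 1000000 in
theorem walk_28 : ∀ v, walkT ctF (D.wlen 28) (D.wordP 28) v = W_28 v := by
  intro v
  simp only [W_28, forceL_eq]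
  rfl

theorem relw_28 : ∀ v, v < 46080 → walkT ctF (D.wlen 28) (D.wordP 28) v = v := by
  intro v hv
  rw [walk_28]
  exact relf_28 v hv

theorem relf_29 : ∀ v, v < 46080 → W_29 v = v := by
  intro v hv
  rcases Nat.lt_or_ge v 21426 with h | h
  · rcases Nat.lt_or_ge v 7142 with h | h
    · exact fixPtsF_spec W_29 7142 0 relc_29_0 v (by omega) (by omega)
    · rcases Nat.lt_or_ge v 14284 with h | h
      · exact fixPtsF_spec W_29 7142 7142 relc_29_1 v (by omega) (by omega)
      · exact fixPtsF_spec W_29 7142 14284 relc_29_2 v (by omega) (by omega)
  · rcases Nat.lt_or_ge v 35710 with h | h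
    · rcases Nat.lt_or_ge v 28568 with h | h
      · exact fixPtsF_spec W_29 7142 21426 relc_29_3 v (by omega) (by omega)
      · exact fixPtsF_spec W_29 7142 28568 relc_29_4 v (by omega) (by omega)
    · rcases Nat.lt_or_ge v 42852 with h | h
      · exact fixPtsF_spec W_29 7142 35710 relc_29_5 v (by omega) (by omega)
      · exact fixPtsF_spec W_29 3228 42852 relc_29_6 v (by omega) (by omega)

set_option maxRecDepth 1000000 in
theorem walk_29 : ∀ v, walkT ctF (D.wlen 29) (D.wordP 29) v = W_29 v := by
  intro v
  simp only [W_29, forceL_eq]
  rfl

theorem relw_29 : ∀ v, v < 46080 → walkT ctF (D.wlen 29) (D.wordP 29) v = v := by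
  intro v hv
  rw [walk_29]
  exact relf_29 v hv

theorem relf_30 : ∀ v, v < 46080 → W_30 v = v := by
  intro v hv
  rcases Nat.lt_or_ge v 21426 with h | h
  · rcases Nat.lt_or_ge v 7142 with h | h
    · exact fixPtsF_spec W_30 7142 0 relc_30_0 v (by omega) (by omega)
    · rcases Nat.lt_or_ge v 14284 with h | h
      · exact fixPtsF_spec W_30 7142 7142 relc_30_1 v (by omega) (by omega)
      · exact fixPtsF_spec W_30 7142 14284 relc_30_2 v (by omega) (by omega)
  · rcases Nat.lt_or_ge v 35710 with h | h
    · rcases Nat.lt_or_ge v 28568 with h | h
      · exact fixPtsF_spec W_30 7142 21426 relc_30_3 v (by omega) (by omega)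
      · exact fixPtsF_spec W_30 7142 28568 relc_30_4 v (by omega) (by omega)
    · rcases Nat.lt_or_ge v 42852 with h | h
      · exact fixPtsF_spec W_30 7142 35710 relc_30_5 v (by omega) (by omega)
      · exact fixPtsF_spec W_30 3228 42852 relc_30_6 v (by omega) (by omega)

set_option maxRecDepth 1000000 in
theorem walk_30 : ∀ v, walkT ctF (D.wlen 30) (D.wordP 30) v = W_30 v := by
  intro v
  simp only [W_30, forceL_eq]
  rfl

theorem relw_30 : ∀ v, v < 46080 → walkT ctF (D.wlen 30) (D.wordP 30) v = v := by
  intro v hv
  rw [walk_30]
  exact relf_30 v hv

theorem relf_31 : ∀ v, v < 46080 → W_31 v = v := by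
  intro v hv
  rcases Nat.lt_or_ge v 21426 with h | h
  · rcases Nat.lt_or_ge v 7142 with h | h
    · exact fixPtsF_spec W_31 7142 0 relc_31_0 v (by omega) (by omega)
    · rcases Nat.lt_or_ge v 14284 with h | h
      · exact fixPtsF_spec W_31 7142 7142 relc_31_1 v (by omega) (by omega)
      · exact fixPtsF_spec W_31 7142 14284 relc_31_2 v (by omega) (by omega)
  · rcases Nat.lt_or_ge v 35710 with h | h
    · rcases Nat.lt_or_ge v 28568 with h | h
      · exact fixPtsF_spec W_31 7142 21426 relc_31_3 v (by omega) (by omega)
      · exact fixPtsF_spec W_31 7142 28568 relc_31_4 v (by omega) (by omega)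
    · rcases Nat.lt_or_ge v 42852 with h | h
      · exact fixPtsF_spec W_31 7142 35710 relc_31_5 v (by omega) (by omega)
      · exact fixPtsF_spec W_31 3228 42852 relc_31_6 v (by omega) (by omega)

set_option maxRecDepth 1000000 in
theorem walk_31 : ∀ v, walkT ctF (D.wlen 31) (D.wordP 31) v = W_31 v := by
  intro v
  simp only [W_31, forceL_eq]
  rfl

theorem relw_31 : ∀ v, v < 46080 → walkT ctF (D.wlen 31) (D.wordP 31) v = v := by
  intro v hv
  rw [walk_31]
  exact relf_31 v hv

theorem relf_32 : ∀ v, v < 46080 → W_32 v = v := by
  intro v hv
  rcases Nat.lt_or_ge v 21426 with h | h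
  · rcases Nat.lt_or_ge v 7142 with h | h
    · exact fixPtsF_spec W_32 7142 0 relc_32_0 v (by omega) (by omega)
    · rcases Nat.lt_or_ge v 14284 with h | h
      · exact fixPtsF_spec W_32 7142 7142 relc_32_1 v (by omega) (by omega)
      · exact fixPtsF_spec W_32 7142 14284 relc_32_2 v (by omega) (by omega)
  · rcases Nat.lt_or_ge v 35710 with h | h
    · rcases Nat.lt_or_ge v 28568 with h | h
      · exact fixPtsF_spec W_32 7142 21426 relc_32_3 v (by omega) (by omega)
      · exact fixPtsF_spec W_32 7142 28568 relc_32_4 v (by omega) (by omega)
    · rcases Nat.lt_or_ge v 42852 with h | h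
      · exact fixPtsF_spec W_32 7142 35710 relc_32_5 v (by omega) (by omega)
      · exact fixPtsF_spec W_32 3228 42852 relc_32_6 v (by omega) (by omega)

set_option maxRecDepth 1000000 in
theorem walk_32 : ∀ v, walkT ctF (D.wlen 32) (D.wordP 32) v = W_32 v := by
  intro v
  simp only [W_32, forceL_eq]
  rfl

theorem relw_32 : ∀ v, v < 46080 → walkT ctF (D.wlen 32) (D.wordP 32) v = v := by
  intro v hv
  rw [walk_32]
  exact relf_32 v hv

theorem relf_33 : ∀ v, v < 46080 → W_33 v = v := by
  intro v hv
  rcases Nat.lt_or_ge v 21426 with h | h
  · rcases Nat.lt_or_ge v 7142 with h | h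
    · exact fixPtsF_spec W_33 7142 0 relc_33_0 v (by omega) (by omega)
    · rcases Nat.lt_or_ge v 14284 with h | h
      · exact fixPtsF_spec W_33 7142 7142 relc_33_1 v (by omega) (by omega)
      · exact fixPtsF_spec W_33 7142 14284 relc_33_2 v (by omega) (by omega)
  · rcases Nat.lt_or_ge v 35710 with h | h
    · rcases Nat.lt_or_ge v 28568 with h | h
      · exact fixPtsF_spec W_33 7142 21426 relc_33_3 v (by omega) (by omega)
      · exact fixPtsF_spec W_33 7142 28568 relc_33_4 v (by omega) (by omega)
    · rcases Nat.lt_or_ge v 42852 with h | h
      · exact fixPtsF_spec W_33 7142 35710 relc_33_5 v (by omega) (by omega)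
      · exact fixPtsF_spec W_33 3228 42852 relc_33_6 v (by omega) (by omega)

set_option maxRecDepth 1000000 in
theorem walk_33 : ∀ v, walkT ctF (D.wlen 33) (D.wordP 33) v = W_33 v := by
  intro v
  simp only [W_33, forceL_eq]
  rfl

theorem relw_33 : ∀ v, v < 46080 → walkT ctF (D.wlen 33) (D.wordP 33) v = v := by
  intro v hv
  rw [walk_33]
  exact relf_33 v hv

theorem relf_34 : ∀ v, v < 46080 → W_34 v = v := by
  intro v hv
  rcases Nat.lt_or_ge v 21426 with h | h
  · rcases Nat.lt_or_ge v 7142 with h | h
    · exact fixPtsF_spec W_34 7142 0 relc_34_0 v (by omega) (by omega)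
    · rcases Nat.lt_or_ge v 14284 with h | h
      · exact fixPtsF_spec W_34 7142 7142 relc_34_1 v (by omega) (by omega)
      · exact fixPtsF_spec W_34 7142 14284 relc_34_2 v (by omega) (by omega)
  · rcases Nat.lt_or_ge v 35710 with h | h
    · rcases Nat.lt_or_ge v 28568 with h | h
      · exact fixPtsF_spec W_34 7142 21426 relc_34_3 v (by omega) (by omega)
      · exact fixPtsF_spec W_34 7142 28568 relc_34_4 v (by omega) (by omega)
    · rcases Nat.lt_or_ge v 42852 with h | h
      · exact fixPtsF_spec W_34 7142 35710 relc_34_5 v (by omega) (by omega)
      · exact fixPtsF_spec W_34 3228 42852 relc_34_6 v (by omega) (by omega)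

set_option maxRecDepth 1000000 in
theorem walk_34 : ∀ v, walkT ctF (D.wlen 34) (D.wordP 34) v = W_34 v := by
  intro v
  simp only [W_34, forceL_eq]
  rfl

theorem relw_34 : ∀ v, v < 46080 → walkT ctF (D.wlen 34) (D.wordP 34) v = v := by
  intro v hv
  rw [walk_34]
  exact relf_34 v hv

theorem relf_35 : ∀ v, v < 46080 → W_35 v = v := by
  intro v hv
  rcases Nat.lt_or_ge v 21426 with h | h
  · rcases Nat.lt_or_ge v 7142 with h | h
    · exact fixPtsF_spec W_35 7142 0 relc_35_0 v (by omega) (by omega)
    · rcases Nat.lt_or_ge v 14284 with h | h
      · exact fixPtsF_spec W_35 7142 7142 relc_35_1 v (by omega) (by omega)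
      · exact fixPtsF_spec W_35 7142 14284 relc_35_2 v (by omega) (by omega)
  · rcases Nat.lt_or_ge v 35710 with h | h
    · rcases Nat.lt_or_ge v 28568 with h | h
      · exact fixPtsF_spec W_35 7142 21426 relc_35_3 v (by omega) (by omega)
      · exact fixPtsF_spec W_35 7142 28568 relc_35_4 v (by omega) (by omega)
    · rcases Nat.lt_or_ge v 42852 with h | h
      · exact fixPtsF_spec W_35 7142 35710 relc_35_5 v (by omega) (by omega)
      · exact fixPtsF_spec W_35 3228 42852 relc_35_6 v (by omega) (by omega)

set_option maxRecDepth 1000000 in
theorem walk_35 : ∀ v, walkT ctF (D.wlen 35) (D.wordP 35) v = W_35 v := by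
  intro v
  simp only [W_35, forceL_eq]
  rfl

theorem relw_35 : ∀ v, v < 46080 → walkT ctF (D.wlen 35) (D.wordP 35) v = v := by
  intro v hv
  rw [walk_35]
  exact relf_35 v hv

theorem relf_36 : ∀ v, v < 46080 → W_36 v = v := by
  intro v hv
  rcases Nat.lt_or_ge v 21426 with h | h
  · rcases Nat.lt_or_ge v 7142 with h | h
    · exact fixPtsF_spec W_36 7142 0 relc_36_0 v (by omega) (by omega)
    · rcases Nat.lt_or_ge v 14284 with h | h
      · exact fixPtsF_spec W_36 7142 7142 relc_36_1 v (by omega) (by omega)
      · exact fixPtsF_spec W_36 7142 14284 relc_36_2 v (by omega) (by omega)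
  · rcases Nat.lt_or_ge v 35710 with h | h
    · rcases Nat.lt_or_ge v 28568 with h | h
      · exact fixPtsF_spec W_36 7142 21426 relc_36_3 v (by omega) (by omega)
      · exact fixPtsF_spec W_36 7142 28568 relc_36_4 v (by omega) (by omega)
    · rcases Nat.lt_or_ge v 42852 with h | h
      · exact fixPtsF_spec W_36 7142 35710 relc_36_5 v (by omega) (by omega)
      · exact fixPtsF_spec W_36 3228 42852 relc_36_6 v (by omega) (by omega)

set_option maxRecDepth 1000000 in
theorem walk_36 : ∀ v, walkT ctF (D.wlen 36) (D.wordP 36) v = W_36 v := by
  intro v
  simp only [W_36, forceL_eq]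
  rfl

theorem relw_36 : ∀ v, v < 46080 → walkT ctF (D.wlen 36) (D.wordP 36) v = v := by
  intro v hv
  rw [walk_36]
  exact relf_36 v hv

theorem relf_37 : ∀ v, v < 46080 → W_37 v = v := by
  intro v hv
  rcases Nat.lt_or_ge v 21426 with h | h
  · rcases Nat.lt_or_ge v 7142 with h | h
    · exact fixPtsF_spec W_37 7142 0 relc_37_0 v (by omega) (by omega)
    · rcases Nat.lt_or_ge v 14284 with h | h
      · exact fixPtsF_spec W_37 7142 7142 relc_37_1 v (by omega) (by omega)
      · exact fixPtsF_spec W_37 7142 14284 relc_37_2 v (by omega) (by omega)
  · rcases Nat.lt_or_ge v 35710 with h | h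
    · rcases Nat.lt_or_ge v 28568 with h | h
      · exact fixPtsF_spec W_37 7142 21426 relc_37_3 v (by omega) (by omega)
      · exact fixPtsF_spec W_37 7142 28568 relc_37_4 v (by omega) (by omega)
    · rcases Nat.lt_or_ge v 42852 with h | h
      · exact fixPtsF_spec W_37 7142 35710 relc_37_5 v (by omega) (by omega)
      · exact fixPtsF_spec W_37 3228 42852 relc_37_6 v (by omega) (by omega)

set_option maxRecDepth 1000000 in
theorem walk_37 : ∀ v, walkT ctF (D.wlen 37) (D.wordP 37) v = W_37 v := by
  intro v
  simp only [W_37, forceL_eq]
  rfl

theorem relw_37 : ∀ v, v < 46080 → walkT ctF (D.wlen 37) (D.wordP 37) v = v := by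
  intro v hv
  rw [walk_37]
  exact relf_37 v hv

theorem relf_38 : ∀ v, v < 46080 → W_38 v = v := by
  intro v hv
  rcases Nat.lt_or_ge v 22216 with h | h
  · rcases Nat.lt_or_ge v 11108 with h | h
    · rcases Nat.lt_or_ge v 5554 with h | h
      · rcases Nat.lt_or_ge v 2777 with h | h
        · exact fixPtsF_spec W_38 2777 0 relc_38_0 v (by omega) (by omega)
        · exact fixPtsF_spec W_38 2777 2777 relc_38_1 v (by omega) (by omega)
      · rcases Nat.lt_or_ge v 8331 with h | h
        · exact fixPtsF_spec W_38 2777 5554 relc_38_2 v (by omega) (by omega)
        · exact fixPtsF_spec W_38 2777 8331 relc_38_3 v (by omega) (by omega)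
    · rcases Nat.lt_or_ge v 16662 with h | h
      · rcases Nat.lt_or_ge v 13885 with h | h
        · exact fixPtsF_spec W_38 2777 11108 relc_38_4 v (by omega) (by omega)
        · exact fixPtsF_spec W_38 2777 13885 relc_38_5 v (by omega) (by omega)
      · rcases Nat.lt_or_ge v 19439 with h | h
        · exact fixPtsF_spec W_38 2777 16662 relc_38_6 v (by omega) (by omega)
        · exact fixPtsF_spec W_38 2777 19439 relc_38_7 v (by omega) (by omega)
  · rcases Nat.lt_or_ge v 33324 with h | h
    · rcases Nat.lt_or_ge v 27770 with h | h
      · rcases Nat.lt_or_ge v 24993 with h | h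
        · exact fixPtsF_spec W_38 2777 22216 relc_38_8 v (by omega) (by omega)
        · exact fixPtsF_spec W_38 2777 24993 relc_38_9 v (by omega) (by omega)
      · rcases Nat.lt_or_ge v 30547 with h | h
        · exact fixPtsF_spec W_38 2777 27770 relc_38_10 v (by omega) (by omega)
        · exact fixPtsF_spec W_38 2777 30547 relc_38_11 v (by omega) (by omega)
    · rcases Nat.lt_or_ge v 38878 with h | h
      · rcases Nat.lt_or_ge v 36101 with h | h
        · exact fixPtsF_spec W_38 2777 33324 relc_38_12 v (by omega) (by omega)
        · exact fixPtsF_spec W_38 2777 36101 relc_38_13 v (by omega) (by omega)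
      · rcases Nat.lt_or_ge v 41655 with h | h
        · exact fixPtsF_spec W_38 2777 38878 relc_38_14 v (by omega) (by omega)
        · rcases Nat.lt_or_ge v 44432 with h | h
          · exact fixPtsF_spec W_38 2777 41655 relc_38_15 v (by omega) (by omega)
          · exact fixPtsF_spec W_38 1648 44432 relc_38_16 v (by omega) (by omega)

set_option maxRecDepth 1000000 in
theorem walk_38 : ∀ v, walkT ctF (D.wlen 38) (D.wordP 38) v = W_38 v := by
  intro v
  simp only [W_38, forceL_eq]
  rfl

theorem relw_38 : ∀ v, v < 46080 → walkT ctF (D.wlen 38) (D.wordP 38) v = v := by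
  intro v hv
  rw [walk_38]
  exact relf_38 v hv

theorem relf_39 : ∀ v, v < 46080 → W_39 v = v := by
  intro v hv
  rcases Nat.lt_or_ge v 22216 with h | h
  · rcases Nat.lt_or_ge v 11108 with h | h
    · rcases Nat.lt_or_ge v 5554 with h | h
      · rcases Nat.lt_or_ge v 2777 with h | h
        · exact fixPtsF_spec W_39 2777 0 relc_39_0 v (by omega) (by omega)
        · exact fixPtsF_spec W_39 2777 2777 relc_39_1 v (by omega) (by omega)
      · rcases Nat.lt_or_ge v 8331 with h | h
        · exact fixPtsF_spec W_39 2777 5554 relc_39_2 v (by omega) (by omega)
        · exact fixPtsF_spec W_39 2777 8331 relc_39_3 v (by omega) (by omega)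
    · rcases Nat.lt_or_ge v 16662 with h | h
      · rcases Nat.lt_or_ge v 13885 with h | h
        · exact fixPtsF_spec W_39 2777 11108 relc_39_4 v (by omega) (by omega)
        · exact fixPtsF_spec W_39 2777 13885 relc_39_5 v (by omega) (by omega)
      · rcases Nat.lt_or_ge v 19439 with h | h
        · exact fixPtsF_spec W_39 2777 16662 relc_39_6 v (by omega) (by omega)
        · exact fixPtsF_spec W_39 2777 19439 relc_39_7 v (by omega) (by omega)
  · rcases Nat.lt_or_ge v 33324 with h | h
    · rcases Nat.lt_or_ge v 27770 with h | h
      · rcases Nat.lt_or_ge v 24993 with h | h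
        · exact fixPtsF_spec W_39 2777 22216 relc_39_8 v (by omega) (by omega)
        · exact fixPtsF_spec W_39 2777 24993 relc_39_9 v (by omega) (by omega)
      · rcases Nat.lt_or_ge v 30547 with h | h
        · exact fixPtsF_spec W_39 2777 27770 relc_39_10 v (by omega) (by omega)
        · exact fixPtsF_spec W_39 2777 30547 relc_39_11 v (by omega) (by omega)
    · rcases Nat.lt_or_ge v 38878 with h | h
      · rcases Nat.lt_or_ge v 36101 with h | h
        · exact fixPtsF_spec W_39 2777 33324 relc_39_12 v (by omega) (by omega)
        · exact fixPtsF_spec W_39 2777 36101 relc_39_13 v (by omega) (by omega)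
      · rcases Nat.lt_or_ge v 41655 with h | h
        · exact fixPtsF_spec W_39 2777 38878 relc_39_14 v (by omega) (by omega)
        · rcases Nat.lt_or_ge v 44432 with h | h
          · exact fixPtsF_spec W_39 2777 41655 relc_39_15 v (by omega) (by omega)
          · exact fixPtsF_spec W_39 1648 44432 relc_39_16 v (by omega) (by omega)

set_option maxRecDepth 1000000 in
theorem walk_39 : ∀ v, walkT ctF (D.wlen 39) (D.wordP 39) v = W_39 v := by
  intro v
  simp only [W_39, forceL_eq]
  rfl

theorem relw_39 : ∀ v, v < 46080 → walkT ctF (D.wlen 39) (D.wordP 39) v = v := by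
  intro v hv
  rw [walk_39]
  exact relf_39 v hv

theorem relf_40 : ∀ v, v < 46080 → W_40 v = v := by
  intro v hv
  rcases Nat.lt_or_ge v 22500 with h | h
  · rcases Nat.lt_or_ge v 10000 with h | h
    · rcases Nat.lt_or_ge v 5000 with h | h
      · rcases Nat.lt_or_ge v 2500 with h | h
        · exact fixPtsF_spec W_40 2500 0 relc_40_0 v (by omega) (by omega)
        · exact fixPtsF_spec W_40 2500 2500 relc_40_1 v (by omega) (by omega)
      · rcases Nat.lt_or_ge v 7500 with h | h
        · exact fixPtsF_spec W_40 2500 5000 relc_40_2 v (by omega) (by omega)
        · exact fixPtsF_spec W_40 2500 7500 relc_40_3 v (by omega) (by omega)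
    · rcases Nat.lt_or_ge v 15000 with h | h
      · rcases Nat.lt_or_ge v 12500 with h | h
        · exact fixPtsF_spec W_40 2500 10000 relc_40_4 v (by omega) (by omega)
        · exact fixPtsF_spec W_40 2500 12500 relc_40_5 v (by omega) (by omega)
      · rcases Nat.lt_or_ge v 17500 with h | h
        · exact fixPtsF_spec W_40 2500 15000 relc_40_6 v (by omega) (by omega)
        · rcases Nat.lt_or_ge v 20000 with h | h
          · exact fixPtsF_spec W_40 2500 17500 relc_40_7 v (by omega) (by omega)
          · exact fixPtsF_spec W_40 2500 20000 relc_40_8 v (by omega) (by omega)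
  · rcases Nat.lt_or_ge v 35000 with h | h
    · rcases Nat.lt_or_ge v 27500 with h | h
      · rcases Nat.lt_or_ge v 25000 with h | h
        · exact fixPtsF_spec W_40 2500 22500 relc_40_9 v (by omega) (by omega)
        · exact fixPtsF_spec W_40 2500 25000 relc_40_10 v (by omega) (by omega)
      · rcases Nat.lt_or_ge v 30000 with h | h
        · exact fixPtsF_spec W_40 2500 27500 relc_40_11 v (by omega) (by omega)
        · rcases Nat.lt_or_ge v 32500 with h | h
          · exact fixPtsF_spec W_40 2500 30000 relc_40_12 v (by omega) (by omega)
          · exact fixPtsF_spec W_40 2500 32500 relc_40_13 v (by omega) (by omega)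
    · rcases Nat.lt_or_ge v 40000 with h | h
      · rcases Nat.lt_or_ge v 37500 with h | h
        · exact fixPtsF_spec W_40 2500 35000 relc_40_14 v (by omega) (by omega)
        · exact fixPtsF_spec W_40 2500 37500 relc_40_15 v (by omega) (by omega)
      · rcases Nat.lt_or_ge v 42500 with h | h
        · exact fixPtsF_spec W_40 2500 40000 relc_40_16 v (by omega) (by omega)
        · rcases Nat.lt_or_ge v 45000 with h | h
          · exact fixPtsF_spec W_40 2500 42500 relc_40_17 v (by omega) (by omega)
          · exact fixPtsF_spec W_40 1080 45000 relc_40_18 v (by omega) (by omega)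

set_option maxRecDepth 1000000 in
theorem walk_40 : ∀ v, walkT ctF (D.wlen 40) (D.wordP 40) v = W_40 v := by
  intro v
  simp only [W_40, forceL_eq]
  rfl

theorem relw_40 : ∀ v, v < 46080 → walkT ctF (D.wlen 40) (D.wordP 40) v = v := by
  intro v hv
  rw [walk_40]
  exact relf_40 v hv

theorem relf_41 : ∀ v, v < 46080 → W_41 v = v := by
  intro v hv
  rcases Nat.lt_or_ge v 22500 with h | h
  · rcases Nat.lt_or_ge v 10000 with h | h
    · rcases Nat.lt_or_ge v 5000 with h | h
      · rcases Nat.lt_or_ge v 2500 with h | h
        · exact fixPtsF_spec W_41 2500 0 relc_41_0 v (by omega) (by omega)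
        · exact fixPtsF_spec W_41 2500 2500 relc_41_1 v (by omega) (by omega)
      · rcases Nat.lt_or_ge v 7500 with h | h
        · exact fixPtsF_spec W_41 2500 5000 relc_41_2 v (by omega) (by omega)
        · exact fixPtsF_spec W_41 2500 7500 relc_41_3 v (by omega) (by omega)
    · rcases Nat.lt_or_ge v 15000 with h | h
      · rcases Nat.lt_or_ge v 12500 with h | h
        · exact fixPtsF_spec W_41 2500 10000 relc_41_4 v (by omega) (by omega)
        · exact fixPtsF_spec W_41 2500 12500 relc_41_5 v (by omega) (by omega)
      · rcases Nat.lt_or_ge v 17500 with h | h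
        · exact fixPtsF_spec W_41 2500 15000 relc_41_6 v (by omega) (by omega)
        · rcases Nat.lt_or_ge v 20000 with h | h
          · exact fixPtsF_spec W_41 2500 17500 relc_41_7 v (by omega) (by omega)
          · exact fixPtsF_spec W_41 2500 20000 relc_41_8 v (by omega) (by omega)
  · rcases Nat.lt_or_ge v 35000 with h | h
    · rcases Nat.lt_or_ge v 27500 with h | h
      · rcases Nat.lt_or_ge v 25000 with h | h
        · exact fixPtsF_spec W_41 2500 22500 relc_41_9 v (by omega) (by omega)
        · exact fixPtsF_spec W_41 2500 25000 relc_41_10 v (by omega) (by omega)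
      · rcases Nat.lt_or_ge v 30000 with h | h
        · exact fixPtsF_spec W_41 2500 27500 relc_41_11 v (by omega) (by omega)
        · rcases Nat.lt_or_ge v 32500 with h | h
          · exact fixPtsF_spec W_41 2500 30000 relc_41_12 v (by omega) (by omega)
          · exact fixPtsF_spec W_41 2500 32500 relc_41_13 v (by omega) (by omega)
    · rcases Nat.lt_or_ge v 40000 with h | h
      · rcases Nat.lt_or_ge v 37500 with h | h
        · exact fixPtsF_spec W_41 2500 35000 relc_41_14 v (by omega) (by omega)
        · exact fixPtsF_spec W_41 2500 37500 relc_41_15 v (by omega) (by omega)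
      · rcases Nat.lt_or_ge v 42500 with h | h
        · exact fixPtsF_spec W_41 2500 40000 relc_41_16 v (by omega) (by omega)
        · rcases Nat.lt_or_ge v 45000 with h | h
          · exact fixPtsF_spec W_41 2500 42500 relc_41_17 v (by omega) (by omega)
          · exact fixPtsF_spec W_41 1080 45000 relc_41_18 v (by omega) (by omega)

set_option maxRecDepth 1000000 in
theorem walk_41 : ∀ v, walkT ctF (D.wlen 41) (D.wordP 41) v = W_41 v := by
  intro v
  simp only [W_41, forceL_eq]
  rfl

theorem relw_41 : ∀ v, v < 46080 → walkT ctF (D.wlen 41) (D.wordP 41) v = v := by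
  intro v hv
  rw [walk_41]
  exact relf_41 v hv

theorem relf_42 : ∀ v, v < 46080 → W_42 v = v := by
  intro v hv
  rcases Nat.lt_or_ge v 22913 with h | h
  · rcases Nat.lt_or_ge v 10415 with h | h
    · rcases Nat.lt_or_ge v 4166 with h | h
      · rcases Nat.lt_or_ge v 2083 with h | h
        · exact fixPtsF_spec W_42 2083 0 relc_42_0 v (by omega) (by omega)
        · exact fixPtsF_spec W_42 2083 2083 relc_42_1 v (by omega) (by omega)
      · rcases Nat.lt_or_ge v 6249 with h | h
        · exact fixPtsF_spec W_42 2083 4166 relc_42_2 v (by omega) (by omega)
        · rcases Nat.lt_or_ge v 8332 with h | h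
          · exact fixPtsF_spec W_42 2083 6249 relc_42_3 v (by omega) (by omega)
          · exact fixPtsF_spec W_42 2083 8332 relc_42_4 v (by omega) (by omega)
    · rcases Nat.lt_or_ge v 16664 with h | h
      · rcases Nat.lt_or_ge v 12498 with h | h
        · exact fixPtsF_spec W_42 2083 10415 relc_42_5 v (by omega) (by omega)
        · rcases Nat.lt_or_ge v 14581 with h | h
          · exact fixPtsF_spec W_42 2083 12498 relc_42_6 v (by omega) (by omega)
          · exact fixPtsF_spec W_42 2083 14581 relc_42_7 v (by omega) (by omega)
      · rcases Nat.lt_or_ge v 18747 with h | h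
        · exact fixPtsF_spec W_42 2083 16664 relc_42_8 v (by omega) (by omega)
        · rcases Nat.lt_or_ge v 20830 with h | h
          · exact fixPtsF_spec W_42 2083 18747 relc_42_9 v (by omega) (by omega)
          · exact fixPtsF_spec W_42 2083 20830 relc_42_10 v (by omega) (by omega)
  · rcases Nat.lt_or_ge v 35411 with h | h
    · rcases Nat.lt_or_ge v 29162 with h | h
      · rcases Nat.lt_or_ge v 24996 with h | h
        · exact fixPtsF_spec W_42 2083 22913 relc_42_11 v (by omega) (by omega)
        · rcases Nat.lt_or_ge v 27079 with h | h
          · exact fixPtsF_spec W_42 2083 24996 relc_42_12 v (by omega) (by omega)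
          · exact fixPtsF_spec W_42 2083 27079 relc_42_13 v (by omega) (by omega)
      · rcases Nat.lt_or_ge v 31245 with h | h
        · exact fixPtsF_spec W_42 2083 29162 relc_42_14 v (by omega) (by omega)
        · rcases Nat.lt_or_ge v 33328 with h | h
          · exact fixPtsF_spec W_42 2083 31245 relc_42_15 v (by omega) (by omega)
          · exact fixPtsF_spec W_42 2083 33328 relc_42_16 v (by omega) (by omega)
    · rcases Nat.lt_or_ge v 41660 with h | h
      · rcases Nat.lt_or_ge v 37494 with h | h
        · exact fixPtsF_spec W_42 2083 35411 relc_42_17 v (by omega) (by omega)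
        · rcases Nat.lt_or_ge v 39577 with h | h
          · exact fixPtsF_spec W_42 2083 37494 relc_42_18 v (by omega) (by omega)
          · exact fixPtsF_spec W_42 2083 39577 relc_42_19 v (by omega) (by omega)
      · rcases Nat.lt_or_ge v 43743 with h | h
        · exact fixPtsF_spec W_42 2083 41660 relc_42_20 v (by omega) (by omega)
        · rcases Nat.lt_or_ge v 45826 with h | h
          · exact fixPtsF_spec W_42 2083 43743 relc_42_21 v (by omega) (by omega)
          · exact fixPtsF_spec W_42 254 45826 relc_42_22 v (by omega) (by omega)

set_option maxRecDepth 1000000 in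
theorem walk_42 : ∀ v, walkT ctF (D.wlen 42) (D.wordP 42) v = W_42 v := by
  intro v
  simp only [W_42, forceL_eq]
  rfl

theorem relw_42 : ∀ v, v < 46080 → walkT ctF (D.wlen 42) (D.wordP 42) v = v := by
  intro v hv
  rw [walk_42]
  exact relf_42 v hv

theorem relf_43 : ∀ v, v < 46080 → W_43 v = v := by
  intro v hv
  rcases Nat.lt_or_ge v 22913 with h | h
  · rcases Nat.lt_or_ge v 10415 with h | h
    · rcases Nat.lt_or_ge v 4166 with h | h
      · rcases Nat.lt_or_ge v 2083 with h | h
        · exact fixPtsF_spec W_43 2083 0 relc_43_0 v (by omega) (by omega)
        · exact fixPtsF_spec W_43 2083 2083 relc_43_1 v (by omega) (by omega)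
      · rcases Nat.lt_or_ge v 6249 with h | h
        · exact fixPtsF_spec W_43 2083 4166 relc_43_2 v (by omega) (by omega)
        · rcases Nat.lt_or_ge v 8332 with h | h
          · exact fixPtsF_spec W_43 2083 6249 relc_43_3 v (by omega) (by omega)
          · exact fixPtsF_spec W_43 2083 8332 relc_43_4 v (by omega) (by omega)
    · rcases Nat.lt_or_ge v 16664 with h | h
      · rcases Nat.lt_or_ge v 12498 with h | h
        · exact fixPtsF_spec W_43 2083 10415 relc_43_5 v (by omega) (by omega)
        · rcases Nat.lt_or_ge v 14581 with h | h
          · exact fixPtsF_spec W_43 2083 12498 relc_43_6 v (by omega) (by omega)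
          · exact fixPtsF_spec W_43 2083 14581 relc_43_7 v (by omega) (by omega)
      · rcases Nat.lt_or_ge v 18747 with h | h
        · exact fixPtsF_spec W_43 2083 16664 relc_43_8 v (by omega) (by omega)
        · rcases Nat.lt_or_ge v 20830 with h | h
          · exact fixPtsF_spec W_43 2083 18747 relc_43_9 v (by omega) (by omega)
          · exact fixPtsF_spec W_43 2083 20830 relc_43_10 v (by omega) (by omega)
  · rcases Nat.lt_or_ge v 35411 with h | h
    · rcases Nat.lt_or_ge v 29162 with h | h
      · rcases Nat.lt_or_ge v 24996 with h | h
        · exact fixPtsF_spec W_43 2083 22913 relc_43_11 v (by omega) (by omega)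
        · rcases Nat.lt_or_ge v 27079 with h | h
          · exact fixPtsF_spec W_43 2083 24996 relc_43_12 v (by omega) (by omega)
          · exact fixPtsF_spec W_43 2083 27079 relc_43_13 v (by omega) (by omega)
      · rcases Nat.lt_or_ge v 31245 with h | h
        · exact fixPtsF_spec W_43 2083 29162 relc_43_14 v (by omega) (by omega)
        · rcases Nat.lt_or_ge v 33328 with h | h
          · exact fixPtsF_spec W_43 2083 31245 relc_43_15 v (by omega) (by omega)
          · exact fixPtsF_spec W_43 2083 33328 relc_43_16 v (by omega) (by omega)
    · rcases Nat.lt_or_ge v 41660 with h | h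
      · rcases Nat.lt_or_ge v 37494 with h | h
        · exact fixPtsF_spec W_43 2083 35411 relc_43_17 v (by omega) (by omega)
        · rcases Nat.lt_or_ge v 39577 with h | h
          · exact fixPtsF_spec W_43 2083 37494 relc_43_18 v (by omega) (by omega)
          · exact fixPtsF_spec W_43 2083 39577 relc_43_19 v (by omega) (by omega)
      · rcases Nat.lt_or_ge v 43743 with h | h
        · exact fixPtsF_spec W_43 2083 41660 relc_43_20 v (by omega) (by omega)
        · rcases Nat.lt_or_ge v 45826 with h | h
          · exact fixPtsF_spec W_43 2083 43743 relc_43_21 v (by omega) (by omega)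
          · exact fixPtsF_spec W_43 254 45826 relc_43_22 v (by omega) (by omega)

set_option maxRecDepth 1000000 in
theorem walk_43 : ∀ v, walkT ctF (D.wlen 43) (D.wordP 43) v = W_43 v := by
  intro v
  simp only [W_43, forceL_eq]
  rfl

theorem relw_43 : ∀ v, v < 46080 → walkT ctF (D.wlen 43) (D.wordP 43) v = v := by
  intro v hv
  rw [walk_43]
  exact relf_43 v hv

theorem relf_44 : ∀ v, v < 46080 → W_44 v = v := by
  intro v hv
  rcases Nat.lt_or_ge v 22913 with h | h
  · rcases Nat.lt_or_ge v 10415 with h | h
    · rcases Nat.lt_or_ge v 4166 with h | h
      · rcases Nat.lt_or_ge v 2083 with h | h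
        · exact fixPtsF_spec W_44 2083 0 relc_44_0 v (by omega) (by omega)
        · exact fixPtsF_spec W_44 2083 2083 relc_44_1 v (by omega) (by omega)
      · rcases Nat.lt_or_ge v 6249 with h | h
        · exact fixPtsF_spec W_44 2083 4166 relc_44_2 v (by omega) (by omega)
        · rcases Nat.lt_or_ge v 8332 with h | h
          · exact fixPtsF_spec W_44 2083 6249 relc_44_3 v (by omega) (by omega)
          · exact fixPtsF_spec W_44 2083 8332 relc_44_4 v (by omega) (by omega)
    · rcases Nat.lt_or_ge v 16664 with h | h
      · rcases Nat.lt_or_ge v 12498 with h | h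
        · exact fixPtsF_spec W_44 2083 10415 relc_44_5 v (by omega) (by omega)
        · rcases Nat.lt_or_ge v 14581 with h | h
          · exact fixPtsF_spec W_44 2083 12498 relc_44_6 v (by omega) (by omega)
          · exact fixPtsF_spec W_44 2083 14581 relc_44_7 v (by omega) (by omega)
      · rcases Nat.lt_or_ge v 18747 with h | h
        · exact fixPtsF_spec W_44 2083 16664 relc_44_8 v (by omega) (by omega)
        · rcases Nat.lt_or_ge v 20830 with h | h
          · exact fixPtsF_spec W_44 2083 18747 relc_44_9 v (by omega) (by omega)
          · exact fixPtsF_spec W_44 2083 20830 relc_44_10 v (by omega) (by omega)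
  · rcases Nat.lt_or_ge v 35411 with h | h
    · rcases Nat.lt_or_ge v 29162 with h | h
      · rcases Nat.lt_or_ge v 24996 with h | h
        · exact fixPtsF_spec W_44 2083 22913 relc_44_11 v (by omega) (by omega)
        · rcases Nat.lt_or_ge v 27079 with h | h
          · exact fixPtsF_spec W_44 2083 24996 relc_44_12 v (by omega) (by omega)
          · exact fixPtsF_spec W_44 2083 27079 relc_44_13 v (by omega) (by omega)
      · rcases Nat.lt_or_ge v 31245 with h | h
        · exact fixPtsF_spec W_44 2083 29162 relc_44_14 v (by omega) (by omega)
        · rcases Nat.lt_or_ge v 33328 with h | h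
          · exact fixPtsF_spec W_44 2083 31245 relc_44_15 v (by omega) (by omega)
          · exact fixPtsF_spec W_44 2083 33328 relc_44_16 v (by omega) (by omega)
    · rcases Nat.lt_or_ge v 41660 with h | h
      · rcases Nat.lt_or_ge v 37494 with h | h
        · exact fixPtsF_spec W_44 2083 35411 relc_44_17 v (by omega) (by omega)
        · rcases Nat.lt_or_ge v 39577 with h | h
          · exact fixPtsF_spec W_44 2083 37494 relc_44_18 v (by omega) (by omega)
          · exact fixPtsF_spec W_44 2083 39577 relc_44_19 v (by omega) (by omega)
      · rcases Nat.lt_or_ge v 43743 with h | h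
        · exact fixPtsF_spec W_44 2083 41660 relc_44_20 v (by omega) (by omega)
        · rcases Nat.lt_or_ge v 45826 with h | h
          · exact fixPtsF_spec W_44 2083 43743 relc_44_21 v (by omega) (by omega)
          · exact fixPtsF_spec W_44 254 45826 relc_44_22 v (by omega) (by omega)

set_option maxRecDepth 1000000 in
theorem walk_44 : ∀ v, walkT ctF (D.wlen 44) (D.wordP 44) v = W_44 v := by
  intro v
  simp only [W_44, forceL_eq]
  rfl

theorem relw_44 : ∀ v, v < 46080 → walkT ctF (D.wlen 44) (D.wordP 44) v = v := by
  intro v hv
  rw [walk_44]
  exact relf_44 v hv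

theorem relf_45 : ∀ v, v < 46080 → W_45 v = v := by
  intro v hv
  rcases Nat.lt_or_ge v 22913 with h | h
  · rcases Nat.lt_or_ge v 10415 with h | h
    · rcases Nat.lt_or_ge v 4166 with h | h
      · rcases Nat.lt_or_ge v 2083 with h | h
        · exact fixPtsF_spec W_45 2083 0 relc_45_0 v (by omega) (by omega)
        · exact fixPtsF_spec W_45 2083 2083 relc_45_1 v (by omega) (by omega)
      · rcases Nat.lt_or_ge v 6249 with h | h
        · exact fixPtsF_spec W_45 2083 4166 relc_45_2 v (by omega) (by omega)
        · rcases Nat.lt_or_ge v 8332 with h | h
          · exact fixPtsF_spec W_45 2083 6249 relc_45_3 v (by omega) (by omega)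
          · exact fixPtsF_spec W_45 2083 8332 relc_45_4 v (by omega) (by omega)
    · rcases Nat.lt_or_ge v 16664 with h | h
      · rcases Nat.lt_or_ge v 12498 with h | h
        · exact fixPtsF_spec W_45 2083 10415 relc_45_5 v (by omega) (by omega)
        · rcases Nat.lt_or_ge v 14581 with h | h
          · exact fixPtsF_spec W_45 2083 12498 relc_45_6 v (by omega) (by omega)
          · exact fixPtsF_spec W_45 2083 14581 relc_45_7 v (by omega) (by omega)
      · rcases Nat.lt_or_ge v 18747 with h | h
        · exact fixPtsF_spec W_45 2083 16664 relc_45_8 v (by omega) (by omega)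
        · rcases Nat.lt_or_ge v 20830 with h | h
          · exact fixPtsF_spec W_45 2083 18747 relc_45_9 v (by omega) (by omega)
          · exact fixPtsF_spec W_45 2083 20830 relc_45_10 v (by omega) (by omega)
  · rcases Nat.lt_or_ge v 35411 with h | h
    · rcases Nat.lt_or_ge v 29162 with h | h
      · rcases Nat.lt_or_ge v 24996 with h | h
        · exact fixPtsF_spec W_45 2083 22913 relc_45_11 v (by omega) (by omega)
        · rcases Nat.lt_or_ge v 27079 with h | h
          · exact fixPtsF_spec W_45 2083 24996 relc_45_12 v (by omega) (by omega)
          · exact fixPtsF_spec W_45 2083 27079 relc_45_13 v (by omega) (by omega)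
      · rcases Nat.lt_or_ge v 31245 with h | h
        · exact fixPtsF_spec W_45 2083 29162 relc_45_14 v (by omega) (by omega)
        · rcases Nat.lt_or_ge v 33328 with h | h
          · exact fixPtsF_spec W_45 2083 31245 relc_45_15 v (by omega) (by omega)
          · exact fixPtsF_spec W_45 2083 33328 relc_45_16 v (by omega) (by omega)
    · rcases Nat.lt_or_ge v 41660 with h | h
      · rcases Nat.lt_or_ge v 37494 with h | h
        · exact fixPtsF_spec W_45 2083 35411 relc_45_17 v (by omega) (by omega)
        · rcases Nat.lt_or_ge v 39577 with h | h
          · exact fixPtsF_spec W_45 2083 37494 relc_45_18 v (by omega) (by omega)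
          · exact fixPtsF_spec W_45 2083 39577 relc_45_19 v (by omega) (by omega)
      · rcases Nat.lt_or_ge v 43743 with h | h
        · exact fixPtsF_spec W_45 2083 41660 relc_45_20 v (by omega) (by omega)
        · rcases Nat.lt_or_ge v 45826 with h | h
          · exact fixPtsF_spec W_45 2083 43743 relc_45_21 v (by omega) (by omega)
          · exact fixPtsF_spec W_45 254 45826 relc_45_22 v (by omega) (by omega)

set_option maxRecDepth 1000000 in
theorem walk_45 : ∀ v, walkT ctF (D.wlen 45) (D.wordP 45) v = W_45 v := by
  intro v
  simp only [W_45, forceL_eq]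
  rfl

theorem relw_45 : ∀ v, v < 46080 → walkT ctF (D.wlen 45) (D.wordP 45) v = v := by
  intro v hv
  rw [walk_45]
  exact relf_45 v hv

theorem relf_46 : ∀ v, v < 46080 → W_46 v = v := by
  intro v hv
  rcases Nat.lt_or_ge v 23076 with h | h
  · rcases Nat.lt_or_ge v 11538 with h | h
    · rcases Nat.lt_or_ge v 5769 with h | h
      · rcases Nat.lt_or_ge v 1923 with h | h
        · exact fixPtsF_spec W_46 1923 0 relc_46_0 v (by omega) (by omega)
        · rcases Nat.lt_or_ge v 3846 with h | h
          · exact fixPtsF_spec W_46 1923 1923 relc_46_1 v (by omega) (by omega)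
          · exact fixPtsF_spec W_46 1923 3846 relc_46_2 v (by omega) (by omega)
      · rcases Nat.lt_or_ge v 7692 with h | h
        · exact fixPtsF_spec W_46 1923 5769 relc_46_3 v (by omega) (by omega)
        · rcases Nat.lt_or_ge v 9615 with h | h
          · exact fixPtsF_spec W_46 1923 7692 relc_46_4 v (by omega) (by omega)
          · exact fixPtsF_spec W_46 1923 9615 relc_46_5 v (by omega) (by omega)
    · rcases Nat.lt_or_ge v 17307 with h | h
      · rcases Nat.lt_or_ge v 13461 with h | h
        · exact fixPtsF_spec W_46 1923 11538 relc_46_6 v (by omega) (by omega)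
        · rcases Nat.lt_or_ge v 15384 with h | h
          · exact fixPtsF_spec W_46 1923 13461 relc_46_7 v (by omega) (by omega)
          · exact fixPtsF_spec W_46 1923 15384 relc_46_8 v (by omega) (by omega)
      · rcases Nat.lt_or_ge v 19230 with h | h
        · exact fixPtsF_spec W_46 1923 17307 relc_46_9 v (by omega) (by omega)
        · rcases Nat.lt_or_ge v 21153 with h | h
          · exact fixPtsF_spec W_46 1923 19230 relc_46_10 v (by omega) (by omega)
          · exact fixPtsF_spec W_46 1923 21153 relc_46_11 v (by omega) (by omega)
  · rcases Nat.lt_or_ge v 34614 with h | h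
    · rcases Nat.lt_or_ge v 28845 with h | h
      · rcases Nat.lt_or_ge v 24999 with h | h
        · exact fixPtsF_spec W_46 1923 23076 relc_46_12 v (by omega) (by omega)
        · rcases Nat.lt_or_ge v 26922 with h | h
          · exact fixPtsF_spec W_46 1923 24999 relc_46_13 v (by omega) (by omega)
          · exact fixPtsF_spec W_46 1923 26922 relc_46_14 v (by omega) (by omega)
      · rcases Nat.lt_or_ge v 30768 with h | h
        · exact fixPtsF_spec W_46 1923 28845 relc_46_15 v (by omega) (by omega)
        · rcases Nat.lt_or_ge v 32691 with h | h
          · exact fixPtsF_spec W_46 1923 30768 relc_46_16 v (by omega) (by omega)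
          · exact fixPtsF_spec W_46 1923 32691 relc_46_17 v (by omega) (by omega)
    · rcases Nat.lt_or_ge v 40383 with h | h
      · rcases Nat.lt_or_ge v 36537 with h | h
        · exact fixPtsF_spec W_46 1923 34614 relc_46_18 v (by omega) (by omega)
        · rcases Nat.lt_or_ge v 38460 with h | h
          · exact fixPtsF_spec W_46 1923 36537 relc_46_19 v (by omega) (by omega)
          · exact fixPtsF_spec W_46 1923 38460 relc_46_20 v (by omega) (by omega)
      · rcases Nat.lt_or_ge v 42306 with h | h
        · exact fixPtsF_spec W_46 1923 40383 relc_46_21 v (by omega) (by omega)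
        · rcases Nat.lt_or_ge v 44229 with h | h
          · exact fixPtsF_spec W_46 1923 42306 relc_46_22 v (by omega) (by omega)
          · exact fixPtsF_spec W_46 1851 44229 relc_46_23 v (by omega) (by omega)

set_option maxRecDepth 1000000 in
theorem walk_46 : ∀ v, walkT ctF (D.wlen 46) (D.wordP 46) v = W_46 v := by
  intro v
  simp only [W_46, forceL_eq]
  rfl

theorem relw_46 : ∀ v, v < 46080 → walkT ctF (D.wlen 46) (D.wordP 46) v = v := by
  intro v hv
  rw [walk_46]
  exact relf_46 v hv

theorem relf_47 : ∀ v, v < 46080 → W_47 v = v := by
  intro v hv
  rcases Nat.lt_or_ge v 23076 with h | h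
  · rcases Nat.lt_or_ge v 11538 with h | h
    · rcases Nat.lt_or_ge v 5769 with h | h
      · rcases Nat.lt_or_ge v 1923 with h | h
        · exact fixPtsF_spec W_47 1923 0 relc_47_0 v (by omega) (by omega)
        · rcases Nat.lt_or_ge v 3846 with h | h
          · exact fixPtsF_spec W_47 1923 1923 relc_47_1 v (by omega) (by omega)
          · exact fixPtsF_spec W_47 1923 3846 relc_47_2 v (by omega) (by omega)
      · rcases Nat.lt_or_ge v 7692 with h | h
        · exact fixPtsF_spec W_47 1923 5769 relc_47_3 v (by omega) (by omega)
        · rcases Nat.lt_or_ge v 9615 with h | h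
          · exact fixPtsF_spec W_47 1923 7692 relc_47_4 v (by omega) (by omega)
          · exact fixPtsF_spec W_47 1923 9615 relc_47_5 v (by omega) (by omega)
    · rcases Nat.lt_or_ge v 17307 with h | h
      · rcases Nat.lt_or_ge v 13461 with h | h
        · exact fixPtsF_spec W_47 1923 11538 relc_47_6 v (by omega) (by omega)
        · rcases Nat.lt_or_ge v 15384 with h | h
          · exact fixPtsF_spec W_47 1923 13461 relc_47_7 v (by omega) (by omega)
          · exact fixPtsF_spec W_47 1923 15384 relc_47_8 v (by omega) (by omega)
      · rcases Nat.lt_or_ge v 19230 with h | h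
        · exact fixPtsF_spec W_47 1923 17307 relc_47_9 v (by omega) (by omega)
        · rcases Nat.lt_or_ge v 21153 with h | h
          · exact fixPtsF_spec W_47 1923 19230 relc_47_10 v (by omega) (by omega)
          · exact fixPtsF_spec W_47 1923 21153 relc_47_11 v (by omega) (by omega)
  · rcases Nat.lt_or_ge v 34614 with h | h
    · rcases Nat.lt_or_ge v 28845 with h | h
      · rcases Nat.lt_or_ge v 24999 with h | h
        · exact fixPtsF_spec W_47 1923 23076 relc_47_12 v (by omega) (by omega)
        · rcases Nat.lt_or_ge v 26922 with h | h
          · exact fixPtsF_spec W_47 1923 24999 relc_47_13 v (by omega) (by omega)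
          · exact fixPtsF_spec W_47 1923 26922 relc_47_14 v (by omega) (by omega)
      · rcases Nat.lt_or_ge v 30768 with h | h
        · exact fixPtsF_spec W_47 1923 28845 relc_47_15 v (by omega) (by omega)
        · rcases Nat.lt_or_ge v 32691 with h | h
          · exact fixPtsF_spec W_47 1923 30768 relc_47_16 v (by omega) (by omega)
          · exact fixPtsF_spec W_47 1923 32691 relc_47_17 v (by omega) (by omega)
    · rcases Nat.lt_or_ge v 40383 with h | h
      · rcases Nat.lt_or_ge v 36537 with h | h
        · exact fixPtsF_spec W_47 1923 34614 relc_47_18 v (by omega) (by omega)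
        · rcases Nat.lt_or_ge v 38460 with h | h
          · exact fixPtsF_spec W_47 1923 36537 relc_47_19 v (by omega) (by omega)
          · exact fixPtsF_spec W_47 1923 38460 relc_47_20 v (by omega) (by omega)
      · rcases Nat.lt_or_ge v 42306 with h | h
        · exact fixPtsF_spec W_47 1923 40383 relc_47_21 v (by omega) (by omega)
        · rcases Nat.lt_or_ge v 44229 with h | h
          · exact fixPtsF_spec W_47 1923 42306 relc_47_22 v (by omega) (by omega)
          · exact fixPtsF_spec W_47 1851 44229 relc_47_23 v (by omega) (by omega)

set_option maxRecDepth 1000000 in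
theorem walk_47 : ∀ v, walkT ctF (D.wlen 47) (D.wordP 47) v = W_47 v := by
  intro v
  simp only [W_47, forceL_eq]
  rfl

theorem relw_47 : ∀ v, v < 46080 → walkT ctF (D.wlen 47) (D.wordP 47) v = v := by
  intro v hv
  rw [walk_47]
  exact relf_47 v hv

theorem relf_48 : ∀ v, v < 46080 → W_48 v = v := by
  intro v hv
  rcases Nat.lt_or_ge v 23076 with h | h
  · rcases Nat.lt_or_ge v 11538 with h | h
    · rcases Nat.lt_or_ge v 5769 with h | h
      · rcases Nat.lt_or_ge v 1923 with h | h
        · exact fixPtsF_spec W_48 1923 0 relc_48_0 v (by omega) (by omega)
        · rcases Nat.lt_or_ge v 3846 with h | h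
          · exact fixPtsF_spec W_48 1923 1923 relc_48_1 v (by omega) (by omega)
          · exact fixPtsF_spec W_48 1923 3846 relc_48_2 v (by omega) (by omega)
      · rcases Nat.lt_or_ge v 7692 with h | h
        · exact fixPtsF_spec W_48 1923 5769 relc_48_3 v (by omega) (by omega)
        · rcases Nat.lt_or_ge v 9615 with h | h
          · exact fixPtsF_spec W_48 1923 7692 relc_48_4 v (by omega) (by omega)
          · exact fixPtsF_spec W_48 1923 9615 relc_48_5 v (by omega) (by omega)
    · rcases Nat.lt_or_ge v 17307 with h | h
      · rcases Nat.lt_or_ge v 13461 with h | h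
        · exact fixPtsF_spec W_48 1923 11538 relc_48_6 v (by omega) (by omega)
        · rcases Nat.lt_or_ge v 15384 with h | h
          · exact fixPtsF_spec W_48 1923 13461 relc_48_7 v (by omega) (by omega)
          · exact fixPtsF_spec W_48 1923 15384 relc_48_8 v (by omega) (by omega)
      · rcases Nat.lt_or_ge v 19230 with h | h
        · exact fixPtsF_spec W_48 1923 17307 relc_48_9 v (by omega) (by omega)
        · rcases Nat.lt_or_ge v 21153 with h | h
          · exact fixPtsF_spec W_48 1923 19230 relc_48_10 v (by omega) (by omega)
          · exact fixPtsF_spec W_48 1923 21153 relc_48_11 v (by omega) (by omega)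
  · rcases Nat.lt_or_ge v 34614 with h | h
    · rcases Nat.lt_or_ge v 28845 with h | h
      · rcases Nat.lt_or_ge v 24999 with h | h
        · exact fixPtsF_spec W_48 1923 23076 relc_48_12 v (by omega) (by omega)
        · rcases Nat.lt_or_ge v 26922 with h | h
          · exact fixPtsF_spec W_48 1923 24999 relc_48_13 v (by omega) (by omega)
          · exact fixPtsF_spec W_48 1923 26922 relc_48_14 v (by omega) (by omega)
      · rcases Nat.lt_or_ge v 30768 with h | h
        · exact fixPtsF_spec W_48 1923 28845 relc_48_15 v (by omega) (by omega)
        · rcases Nat.lt_or_ge v 32691 with h | h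
          · exact fixPtsF_spec W_48 1923 30768 relc_48_16 v (by omega) (by omega)
          · exact fixPtsF_spec W_48 1923 32691 relc_48_17 v (by omega) (by omega)
    · rcases Nat.lt_or_ge v 40383 with h | h
      · rcases Nat.lt_or_ge v 36537 with h | h
        · exact fixPtsF_spec W_48 1923 34614 relc_48_18 v (by omega) (by omega)
        · rcases Nat.lt_or_ge v 38460 with h | h
          · exact fixPtsF_spec W_48 1923 36537 relc_48_19 v (by omega) (by omega)
          · exact fixPtsF_spec W_48 1923 38460 relc_48_20 v (by omega) (by omega)
      · rcases Nat.lt_or_ge v 42306 with h | h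
        · exact fixPtsF_spec W_48 1923 40383 relc_48_21 v (by omega) (by omega)
        · rcases Nat.lt_or_ge v 44229 with h | h
          · exact fixPtsF_spec W_48 1923 42306 relc_48_22 v (by omega) (by omega)
          · exact fixPtsF_spec W_48 1851 44229 relc_48_23 v (by omega) (by omega)

set_option maxRecDepth 1000000 in
theorem walk_48 : ∀ v, walkT ctF (D.wlen 48) (D.wordP 48) v = W_48 v := by
  intro v
  simp only [W_48, forceL_eq]
  rfl

theorem relw_48 : ∀ v, v < 46080 → walkT ctF (D.wlen 48) (D.wordP 48) v = v := by
  intro v hv
  rw [walk_48]
  exact relf_48 v hv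

theorem relf_49 : ∀ v, v < 46080 → W_49 v = v := by
  intro v hv
  rcases Nat.lt_or_ge v 23076 with h | h
  · rcases Nat.lt_or_ge v 11538 with h | h
    · rcases Nat.lt_or_ge v 5769 with h | h
      · rcases Nat.lt_or_ge v 1923 with h | h
        · exact fixPtsF_spec W_49 1923 0 relc_49_0 v (by omega) (by omega)
        · rcases Nat.lt_or_ge v 3846 with h | h
          · exact fixPtsF_spec W_49 1923 1923 relc_49_1 v (by omega) (by omega)
          · exact fixPtsF_spec W_49 1923 3846 relc_49_2 v (by omega) (by omega)
      · rcases Nat.lt_or_ge v 7692 with h | h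
        · exact fixPtsF_spec W_49 1923 5769 relc_49_3 v (by omega) (by omega)
        · rcases Nat.lt_or_ge v 9615 with h | h
          · exact fixPtsF_spec W_49 1923 7692 relc_49_4 v (by omega) (by omega)
          · exact fixPtsF_spec W_49 1923 9615 relc_49_5 v (by omega) (by omega)
    · rcases Nat.lt_or_ge v 17307 with h | h
      · rcases Nat.lt_or_ge v 13461 with h | h
        · exact fixPtsF_spec W_49 1923 11538 relc_49_6 v (by omega) (by omega)
        · rcases Nat.lt_or_ge v 15384 with h | h
          · exact fixPtsF_spec W_49 1923 13461 relc_49_7 v (by omega) (by omega)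
          · exact fixPtsF_spec W_49 1923 15384 relc_49_8 v (by omega) (by omega)
      · rcases Nat.lt_or_ge v 19230 with h | h
        · exact fixPtsF_spec W_49 1923 17307 relc_49_9 v (by omega) (by omega)
        · rcases Nat.lt_or_ge v 21153 with h | h
          · exact fixPtsF_spec W_49 1923 19230 relc_49_10 v (by omega) (by omega)
          · exact fixPtsF_spec W_49 1923 21153 relc_49_11 v (by omega) (by omega)
  · rcases Nat.lt_or_ge v 34614 with h | h
    · rcases Nat.lt_or_ge v 28845 with h | h
      · rcases Nat.lt_or_ge v 24999 with h | h
        · exact fixPtsF_spec W_49 1923 23076 relc_49_12 v (by omega) (by omega)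
        · rcases Nat.lt_or_ge v 26922 with h | h
          · exact fixPtsF_spec W_49 1923 24999 relc_49_13 v (by omega) (by omega)
          · exact fixPtsF_spec W_49 1923 26922 relc_49_14 v (by omega) (by omega)
      · rcases Nat.lt_or_ge v 30768 with h | h
        · exact fixPtsF_spec W_49 1923 28845 relc_49_15 v (by omega) (by omega)
        · rcases Nat.lt_or_ge v 32691 with h | h
          · exact fixPtsF_spec W_49 1923 30768 relc_49_16 v (by omega) (by omega)
          · exact fixPtsF_spec W_49 1923 32691 relc_49_17 v (by omega) (by omega)
    · rcases Nat.lt_or_ge v 40383 with h | h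
      · rcases Nat.lt_or_ge v 36537 with h | h
        · exact fixPtsF_spec W_49 1923 34614 relc_49_18 v (by omega) (by omega)
        · rcases Nat.lt_or_ge v 38460 with h | h
          · exact fixPtsF_spec W_49 1923 36537 relc_49_19 v (by omega) (by omega)
          · exact fixPtsF_spec W_49 1923 38460 relc_49_20 v (by omega) (by omega)
      · rcases Nat.lt_or_ge v 42306 with h | h
        · exact fixPtsF_spec W_49 1923 40383 relc_49_21 v (by omega) (by omega)
        · rcases Nat.lt_or_ge v 44229 with h | h
          · exact fixPtsF_spec W_49 1923 42306 relc_49_22 v (by omega) (by omega)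
          · exact fixPtsF_spec W_49 1851 44229 relc_49_23 v (by omega) (by omega)

set_option maxRecDepth 1000000 in
theorem walk_49 : ∀ v, walkT ctF (D.wlen 49) (D.wordP 49) v = W_49 v := by
  intro v
  simp only [W_49, forceL_eq]
  rfl

theorem relw_49 : ∀ v, v < 46080 → walkT ctF (D.wlen 49) (D.wordP 49) v = v := by
  intro v hv
  rw [walk_49]
  exact relf_49 v hv

theorem relf_50 : ∀ v, v < 46080 → W_50 v = v := by
  intro v hv
  rcases Nat.lt_or_ge v 23076 with h | h
  · rcases Nat.lt_or_ge v 11538 with h | h
    · rcases Nat.lt_or_ge v 5769 with h | h
      · rcases Nat.lt_or_ge v 1923 with h | h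
        · exact fixPtsF_spec W_50 1923 0 relc_50_0 v (by omega) (by omega)
        · rcases Nat.lt_or_ge v 3846 with h | h
          · exact fixPtsF_spec W_50 1923 1923 relc_50_1 v (by omega) (by omega)
          · exact fixPtsF_spec W_50 1923 3846 relc_50_2 v (by omega) (by omega)
      · rcases Nat.lt_or_ge v 7692 with h | h
        · exact fixPtsF_spec W_50 1923 5769 relc_50_3 v (by omega) (by omega)
        · rcases Nat.lt_or_ge v 9615 with h | h
          · exact fixPtsF_spec W_50 1923 7692 relc_50_4 v (by omega) (by omega)
          · exact fixPtsF_spec W_50 1923 9615 relc_50_5 v (by omega) (by omega)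
    · rcases Nat.lt_or_ge v 17307 with h | h
      · rcases Nat.lt_or_ge v 13461 with h | h
        · exact fixPtsF_spec W_50 1923 11538 relc_50_6 v (by omega) (by omega)
        · rcases Nat.lt_or_ge v 15384 with h | h
          · exact fixPtsF_spec W_50 1923 13461 relc_50_7 v (by omega) (by omega)
          · exact fixPtsF_spec W_50 1923 15384 relc_50_8 v (by omega) (by omega)
      · rcases Nat.lt_or_ge v 19230 with h | h
        · exact fixPtsF_spec W_50 1923 17307 relc_50_9 v (by omega) (by omega)
        · rcases Nat.lt_or_ge v 21153 with h | h
          · exact fixPtsF_spec W_50 1923 19230 relc_50_10 v (by omega) (by omega)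
          · exact fixPtsF_spec W_50 1923 21153 relc_50_11 v (by omega) (by omega)
  · rcases Nat.lt_or_ge v 34614 with h | h
    · rcases Nat.lt_or_ge v 28845 with h | h
      · rcases Nat.lt_or_ge v 24999 with h | h
        · exact fixPtsF_spec W_50 1923 23076 relc_50_12 v (by omega) (by omega)
        · rcases Nat.lt_or_ge v 26922 with h | h
          · exact fixPtsF_spec W_50 1923 24999 relc_50_13 v (by omega) (by omega)
          · exact fixPtsF_spec W_50 1923 26922 relc_50_14 v (by omega) (by omega)
      · rcases Nat.lt_or_ge v 30768 with h | h
        · exact fixPtsF_spec W_50 1923 28845 relc_50_15 v (by omega) (by omega)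
        · rcases Nat.lt_or_ge v 32691 with h | h
          · exact fixPtsF_spec W_50 1923 30768 relc_50_16 v (by omega) (by omega)
          · exact fixPtsF_spec W_50 1923 32691 relc_50_17 v (by omega) (by omega)
    · rcases Nat.lt_or_ge v 40383 with h | h
      · rcases Nat.lt_or_ge v 36537 with h | h
        · exact fixPtsF_spec W_50 1923 34614 relc_50_18 v (by omega) (by omega)
        · rcases Nat.lt_or_ge v 38460 with h | h
          · exact fixPtsF_spec W_50 1923 36537 relc_50_19 v (by omega) (by omega)
          · exact fixPtsF_spec W_50 1923 38460 relc_50_20 v (by omega) (by omega)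
      · rcases Nat.lt_or_ge v 42306 with h | h
        · exact fixPtsF_spec W_50 1923 40383 relc_50_21 v (by omega) (by omega)
        · rcases Nat.lt_or_ge v 44229 with h | h
          · exact fixPtsF_spec W_50 1923 42306 relc_50_22 v (by omega) (by omega)
          · exact fixPtsF_spec W_50 1851 44229 relc_50_23 v (by omega) (by omega)

set_option maxRecDepth 1000000 in
theorem walk_50 : ∀ v, walkT ctF (D.wlen 50) (D.wordP 50) v = W_50 v := by
  intro v
  simp only [W_50, forceL_eq]
  rfl

theorem relw_50 : ∀ v, v < 46080 → walkT ctF (D.wlen 50) (D.wordP 50) v = v := by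
  intro v hv
  rw [walk_50]
  exact relf_50 v hv

theorem relf_51 : ∀ v, v < 46080 → W_51 v = v := by
  intro v hv
  rcases Nat.lt_or_ge v 23076 with h | h
  · rcases Nat.lt_or_ge v 11538 with h | h
    · rcases Nat.lt_or_ge v 5769 with h | h
      · rcases Nat.lt_or_ge v 1923 with h | h
        · exact fixPtsF_spec W_51 1923 0 relc_51_0 v (by omega) (by omega)
        · rcases Nat.lt_or_ge v 3846 with h | h
          · exact fixPtsF_spec W_51 1923 1923 relc_51_1 v (by omega) (by omega)
          · exact fixPtsF_spec W_51 1923 3846 relc_51_2 v (by omega) (by omega)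
      · rcases Nat.lt_or_ge v 7692 with h | h
        · exact fixPtsF_spec W_51 1923 5769 relc_51_3 v (by omega) (by omega)
        · rcases Nat.lt_or_ge v 9615 with h | h
          · exact fixPtsF_spec W_51 1923 7692 relc_51_4 v (by omega) (by omega)
          · exact fixPtsF_spec W_51 1923 9615 relc_51_5 v (by omega) (by omega)
    · rcases Nat.lt_or_ge v 17307 with h | h
      · rcases Nat.lt_or_ge v 13461 with h | h
        · exact fixPtsF_spec W_51 1923 11538 relc_51_6 v (by omega) (by omega)
        · rcases Nat.lt_or_ge v 15384 with h | h
          · exact fixPtsF_spec W_51 1923 13461 relc_51_7 v (by omega) (by omega)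
          · exact fixPtsF_spec W_51 1923 15384 relc_51_8 v (by omega) (by omega)
      · rcases Nat.lt_or_ge v 19230 with h | h
        · exact fixPtsF_spec W_51 1923 17307 relc_51_9 v (by omega) (by omega)
        · rcases Nat.lt_or_ge v 21153 with h | h
          · exact fixPtsF_spec W_51 1923 19230 relc_51_10 v (by omega) (by omega)
          · exact fixPtsF_spec W_51 1923 21153 relc_51_11 v (by omega) (by omega)
  · rcases Nat.lt_or_ge v 34614 with h | h
    · rcases Nat.lt_or_ge v 28845 with h | h
      · rcases Nat.lt_or_ge v 24999 with h | h
        · exact fixPtsF_spec W_51 1923 23076 relc_51_12 v (by omega) (by omega)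
        · rcases Nat.lt_or_ge v 26922 with h | h
          · exact fixPtsF_spec W_51 1923 24999 relc_51_13 v (by omega) (by omega)
          · exact fixPtsF_spec W_51 1923 26922 relc_51_14 v (by omega) (by omega)
      · rcases Nat.lt_or_ge v 30768 with h | h
        · exact fixPtsF_spec W_51 1923 28845 relc_51_15 v (by omega) (by omega)
        · rcases Nat.lt_or_ge v 32691 with h | h
          · exact fixPtsF_spec W_51 1923 30768 relc_51_16 v (by omega) (by omega)
          · exact fixPtsF_spec W_51 1923 32691 relc_51_17 v (by omega) (by omega)
    · rcases Nat.lt_or_ge v 40383 with h | h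
      · rcases Nat.lt_or_ge v 36537 with h | h
        · exact fixPtsF_spec W_51 1923 34614 relc_51_18 v (by omega) (by omega)
        · rcases Nat.lt_or_ge v 38460 with h | h
          · exact fixPtsF_spec W_51 1923 36537 relc_51_19 v (by omega) (by omega)
          · exact fixPtsF_spec W_51 1923 38460 relc_51_20 v (by omega) (by omega)
      · rcases Nat.lt_or_ge v 42306 with h | h
        · exact fixPtsF_spec W_51 1923 40383 relc_51_21 v (by omega) (by omega)
        · rcases Nat.lt_or_ge v 44229 with h | h
          · exact fixPtsF_spec W_51 1923 42306 relc_51_22 v (by omega) (by omega)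
          · exact fixPtsF_spec W_51 1851 44229 relc_51_23 v (by omega) (by omega)

set_option maxRecDepth 1000000 in
theorem walk_51 : ∀ v, walkT ctF (D.wlen 51) (D.wordP 51) v = W_51 v := by
  intro v
  simp only [W_51, forceL_eq]
  rfl

theorem relw_51 : ∀ v, v < 46080 → walkT ctF (D.wlen 51) (D.wordP 51) v = v := by
  intro v hv
  rw [walk_51]
  exact relf_51 v hv

theorem relf_52 : ∀ v, v < 46080 → W_52 v = v := by
  intro v hv
  rcases Nat.lt_or_ge v 23076 with h | h
  · rcases Nat.lt_or_ge v 11538 with h | h
    · rcases Nat.lt_or_ge v 5769 with h | h
      · rcases Nat.lt_or_ge v 1923 with h | h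
        · exact fixPtsF_spec W_52 1923 0 relc_52_0 v (by omega) (by omega)
        · rcases Nat.lt_or_ge v 3846 with h | h
          · exact fixPtsF_spec W_52 1923 1923 relc_52_1 v (by omega) (by omega)
          · exact fixPtsF_spec W_52 1923 3846 relc_52_2 v (by omega) (by omega)
      · rcases Nat.lt_or_ge v 7692 with h | h
        · exact fixPtsF_spec W_52 1923 5769 relc_52_3 v (by omega) (by omega)
        · rcases Nat.lt_or_ge v 9615 with h | h
          · exact fixPtsF_spec W_52 1923 7692 relc_52_4 v (by omega) (by omega)
          · exact fixPtsF_spec W_52 1923 9615 relc_52_5 v (by omega) (by omega)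
    · rcases Nat.lt_or_ge v 17307 with h | h
      · rcases Nat.lt_or_ge v 13461 with h | h
        · exact fixPtsF_spec W_52 1923 11538 relc_52_6 v (by omega) (by omega)
        · rcases Nat.lt_or_ge v 15384 with h | h
          · exact fixPtsF_spec W_52 1923 13461 relc_52_7 v (by omega) (by omega)
          · exact fixPtsF_spec W_52 1923 15384 relc_52_8 v (by omega) (by omega)
      · rcases Nat.lt_or_ge v 19230 with h | h
        · exact fixPtsF_spec W_52 1923 17307 relc_52_9 v (by omega) (by omega)
        · rcases Nat.lt_or_ge v 21153 with h | h
          · exact fixPtsF_spec W_52 1923 19230 relc_52_10 v (by omega) (by omega)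
          · exact fixPtsF_spec W_52 1923 21153 relc_52_11 v (by omega) (by omega)
  · rcases Nat.lt_or_ge v 34614 with h | h
    · rcases Nat.lt_or_ge v 28845 with h | h
      · rcases Nat.lt_or_ge v 24999 with h | h
        · exact fixPtsF_spec W_52 1923 23076 relc_52_12 v (by omega) (by omega)
        · rcases Nat.lt_or_ge v 26922 with h | h
          · exact fixPtsF_spec W_52 1923 24999 relc_52_13 v (by omega) (by omega)
          · exact fixPtsF_spec W_52 1923 26922 relc_52_14 v (by omega) (by omega)
      · rcases Nat.lt_or_ge v 30768 with h | h
        · exact fixPtsF_spec W_52 1923 28845 relc_52_15 v (by omega) (by omega)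
        · rcases Nat.lt_or_ge v 32691 with h | h
          · exact fixPtsF_spec W_52 1923 30768 relc_52_16 v (by omega) (by omega)
          · exact fixPtsF_spec W_52 1923 32691 relc_52_17 v (by omega) (by omega)
    · rcases Nat.lt_or_ge v 40383 with h | h
      · rcases Nat.lt_or_ge v 36537 with h | h
        · exact fixPtsF_spec W_52 1923 34614 relc_52_18 v (by omega) (by omega)
        · rcases Nat.lt_or_ge v 38460 with h | h
          · exact fixPtsF_spec W_52 1923 36537 relc_52_19 v (by omega) (by omega)
          · exact fixPtsF_spec W_52 1923 38460 relc_52_20 v (by omega) (by omega)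
      · rcases Nat.lt_or_ge v 42306 with h | h
        · exact fixPtsF_spec W_52 1923 40383 relc_52_21 v (by omega) (by omega)
        · rcases Nat.lt_or_ge v 44229 with h | h
          · exact fixPtsF_spec W_52 1923 42306 relc_52_22 v (by omega) (by omega)
          · exact fixPtsF_spec W_52 1851 44229 relc_52_23 v (by omega) (by omega)

set_option maxRecDepth 1000000 in
theorem walk_52 : ∀ v, walkT ctF (D.wlen 52) (D.wordP 52) v = W_52 v := by
  intro v
  simp only [W_52, forceL_eq]
  rfl

theorem relw_52 : ∀ v, v < 46080 → walkT ctF (D.wlen 52) (D.wordP 52) v = v := by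
  intro v hv
  rw [walk_52]
  exact relf_52 v hv

theorem relf_53 : ∀ v, v < 46080 → W_53 v = v := by
  intro v hv
  rcases Nat.lt_or_ge v 23076 with h | h
  · rcases Nat.lt_or_ge v 11538 with h | h
    · rcases Nat.lt_or_ge v 5769 with h | h
      · rcases Nat.lt_or_ge v 1923 with h | h
        · exact fixPtsF_spec W_53 1923 0 relc_53_0 v (by omega) (by omega)
        · rcases Nat.lt_or_ge v 3846 with h | h
          · exact fixPtsF_spec W_53 1923 1923 relc_53_1 v (by omega) (by omega)
          · exact fixPtsF_spec W_53 1923 3846 relc_53_2 v (by omega) (by omega)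
      · rcases Nat.lt_or_ge v 7692 with h | h
        · exact fixPtsF_spec W_53 1923 5769 relc_53_3 v (by omega) (by omega)
        · rcases Nat.lt_or_ge v 9615 with h | h
          · exact fixPtsF_spec W_53 1923 7692 relc_53_4 v (by omega) (by omega)
          · exact fixPtsF_spec W_53 1923 9615 relc_53_5 v (by omega) (by omega)
    · rcases Nat.lt_or_ge v 17307 with h | h
      · rcases Nat.lt_or_ge v 13461 with h | h
        · exact fixPtsF_spec W_53 1923 11538 relc_53_6 v (by omega) (by omega)
        · rcases Nat.lt_or_ge v 15384 with h | h
          · exact fixPtsF_spec W_53 1923 13461 relc_53_7 v (by omega) (by omega)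
          · exact fixPtsF_spec W_53 1923 15384 relc_53_8 v (by omega) (by omega)
      · rcases Nat.lt_or_ge v 19230 with h | h
        · exact fixPtsF_spec W_53 1923 17307 relc_53_9 v (by omega) (by omega)
        · rcases Nat.lt_or_ge v 21153 with h | h
          · exact fixPtsF_spec W_53 1923 19230 relc_53_10 v (by omega) (by omega)
          · exact fixPtsF_spec W_53 1923 21153 relc_53_11 v (by omega) (by omega)
  · rcases Nat.lt_or_ge v 34614 with h | h
    · rcases Nat.lt_or_ge v 28845 with h | h
      · rcases Nat.lt_or_ge v 24999 with h | h
        · exact fixPtsF_spec W_53 1923 23076 relc_53_12 v (by omega) (by omega)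
        · rcases Nat.lt_or_ge v 26922 with h | h
          · exact fixPtsF_spec W_53 1923 24999 relc_53_13 v (by omega) (by omega)
          · exact fixPtsF_spec W_53 1923 26922 relc_53_14 v (by omega) (by omega)
      · rcases Nat.lt_or_ge v 30768 with h | h
        · exact fixPtsF_spec W_53 1923 28845 relc_53_15 v (by omega) (by omega)
        · rcases Nat.lt_or_ge v 32691 with h | h
          · exact fixPtsF_spec W_53 1923 30768 relc_53_16 v (by omega) (by omega)
          · exact fixPtsF_spec W_53 1923 32691 relc_53_17 v (by omega) (by omega)
    · rcases Nat.lt_or_ge v 40383 with h | h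
      · rcases Nat.lt_or_ge v 36537 with h | h
        · exact fixPtsF_spec W_53 1923 34614 relc_53_18 v (by omega) (by omega)
        · rcases Nat.lt_or_ge v 38460 with h | h
          · exact fixPtsF_spec W_53 1923 36537 relc_53_19 v (by omega) (by omega)
          · exact fixPtsF_spec W_53 1923 38460 relc_53_20 v (by omega) (by omega)
      · rcases Nat.lt_or_ge v 42306 with h | h
        · exact fixPtsF_spec W_53 1923 40383 relc_53_21 v (by omega) (by omega)
        · rcases Nat.lt_or_ge v 44229 with h | h
          · exact fixPtsF_spec W_53 1923 42306 relc_53_22 v (by omega) (by omega)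
          · exact fixPtsF_spec W_53 1851 44229 relc_53_23 v (by omega) (by omega)

set_option maxRecDepth 1000000 in
theorem walk_53 : ∀ v, walkT ctF (D.wlen 53) (D.wordP 53) v = W_53 v := by
  intro v
  simp only [W_53, forceL_eq]
  rfl

theorem relw_53 : ∀ v, v < 46080 → walkT ctF (D.wlen 53) (D.wordP 53) v = v := by
  intro v hv
  rw [walk_53]
  exact relf_53 v hv

theorem invx_0 : ∀ v, v < 46080 → ctF 0 v < 46080 ∧ ctF 1 (ctF 0 v) = v := by
  intro v hv
  exact invRowFI_spec ctF 46080 0 1 46080 0 inv_0_0 v (by omega) (by omega)

theorem invx_1 : ∀ v, v < 46080 → ctF 1 v < 46080 ∧ ctF 0 (ctF 1 v) = v := by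
  intro v hv
  exact invRowFI_spec ctF 46080 1 0 46080 0 inv_1_0 v (by omega) (by omega)

theorem invx_2 : ∀ v, v < 46080 → ctF 2 v < 46080 ∧ ctF 3 (ctF 2 v) = v := by
  intro v hv
  exact invRowFI_spec ctF 46080 2 3 46080 0 inv_2_0 v (by omega) (by omega)

theorem invx_3 : ∀ v, v < 46080 → ctF 3 v < 46080 ∧ ctF 2 (ctF 3 v) = v := by
  intro v hv
  exact invRowFI_spec ctF 46080 3 2 46080 0 inv_3_0 v (by omega) (by omega)

theorem hconn : ∀ v, v < 46080 → v ≠ 0 → ∃ x, x < E.D.k ∧ ctF x v < v := by
  intro v hv
  exact connF_spec ctF 4 46080 0 conn_0 v (by omega) (by omega)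

theorem hE : ∀ v, v < E.M → ∀ x, x < E.D.k → edgeOKI iota E x v = true := by
  intro v hv x hx
  have hv' : v < 186321 := hv
  have hx' : x < 4 := hx
  interval_cases x
  · exact edgesx_0 v hv'
  · exact edgesx_1 v hv'
  · exact edgesx_2 v hv'
  · exact edgesx_3 v hv'

theorem hA : ∀ v, v < E.M → aliasOK E v = true := fun v hv => hA0 v hv

theorem hrows : ∀ v, v < E.M → tb RS v = true → rowOK2 E RS v E.D.k = true := fun v hv => hrows0 v hv

theorem hT : ∀ x, x < E.D.k → ∀ v, v < 46080 → ctF x v < 46080 ∧ ctF (iota x) (ctF x v) = v := by
  intro x hx
  have hx' : x < 4 := hx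
  interval_cases x
  · exact invx_0
  · exact invx_1
  · exact invx_2
  · exact invx_3

theorem hltr : ∀ j, j < E.D.nw → lettersOK E.D.k (E.D.wlen j) (E.D.wordP j) = true :=
  wordsOK_spec D D.nw words_ok

theorem hrelT : ∀ wi, wi < E.D.nrel → ∀ v, v < 46080 →
    walkT ctF (E.D.wlen wi) (E.D.wordP wi) v = v := by
  intro wi hwi
  have hwi' : wi < 54 := hwi
  interval_cases wi
  · exact relw_0
  · exact relw_1
  · exact relw_2
  · exact relw_3
  · exact relw_4
  · exact relw_5
  · exact relw_6
  · exact relw_7
  · exact relw_8
  · exact relw_9
  · exact relw_10
  · exact relw_11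
  · exact relw_12
  · exact relw_13
  · exact relw_14
  · exact relw_15
  · exact relw_16
  · exact relw_17
  · exact relw_18
  · exact relw_19
  · exact relw_20
  · exact relw_21
  · exact relw_22
  · exact relw_23
  · exact relw_24
  · exact relw_25
  · exact relw_26
  · exact relw_27
  · exact relw_28
  · exact relw_29
  · exact relw_30
  · exact relw_31
  · exact relw_32
  · exact relw_33
  · exact relw_34
  · exact relw_35
  · exact relw_36
  · exact relw_37
  · exact relw_38
  · exact relw_39
  · exact relw_40
  · exact relw_41
  · exact relw_42
  · exact relw_43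
  · exact relw_44
  · exact relw_45
  · exact relw_46
  · exact relw_47
  · exact relw_48
  · exact relw_49
  · exact relw_50
  · exact relw_51
  · exact relw_52
  · exact relw_53

theorem hsubT : ∀ wi, wi < E.D.nw → E.D.nrel ≤ wi →
    walkT ctF (E.D.wlen wi) (E.D.wordP wi) 0 = 0 :=
  subAll_spec ctF D D.nw sub_ok

end Cfsg.Agent.Helper5.L34DTC
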