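import Mathlib
import Cfsg.Agent.Helper9.L34.Iso
import Cfsg.Agent.Helper5.StemPB

/-! generated: two generators of order 7 of the stabilizer of three points in the Mathieu group
`M24`, which is isomorphic to `PSL(3,4)`, and relators -/

set_option autoImplicit false

namespace Cfsg.Agent.Helper5.L34Cov

open Cfsg Cfsg.Agent.Helper9.Golay Cfsg.Agent.Helper5.StemP

/-- the table of the first generator of helper9. -/
def tA : List ℕ := [0, 1, 2, 9, 19, 21, 17, 5, 20, 7, 18, 8, 4, 11, 12, 15, 10, 16, 6, 23, 22, 3, 13, 14]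

/-- the table of the second generator of helper9. -/
def tB : List ℕ := [0, 1, 2, 15, 7, 9, 12, 18, 3, 13, 22, 5, 14, 21, 10, 16, 19, 20, 17, 8, 4, 11, 6, 23]

/-- the table of the inverse of the second generator of helper9. -/
def tBi : List ℕ := [0, 1, 2, 8, 20, 11, 22, 4, 19, 5, 14, 21, 6, 9, 12, 3, 15, 18, 7, 16, 17, 13, 10, 23]

/-- the table of the first generator. -/
def tX : List ℕ := [0, 1, 2, 20, 22, 8, 13, 19, 23, 21, 12, 3, 17, 7, 4, 9, 15, 6, 5, 10, 16, 11, 18, 14]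

/-- the table of the inverse of the first generator. -/
def tXi : List ℕ := [0, 1, 2, 11, 14, 18, 17, 13, 5, 15, 19, 21, 10, 6, 23, 16, 20, 12, 22, 7, 3, 9, 4, 8]

/-- the table of the second generator. -/
def tY : List ℕ := [0, 1, 2, 5, 16, 13, 18, 11, 17, 4, 7, 19, 20, 21, 6, 3, 14, 15, 22, 23, 10, 8, 9, 12]

/-- the table of the inverse of the second generator. -/
def tYi : List ℕ := [0, 1, 2, 15, 9, 3, 14, 10, 21, 22, 20, 7, 23, 5, 16, 17, 4, 8, 6, 11, 12, 13, 18, 19]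

theorem tA_eq : l34GenTabs.getD 0 [] = tA := by decide +kernel

theorem tB_eq : l34GenTabs.getD 1 [] = tB := by decide +kernel

/-- the carrier permutation of an element of `H21`. -/
abbrev prm (h : ↥H21) : Equiv.Perm GolayPt := (((h : ↥H21) : ↥M24) : Equiv.Perm GolayPt)

theorem prm_mul (a b : ↥H21) : prm (a * b) = prm a * prm b := rfl

theorem prm_one : prm 1 = 1 := rfl

theorem prm_pow (a : ↥H21) (n : ℕ) : prm (a ^ n) = prm a ^ n := by
  induction n with
  | zero => rfl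
  | succ n ih => rw [pow_succ, pow_succ, prm_mul, ih]

theorem prm_injective : Function.Injective prm := fun _ _ h => Subtype.ext (Subtype.ext h)

theorem exists_gens : ∃ ga gb : ↥H21, IsTbl (prm ga) tA ∧ IsTbl (prm gb) tB ∧
    Subgroup.closure ({ga, gb} : Set ↥H21) = ⊤ := by
  have hma : l34GenTabs.getD 0 [] ∈ l34GenTabs := by
    rw [l34_gens_two]
    simp
  have hmb : l34GenTabs.getD 1 [] ∈ l34GenTabs := by
    rw [l34_gens_two]
    simp
  obtain ⟨σa, hσaM, hσat⟩ := l34_gens_good _ hma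
  obtain ⟨σb, hσbM, hσbt⟩ := l34_gens_good _ hmb
  have hfix := l34_fix
  have hfa := List.all_eq_true.mp hfix (l34GenTabs.getD 0 []) hma
  have hfb := List.all_eq_true.mp hfix (l34GenTabs.getD 1 []) hmb
  simp only [Bool.and_eq_true, beq_iff_eq] at hfa hfb
  let ga : ↥H21 := ⟨⟨σa, hσaM⟩, mem_H21_of_tbl hσaM hσat hfa.1.1 hfa.1.2 hfa.2⟩
  let gb : ↥H21 := ⟨⟨σb, hσbM⟩, mem_H21_of_tbl hσbM hσbt hfb.1.1 hfb.1.2 hfb.2⟩
  have : Finite ↥H21 := Nat.finite_of_card_ne_zero (by rw [card_H21]; norm_num)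
  refine ⟨ga, gb, ?_, ?_, ?_⟩
  · rw [← tA_eq]; exact hσat
  · rw [← tB_eq]; exact hσbt
  · let C : Subgroup (Equiv.Perm GolayPt) := Subgroup.closure {σa, σb}
    have hinit : GoodT C l34GenTabs := by
      intro t ht
      have : t = l34GenTabs.getD 0 [] ∨ t = l34GenTabs.getD 1 [] := by
        rw [l34_gens_two] at ht
        simpa using ht
      rcases this with rfl | rfl
      · exact ⟨σa, Subgroup.subset_closure (by simp), hσat⟩
      · exact ⟨σb, Subgroup.subset_closure (by simp), hσbt⟩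
    have hrun := goodT_runSLP C l34Prog2 l34GenTabs hinit
    have hlow := chain_lower hrun l34Levels [] l34_chain
    rw [l34_bound] at hlow
    have hC : 20160 ≤ Nat.card C :=
      le_trans hlow (Subgroup.card_le_of_le inf_le_left)
    let ι : ↥H21 →* Equiv.Perm GolayPt := (M24.subtype).comp H21.subtype
    have hι : Function.Injective ι := fun x y h => Subtype.ext (Subtype.ext h)
    have hmap : (Subgroup.closure ({ga, gb} : Set ↥H21)).map ι = C := by
      rw [MonoidHom.map_closure, Set.image_pair]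
      rfl
    apply Subgroup.eq_top_of_le_card
    rw [card_H21, Nat.card_congr
      ((Subgroup.closure ({ga, gb} : Set ↥H21)).equivMapOfInjective ι hι).toEquiv, hmap]
    exact hC

/-- the first generator of helper9. -/
noncomputable def ga : ↥H21 := Classical.choose exists_gens

/-- the second generator of helper9. -/
noncomputable def gb : ↥H21 := Classical.choose (Classical.choose_spec exists_gens)

theorem tbl_a : IsTbl (prm ga) tA := (Classical.choose_spec (Classical.choose_spec exists_gens)).1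

theorem tbl_b : IsTbl (prm gb) tB := (Classical.choose_spec (Classical.choose_spec exists_gens)).2.1

theorem closure_ab : Subgroup.closure ({ga, gb} : Set ↥H21) = ⊤ :=
  (Classical.choose_spec (Classical.choose_spec exists_gens)).2.2

instance : Finite ↥H21 := Nat.finite_of_card_ne_zero (by rw [card_H21]; norm_num)

theorem eq_one_of_tbl {σ : ↥H21} {t : List ℕ} (h : IsTbl (prm σ) t)
    (ht : t = idT) : σ = 1 := by
  apply prm_injective
  rw [ht] at h
  exact h.eq_of_eq isTbl_one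

theorem gb_pow : gb ^ 5 = 1 := by
  apply eq_one_of_tbl (t := powT tB 5)
  · rw [prm_pow]
    exact tbl_b.pow 5
  · decide +kernel

theorem gb_inv : gb⁻¹ = gb ^ 4 := by
  apply inv_eq_of_mul_eq_one_right
  rw [← pow_succ', gb_pow]

theorem tbl_bi : IsTbl (prm gb⁻¹) tBi := by
  rw [gb_inv, prm_pow]
  have h := tbl_b.pow 4
  have e : powT tB 4 = tBi := by decide +kernel
  rw [e] at h
  exact h

/-- the first generator, of order 7. -/
noncomputable def x34 : ↥H21 := ga * gb⁻¹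

/-- the second generator, of order 7. -/
noncomputable def y34 : ↥H21 := gb⁻¹ * ga

theorem tbl_x : IsTbl (prm x34) tX := by
  have h := tbl_a.mul tbl_bi
  have e : mulT tA tBi = tX := by decide +kernel
  rw [e] at h
  exact h

theorem tbl_y : IsTbl (prm y34) tY := by
  have h := tbl_bi.mul tbl_a
  have e : mulT tBi tA = tY := by decide +kernel
  rw [e] at h
  exact h

theorem x34_pow : x34 ^ 7 = 1 := by
  apply eq_one_of_tbl (t := powT tX 7)
  · rw [prm_pow]
    exact tbl_x.pow 7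
  · decide +kernel

theorem y34_pow : y34 ^ 7 = 1 := by
  apply eq_one_of_tbl (t := powT tY 7)
  · rw [prm_pow]
    exact tbl_y.pow 7
  · decide +kernel

theorem x34_inv : x34⁻¹ = x34 ^ 6 := by
  apply inv_eq_of_mul_eq_one_right
  rw [← pow_succ', x34_pow]

theorem y34_inv : y34⁻¹ = y34 ^ 6 := by
  apply inv_eq_of_mul_eq_one_right
  rw [← pow_succ', y34_pow]

theorem tbl_xi : IsTbl (prm x34⁻¹) tXi := by
  rw [x34_inv, prm_pow]
  have h := tbl_x.pow 6
  have e : powT tX 6 = tXi := by decide +kernel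
  rw [e] at h
  exact h

theorem tbl_yi : IsTbl (prm y34⁻¹) tYi := by
  rw [y34_inv, prm_pow]
  have h := tbl_y.pow 6
  have e : powT tY 6 = tYi := by decide +kernel
  rw [e] at h
  exact h

/-- the generators. -/
noncomputable def g (i : ℕ) : ↥H21 := if i = 0 then x34 else if i = 1 then y34 else 1

/-- the orders. -/
def mm (_ : ℕ) : ℕ := 7

/-- the tables of the letters. -/
def LT (c : ℕ) : List ℕ := if c = 0 then tX else if c = 1 then tXi else if c = 2 then tY else tYi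

/-- the table of a word. -/
def wordT (r : List ℕ) : List ℕ := r.foldr (fun c acc => mulT (LT c) acc) idT

theorem lval_g0 : lval g 0 = x34 := rfl

theorem lval_g1 : lval g 1 = x34⁻¹ := rfl

theorem lval_g2 : lval g 2 = y34 := rfl

theorem lval_g3 : lval g 3 = y34⁻¹ := rfl

theorem isTbl_lval : ∀ c, c < 2 * 2 → IsTbl (prm (lval g c)) (LT c) := by
  intro c hc
  interval_cases c
  · rw [lval_g0]; exact tbl_x
  · rw [lval_g1]; exact tbl_xi
  · rw [lval_g2]; exact tbl_y
  · rw [lval_g3]; exact tbl_yi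

theorem isTbl_word : ∀ r : List ℕ, (∀ c ∈ r, c < 2 * 2) →
    IsTbl (prm (r.map (lval g)).prod) (wordT r)
  | [], _ => by
    rw [List.map_nil, List.prod_nil, prm_one]
    exact isTbl_one
  | c :: l, h => by
    rw [List.map_cons, List.prod_cons, prm_mul]
    exact (isTbl_lval c (h c List.mem_cons_self)).mul
      (isTbl_word l (fun c hc => h c (List.mem_cons_of_mem _ hc)))

/-- the central words. -/
def CC : List (List ℕ) := [[0, 2, 2, 0, 2, 2, 0, 2, 2], [1, 3, 3, 1, 3, 3, 1, 3, 3], [1, 1, 3, 3, 3, 1, 1, 3, 3, 3], [0, 0, 2, 2, 2, 0, 0, 2, 2, 2], [0, 3, 3, 0, 3, 3, 0, 3, 3, 0, 3, 3], [1, 2, 2, 1, 2, 2, 1, 2, 2, 1, 2, 2], [0, 0, 2, 1, 1, 2, 0, 0, 2, 1, 1, 2], [0, 0, 3, 1, 1, 3, 0, 0, 3, 1, 1, 3], [0, 3, 0, 0, 3, 3, 1, 2, 1, 1, 1, 3, 3], [0, 3, 0, 0, 0, 2, 2, 1, 2, 1, 1, 2, 2], [0, 2, 2, 2, 0, 0, 2, 1, 3, 3, 1, 3, 3], [0, 3, 3, 1, 3, 3, 1, 2, 0, 0, 2, 2, 2], [0, 2, 2, 0, 3, 1, 1, 3, 3, 3, 1, 2, 2], [0, 2, 2, 1, 1, 2, 1, 2, 2, 0, 0, 0,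 3], [0, 2, 2, 0, 2, 2, 1, 3, 3, 3, 1, 1, 3], [0, 3, 3, 1, 1, 1, 2, 1, 3, 3, 0, 0, 3], [0, 0, 0, 3, 3, 3, 1, 1, 2, 1, 1, 3, 3, 3], [0, 0, 2, 1, 1, 3, 3, 1, 1, 3, 3, 1, 1, 2], [0, 0, 2, 2, 0, 0, 2, 2, 0, 0, 3, 1, 1, 3], [0, 0, 2, 2, 2, 1, 1, 1, 2, 2, 2, 0, 0, 3], [0, 3, 3, 1, 1, 1, 2, 1, 2, 2, 1, 1, 2, 2, 2], [0, 3, 0, 0, 0, 2, 2, 1, 3, 3, 3, 0, 0, 3, 3], [0, 3, 3, 0, 0, 3, 3, 3, 1, 2, 2, 0, 0, 0, 3], [0, 0, 2, 1, 1, 3, 3, 1, 1, 2, 0, 0, 3, 3, 3]]

theorem CC_lt : ∀ r ∈ CC, ∀ c ∈ r, c < 2 * 2 := by decide +kernel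

theorem CC_tbl : ∀ r ∈ CC, wordT r = idT := by decide +kernel

theorem CC_rel : ∀ r ∈ CC, (r.map (lval g)).prod = 1 := fun r hr =>
  eq_one_of_tbl (isTbl_word r (CC_lt r hr)) (CC_tbl r hr)

theorem g_pow : ∀ i, i < 2 → g i ^ mm i = 1 := by
  intro i hi
  interval_cases i
  · exact x34_pow
  · exact y34_pow

/-- a word for `ga`. -/
def wa : List ℕ := [3, 1, 3, 1, 1, 3, 0, 2, 0, 2, 1]

/-- a word for `gb`. -/
def wb : List ℕ := [2, 0, 2, 0, 0, 2, 1, 3, 1, 3, 0]

theorem wa_eq : (wa.map (lval g)).prod = ga := by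
  apply prm_injective
  have h := isTbl_word wa (by decide)
  have e : wordT wa = tA := by decide +kernel
  rw [e] at h
  exact h.eq_of_eq tbl_a

theorem wb_eq : (wb.map (lval g)).prod = gb := by
  apply prm_injective
  have h := isTbl_word wb (by decide)
  have e : wordT wb = tB := by decide +kernel
  rw [e] at h
  exact h.eq_of_eq tbl_b

theorem prod_lval_mem {K : Type*} [Group K] (x : ℕ → K) (d : ℕ) : ∀ r : List ℕ,
    (∀ c ∈ r, c < 2 * d) →
    (r.map (lval x)).prod ∈ Subgroup.closure {y | ∃ i, i < d ∧ y = x i} := by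
  intro r hr
  apply Subgroup.list_prod_mem
  intro y hy
  obtain ⟨c, hc, rfl⟩ := List.mem_map.mp hy
  have hi : c / 2 < d := by have := hr c hc; omega
  unfold lval
  split_ifs
  · exact Subgroup.subset_closure ⟨c / 2, hi, rfl⟩
  · exact inv_mem (Subgroup.subset_closure ⟨c / 2, hi, rfl⟩)

theorem g_closure : Subgroup.closure {y | ∃ i, i < 2 ∧ y = g i} = ⊤ := by
  rw [eq_top_iff, ← closure_ab, Subgroup.closure_le]
  intro x hx
  rcases hx with rfl | rfl
  · rw [SetLike.mem_coe, ← wa_eq]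
    exact prod_lval_mem g 2 wa (by decide)
  · rw [SetLike.mem_coe, ← wb_eq]
    exact prod_lval_mem g 2 wb (by decide)

end Cfsg.Agent.Helper5.L34Cov
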