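import Cfsg.Agent.Helper5.L34TTCDatD
import Cfsg.Agent.Helper5.L34TTCDatT
import Cfsg.Agent.Helper5.TCIB

/-! kernel checks of words: L34TTC -/

set_option autoImplicit false
set_option Elab.async false

namespace Cfsg.Agent.Helper5.L34TTC
open Cfsg.Agent.Helper5.TC Cfsg.Agent.Helper5.TCI

set_option maxRecDepth 1000000 in
theorem set_zero : tb RS 0 = true := by decide +kernel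

set_option maxRecDepth 1000000 in
theorem set_lt : Nat.blt RS (Nat.pow 2 174289) = true := by decide +kernel

set_option maxRecDepth 1000000 in
theorem rev_ok : revOKI iota D D.nw = true := by decide +kernel

set_option maxRecDepth 1000000 in
theorem words_ok : wordsOK D D.nw = true := by decide +kernel

set_option maxRecDepth 1000000 in
theorem sub_ok : subAll ctF D D.nw = true := by decide +kernel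

theorem word_0 : unpack (D.wlen 0) (D.wordP 0) = [1, 0] := by decide +kernel

theorem word_1 : unpack (D.wlen 1) (D.wordP 1) = [0, 1] := by decide +kernel

theorem word_2 : unpack (D.wlen 2) (D.wordP 2) = [0, 0, 0, 0, 0, 0, 0] := by decide +kernel

theorem word_3 : unpack (D.wlen 3) (D.wordP 3) = [3, 2] := by decide +kernel

theorem word_4 : unpack (D.wlen 4) (D.wordP 4) = [2, 3] := by decide +kernel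

theorem word_5 : unpack (D.wlen 5) (D.wordP 5) = [2, 2, 2, 2, 2, 2, 2] := by decide +kernel

theorem word_6 : unpack (D.wlen 6) (D.wordP 6) = [1, 1, 3, 3, 1, 3, 3, 1, 3, 3, 0, 2, 2, 0, 2, 2, 0, 2, 2, 0] := by decide +kernel

theorem word_7 : unpack (D.wlen 7) (D.wordP 7) = [3, 1, 3, 3, 1, 3, 3, 1, 3, 3, 2, 2, 2, 0, 2, 2, 0, 2, 2, 0] := by decide +kernel

theorem word_8 : unpack (D.wlen 8) (D.wordP 8) = [1, 0, 2, 2, 0, 2, 2, 0, 2, 2, 0, 3, 3, 1, 3, 3, 1, 3, 3, 1] := by decide +kernel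

theorem word_9 : unpack (D.wlen 9) (D.wordP 9) = [3, 0, 2, 2, 0, 2, 2, 0, 2, 2, 2, 3, 3, 1, 3, 3, 1, 3, 3, 1] := by decide +kernel

theorem word_10 : unpack (D.wlen 10) (D.wordP 10) = [1, 0, 0, 2, 2, 2, 0, 0, 2, 2, 2, 0, 3, 3, 3, 1, 1, 3, 3, 3, 1, 1] := by decide +kernel

theorem word_11 : unpack (D.wlen 11) (D.wordP 11) = [3, 0, 0, 2, 2, 2, 0, 0, 2, 2, 2, 2, 3, 3, 3, 1, 1, 3, 3, 3, 1, 1] := by decide +kernel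

theorem word_12 : unpack (D.wlen 12) (D.wordP 12) = [1, 1, 1, 3, 3, 3, 1, 1, 3, 3, 3, 0, 2, 2, 2, 0, 0, 2, 2, 2, 0, 0] := by decide +kernel

theorem word_13 : unpack (D.wlen 13) (D.wordP 13) = [3, 1, 1, 3, 3, 3, 1, 1, 3, 3, 3, 2, 2, 2, 2, 0, 0, 2, 2, 2, 0, 0] := by decide +kernel

theorem word_14 : unpack (D.wlen 14) (D.wordP 14) = [1, 1, 2, 2, 1, 2, 2, 1, 2, 2, 1, 2, 2, 0, 3, 3, 0, 3, 3, 0, 3, 3, 0, 3, 3, 0] := by decide +kernel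

theorem word_15 : unpack (D.wlen 15) (D.wordP 15) = [3, 1, 2, 2, 1, 2, 2, 1, 2, 2, 1, 2, 2, 2, 3, 3, 0, 3, 3, 0, 3, 3, 0, 3, 3, 0] := by decide +kernel

theorem word_16 : unpack (D.wlen 16) (D.wordP 16) = [1, 0, 3, 3, 0, 3, 3, 0, 3, 3, 0, 3, 3, 0, 2, 2, 1, 2, 2, 1, 2, 2, 1, 2, 2, 1] := by decide +kernel

theorem word_17 : unpack (D.wlen 17) (D.wordP 17) = [3, 0, 3, 3, 0, 3, 3, 0, 3, 3, 0, 3, 3, 2, 2, 2, 1, 2, 2, 1, 2, 2, 1, 2, 2, 1] := by decide +kernel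

theorem word_18 : unpack (D.wlen 18) (D.wordP 18) = [1, 1, 1, 3, 0, 0, 3, 1, 1, 3, 0, 0, 3, 0, 2, 1, 1, 2, 0, 0, 2, 1, 1, 2, 0, 0] := by decide +kernel

theorem word_19 : unpack (D.wlen 19) (D.wordP 19) = [3, 1, 1, 3, 0, 0, 3, 1, 1, 3, 0, 0, 3, 2, 2, 1, 1, 2, 0, 0, 2, 1, 1, 2, 0, 0] := by decide +kernel

theorem word_20 : unpack (D.wlen 20) (D.wordP 20) = [1, 1, 1, 2, 0, 0, 2, 1, 1, 2, 0, 0, 2, 0, 3, 1, 1, 3, 0, 0, 3, 1, 1, 3, 0, 0] := by decide +kernel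

theorem word_21 : unpack (D.wlen 21) (D.wordP 21) = [3, 1, 1, 2, 0, 0, 2, 1, 1, 2, 0, 0, 2, 2, 3, 1, 1, 3, 0, 0, 3, 1, 1, 3, 0, 0] := by decide +kernel

theorem word_22 : unpack (D.wlen 22) (D.wordP 22) = [1, 1, 2, 1, 1, 2, 2, 0, 3, 0, 0, 0, 2, 2, 0, 3, 3, 1, 1, 1, 2, 1, 3, 3, 0, 0, 3, 0] := by decide +kernel

theorem word_23 : unpack (D.wlen 23) (D.wordP 23) = [3, 1, 2, 1, 1, 2, 2, 0, 3, 0, 0, 0, 2, 2, 2, 3, 3, 1, 1, 1, 2, 1, 3, 3, 0, 0, 3, 0] := by decide +kernel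

theorem word_24 : unpack (D.wlen 24) (D.wordP 24) = [1, 1, 2, 1, 1, 1, 3, 3, 0, 3, 0, 0, 3, 3, 0, 2, 2, 1, 1, 2, 1, 2, 2, 0, 0, 0, 3, 0] := by decide +kernel

theorem word_25 : unpack (D.wlen 25) (D.wordP 25) = [3, 1, 2, 1, 1, 1, 3, 3, 0, 3, 0, 0, 3, 3, 2, 2, 2, 1, 1, 2, 1, 2, 2, 0, 0, 0, 3, 0] := by decide +kernel

theorem word_26 : unpack (D.wlen 26) (D.wordP 26) = [1, 1, 3, 3, 3, 1, 1, 3, 0, 2, 2, 0, 2, 2, 0, 3, 3, 1, 3, 3, 1, 2, 0, 0, 2, 2, 2, 0] := by decide +kernel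

theorem word_27 : unpack (D.wlen 27) (D.wordP 27) = [3, 1, 3, 3, 3, 1, 1, 3, 0, 2, 2, 0, 2, 2, 2, 3, 3, 1, 3, 3, 1, 2, 0, 0, 2, 2, 2, 0] := by decide +kernel

theorem word_28 : unpack (D.wlen 28) (D.wordP 28) = [1, 1, 2, 2, 0, 2, 2, 0, 3, 1, 1, 3, 3, 3, 0, 2, 2, 2, 0, 0, 2, 1, 3, 3, 1, 3, 3, 0] := by decide +kernel

theorem word_29 : unpack (D.wlen 29) (D.wordP 29) = [3, 1, 2, 2, 0, 2, 2, 0, 3, 1, 1, 3, 3, 3, 2, 2, 2, 2, 0, 0, 2, 1, 3, 3, 1, 3, 3, 0] := by decide +kernel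

theorem word_30 : unpack (D.wlen 30) (D.wordP 30) = [1, 1, 3, 3, 1, 2, 0, 0, 2, 2, 2, 0, 3, 3, 0, 2, 2, 1, 3, 3, 3, 1, 1, 3, 0, 2, 2, 0] := by decide +kernel

theorem word_31 : unpack (D.wlen 31) (D.wordP 31) = [3, 1, 3, 3, 1, 2, 0, 0, 2, 2, 2, 0, 3, 3, 2, 2, 2, 1, 3, 3, 3, 1, 1, 3, 0, 2, 2, 0] := by decide +kernel

theorem word_32 : unpack (D.wlen 32) (D.wordP 32) = [1, 1, 3, 3, 0, 0, 3, 0, 3, 3, 1, 1, 1, 2, 0, 3, 0, 0, 0, 2, 2, 1, 2, 1, 1, 2, 2, 0] := by decide +kernel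

theorem word_33 : unpack (D.wlen 33) (D.wordP 33) = [3, 1, 3, 3, 0, 0, 3, 0, 3, 3, 1, 1, 1, 2, 2, 3, 0, 0, 0, 2, 2, 1, 2, 1, 1, 2, 2, 0] := by decide +kernel

theorem word_34 : unpack (D.wlen 34) (D.wordP 34) = [1, 1, 3, 3, 1, 3, 3, 0, 2, 2, 2, 0, 0, 2, 0, 3, 1, 1, 3, 3, 3, 1, 2, 2, 0, 2, 2, 0] := by decide +kernel

theorem word_35 : unpack (D.wlen 35) (D.wordP 35) = [3, 1, 3, 3, 1, 3, 3, 0, 2, 2, 2, 0, 0, 2, 2, 3, 1, 1, 3, 3, 3, 1, 2, 2, 0, 2, 2, 0] := by decide +kernel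

theorem word_36 : unpack (D.wlen 36) (D.wordP 36) = [1, 1, 2, 2, 0, 0, 0, 3, 0, 2, 2, 1, 1, 2, 0, 3, 0, 0, 3, 3, 1, 2, 1, 1, 1, 3, 3, 0] := by decide +kernel

theorem word_37 : unpack (D.wlen 37) (D.wordP 37) = [3, 1, 2, 2, 0, 0, 0, 3, 0, 2, 2, 1, 1, 2, 2, 3, 0, 0, 3, 3, 1, 2, 1, 1, 1, 3, 3, 0] := by decide +kernel

theorem word_38 : unpack (D.wlen 38) (D.wordP 38) = [1, 1, 1, 1, 2, 2, 2, 0, 0, 3, 0, 0, 2, 2, 2, 0, 3, 3, 3, 1, 1, 2, 1, 1, 3, 3, 3, 0, 0, 0] := by decide +kernel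

theorem word_39 : unpack (D.wlen 39) (D.wordP 39) = [3, 1, 1, 1, 2, 2, 2, 0, 0, 3, 0, 0, 2, 2, 2, 2, 3, 3, 3, 1, 1, 2, 1, 1, 3, 3, 3, 0, 0, 0] := by decide +kernel

theorem word_40 : unpack (D.wlen 40) (D.wordP 40) = [1, 1, 1, 3, 0, 0, 2, 2, 0, 0, 2, 2, 0, 0, 3, 0, 2, 1, 1, 3, 3, 1, 1, 3, 3, 1, 1, 2, 0, 0] := by decide +kernel

theorem word_41 : unpack (D.wlen 41) (D.wordP 41) = [3, 1, 1, 3, 0, 0, 2, 2, 0, 0, 2, 2, 0, 0, 3, 2, 2, 1, 1, 3, 3, 1, 1, 3, 3, 1, 1, 2, 0, 0] := by decide +kernel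

theorem word_42 : unpack (D.wlen 42) (D.wordP 42) = [1, 1, 1, 3, 3, 1, 1, 3, 3, 1, 1, 2, 0, 0, 2, 0, 3, 1, 1, 3, 0, 0, 2, 2, 0, 0, 2, 2, 0, 0] := by decide +kernel

theorem word_43 : unpack (D.wlen 43) (D.wordP 43) = [3, 1, 1, 3, 3, 1, 1, 3, 3, 1, 1, 2, 0, 0, 2, 2, 3, 1, 1, 3, 0, 0, 2, 2, 0, 0, 2, 2, 0, 0] := by decide +kernel

theorem word_44 : unpack (D.wlen 44) (D.wordP 44) = [1, 1, 1, 3, 3, 3, 0, 0, 0, 3, 3, 3, 1, 1, 2, 0, 3, 0, 0, 2, 2, 2, 1, 1, 1, 2, 2, 2, 0, 0] := by decide +kernel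

theorem word_45 : unpack (D.wlen 45) (D.wordP 45) = [3, 1, 1, 3, 3, 3, 0, 0, 0, 3, 3, 3, 1, 1, 2, 2, 3, 0, 0, 2, 2, 2, 1, 1, 1, 2, 2, 2, 0, 0] := by decide +kernel

theorem word_46 : unpack (D.wlen 46) (D.wordP 46) = [1, 1, 2, 2, 0, 0, 0, 3, 0, 3, 3, 0, 0, 3, 3, 3, 0, 2, 2, 2, 1, 1, 2, 2, 1, 2, 1, 1, 1, 3, 3, 0] := by decide +kernel

theorem word_47 : unpack (D.wlen 47) (D.wordP 47) = [3, 1, 2, 2, 0, 0, 0, 3, 0, 3, 3, 0, 0, 3, 3, 3, 2, 2, 2, 2, 1, 1, 2, 2, 1, 2, 1, 1, 1, 3, 3, 0] := by decide +kernel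

theorem word_48 : unpack (D.wlen 48) (D.wordP 48) = [1, 1, 2, 1, 1, 1, 3, 3, 0, 2, 2, 2, 1, 1, 2, 2, 0, 3, 3, 0, 0, 3, 3, 3, 1, 2, 2, 0, 0, 0, 3, 0] := by decide +kernel

theorem word_49 : unpack (D.wlen 49) (D.wordP 49) = [3, 1, 2, 1, 1, 1, 3, 3, 0, 2, 2, 2, 1, 1, 2, 2, 2, 3, 3, 0, 0, 3, 3, 3, 1, 2, 2, 0, 0, 0, 3, 0] := by decide +kernel

theorem word_50 : unpack (D.wlen 50) (D.wordP 50) = [1, 1, 2, 2, 1, 1, 2, 2, 2, 0, 3, 3, 1, 1, 1, 2, 0, 3, 0, 0, 0, 2, 2, 1, 3, 3, 3, 0, 0, 3, 3, 0] := by decide +kernel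

theorem word_51 : unpack (D.wlen 51) (D.wordP 51) = [3, 1, 2, 2, 1, 1, 2, 2, 2, 0, 3, 3, 1, 1, 1, 2, 2, 3, 0, 0, 0, 2, 2, 1, 3, 3, 3, 0, 0, 3, 3, 0] := by decide +kernel

theorem word_52 : unpack (D.wlen 52) (D.wordP 52) = [1, 1, 1, 3, 0, 0, 2, 2, 0, 0, 3, 1, 1, 2, 2, 2, 0, 3, 3, 3, 0, 0, 2, 1, 1, 3, 3, 1, 1, 2, 0, 0] := by decide +kernel

theorem word_53 : unpack (D.wlen 53) (D.wordP 53) = [3, 1, 1, 3, 0, 0, 2, 2, 0, 0, 3, 1, 1, 2, 2, 2, 2, 3, 3, 3, 0, 0, 2, 1, 1, 3, 3, 1, 1, 2, 0, 0] := by decide +kernel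

theorem word_54 : unpack (D.wlen 54) (D.wordP 54) = [2, 2, 0, 2, 2, 0, 2, 2, 0, 2, 2, 0, 2, 2, 0, 2, 2, 0, 2, 2, 0, 2, 2, 0, 2, 2, 0, 2, 2, 0, 2, 2, 0, 2, 2, 0, 2, 2, 0, 2, 2, 0, 2, 2, 0, 2, 2, 0, 2, 2, 0, 2, 2, 0, 2, 2, 0, 2, 2, 0, 2, 2, 0, 2, 2, 0, 2, 2, 0, 2, 2, 0, 2, 2, 0, 2, 2, 0, 2, 2, 0] := by decide +kernel

theorem word_55 : unpack (D.wlen 55) (D.wordP 55) = [3, 3, 1, 3, 3, 1, 3, 3, 1, 3, 3, 1, 3, 3, 1, 3, 3, 1, 3, 3, 1, 3, 3, 1, 3, 3, 1, 3, 3, 1, 3, 3, 1, 3, 3, 1, 3, 3, 1, 3, 3, 1, 3, 3, 1, 3, 3, 1, 3, 3, 1, 3, 3, 1, 3, 3, 1, 3, 3, 1, 3, 3, 1, 3, 3, 1, 3, 3, 1, 3, 3, 1, 3, 3, 1, 3, 3, 1, 3, 3, 1] := by decide +kernel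

theorem word_56 : unpack (D.wlen 56) (D.wordP 56) = [3, 3, 3, 1, 1, 3, 3, 3, 1, 1, 3, 3, 3, 1, 1, 3, 3, 3, 1, 1, 3, 3, 3, 1, 1, 3, 3, 3, 1, 1, 3, 3, 3, 1, 1, 3, 3, 3, 1, 1, 3, 3, 3, 1, 1, 3, 3, 3, 1, 1, 3, 3, 3, 1, 1, 3, 3, 3, 1, 1, 3, 3, 3, 1, 1, 3, 3, 3, 1, 1, 3, 3, 3, 1, 1, 3, 3, 3, 1, 1, 3, 3, 3, 1, 1, 3, 3, 3, 1, 1] := by decide +kernel

theorem word_57 : unpack (D.wlen 57) (D.wordP 57) = [2, 2, 2, 0, 0, 2, 2, 2, 0, 0, 2, 2, 2, 0, 0, 2, 2, 2, 0, 0, 2, 2, 2, 0, 0, 2, 2, 2, 0, 0, 2, 2, 2, 0, 0, 2, 2, 2, 0, 0, 2, 2, 2, 0, 0, 2, 2, 2, 0, 0, 2, 2, 2, 0, 0, 2, 2, 2, 0, 0, 2, 2, 2, 0, 0, 2, 2, 2, 0, 0, 2, 2, 2, 0, 0, 2, 2, 2, 0, 0, 2, 2, 2, 0, 0, 2, 2, 2, 0, 0] := by decide +kernel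

theorem word_58 : unpack (D.wlen 58) (D.wordP 58) = [3, 3, 0, 3, 3, 0, 3, 3, 0, 3, 3, 0, 3, 3, 0, 3, 3, 0, 3, 3, 0, 3, 3, 0, 3, 3, 0, 3, 3, 0, 3, 3, 0, 3, 3, 0, 3, 3, 0, 3, 3, 0, 3, 3, 0, 3, 3, 0, 3, 3, 0, 3, 3, 0, 3, 3, 0, 3, 3, 0, 3, 3, 0, 3, 3, 0, 3, 3, 0, 3, 3, 0, 3, 3, 0, 3, 3, 0, 3, 3, 0, 3, 3, 0, 3, 3, 0, 3, 3, 0, 3, 3, 0, 3, 3, 0, 3, 3, 0, 3, 3, 0, 3, 3, 0, 3, 3, 0] := by decide +kernel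

theorem word_59 : unpack (D.wlen 59) (D.wordP 59) = [2, 2, 1, 2, 2, 1, 2, 2, 1, 2, 2, 1, 2, 2, 1, 2, 2, 1, 2, 2, 1, 2, 2, 1, 2, 2, 1, 2, 2, 1, 2, 2, 1, 2, 2, 1, 2, 2, 1, 2, 2, 1, 2, 2, 1, 2, 2, 1, 2, 2, 1, 2, 2, 1, 2, 2, 1, 2, 2, 1, 2, 2, 1, 2, 2, 1, 2, 2, 1, 2, 2, 1, 2, 2, 1, 2, 2, 1, 2, 2, 1, 2, 2, 1, 2, 2, 1, 2, 2, 1, 2, 2, 1, 2, 2, 1, 2, 2, 1, 2, 2, 1, 2, 2, 1, 2, 2, 1] := by decide +kernel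

theorem word_60 : unpack (D.wlen 60) (D.wordP 60) = [2, 1, 1, 2, 0, 0, 2, 1, 1, 2, 0, 0, 2, 1, 1, 2, 0, 0, 2, 1, 1, 2, 0, 0, 2, 1, 1, 2, 0, 0, 2, 1, 1, 2, 0, 0, 2, 1, 1, 2, 0, 0, 2, 1, 1, 2, 0, 0, 2, 1, 1, 2, 0, 0, 2, 1, 1, 2, 0, 0, 2, 1, 1, 2, 0, 0, 2, 1, 1, 2, 0, 0, 2, 1, 1, 2, 0, 0, 2, 1, 1, 2, 0, 0, 2, 1, 1, 2, 0, 0, 2, 1, 1, 2, 0, 0, 2, 1, 1, 2, 0, 0, 2, 1, 1, 2, 0, 0] := by decide +kernel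

theorem word_61 : unpack (D.wlen 61) (D.wordP 61) = [3, 1, 1, 3, 0, 0, 3, 1, 1, 3, 0, 0, 3, 1, 1, 3, 0, 0, 3, 1, 1, 3, 0, 0, 3, 1, 1, 3, 0, 0, 3, 1, 1, 3, 0, 0, 3, 1, 1, 3, 0, 0, 3, 1, 1, 3, 0, 0, 3, 1, 1, 3, 0, 0, 3, 1, 1, 3, 0, 0, 3, 1, 1, 3, 0, 0, 3, 1, 1, 3, 0, 0, 3, 1, 1, 3, 0, 0, 3, 1, 1, 3, 0, 0, 3, 1, 1, 3, 0, 0, 3, 1, 1, 3, 0, 0, 3, 1, 1, 3, 0, 0, 3, 1, 1, 3, 0, 0] := by decide +kernel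

theorem word_62 : unpack (D.wlen 62) (D.wordP 62) = [3, 3, 1, 1, 1, 2, 1, 3, 3, 0, 0, 3, 0, 3, 3, 1, 1, 1, 2, 1, 3, 3, 0, 0, 3, 0, 3, 3, 1, 1, 1, 2, 1, 3, 3, 0, 0, 3, 0, 3, 3, 1, 1, 1, 2, 1, 3, 3, 0, 0, 3, 0, 3, 3, 1, 1, 1, 2, 1, 3, 3, 0, 0, 3, 0, 3, 3, 1, 1, 1, 2, 1, 3, 3, 0, 0, 3, 0, 3, 3, 1, 1, 1, 2, 1, 3, 3, 0, 0, 3, 0, 3, 3, 1, 1, 1, 2, 1, 3, 3, 0, 0, 3, 0, 3, 3, 1, 1, 1, 2, 1, 3, 3, 0, 0, 3, 0] := by decide +kernel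

theorem word_63 : unpack (D.wlen 63) (D.wordP 63) = [2, 2, 1, 1, 2, 1, 2, 2, 0, 0, 0, 3, 0, 2, 2, 1, 1, 2, 1, 2, 2, 0, 0, 0, 3, 0, 2, 2, 1, 1, 2, 1, 2, 2, 0, 0, 0, 3, 0, 2, 2, 1, 1, 2, 1, 2, 2, 0, 0, 0, 3, 0, 2, 2, 1, 1, 2, 1, 2, 2, 0, 0, 0, 3, 0, 2, 2, 1, 1, 2, 1, 2, 2, 0, 0, 0, 3, 0, 2, 2, 1, 1, 2, 1, 2, 2, 0, 0, 0, 3, 0, 2, 2, 1, 1, 2, 1, 2, 2, 0, 0, 0, 3, 0, 2, 2, 1, 1, 2, 1, 2, 2, 0, 0, 0, 3, 0] := by decide +kernel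

theorem word_64 : unpack (D.wlen 64) (D.wordP 64) = [3, 3, 1, 3, 3, 1, 2, 0, 0, 2, 2, 2, 0, 3, 3, 1, 3, 3, 1, 2, 0, 0, 2, 2, 2, 0, 3, 3, 1, 3, 3, 1, 2, 0, 0, 2, 2, 2, 0, 3, 3, 1, 3, 3, 1, 2, 0, 0, 2, 2, 2, 0, 3, 3, 1, 3, 3, 1, 2, 0, 0, 2, 2, 2, 0, 3, 3, 1, 3, 3, 1, 2, 0, 0, 2, 2, 2, 0, 3, 3, 1, 3, 3, 1, 2, 0, 0, 2, 2, 2, 0, 3, 3, 1, 3, 3, 1, 2, 0, 0, 2, 2, 2, 0, 3, 3, 1, 3, 3, 1, 2, 0, 0, 2, 2, 2, 0] := by decide +kernel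

theorem word_65 : unpack (D.wlen 65) (D.wordP 65) = [2, 2, 2, 0, 0, 2, 1, 3, 3, 1, 3, 3, 0, 2, 2, 2, 0, 0, 2, 1, 3, 3, 1, 3, 3, 0, 2, 2, 2, 0, 0, 2, 1, 3, 3, 1, 3, 3, 0, 2, 2, 2, 0, 0, 2, 1, 3, 3, 1, 3, 3, 0, 2, 2, 2, 0, 0, 2, 1, 3, 3, 1, 3, 3, 0, 2, 2, 2, 0, 0, 2, 1, 3, 3, 1, 3, 3, 0, 2, 2, 2, 0, 0, 2, 1, 3, 3, 1, 3, 3, 0, 2, 2, 2, 0, 0, 2, 1, 3, 3, 1, 3, 3, 0, 2, 2, 2, 0, 0, 2, 1, 3, 3, 1, 3, 3, 0] := by decide +kernel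

theorem word_66 : unpack (D.wlen 66) (D.wordP 66) = [0] := by decide +kernel

end Cfsg.Agent.Helper5.L34TTC
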