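import Cfsg.Agent.Helper5.L34TTCDatD
import Cfsg.Agent.Helper5.TCIB

/-! kernel checks of edges, aliases, rows: L34TTC -/

set_option autoImplicit false
set_option Elab.async false

namespace Cfsg.Agent.Helper5.L34TTC
open Cfsg.Agent.Helper5.TC Cfsg.Agent.Helper5.TCI

set_option maxRecDepth 1000000 in
theorem cnt_1 : cntFrom RS 20000 20000 0 = 1892 := by decide +kernel

set_option maxRecDepth 1000000 in
theorem cnt_3 : cntFrom RS 20000 60000 0 = 783 := by decide +kernel

set_option maxRecDepth 1000000 in
theorem cnt_5 : cntFrom RS 20000 100000 0 = 394 := by decide +kernel

set_option maxRecDepth 1000000 in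
theorem cnt_7 : cntFrom RS 20000 140000 0 = 124 := by decide +kernel

set_option maxRecDepth 1000000 in
theorem edges_0_59 : edgesRangeI iota E 0 3102 168526 = true := by decide +kernel

set_option maxRecDepth 1000000 in
theorem edges_3_4 : edgesRangeI iota E 3 2982 12164 = true := by decide +kernel

set_option maxRecDepth 1000000 in
theorem edges_3_2 : edgesRangeI iota E 3 3168 5744 = true := by decide +kernel

set_option maxRecDepth 1000000 in
theorem edges_1_41 : edgesRangeI iota E 1 2744 120355 = true := by decide +kernel

set_option maxRecDepth 1000000 in
theorem edges_0_25 : edgesRangeI iota E 0 2960 65313 = true := by decide +kernel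

set_option maxRecDepth 1000000 in
theorem edges_2_12 : edgesRangeI iota E 2 2471 30024 = true := by decide +kernel

set_option maxRecDepth 1000000 in
theorem edges_0_5 : edgesRangeI iota E 0 2254 11206 = true := by decide +kernel

set_option maxRecDepth 1000000 in
theorem edges_2_15 : edgesRangeI iota E 2 2597 37718 = true := by decide +kernel

set_option maxRecDepth 1000000 in
theorem edges_1_12 : edgesRangeI iota E 1 2743 31180 = true := by decide +kernel

set_option maxRecDepth 1000000 in
theorem edges_2_44 : edgesRangeI iota E 2 3270 123324 = true := by decide +kernel

set_option maxRecDepth 1000000 in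
theorem edges_0_20 : edgesRangeI iota E 0 2739 50011 = true := by decide +kernel

set_option maxRecDepth 1000000 in
theorem edges_2_53 : edgesRangeI iota E 2 3419 152506 = true := by decide +kernel

set_option maxRecDepth 1000000 in
theorem edges_0_36 : edgesRangeI iota E 0 2733 95827 = true := by decide +kernel

set_option maxRecDepth 1000000 in
theorem edges_1_1 : edgesRangeI iota E 1 2798 2598 = true := by decide +kernel

set_option maxRecDepth 1000000 in
theorem edges_1_19 : edgesRangeI iota E 1 2968 53259 = true := by decide +kernel

set_option maxRecDepth 1000000 in
theorem edges_2_22 : edgesRangeI iota E 2 2761 58059 = true := by decide +kernel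

set_option maxRecDepth 1000000 in
theorem edges_3_25 : edgesRangeI iota E 3 2914 79230 = true := by decide +kernel

set_option maxRecDepth 1000000 in
theorem edges_0_6 : edgesRangeI iota E 0 2179 13460 = true := by decide +kernel

set_option maxRecDepth 1000000 in
theorem edges_1_49 : edgesRangeI iota E 1 3225 145388 = true := by decide +kernel

set_option maxRecDepth 1000000 in
theorem edges_2_55 : edgesRangeI iota E 2 3623 159148 = true := by decide +kernel

set_option maxRecDepth 1000000 in
theorem edges_2_1 : edgesRangeI iota E 2 2319 2429 = true := by decide +kernel

set_option maxRecDepth 1000000 in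
theorem edges_3_41 : edgesRangeI iota E 3 3878 134474 = true := by decide +kernel

set_option maxRecDepth 1000000 in
theorem edges_0_48 : edgesRangeI iota E 0 2753 133200 = true := by decide +kernel

set_option maxRecDepth 1000000 in
theorem edges_0_10 : edgesRangeI iota E 0 2789 24030 = true := by decide +kernel

set_option maxRecDepth 1000000 in
theorem edges_0_49 : edgesRangeI iota E 0 2787 135953 = true := by decide +kernel

set_option maxRecDepth 1000000 in
theorem edges_1_9 : edgesRangeI iota E 1 2513 23693 = true := by decide +kernel

set_option maxRecDepth 1000000 in
theorem edges_1_54 : edgesRangeI iota E 1 2921 160897 = true := by decide +kernel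

set_option maxRecDepth 1000000 in
theorem edges_1_21 : edgesRangeI iota E 1 2626 59758 = true := by decide +kernel

set_option maxRecDepth 1000000 in
theorem edges_3_44 : edgesRangeI iota E 3 3547 145827 = true := by decide +kernel

set_option maxRecDepth 1000000 in
theorem edges_2_18 : edgesRangeI iota E 2 2903 46885 = true := by decide +kernel

set_option maxRecDepth 1000000 in
theorem edges_3_11 : edgesRangeI iota E 3 2959 32051 = true := by decide +kernel

set_option maxRecDepth 1000000 in
theorem edges_2_7 : edgesRangeI iota E 2 2858 16090 = true := by decide +kernel

set_option maxRecDepth 1000000 in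
theorem edges_2_59 : edgesRangeI iota E 2 821 173357 = true := by decide +kernel

set_option maxRecDepth 1000000 in
theorem edges_3_46 : edgesRangeI iota E 3 3589 153341 = true := by decide +kernel

set_option maxRecDepth 1000000 in
theorem edges_0_53 : edgesRangeI iota E 0 3489 148674 = true := by decide +kernel

set_option maxRecDepth 1000000 in
theorem edges_2_20 : edgesRangeI iota E 2 2680 52774 = true := by decide +kernel

set_option maxRecDepth 1000000 in
theorem edges_0_15 : edgesRangeI iota E 0 2452 36924 = true := by decide +kernel

set_option maxRecDepth 1000000 in
theorem edges_1_30 : edgesRangeI iota E 1 2929 86547 = true := by decide +kernel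

set_option maxRecDepth 1000000 in
theorem edges_0_60 : edgesRangeI iota E 0 2095 171628 = true := by decide +kernel

set_option maxRecDepth 1000000 in
theorem edges_1_56 : edgesRangeI iota E 1 3011 166600 = true := by decide +kernel

set_option maxRecDepth 1000000 in
theorem edges_2_52 : edgesRangeI iota E 2 3311 149195 = true := by decide +kernel

set_option maxRecDepth 1000000 in
theorem edges_0_9 : edgesRangeI iota E 0 2615 21415 = true := by decide +kernel

set_option maxRecDepth 1000000 in
theorem edges_1_43 : edgesRangeI iota E 1 2714 126175 = true := by decide +kernel

set_option maxRecDepth 1000000 in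
theorem edges_2_47 : edgesRangeI iota E 2 2795 133255 = true := by decide +kernel

set_option maxRecDepth 1000000 in
theorem edges_0_16 : edgesRangeI iota E 0 2614 39376 = true := by decide +kernel

set_option maxRecDepth 1000000 in
theorem edges_1_29 : edgesRangeI iota E 1 3365 83182 = true := by decide +kernel

set_option maxRecDepth 1000000 in
theorem edges_1_48 : edgesRangeI iota E 1 3637 141751 = true := by decide +kernel

set_option maxRecDepth 1000000 in
theorem edges_2_26 : edgesRangeI iota E 2 2883 68547 = true := by decide +kernel

set_option maxRecDepth 1000000 in
theorem edges_1_31 : edgesRangeI iota E 1 2854 89476 = true := by decide +kernel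

set_option maxRecDepth 1000000 in
theorem edges_1_7 : edgesRangeI iota E 1 2283 19087 = true := by decide +kernel

set_option maxRecDepth 1000000 in
theorem edges_1_23 : edgesRangeI iota E 1 3676 65375 = true := by decide +kernel

set_option maxRecDepth 1000000 in
theorem edges_1_42 : edgesRangeI iota E 1 3076 123099 = true := by decide +kernel

set_option maxRecDepth 1000000 in
theorem edges_2_17 : edgesRangeI iota E 2 3617 43268 = true := by decide +kernel

set_option maxRecDepth 1000000 in
theorem edges_0_23 : edgesRangeI iota E 0 3062 59325 = true := by decide +kernel

set_option maxRecDepth 1000000 in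
theorem edges_0_28 : edgesRangeI iota E 0 3254 73561 = true := by decide +kernel

set_option maxRecDepth 1000000 in
theorem edges_1_38 : edgesRangeI iota E 1 3397 110102 = true := by decide +kernel

set_option maxRecDepth 1000000 in
theorem edges_2_40 : edgesRangeI iota E 2 2921 110905 = true := by decide +kernel

set_option maxRecDepth 1000000 in
theorem edges_3_45 : edgesRangeI iota E 3 3967 149374 = true := by decide +kernel

set_option maxRecDepth 1000000 in
theorem edges_0_0 : edgesRangeI iota E 0 2448 0 = true := by decide +kernel

set_option maxRecDepth 1000000 in
theorem edges_0_30 : edgesRangeI iota E 0 3189 79115 = true := by decide +kernel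

set_option maxRecDepth 1000000 in
theorem edges_1_0 : edgesRangeI iota E 1 2598 0 = true := by decide +kernel

set_option maxRecDepth 1000000 in
theorem edges_2_32 : edgesRangeI iota E 2 3158 86262 = true := by decide +kernel

set_option maxRecDepth 1000000 in
theorem edges_3_13 : edgesRangeI iota E 3 3028 38164 = true := by decide +kernel

set_option maxRecDepth 1000000 in
theorem aliases_22 : aliasRange E 1995 45655 = true := by decide +kernel

set_option maxRecDepth 1000000 in
theorem aliases_36 : aliasRange E 1990 73233 = true := by decide +kernel

set_option maxRecDepth 1000000 in
theorem aliases_38 : aliasRange E 1974 77193 = true := by decide +kernel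

set_option maxRecDepth 1000000 in
theorem aliases_54 : aliasRange E 1956 108596 = true := by decide +kernel

set_option maxRecDepth 1000000 in
theorem aliases_57 : aliasRange E 1981 114587 = true := by decide +kernel

set_option maxRecDepth 1000000 in
theorem aliases_61 : aliasRange E 1923 122283 = true := by decide +kernel

set_option maxRecDepth 1000000 in
theorem aliases_70 : aliasRange E 1927 139659 = true := by decide +kernel

set_option maxRecDepth 1000000 in
theorem aliases_76 : aliasRange E 2149 151698 = true := by decide +kernel

set_option maxRecDepth 1000000 in
theorem aliases_80 : aliasRange E 1830 159852 = true := by decide +kernel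

set_option maxRecDepth 1000000 in
theorem edges_1_22 : edgesRangeI iota E 1 2991 62384 = true := by decide +kernel

set_option maxRecDepth 1000000 in
theorem edges_2_24 : edgesRangeI iota E 2 2729 63400 = true := by decide +kernel

set_option maxRecDepth 1000000 in
theorem edges_2_43 : edgesRangeI iota E 2 3196 120128 = true := by decide +kernel

set_option maxRecDepth 1000000 in
theorem aliases_6 : aliasRange E 2187 13060 = true := by decide +kernel

set_option maxRecDepth 1000000 in
theorem aliases_12 : aliasRange E 2059 25496 = true := by decide +kernel

set_option maxRecDepth 1000000 in
theorem aliases_21 : aliasRange E 2084 43571 = true := by decide +kernel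

set_option maxRecDepth 1000000 in
theorem aliases_31 : aliasRange E 1975 63594 = true := by decide +kernel

set_option maxRecDepth 1000000 in
theorem aliases_45 : aliasRange E 2009 90723 = true := by decide +kernel

set_option maxRecDepth 1000000 in
theorem aliases_51 : aliasRange E 1953 102750 = true := by decide +kernel

set_option maxRecDepth 1000000 in
theorem aliases_64 : aliasRange E 1856 127961 = true := by decide +kernel

set_option maxRecDepth 1000000 in
theorem aliases_73 : aliasRange E 2125 145645 = true := by decide +kernel

set_option maxRecDepth 1000000 in
theorem edges_0_37 : edgesRangeI iota E 0 3079 98560 = true := by decide +kernel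

set_option maxRecDepth 1000000 in
theorem edges_1_10 : edgesRangeI iota E 1 2469 26206 = true := by decide +kernel

set_option maxRecDepth 1000000 in
theorem edges_2_48 : edgesRangeI iota E 2 3280 136050 = true := by decide +kernel

set_option maxRecDepth 1000000 in
theorem edges_3_15 : edgesRangeI iota E 3 3320 44307 = true := by decide +kernel

set_option maxRecDepth 1000000 in
theorem aliases_1 : aliasRange E 2162 2411 = true := by decide +kernel

set_option maxRecDepth 1000000 in
theorem aliases_7 : aliasRange E 2022 15247 = true := by decide +kernel

set_option maxRecDepth 1000000 in
theorem aliases_13 : aliasRange E 1987 27555 = true := by decide +kernel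

set_option maxRecDepth 1000000 in
theorem aliases_23 : aliasRange E 1970 47650 = true := by decide +kernel

set_option maxRecDepth 1000000 in
theorem aliases_29 : aliasRange E 1861 59752 = true := by decide +kernel

set_option maxRecDepth 1000000 in
theorem aliases_48 : aliasRange E 2014 96708 = true := by decide +kernel

set_option maxRecDepth 1000000 in
theorem aliases_65 : aliasRange E 1886 129817 = true := by decide +kernel

set_option maxRecDepth 1000000 in
theorem aliases_75 : aliasRange E 1929 149769 = true := by decide +kernel

set_option maxRecDepth 1000000 in
theorem aliases_79 : aliasRange E 2129 157723 = true := by decide +kernel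

set_option maxRecDepth 1000000 in
theorem aliases_83 : aliasRange E 2024 165517 = true := by decide +kernel

set_option maxRecDepth 1000000 in
theorem edges_2_0 : edgesRangeI iota E 2 2429 0 = true := by decide +kernel

set_option maxRecDepth 1000000 in
theorem edges_2_19 : edgesRangeI iota E 2 2986 49788 = true := by decide +kernel

set_option maxRecDepth 1000000 in
theorem edges_2_56 : edgesRangeI iota E 2 3018 162771 = true := by decide +kernel

set_option maxRecDepth 1000000 in
theorem edges_3_10 : edgesRangeI iota E 3 2778 29273 = true := by decide +kernel

set_option maxRecDepth 1000000 in
theorem edges_3_21 : edgesRangeI iota E 3 3584 65183 = true := by decide +kernel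

set_option maxRecDepth 1000000 in
theorem edges_3_43 : edgesRangeI iota E 3 3428 142399 = true := by decide +kernel

set_option maxRecDepth 1000000 in
theorem aliases_10 : aliasRange E 2153 21326 = true := by decide +kernel

set_option maxRecDepth 1000000 in
theorem aliases_30 : aliasRange E 1981 61613 = true := by decide +kernel

set_option maxRecDepth 1000000 in
theorem aliases_39 : aliasRange E 1994 79167 = true := by decide +kernel

set_option maxRecDepth 1000000 in
theorem aliases_44 : aliasRange E 1914 88809 = true := by decide +kernel

set_option maxRecDepth 1000000 in
theorem aliases_50 : aliasRange E 1975 100775 = true := by decide +kernel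

set_option maxRecDepth 1000000 in
theorem aliases_60 : aliasRange E 1995 120288 = true := by decide +kernel

set_option maxRecDepth 1000000 in
theorem aliases_63 : aliasRange E 1828 126133 = true := by decide +kernel

set_option maxRecDepth 1000000 in
theorem aliases_84 : aliasRange E 1903 167541 = true := by decide +kernel

set_option maxRecDepth 1000000 in
theorem edges_0_4 : edgesRangeI iota E 0 2170 9036 = true := by decide +kernel

set_option maxRecDepth 1000000 in
theorem edges_0_8 : edgesRangeI iota E 0 2583 18832 = true := by decide +kernel

set_option maxRecDepth 1000000 in
theorem edges_0_13 : edgesRangeI iota E 0 2332 32087 = true := by decide +kernel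

set_option maxRecDepth 1000000 in
theorem edges_0_18 : edgesRangeI iota E 0 2775 44669 = true := by decide +kernel

set_option maxRecDepth 1000000 in
theorem edges_0_21 : edgesRangeI iota E 0 3396 52750 = true := by decide +kernel

set_option maxRecDepth 1000000 in
theorem edges_0_29 : edgesRangeI iota E 0 2300 76815 = true := by decide +kernel

set_option maxRecDepth 1000000 in
theorem edges_0_33 : edgesRangeI iota E 0 2855 87282 = true := by decide +kernel

set_option maxRecDepth 1000000 in
theorem edges_0_38 : edgesRangeI iota E 0 2935 101639 = true := by decide +kernel

set_option maxRecDepth 1000000 in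
theorem edges_0_44 : edgesRangeI iota E 0 3140 119919 = true := by decide +kernel

set_option maxRecDepth 1000000 in
theorem edges_0_47 : edgesRangeI iota E 0 3138 130062 = true := by decide +kernel

set_option maxRecDepth 1000000 in
theorem edges_0_52 : edgesRangeI iota E 0 3397 145277 = true := by decide +kernel

set_option maxRecDepth 1000000 in
theorem edges_1_2 : edgesRangeI iota E 1 2787 5396 = true := by decide +kernel

set_option maxRecDepth 1000000 in
theorem edges_1_4 : edgesRangeI iota E 1 2549 11059 = true := by decide +kernel

set_option maxRecDepth 1000000 in
theorem edges_1_8 : edgesRangeI iota E 1 2323 21370 = true := by decide +kernel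

set_option maxRecDepth 1000000 in
theorem edges_1_13 : edgesRangeI iota E 1 3076 33923 = true := by decide +kernel

set_option maxRecDepth 1000000 in
theorem edges_1_18 : edgesRangeI iota E 1 3284 49975 = true := by decide +kernel

set_option maxRecDepth 1000000 in
theorem edges_1_26 : edgesRangeI iota E 1 3085 74292 = true := by decide +kernel

set_option maxRecDepth 1000000 in
theorem edges_1_28 : edgesRangeI iota E 1 2731 80451 = true := by decide +kernel

set_option maxRecDepth 1000000 in
theorem edges_1_33 : edgesRangeI iota E 1 3383 95020 = true := by decide +kernel

set_option maxRecDepth 1000000 in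
theorem edges_1_39 : edgesRangeI iota E 1 3740 113499 = true := by decide +kernel

set_option maxRecDepth 1000000 in
theorem edges_1_57 : edgesRangeI iota E 1 3776 169611 = true := by decide +kernel

set_option maxRecDepth 1000000 in
theorem edges_2_10 : edgesRangeI iota E 2 2759 24343 = true := by decide +kernel

set_option maxRecDepth 1000000 in
theorem edges_2_14 : edgesRangeI iota E 2 2520 35198 = true := by decide +kernel

set_option maxRecDepth 1000000 in
theorem edges_2_21 : edgesRangeI iota E 2 2605 55454 = true := by decide +kernel

set_option maxRecDepth 1000000 in
theorem edges_2_27 : edgesRangeI iota E 2 2698 71430 = true := by decide +kernel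

set_option maxRecDepth 1000000 in
theorem edges_2_29 : edgesRangeI iota E 2 3296 77090 = true := by decide +kernel

set_option maxRecDepth 1000000 in
theorem edges_2_31 : edgesRangeI iota E 2 3138 83124 = true := by decide +kernel

set_option maxRecDepth 1000000 in
theorem edges_2_35 : edgesRangeI iota E 2 3290 95614 = true := by decide +kernel

set_option maxRecDepth 1000000 in
theorem edges_2_45 : edgesRangeI iota E 2 3511 126594 = true := by decide +kernel

set_option maxRecDepth 1000000 in
theorem edges_2_51 : edgesRangeI iota E 2 3696 145499 = true := by decide +kernel

set_option maxRecDepth 1000000 in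
theorem edges_2_58 : edgesRangeI iota E 2 3941 169416 = true := by decide +kernel

set_option maxRecDepth 1000000 in
theorem edges_3_6 : edgesRangeI iota E 3 2562 18278 = true := by decide +kernel

set_option maxRecDepth 1000000 in
theorem edges_3_8 : edgesRangeI iota E 3 2610 23591 = true := by decide +kernel

set_option maxRecDepth 1000000 in
theorem edges_3_14 : edgesRangeI iota E 3 3115 41192 = true := by decide +kernel

set_option maxRecDepth 1000000 in
theorem edges_3_17 : edgesRangeI iota E 3 3554 50953 = true := by decide +kernel

set_option maxRecDepth 1000000 in
theorem edges_3_22 : edgesRangeI iota E 3 3637 68767 = true := by decide +kernel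

set_option maxRecDepth 1000000 in
theorem edges_3_27 : edgesRangeI iota E 3 3299 85569 = true := by decide +kernel

set_option maxRecDepth 1000000 in
theorem edges_3_30 : edgesRangeI iota E 3 3520 96429 = true := by decide +kernel

set_option maxRecDepth 1000000 in
theorem edges_3_39 : edgesRangeI iota E 3 3415 127273 = true := by decide +kernel

set_option maxRecDepth 1000000 in
theorem edges_3_42 : edgesRangeI iota E 3 4047 138352 = true := by decide +kernel

set_option maxRecDepth 1000000 in
theorem edges_3_48 : edgesRangeI iota E 3 3055 160453 = true := by decide +kernel

set_option maxRecDepth 1000000 in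
theorem aliases_11 : aliasRange E 2017 23479 = true := by decide +kernel

set_option maxRecDepth 1000000 in
theorem aliases_18 : aliasRange E 2046 37528 = true := by decide +kernel

set_option maxRecDepth 1000000 in
theorem aliases_24 : aliasRange E 2006 49620 = true := by decide +kernel

set_option maxRecDepth 1000000 in
theorem aliases_32 : aliasRange E 1991 65569 = true := by decide +kernel

set_option maxRecDepth 1000000 in
theorem aliases_41 : aliasRange E 1901 83091 = true := by decide +kernel

set_option maxRecDepth 1000000 in
theorem aliases_52 : aliasRange E 2002 104703 = true := by decide +kernel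

set_option maxRecDepth 1000000 in
theorem aliases_74 : aliasRange E 1999 147770 = true := by decide +kernel

set_option maxRecDepth 1000000 in
theorem aliases_86 : aliasRange E 2755 171534 = true := by decide +kernel

set_option maxRecDepth 1000000 in
theorem cnt_8 : cntFrom RS 14289 160000 0 = 1051 := by decide +kernel

set_option maxRecDepth 1000000 in
theorem rows_1 : rowsRange E RS 1500 1500 = true := by decide +kernel

set_option maxRecDepth 1000000 in
theorem rows_3 : rowsRange E RS 1500 4500 = true := by decide +kernel

set_option maxRecDepth 1000000 in
theorem rows_5 : rowsRange E RS 1500 7500 = true := by decide +kernel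

set_option maxRecDepth 1000000 in
theorem rows_7 : rowsRange E RS 1500 10500 = true := by decide +kernel

set_option maxRecDepth 1000000 in
theorem rows_9 : rowsRange E RS 1500 13500 = true := by decide +kernel

set_option maxRecDepth 1000000 in
theorem rows_11 : rowsRange E RS 1500 16500 = true := by decide +kernel

set_option maxRecDepth 1000000 in
theorem rows_13 : rowsRange E RS 1500 19500 = true := by decide +kernel

set_option maxRecDepth 1000000 in
theorem rows_15 : rowsRange E RS 1500 22500 = true := by decide +kernel

set_option maxRecDepth 1000000 in
theorem rows_17 : rowsRange E RS 1500 25500 = true := by decide +kernel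

set_option maxRecDepth 1000000 in
theorem rows_19 : rowsRange E RS 1500 28500 = true := by decide +kernel

set_option maxRecDepth 1000000 in
theorem rows_21 : rowsRange E RS 1500 31500 = true := by decide +kernel

set_option maxRecDepth 1000000 in
theorem rows_23 : rowsRange E RS 1500 34500 = true := by decide +kernel

set_option maxRecDepth 1000000 in
theorem rows_25 : rowsRange E RS 1500 37500 = true := by decide +kernel

set_option maxRecDepth 1000000 in
theorem rows_27 : rowsRange E RS 1500 40500 = true := by decide +kernel

set_option maxRecDepth 1000000 in
theorem rows_29 : rowsRange E RS 1500 43500 = true := by decide +kernel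

set_option maxRecDepth 1000000 in
theorem rows_31 : rowsRange E RS 1500 46500 = true := by decide +kernel

set_option maxRecDepth 1000000 in
theorem rows_33 : rowsRange E RS 1500 49500 = true := by decide +kernel

set_option maxRecDepth 1000000 in
theorem rows_35 : rowsRange E RS 1500 52500 = true := by decide +kernel

set_option maxRecDepth 1000000 in
theorem rows_37 : rowsRange E RS 1500 55500 = true := by decide +kernel

set_option maxRecDepth 1000000 in
theorem rows_39 : rowsRange E RS 1500 58500 = true := by decide +kernel

set_option maxRecDepth 1000000 in
theorem rows_41 : rowsRange E RS 1500 61500 = true := by decide +kernel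

set_option maxRecDepth 1000000 in
theorem rows_43 : rowsRange E RS 1500 64500 = true := by decide +kernel

set_option maxRecDepth 1000000 in
theorem rows_45 : rowsRange E RS 1500 67500 = true := by decide +kernel

set_option maxRecDepth 1000000 in
theorem rows_47 : rowsRange E RS 1500 70500 = true := by decide +kernel

set_option maxRecDepth 1000000 in
theorem rows_49 : rowsRange E RS 1500 73500 = true := by decide +kernel

set_option maxRecDepth 1000000 in
theorem rows_51 : rowsRange E RS 1500 76500 = true := by decide +kernel

set_option maxRecDepth 1000000 in
theorem rows_53 : rowsRange E RS 1500 79500 = true := by decide +kernel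

set_option maxRecDepth 1000000 in
theorem rows_55 : rowsRange E RS 1500 82500 = true := by decide +kernel

set_option maxRecDepth 1000000 in
theorem rows_57 : rowsRange E RS 1500 85500 = true := by decide +kernel

set_option maxRecDepth 1000000 in
theorem rows_59 : rowsRange E RS 1500 88500 = true := by decide +kernel

set_option maxRecDepth 1000000 in
theorem rows_61 : rowsRange E RS 1500 91500 = true := by decide +kernel

set_option maxRecDepth 1000000 in
theorem rows_63 : rowsRange E RS 1500 94500 = true := by decide +kernel

set_option maxRecDepth 1000000 in
theorem rows_65 : rowsRange E RS 1500 97500 = true := by decide +kernel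

set_option maxRecDepth 1000000 in
theorem rows_67 : rowsRange E RS 1500 100500 = true := by decide +kernel

set_option maxRecDepth 1000000 in
theorem rows_69 : rowsRange E RS 1500 103500 = true := by decide +kernel

set_option maxRecDepth 1000000 in
theorem rows_71 : rowsRange E RS 1500 106500 = true := by decide +kernel

set_option maxRecDepth 1000000 in
theorem rows_73 : rowsRange E RS 1500 109500 = true := by decide +kernel

set_option maxRecDepth 1000000 in
theorem rows_75 : rowsRange E RS 1500 112500 = true := by decide +kernel

set_option maxRecDepth 1000000 in
theorem rows_77 : rowsRange E RS 1500 115500 = true := by decide +kernel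

set_option maxRecDepth 1000000 in
theorem rows_79 : rowsRange E RS 1500 118500 = true := by decide +kernel

set_option maxRecDepth 1000000 in
theorem rows_81 : rowsRange E RS 1500 121500 = true := by decide +kernel

set_option maxRecDepth 1000000 in
theorem rows_83 : rowsRange E RS 1500 124500 = true := by decide +kernel

set_option maxRecDepth 1000000 in
theorem rows_85 : rowsRange E RS 1500 127500 = true := by decide +kernel

set_option maxRecDepth 1000000 in
theorem rows_87 : rowsRange E RS 1500 130500 = true := by decide +kernel

set_option maxRecDepth 1000000 in
theorem rows_89 : rowsRange E RS 1500 133500 = true := by decide +kernel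

set_option maxRecDepth 1000000 in
theorem rows_91 : rowsRange E RS 1500 136500 = true := by decide +kernel

set_option maxRecDepth 1000000 in
theorem rows_93 : rowsRange E RS 1500 139500 = true := by decide +kernel

set_option maxRecDepth 1000000 in
theorem rows_95 : rowsRange E RS 1500 142500 = true := by decide +kernel

set_option maxRecDepth 1000000 in
theorem rows_97 : rowsRange E RS 1500 145500 = true := by decide +kernel

set_option maxRecDepth 1000000 in
theorem rows_99 : rowsRange E RS 1500 148500 = true := by decide +kernel

set_option maxRecDepth 1000000 in
theorem rows_101 : rowsRange E RS 1500 151500 = true := by decide +kernel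

set_option maxRecDepth 1000000 in
theorem rows_103 : rowsRange E RS 1500 154500 = true := by decide +kernel

set_option maxRecDepth 1000000 in
theorem rows_105 : rowsRange E RS 1500 157500 = true := by decide +kernel

set_option maxRecDepth 1000000 in
theorem rows_107 : rowsRange E RS 1500 160500 = true := by decide +kernel

set_option maxRecDepth 1000000 in
theorem rows_109 : rowsRange E RS 1500 163500 = true := by decide +kernel

set_option maxRecDepth 1000000 in
theorem rows_111 : rowsRange E RS 1500 166500 = true := by decide +kernel

set_option maxRecDepth 1000000 in
theorem rows_113 : rowsRange E RS 1500 169500 = true := by decide +kernel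

set_option maxRecDepth 1000000 in
theorem rows_115 : rowsRange E RS 1500 172500 = true := by decide +kernel

set_option maxRecDepth 1000000 in
theorem edges_2_60 : edgesRangeI iota E 2 111 174178 = true := by decide +kernel

set_option maxRecDepth 1000000 in
theorem rows_116 : rowsRange E RS 289 174000 = true := by decide +kernel

set_option maxRecDepth 1000000 in
theorem edges_3_53 : edgesRangeI iota E 3 27 174262 = true := by decide +kernel

end Cfsg.Agent.Helper5.L34TTC
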