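import Cfsg.Agent.Helper5.L34TTCDatD
import Cfsg.Agent.Helper5.L34TTCDatT
import Cfsg.Agent.Helper5.TCIB

/-! kernel checks of the coset table: L34TTC -/

set_option autoImplicit false
set_option Elab.async false

namespace Cfsg.Agent.Helper5.L34TTC
open Cfsg.Agent.Helper5.TC Cfsg.Agent.Helper5.TCI

set_option maxRecDepth 1000000 in
theorem relc_14_0 : fixPtsF W_14 7692 0 = true := by decide +kernel

set_option maxRecDepth 1000000 in
theorem relc_18_0 : fixPtsF W_18 7692 0 = true := by decide +kernel

set_option maxRecDepth 1000000 in
theorem relc_22_0 : fixPtsF W_22 7142 0 = true := by decide +kernel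

set_option maxRecDepth 1000000 in
theorem relc_26_0 : fixPtsF W_26 7142 0 = true := by decide +kernel

set_option maxRecDepth 1000000 in
theorem relc_30_0 : fixPtsF W_30 7142 0 = true := by decide +kernel

set_option maxRecDepth 1000000 in
theorem relc_34_0 : fixPtsF W_34 7142 0 = true := by decide +kernel

set_option maxRecDepth 1000000 in
theorem relc_38_0 : fixPtsF W_38 6666 0 = true := by decide +kernel

set_option maxRecDepth 1000000 in
theorem relc_42_0 : fixPtsF W_42 6666 0 = true := by decide +kernel

set_option maxRecDepth 1000000 in
theorem relc_46_0 : fixPtsF W_46 6250 0 = true := by decide +kernel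

set_option maxRecDepth 1000000 in
theorem relc_50_0 : fixPtsF W_50 6250 0 = true := by decide +kernel

set_option maxRecDepth 1000000 in
theorem relc_10_0 : fixPtsF W_10 8640 0 = true := by decide +kernel

set_option maxRecDepth 1000000 in
theorem relc_54_0 : fixPtsF W_54 2469 0 = true := by decide +kernel

set_option maxRecDepth 1000000 in
theorem relc_55_1 : fixPtsF W_55 2469 2469 = true := by decide +kernel

set_option maxRecDepth 1000000 in
theorem relc_57_1 : fixPtsF W_57 2222 2222 = true := by decide +kernel

set_option maxRecDepth 1000000 in
theorem relc_58_2 : fixPtsF W_58 1851 3702 = true := by decide +kernel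

set_option maxRecDepth 1000000 in
theorem relc_59_2 : fixPtsF W_59 1851 3702 = true := by decide +kernel

set_option maxRecDepth 1000000 in
theorem relc_60_2 : fixPtsF W_60 1851 3702 = true := by decide +kernel

set_option maxRecDepth 1000000 in
theorem relc_61_2 : fixPtsF W_61 1851 3702 = true := by decide +kernel

set_option maxRecDepth 1000000 in
theorem relc_62_2 : fixPtsF W_62 1709 3418 = true := by decide +kernel

set_option maxRecDepth 1000000 in
theorem relc_63_1 : fixPtsF W_63 1709 1709 = true := by decide +kernel

set_option maxRecDepth 1000000 in
theorem relc_64_0 : fixPtsF W_64 1709 0 = true := by decide +kernel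

set_option maxRecDepth 1000000 in
theorem relc_64_4 : fixPtsF W_64 1709 6836 = true := by decide +kernel

set_option maxRecDepth 1000000 in
theorem relc_65_3 : fixPtsF W_65 1709 5127 = true := by decide +kernel

set_option maxRecDepth 1000000 in
theorem relc_8_0 : fixPtsF W_8 8640 0 = true := by decide +kernel

set_option maxRecDepth 1000000 in
theorem relc_58_4 : fixPtsF W_58 1236 7404 = true := by decide +kernel

set_option maxRecDepth 1000000 in
theorem relc_60_4 : fixPtsF W_60 1236 7404 = true := by decide +kernel

set_option maxRecDepth 1000000 in
theorem relc_2_0 : fixPtsF W_2 8640 0 = true := by decide +kernel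

set_option maxRecDepth 1000000 in
theorem relc_48_1 : fixPtsF W_48 2390 6250 = true := by decide +kernel

set_option maxRecDepth 1000000 in
theorem relc_52_1 : fixPtsF W_52 2390 6250 = true := by decide +kernel

set_option maxRecDepth 1000000 in
theorem relc_42_1 : fixPtsF W_42 1974 6666 = true := by decide +kernel

set_option maxRecDepth 1000000 in
theorem relc_22_1 : fixPtsF W_22 1498 7142 = true := by decide +kernel

set_option maxRecDepth 1000000 in
theorem relc_24_1 : fixPtsF W_24 1498 7142 = true := by decide +kernel

set_option maxRecDepth 1000000 in
theorem relc_28_1 : fixPtsF W_28 1498 7142 = true := by decide +kernel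

set_option maxRecDepth 1000000 in
theorem relc_32_1 : fixPtsF W_32 1498 7142 = true := by decide +kernel

set_option maxRecDepth 1000000 in
theorem relc_36_1 : fixPtsF W_36 1498 7142 = true := by decide +kernel

set_option maxRecDepth 1000000 in
theorem relc_3_0 : fixPtsF W_3 8640 0 = true := by decide +kernel

set_option maxRecDepth 1000000 in
theorem relc_18_1 : fixPtsF W_18 948 7692 = true := by decide +kernel

set_option maxRecDepth 1000000 in
theorem inv_0_0 : invRowFI ctF 8640 0 1 8640 0 = true := by decide +kernel

set_option maxRecDepth 1000000 in
theorem conn_0 : connF ctF 4 8640 0 = true := by decide +kernel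

set_option maxRecDepth 1000000 in
theorem relc_64_5 : fixPtsF W_64 95 8545 = true := by decide +kernel

end Cfsg.Agent.Helper5.L34TTC
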