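import Cfsg.Agent.Helper5.L34TTCDatD
import Cfsg.Agent.Helper5.L34TTCDatT
import Cfsg.Agent.Helper5.TCIB

/-! kernel checks of the coset table: L34TTC -/

set_option autoImplicit false
set_option Elab.async false

namespace Cfsg.Agent.Helper5.L34TTC
open Cfsg.Agent.Helper5.TC Cfsg.Agent.Helper5.TCI

set_option maxRecDepth 1000000 in
theorem relc_15_0 : fixPtsF W_15 7692 0 = true := by decide +kernel

set_option maxRecDepth 1000000 in
theorem relc_19_0 : fixPtsF W_19 7692 0 = true := by decide +kernel

set_option maxRecDepth 1000000 in
theorem relc_23_0 : fixPtsF W_23 7142 0 = true := by decide +kernel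

set_option maxRecDepth 1000000 in
theorem relc_27_0 : fixPtsF W_27 7142 0 = true := by decide +kernel

set_option maxRecDepth 1000000 in
theorem relc_31_0 : fixPtsF W_31 7142 0 = true := by decide +kernel

set_option maxRecDepth 1000000 in
theorem relc_35_0 : fixPtsF W_35 7142 0 = true := by decide +kernel

set_option maxRecDepth 1000000 in
theorem relc_39_0 : fixPtsF W_39 6666 0 = true := by decide +kernel

set_option maxRecDepth 1000000 in
theorem relc_43_0 : fixPtsF W_43 6666 0 = true := by decide +kernel

set_option maxRecDepth 1000000 in
theorem relc_47_0 : fixPtsF W_47 6250 0 = true := by decide +kernel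

set_option maxRecDepth 1000000 in
theorem relc_51_0 : fixPtsF W_51 6250 0 = true := by decide +kernel

set_option maxRecDepth 1000000 in
theorem relc_11_0 : fixPtsF W_11 8640 0 = true := by decide +kernel

set_option maxRecDepth 1000000 in
theorem relc_54_1 : fixPtsF W_54 2469 2469 = true := by decide +kernel

set_option maxRecDepth 1000000 in
theorem relc_55_2 : fixPtsF W_55 2469 4938 = true := by decide +kernel

set_option maxRecDepth 1000000 in
theorem relc_57_2 : fixPtsF W_57 2222 4444 = true := by decide +kernel

set_option maxRecDepth 1000000 in
theorem relc_58_3 : fixPtsF W_58 1851 5553 = true := by decide +kernel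

set_option maxRecDepth 1000000 in
theorem relc_59_3 : fixPtsF W_59 1851 5553 = true := by decide +kernel

set_option maxRecDepth 1000000 in
theorem relc_60_3 : fixPtsF W_60 1851 5553 = true := by decide +kernel

set_option maxRecDepth 1000000 in
theorem relc_61_3 : fixPtsF W_61 1851 5553 = true := by decide +kernel

set_option maxRecDepth 1000000 in
theorem relc_62_3 : fixPtsF W_62 1709 5127 = true := by decide +kernel

set_option maxRecDepth 1000000 in
theorem relc_63_2 : fixPtsF W_63 1709 3418 = true := by decide +kernel

set_option maxRecDepth 1000000 in
theorem relc_64_1 : fixPtsF W_64 1709 1709 = true := by decide +kernel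

set_option maxRecDepth 1000000 in
theorem relc_65_0 : fixPtsF W_65 1709 0 = true := by decide +kernel

set_option maxRecDepth 1000000 in
theorem relc_65_4 : fixPtsF W_65 1709 6836 = true := by decide +kernel

set_option maxRecDepth 1000000 in
theorem relc_9_0 : fixPtsF W_9 8640 0 = true := by decide +kernel

set_option maxRecDepth 1000000 in
theorem relc_59_4 : fixPtsF W_59 1236 7404 = true := by decide +kernel

set_option maxRecDepth 1000000 in
theorem relc_61_4 : fixPtsF W_61 1236 7404 = true := by decide +kernel

set_option maxRecDepth 1000000 in
theorem relc_5_0 : fixPtsF W_5 8640 0 = true := by decide +kernel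

set_option maxRecDepth 1000000 in
theorem relc_49_1 : fixPtsF W_49 2390 6250 = true := by decide +kernel

set_option maxRecDepth 1000000 in
theorem relc_53_1 : fixPtsF W_53 2390 6250 = true := by decide +kernel

set_option maxRecDepth 1000000 in
theorem relc_43_1 : fixPtsF W_43 1974 6666 = true := by decide +kernel

set_option maxRecDepth 1000000 in
theorem relc_23_1 : fixPtsF W_23 1498 7142 = true := by decide +kernel

set_option maxRecDepth 1000000 in
theorem relc_25_1 : fixPtsF W_25 1498 7142 = true := by decide +kernel

set_option maxRecDepth 1000000 in
theorem relc_29_1 : fixPtsF W_29 1498 7142 = true := by decide +kernel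

set_option maxRecDepth 1000000 in
theorem relc_33_1 : fixPtsF W_33 1498 7142 = true := by decide +kernel

set_option maxRecDepth 1000000 in
theorem relc_37_1 : fixPtsF W_37 1498 7142 = true := by decide +kernel

set_option maxRecDepth 1000000 in
theorem relc_4_0 : fixPtsF W_4 8640 0 = true := by decide +kernel

set_option maxRecDepth 1000000 in
theorem relc_19_1 : fixPtsF W_19 948 7692 = true := by decide +kernel

set_option maxRecDepth 1000000 in
theorem inv_1_0 : invRowFI ctF 8640 1 0 8640 0 = true := by decide +kernel

set_option maxRecDepth 1000000 in
theorem relc_62_5 : fixPtsF W_62 95 8545 = true := by decide +kernel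

set_option maxRecDepth 1000000 in
theorem relc_63_5 : fixPtsF W_63 95 8545 = true := by decide +kernel

end Cfsg.Agent.Helper5.L34TTC
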