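import Cfsg.Agent.Helper5.L34TTCDatD
import Cfsg.Agent.Helper5.L34TTCDatT
import Cfsg.Agent.Helper5.TCIB

/-! kernel checks of the coset table: L34TTC -/

set_option autoImplicit false
set_option Elab.async false

namespace Cfsg.Agent.Helper5.L34TTC
open Cfsg.Agent.Helper5.TC Cfsg.Agent.Helper5.TCI

set_option maxRecDepth 1000000 in
theorem relc_16_0 : fixPtsF W_16 7692 0 = true := by decide +kernel

set_option maxRecDepth 1000000 in
theorem relc_20_0 : fixPtsF W_20 7692 0 = true := by decide +kernel

set_option maxRecDepth 1000000 in
theorem relc_24_0 : fixPtsF W_24 7142 0 = true := by decide +kernel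

set_option maxRecDepth 1000000 in
theorem relc_28_0 : fixPtsF W_28 7142 0 = true := by decide +kernel

set_option maxRecDepth 1000000 in
theorem relc_32_0 : fixPtsF W_32 7142 0 = true := by decide +kernel

set_option maxRecDepth 1000000 in
theorem relc_36_0 : fixPtsF W_36 7142 0 = true := by decide +kernel

set_option maxRecDepth 1000000 in
theorem relc_40_0 : fixPtsF W_40 6666 0 = true := by decide +kernel

set_option maxRecDepth 1000000 in
theorem relc_44_0 : fixPtsF W_44 6666 0 = true := by decide +kernel

set_option maxRecDepth 1000000 in
theorem relc_48_0 : fixPtsF W_48 6250 0 = true := by decide +kernel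

set_option maxRecDepth 1000000 in
theorem relc_52_0 : fixPtsF W_52 6250 0 = true := by decide +kernel

set_option maxRecDepth 1000000 in
theorem relc_12_0 : fixPtsF W_12 8640 0 = true := by decide +kernel

set_option maxRecDepth 1000000 in
theorem relc_54_2 : fixPtsF W_54 2469 4938 = true := by decide +kernel

set_option maxRecDepth 1000000 in
theorem relc_56_0 : fixPtsF W_56 2222 0 = true := by decide +kernel

set_option maxRecDepth 1000000 in
theorem relc_56_2 : fixPtsF W_56 2222 4444 = true := by decide +kernel

set_option maxRecDepth 1000000 in
theorem relc_58_0 : fixPtsF W_58 1851 0 = true := by decide +kernel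

set_option maxRecDepth 1000000 in
theorem relc_59_0 : fixPtsF W_59 1851 0 = true := by decide +kernel

set_option maxRecDepth 1000000 in
theorem relc_60_0 : fixPtsF W_60 1851 0 = true := by decide +kernel

set_option maxRecDepth 1000000 in
theorem relc_61_0 : fixPtsF W_61 1851 0 = true := by decide +kernel

set_option maxRecDepth 1000000 in
theorem relc_62_0 : fixPtsF W_62 1709 0 = true := by decide +kernel

set_option maxRecDepth 1000000 in
theorem relc_62_4 : fixPtsF W_62 1709 6836 = true := by decide +kernel

set_option maxRecDepth 1000000 in
theorem relc_63_3 : fixPtsF W_63 1709 5127 = true := by decide +kernel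

set_option maxRecDepth 1000000 in
theorem relc_64_2 : fixPtsF W_64 1709 3418 = true := by decide +kernel

set_option maxRecDepth 1000000 in
theorem relc_65_1 : fixPtsF W_65 1709 1709 = true := by decide +kernel

set_option maxRecDepth 1000000 in
theorem relc_6_0 : fixPtsF W_6 8640 0 = true := by decide +kernel

set_option maxRecDepth 1000000 in
theorem relc_56_3 : fixPtsF W_56 1974 6666 = true := by decide +kernel

set_option maxRecDepth 1000000 in
theorem relc_54_3 : fixPtsF W_54 1233 7407 = true := by decide +kernel

set_option maxRecDepth 1000000 in
theorem relc_46_1 : fixPtsF W_46 2390 6250 = true := by decide +kernel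

set_option maxRecDepth 1000000 in
theorem relc_50_1 : fixPtsF W_50 2390 6250 = true := by decide +kernel

set_option maxRecDepth 1000000 in
theorem relc_38_1 : fixPtsF W_38 1974 6666 = true := by decide +kernel

set_option maxRecDepth 1000000 in
theorem relc_40_1 : fixPtsF W_40 1974 6666 = true := by decide +kernel

set_option maxRecDepth 1000000 in
theorem relc_44_1 : fixPtsF W_44 1974 6666 = true := by decide +kernel

set_option maxRecDepth 1000000 in
theorem relc_26_1 : fixPtsF W_26 1498 7142 = true := by decide +kernel

set_option maxRecDepth 1000000 in
theorem relc_30_1 : fixPtsF W_30 1498 7142 = true := by decide +kernel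

set_option maxRecDepth 1000000 in
theorem relc_34_1 : fixPtsF W_34 1498 7142 = true := by decide +kernel

set_option maxRecDepth 1000000 in
theorem relc_0_0 : fixPtsF W_0 8640 0 = true := by decide +kernel

set_option maxRecDepth 1000000 in
theorem relc_14_1 : fixPtsF W_14 948 7692 = true := by decide +kernel

set_option maxRecDepth 1000000 in
theorem relc_16_1 : fixPtsF W_16 948 7692 = true := by decide +kernel

set_option maxRecDepth 1000000 in
theorem relc_20_1 : fixPtsF W_20 948 7692 = true := by decide +kernel

set_option maxRecDepth 1000000 in
theorem inv_2_0 : invRowFI ctF 8640 2 3 8640 0 = true := by decide +kernel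

set_option maxRecDepth 1000000 in
theorem relc_65_5 : fixPtsF W_65 95 8545 = true := by decide +kernel

end Cfsg.Agent.Helper5.L34TTC
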