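import Cfsg.Agent.Helper5.L34TTCDatD
import Cfsg.Agent.Helper5.L34TTCDatT
import Cfsg.Agent.Helper5.TCIB

/-! kernel checks of the coset table: L34TTC -/

set_option autoImplicit false
set_option Elab.async false

namespace Cfsg.Agent.Helper5.L34TTC
open Cfsg.Agent.Helper5.TC Cfsg.Agent.Helper5.TCI

set_option maxRecDepth 1000000 in
theorem relc_17_0 : fixPtsF W_17 7692 0 = true := by decide +kernel

set_option maxRecDepth 1000000 in
theorem relc_21_0 : fixPtsF W_21 7692 0 = true := by decide +kernel

set_option maxRecDepth 1000000 in
theorem relc_25_0 : fixPtsF W_25 7142 0 = true := by decide +kernel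

set_option maxRecDepth 1000000 in
theorem relc_29_0 : fixPtsF W_29 7142 0 = true := by decide +kernel

set_option maxRecDepth 1000000 in
theorem relc_33_0 : fixPtsF W_33 7142 0 = true := by decide +kernel

set_option maxRecDepth 1000000 in
theorem relc_37_0 : fixPtsF W_37 7142 0 = true := by decide +kernel

set_option maxRecDepth 1000000 in
theorem relc_41_0 : fixPtsF W_41 6666 0 = true := by decide +kernel

set_option maxRecDepth 1000000 in
theorem relc_45_0 : fixPtsF W_45 6666 0 = true := by decide +kernel

set_option maxRecDepth 1000000 in
theorem relc_49_0 : fixPtsF W_49 6250 0 = true := by decide +kernel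

set_option maxRecDepth 1000000 in
theorem relc_53_0 : fixPtsF W_53 6250 0 = true := by decide +kernel

set_option maxRecDepth 1000000 in
theorem relc_13_0 : fixPtsF W_13 8640 0 = true := by decide +kernel

set_option maxRecDepth 1000000 in
theorem relc_55_0 : fixPtsF W_55 2469 0 = true := by decide +kernel

set_option maxRecDepth 1000000 in
theorem relc_56_1 : fixPtsF W_56 2222 2222 = true := by decide +kernel

set_option maxRecDepth 1000000 in
theorem relc_57_0 : fixPtsF W_57 2222 0 = true := by decide +kernel

set_option maxRecDepth 1000000 in
theorem relc_58_1 : fixPtsF W_58 1851 1851 = true := by decide +kernel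

set_option maxRecDepth 1000000 in
theorem relc_59_1 : fixPtsF W_59 1851 1851 = true := by decide +kernel

set_option maxRecDepth 1000000 in
theorem relc_60_1 : fixPtsF W_60 1851 1851 = true := by decide +kernel

set_option maxRecDepth 1000000 in
theorem relc_61_1 : fixPtsF W_61 1851 1851 = true := by decide +kernel

set_option maxRecDepth 1000000 in
theorem relc_62_1 : fixPtsF W_62 1709 1709 = true := by decide +kernel

set_option maxRecDepth 1000000 in
theorem relc_63_0 : fixPtsF W_63 1709 0 = true := by decide +kernel

set_option maxRecDepth 1000000 in
theorem relc_63_4 : fixPtsF W_63 1709 6836 = true := by decide +kernel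

set_option maxRecDepth 1000000 in
theorem relc_64_3 : fixPtsF W_64 1709 5127 = true := by decide +kernel

set_option maxRecDepth 1000000 in
theorem relc_65_2 : fixPtsF W_65 1709 3418 = true := by decide +kernel

set_option maxRecDepth 1000000 in
theorem relc_7_0 : fixPtsF W_7 8640 0 = true := by decide +kernel

set_option maxRecDepth 1000000 in
theorem relc_57_3 : fixPtsF W_57 1974 6666 = true := by decide +kernel

set_option maxRecDepth 1000000 in
theorem relc_55_3 : fixPtsF W_55 1233 7407 = true := by decide +kernel

set_option maxRecDepth 1000000 in
theorem relc_47_1 : fixPtsF W_47 2390 6250 = true := by decide +kernel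

set_option maxRecDepth 1000000 in
theorem relc_51_1 : fixPtsF W_51 2390 6250 = true := by decide +kernel

set_option maxRecDepth 1000000 in
theorem relc_39_1 : fixPtsF W_39 1974 6666 = true := by decide +kernel

set_option maxRecDepth 1000000 in
theorem relc_41_1 : fixPtsF W_41 1974 6666 = true := by decide +kernel

set_option maxRecDepth 1000000 in
theorem relc_45_1 : fixPtsF W_45 1974 6666 = true := by decide +kernel

set_option maxRecDepth 1000000 in
theorem relc_27_1 : fixPtsF W_27 1498 7142 = true := by decide +kernel

set_option maxRecDepth 1000000 in
theorem relc_31_1 : fixPtsF W_31 1498 7142 = true := by decide +kernel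

set_option maxRecDepth 1000000 in
theorem relc_35_1 : fixPtsF W_35 1498 7142 = true := by decide +kernel

set_option maxRecDepth 1000000 in
theorem relc_1_0 : fixPtsF W_1 8640 0 = true := by decide +kernel

set_option maxRecDepth 1000000 in
theorem relc_15_1 : fixPtsF W_15 948 7692 = true := by decide +kernel

set_option maxRecDepth 1000000 in
theorem relc_17_1 : fixPtsF W_17 948 7692 = true := by decide +kernel

set_option maxRecDepth 1000000 in
theorem relc_21_1 : fixPtsF W_21 948 7692 = true := by decide +kernel

set_option maxRecDepth 1000000 in
theorem inv_3_0 : invRowFI ctF 8640 3 2 8640 0 = true := by decide +kernel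

end Cfsg.Agent.Helper5.L34TTC
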