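import Cfsg.Agent.Helper5.L34TTCChkE0
import Cfsg.Agent.Helper5.L34TTCChkE1
import Cfsg.Agent.Helper5.L34TTCChkR0
import Cfsg.Agent.Helper5.L34TTCChkR1
import Cfsg.Agent.Helper5.L34TTCChkR2
import Cfsg.Agent.Helper5.L34TTCChkR3
import Cfsg.Agent.Helper5.L34TTCChkA
import Cfsg.Agent.Helper5.TCIB

/-! summary of the kernel checks: L34TTC -/

set_option autoImplicit false
set_option Elab.async false

namespace Cfsg.Agent.Helper5.L34TTC
open Cfsg.Agent.Helper5.TC Cfsg.Agent.Helper5.TCI

theorem edgesx_0 : ∀ v, v < 174289 → edgeOKI iota E 0 v = true := by
  intro v hv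
  rcases Nat.lt_or_ge v 82304 with h | h
  · rcases Nat.lt_or_ge v 36924 with h | h
    · rcases Nat.lt_or_ge v 15639 with h | h
      · rcases Nat.lt_or_ge v 6908 with h | h
        · rcases Nat.lt_or_ge v 2448 with h | h
          · exact edgesRangeI_spec iota E 0 2448 0 edges_0_0 v (by omega) (by omega)
          · rcases Nat.lt_or_ge v 5047 with h | h
            · exact edgesRangeI_spec iota E 0 2599 2448 edges_0_1 v (by omega) (by omega)
            · exact edgesRangeI_spec iota E 0 1861 5047 edges_0_2 v (by omega) (by omega)
        · rcases Nat.lt_or_ge v 11206 with h | h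
          · rcases Nat.lt_or_ge v 9036 with h | h
            · exact edgesRangeI_spec iota E 0 2128 6908 edges_0_3 v (by omega) (by omega)
            · exact edgesRangeI_spec iota E 0 2170 9036 edges_0_4 v (by omega) (by omega)
          · rcases Nat.lt_or_ge v 13460 with h | h
            · exact edgesRangeI_spec iota E 0 2254 11206 edges_0_5 v (by omega) (by omega)
            · exact edgesRangeI_spec iota E 0 2179 13460 edges_0_6 v (by omega) (by omega)
      · rcases Nat.lt_or_ge v 26819 with h | h
        · rcases Nat.lt_or_ge v 21415 with h | h
          · rcases Nat.lt_or_ge v 18832 with h | h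
            · exact edgesRangeI_spec iota E 0 3193 15639 edges_0_7 v (by omega) (by omega)
            · exact edgesRangeI_spec iota E 0 2583 18832 edges_0_8 v (by omega) (by omega)
          · rcases Nat.lt_or_ge v 24030 with h | h
            · exact edgesRangeI_spec iota E 0 2615 21415 edges_0_9 v (by omega) (by omega)
            · exact edgesRangeI_spec iota E 0 2789 24030 edges_0_10 v (by omega) (by omega)
        · rcases Nat.lt_or_ge v 32087 with h | h
          · rcases Nat.lt_or_ge v 29540 with h | h
            · exact edgesRangeI_spec iota E 0 2721 26819 edges_0_11 v (by omega) (by omega)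
            · exact edgesRangeI_spec iota E 0 2547 29540 edges_0_12 v (by omega) (by omega)
          · rcases Nat.lt_or_ge v 34419 with h | h
            · exact edgesRangeI_spec iota E 0 2332 32087 edges_0_13 v (by omega) (by omega)
            · exact edgesRangeI_spec iota E 0 2505 34419 edges_0_14 v (by omega) (by omega)
    · rcases Nat.lt_or_ge v 59325 with h | h
      · rcases Nat.lt_or_ge v 47444 with h | h
        · rcases Nat.lt_or_ge v 41990 with h | h
          · rcases Nat.lt_or_ge v 39376 with h | h
            · exact edgesRangeI_spec iota E 0 2452 36924 edges_0_15 v (by omega) (by omega)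
            · exact edgesRangeI_spec iota E 0 2614 39376 edges_0_16 v (by omega) (by omega)
          · rcases Nat.lt_or_ge v 44669 with h | h
            · exact edgesRangeI_spec iota E 0 2679 41990 edges_0_17 v (by omega) (by omega)
            · exact edgesRangeI_spec iota E 0 2775 44669 edges_0_18 v (by omega) (by omega)
        · rcases Nat.lt_or_ge v 52750 with h | h
          · rcases Nat.lt_or_ge v 50011 with h | h
            · exact edgesRangeI_spec iota E 0 2567 47444 edges_0_19 v (by omega) (by omega)
            · exact edgesRangeI_spec iota E 0 2739 50011 edges_0_20 v (by omega) (by omega)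
          · rcases Nat.lt_or_ge v 56146 with h | h
            · exact edgesRangeI_spec iota E 0 3396 52750 edges_0_21 v (by omega) (by omega)
            · exact edgesRangeI_spec iota E 0 3179 56146 edges_0_22 v (by omega) (by omega)
      · rcases Nat.lt_or_ge v 70364 with h | h
        · rcases Nat.lt_or_ge v 65313 with h | h
          · rcases Nat.lt_or_ge v 62387 with h | h
            · exact edgesRangeI_spec iota E 0 3062 59325 edges_0_23 v (by omega) (by omega)
            · exact edgesRangeI_spec iota E 0 2926 62387 edges_0_24 v (by omega) (by omega)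
          · rcases Nat.lt_or_ge v 68273 with h | h
            · exact edgesRangeI_spec iota E 0 2960 65313 edges_0_25 v (by omega) (by omega)
            · exact edgesRangeI_spec iota E 0 2091 68273 edges_0_26 v (by omega) (by omega)
        · rcases Nat.lt_or_ge v 76815 with h | h
          · rcases Nat.lt_or_ge v 73561 with h | h
            · exact edgesRangeI_spec iota E 0 3197 70364 edges_0_27 v (by omega) (by omega)
            · exact edgesRangeI_spec iota E 0 3254 73561 edges_0_28 v (by omega) (by omega)
          · rcases Nat.lt_or_ge v 79115 with h | h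
            · exact edgesRangeI_spec iota E 0 2300 76815 edges_0_29 v (by omega) (by omega)
            · exact edgesRangeI_spec iota E 0 3189 79115 edges_0_30 v (by omega) (by omega)
  · rcases Nat.lt_or_ge v 126357 with h | h
    · rcases Nat.lt_or_ge v 101639 with h | h
      · rcases Nat.lt_or_ge v 90137 with h | h
        · rcases Nat.lt_or_ge v 84769 with h | h
          · exact edgesRangeI_spec iota E 0 2465 82304 edges_0_31 v (by omega) (by omega)
          · rcases Nat.lt_or_ge v 87282 with h | h
            · exact edgesRangeI_spec iota E 0 2513 84769 edges_0_32 v (by omega) (by omega)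
            · exact edgesRangeI_spec iota E 0 2855 87282 edges_0_33 v (by omega) (by omega)
        · rcases Nat.lt_or_ge v 95827 with h | h
          · rcases Nat.lt_or_ge v 93547 with h | h
            · exact edgesRangeI_spec iota E 0 3410 90137 edges_0_34 v (by omega) (by omega)
            · exact edgesRangeI_spec iota E 0 2280 93547 edges_0_35 v (by omega) (by omega)
          · rcases Nat.lt_or_ge v 98560 with h | h
            · exact edgesRangeI_spec iota E 0 2733 95827 edges_0_36 v (by omega) (by omega)
            · exact edgesRangeI_spec iota E 0 3079 98560 edges_0_37 v (by omega) (by omega)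
      · rcases Nat.lt_or_ge v 114003 with h | h
        · rcases Nat.lt_or_ge v 107698 with h | h
          · rcases Nat.lt_or_ge v 104574 with h | h
            · exact edgesRangeI_spec iota E 0 2935 101639 edges_0_38 v (by omega) (by omega)
            · exact edgesRangeI_spec iota E 0 3124 104574 edges_0_39 v (by omega) (by omega)
          · rcases Nat.lt_or_ge v 110424 with h | h
            · exact edgesRangeI_spec iota E 0 2726 107698 edges_0_40 v (by omega) (by omega)
            · exact edgesRangeI_spec iota E 0 3579 110424 edges_0_41 v (by omega) (by omega)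
        · rcases Nat.lt_or_ge v 119919 with h | h
          · rcases Nat.lt_or_ge v 116679 with h | h
            · exact edgesRangeI_spec iota E 0 2676 114003 edges_0_42 v (by omega) (by omega)
            · exact edgesRangeI_spec iota E 0 3240 116679 edges_0_43 v (by omega) (by omega)
          · rcases Nat.lt_or_ge v 123059 with h | h
            · exact edgesRangeI_spec iota E 0 3140 119919 edges_0_44 v (by omega) (by omega)
            · exact edgesRangeI_spec iota E 0 3298 123059 edges_0_45 v (by omega) (by omega)
    · rcases Nat.lt_or_ge v 152163 with h | h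
      · rcases Nat.lt_or_ge v 138740 with h | h
        · rcases Nat.lt_or_ge v 133200 with h | h
          · rcases Nat.lt_or_ge v 130062 with h | h
            · exact edgesRangeI_spec iota E 0 3705 126357 edges_0_46 v (by omega) (by omega)
            · exact edgesRangeI_spec iota E 0 3138 130062 edges_0_47 v (by omega) (by omega)
          · rcases Nat.lt_or_ge v 135953 with h | h
            · exact edgesRangeI_spec iota E 0 2753 133200 edges_0_48 v (by omega) (by omega)
            · exact edgesRangeI_spec iota E 0 2787 135953 edges_0_49 v (by omega) (by omega)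
        · rcases Nat.lt_or_ge v 145277 with h | h
          · rcases Nat.lt_or_ge v 142224 with h | h
            · exact edgesRangeI_spec iota E 0 3484 138740 edges_0_50 v (by omega) (by omega)
            · exact edgesRangeI_spec iota E 0 3053 142224 edges_0_51 v (by omega) (by omega)
          · rcases Nat.lt_or_ge v 148674 with h | h
            · exact edgesRangeI_spec iota E 0 3397 145277 edges_0_52 v (by omega) (by omega)
            · exact edgesRangeI_spec iota E 0 3489 148674 edges_0_53 v (by omega) (by omega)
      · rcases Nat.lt_or_ge v 164498 with h | h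
        · rcases Nat.lt_or_ge v 158307 with h | h
          · rcases Nat.lt_or_ge v 154595 with h | h
            · exact edgesRangeI_spec iota E 0 2432 152163 edges_0_54 v (by omega) (by omega)
            · exact edgesRangeI_spec iota E 0 3712 154595 edges_0_55 v (by omega) (by omega)
          · rcases Nat.lt_or_ge v 161248 with h | h
            · exact edgesRangeI_spec iota E 0 2941 158307 edges_0_56 v (by omega) (by omega)
            · exact edgesRangeI_spec iota E 0 3250 161248 edges_0_57 v (by omega) (by omega)
        · rcases Nat.lt_or_ge v 171628 with h | h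
          · rcases Nat.lt_or_ge v 168526 with h | h
            · exact edgesRangeI_spec iota E 0 4028 164498 edges_0_58 v (by omega) (by omega)
            · exact edgesRangeI_spec iota E 0 3102 168526 edges_0_59 v (by omega) (by omega)
          · rcases Nat.lt_or_ge v 173723 with h | h
            · exact edgesRangeI_spec iota E 0 2095 171628 edges_0_60 v (by omega) (by omega)
            · exact edgesRangeI_spec iota E 0 566 173723 edges_0_61 v (by omega) (by omega)

theorem edgesx_1 : ∀ v, v < 174289 → edgeOKI iota E 1 v = true := by
  intro v hv
  rcases Nat.lt_or_ge v 86547 with h | h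
  · rcases Nat.lt_or_ge v 39903 with h | h
    · rcases Nat.lt_or_ge v 19087 with h | h
      · rcases Nat.lt_or_ge v 8183 with h | h
        · rcases Nat.lt_or_ge v 2598 with h | h
          · exact edgesRangeI_spec iota E 1 2598 0 edges_1_0 v (by omega) (by omega)
          · rcases Nat.lt_or_ge v 5396 with h | h
            · exact edgesRangeI_spec iota E 1 2798 2598 edges_1_1 v (by omega) (by omega)
            · exact edgesRangeI_spec iota E 1 2787 5396 edges_1_2 v (by omega) (by omega)
        · rcases Nat.lt_or_ge v 13608 with h | h
          · rcases Nat.lt_or_ge v 11059 with h | h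
            · exact edgesRangeI_spec iota E 1 2876 8183 edges_1_3 v (by omega) (by omega)
            · exact edgesRangeI_spec iota E 1 2549 11059 edges_1_4 v (by omega) (by omega)
          · rcases Nat.lt_or_ge v 16432 with h | h
            · exact edgesRangeI_spec iota E 1 2824 13608 edges_1_5 v (by omega) (by omega)
            · exact edgesRangeI_spec iota E 1 2655 16432 edges_1_6 v (by omega) (by omega)
      · rcases Nat.lt_or_ge v 28675 with h | h
        · rcases Nat.lt_or_ge v 23693 with h | h
          · rcases Nat.lt_or_ge v 21370 with h | h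
            · exact edgesRangeI_spec iota E 1 2283 19087 edges_1_7 v (by omega) (by omega)
            · exact edgesRangeI_spec iota E 1 2323 21370 edges_1_8 v (by omega) (by omega)
          · rcases Nat.lt_or_ge v 26206 with h | h
            · exact edgesRangeI_spec iota E 1 2513 23693 edges_1_9 v (by omega) (by omega)
            · exact edgesRangeI_spec iota E 1 2469 26206 edges_1_10 v (by omega) (by omega)
        · rcases Nat.lt_or_ge v 33923 with h | h
          · rcases Nat.lt_or_ge v 31180 with h | h
            · exact edgesRangeI_spec iota E 1 2505 28675 edges_1_11 v (by omega) (by omega)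
            · exact edgesRangeI_spec iota E 1 2743 31180 edges_1_12 v (by omega) (by omega)
          · rcases Nat.lt_or_ge v 36999 with h | h
            · exact edgesRangeI_spec iota E 1 3076 33923 edges_1_13 v (by omega) (by omega)
            · exact edgesRangeI_spec iota E 1 2904 36999 edges_1_14 v (by omega) (by omega)
    · rcases Nat.lt_or_ge v 62384 with h | h
      · rcases Nat.lt_or_ge v 49975 with h | h
        · rcases Nat.lt_or_ge v 42814 with h | h
          · exact edgesRangeI_spec iota E 1 2911 39903 edges_1_15 v (by omega) (by omega)
          · rcases Nat.lt_or_ge v 46571 with h | h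
            · exact edgesRangeI_spec iota E 1 3757 42814 edges_1_16 v (by omega) (by omega)
            · exact edgesRangeI_spec iota E 1 3404 46571 edges_1_17 v (by omega) (by omega)
        · rcases Nat.lt_or_ge v 56227 with h | h
          · rcases Nat.lt_or_ge v 53259 with h | h
            · exact edgesRangeI_spec iota E 1 3284 49975 edges_1_18 v (by omega) (by omega)
            · exact edgesRangeI_spec iota E 1 2968 53259 edges_1_19 v (by omega) (by omega)
          · rcases Nat.lt_or_ge v 59758 with h | h
            · exact edgesRangeI_spec iota E 1 3531 56227 edges_1_20 v (by omega) (by omega)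
            · exact edgesRangeI_spec iota E 1 2626 59758 edges_1_21 v (by omega) (by omega)
      · rcases Nat.lt_or_ge v 74292 with h | h
        · rcases Nat.lt_or_ge v 69051 with h | h
          · rcases Nat.lt_or_ge v 65375 with h | h
            · exact edgesRangeI_spec iota E 1 2991 62384 edges_1_22 v (by omega) (by omega)
            · exact edgesRangeI_spec iota E 1 3676 65375 edges_1_23 v (by omega) (by omega)
          · rcases Nat.lt_or_ge v 72042 with h | h
            · exact edgesRangeI_spec iota E 1 2991 69051 edges_1_24 v (by omega) (by omega)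
            · exact edgesRangeI_spec iota E 1 2250 72042 edges_1_25 v (by omega) (by omega)
        · rcases Nat.lt_or_ge v 80451 with h | h
          · rcases Nat.lt_or_ge v 77377 with h | h
            · exact edgesRangeI_spec iota E 1 3085 74292 edges_1_26 v (by omega) (by omega)
            · exact edgesRangeI_spec iota E 1 3074 77377 edges_1_27 v (by omega) (by omega)
          · rcases Nat.lt_or_ge v 83182 with h | h
            · exact edgesRangeI_spec iota E 1 2731 80451 edges_1_28 v (by omega) (by omega)
            · exact edgesRangeI_spec iota E 1 3365 83182 edges_1_29 v (by omega) (by omega)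
  · rcases Nat.lt_or_ge v 132380 with h | h
    · rcases Nat.lt_or_ge v 106903 with h | h
      · rcases Nat.lt_or_ge v 95020 with h | h
        · rcases Nat.lt_or_ge v 89476 with h | h
          · exact edgesRangeI_spec iota E 1 2929 86547 edges_1_30 v (by omega) (by omega)
          · rcases Nat.lt_or_ge v 92330 with h | h
            · exact edgesRangeI_spec iota E 1 2854 89476 edges_1_31 v (by omega) (by omega)
            · exact edgesRangeI_spec iota E 1 2690 92330 edges_1_32 v (by omega) (by omega)
        · rcases Nat.lt_or_ge v 101360 with h | h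
          · rcases Nat.lt_or_ge v 98403 with h | h
            · exact edgesRangeI_spec iota E 1 3383 95020 edges_1_33 v (by omega) (by omega)
            · exact edgesRangeI_spec iota E 1 2957 98403 edges_1_34 v (by omega) (by omega)
          · rcases Nat.lt_or_ge v 104361 with h | h
            · exact edgesRangeI_spec iota E 1 3001 101360 edges_1_35 v (by omega) (by omega)
            · exact edgesRangeI_spec iota E 1 2542 104361 edges_1_36 v (by omega) (by omega)
      · rcases Nat.lt_or_ge v 120355 with h | h
        · rcases Nat.lt_or_ge v 113499 with h | h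
          · rcases Nat.lt_or_ge v 110102 with h | h
            · exact edgesRangeI_spec iota E 1 3199 106903 edges_1_37 v (by omega) (by omega)
            · exact edgesRangeI_spec iota E 1 3397 110102 edges_1_38 v (by omega) (by omega)
          · rcases Nat.lt_or_ge v 117239 with h | h
            · exact edgesRangeI_spec iota E 1 3740 113499 edges_1_39 v (by omega) (by omega)
            · exact edgesRangeI_spec iota E 1 3116 117239 edges_1_40 v (by omega) (by omega)
        · rcases Nat.lt_or_ge v 126175 with h | h
          · rcases Nat.lt_or_ge v 123099 with h | h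
            · exact edgesRangeI_spec iota E 1 2744 120355 edges_1_41 v (by omega) (by omega)
            · exact edgesRangeI_spec iota E 1 3076 123099 edges_1_42 v (by omega) (by omega)
          · rcases Nat.lt_or_ge v 128889 with h | h
            · exact edgesRangeI_spec iota E 1 2714 126175 edges_1_43 v (by omega) (by omega)
            · exact edgesRangeI_spec iota E 1 3491 128889 edges_1_44 v (by omega) (by omega)
    · rcases Nat.lt_or_ge v 154739 with h | h
      · rcases Nat.lt_or_ge v 141751 with h | h
        · rcases Nat.lt_or_ge v 135586 with h | h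
          · exact edgesRangeI_spec iota E 1 3206 132380 edges_1_45 v (by omega) (by omega)
          · rcases Nat.lt_or_ge v 138621 with h | h
            · exact edgesRangeI_spec iota E 1 3035 135586 edges_1_46 v (by omega) (by omega)
            · exact edgesRangeI_spec iota E 1 3130 138621 edges_1_47 v (by omega) (by omega)
        · rcases Nat.lt_or_ge v 148613 with h | h
          · rcases Nat.lt_or_ge v 145388 with h | h
            · exact edgesRangeI_spec iota E 1 3637 141751 edges_1_48 v (by omega) (by omega)
            · exact edgesRangeI_spec iota E 1 3225 145388 edges_1_49 v (by omega) (by omega)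
          · rcases Nat.lt_or_ge v 151218 with h | h
            · exact edgesRangeI_spec iota E 1 2605 148613 edges_1_50 v (by omega) (by omega)
            · exact edgesRangeI_spec iota E 1 3521 151218 edges_1_51 v (by omega) (by omega)
      · rcases Nat.lt_or_ge v 166600 with h | h
        · rcases Nat.lt_or_ge v 160897 with h | h
          · rcases Nat.lt_or_ge v 157730 with h | h
            · exact edgesRangeI_spec iota E 1 2991 154739 edges_1_52 v (by omega) (by omega)
            · exact edgesRangeI_spec iota E 1 3167 157730 edges_1_53 v (by omega) (by omega)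
          · rcases Nat.lt_or_ge v 163818 with h | h
            · exact edgesRangeI_spec iota E 1 2921 160897 edges_1_54 v (by omega) (by omega)
            · exact edgesRangeI_spec iota E 1 2782 163818 edges_1_55 v (by omega) (by omega)
        · rcases Nat.lt_or_ge v 173387 with h | h
          · rcases Nat.lt_or_ge v 169611 with h | h
            · exact edgesRangeI_spec iota E 1 3011 166600 edges_1_56 v (by omega) (by omega)
            · exact edgesRangeI_spec iota E 1 3776 169611 edges_1_57 v (by omega) (by omega)
          · rcases Nat.lt_or_ge v 174022 with h | h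
            · exact edgesRangeI_spec iota E 1 635 173387 edges_1_58 v (by omega) (by omega)
            · exact edgesRangeI_spec iota E 1 267 174022 edges_1_59 v (by omega) (by omega)

theorem edgesx_2 : ∀ v, v < 174289 → edgeOKI iota E 2 v = true := by
  intro v hv
  rcases Nat.lt_or_ge v 80386 with h | h
  · rcases Nat.lt_or_ge v 37718 with h | h
    · rcases Nat.lt_or_ge v 16090 with h | h
      · rcases Nat.lt_or_ge v 6872 with h | h
        · rcases Nat.lt_or_ge v 2429 with h | h
          · exact edgesRangeI_spec iota E 2 2429 0 edges_2_0 v (by omega) (by omega)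
          · rcases Nat.lt_or_ge v 4748 with h | h
            · exact edgesRangeI_spec iota E 2 2319 2429 edges_2_1 v (by omega) (by omega)
            · exact edgesRangeI_spec iota E 2 2124 4748 edges_2_2 v (by omega) (by omega)
        · rcases Nat.lt_or_ge v 11423 with h | h
          · rcases Nat.lt_or_ge v 9084 with h | h
            · exact edgesRangeI_spec iota E 2 2212 6872 edges_2_3 v (by omega) (by omega)
            · exact edgesRangeI_spec iota E 2 2339 9084 edges_2_4 v (by omega) (by omega)
          · rcases Nat.lt_or_ge v 13552 with h | h
            · exact edgesRangeI_spec iota E 2 2129 11423 edges_2_5 v (by omega) (by omega)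
            · exact edgesRangeI_spec iota E 2 2538 13552 edges_2_6 v (by omega) (by omega)
      · rcases Nat.lt_or_ge v 27102 with h | h
        · rcases Nat.lt_or_ge v 21797 with h | h
          · rcases Nat.lt_or_ge v 18948 with h | h
            · exact edgesRangeI_spec iota E 2 2858 16090 edges_2_7 v (by omega) (by omega)
            · exact edgesRangeI_spec iota E 2 2849 18948 edges_2_8 v (by omega) (by omega)
          · rcases Nat.lt_or_ge v 24343 with h | h
            · exact edgesRangeI_spec iota E 2 2546 21797 edges_2_9 v (by omega) (by omega)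
            · exact edgesRangeI_spec iota E 2 2759 24343 edges_2_10 v (by omega) (by omega)
        · rcases Nat.lt_or_ge v 32495 with h | h
          · rcases Nat.lt_or_ge v 30024 with h | h
            · exact edgesRangeI_spec iota E 2 2922 27102 edges_2_11 v (by omega) (by omega)
            · exact edgesRangeI_spec iota E 2 2471 30024 edges_2_12 v (by omega) (by omega)
          · rcases Nat.lt_or_ge v 35198 with h | h
            · exact edgesRangeI_spec iota E 2 2703 32495 edges_2_13 v (by omega) (by omega)
            · exact edgesRangeI_spec iota E 2 2520 35198 edges_2_14 v (by omega) (by omega)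
    · rcases Nat.lt_or_ge v 58059 with h | h
      · rcases Nat.lt_or_ge v 46885 with h | h
        · rcases Nat.lt_or_ge v 40315 with h | h
          · exact edgesRangeI_spec iota E 2 2597 37718 edges_2_15 v (by omega) (by omega)
          · rcases Nat.lt_or_ge v 43268 with h | h
            · exact edgesRangeI_spec iota E 2 2953 40315 edges_2_16 v (by omega) (by omega)
            · exact edgesRangeI_spec iota E 2 3617 43268 edges_2_17 v (by omega) (by omega)
        · rcases Nat.lt_or_ge v 52774 with h | h
          · rcases Nat.lt_or_ge v 49788 with h | h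
            · exact edgesRangeI_spec iota E 2 2903 46885 edges_2_18 v (by omega) (by omega)
            · exact edgesRangeI_spec iota E 2 2986 49788 edges_2_19 v (by omega) (by omega)
          · rcases Nat.lt_or_ge v 55454 with h | h
            · exact edgesRangeI_spec iota E 2 2680 52774 edges_2_20 v (by omega) (by omega)
            · exact edgesRangeI_spec iota E 2 2605 55454 edges_2_21 v (by omega) (by omega)
      · rcases Nat.lt_or_ge v 68547 with h | h
        · rcases Nat.lt_or_ge v 63400 with h | h
          · rcases Nat.lt_or_ge v 60820 with h | h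
            · exact edgesRangeI_spec iota E 2 2761 58059 edges_2_22 v (by omega) (by omega)
            · exact edgesRangeI_spec iota E 2 2580 60820 edges_2_23 v (by omega) (by omega)
          · rcases Nat.lt_or_ge v 66129 with h | h
            · exact edgesRangeI_spec iota E 2 2729 63400 edges_2_24 v (by omega) (by omega)
            · exact edgesRangeI_spec iota E 2 2418 66129 edges_2_25 v (by omega) (by omega)
        · rcases Nat.lt_or_ge v 74128 with h | h
          · rcases Nat.lt_or_ge v 71430 with h | h
            · exact edgesRangeI_spec iota E 2 2883 68547 edges_2_26 v (by omega) (by omega)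
            · exact edgesRangeI_spec iota E 2 2698 71430 edges_2_27 v (by omega) (by omega)
          · rcases Nat.lt_or_ge v 77090 with h | h
            · exact edgesRangeI_spec iota E 2 2962 74128 edges_2_28 v (by omega) (by omega)
            · exact edgesRangeI_spec iota E 2 3296 77090 edges_2_29 v (by omega) (by omega)
  · rcases Nat.lt_or_ge v 126594 with h | h
    · rcases Nat.lt_or_ge v 101923 with h | h
      · rcases Nat.lt_or_ge v 89420 with h | h
        · rcases Nat.lt_or_ge v 83124 with h | h
          · exact edgesRangeI_spec iota E 2 2738 80386 edges_2_30 v (by omega) (by omega)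
          · rcases Nat.lt_or_ge v 86262 with h | h
            · exact edgesRangeI_spec iota E 2 3138 83124 edges_2_31 v (by omega) (by omega)
            · exact edgesRangeI_spec iota E 2 3158 86262 edges_2_32 v (by omega) (by omega)
        · rcases Nat.lt_or_ge v 95614 with h | h
          · rcases Nat.lt_or_ge v 92143 with h | h
            · exact edgesRangeI_spec iota E 2 2723 89420 edges_2_33 v (by omega) (by omega)
            · exact edgesRangeI_spec iota E 2 3471 92143 edges_2_34 v (by omega) (by omega)
          · rcases Nat.lt_or_ge v 98904 with h | h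
            · exact edgesRangeI_spec iota E 2 3290 95614 edges_2_35 v (by omega) (by omega)
            · exact edgesRangeI_spec iota E 2 3019 98904 edges_2_36 v (by omega) (by omega)
      · rcases Nat.lt_or_ge v 113826 with h | h
        · rcases Nat.lt_or_ge v 107930 with h | h
          · rcases Nat.lt_or_ge v 104798 with h | h
            · exact edgesRangeI_spec iota E 2 2875 101923 edges_2_37 v (by omega) (by omega)
            · exact edgesRangeI_spec iota E 2 3132 104798 edges_2_38 v (by omega) (by omega)
          · rcases Nat.lt_or_ge v 110905 with h | h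
            · exact edgesRangeI_spec iota E 2 2975 107930 edges_2_39 v (by omega) (by omega)
            · exact edgesRangeI_spec iota E 2 2921 110905 edges_2_40 v (by omega) (by omega)
        · rcases Nat.lt_or_ge v 120128 with h | h
          · rcases Nat.lt_or_ge v 116997 with h | h
            · exact edgesRangeI_spec iota E 2 3171 113826 edges_2_41 v (by omega) (by omega)
            · exact edgesRangeI_spec iota E 2 3131 116997 edges_2_42 v (by omega) (by omega)
          · rcases Nat.lt_or_ge v 123324 with h | h
            · exact edgesRangeI_spec iota E 2 3196 120128 edges_2_43 v (by omega) (by omega)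
            · exact edgesRangeI_spec iota E 2 3270 123324 edges_2_44 v (by omega) (by omega)
    · rcases Nat.lt_or_ge v 152506 with h | h
      · rcases Nat.lt_or_ge v 139330 with h | h
        · rcases Nat.lt_or_ge v 133255 with h | h
          · rcases Nat.lt_or_ge v 130105 with h | h
            · exact edgesRangeI_spec iota E 2 3511 126594 edges_2_45 v (by omega) (by omega)
            · exact edgesRangeI_spec iota E 2 3150 130105 edges_2_46 v (by omega) (by omega)
          · rcases Nat.lt_or_ge v 136050 with h | h
            · exact edgesRangeI_spec iota E 2 2795 133255 edges_2_47 v (by omega) (by omega)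
            · exact edgesRangeI_spec iota E 2 3280 136050 edges_2_48 v (by omega) (by omega)
        · rcases Nat.lt_or_ge v 145499 with h | h
          · rcases Nat.lt_or_ge v 142181 with h | h
            · exact edgesRangeI_spec iota E 2 2851 139330 edges_2_49 v (by omega) (by omega)
            · exact edgesRangeI_spec iota E 2 3318 142181 edges_2_50 v (by omega) (by omega)
          · rcases Nat.lt_or_ge v 149195 with h | h
            · exact edgesRangeI_spec iota E 2 3696 145499 edges_2_51 v (by omega) (by omega)
            · exact edgesRangeI_spec iota E 2 3311 149195 edges_2_52 v (by omega) (by omega)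
      · rcases Nat.lt_or_ge v 165789 with h | h
        · rcases Nat.lt_or_ge v 159148 with h | h
          · rcases Nat.lt_or_ge v 155925 with h | h
            · exact edgesRangeI_spec iota E 2 3419 152506 edges_2_53 v (by omega) (by omega)
            · exact edgesRangeI_spec iota E 2 3223 155925 edges_2_54 v (by omega) (by omega)
          · rcases Nat.lt_or_ge v 162771 with h | h
            · exact edgesRangeI_spec iota E 2 3623 159148 edges_2_55 v (by omega) (by omega)
            · exact edgesRangeI_spec iota E 2 3018 162771 edges_2_56 v (by omega) (by omega)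
        · rcases Nat.lt_or_ge v 173357 with h | h
          · rcases Nat.lt_or_ge v 169416 with h | h
            · exact edgesRangeI_spec iota E 2 3627 165789 edges_2_57 v (by omega) (by omega)
            · exact edgesRangeI_spec iota E 2 3941 169416 edges_2_58 v (by omega) (by omega)
          · rcases Nat.lt_or_ge v 174178 with h | h
            · exact edgesRangeI_spec iota E 2 821 173357 edges_2_59 v (by omega) (by omega)
            · exact edgesRangeI_spec iota E 2 111 174178 edges_2_60 v (by omega) (by omega)

theorem edgesx_3 : ∀ v, v < 174289 → edgeOKI iota E 3 v = true := by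
  intro v hv
  rcases Nat.lt_or_ge v 85569 with h | h
  · rcases Nat.lt_or_ge v 38164 with h | h
    · rcases Nat.lt_or_ge v 18278 with h | h
      · rcases Nat.lt_or_ge v 8912 with h | h
        · rcases Nat.lt_or_ge v 3377 with h | h
          · exact edgesRangeI_spec iota E 3 3377 0 edges_3_0 v (by omega) (by omega)
          · rcases Nat.lt_or_ge v 5744 with h | h
            · exact edgesRangeI_spec iota E 3 2367 3377 edges_3_1 v (by omega) (by omega)
            · exact edgesRangeI_spec iota E 3 3168 5744 edges_3_2 v (by omega) (by omega)
        · rcases Nat.lt_or_ge v 12164 with h | h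
          · exact edgesRangeI_spec iota E 3 3252 8912 edges_3_3 v (by omega) (by omega)
          · rcases Nat.lt_or_ge v 15146 with h | h
            · exact edgesRangeI_spec iota E 3 2982 12164 edges_3_4 v (by omega) (by omega)
            · exact edgesRangeI_spec iota E 3 3132 15146 edges_3_5 v (by omega) (by omega)
      · rcases Nat.lt_or_ge v 26201 with h | h
        · rcases Nat.lt_or_ge v 20840 with h | h
          · exact edgesRangeI_spec iota E 3 2562 18278 edges_3_6 v (by omega) (by omega)
          · rcases Nat.lt_or_ge v 23591 with h | h
            · exact edgesRangeI_spec iota E 3 2751 20840 edges_3_7 v (by omega) (by omega)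
            · exact edgesRangeI_spec iota E 3 2610 23591 edges_3_8 v (by omega) (by omega)
        · rcases Nat.lt_or_ge v 32051 with h | h
          · rcases Nat.lt_or_ge v 29273 with h | h
            · exact edgesRangeI_spec iota E 3 3072 26201 edges_3_9 v (by omega) (by omega)
            · exact edgesRangeI_spec iota E 3 2778 29273 edges_3_10 v (by omega) (by omega)
          · rcases Nat.lt_or_ge v 35010 with h | h
            · exact edgesRangeI_spec iota E 3 2959 32051 edges_3_11 v (by omega) (by omega)
            · exact edgesRangeI_spec iota E 3 3154 35010 edges_3_12 v (by omega) (by omega)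
    · rcases Nat.lt_or_ge v 62174 with h | h
      · rcases Nat.lt_or_ge v 47627 with h | h
        · rcases Nat.lt_or_ge v 41192 with h | h
          · exact edgesRangeI_spec iota E 3 3028 38164 edges_3_13 v (by omega) (by omega)
          · rcases Nat.lt_or_ge v 44307 with h | h
            · exact edgesRangeI_spec iota E 3 3115 41192 edges_3_14 v (by omega) (by omega)
            · exact edgesRangeI_spec iota E 3 3320 44307 edges_3_15 v (by omega) (by omega)
        · rcases Nat.lt_or_ge v 54507 with h | h
          · rcases Nat.lt_or_ge v 50953 with h | h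
            · exact edgesRangeI_spec iota E 3 3326 47627 edges_3_16 v (by omega) (by omega)
            · exact edgesRangeI_spec iota E 3 3554 50953 edges_3_17 v (by omega) (by omega)
          · rcases Nat.lt_or_ge v 58358 with h | h
            · exact edgesRangeI_spec iota E 3 3851 54507 edges_3_18 v (by omega) (by omega)
            · exact edgesRangeI_spec iota E 3 3816 58358 edges_3_19 v (by omega) (by omega)
      · rcases Nat.lt_or_ge v 72404 with h | h
        · rcases Nat.lt_or_ge v 65183 with h | h
          · exact edgesRangeI_spec iota E 3 3009 62174 edges_3_20 v (by omega) (by omega)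
          · rcases Nat.lt_or_ge v 68767 with h | h
            · exact edgesRangeI_spec iota E 3 3584 65183 edges_3_21 v (by omega) (by omega)
            · exact edgesRangeI_spec iota E 3 3637 68767 edges_3_22 v (by omega) (by omega)
        · rcases Nat.lt_or_ge v 79230 with h | h
          · rcases Nat.lt_or_ge v 75484 with h | h
            · exact edgesRangeI_spec iota E 3 3080 72404 edges_3_23 v (by omega) (by omega)
            · exact edgesRangeI_spec iota E 3 3746 75484 edges_3_24 v (by omega) (by omega)
          · rcases Nat.lt_or_ge v 82144 with h | h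
            · exact edgesRangeI_spec iota E 3 2914 79230 edges_3_25 v (by omega) (by omega)
            · exact edgesRangeI_spec iota E 3 3425 82144 edges_3_26 v (by omega) (by omega)
  · rcases Nat.lt_or_ge v 130688 with h | h
    · rcases Nat.lt_or_ge v 107402 with h | h
      · rcases Nat.lt_or_ge v 96429 with h | h
        · rcases Nat.lt_or_ge v 88868 with h | h
          · exact edgesRangeI_spec iota E 3 3299 85569 edges_3_27 v (by omega) (by omega)
          · rcases Nat.lt_or_ge v 92599 with h | h
            · exact edgesRangeI_spec iota E 3 3731 88868 edges_3_28 v (by omega) (by omega)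
            · exact edgesRangeI_spec iota E 3 3830 92599 edges_3_29 v (by omega) (by omega)
        · rcases Nat.lt_or_ge v 99949 with h | h
          · exact edgesRangeI_spec iota E 3 3520 96429 edges_3_30 v (by omega) (by omega)
          · rcases Nat.lt_or_ge v 103484 with h | h
            · exact edgesRangeI_spec iota E 3 3535 99949 edges_3_31 v (by omega) (by omega)
            · exact edgesRangeI_spec iota E 3 3918 103484 edges_3_32 v (by omega) (by omega)
      · rcases Nat.lt_or_ge v 117623 with h | h
        · rcases Nat.lt_or_ge v 111107 with h | h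
          · exact edgesRangeI_spec iota E 3 3705 107402 edges_3_33 v (by omega) (by omega)
          · rcases Nat.lt_or_ge v 114001 with h | h
            · exact edgesRangeI_spec iota E 3 2894 111107 edges_3_34 v (by omega) (by omega)
            · exact edgesRangeI_spec iota E 3 3622 114001 edges_3_35 v (by omega) (by omega)
        · rcases Nat.lt_or_ge v 124090 with h | h
          · rcases Nat.lt_or_ge v 120963 with h | h
            · exact edgesRangeI_spec iota E 3 3340 117623 edges_3_36 v (by omega) (by omega)
            · exact edgesRangeI_spec iota E 3 3127 120963 edges_3_37 v (by omega) (by omega)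
          · rcases Nat.lt_or_ge v 127273 with h | h
            · exact edgesRangeI_spec iota E 3 3183 124090 edges_3_38 v (by omega) (by omega)
            · exact edgesRangeI_spec iota E 3 3415 127273 edges_3_39 v (by omega) (by omega)
    · rcases Nat.lt_or_ge v 156930 with h | h
      · rcases Nat.lt_or_ge v 142399 with h | h
        · rcases Nat.lt_or_ge v 134474 with h | h
          · exact edgesRangeI_spec iota E 3 3786 130688 edges_3_40 v (by omega) (by omega)
          · rcases Nat.lt_or_ge v 138352 with h | h
            · exact edgesRangeI_spec iota E 3 3878 134474 edges_3_41 v (by omega) (by omega)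
            · exact edgesRangeI_spec iota E 3 4047 138352 edges_3_42 v (by omega) (by omega)
        · rcases Nat.lt_or_ge v 149374 with h | h
          · rcases Nat.lt_or_ge v 145827 with h | h
            · exact edgesRangeI_spec iota E 3 3428 142399 edges_3_43 v (by omega) (by omega)
            · exact edgesRangeI_spec iota E 3 3547 145827 edges_3_44 v (by omega) (by omega)
          · rcases Nat.lt_or_ge v 153341 with h | h
            · exact edgesRangeI_spec iota E 3 3967 149374 edges_3_45 v (by omega) (by omega)
            · exact edgesRangeI_spec iota E 3 3589 153341 edges_3_46 v (by omega) (by omega)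
      · rcases Nat.lt_or_ge v 166936 with h | h
        · rcases Nat.lt_or_ge v 160453 with h | h
          · exact edgesRangeI_spec iota E 3 3523 156930 edges_3_47 v (by omega) (by omega)
          · rcases Nat.lt_or_ge v 163508 with h | h
            · exact edgesRangeI_spec iota E 3 3055 160453 edges_3_48 v (by omega) (by omega)
            · exact edgesRangeI_spec iota E 3 3428 163508 edges_3_49 v (by omega) (by omega)
        · rcases Nat.lt_or_ge v 173561 with h | h
          · rcases Nat.lt_or_ge v 170104 with h | h
            · exact edgesRangeI_spec iota E 3 3168 166936 edges_3_50 v (by omega) (by omega)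
            · exact edgesRangeI_spec iota E 3 3457 170104 edges_3_51 v (by omega) (by omega)
          · rcases Nat.lt_or_ge v 174262 with h | h
            · exact edgesRangeI_spec iota E 3 701 173561 edges_3_52 v (by omega) (by omega)
            · exact edgesRangeI_spec iota E 3 27 174262 edges_3_53 v (by omega) (by omega)

theorem hA0 : ∀ v, v < 174289 → aliasOK E v = true := by
  intro v hv
  rcases Nat.lt_or_ge v 86985 with h | h
  · rcases Nat.lt_or_ge v 43571 with h | h
    · rcases Nat.lt_or_ge v 21326 with h | h
      · rcases Nat.lt_or_ge v 10851 with h | h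
        · rcases Nat.lt_or_ge v 4573 with h | h
          · rcases Nat.lt_or_ge v 2411 with h | h
            · exact aliasRange_spec E 2411 0 aliases_0 v (by omega) (by omega)
            · exact aliasRange_spec E 2162 2411 aliases_1 v (by omega) (by omega)
          · rcases Nat.lt_or_ge v 6792 with h | h
            · exact aliasRange_spec E 2219 4573 aliases_2 v (by omega) (by omega)
            · rcases Nat.lt_or_ge v 8796 with h | h
              · exact aliasRange_spec E 2004 6792 aliases_3 v (by omega) (by omega)
              · exact aliasRange_spec E 2055 8796 aliases_4 v (by omega) (by omega)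
        · rcases Nat.lt_or_ge v 15247 with h | h
          · rcases Nat.lt_or_ge v 13060 with h | h
            · exact aliasRange_spec E 2209 10851 aliases_5 v (by omega) (by omega)
            · exact aliasRange_spec E 2187 13060 aliases_6 v (by omega) (by omega)
          · rcases Nat.lt_or_ge v 17269 with h | h
            · exact aliasRange_spec E 2022 15247 aliases_7 v (by omega) (by omega)
            · rcases Nat.lt_or_ge v 19330 with h | h
              · exact aliasRange_spec E 2061 17269 aliases_8 v (by omega) (by omega)
              · exact aliasRange_spec E 1996 19330 aliases_9 v (by omega) (by omega)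
      · rcases Nat.lt_or_ge v 31551 with h | h
        · rcases Nat.lt_or_ge v 25496 with h | h
          · rcases Nat.lt_or_ge v 23479 with h | h
            · exact aliasRange_spec E 2153 21326 aliases_10 v (by omega) (by omega)
            · exact aliasRange_spec E 2017 23479 aliases_11 v (by omega) (by omega)
          · rcases Nat.lt_or_ge v 27555 with h | h
            · exact aliasRange_spec E 2059 25496 aliases_12 v (by omega) (by omega)
            · rcases Nat.lt_or_ge v 29542 with h | h
              · exact aliasRange_spec E 1987 27555 aliases_13 v (by omega) (by omega)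
              · exact aliasRange_spec E 2009 29542 aliases_14 v (by omega) (by omega)
        · rcases Nat.lt_or_ge v 37528 with h | h
          · rcases Nat.lt_or_ge v 33613 with h | h
            · exact aliasRange_spec E 2062 31551 aliases_15 v (by omega) (by omega)
            · rcases Nat.lt_or_ge v 35494 with h | h
              · exact aliasRange_spec E 1881 33613 aliases_16 v (by omega) (by omega)
              · exact aliasRange_spec E 2034 35494 aliases_17 v (by omega) (by omega)
          · rcases Nat.lt_or_ge v 39574 with h | h
            · exact aliasRange_spec E 2046 37528 aliases_18 v (by omega) (by omega)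
            · rcases Nat.lt_or_ge v 41539 with h | h
              · exact aliasRange_spec E 1965 39574 aliases_19 v (by omega) (by omega)
              · exact aliasRange_spec E 2032 41539 aliases_20 v (by omega) (by omega)
    · rcases Nat.lt_or_ge v 65569 with h | h
      · rcases Nat.lt_or_ge v 53573 with h | h
        · rcases Nat.lt_or_ge v 47650 with h | h
          · rcases Nat.lt_or_ge v 45655 with h | h
            · exact aliasRange_spec E 2084 43571 aliases_21 v (by omega) (by omega)
            · exact aliasRange_spec E 1995 45655 aliases_22 v (by omega) (by omega)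
          · rcases Nat.lt_or_ge v 49620 with h | h
            · exact aliasRange_spec E 1970 47650 aliases_23 v (by omega) (by omega)
            · rcases Nat.lt_or_ge v 51626 with h | h
              · exact aliasRange_spec E 2006 49620 aliases_24 v (by omega) (by omega)
              · exact aliasRange_spec E 1947 51626 aliases_25 v (by omega) (by omega)
        · rcases Nat.lt_or_ge v 59752 with h | h
          · rcases Nat.lt_or_ge v 55601 with h | h
            · exact aliasRange_spec E 2028 53573 aliases_26 v (by omega) (by omega)
            · rcases Nat.lt_or_ge v 57668 with h | h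
              · exact aliasRange_spec E 2067 55601 aliases_27 v (by omega) (by omega)
              · exact aliasRange_spec E 2084 57668 aliases_28 v (by omega) (by omega)
          · rcases Nat.lt_or_ge v 61613 with h | h
            · exact aliasRange_spec E 1861 59752 aliases_29 v (by omega) (by omega)
            · rcases Nat.lt_or_ge v 63594 with h | h
              · exact aliasRange_spec E 1981 61613 aliases_30 v (by omega) (by omega)
              · exact aliasRange_spec E 1975 63594 aliases_31 v (by omega) (by omega)
      · rcases Nat.lt_or_ge v 75223 with h | h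
        · rcases Nat.lt_or_ge v 69481 with h | h
          · rcases Nat.lt_or_ge v 67560 with h | h
            · exact aliasRange_spec E 1991 65569 aliases_32 v (by omega) (by omega)
            · exact aliasRange_spec E 1921 67560 aliases_33 v (by omega) (by omega)
          · rcases Nat.lt_or_ge v 71316 with h | h
            · exact aliasRange_spec E 1835 69481 aliases_34 v (by omega) (by omega)
            · rcases Nat.lt_or_ge v 73233 with h | h
              · exact aliasRange_spec E 1917 71316 aliases_35 v (by omega) (by omega)
              · exact aliasRange_spec E 1990 73233 aliases_36 v (by omega) (by omega)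
        · rcases Nat.lt_or_ge v 81161 with h | h
          · rcases Nat.lt_or_ge v 77193 with h | h
            · exact aliasRange_spec E 1970 75223 aliases_37 v (by omega) (by omega)
            · rcases Nat.lt_or_ge v 79167 with h | h
              · exact aliasRange_spec E 1974 77193 aliases_38 v (by omega) (by omega)
              · exact aliasRange_spec E 1994 79167 aliases_39 v (by omega) (by omega)
          · rcases Nat.lt_or_ge v 83091 with h | h
            · exact aliasRange_spec E 1930 81161 aliases_40 v (by omega) (by omega)
            · rcases Nat.lt_or_ge v 84992 with h | h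
              · exact aliasRange_spec E 1901 83091 aliases_41 v (by omega) (by omega)
              · exact aliasRange_spec E 1993 84992 aliases_42 v (by omega) (by omega)
  · rcases Nat.lt_or_ge v 129817 with h | h
    · rcases Nat.lt_or_ge v 108596 with h | h
      · rcases Nat.lt_or_ge v 96708 with h | h
        · rcases Nat.lt_or_ge v 90723 with h | h
          · rcases Nat.lt_or_ge v 88809 with h | h
            · exact aliasRange_spec E 1824 86985 aliases_43 v (by omega) (by omega)
            · exact aliasRange_spec E 1914 88809 aliases_44 v (by omega) (by omega)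
          · rcases Nat.lt_or_ge v 92732 with h | h
            · exact aliasRange_spec E 2009 90723 aliases_45 v (by omega) (by omega)
            · rcases Nat.lt_or_ge v 94766 with h | h
              · exact aliasRange_spec E 2034 92732 aliases_46 v (by omega) (by omega)
              · exact aliasRange_spec E 1942 94766 aliases_47 v (by omega) (by omega)
        · rcases Nat.lt_or_ge v 102750 with h | h
          · rcases Nat.lt_or_ge v 98722 with h | h
            · exact aliasRange_spec E 2014 96708 aliases_48 v (by omega) (by omega)
            · rcases Nat.lt_or_ge v 100775 with h | h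
              · exact aliasRange_spec E 2053 98722 aliases_49 v (by omega) (by omega)
              · exact aliasRange_spec E 1975 100775 aliases_50 v (by omega) (by omega)
          · rcases Nat.lt_or_ge v 104703 with h | h
            · exact aliasRange_spec E 1953 102750 aliases_51 v (by omega) (by omega)
            · rcases Nat.lt_or_ge v 106705 with h | h
              · exact aliasRange_spec E 2002 104703 aliases_52 v (by omega) (by omega)
              · exact aliasRange_spec E 1891 106705 aliases_53 v (by omega) (by omega)
      · rcases Nat.lt_or_ge v 118458 with h | h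
        · rcases Nat.lt_or_ge v 112675 with h | h
          · rcases Nat.lt_or_ge v 110552 with h | h
            · exact aliasRange_spec E 1956 108596 aliases_54 v (by omega) (by omega)
            · exact aliasRange_spec E 2123 110552 aliases_55 v (by omega) (by omega)
          · rcases Nat.lt_or_ge v 114587 with h | h
            · exact aliasRange_spec E 1912 112675 aliases_56 v (by omega) (by omega)
            · rcases Nat.lt_or_ge v 116568 with h | h
              · exact aliasRange_spec E 1981 114587 aliases_57 v (by omega) (by omega)
              · exact aliasRange_spec E 1890 116568 aliases_58 v (by omega) (by omega)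
        · rcases Nat.lt_or_ge v 124206 with h | h
          · rcases Nat.lt_or_ge v 120288 with h | h
            · exact aliasRange_spec E 1830 118458 aliases_59 v (by omega) (by omega)
            · rcases Nat.lt_or_ge v 122283 with h | h
              · exact aliasRange_spec E 1995 120288 aliases_60 v (by omega) (by omega)
              · exact aliasRange_spec E 1923 122283 aliases_61 v (by omega) (by omega)
          · rcases Nat.lt_or_ge v 126133 with h | h
            · exact aliasRange_spec E 1927 124206 aliases_62 v (by omega) (by omega)
            · rcases Nat.lt_or_ge v 127961 with h | h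
              · exact aliasRange_spec E 1828 126133 aliases_63 v (by omega) (by omega)
              · exact aliasRange_spec E 1856 127961 aliases_64 v (by omega) (by omega)
    · rcases Nat.lt_or_ge v 151698 with h | h
      · rcases Nat.lt_or_ge v 139659 with h | h
        · rcases Nat.lt_or_ge v 133582 with h | h
          · rcases Nat.lt_or_ge v 131703 with h | h
            · exact aliasRange_spec E 1886 129817 aliases_65 v (by omega) (by omega)
            · exact aliasRange_spec E 1879 131703 aliases_66 v (by omega) (by omega)
          · rcases Nat.lt_or_ge v 135537 with h | h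
            · exact aliasRange_spec E 1955 133582 aliases_67 v (by omega) (by omega)
            · rcases Nat.lt_or_ge v 137630 with h | h
              · exact aliasRange_spec E 2093 135537 aliases_68 v (by omega) (by omega)
              · exact aliasRange_spec E 2029 137630 aliases_69 v (by omega) (by omega)
        · rcases Nat.lt_or_ge v 145645 with h | h
          · rcases Nat.lt_or_ge v 141586 with h | h
            · exact aliasRange_spec E 1927 139659 aliases_70 v (by omega) (by omega)
            · rcases Nat.lt_or_ge v 143564 with h | h
              · exact aliasRange_spec E 1978 141586 aliases_71 v (by omega) (by omega)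
              · exact aliasRange_spec E 2081 143564 aliases_72 v (by omega) (by omega)
          · rcases Nat.lt_or_ge v 147770 with h | h
            · exact aliasRange_spec E 2125 145645 aliases_73 v (by omega) (by omega)
            · rcases Nat.lt_or_ge v 149769 with h | h
              · exact aliasRange_spec E 1999 147770 aliases_74 v (by omega) (by omega)
              · exact aliasRange_spec E 1929 149769 aliases_75 v (by omega) (by omega)
      · rcases Nat.lt_or_ge v 161682 with h | h
        · rcases Nat.lt_or_ge v 155779 with h | h
          · rcases Nat.lt_or_ge v 153847 with h | h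
            · exact aliasRange_spec E 2149 151698 aliases_76 v (by omega) (by omega)
            · exact aliasRange_spec E 1932 153847 aliases_77 v (by omega) (by omega)
          · rcases Nat.lt_or_ge v 157723 with h | h
            · exact aliasRange_spec E 1944 155779 aliases_78 v (by omega) (by omega)
            · rcases Nat.lt_or_ge v 159852 with h | h
              · exact aliasRange_spec E 2129 157723 aliases_79 v (by omega) (by omega)
              · exact aliasRange_spec E 1830 159852 aliases_80 v (by omega) (by omega)
        · rcases Nat.lt_or_ge v 167541 with h | h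
          · rcases Nat.lt_or_ge v 163627 with h | h
            · exact aliasRange_spec E 1945 161682 aliases_81 v (by omega) (by omega)
            · rcases Nat.lt_or_ge v 165517 with h | h
              · exact aliasRange_spec E 1890 163627 aliases_82 v (by omega) (by omega)
              · exact aliasRange_spec E 2024 165517 aliases_83 v (by omega) (by omega)
          · rcases Nat.lt_or_ge v 169444 with h | h
            · exact aliasRange_spec E 1903 167541 aliases_84 v (by omega) (by omega)
            · rcases Nat.lt_or_ge v 171534 with h | h
              · exact aliasRange_spec E 2090 169444 aliases_85 v (by omega) (by omega)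
              · exact aliasRange_spec E 2755 171534 aliases_86 v (by omega) (by omega)

theorem hrows0 : ∀ v, v < 174289 → tb RS v = true → rowOK2 E RS v E.D.k = true := by
  intro v hv
  rcases Nat.lt_or_ge v 87000 with h | h
  · rcases Nat.lt_or_ge v 43500 with h | h
    · rcases Nat.lt_or_ge v 21000 with h | h
      · rcases Nat.lt_or_ge v 10500 with h | h
        · rcases Nat.lt_or_ge v 4500 with h | h
          · rcases Nat.lt_or_ge v 1500 with h | h
            · exact rowsRange_spec E RS 1500 0 rows_0 v (by omega) (by omega)
            · rcases Nat.lt_or_ge v 3000 with h | h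
              · exact rowsRange_spec E RS 1500 1500 rows_1 v (by omega) (by omega)
              · exact rowsRange_spec E RS 1500 3000 rows_2 v (by omega) (by omega)
          · rcases Nat.lt_or_ge v 7500 with h | h
            · rcases Nat.lt_or_ge v 6000 with h | h
              · exact rowsRange_spec E RS 1500 4500 rows_3 v (by omega) (by omega)
              · exact rowsRange_spec E RS 1500 6000 rows_4 v (by omega) (by omega)
            · rcases Nat.lt_or_ge v 9000 with h | h
              · exact rowsRange_spec E RS 1500 7500 rows_5 v (by omega) (by omega)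
              · exact rowsRange_spec E RS 1500 9000 rows_6 v (by omega) (by omega)
        · rcases Nat.lt_or_ge v 15000 with h | h
          · rcases Nat.lt_or_ge v 12000 with h | h
            · exact rowsRange_spec E RS 1500 10500 rows_7 v (by omega) (by omega)
            · rcases Nat.lt_or_ge v 13500 with h | h
              · exact rowsRange_spec E RS 1500 12000 rows_8 v (by omega) (by omega)
              · exact rowsRange_spec E RS 1500 13500 rows_9 v (by omega) (by omega)
          · rcases Nat.lt_or_ge v 18000 with h | h
            · rcases Nat.lt_or_ge v 16500 with h | h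
              · exact rowsRange_spec E RS 1500 15000 rows_10 v (by omega) (by omega)
              · exact rowsRange_spec E RS 1500 16500 rows_11 v (by omega) (by omega)
            · rcases Nat.lt_or_ge v 19500 with h | h
              · exact rowsRange_spec E RS 1500 18000 rows_12 v (by omega) (by omega)
              · exact rowsRange_spec E RS 1500 19500 rows_13 v (by omega) (by omega)
      · rcases Nat.lt_or_ge v 31500 with h | h
        · rcases Nat.lt_or_ge v 25500 with h | h
          · rcases Nat.lt_or_ge v 22500 with h | h
            · exact rowsRange_spec E RS 1500 21000 rows_14 v (by omega) (by omega)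
            · rcases Nat.lt_or_ge v 24000 with h | h
              · exact rowsRange_spec E RS 1500 22500 rows_15 v (by omega) (by omega)
              · exact rowsRange_spec E RS 1500 24000 rows_16 v (by omega) (by omega)
          · rcases Nat.lt_or_ge v 28500 with h | h
            · rcases Nat.lt_or_ge v 27000 with h | h
              · exact rowsRange_spec E RS 1500 25500 rows_17 v (by omega) (by omega)
              · exact rowsRange_spec E RS 1500 27000 rows_18 v (by omega) (by omega)
            · rcases Nat.lt_or_ge v 30000 with h | h
              · exact rowsRange_spec E RS 1500 28500 rows_19 v (by omega) (by omega)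
              · exact rowsRange_spec E RS 1500 30000 rows_20 v (by omega) (by omega)
        · rcases Nat.lt_or_ge v 37500 with h | h
          · rcases Nat.lt_or_ge v 34500 with h | h
            · rcases Nat.lt_or_ge v 33000 with h | h
              · exact rowsRange_spec E RS 1500 31500 rows_21 v (by omega) (by omega)
              · exact rowsRange_spec E RS 1500 33000 rows_22 v (by omega) (by omega)
            · rcases Nat.lt_or_ge v 36000 with h | h
              · exact rowsRange_spec E RS 1500 34500 rows_23 v (by omega) (by omega)
              · exact rowsRange_spec E RS 1500 36000 rows_24 v (by omega) (by omega)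
          · rcases Nat.lt_or_ge v 40500 with h | h
            · rcases Nat.lt_or_ge v 39000 with h | h
              · exact rowsRange_spec E RS 1500 37500 rows_25 v (by omega) (by omega)
              · exact rowsRange_spec E RS 1500 39000 rows_26 v (by omega) (by omega)
            · rcases Nat.lt_or_ge v 42000 with h | h
              · exact rowsRange_spec E RS 1500 40500 rows_27 v (by omega) (by omega)
              · exact rowsRange_spec E RS 1500 42000 rows_28 v (by omega) (by omega)
    · rcases Nat.lt_or_ge v 64500 with h | h
      · rcases Nat.lt_or_ge v 54000 with h | h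
        · rcases Nat.lt_or_ge v 48000 with h | h
          · rcases Nat.lt_or_ge v 45000 with h | h
            · exact rowsRange_spec E RS 1500 43500 rows_29 v (by omega) (by omega)
            · rcases Nat.lt_or_ge v 46500 with h | h
              · exact rowsRange_spec E RS 1500 45000 rows_30 v (by omega) (by omega)
              · exact rowsRange_spec E RS 1500 46500 rows_31 v (by omega) (by omega)
          · rcases Nat.lt_or_ge v 51000 with h | h
            · rcases Nat.lt_or_ge v 49500 with h | h
              · exact rowsRange_spec E RS 1500 48000 rows_32 v (by omega) (by omega)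
              · exact rowsRange_spec E RS 1500 49500 rows_33 v (by omega) (by omega)
            · rcases Nat.lt_or_ge v 52500 with h | h
              · exact rowsRange_spec E RS 1500 51000 rows_34 v (by omega) (by omega)
              · exact rowsRange_spec E RS 1500 52500 rows_35 v (by omega) (by omega)
        · rcases Nat.lt_or_ge v 58500 with h | h
          · rcases Nat.lt_or_ge v 55500 with h | h
            · exact rowsRange_spec E RS 1500 54000 rows_36 v (by omega) (by omega)
            · rcases Nat.lt_or_ge v 57000 with h | h
              · exact rowsRange_spec E RS 1500 55500 rows_37 v (by omega) (by omega)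
              · exact rowsRange_spec E RS 1500 57000 rows_38 v (by omega) (by omega)
          · rcases Nat.lt_or_ge v 61500 with h | h
            · rcases Nat.lt_or_ge v 60000 with h | h
              · exact rowsRange_spec E RS 1500 58500 rows_39 v (by omega) (by omega)
              · exact rowsRange_spec E RS 1500 60000 rows_40 v (by omega) (by omega)
            · rcases Nat.lt_or_ge v 63000 with h | h
              · exact rowsRange_spec E RS 1500 61500 rows_41 v (by omega) (by omega)
              · exact rowsRange_spec E RS 1500 63000 rows_42 v (by omega) (by omega)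
      · rcases Nat.lt_or_ge v 75000 with h | h
        · rcases Nat.lt_or_ge v 69000 with h | h
          · rcases Nat.lt_or_ge v 66000 with h | h
            · exact rowsRange_spec E RS 1500 64500 rows_43 v (by omega) (by omega)
            · rcases Nat.lt_or_ge v 67500 with h | h
              · exact rowsRange_spec E RS 1500 66000 rows_44 v (by omega) (by omega)
              · exact rowsRange_spec E RS 1500 67500 rows_45 v (by omega) (by omega)
          · rcases Nat.lt_or_ge v 72000 with h | h
            · rcases Nat.lt_or_ge v 70500 with h | h
              · exact rowsRange_spec E RS 1500 69000 rows_46 v (by omega) (by omega)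
              · exact rowsRange_spec E RS 1500 70500 rows_47 v (by omega) (by omega)
            · rcases Nat.lt_or_ge v 73500 with h | h
              · exact rowsRange_spec E RS 1500 72000 rows_48 v (by omega) (by omega)
              · exact rowsRange_spec E RS 1500 73500 rows_49 v (by omega) (by omega)
        · rcases Nat.lt_or_ge v 81000 with h | h
          · rcases Nat.lt_or_ge v 78000 with h | h
            · rcases Nat.lt_or_ge v 76500 with h | h
              · exact rowsRange_spec E RS 1500 75000 rows_50 v (by omega) (by omega)
              · exact rowsRange_spec E RS 1500 76500 rows_51 v (by omega) (by omega)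
            · rcases Nat.lt_or_ge v 79500 with h | h
              · exact rowsRange_spec E RS 1500 78000 rows_52 v (by omega) (by omega)
              · exact rowsRange_spec E RS 1500 79500 rows_53 v (by omega) (by omega)
          · rcases Nat.lt_or_ge v 84000 with h | h
            · rcases Nat.lt_or_ge v 82500 with h | h
              · exact rowsRange_spec E RS 1500 81000 rows_54 v (by omega) (by omega)
              · exact rowsRange_spec E RS 1500 82500 rows_55 v (by omega) (by omega)
            · rcases Nat.lt_or_ge v 85500 with h | h
              · exact rowsRange_spec E RS 1500 84000 rows_56 v (by omega) (by omega)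
              · exact rowsRange_spec E RS 1500 85500 rows_57 v (by omega) (by omega)
  · rcases Nat.lt_or_ge v 130500 with h | h
    · rcases Nat.lt_or_ge v 108000 with h | h
      · rcases Nat.lt_or_ge v 97500 with h | h
        · rcases Nat.lt_or_ge v 91500 with h | h
          · rcases Nat.lt_or_ge v 88500 with h | h
            · exact rowsRange_spec E RS 1500 87000 rows_58 v (by omega) (by omega)
            · rcases Nat.lt_or_ge v 90000 with h | h
              · exact rowsRange_spec E RS 1500 88500 rows_59 v (by omega) (by omega)
              · exact rowsRange_spec E RS 1500 90000 rows_60 v (by omega) (by omega)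
          · rcases Nat.lt_or_ge v 94500 with h | h
            · rcases Nat.lt_or_ge v 93000 with h | h
              · exact rowsRange_spec E RS 1500 91500 rows_61 v (by omega) (by omega)
              · exact rowsRange_spec E RS 1500 93000 rows_62 v (by omega) (by omega)
            · rcases Nat.lt_or_ge v 96000 with h | h
              · exact rowsRange_spec E RS 1500 94500 rows_63 v (by omega) (by omega)
              · exact rowsRange_spec E RS 1500 96000 rows_64 v (by omega) (by omega)
        · rcases Nat.lt_or_ge v 102000 with h | h
          · rcases Nat.lt_or_ge v 99000 with h | h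
            · exact rowsRange_spec E RS 1500 97500 rows_65 v (by omega) (by omega)
            · rcases Nat.lt_or_ge v 100500 with h | h
              · exact rowsRange_spec E RS 1500 99000 rows_66 v (by omega) (by omega)
              · exact rowsRange_spec E RS 1500 100500 rows_67 v (by omega) (by omega)
          · rcases Nat.lt_or_ge v 105000 with h | h
            · rcases Nat.lt_or_ge v 103500 with h | h
              · exact rowsRange_spec E RS 1500 102000 rows_68 v (by omega) (by omega)
              · exact rowsRange_spec E RS 1500 103500 rows_69 v (by omega) (by omega)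
            · rcases Nat.lt_or_ge v 106500 with h | h
              · exact rowsRange_spec E RS 1500 105000 rows_70 v (by omega) (by omega)
              · exact rowsRange_spec E RS 1500 106500 rows_71 v (by omega) (by omega)
      · rcases Nat.lt_or_ge v 118500 with h | h
        · rcases Nat.lt_or_ge v 112500 with h | h
          · rcases Nat.lt_or_ge v 109500 with h | h
            · exact rowsRange_spec E RS 1500 108000 rows_72 v (by omega) (by omega)
            · rcases Nat.lt_or_ge v 111000 with h | h
              · exact rowsRange_spec E RS 1500 109500 rows_73 v (by omega) (by omega)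
              · exact rowsRange_spec E RS 1500 111000 rows_74 v (by omega) (by omega)
          · rcases Nat.lt_or_ge v 115500 with h | h
            · rcases Nat.lt_or_ge v 114000 with h | h
              · exact rowsRange_spec E RS 1500 112500 rows_75 v (by omega) (by omega)
              · exact rowsRange_spec E RS 1500 114000 rows_76 v (by omega) (by omega)
            · rcases Nat.lt_or_ge v 117000 with h | h
              · exact rowsRange_spec E RS 1500 115500 rows_77 v (by omega) (by omega)
              · exact rowsRange_spec E RS 1500 117000 rows_78 v (by omega) (by omega)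
        · rcases Nat.lt_or_ge v 124500 with h | h
          · rcases Nat.lt_or_ge v 121500 with h | h
            · rcases Nat.lt_or_ge v 120000 with h | h
              · exact rowsRange_spec E RS 1500 118500 rows_79 v (by omega) (by omega)
              · exact rowsRange_spec E RS 1500 120000 rows_80 v (by omega) (by omega)
            · rcases Nat.lt_or_ge v 123000 with h | h
              · exact rowsRange_spec E RS 1500 121500 rows_81 v (by omega) (by omega)
              · exact rowsRange_spec E RS 1500 123000 rows_82 v (by omega) (by omega)
          · rcases Nat.lt_or_ge v 127500 with h | h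
            · rcases Nat.lt_or_ge v 126000 with h | h
              · exact rowsRange_spec E RS 1500 124500 rows_83 v (by omega) (by omega)
              · exact rowsRange_spec E RS 1500 126000 rows_84 v (by omega) (by omega)
            · rcases Nat.lt_or_ge v 129000 with h | h
              · exact rowsRange_spec E RS 1500 127500 rows_85 v (by omega) (by omega)
              · exact rowsRange_spec E RS 1500 129000 rows_86 v (by omega) (by omega)
    · rcases Nat.lt_or_ge v 153000 with h | h
      · rcases Nat.lt_or_ge v 141000 with h | h
        · rcases Nat.lt_or_ge v 135000 with h | h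
          · rcases Nat.lt_or_ge v 132000 with h | h
            · exact rowsRange_spec E RS 1500 130500 rows_87 v (by omega) (by omega)
            · rcases Nat.lt_or_ge v 133500 with h | h
              · exact rowsRange_spec E RS 1500 132000 rows_88 v (by omega) (by omega)
              · exact rowsRange_spec E RS 1500 133500 rows_89 v (by omega) (by omega)
          · rcases Nat.lt_or_ge v 138000 with h | h
            · rcases Nat.lt_or_ge v 136500 with h | h
              · exact rowsRange_spec E RS 1500 135000 rows_90 v (by omega) (by omega)
              · exact rowsRange_spec E RS 1500 136500 rows_91 v (by omega) (by omega)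
            · rcases Nat.lt_or_ge v 139500 with h | h
              · exact rowsRange_spec E RS 1500 138000 rows_92 v (by omega) (by omega)
              · exact rowsRange_spec E RS 1500 139500 rows_93 v (by omega) (by omega)
        · rcases Nat.lt_or_ge v 147000 with h | h
          · rcases Nat.lt_or_ge v 144000 with h | h
            · rcases Nat.lt_or_ge v 142500 with h | h
              · exact rowsRange_spec E RS 1500 141000 rows_94 v (by omega) (by omega)
              · exact rowsRange_spec E RS 1500 142500 rows_95 v (by omega) (by omega)
            · rcases Nat.lt_or_ge v 145500 with h | h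
              · exact rowsRange_spec E RS 1500 144000 rows_96 v (by omega) (by omega)
              · exact rowsRange_spec E RS 1500 145500 rows_97 v (by omega) (by omega)
          · rcases Nat.lt_or_ge v 150000 with h | h
            · rcases Nat.lt_or_ge v 148500 with h | h
              · exact rowsRange_spec E RS 1500 147000 rows_98 v (by omega) (by omega)
              · exact rowsRange_spec E RS 1500 148500 rows_99 v (by omega) (by omega)
            · rcases Nat.lt_or_ge v 151500 with h | h
              · exact rowsRange_spec E RS 1500 150000 rows_100 v (by omega) (by omega)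
              · exact rowsRange_spec E RS 1500 151500 rows_101 v (by omega) (by omega)
      · rcases Nat.lt_or_ge v 163500 with h | h
        · rcases Nat.lt_or_ge v 157500 with h | h
          · rcases Nat.lt_or_ge v 154500 with h | h
            · exact rowsRange_spec E RS 1500 153000 rows_102 v (by omega) (by omega)
            · rcases Nat.lt_or_ge v 156000 with h | h
              · exact rowsRange_spec E RS 1500 154500 rows_103 v (by omega) (by omega)
              · exact rowsRange_spec E RS 1500 156000 rows_104 v (by omega) (by omega)
          · rcases Nat.lt_or_ge v 160500 with h | h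
            · rcases Nat.lt_or_ge v 159000 with h | h
              · exact rowsRange_spec E RS 1500 157500 rows_105 v (by omega) (by omega)
              · exact rowsRange_spec E RS 1500 159000 rows_106 v (by omega) (by omega)
            · rcases Nat.lt_or_ge v 162000 with h | h
              · exact rowsRange_spec E RS 1500 160500 rows_107 v (by omega) (by omega)
              · exact rowsRange_spec E RS 1500 162000 rows_108 v (by omega) (by omega)
        · rcases Nat.lt_or_ge v 169500 with h | h
          · rcases Nat.lt_or_ge v 166500 with h | h
            · rcases Nat.lt_or_ge v 165000 with h | h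
              · exact rowsRange_spec E RS 1500 163500 rows_109 v (by omega) (by omega)
              · exact rowsRange_spec E RS 1500 165000 rows_110 v (by omega) (by omega)
            · rcases Nat.lt_or_ge v 168000 with h | h
              · exact rowsRange_spec E RS 1500 166500 rows_111 v (by omega) (by omega)
              · exact rowsRange_spec E RS 1500 168000 rows_112 v (by omega) (by omega)
          · rcases Nat.lt_or_ge v 172500 with h | h
            · rcases Nat.lt_or_ge v 171000 with h | h
              · exact rowsRange_spec E RS 1500 169500 rows_113 v (by omega) (by omega)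
              · exact rowsRange_spec E RS 1500 171000 rows_114 v (by omega) (by omega)
            · rcases Nat.lt_or_ge v 174000 with h | h
              · exact rowsRange_spec E RS 1500 172500 rows_115 v (by omega) (by omega)
              · exact rowsRange_spec E RS 289 174000 rows_116 v (by omega) (by omega)

theorem cb_0 : cntBits RS 0 = 0 := rfl

theorem cb_1 : cntBits RS 20000 = 2530 := by
  have h := cntBits_step RS 0 20000
  rw [cb_0, cnt_0] at h
  exact h

theorem cb_2 : cntBits RS 40000 = 4422 := by
  have h := cntBits_step RS 20000 20000
  rw [cb_1, cnt_1] at h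
  exact h

theorem cb_3 : cntBits RS 60000 = 5329 := by
  have h := cntBits_step RS 40000 20000
  rw [cb_2, cnt_2] at h
  exact h

theorem cb_4 : cntBits RS 80000 = 6112 := by
  have h := cntBits_step RS 60000 20000
  rw [cb_3, cnt_3] at h
  exact h

theorem cb_5 : cntBits RS 100000 = 6754 := by
  have h := cntBits_step RS 80000 20000
  rw [cb_4, cnt_4] at h
  exact h

theorem cb_6 : cntBits RS 120000 = 7148 := by
  have h := cntBits_step RS 100000 20000
  rw [cb_5, cnt_5] at h
  exact h

theorem cb_7 : cntBits RS 140000 = 7465 := by
  have h := cntBits_step RS 120000 20000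
  rw [cb_6, cnt_6] at h
  exact h

theorem cb_8 : cntBits RS 160000 = 7589 := by
  have h := cntBits_step RS 140000 20000
  rw [cb_7, cnt_7] at h
  exact h

theorem cb_9 : cntBits RS 174289 = 8640 := by
  have h := cntBits_step RS 160000 14289
  rw [cb_8, cnt_8] at h
  exact h

theorem set_ok : setOK 174289 8640 RS = true :=
  setOK_of_parts cb_9 set_zero set_lt

theorem relf_0 : ∀ v, v < 8640 → W_0 v = v := by
  intro v hv
  exact fixPtsF_spec W_0 8640 0 relc_0_0 v (by omega) (by omega)

set_option maxRecDepth 1000000 in
theorem walk_0 : ∀ v, walkT ctF (D.wlen 0) (D.wordP 0) v = W_0 v := by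
  intro v
  simp only [W_0, forceL_eq]
  rfl

theorem relw_0 : ∀ v, v < 8640 → walkT ctF (D.wlen 0) (D.wordP 0) v = v := by
  intro v hv
  rw [walk_0]
  exact relf_0 v hv

theorem relf_1 : ∀ v, v < 8640 → W_1 v = v := by
  intro v hv
  exact fixPtsF_spec W_1 8640 0 relc_1_0 v (by omega) (by omega)

set_option maxRecDepth 1000000 in
theorem walk_1 : ∀ v, walkT ctF (D.wlen 1) (D.wordP 1) v = W_1 v := by
  intro v
  simp only [W_1, forceL_eq]
  rfl

theorem relw_1 : ∀ v, v < 8640 → walkT ctF (D.wlen 1) (D.wordP 1) v = v := by
  intro v hv
  rw [walk_1]
  exact relf_1 v hv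

theorem relf_2 : ∀ v, v < 8640 → W_2 v = v := by
  intro v hv
  exact fixPtsF_spec W_2 8640 0 relc_2_0 v (by omega) (by omega)

set_option maxRecDepth 1000000 in
theorem walk_2 : ∀ v, walkT ctF (D.wlen 2) (D.wordP 2) v = W_2 v := by
  intro v
  simp only [W_2, forceL_eq]
  rfl

theorem relw_2 : ∀ v, v < 8640 → walkT ctF (D.wlen 2) (D.wordP 2) v = v := by
  intro v hv
  rw [walk_2]
  exact relf_2 v hv

theorem relf_3 : ∀ v, v < 8640 → W_3 v = v := by
  intro v hv
  exact fixPtsF_spec W_3 8640 0 relc_3_0 v (by omega) (by omega)

set_option maxRecDepth 1000000 in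
theorem walk_3 : ∀ v, walkT ctF (D.wlen 3) (D.wordP 3) v = W_3 v := by
  intro v
  simp only [W_3, forceL_eq]
  rfl

theorem relw_3 : ∀ v, v < 8640 → walkT ctF (D.wlen 3) (D.wordP 3) v = v := by
  intro v hv
  rw [walk_3]
  exact relf_3 v hv

theorem relf_4 : ∀ v, v < 8640 → W_4 v = v := by
  intro v hv
  exact fixPtsF_spec W_4 8640 0 relc_4_0 v (by omega) (by omega)

set_option maxRecDepth 1000000 in
theorem walk_4 : ∀ v, walkT ctF (D.wlen 4) (D.wordP 4) v = W_4 v := by
  intro v
  simp only [W_4, forceL_eq]
  rfl

theorem relw_4 : ∀ v, v < 8640 → walkT ctF (D.wlen 4) (D.wordP 4) v = v := by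
  intro v hv
  rw [walk_4]
  exact relf_4 v hv

theorem relf_5 : ∀ v, v < 8640 → W_5 v = v := by
  intro v hv
  exact fixPtsF_spec W_5 8640 0 relc_5_0 v (by omega) (by omega)

set_option maxRecDepth 1000000 in
theorem walk_5 : ∀ v, walkT ctF (D.wlen 5) (D.wordP 5) v = W_5 v := by
  intro v
  simp only [W_5, forceL_eq]
  rfl

theorem relw_5 : ∀ v, v < 8640 → walkT ctF (D.wlen 5) (D.wordP 5) v = v := by
  intro v hv
  rw [walk_5]
  exact relf_5 v hv

theorem relf_6 : ∀ v, v < 8640 → W_6 v = v := by
  intro v hv
  exact fixPtsF_spec W_6 8640 0 relc_6_0 v (by omega) (by omega)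

set_option maxRecDepth 1000000 in
theorem walk_6 : ∀ v, walkT ctF (D.wlen 6) (D.wordP 6) v = W_6 v := by
  intro v
  simp only [W_6, forceL_eq]
  rfl

theorem relw_6 : ∀ v, v < 8640 → walkT ctF (D.wlen 6) (D.wordP 6) v = v := by
  intro v hv
  rw [walk_6]
  exact relf_6 v hv

theorem relf_7 : ∀ v, v < 8640 → W_7 v = v := by
  intro v hv
  exact fixPtsF_spec W_7 8640 0 relc_7_0 v (by omega) (by omega)

set_option maxRecDepth 1000000 in
theorem walk_7 : ∀ v, walkT ctF (D.wlen 7) (D.wordP 7) v = W_7 v := by
  intro v
  simp only [W_7, forceL_eq]
  rfl

theorem relw_7 : ∀ v, v < 8640 → walkT ctF (D.wlen 7) (D.wordP 7) v = v := by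
  intro v hv
  rw [walk_7]
  exact relf_7 v hv

theorem relf_8 : ∀ v, v < 8640 → W_8 v = v := by
  intro v hv
  exact fixPtsF_spec W_8 8640 0 relc_8_0 v (by omega) (by omega)

set_option maxRecDepth 1000000 in
theorem walk_8 : ∀ v, walkT ctF (D.wlen 8) (D.wordP 8) v = W_8 v := by
  intro v
  simp only [W_8, forceL_eq]
  rfl

theorem relw_8 : ∀ v, v < 8640 → walkT ctF (D.wlen 8) (D.wordP 8) v = v := by
  intro v hv
  rw [walk_8]
  exact relf_8 v hv

theorem relf_9 : ∀ v, v < 8640 → W_9 v = v := by
  intro v hv
  exact fixPtsF_spec W_9 8640 0 relc_9_0 v (by omega) (by omega)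

set_option maxRecDepth 1000000 in
theorem walk_9 : ∀ v, walkT ctF (D.wlen 9) (D.wordP 9) v = W_9 v := by
  intro v
  simp only [W_9, forceL_eq]
  rfl

theorem relw_9 : ∀ v, v < 8640 → walkT ctF (D.wlen 9) (D.wordP 9) v = v := by
  intro v hv
  rw [walk_9]
  exact relf_9 v hv

theorem relf_10 : ∀ v, v < 8640 → W_10 v = v := by
  intro v hv
  exact fixPtsF_spec W_10 8640 0 relc_10_0 v (by omega) (by omega)

set_option maxRecDepth 1000000 in
theorem walk_10 : ∀ v, walkT ctF (D.wlen 10) (D.wordP 10) v = W_10 v := by
  intro v
  simp only [W_10, forceL_eq]
  rfl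

theorem relw_10 : ∀ v, v < 8640 → walkT ctF (D.wlen 10) (D.wordP 10) v = v := by
  intro v hv
  rw [walk_10]
  exact relf_10 v hv

theorem relf_11 : ∀ v, v < 8640 → W_11 v = v := by
  intro v hv
  exact fixPtsF_spec W_11 8640 0 relc_11_0 v (by omega) (by omega)

set_option maxRecDepth 1000000 in
theorem walk_11 : ∀ v, walkT ctF (D.wlen 11) (D.wordP 11) v = W_11 v := by
  intro v
  simp only [W_11, forceL_eq]
  rfl

theorem relw_11 : ∀ v, v < 8640 → walkT ctF (D.wlen 11) (D.wordP 11) v = v := by
  intro v hv
  rw [walk_11]
  exact relf_11 v hv

theorem relf_12 : ∀ v, v < 8640 → W_12 v = v := by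
  intro v hv
  exact fixPtsF_spec W_12 8640 0 relc_12_0 v (by omega) (by omega)

set_option maxRecDepth 1000000 in
theorem walk_12 : ∀ v, walkT ctF (D.wlen 12) (D.wordP 12) v = W_12 v := by
  intro v
  simp only [W_12, forceL_eq]
  rfl

theorem relw_12 : ∀ v, v < 8640 → walkT ctF (D.wlen 12) (D.wordP 12) v = v := by
  intro v hv
  rw [walk_12]
  exact relf_12 v hv

theorem relf_13 : ∀ v, v < 8640 → W_13 v = v := by
  intro v hv
  exact fixPtsF_spec W_13 8640 0 relc_13_0 v (by omega) (by omega)

set_option maxRecDepth 1000000 in
theorem walk_13 : ∀ v, walkT ctF (D.wlen 13) (D.wordP 13) v = W_13 v := by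
  intro v
  simp only [W_13, forceL_eq]
  rfl

theorem relw_13 : ∀ v, v < 8640 → walkT ctF (D.wlen 13) (D.wordP 13) v = v := by
  intro v hv
  rw [walk_13]
  exact relf_13 v hv

theorem relf_14 : ∀ v, v < 8640 → W_14 v = v := by
  intro v hv
  rcases Nat.lt_or_ge v 7692 with h | h
  · exact fixPtsF_spec W_14 7692 0 relc_14_0 v (by omega) (by omega)
  · exact fixPtsF_spec W_14 948 7692 relc_14_1 v (by omega) (by omega)

set_option maxRecDepth 1000000 in
theorem walk_14 : ∀ v, walkT ctF (D.wlen 14) (D.wordP 14) v = W_14 v := by
  intro v
  simp only [W_14, forceL_eq]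
  rfl

theorem relw_14 : ∀ v, v < 8640 → walkT ctF (D.wlen 14) (D.wordP 14) v = v := by
  intro v hv
  rw [walk_14]
  exact relf_14 v hv

theorem relf_15 : ∀ v, v < 8640 → W_15 v = v := by
  intro v hv
  rcases Nat.lt_or_ge v 7692 with h | h
  · exact fixPtsF_spec W_15 7692 0 relc_15_0 v (by omega) (by omega)
  · exact fixPtsF_spec W_15 948 7692 relc_15_1 v (by omega) (by omega)

set_option maxRecDepth 1000000 in
theorem walk_15 : ∀ v, walkT ctF (D.wlen 15) (D.wordP 15) v = W_15 v := by
  intro v
  simp only [W_15, forceL_eq]
  rfl

theorem relw_15 : ∀ v, v < 8640 → walkT ctF (D.wlen 15) (D.wordP 15) v = v := by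
  intro v hv
  rw [walk_15]
  exact relf_15 v hv

theorem relf_16 : ∀ v, v < 8640 → W_16 v = v := by
  intro v hv
  rcases Nat.lt_or_ge v 7692 with h | h
  · exact fixPtsF_spec W_16 7692 0 relc_16_0 v (by omega) (by omega)
  · exact fixPtsF_spec W_16 948 7692 relc_16_1 v (by omega) (by omega)

set_option maxRecDepth 1000000 in
theorem walk_16 : ∀ v, walkT ctF (D.wlen 16) (D.wordP 16) v = W_16 v := by
  intro v
  simp only [W_16, forceL_eq]
  rfl

theorem relw_16 : ∀ v, v < 8640 → walkT ctF (D.wlen 16) (D.wordP 16) v = v := by
  intro v hv
  rw [walk_16]
  exact relf_16 v hv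

theorem relf_17 : ∀ v, v < 8640 → W_17 v = v := by
  intro v hv
  rcases Nat.lt_or_ge v 7692 with h | h
  · exact fixPtsF_spec W_17 7692 0 relc_17_0 v (by omega) (by omega)
  · exact fixPtsF_spec W_17 948 7692 relc_17_1 v (by omega) (by omega)

set_option maxRecDepth 1000000 in
theorem walk_17 : ∀ v, walkT ctF (D.wlen 17) (D.wordP 17) v = W_17 v := by
  intro v
  simp only [W_17, forceL_eq]
  rfl

theorem relw_17 : ∀ v, v < 8640 → walkT ctF (D.wlen 17) (D.wordP 17) v = v := by
  intro v hv
  rw [walk_17]
  exact relf_17 v hv

theorem relf_18 : ∀ v, v < 8640 → W_18 v = v := by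
  intro v hv
  rcases Nat.lt_or_ge v 7692 with h | h
  · exact fixPtsF_spec W_18 7692 0 relc_18_0 v (by omega) (by omega)
  · exact fixPtsF_spec W_18 948 7692 relc_18_1 v (by omega) (by omega)

set_option maxRecDepth 1000000 in
theorem walk_18 : ∀ v, walkT ctF (D.wlen 18) (D.wordP 18) v = W_18 v := by
  intro v
  simp only [W_18, forceL_eq]
  rfl

theorem relw_18 : ∀ v, v < 8640 → walkT ctF (D.wlen 18) (D.wordP 18) v = v := by
  intro v hv
  rw [walk_18]
  exact relf_18 v hv

theorem relf_19 : ∀ v, v < 8640 → W_19 v = v := by
  intro v hv
  rcases Nat.lt_or_ge v 7692 with h | h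
  · exact fixPtsF_spec W_19 7692 0 relc_19_0 v (by omega) (by omega)
  · exact fixPtsF_spec W_19 948 7692 relc_19_1 v (by omega) (by omega)

set_option maxRecDepth 1000000 in
theorem walk_19 : ∀ v, walkT ctF (D.wlen 19) (D.wordP 19) v = W_19 v := by
  intro v
  simp only [W_19, forceL_eq]
  rfl

theorem relw_19 : ∀ v, v < 8640 → walkT ctF (D.wlen 19) (D.wordP 19) v = v := by
  intro v hv
  rw [walk_19]
  exact relf_19 v hv

theorem relf_20 : ∀ v, v < 8640 → W_20 v = v := by
  intro v hv
  rcases Nat.lt_or_ge v 7692 with h | h
  · exact fixPtsF_spec W_20 7692 0 relc_20_0 v (by omega) (by omega)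
  · exact fixPtsF_spec W_20 948 7692 relc_20_1 v (by omega) (by omega)

set_option maxRecDepth 1000000 in
theorem walk_20 : ∀ v, walkT ctF (D.wlen 20) (D.wordP 20) v = W_20 v := by
  intro v
  simp only [W_20, forceL_eq]
  rfl

theorem relw_20 : ∀ v, v < 8640 → walkT ctF (D.wlen 20) (D.wordP 20) v = v := by
  intro v hv
  rw [walk_20]
  exact relf_20 v hv

theorem relf_21 : ∀ v, v < 8640 → W_21 v = v := by
  intro v hv
  rcases Nat.lt_or_ge v 7692 with h | h
  · exact fixPtsF_spec W_21 7692 0 relc_21_0 v (by omega) (by omega)
  · exact fixPtsF_spec W_21 948 7692 relc_21_1 v (by omega) (by omega)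

set_option maxRecDepth 1000000 in
theorem walk_21 : ∀ v, walkT ctF (D.wlen 21) (D.wordP 21) v = W_21 v := by
  intro v
  simp only [W_21, forceL_eq]
  rfl

theorem relw_21 : ∀ v, v < 8640 → walkT ctF (D.wlen 21) (D.wordP 21) v = v := by
  intro v hv
  rw [walk_21]
  exact relf_21 v hv

theorem relf_22 : ∀ v, v < 8640 → W_22 v = v := by
  intro v hv
  rcases Nat.lt_or_ge v 7142 with h | h
  · exact fixPtsF_spec W_22 7142 0 relc_22_0 v (by omega) (by omega)
  · exact fixPtsF_spec W_22 1498 7142 relc_22_1 v (by omega) (by omega)

set_option maxRecDepth 1000000 in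
theorem walk_22 : ∀ v, walkT ctF (D.wlen 22) (D.wordP 22) v = W_22 v := by
  intro v
  simp only [W_22, forceL_eq]
  rfl

theorem relw_22 : ∀ v, v < 8640 → walkT ctF (D.wlen 22) (D.wordP 22) v = v := by
  intro v hv
  rw [walk_22]
  exact relf_22 v hv

theorem relf_23 : ∀ v, v < 8640 → W_23 v = v := by
  intro v hv
  rcases Nat.lt_or_ge v 7142 with h | h
  · exact fixPtsF_spec W_23 7142 0 relc_23_0 v (by omega) (by omega)
  · exact fixPtsF_spec W_23 1498 7142 relc_23_1 v (by omega) (by omega)

set_option maxRecDepth 1000000 in
theorem walk_23 : ∀ v, walkT ctF (D.wlen 23) (D.wordP 23) v = W_23 v := by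
  intro v
  simp only [W_23, forceL_eq]
  rfl

theorem relw_23 : ∀ v, v < 8640 → walkT ctF (D.wlen 23) (D.wordP 23) v = v := by
  intro v hv
  rw [walk_23]
  exact relf_23 v hv

theorem relf_24 : ∀ v, v < 8640 → W_24 v = v := by
  intro v hv
  rcases Nat.lt_or_ge v 7142 with h | h
  · exact fixPtsF_spec W_24 7142 0 relc_24_0 v (by omega) (by omega)
  · exact fixPtsF_spec W_24 1498 7142 relc_24_1 v (by omega) (by omega)

set_option maxRecDepth 1000000 in
theorem walk_24 : ∀ v, walkT ctF (D.wlen 24) (D.wordP 24) v = W_24 v := by
  intro v
  simp only [W_24, forceL_eq]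
  rfl

theorem relw_24 : ∀ v, v < 8640 → walkT ctF (D.wlen 24) (D.wordP 24) v = v := by
  intro v hv
  rw [walk_24]
  exact relf_24 v hv

theorem relf_25 : ∀ v, v < 8640 → W_25 v = v := by
  intro v hv
  rcases Nat.lt_or_ge v 7142 with h | h
  · exact fixPtsF_spec W_25 7142 0 relc_25_0 v (by omega) (by omega)
  · exact fixPtsF_spec W_25 1498 7142 relc_25_1 v (by omega) (by omega)

set_option maxRecDepth 1000000 in
theorem walk_25 : ∀ v, walkT ctF (D.wlen 25) (D.wordP 25) v = W_25 v := by
  intro v
  simp only [W_25, forceL_eq]
  rfl

theorem relw_25 : ∀ v, v < 8640 → walkT ctF (D.wlen 25) (D.wordP 25) v = v := by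
  intro v hv
  rw [walk_25]
  exact relf_25 v hv

theorem relf_26 : ∀ v, v < 8640 → W_26 v = v := by
  intro v hv
  rcases Nat.lt_or_ge v 7142 with h | h
  · exact fixPtsF_spec W_26 7142 0 relc_26_0 v (by omega) (by omega)
  · exact fixPtsF_spec W_26 1498 7142 relc_26_1 v (by omega) (by omega)

set_option maxRecDepth 1000000 in
theorem walk_26 : ∀ v, walkT ctF (D.wlen 26) (D.wordP 26) v = W_26 v := by
  intro v
  simp only [W_26, forceL_eq]
  rfl

theorem relw_26 : ∀ v, v < 8640 → walkT ctF (D.wlen 26) (D.wordP 26) v = v := by
  intro v hv
  rw [walk_26]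
  exact relf_26 v hv

theorem relf_27 : ∀ v, v < 8640 → W_27 v = v := by
  intro v hv
  rcases Nat.lt_or_ge v 7142 with h | h
  · exact fixPtsF_spec W_27 7142 0 relc_27_0 v (by omega) (by omega)
  · exact fixPtsF_spec W_27 1498 7142 relc_27_1 v (by omega) (by omega)

set_option maxRecDepth 1000000 in
theorem walk_27 : ∀ v, walkT ctF (D.wlen 27) (D.wordP 27) v = W_27 v := by
  intro v
  simp only [W_27, forceL_eq]
  rfl

theorem relw_27 : ∀ v, v < 8640 → walkT ctF (D.wlen 27) (D.wordP 27) v = v := by
  intro v hv
  rw [walk_27]
  exact relf_27 v hv

theorem relf_28 : ∀ v, v < 8640 → W_28 v = v := by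
  intro v hv
  rcases Nat.lt_or_ge v 7142 with h | h
  · exact fixPtsF_spec W_28 7142 0 relc_28_0 v (by omega) (by omega)
  · exact fixPtsF_spec W_28 1498 7142 relc_28_1 v (by omega) (by omega)

set_option maxRecDepth 1000000 in
theorem walk_28 : ∀ v, walkT ctF (D.wlen 28) (D.wordP 28) v = W_28 v := by
  intro v
  simp only [W_28, forceL_eq]
  rfl

theorem relw_28 : ∀ v, v < 8640 → walkT ctF (D.wlen 28) (D.wordP 28) v = v := by
  intro v hv
  rw [walk_28]
  exact relf_28 v hv

theorem relf_29 : ∀ v, v < 8640 → W_29 v = v := by
  intro v hv
  rcases Nat.lt_or_ge v 7142 with h | h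
  · exact fixPtsF_spec W_29 7142 0 relc_29_0 v (by omega) (by omega)
  · exact fixPtsF_spec W_29 1498 7142 relc_29_1 v (by omega) (by omega)

set_option maxRecDepth 1000000 in
theorem walk_29 : ∀ v, walkT ctF (D.wlen 29) (D.wordP 29) v = W_29 v := by
  intro v
  simp only [W_29, forceL_eq]
  rfl

theorem relw_29 : ∀ v, v < 8640 → walkT ctF (D.wlen 29) (D.wordP 29) v = v := by
  intro v hv
  rw [walk_29]
  exact relf_29 v hv

theorem relf_30 : ∀ v, v < 8640 → W_30 v = v := by
  intro v hv
  rcases Nat.lt_or_ge v 7142 with h | h
  · exact fixPtsF_spec W_30 7142 0 relc_30_0 v (by omega) (by omega)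
  · exact fixPtsF_spec W_30 1498 7142 relc_30_1 v (by omega) (by omega)

set_option maxRecDepth 1000000 in
theorem walk_30 : ∀ v, walkT ctF (D.wlen 30) (D.wordP 30) v = W_30 v := by
  intro v
  simp only [W_30, forceL_eq]
  rfl

theorem relw_30 : ∀ v, v < 8640 → walkT ctF (D.wlen 30) (D.wordP 30) v = v := by
  intro v hv
  rw [walk_30]
  exact relf_30 v hv

theorem relf_31 : ∀ v, v < 8640 → W_31 v = v := by
  intro v hv
  rcases Nat.lt_or_ge v 7142 with h | h
  · exact fixPtsF_spec W_31 7142 0 relc_31_0 v (by omega) (by omega)
  · exact fixPtsF_spec W_31 1498 7142 relc_31_1 v (by omega) (by omega)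

set_option maxRecDepth 1000000 in
theorem walk_31 : ∀ v, walkT ctF (D.wlen 31) (D.wordP 31) v = W_31 v := by
  intro v
  simp only [W_31, forceL_eq]
  rfl

theorem relw_31 : ∀ v, v < 8640 → walkT ctF (D.wlen 31) (D.wordP 31) v = v := by
  intro v hv
  rw [walk_31]
  exact relf_31 v hv

theorem relf_32 : ∀ v, v < 8640 → W_32 v = v := by
  intro v hv
  rcases Nat.lt_or_ge v 7142 with h | h
  · exact fixPtsF_spec W_32 7142 0 relc_32_0 v (by omega) (by omega)
  · exact fixPtsF_spec W_32 1498 7142 relc_32_1 v (by omega) (by omega)

set_option maxRecDepth 1000000 in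
theorem walk_32 : ∀ v, walkT ctF (D.wlen 32) (D.wordP 32) v = W_32 v := by
  intro v
  simp only [W_32, forceL_eq]
  rfl

theorem relw_32 : ∀ v, v < 8640 → walkT ctF (D.wlen 32) (D.wordP 32) v = v := by
  intro v hv
  rw [walk_32]
  exact relf_32 v hv

theorem relf_33 : ∀ v, v < 8640 → W_33 v = v := by
  intro v hv
  rcases Nat.lt_or_ge v 7142 with h | h
  · exact fixPtsF_spec W_33 7142 0 relc_33_0 v (by omega) (by omega)
  · exact fixPtsF_spec W_33 1498 7142 relc_33_1 v (by omega) (by omega)

set_option maxRecDepth 1000000 in
theorem walk_33 : ∀ v, walkT ctF (D.wlen 33) (D.wordP 33) v = W_33 v := by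
  intro v
  simp only [W_33, forceL_eq]
  rfl

theorem relw_33 : ∀ v, v < 8640 → walkT ctF (D.wlen 33) (D.wordP 33) v = v := by
  intro v hv
  rw [walk_33]
  exact relf_33 v hv

theorem relf_34 : ∀ v, v < 8640 → W_34 v = v := by
  intro v hv
  rcases Nat.lt_or_ge v 7142 with h | h
  · exact fixPtsF_spec W_34 7142 0 relc_34_0 v (by omega) (by omega)
  · exact fixPtsF_spec W_34 1498 7142 relc_34_1 v (by omega) (by omega)

set_option maxRecDepth 1000000 in
theorem walk_34 : ∀ v, walkT ctF (D.wlen 34) (D.wordP 34) v = W_34 v := by
  intro v
  simp only [W_34, forceL_eq]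
  rfl

theorem relw_34 : ∀ v, v < 8640 → walkT ctF (D.wlen 34) (D.wordP 34) v = v := by
  intro v hv
  rw [walk_34]
  exact relf_34 v hv

theorem relf_35 : ∀ v, v < 8640 → W_35 v = v := by
  intro v hv
  rcases Nat.lt_or_ge v 7142 with h | h
  · exact fixPtsF_spec W_35 7142 0 relc_35_0 v (by omega) (by omega)
  · exact fixPtsF_spec W_35 1498 7142 relc_35_1 v (by omega) (by omega)

set_option maxRecDepth 1000000 in
theorem walk_35 : ∀ v, walkT ctF (D.wlen 35) (D.wordP 35) v = W_35 v := by
  intro v
  simp only [W_35, forceL_eq]
  rfl

theorem relw_35 : ∀ v, v < 8640 → walkT ctF (D.wlen 35) (D.wordP 35) v = v := by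
  intro v hv
  rw [walk_35]
  exact relf_35 v hv

theorem relf_36 : ∀ v, v < 8640 → W_36 v = v := by
  intro v hv
  rcases Nat.lt_or_ge v 7142 with h | h
  · exact fixPtsF_spec W_36 7142 0 relc_36_0 v (by omega) (by omega)
  · exact fixPtsF_spec W_36 1498 7142 relc_36_1 v (by omega) (by omega)

set_option maxRecDepth 1000000 in
theorem walk_36 : ∀ v, walkT ctF (D.wlen 36) (D.wordP 36) v = W_36 v := by
  intro v
  simp only [W_36, forceL_eq]
  rfl

theorem relw_36 : ∀ v, v < 8640 → walkT ctF (D.wlen 36) (D.wordP 36) v = v := by
  intro v hv
  rw [walk_36]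
  exact relf_36 v hv

theorem relf_37 : ∀ v, v < 8640 → W_37 v = v := by
  intro v hv
  rcases Nat.lt_or_ge v 7142 with h | h
  · exact fixPtsF_spec W_37 7142 0 relc_37_0 v (by omega) (by omega)
  · exact fixPtsF_spec W_37 1498 7142 relc_37_1 v (by omega) (by omega)

set_option maxRecDepth 1000000 in
theorem walk_37 : ∀ v, walkT ctF (D.wlen 37) (D.wordP 37) v = W_37 v := by
  intro v
  simp only [W_37, forceL_eq]
  rfl

theorem relw_37 : ∀ v, v < 8640 → walkT ctF (D.wlen 37) (D.wordP 37) v = v := by
  intro v hv
  rw [walk_37]
  exact relf_37 v hv

theorem relf_38 : ∀ v, v < 8640 → W_38 v = v := by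
  intro v hv
  rcases Nat.lt_or_ge v 6666 with h | h
  · exact fixPtsF_spec W_38 6666 0 relc_38_0 v (by omega) (by omega)
  · exact fixPtsF_spec W_38 1974 6666 relc_38_1 v (by omega) (by omega)

set_option maxRecDepth 1000000 in
theorem walk_38 : ∀ v, walkT ctF (D.wlen 38) (D.wordP 38) v = W_38 v := by
  intro v
  simp only [W_38, forceL_eq]
  rfl

theorem relw_38 : ∀ v, v < 8640 → walkT ctF (D.wlen 38) (D.wordP 38) v = v := by
  intro v hv
  rw [walk_38]
  exact relf_38 v hv

theorem relf_39 : ∀ v, v < 8640 → W_39 v = v := by
  intro v hv
  rcases Nat.lt_or_ge v 6666 with h | h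
  · exact fixPtsF_spec W_39 6666 0 relc_39_0 v (by omega) (by omega)
  · exact fixPtsF_spec W_39 1974 6666 relc_39_1 v (by omega) (by omega)

set_option maxRecDepth 1000000 in
theorem walk_39 : ∀ v, walkT ctF (D.wlen 39) (D.wordP 39) v = W_39 v := by
  intro v
  simp only [W_39, forceL_eq]
  rfl

theorem relw_39 : ∀ v, v < 8640 → walkT ctF (D.wlen 39) (D.wordP 39) v = v := by
  intro v hv
  rw [walk_39]
  exact relf_39 v hv

theorem relf_40 : ∀ v, v < 8640 → W_40 v = v := by
  intro v hv
  rcases Nat.lt_or_ge v 6666 with h | h
  · exact fixPtsF_spec W_40 6666 0 relc_40_0 v (by omega) (by omega)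
  · exact fixPtsF_spec W_40 1974 6666 relc_40_1 v (by omega) (by omega)

set_option maxRecDepth 1000000 in
theorem walk_40 : ∀ v, walkT ctF (D.wlen 40) (D.wordP 40) v = W_40 v := by
  intro v
  simp only [W_40, forceL_eq]
  rfl

theorem relw_40 : ∀ v, v < 8640 → walkT ctF (D.wlen 40) (D.wordP 40) v = v := by
  intro v hv
  rw [walk_40]
  exact relf_40 v hv

theorem relf_41 : ∀ v, v < 8640 → W_41 v = v := by
  intro v hv
  rcases Nat.lt_or_ge v 6666 with h | h
  · exact fixPtsF_spec W_41 6666 0 relc_41_0 v (by omega) (by omega)
  · exact fixPtsF_spec W_41 1974 6666 relc_41_1 v (by omega) (by omega)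

set_option maxRecDepth 1000000 in
theorem walk_41 : ∀ v, walkT ctF (D.wlen 41) (D.wordP 41) v = W_41 v := by
  intro v
  simp only [W_41, forceL_eq]
  rfl

theorem relw_41 : ∀ v, v < 8640 → walkT ctF (D.wlen 41) (D.wordP 41) v = v := by
  intro v hv
  rw [walk_41]
  exact relf_41 v hv

theorem relf_42 : ∀ v, v < 8640 → W_42 v = v := by
  intro v hv
  rcases Nat.lt_or_ge v 6666 with h | h
  · exact fixPtsF_spec W_42 6666 0 relc_42_0 v (by omega) (by omega)
  · exact fixPtsF_spec W_42 1974 6666 relc_42_1 v (by omega) (by omega)

set_option maxRecDepth 1000000 in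
theorem walk_42 : ∀ v, walkT ctF (D.wlen 42) (D.wordP 42) v = W_42 v := by
  intro v
  simp only [W_42, forceL_eq]
  rfl

theorem relw_42 : ∀ v, v < 8640 → walkT ctF (D.wlen 42) (D.wordP 42) v = v := by
  intro v hv
  rw [walk_42]
  exact relf_42 v hv

theorem relf_43 : ∀ v, v < 8640 → W_43 v = v := by
  intro v hv
  rcases Nat.lt_or_ge v 6666 with h | h
  · exact fixPtsF_spec W_43 6666 0 relc_43_0 v (by omega) (by omega)
  · exact fixPtsF_spec W_43 1974 6666 relc_43_1 v (by omega) (by omega)

set_option maxRecDepth 1000000 in
theorem walk_43 : ∀ v, walkT ctF (D.wlen 43) (D.wordP 43) v = W_43 v := by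
  intro v
  simp only [W_43, forceL_eq]
  rfl

theorem relw_43 : ∀ v, v < 8640 → walkT ctF (D.wlen 43) (D.wordP 43) v = v := by
  intro v hv
  rw [walk_43]
  exact relf_43 v hv

theorem relf_44 : ∀ v, v < 8640 → W_44 v = v := by
  intro v hv
  rcases Nat.lt_or_ge v 6666 with h | h
  · exact fixPtsF_spec W_44 6666 0 relc_44_0 v (by omega) (by omega)
  · exact fixPtsF_spec W_44 1974 6666 relc_44_1 v (by omega) (by omega)

set_option maxRecDepth 1000000 in
theorem walk_44 : ∀ v, walkT ctF (D.wlen 44) (D.wordP 44) v = W_44 v := by
  intro v
  simp only [W_44, forceL_eq]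
  rfl

theorem relw_44 : ∀ v, v < 8640 → walkT ctF (D.wlen 44) (D.wordP 44) v = v := by
  intro v hv
  rw [walk_44]
  exact relf_44 v hv

theorem relf_45 : ∀ v, v < 8640 → W_45 v = v := by
  intro v hv
  rcases Nat.lt_or_ge v 6666 with h | h
  · exact fixPtsF_spec W_45 6666 0 relc_45_0 v (by omega) (by omega)
  · exact fixPtsF_spec W_45 1974 6666 relc_45_1 v (by omega) (by omega)

set_option maxRecDepth 1000000 in
theorem walk_45 : ∀ v, walkT ctF (D.wlen 45) (D.wordP 45) v = W_45 v := by
  intro v
  simp only [W_45, forceL_eq]
  rfl

theorem relw_45 : ∀ v, v < 8640 → walkT ctF (D.wlen 45) (D.wordP 45) v = v := by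
  intro v hv
  rw [walk_45]
  exact relf_45 v hv

theorem relf_46 : ∀ v, v < 8640 → W_46 v = v := by
  intro v hv
  rcases Nat.lt_or_ge v 6250 with h | h
  · exact fixPtsF_spec W_46 6250 0 relc_46_0 v (by omega) (by omega)
  · exact fixPtsF_spec W_46 2390 6250 relc_46_1 v (by omega) (by omega)

set_option maxRecDepth 1000000 in
theorem walk_46 : ∀ v, walkT ctF (D.wlen 46) (D.wordP 46) v = W_46 v := by
  intro v
  simp only [W_46, forceL_eq]
  rfl

theorem relw_46 : ∀ v, v < 8640 → walkT ctF (D.wlen 46) (D.wordP 46) v = v := by
  intro v hv
  rw [walk_46]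
  exact relf_46 v hv

theorem relf_47 : ∀ v, v < 8640 → W_47 v = v := by
  intro v hv
  rcases Nat.lt_or_ge v 6250 with h | h
  · exact fixPtsF_spec W_47 6250 0 relc_47_0 v (by omega) (by omega)
  · exact fixPtsF_spec W_47 2390 6250 relc_47_1 v (by omega) (by omega)

set_option maxRecDepth 1000000 in
theorem walk_47 : ∀ v, walkT ctF (D.wlen 47) (D.wordP 47) v = W_47 v := by
  intro v
  simp only [W_47, forceL_eq]
  rfl

theorem relw_47 : ∀ v, v < 8640 → walkT ctF (D.wlen 47) (D.wordP 47) v = v := by
  intro v hv
  rw [walk_47]
  exact relf_47 v hv

theorem relf_48 : ∀ v, v < 8640 → W_48 v = v := by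
  intro v hv
  rcases Nat.lt_or_ge v 6250 with h | h
  · exact fixPtsF_spec W_48 6250 0 relc_48_0 v (by omega) (by omega)
  · exact fixPtsF_spec W_48 2390 6250 relc_48_1 v (by omega) (by omega)

set_option maxRecDepth 1000000 in
theorem walk_48 : ∀ v, walkT ctF (D.wlen 48) (D.wordP 48) v = W_48 v := by
  intro v
  simp only [W_48, forceL_eq]
  rfl

theorem relw_48 : ∀ v, v < 8640 → walkT ctF (D.wlen 48) (D.wordP 48) v = v := by
  intro v hv
  rw [walk_48]
  exact relf_48 v hv

theorem relf_49 : ∀ v, v < 8640 → W_49 v = v := by
  intro v hv
  rcases Nat.lt_or_ge v 6250 with h | h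
  · exact fixPtsF_spec W_49 6250 0 relc_49_0 v (by omega) (by omega)
  · exact fixPtsF_spec W_49 2390 6250 relc_49_1 v (by omega) (by omega)

set_option maxRecDepth 1000000 in
theorem walk_49 : ∀ v, walkT ctF (D.wlen 49) (D.wordP 49) v = W_49 v := by
  intro v
  simp only [W_49, forceL_eq]
  rfl

theorem relw_49 : ∀ v, v < 8640 → walkT ctF (D.wlen 49) (D.wordP 49) v = v := by
  intro v hv
  rw [walk_49]
  exact relf_49 v hv

theorem relf_50 : ∀ v, v < 8640 → W_50 v = v := by
  intro v hv
  rcases Nat.lt_or_ge v 6250 with h | h
  · exact fixPtsF_spec W_50 6250 0 relc_50_0 v (by omega) (by omega)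
  · exact fixPtsF_spec W_50 2390 6250 relc_50_1 v (by omega) (by omega)

set_option maxRecDepth 1000000 in
theorem walk_50 : ∀ v, walkT ctF (D.wlen 50) (D.wordP 50) v = W_50 v := by
  intro v
  simp only [W_50, forceL_eq]
  rfl

theorem relw_50 : ∀ v, v < 8640 → walkT ctF (D.wlen 50) (D.wordP 50) v = v := by
  intro v hv
  rw [walk_50]
  exact relf_50 v hv

theorem relf_51 : ∀ v, v < 8640 → W_51 v = v := by
  intro v hv
  rcases Nat.lt_or_ge v 6250 with h | h
  · exact fixPtsF_spec W_51 6250 0 relc_51_0 v (by omega) (by omega)
  · exact fixPtsF_spec W_51 2390 6250 relc_51_1 v (by omega) (by omega)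

set_option maxRecDepth 1000000 in
theorem walk_51 : ∀ v, walkT ctF (D.wlen 51) (D.wordP 51) v = W_51 v := by
  intro v
  simp only [W_51, forceL_eq]
  rfl

theorem relw_51 : ∀ v, v < 8640 → walkT ctF (D.wlen 51) (D.wordP 51) v = v := by
  intro v hv
  rw [walk_51]
  exact relf_51 v hv

theorem relf_52 : ∀ v, v < 8640 → W_52 v = v := by
  intro v hv
  rcases Nat.lt_or_ge v 6250 with h | h
  · exact fixPtsF_spec W_52 6250 0 relc_52_0 v (by omega) (by omega)
  · exact fixPtsF_spec W_52 2390 6250 relc_52_1 v (by omega) (by omega)

set_option maxRecDepth 1000000 in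
theorem walk_52 : ∀ v, walkT ctF (D.wlen 52) (D.wordP 52) v = W_52 v := by
  intro v
  simp only [W_52, forceL_eq]
  rfl

theorem relw_52 : ∀ v, v < 8640 → walkT ctF (D.wlen 52) (D.wordP 52) v = v := by
  intro v hv
  rw [walk_52]
  exact relf_52 v hv

theorem relf_53 : ∀ v, v < 8640 → W_53 v = v := by
  intro v hv
  rcases Nat.lt_or_ge v 6250 with h | h
  · exact fixPtsF_spec W_53 6250 0 relc_53_0 v (by omega) (by omega)
  · exact fixPtsF_spec W_53 2390 6250 relc_53_1 v (by omega) (by omega)

set_option maxRecDepth 1000000 in
theorem walk_53 : ∀ v, walkT ctF (D.wlen 53) (D.wordP 53) v = W_53 v := by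
  intro v
  simp only [W_53, forceL_eq]
  rfl

theorem relw_53 : ∀ v, v < 8640 → walkT ctF (D.wlen 53) (D.wordP 53) v = v := by
  intro v hv
  rw [walk_53]
  exact relf_53 v hv

theorem relf_54 : ∀ v, v < 8640 → W_54 v = v := by
  intro v hv
  rcases Nat.lt_or_ge v 4938 with h | h
  · rcases Nat.lt_or_ge v 2469 with h | h
    · exact fixPtsF_spec W_54 2469 0 relc_54_0 v (by omega) (by omega)
    · exact fixPtsF_spec W_54 2469 2469 relc_54_1 v (by omega) (by omega)
  · rcases Nat.lt_or_ge v 7407 with h | h
    · exact fixPtsF_spec W_54 2469 4938 relc_54_2 v (by omega) (by omega)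
    · exact fixPtsF_spec W_54 1233 7407 relc_54_3 v (by omega) (by omega)

set_option maxRecDepth 1000000 in
theorem walk_54 : ∀ v, walkT ctF (D.wlen 54) (D.wordP 54) v = W_54 v := by
  intro v
  simp only [W_54, forceL_eq]
  rfl

theorem relw_54 : ∀ v, v < 8640 → walkT ctF (D.wlen 54) (D.wordP 54) v = v := by
  intro v hv
  rw [walk_54]
  exact relf_54 v hv

theorem relf_55 : ∀ v, v < 8640 → W_55 v = v := by
  intro v hv
  rcases Nat.lt_or_ge v 4938 with h | h
  · rcases Nat.lt_or_ge v 2469 with h | h
    · exact fixPtsF_spec W_55 2469 0 relc_55_0 v (by omega) (by omega)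
    · exact fixPtsF_spec W_55 2469 2469 relc_55_1 v (by omega) (by omega)
  · rcases Nat.lt_or_ge v 7407 with h | h
    · exact fixPtsF_spec W_55 2469 4938 relc_55_2 v (by omega) (by omega)
    · exact fixPtsF_spec W_55 1233 7407 relc_55_3 v (by omega) (by omega)

set_option maxRecDepth 1000000 in
theorem walk_55 : ∀ v, walkT ctF (D.wlen 55) (D.wordP 55) v = W_55 v := by
  intro v
  simp only [W_55, forceL_eq]
  rfl

theorem relw_55 : ∀ v, v < 8640 → walkT ctF (D.wlen 55) (D.wordP 55) v = v := by
  intro v hv
  rw [walk_55]
  exact relf_55 v hv

theorem relf_56 : ∀ v, v < 8640 → W_56 v = v := by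
  intro v hv
  rcases Nat.lt_or_ge v 4444 with h | h
  · rcases Nat.lt_or_ge v 2222 with h | h
    · exact fixPtsF_spec W_56 2222 0 relc_56_0 v (by omega) (by omega)
    · exact fixPtsF_spec W_56 2222 2222 relc_56_1 v (by omega) (by omega)
  · rcases Nat.lt_or_ge v 6666 with h | h
    · exact fixPtsF_spec W_56 2222 4444 relc_56_2 v (by omega) (by omega)
    · exact fixPtsF_spec W_56 1974 6666 relc_56_3 v (by omega) (by omega)

set_option maxRecDepth 1000000 in
theorem walk_56 : ∀ v, walkT ctF (D.wlen 56) (D.wordP 56) v = W_56 v := by
  intro v
  simp only [W_56, forceL_eq]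
  rfl

theorem relw_56 : ∀ v, v < 8640 → walkT ctF (D.wlen 56) (D.wordP 56) v = v := by
  intro v hv
  rw [walk_56]
  exact relf_56 v hv

theorem relf_57 : ∀ v, v < 8640 → W_57 v = v := by
  intro v hv
  rcases Nat.lt_or_ge v 4444 with h | h
  · rcases Nat.lt_or_ge v 2222 with h | h
    · exact fixPtsF_spec W_57 2222 0 relc_57_0 v (by omega) (by omega)
    · exact fixPtsF_spec W_57 2222 2222 relc_57_1 v (by omega) (by omega)
  · rcases Nat.lt_or_ge v 6666 with h | h
    · exact fixPtsF_spec W_57 2222 4444 relc_57_2 v (by omega) (by omega)
    · exact fixPtsF_spec W_57 1974 6666 relc_57_3 v (by omega) (by omega)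

set_option maxRecDepth 1000000 in
theorem walk_57 : ∀ v, walkT ctF (D.wlen 57) (D.wordP 57) v = W_57 v := by
  intro v
  simp only [W_57, forceL_eq]
  rfl

theorem relw_57 : ∀ v, v < 8640 → walkT ctF (D.wlen 57) (D.wordP 57) v = v := by
  intro v hv
  rw [walk_57]
  exact relf_57 v hv

theorem relf_58 : ∀ v, v < 8640 → W_58 v = v := by
  intro v hv
  rcases Nat.lt_or_ge v 3702 with h | h
  · rcases Nat.lt_or_ge v 1851 with h | h
    · exact fixPtsF_spec W_58 1851 0 relc_58_0 v (by omega) (by omega)
    · exact fixPtsF_spec W_58 1851 1851 relc_58_1 v (by omega) (by omega)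
  · rcases Nat.lt_or_ge v 5553 with h | h
    · exact fixPtsF_spec W_58 1851 3702 relc_58_2 v (by omega) (by omega)
    · rcases Nat.lt_or_ge v 7404 with h | h
      · exact fixPtsF_spec W_58 1851 5553 relc_58_3 v (by omega) (by omega)
      · exact fixPtsF_spec W_58 1236 7404 relc_58_4 v (by omega) (by omega)

set_option maxRecDepth 1000000 in
theorem walk_58 : ∀ v, walkT ctF (D.wlen 58) (D.wordP 58) v = W_58 v := by
  intro v
  simp only [W_58, forceL_eq]
  rfl

theorem relw_58 : ∀ v, v < 8640 → walkT ctF (D.wlen 58) (D.wordP 58) v = v := by
  intro v hv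
  rw [walk_58]
  exact relf_58 v hv

theorem relf_59 : ∀ v, v < 8640 → W_59 v = v := by
  intro v hv
  rcases Nat.lt_or_ge v 3702 with h | h
  · rcases Nat.lt_or_ge v 1851 with h | h
    · exact fixPtsF_spec W_59 1851 0 relc_59_0 v (by omega) (by omega)
    · exact fixPtsF_spec W_59 1851 1851 relc_59_1 v (by omega) (by omega)
  · rcases Nat.lt_or_ge v 5553 with h | h
    · exact fixPtsF_spec W_59 1851 3702 relc_59_2 v (by omega) (by omega)
    · rcases Nat.lt_or_ge v 7404 with h | h
      · exact fixPtsF_spec W_59 1851 5553 relc_59_3 v (by omega) (by omega)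
      · exact fixPtsF_spec W_59 1236 7404 relc_59_4 v (by omega) (by omega)

set_option maxRecDepth 1000000 in
theorem walk_59 : ∀ v, walkT ctF (D.wlen 59) (D.wordP 59) v = W_59 v := by
  intro v
  simp only [W_59, forceL_eq]
  rfl

theorem relw_59 : ∀ v, v < 8640 → walkT ctF (D.wlen 59) (D.wordP 59) v = v := by
  intro v hv
  rw [walk_59]
  exact relf_59 v hv

theorem relf_60 : ∀ v, v < 8640 → W_60 v = v := by
  intro v hv
  rcases Nat.lt_or_ge v 3702 with h | h
  · rcases Nat.lt_or_ge v 1851 with h | h
    · exact fixPtsF_spec W_60 1851 0 relc_60_0 v (by omega) (by omega)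
    · exact fixPtsF_spec W_60 1851 1851 relc_60_1 v (by omega) (by omega)
  · rcases Nat.lt_or_ge v 5553 with h | h
    · exact fixPtsF_spec W_60 1851 3702 relc_60_2 v (by omega) (by omega)
    · rcases Nat.lt_or_ge v 7404 with h | h
      · exact fixPtsF_spec W_60 1851 5553 relc_60_3 v (by omega) (by omega)
      · exact fixPtsF_spec W_60 1236 7404 relc_60_4 v (by omega) (by omega)

set_option maxRecDepth 1000000 in
theorem walk_60 : ∀ v, walkT ctF (D.wlen 60) (D.wordP 60) v = W_60 v := by
  intro v
  simp only [W_60, forceL_eq]
  rfl

theorem relw_60 : ∀ v, v < 8640 → walkT ctF (D.wlen 60) (D.wordP 60) v = v := by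
  intro v hv
  rw [walk_60]
  exact relf_60 v hv

theorem relf_61 : ∀ v, v < 8640 → W_61 v = v := by
  intro v hv
  rcases Nat.lt_or_ge v 3702 with h | h
  · rcases Nat.lt_or_ge v 1851 with h | h
    · exact fixPtsF_spec W_61 1851 0 relc_61_0 v (by omega) (by omega)
    · exact fixPtsF_spec W_61 1851 1851 relc_61_1 v (by omega) (by omega)
  · rcases Nat.lt_or_ge v 5553 with h | h
    · exact fixPtsF_spec W_61 1851 3702 relc_61_2 v (by omega) (by omega)
    · rcases Nat.lt_or_ge v 7404 with h | h
      · exact fixPtsF_spec W_61 1851 5553 relc_61_3 v (by omega) (by omega)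
      · exact fixPtsF_spec W_61 1236 7404 relc_61_4 v (by omega) (by omega)

set_option maxRecDepth 1000000 in
theorem walk_61 : ∀ v, walkT ctF (D.wlen 61) (D.wordP 61) v = W_61 v := by
  intro v
  simp only [W_61, forceL_eq]
  rfl

theorem relw_61 : ∀ v, v < 8640 → walkT ctF (D.wlen 61) (D.wordP 61) v = v := by
  intro v hv
  rw [walk_61]
  exact relf_61 v hv

theorem relf_62 : ∀ v, v < 8640 → W_62 v = v := by
  intro v hv
  rcases Nat.lt_or_ge v 5127 with h | h
  · rcases Nat.lt_or_ge v 1709 with h | h
    · exact fixPtsF_spec W_62 1709 0 relc_62_0 v (by omega) (by omega)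
    · rcases Nat.lt_or_ge v 3418 with h | h
      · exact fixPtsF_spec W_62 1709 1709 relc_62_1 v (by omega) (by omega)
      · exact fixPtsF_spec W_62 1709 3418 relc_62_2 v (by omega) (by omega)
  · rcases Nat.lt_or_ge v 6836 with h | h
    · exact fixPtsF_spec W_62 1709 5127 relc_62_3 v (by omega) (by omega)
    · rcases Nat.lt_or_ge v 8545 with h | h
      · exact fixPtsF_spec W_62 1709 6836 relc_62_4 v (by omega) (by omega)
      · exact fixPtsF_spec W_62 95 8545 relc_62_5 v (by omega) (by omega)

set_option maxRecDepth 1000000 in
theorem walk_62 : ∀ v, walkT ctF (D.wlen 62) (D.wordP 62) v = W_62 v := by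
  intro v
  simp only [W_62, forceL_eq]
  rfl

theorem relw_62 : ∀ v, v < 8640 → walkT ctF (D.wlen 62) (D.wordP 62) v = v := by
  intro v hv
  rw [walk_62]
  exact relf_62 v hv

theorem relf_63 : ∀ v, v < 8640 → W_63 v = v := by
  intro v hv
  rcases Nat.lt_or_ge v 5127 with h | h
  · rcases Nat.lt_or_ge v 1709 with h | h
    · exact fixPtsF_spec W_63 1709 0 relc_63_0 v (by omega) (by omega)
    · rcases Nat.lt_or_ge v 3418 with h | h
      · exact fixPtsF_spec W_63 1709 1709 relc_63_1 v (by omega) (by omega)
      · exact fixPtsF_spec W_63 1709 3418 relc_63_2 v (by omega) (by omega)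
  · rcases Nat.lt_or_ge v 6836 with h | h
    · exact fixPtsF_spec W_63 1709 5127 relc_63_3 v (by omega) (by omega)
    · rcases Nat.lt_or_ge v 8545 with h | h
      · exact fixPtsF_spec W_63 1709 6836 relc_63_4 v (by omega) (by omega)
      · exact fixPtsF_spec W_63 95 8545 relc_63_5 v (by omega) (by omega)

set_option maxRecDepth 1000000 in
theorem walk_63 : ∀ v, walkT ctF (D.wlen 63) (D.wordP 63) v = W_63 v := by
  intro v
  simp only [W_63, forceL_eq]
  rfl

theorem relw_63 : ∀ v, v < 8640 → walkT ctF (D.wlen 63) (D.wordP 63) v = v := by
  intro v hv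
  rw [walk_63]
  exact relf_63 v hv

theorem relf_64 : ∀ v, v < 8640 → W_64 v = v := by
  intro v hv
  rcases Nat.lt_or_ge v 5127 with h | h
  · rcases Nat.lt_or_ge v 1709 with h | h
    · exact fixPtsF_spec W_64 1709 0 relc_64_0 v (by omega) (by omega)
    · rcases Nat.lt_or_ge v 3418 with h | h
      · exact fixPtsF_spec W_64 1709 1709 relc_64_1 v (by omega) (by omega)
      · exact fixPtsF_spec W_64 1709 3418 relc_64_2 v (by omega) (by omega)
  · rcases Nat.lt_or_ge v 6836 with h | h
    · exact fixPtsF_spec W_64 1709 5127 relc_64_3 v (by omega) (by omega)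
    · rcases Nat.lt_or_ge v 8545 with h | h
      · exact fixPtsF_spec W_64 1709 6836 relc_64_4 v (by omega) (by omega)
      · exact fixPtsF_spec W_64 95 8545 relc_64_5 v (by omega) (by omega)

set_option maxRecDepth 1000000 in
theorem walk_64 : ∀ v, walkT ctF (D.wlen 64) (D.wordP 64) v = W_64 v := by
  intro v
  simp only [W_64, forceL_eq]
  rfl

theorem relw_64 : ∀ v, v < 8640 → walkT ctF (D.wlen 64) (D.wordP 64) v = v := by
  intro v hv
  rw [walk_64]
  exact relf_64 v hv

theorem relf_65 : ∀ v, v < 8640 → W_65 v = v := by
  intro v hv
  rcases Nat.lt_or_ge v 5127 with h | h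
  · rcases Nat.lt_or_ge v 1709 with h | h
    · exact fixPtsF_spec W_65 1709 0 relc_65_0 v (by omega) (by omega)
    · rcases Nat.lt_or_ge v 3418 with h | h
      · exact fixPtsF_spec W_65 1709 1709 relc_65_1 v (by omega) (by omega)
      · exact fixPtsF_spec W_65 1709 3418 relc_65_2 v (by omega) (by omega)
  · rcases Nat.lt_or_ge v 6836 with h | h
    · exact fixPtsF_spec W_65 1709 5127 relc_65_3 v (by omega) (by omega)
    · rcases Nat.lt_or_ge v 8545 with h | h
      · exact fixPtsF_spec W_65 1709 6836 relc_65_4 v (by omega) (by omega)
      · exact fixPtsF_spec W_65 95 8545 relc_65_5 v (by omega) (by omega)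

set_option maxRecDepth 1000000 in
theorem walk_65 : ∀ v, walkT ctF (D.wlen 65) (D.wordP 65) v = W_65 v := by
  intro v
  simp only [W_65, forceL_eq]
  rfl

theorem relw_65 : ∀ v, v < 8640 → walkT ctF (D.wlen 65) (D.wordP 65) v = v := by
  intro v hv
  rw [walk_65]
  exact relf_65 v hv

theorem invx_0 : ∀ v, v < 8640 → ctF 0 v < 8640 ∧ ctF 1 (ctF 0 v) = v := by
  intro v hv
  exact invRowFI_spec ctF 8640 0 1 8640 0 inv_0_0 v (by omega) (by omega)

theorem invx_1 : ∀ v, v < 8640 → ctF 1 v < 8640 ∧ ctF 0 (ctF 1 v) = v := by
  intro v hv
  exact invRowFI_spec ctF 8640 1 0 8640 0 inv_1_0 v (by omega) (by omega)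

theorem invx_2 : ∀ v, v < 8640 → ctF 2 v < 8640 ∧ ctF 3 (ctF 2 v) = v := by
  intro v hv
  exact invRowFI_spec ctF 8640 2 3 8640 0 inv_2_0 v (by omega) (by omega)

theorem invx_3 : ∀ v, v < 8640 → ctF 3 v < 8640 ∧ ctF 2 (ctF 3 v) = v := by
  intro v hv
  exact invRowFI_spec ctF 8640 3 2 8640 0 inv_3_0 v (by omega) (by omega)

theorem hconn : ∀ v, v < 8640 → v ≠ 0 → ∃ x, x < E.D.k ∧ ctF x v < v := by
  intro v hv
  exact connF_spec ctF 4 8640 0 conn_0 v (by omega) (by omega)

theorem hE : ∀ v, v < E.M → ∀ x, x < E.D.k → edgeOKI iota E x v = true := by
  intro v hv x hx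
  have hv' : v < 174289 := hv
  have hx' : x < 4 := hx
  interval_cases x
  · exact edgesx_0 v hv'
  · exact edgesx_1 v hv'
  · exact edgesx_2 v hv'
  · exact edgesx_3 v hv'

theorem hA : ∀ v, v < E.M → aliasOK E v = true := fun v hv => hA0 v hv

theorem hrows : ∀ v, v < E.M → tb RS v = true → rowOK2 E RS v E.D.k = true := fun v hv => hrows0 v hv

theorem hT : ∀ x, x < E.D.k → ∀ v, v < 8640 → ctF x v < 8640 ∧ ctF (iota x) (ctF x v) = v := by
  intro x hx
  have hx' : x < 4 := hx
  interval_cases x
  · exact invx_0
  · exact invx_1
  · exact invx_2
  · exact invx_3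

theorem hltr : ∀ j, j < E.D.nw → lettersOK E.D.k (E.D.wlen j) (E.D.wordP j) = true :=
  wordsOK_spec D D.nw words_ok

theorem hrelT : ∀ wi, wi < E.D.nrel → ∀ v, v < 8640 →
    walkT ctF (E.D.wlen wi) (E.D.wordP wi) v = v := by
  intro wi hwi
  have hwi' : wi < 66 := hwi
  interval_cases wi
  · exact relw_0
  · exact relw_1
  · exact relw_2
  · exact relw_3
  · exact relw_4
  · exact relw_5
  · exact relw_6
  · exact relw_7
  · exact relw_8
  · exact relw_9
  · exact relw_10
  · exact relw_11
  · exact relw_12
  · exact relw_13
  · exact relw_14
  · exact relw_15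
  · exact relw_16
  · exact relw_17
  · exact relw_18
  · exact relw_19
  · exact relw_20
  · exact relw_21
  · exact relw_22
  · exact relw_23
  · exact relw_24
  · exact relw_25
  · exact relw_26
  · exact relw_27
  · exact relw_28
  · exact relw_29
  · exact relw_30
  · exact relw_31
  · exact relw_32
  · exact relw_33
  · exact relw_34
  · exact relw_35
  · exact relw_36
  · exact relw_37
  · exact relw_38
  · exact relw_39
  · exact relw_40
  · exact relw_41
  · exact relw_42
  · exact relw_43
  · exact relw_44
  · exact relw_45
  · exact relw_46
  · exact relw_47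
  · exact relw_48
  · exact relw_49
  · exact relw_50
  · exact relw_51
  · exact relw_52
  · exact relw_53
  · exact relw_54
  · exact relw_55
  · exact relw_56
  · exact relw_57
  · exact relw_58
  · exact relw_59
  · exact relw_60
  · exact relw_61
  · exact relw_62
  · exact relw_63
  · exact relw_64
  · exact relw_65

theorem hsubT : ∀ wi, wi < E.D.nw → E.D.nrel ≤ wi →
    walkT ctF (E.D.wlen wi) (E.D.wordP wi) 0 = 0 :=
  subAll_spec ctF D D.nw sub_ok

end Cfsg.Agent.Helper5.L34TTC
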