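import Mathlib
import Cfsg.Agent.Helper5.StemPE
import Cfsg.Agent.Helper5.StemPG
import Cfsg.Agent.Helper5.StemPI
import Cfsg.Agent.Helper5.StemPK
import Cfsg.Agent.Helper5.L34Gen
import Cfsg.Agent.Helper5.L34DTCSum
import Cfsg.Agent.Helper5.L34TTCSum

/-! generated: the Schur multiplier of `PSL(3,4)`, in the guise of the stabilizer of three points in
the Mathieu group `M24`, is `C₃ × C₄ × C₄` -/

set_option autoImplicit false

namespace Cfsg.Agent.Helper5.L34Cov

open Cfsg Cfsg.Agent.Helper9.Golay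
open Cfsg.Agent.Helper5.TC Cfsg.Agent.Helper5.TCI Cfsg.Agent.Helper5.LP Cfsg.Agent.Helper5.StemP

/-- the inverse letter. -/
def iot (x : ℕ) : ℕ :=
  (bif Nat.beq x 0 then 1 else (bif Nat.beq x 1 then 0 else (bif Nat.beq x 2 then 3 else
    (bif Nat.beq x 3 then 2 else x))))

theorem iot_ge (x : ℕ) (hx : 16 ≤ x) : iot x = x := by
  unfold iot
  have h0 : Nat.beq x 0 = false := by
    apply Bool.eq_false_iff.mpr; intro hh; have := Nat.eq_of_beq_eq_true hh; omega
  have h1 : Nat.beq x 1 = false := by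
    apply Bool.eq_false_iff.mpr; intro hh; have := Nat.eq_of_beq_eq_true hh; omega
  have h2 : Nat.beq x 2 = false := by
    apply Bool.eq_false_iff.mpr; intro hh; have := Nat.eq_of_beq_eq_true hh; omega
  have h3 : Nat.beq x 3 = false := by
    apply Bool.eq_false_iff.mpr; intro hh; have := Nat.eq_of_beq_eq_true hh; omega
  simp only [h0, h1, h2, h3, cond_false]

theorem iot_iot : ∀ x, iot (iot x) = x := by
  intro x
  rcases Nat.lt_or_ge x 16 with h | h
  · interval_cases x <;> rfl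
  · rw [iot_ge x h, iot_ge x h]

theorem iot_lt : ∀ x, x < 2 * 2 → iot x < 2 * 2 := by
  intro x hx
  interval_cases x <;> decide

theorem iot_lt16 : ∀ x, x < 16 → iot x < 16 := by
  intro x hx
  interval_cases x <;> decide

/-- the central words for the prime 2. -/
def CD : List (List ℕ) := CC.take 16

/-- the torsion words for the prime 3. -/
def TT : List (List ℕ) := CC.take 12

/-- the relators of the covering presentation for the prime 2. -/
abbrev RD : List (List ℕ) := coverRels 2 mm CD CD 8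

/-- the relators of the covering presentation for the prime 3. -/
abbrev RT : List (List ℕ) := coverRels 2 mm CC TT 9

set_option maxRecDepth 1000000 in
theorem wordsD : ∀ i (hi : i < (RD ++ letterWords 1).length),
    unpack (L34DTC.E.D.wlen i) (L34DTC.E.D.wordP i) = ((RD ++ letterWords 1)[i]).reverse :=
  wordsMatchB_spec0 _ _ _ (by decide +kernel)

set_option maxRecDepth 1000000 in
theorem idxD : (para (2 * 2) RD 1).index = 46080 :=
  lp_indexI (ι := iot) iot_iot iot_lt iot_lt16 (by decide +kernel) (letterWords 1) L34DTC.E rfl rfl rfl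
    (by decide +kernel) wordsD L34DTC.rev_ok L34DTC.hE L34DTC.hA L34DTC.set_ok L34DTC.hrows
    (by norm_num) L34DTC.hT L34DTC.hltr L34DTC.hrelT L34DTC.hsubT L34DTC.hconn

set_option maxRecDepth 1000000 in
theorem wordsT : ∀ i (hi : i < (RT ++ letterWords 1).length),
    unpack (L34TTC.E.D.wlen i) (L34TTC.E.D.wordP i) = ((RT ++ letterWords 1)[i]).reverse :=
  wordsMatchB_spec0 _ _ _ (by decide +kernel)

set_option maxRecDepth 1000000 in
theorem idxT : (para (2 * 2) RT 1).index = 8640 :=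
  lp_indexI (ι := iot) iot_iot iot_lt iot_lt16 (by decide +kernel) (letterWords 1) L34TTC.E rfl rfl rfl
    (by decide +kernel) wordsT L34TTC.rev_ok L34TTC.hE L34TTC.hA L34TTC.set_ok L34TTC.hrows
    (by norm_num) L34TTC.hT L34TTC.hltr L34TTC.hrelT L34TTC.hsubT L34TTC.hconn

set_option maxRecDepth 1000000 in
theorem finD : Finite (CovG 2 mm CD CD 8) ∧ Nat.card (CovG 2 mm CD CD 8) ∣ 46080 * 7 :=
  card_dvd_base (m0 := 7) (by decide +kernel) (by norm_num) (by norm_num) idxD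

set_option maxRecDepth 1000000 in
theorem finT : Finite (CovG 2 mm CC TT 9) ∧ Nat.card (CovG 2 mm CC TT 9) ∣ 8640 * 7 :=
  card_dvd_base (m0 := 7) (by decide +kernel) (by norm_num) (by norm_num) idxT

instance : Finite (CovG 2 mm CD CD 8) := finD.1

instance : Finite (CovG 2 mm CC TT 9) := finT.1

theorem CD_sub : ∀ r ∈ CD, r ∈ CC := fun _ hr => List.mem_of_mem_take hr

theorem TT_sub : ∀ r ∈ TT, r ∈ CC := fun _ hr => List.mem_of_mem_take hr

theorem CD2_lt : ∀ r ∈ CD ++ CD, ∀ c ∈ r, c < 2 * 2 := by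
  intro r hr
  rcases List.mem_append.mp hr with h | h <;> exact CC_lt r (CD_sub r h)

theorem CD2_rel : ∀ r ∈ CD ++ CD, (r.map (lval g)).prod = 1 := by
  intro r hr
  rcases List.mem_append.mp hr with h | h <;> exact CC_rel r (CD_sub r h)

theorem CT2_lt : ∀ r ∈ CC ++ TT, ∀ c ∈ r, c < 2 * 2 := by
  intro r hr
  rcases List.mem_append.mp hr with h | h
  · exact CC_lt r h
  · exact CC_lt r (TT_sub r h)

theorem CT2_rel : ∀ r ∈ CC ++ TT, (r.map (lval g)).prod = 1 := by
  intro r hr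
  rcases List.mem_append.mp hr with h | h
  · exact CC_rel r h
  · exact CC_rel r (TT_sub r h)

theorem lettersD : LettersLt (2 * 2) RD := coverRels_lt 2 mm CD CD 8 CD2_lt

theorem tableD : TableOKI (2 * 2) 46080 iot L34DTC.ctF := tableOKI_of_cert rfl L34DTC.hT

theorem relsFixD : RelsFix RD 46080 L34DTC.ctF :=
  relsFix_of_cert (letterWords 1) rfl wordsD L34DTC.hrelT

theorem lettersT : LettersLt (2 * 2) RT := coverRels_lt 2 mm CC TT 9 CT2_lt

theorem tableT : TableOKI (2 * 2) 8640 iot L34TTC.ctF := tableOKI_of_cert rfl L34TTC.hT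

theorem relsFixT : RelsFix RT 8640 L34TTC.ctF :=
  relsFix_of_cert (letterWords 1) rfl wordsT L34TTC.hrelT

/-- the covering homomorphism for the prime 2. -/
noncomputable def piD : CovG 2 mm CD CD 8 →* ↥H21 :=
  coverHomU 2 mm CD CD 8 CD2_lt g g_pow CD2_rel

/-- the covering homomorphism for the prime 3. -/
noncomputable def piT : CovG 2 mm CC TT 9 →* ↥H21 :=
  coverHomU 2 mm CC TT 9 CT2_lt g g_pow CT2_rel

/-- the first central word. -/
def w1 : List ℕ := [0, 2, 2, 0, 2, 2, 0, 2, 2]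

/-- the second central word. -/
def w2 : List ℕ := [0, 3, 0, 0, 3, 3, 1, 2, 1, 1, 1, 3, 3]

/-- the central word for the prime 3. -/
def w0 : List ℕ := [1, 1, 3, 3, 3, 1, 1, 3, 3, 3]

theorem w1_mem : w1 ∈ CD := by decide +kernel

theorem w2_mem : w2 ∈ CD := by decide +kernel

theorem w0_mem : w0 ∈ CC := by decide +kernel

/-- the word of `z₁ ^ a z₂ ^ b`. -/
def zw (a b : ℕ) : List ℕ := (List.replicate a w1).flatten ++ (List.replicate b w2).flatten

theorem ev_zw (a b : ℕ) : ev (2 * 2) RD (zw a b) = ev (2 * 2) RD w1 ^ a * ev (2 * 2) RD w2 ^ b := by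
  unfold zw
  rw [ev_append, ← ev_pow, ← ev_pow]

theorem zw_lt (a b : ℕ) : ∀ c ∈ zw a b, c < 2 * 2 := by
  intro c hc
  unfold zw at hc
  rcases List.mem_append.mp hc with h | h
  · obtain ⟨l, hl, hcl⟩ := List.mem_flatten.mp h
    rw [List.eq_of_mem_replicate hl] at hcl
    exact CC_lt w1 (CD_sub w1 w1_mem) c hcl
  · obtain ⟨l, hl, hcl⟩ := List.mem_flatten.mp h
    rw [List.eq_of_mem_replicate hl] at hcl
    exact CC_lt w2 (CD_sub w2 w2_mem) c hcl

set_option synthInstance.maxSize 2048 in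
set_option synthInstance.maxHeartbeats 200000 in
set_option maxRecDepth 1000000 in
theorem tabInj : ∀ a, a < 4 → ∀ b, b < 4 → ∀ a', a' < 4 → ∀ b', b' < 4 →
    actL L34DTC.ctF (zw a b) 0 = actL L34DTC.ctF (zw a' b') 0 → a = a' ∧ b = b' := by
  decide +kernel

set_option maxRecDepth 1000000 in
theorem tab41 : actL L34DTC.ctF (zw 4 0) 0 = 0 := by decide +kernel

set_option maxRecDepth 1000000 in
theorem tab42 : actL L34DTC.ctF (zw 0 4) 0 = 0 := by decide +kernel

/-- the point function. -/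
noncomputable def ptD (x : CovG 2 mm CD CD 8) : ℕ :=
  ((tableHomI iot_iot iot_lt lettersD tableD relsFixD x) ⟨0, by norm_num⟩).val

theorem ptD_ev (l : List ℕ) (hl : ∀ c ∈ l, c < 2 * 2) :
    ptD (ev (2 * 2) RD l) = actL L34DTC.ctF l 0 :=
  (actsOn_tableHomI iot_iot iot_lt lettersD tableD relsFixD).act l hl ⟨0, by norm_num⟩

theorem ptD_one : ptD 1 = 0 := by
  have h := ptD_ev [] (by simp)
  rw [ev_nil] at h
  exact h

theorem cgenD_pow : ∀ x ∈ {x : CovG 2 mm CD CD 8 | ∃ i, i < 2 ∧ x = cgen 2 mm CD CD 8 i},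
    x ^ 7 = 1 := by
  rintro x ⟨i, hi, rfl⟩
  exact cgen_pow 2 mm CD CD 8 hi

theorem cgenT_pow : ∀ x ∈ {x : CovG 2 mm CC TT 9 | ∃ i, i < 2 ∧ x = cgen 2 mm CC TT 9 i},
    x ^ 7 = 1 := by
  rintro x ⟨i, hi, rfl⟩
  exact cgen_pow 2 mm CC TT 9 hi

theorem stemD : Cfsg.IsStemExtension piD ∧ (∀ y ∈ piD.ker, y ^ 4 = 1) ∧
    Nonempty (piD.ker ≃* Multiplicative (ZMod 4 × ZMod 4)) := by
  refine stem_c4c4 piD (coverHomU_surjective 2 mm CD CD 8 CD2_lt g g_pow CD2_rel g_closure)
    (by rw [card_H21]; exact finD.2)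
    (ev (2 * 2) RD w1) (ev (2 * 2) RD w2)
    (cover_center 2 mm CD CD 8 w1_mem (CC_lt w1 (CD_sub w1 w1_mem)))
    (cover_center 2 mm CD CD 8 w2_mem (CC_lt w2 (CD_sub w2 w2_mem)))
    (coverHomU_ker 2 mm CD CD 8 CD2_lt g g_pow CD2_rel w1_mem)
    (coverHomU_ker 2 mm CD CD 8 CD2_lt g g_pow CD2_rel w2_mem)
    ptD ?_ ?_ ?_ _ (closure_cgen 2 mm CD CD 8) 7 cgenD_pow (by decide)
  · intro a b a' b' ha hb ha' hb' h
    rw [← ev_zw, ← ev_zw, ptD_ev _ (zw_lt a b), ptD_ev _ (zw_lt a' b')] at h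
    exact tabInj a ha b hb a' ha' b' hb' h
  · have h := ptD_ev _ (zw_lt 4 0)
    rw [ev_zw, pow_zero, mul_one, tab41] at h
    rw [h, ptD_one]
  · have h := ptD_ev _ (zw_lt 0 4)
    rw [ev_zw, pow_zero, one_mul, tab42] at h
    rw [h, ptD_one]

theorem z0_ord : ∀ p : ℕ, p.Prime → p ∣ 3 → ev (2 * 2) RT w0 ^ (3 / p) ≠ 1 := by
  intro p hp hp3
  have hA := actsOn_tableHomI iot_iot iot_lt lettersT tableT relsFixT
  have hp3' : p = 3 := (Nat.prime_dvd_prime_iff_eq hp Nat.prime_three).mp hp3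
  subst hp3'
  rw [Nat.div_self (by norm_num), pow_one]
  exact ne_one_of_move hA _ (CC_lt w0 w0_mem) 0 (by norm_num) (by decide +kernel)

theorem stemT : Cfsg.IsStemExtension piT ∧ Nonempty (piT.ker ≃* Multiplicative (ZMod 3)) :=
  stem_cyclic piT (coverHomU_surjective 2 mm CC TT 9 CT2_lt g g_pow CT2_rel g_closure)
    3 (by norm_num) (by rw [card_H21]; exact finT.2)
    (ev (2 * 2) RT w0) (cover_center 2 mm CC TT 9 w0_mem (CC_lt w0 w0_mem))
    (coverHomU_ker 2 mm CC TT 9 CT2_lt g g_pow CT2_rel w0_mem)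
    z0_ord _ (closure_cgen 2 mm CC TT 9) 7 cgenT_pow (by decide)

theorem mm_cop2 : ∀ i, i < 2 → g i ^ mm i = 1 ∧ (mm i).Coprime (2 ^ 6) := by
  intro i hi
  exact ⟨g_pow i hi, by show Nat.Coprime 7 (2 ^ 6); decide⟩

theorem mm_cop3 : ∀ i, i < 2 → g i ^ mm i = 1 ∧ (mm i).Coprime (3 ^ 2) := by
  intro i hi
  exact ⟨g_pow i hi, by show Nat.Coprime 7 (3 ^ 2); decide⟩

theorem bound (Γ : Type) [Group Γ] [Finite Γ] (σ : Γ →* ↥H21)
    (hσ : Cfsg.IsStemExtension σ) : Nat.card σ.ker ≤ 3 * 16 := by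
  have hc := hσ.2.1
  have : Finite (CovG 2 mm CD CD (2 ^ 3)) := finD.1
  have : Finite (LPG (2 * 2) (coverRels 2 mm CC TT (3 ^ 2))) := finT.1
  have h2 : Nat.card (qmap σ hc 315).ker ∣ 16 :=
    card_qmap_ker_dvd_of_exp σ hσ hc 2 6 2 3 315 (by norm_num) (by rw [card_H21]; norm_num)
      2 mm CD CD CD2_lt g g_closure mm_cop2 CD2_rel 16
      (by rw [card_H21]; exact finD.2) stemD.2.1
  have h3 : Nat.card (qmap σ hc 2240).ker ∣ 3 :=
    card_qmap_ker_dvd_of_pow σ hσ hc 3 Nat.prime_three 2 2 2240 (by rw [card_H21]; norm_num)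
      2 mm CC TT CT2_lt g g_closure mm_cop3 CT2_rel 3
      (by rw [card_H21]; exact finT.2) (by decide)
  have h5 : ∀ z ∈ σ.ker, z ^ Nat.gcd 315 2240 = 1 → z = 1 := by
    intro z hz hz1
    have e35 : Nat.gcd 315 2240 = 35 := by decide
    rw [e35] at hz1
    refine eq_one_of_pow_eq_one σ hσ 35 ?_ z hz hz1
    intro q hq hq35
    rw [card_H21]
    have hle : q ≤ 35 := Nat.le_of_dvd (by norm_num) hq35
    interval_cases q <;>
      first | exact absurd hq (by decide) | exact absurd hq35 (by decide) | decide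
  have h6 := card_ker_le_mul σ hc 315 2240 h5
  calc Nat.card σ.ker ≤ Nat.card (qmap σ hc 315).ker * Nat.card (qmap σ hc 2240).ker := h6
    _ ≤ 16 * 3 := Nat.mul_le_mul (Nat.le_of_dvd (by norm_num) h2) (Nat.le_of_dvd (by norm_num) h3)
    _ = 3 * 16 := by norm_num

theorem main : Cfsg.HasSchurMultiplier ↥H21 (Multiplicative (ZMod 3 × ZMod 4 × ZMod 4)) := by
  have c3 : Nat.card (Multiplicative (ZMod 3)) = 3 := by
    change Nat.card (ZMod 3) = 3
    rw [Nat.card_zmod]
  have c16 : Nat.card (Multiplicative (ZMod 4 × ZMod 4)) = 16 := by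
    change Nat.card (ZMod 4 × ZMod 4) = 16
    rw [Nat.card_prod, Nat.card_zmod]
  have hprod : Cfsg.HasSchurMultiplier ↥H21
      (Multiplicative (ZMod 3) × Multiplicative (ZMod 4 × ZMod 4)) := by
    apply hasSchurMultiplier_prod
    · rw [c3, c16]; decide
    · exact ⟨CovG 2 mm CC TT 9, inferInstance, finT.1, piT, stemT.1, stemT.2⟩
    · exact ⟨CovG 2 mm CD CD 8, inferInstance, finD.1, piD, stemD.1, stemD.2.2⟩
    · intro Γ _ _ σ hσ
      rw [c3, c16]
      exact bound Γ σ hσ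
  exact hasSchurMultiplier_congr_right
    (MulEquiv.prodMultiplicative (G := ZMod 3) (H := ZMod 4 × ZMod 4)).symm hprod

end Cfsg.Agent.Helper5.L34Cov
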