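import Cfsg.Agent.Helper5.L34DTCDatD
import Cfsg.Agent.Helper5.TCIB

/-! kernel checks of edges, aliases, rows: L34DTC -/

set_option autoImplicit false
set_option Elab.async false

namespace Cfsg.Agent.Helper5.L34DTC
open Cfsg.Agent.Helper5.TC Cfsg.Agent.Helper5.TCI

set_option maxRecDepth 1000000 in
theorem cnt_0 : cntFrom RS 20000 0 0 = 4955 := by decide +kernel

set_option maxRecDepth 1000000 in
theorem cnt_4 : cntFrom RS 20000 80000 0 = 3123 := by decide +kernel

set_option maxRecDepth 1000000 in
theorem cnt_8 : cntFrom RS 20000 160000 0 = 15155 := by decide +kernel

set_option maxRecDepth 1000000 in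
theorem edges_1_30 : edgesRangeI iota E 1 2711 90709 = true := by decide +kernel

set_option maxRecDepth 1000000 in
theorem edges_2_3 : edgesRangeI iota E 2 2293 7375 = true := by decide +kernel

set_option maxRecDepth 1000000 in
theorem edges_1_69 : edgesRangeI iota E 1 817 177825 = true := by decide +kernel

set_option maxRecDepth 1000000 in
theorem edges_1_62 : edgesRangeI iota E 1 1114 171360 = true := by decide +kernel

set_option maxRecDepth 1000000 in
theorem edges_1_67 : edgesRangeI iota E 1 793 176237 = true := by decide +kernel

set_option maxRecDepth 1000000 in
theorem edges_2_56 : edgesRangeI iota E 2 2914 149175 = true := by decide +kernel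

set_option maxRecDepth 1000000 in
theorem edges_3_51 : edgesRangeI iota E 3 1583 159148 = true := by decide +kernel

set_option maxRecDepth 1000000 in
theorem edges_2_78 : edgesRangeI iota E 2 785 181669 = true := by decide +kernel

set_option maxRecDepth 1000000 in
theorem edges_2_67 : edgesRangeI iota E 2 1493 170451 = true := by decide +kernel

set_option maxRecDepth 1000000 in
theorem edges_1_5 : edgesRangeI iota E 1 2937 15681 = true := by decide +kernel

set_option maxRecDepth 1000000 in
theorem edges_2_38 : edgesRangeI iota E 2 2426 99508 = true := by decide +kernel

set_option maxRecDepth 1000000 in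
theorem edges_2_46 : edgesRangeI iota E 2 2539 121059 = true := by decide +kernel

set_option maxRecDepth 1000000 in
theorem edges_0_47 : edgesRangeI iota E 0 2194 129147 = true := by decide +kernel

set_option maxRecDepth 1000000 in
theorem edges_2_70 : edgesRangeI iota E 2 983 174270 = true := by decide +kernel

set_option maxRecDepth 1000000 in
theorem edges_3_74 : edgesRangeI iota E 3 609 184905 = true := by decide +kernel

set_option maxRecDepth 1000000 in
theorem edges_0_24 : edgesRangeI iota E 0 3005 65232 = true := by decide +kernel

set_option maxRecDepth 1000000 in
theorem edges_1_19 : edgesRangeI iota E 1 2804 57357 = true := by decide +kernel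

set_option maxRecDepth 1000000 in
theorem edges_2_62 : edgesRangeI iota E 2 1361 162883 = true := by decide +kernel

set_option maxRecDepth 1000000 in
theorem edges_0_18 : edgesRangeI iota E 0 2526 47586 = true := by decide +kernel

set_option maxRecDepth 1000000 in
theorem edges_1_79 : edgesRangeI iota E 1 561 184510 = true := by decide +kernel

set_option maxRecDepth 1000000 in
theorem edges_3_66 : edgesRangeI iota E 3 803 178883 = true := by decide +kernel

set_option maxRecDepth 1000000 in
theorem edges_0_43 : edgesRangeI iota E 0 2902 116804 = true := by decide +kernel

set_option maxRecDepth 1000000 in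
theorem aliases_26 : aliasRange E 1852 59301 = true := by decide +kernel

set_option maxRecDepth 1000000 in
theorem edges_1_38 : edgesRangeI iota E 1 2770 115517 = true := by decide +kernel

set_option maxRecDepth 1000000 in
theorem edges_1_60 : edgesRangeI iota E 1 1462 168546 = true := by decide +kernel

set_option maxRecDepth 1000000 in
theorem edges_0_66 : edgesRangeI iota E 0 1300 171565 = true := by decide +kernel

set_option maxRecDepth 1000000 in
theorem edges_2_68 : edgesRangeI iota E 2 1148 171944 = true := by decide +kernel

set_option maxRecDepth 1000000 in
theorem edges_0_4 : edgesRangeI iota E 0 2473 10278 = true := by decide +kernel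

set_option maxRecDepth 1000000 in
theorem edges_3_64 : edgesRangeI iota E 3 896 177061 = true := by decide +kernel

set_option maxRecDepth 1000000 in
theorem edges_0_56 : edgesRangeI iota E 0 3544 154126 = true := by decide +kernel

set_option maxRecDepth 1000000 in
theorem edges_1_71 : edgesRangeI iota E 1 716 179321 = true := by decide +kernel

set_option maxRecDepth 1000000 in
theorem edges_0_35 : edgesRangeI iota E 0 2577 94452 = true := by decide +kernel

set_option maxRecDepth 1000000 in
theorem edges_0_41 : edgesRangeI iota E 0 2831 111272 = true := by decide +kernel

set_option maxRecDepth 1000000 in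
theorem edges_2_80 : edgesRangeI iota E 2 728 183221 = true := by decide +kernel

set_option maxRecDepth 1000000 in
theorem edges_1_8 : edgesRangeI iota E 1 2577 23559 = true := by decide +kernel

set_option maxRecDepth 1000000 in
theorem edges_2_36 : edgesRangeI iota E 2 2879 93852 = true := by decide +kernel

set_option maxRecDepth 1000000 in
theorem edges_0_72 : edgesRangeI iota E 0 864 178067 = true := by decide +kernel

set_option maxRecDepth 1000000 in
theorem edges_0_62 : edgesRangeI iota E 0 1678 165391 = true := by decide +kernel

set_option maxRecDepth 1000000 in
theorem edges_3_65 : edgesRangeI iota E 3 926 177957 = true := by decide +kernel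

set_option maxRecDepth 1000000 in
theorem edges_3_36 : edgesRangeI iota E 3 3415 112320 = true := by decide +kernel

set_option maxRecDepth 1000000 in
theorem edges_0_79 : edgesRangeI iota E 0 701 183824 = true := by decide +kernel

set_option maxRecDepth 1000000 in
theorem edges_1_37 : edgesRangeI iota E 1 3812 111705 = true := by decide +kernel

set_option maxRecDepth 1000000 in
theorem edges_0_21 : edgesRangeI iota E 0 3137 55914 = true := by decide +kernel

set_option maxRecDepth 1000000 in
theorem edges_1_80 : edgesRangeI iota E 1 532 185071 = true := by decide +kernel

set_option maxRecDepth 1000000 in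
theorem edges_3_70 : edgesRangeI iota E 3 687 182141 = true := by decide +kernel

set_option maxRecDepth 1000000 in
theorem edges_1_75 : edgesRangeI iota E 1 642 182076 = true := by decide +kernel

set_option maxRecDepth 1000000 in
theorem aliases_27 : aliasRange E 2142 61153 = true := by decide +kernel

set_option maxRecDepth 1000000 in
theorem aliases_37 : aliasRange E 2156 82103 = true := by decide +kernel

set_option maxRecDepth 1000000 in
theorem aliases_70 : aliasRange E 1871 148798 = true := by decide +kernel

set_option maxRecDepth 1000000 in
theorem edges_0_55 : edgesRangeI iota E 0 3199 150927 = true := by decide +kernel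

set_option maxRecDepth 1000000 in
theorem edges_2_16 : edgesRangeI iota E 2 2535 40082 = true := by decide +kernel

set_option maxRecDepth 1000000 in
theorem aliases_2 : aliasRange E 2464 5041 = true := by decide +kernel

set_option maxRecDepth 1000000 in
theorem aliases_43 : aliasRange E 2132 94710 = true := by decide +kernel

set_option maxRecDepth 1000000 in
theorem aliases_55 : aliasRange E 2065 119399 = true := by decide +kernel

set_option maxRecDepth 1000000 in
theorem aliases_76 : aliasRange E 3723 163070 = true := by decide +kernel

set_option maxRecDepth 1000000 in
theorem edges_0_71 : edgesRangeI iota E 0 860 177207 = true := by decide +kernel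

set_option maxRecDepth 1000000 in
theorem edges_1_57 : edgesRangeI iota E 1 1626 164107 = true := by decide +kernel

set_option maxRecDepth 1000000 in
theorem edges_2_10 : edgesRangeI iota E 2 2741 24597 = true := by decide +kernel

set_option maxRecDepth 1000000 in
theorem edges_3_67 : edgesRangeI iota E 3 928 179686 = true := by decide +kernel

set_option maxRecDepth 1000000 in
theorem aliases_9 : aliasRange E 2550 21864 = true := by decide +kernel

set_option maxRecDepth 1000000 in
theorem aliases_18 : aliasRange E 2224 42051 = true := by decide +kernel

set_option maxRecDepth 1000000 in
theorem aliases_51 : aliasRange E 2077 111083 = true := by decide +kernel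

set_option maxRecDepth 1000000 in
theorem aliases_68 : aliasRange E 2039 144765 = true := by decide +kernel

set_option maxRecDepth 1000000 in
theorem edges_0_42 : edgesRangeI iota E 0 2701 114103 = true := by decide +kernel

set_option maxRecDepth 1000000 in
theorem edges_1_13 : edgesRangeI iota E 1 3303 38404 = true := by decide +kernel

set_option maxRecDepth 1000000 in
theorem edges_2_1 : edgesRangeI iota E 2 2241 2662 = true := by decide +kernel

set_option maxRecDepth 1000000 in
theorem edges_2_60 : edgesRangeI iota E 2 1465 159988 = true := by decide +kernel

set_option maxRecDepth 1000000 in
theorem edges_3_4 : edgesRangeI iota E 3 2963 12723 = true := by decide +kernel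

set_option maxRecDepth 1000000 in
theorem edges_3_53 : edgesRangeI iota E 3 1357 162402 = true := by decide +kernel

set_option maxRecDepth 1000000 in
theorem aliases_10 : aliasRange E 2236 24414 = true := by decide +kernel

set_option maxRecDepth 1000000 in
theorem aliases_21 : aliasRange E 2280 48681 = true := by decide +kernel

set_option maxRecDepth 1000000 in
theorem aliases_41 : aliasRange E 2024 90443 = true := by decide +kernel

set_option maxRecDepth 1000000 in
theorem aliases_58 : aliasRange E 2066 125173 = true := by decide +kernel

set_option maxRecDepth 1000000 in
theorem edges_0_3 : edgesRangeI iota E 0 2324 7954 = true := by decide +kernel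

set_option maxRecDepth 1000000 in
theorem edges_0_20 : edgesRangeI iota E 0 3231 52683 = true := by decide +kernel

set_option maxRecDepth 1000000 in
theorem edges_0_29 : edgesRangeI iota E 0 3066 78949 = true := by decide +kernel

set_option maxRecDepth 1000000 in
theorem edges_0_44 : edgesRangeI iota E 0 3166 119706 = true := by decide +kernel

set_option maxRecDepth 1000000 in
theorem edges_0_53 : edgesRangeI iota E 0 2205 145710 = true := by decide +kernel

set_option maxRecDepth 1000000 in
theorem edges_1_3 : edgesRangeI iota E 1 2899 9386 = true := by decide +kernel

set_option maxRecDepth 1000000 in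
theorem edges_1_11 : edgesRangeI iota E 1 3490 31583 = true := by decide +kernel

set_option maxRecDepth 1000000 in
theorem edges_1_21 : edgesRangeI iota E 1 3458 63041 = true := by decide +kernel

set_option maxRecDepth 1000000 in
theorem edges_1_36 : edgesRangeI iota E 1 3517 108188 = true := by decide +kernel

set_option maxRecDepth 1000000 in
theorem edges_1_48 : edgesRangeI iota E 1 3404 143864 = true := by decide +kernel

set_option maxRecDepth 1000000 in
theorem edges_1_68 : edgesRangeI iota E 1 795 177030 = true := by decide +kernel

set_option maxRecDepth 1000000 in
theorem edges_2_11 : edgesRangeI iota E 2 2377 27338 = true := by decide +kernel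

set_option maxRecDepth 1000000 in
theorem edges_2_26 : edgesRangeI iota E 2 2537 65548 = true := by decide +kernel

set_option maxRecDepth 1000000 in
theorem edges_2_30 : edgesRangeI iota E 2 3272 76231 = true := by decide +kernel

set_option maxRecDepth 1000000 in
theorem edges_2_43 : edgesRangeI iota E 2 3005 112903 = true := by decide +kernel

set_option maxRecDepth 1000000 in
theorem edges_2_58 : edgesRangeI iota E 2 2910 155496 = true := by decide +kernel

set_option maxRecDepth 1000000 in
theorem edges_3_1 : edgesRangeI iota E 3 2621 3501 = true := by decide +kernel

set_option maxRecDepth 1000000 in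
theorem edges_3_12 : edgesRangeI iota E 3 2928 35861 = true := by decide +kernel

set_option maxRecDepth 1000000 in
theorem edges_3_24 : edgesRangeI iota E 3 2754 74326 = true := by decide +kernel

set_option maxRecDepth 1000000 in
theorem edges_3_30 : edgesRangeI iota E 3 3101 93228 = true := by decide +kernel

set_option maxRecDepth 1000000 in
theorem edges_3_43 : edgesRangeI iota E 3 3379 134013 = true := by decide +kernel

set_option maxRecDepth 1000000 in
theorem edges_3_47 : edgesRangeI iota E 3 3396 146976 = true := by decide +kernel

set_option maxRecDepth 1000000 in
theorem edges_3_55 : edgesRangeI iota E 3 1501 165413 = true := by decide +kernel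

set_option maxRecDepth 1000000 in
theorem aliases_19 : aliasRange E 2088 44275 = true := by decide +kernel

set_option maxRecDepth 1000000 in
theorem aliases_42 : aliasRange E 2243 92467 = true := by decide +kernel

set_option maxRecDepth 1000000 in
theorem aliases_61 : aliasRange E 2085 131303 = true := by decide +kernel

set_option maxRecDepth 1000000 in
theorem aliases_78 : aliasRange E 4361 170450 = true := by decide +kernel

set_option maxRecDepth 1000000 in
theorem rows_2 : rowsRange E RS 1500 3000 = true := by decide +kernel

set_option maxRecDepth 1000000 in
theorem rows_5 : rowsRange E RS 1500 7500 = true := by decide +kernel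

set_option maxRecDepth 1000000 in
theorem rows_9 : rowsRange E RS 1500 13500 = true := by decide +kernel

set_option maxRecDepth 1000000 in
theorem rows_13 : rowsRange E RS 1500 19500 = true := by decide +kernel

set_option maxRecDepth 1000000 in
theorem rows_17 : rowsRange E RS 1500 25500 = true := by decide +kernel

set_option maxRecDepth 1000000 in
theorem rows_21 : rowsRange E RS 1500 31500 = true := by decide +kernel

set_option maxRecDepth 1000000 in
theorem rows_25 : rowsRange E RS 1500 37500 = true := by decide +kernel

set_option maxRecDepth 1000000 in
theorem rows_29 : rowsRange E RS 1500 43500 = true := by decide +kernel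

set_option maxRecDepth 1000000 in
theorem rows_33 : rowsRange E RS 1500 49500 = true := by decide +kernel

set_option maxRecDepth 1000000 in
theorem rows_37 : rowsRange E RS 1500 55500 = true := by decide +kernel

set_option maxRecDepth 1000000 in
theorem rows_41 : rowsRange E RS 1500 61500 = true := by decide +kernel

set_option maxRecDepth 1000000 in
theorem rows_45 : rowsRange E RS 1500 67500 = true := by decide +kernel

set_option maxRecDepth 1000000 in
theorem rows_49 : rowsRange E RS 1500 73500 = true := by decide +kernel

set_option maxRecDepth 1000000 in
theorem rows_53 : rowsRange E RS 1500 79500 = true := by decide +kernel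

set_option maxRecDepth 1000000 in
theorem rows_57 : rowsRange E RS 1500 85500 = true := by decide +kernel

set_option maxRecDepth 1000000 in
theorem rows_61 : rowsRange E RS 1500 91500 = true := by decide +kernel

set_option maxRecDepth 1000000 in
theorem rows_65 : rowsRange E RS 1500 97500 = true := by decide +kernel

set_option maxRecDepth 1000000 in
theorem rows_69 : rowsRange E RS 1500 103500 = true := by decide +kernel

set_option maxRecDepth 1000000 in
theorem rows_73 : rowsRange E RS 1500 109500 = true := by decide +kernel

set_option maxRecDepth 1000000 in
theorem rows_77 : rowsRange E RS 1500 115500 = true := by decide +kernel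

set_option maxRecDepth 1000000 in
theorem rows_81 : rowsRange E RS 1500 121500 = true := by decide +kernel

set_option maxRecDepth 1000000 in
theorem rows_85 : rowsRange E RS 1500 127500 = true := by decide +kernel

set_option maxRecDepth 1000000 in
theorem rows_89 : rowsRange E RS 1500 133500 = true := by decide +kernel

set_option maxRecDepth 1000000 in
theorem rows_93 : rowsRange E RS 1500 139500 = true := by decide +kernel

set_option maxRecDepth 1000000 in
theorem rows_97 : rowsRange E RS 1500 145500 = true := by decide +kernel

set_option maxRecDepth 1000000 in
theorem rows_101 : rowsRange E RS 1500 151500 = true := by decide +kernel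

set_option maxRecDepth 1000000 in
theorem rows_105 : rowsRange E RS 1500 157500 = true := by decide +kernel

set_option maxRecDepth 1000000 in
theorem rows_109 : rowsRange E RS 1500 163500 = true := by decide +kernel

set_option maxRecDepth 1000000 in
theorem rows_113 : rowsRange E RS 1500 169500 = true := by decide +kernel

set_option maxRecDepth 1000000 in
theorem rows_117 : rowsRange E RS 1500 175500 = true := by decide +kernel

set_option maxRecDepth 1000000 in
theorem rows_121 : rowsRange E RS 1500 181500 = true := by decide +kernel

set_option maxRecDepth 1000000 in
theorem edges_0_82 : edgesRangeI iota E 0 369 185952 = true := by decide +kernel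

set_option maxRecDepth 1000000 in
theorem rows_124 : rowsRange E RS 321 186000 = true := by decide +kernel

end Cfsg.Agent.Helper5.L34DTC
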