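import Cfsg.Agent.Helper5.L34TTCDatD
import Cfsg.Agent.Helper5.TCIB

/-! kernel checks of edges, aliases, rows: L34TTC -/

set_option autoImplicit false
set_option Elab.async false

namespace Cfsg.Agent.Helper5.L34TTC
open Cfsg.Agent.Helper5.TC Cfsg.Agent.Helper5.TCI

set_option maxRecDepth 1000000 in
theorem cnt_0 : cntFrom RS 20000 0 0 = 2530 := by decide +kernel

set_option maxRecDepth 1000000 in
theorem cnt_2 : cntFrom RS 20000 40000 0 = 907 := by decide +kernel

set_option maxRecDepth 1000000 in
theorem cnt_4 : cntFrom RS 20000 80000 0 = 642 := by decide +kernel

set_option maxRecDepth 1000000 in
theorem cnt_6 : cntFrom RS 20000 120000 0 = 317 := by decide +kernel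

set_option maxRecDepth 1000000 in
theorem edges_0_57 : edgesRangeI iota E 0 3250 161248 = true := by decide +kernel

set_option maxRecDepth 1000000 in
theorem edges_2_3 : edgesRangeI iota E 2 2212 6872 = true := by decide +kernel

set_option maxRecDepth 1000000 in
theorem edges_3_3 : edgesRangeI iota E 3 3252 8912 = true := by decide +kernel

set_option maxRecDepth 1000000 in
theorem edges_1_15 : edgesRangeI iota E 1 2911 39903 = true := by decide +kernel

set_option maxRecDepth 1000000 in
theorem edges_3_50 : edgesRangeI iota E 3 3168 166936 = true := by decide +kernel

set_option maxRecDepth 1000000 in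
theorem edges_1_44 : edgesRangeI iota E 1 3491 128889 = true := by decide +kernel

set_option maxRecDepth 1000000 in
theorem edges_2_41 : edgesRangeI iota E 2 3171 113826 = true := by decide +kernel

set_option maxRecDepth 1000000 in
theorem edges_1_16 : edgesRangeI iota E 1 3757 42814 = true := by decide +kernel

set_option maxRecDepth 1000000 in
theorem edges_0_55 : edgesRangeI iota E 0 3712 154595 = true := by decide +kernel

set_option maxRecDepth 1000000 in
theorem edges_1_35 : edgesRangeI iota E 1 3001 101360 = true := by decide +kernel

set_option maxRecDepth 1000000 in
theorem edges_2_50 : edgesRangeI iota E 2 3318 142181 = true := by decide +kernel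

set_option maxRecDepth 1000000 in
theorem edges_1_20 : edgesRangeI iota E 1 3531 56227 = true := by decide +kernel

set_option maxRecDepth 1000000 in
theorem edges_3_20 : edgesRangeI iota E 3 3009 62174 = true := by decide +kernel

set_option maxRecDepth 1000000 in
theorem edges_2_23 : edgesRangeI iota E 2 2580 60820 = true := by decide +kernel

set_option maxRecDepth 1000000 in
theorem edges_1_6 : edgesRangeI iota E 1 2655 16432 = true := by decide +kernel

set_option maxRecDepth 1000000 in
theorem edges_2_6 : edgesRangeI iota E 2 2538 13552 = true := by decide +kernel

set_option maxRecDepth 1000000 in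
theorem edges_2_46 : edgesRangeI iota E 2 3150 130105 = true := by decide +kernel

set_option maxRecDepth 1000000 in
theorem aliases_19 : aliasRange E 1965 39574 = true := by decide +kernel

set_option maxRecDepth 1000000 in
theorem edges_0_11 : edgesRangeI iota E 0 2721 26819 = true := by decide +kernel

set_option maxRecDepth 1000000 in
theorem edges_1_52 : edgesRangeI iota E 1 2991 154739 = true := by decide +kernel

set_option maxRecDepth 1000000 in
theorem edges_3_38 : edgesRangeI iota E 3 3183 124090 = true := by decide +kernel

set_option maxRecDepth 1000000 in
theorem edges_3_34 : edgesRangeI iota E 3 2894 111107 = true := by decide +kernel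

set_option maxRecDepth 1000000 in
theorem edges_0_27 : edgesRangeI iota E 0 3197 70364 = true := by decide +kernel

set_option maxRecDepth 1000000 in
theorem edges_1_51 : edgesRangeI iota E 1 3521 151218 = true := by decide +kernel

set_option maxRecDepth 1000000 in
theorem edges_3_51 : edgesRangeI iota E 3 3457 170104 = true := by decide +kernel

set_option maxRecDepth 1000000 in
theorem edges_0_54 : edgesRangeI iota E 0 2432 152163 = true := by decide +kernel

set_option maxRecDepth 1000000 in
theorem edges_1_40 : edgesRangeI iota E 1 3116 117239 = true := by decide +kernel

set_option maxRecDepth 1000000 in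
theorem edges_0_35 : edgesRangeI iota E 0 2280 93547 = true := by decide +kernel

set_option maxRecDepth 1000000 in
theorem edges_1_58 : edgesRangeI iota E 1 635 173387 = true := by decide +kernel

set_option maxRecDepth 1000000 in
theorem edges_1_37 : edgesRangeI iota E 1 3199 106903 = true := by decide +kernel

set_option maxRecDepth 1000000 in
theorem edges_2_54 : edgesRangeI iota E 2 3223 155925 = true := by decide +kernel

set_option maxRecDepth 1000000 in
theorem edges_3_24 : edgesRangeI iota E 3 3746 75484 = true := by decide +kernel

set_option maxRecDepth 1000000 in
theorem edges_3_31 : edgesRangeI iota E 3 3535 99949 = true := by decide +kernel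

set_option maxRecDepth 1000000 in
theorem edges_0_39 : edgesRangeI iota E 0 3124 104574 = true := by decide +kernel

set_option maxRecDepth 1000000 in
theorem edges_0_50 : edgesRangeI iota E 0 3484 138740 = true := by decide +kernel

set_option maxRecDepth 1000000 in
theorem edges_1_53 : edgesRangeI iota E 1 3167 157730 = true := by decide +kernel

set_option maxRecDepth 1000000 in
theorem edges_3_35 : edgesRangeI iota E 3 3622 114001 = true := by decide +kernel

set_option maxRecDepth 1000000 in
theorem edges_3_37 : edgesRangeI iota E 3 3127 120963 = true := by decide +kernel

set_option maxRecDepth 1000000 in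
theorem edges_1_47 : edgesRangeI iota E 1 3130 138621 = true := by decide +kernel

set_option maxRecDepth 1000000 in
theorem edges_2_13 : edgesRangeI iota E 2 2703 32495 = true := by decide +kernel

set_option maxRecDepth 1000000 in
theorem edges_3_33 : edgesRangeI iota E 3 3705 107402 = true := by decide +kernel

set_option maxRecDepth 1000000 in
theorem edges_0_32 : edgesRangeI iota E 0 2513 84769 = true := by decide +kernel

set_option maxRecDepth 1000000 in
theorem edges_1_50 : edgesRangeI iota E 1 2605 148613 = true := by decide +kernel

set_option maxRecDepth 1000000 in
theorem edges_3_49 : edgesRangeI iota E 3 3428 163508 = true := by decide +kernel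

set_option maxRecDepth 1000000 in
theorem edges_0_43 : edgesRangeI iota E 0 3240 116679 = true := by decide +kernel

set_option maxRecDepth 1000000 in
theorem edges_0_2 : edgesRangeI iota E 0 1861 5047 = true := by decide +kernel

set_option maxRecDepth 1000000 in
theorem edges_1_46 : edgesRangeI iota E 1 3035 135586 = true := by decide +kernel

set_option maxRecDepth 1000000 in
theorem edges_2_5 : edgesRangeI iota E 2 2129 11423 = true := by decide +kernel

set_option maxRecDepth 1000000 in
theorem edges_0_56 : edgesRangeI iota E 0 2941 158307 = true := by decide +kernel

set_option maxRecDepth 1000000 in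
theorem edges_2_37 : edgesRangeI iota E 2 2875 101923 = true := by decide +kernel

set_option maxRecDepth 1000000 in
theorem edges_1_25 : edgesRangeI iota E 1 2250 72042 = true := by decide +kernel

set_option maxRecDepth 1000000 in
theorem edges_2_2 : edgesRangeI iota E 2 2124 4748 = true := by decide +kernel

set_option maxRecDepth 1000000 in
theorem edges_2_33 : edgesRangeI iota E 2 2723 89420 = true := by decide +kernel

set_option maxRecDepth 1000000 in
theorem edges_0_24 : edgesRangeI iota E 0 2926 62387 = true := by decide +kernel

set_option maxRecDepth 1000000 in
theorem edges_1_17 : edgesRangeI iota E 1 3404 46571 = true := by decide +kernel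

set_option maxRecDepth 1000000 in
theorem edges_2_39 : edgesRangeI iota E 2 2975 107930 = true := by decide +kernel

set_option maxRecDepth 1000000 in
theorem edges_3_29 : edgesRangeI iota E 3 3830 92599 = true := by decide +kernel

set_option maxRecDepth 1000000 in
theorem edges_3_52 : edgesRangeI iota E 3 701 173561 = true := by decide +kernel

set_option maxRecDepth 1000000 in
theorem edges_0_26 : edgesRangeI iota E 0 2091 68273 = true := by decide +kernel

set_option maxRecDepth 1000000 in
theorem edges_0_42 : edgesRangeI iota E 0 2676 114003 = true := by decide +kernel

set_option maxRecDepth 1000000 in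
theorem edges_1_45 : edgesRangeI iota E 1 3206 132380 = true := by decide +kernel

set_option maxRecDepth 1000000 in
theorem edges_3_5 : edgesRangeI iota E 3 3132 15146 = true := by decide +kernel

set_option maxRecDepth 1000000 in
theorem aliases_2 : aliasRange E 2219 4573 = true := by decide +kernel

set_option maxRecDepth 1000000 in
theorem aliases_26 : aliasRange E 2028 53573 = true := by decide +kernel

set_option maxRecDepth 1000000 in
theorem aliases_37 : aliasRange E 1970 75223 = true := by decide +kernel

set_option maxRecDepth 1000000 in
theorem aliases_40 : aliasRange E 1930 81161 = true := by decide +kernel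

set_option maxRecDepth 1000000 in
theorem aliases_56 : aliasRange E 1912 112675 = true := by decide +kernel

set_option maxRecDepth 1000000 in
theorem aliases_58 : aliasRange E 1890 116568 = true := by decide +kernel

set_option maxRecDepth 1000000 in
theorem aliases_67 : aliasRange E 1955 133582 = true := by decide +kernel

set_option maxRecDepth 1000000 in
theorem aliases_71 : aliasRange E 1978 141586 = true := by decide +kernel

set_option maxRecDepth 1000000 in
theorem aliases_77 : aliasRange E 1932 153847 = true := by decide +kernel

set_option maxRecDepth 1000000 in
theorem edges_0_17 : edgesRangeI iota E 0 2679 41990 = true := by decide +kernel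

set_option maxRecDepth 1000000 in
theorem edges_0_40 : edgesRangeI iota E 0 2726 107698 = true := by decide +kernel

set_option maxRecDepth 1000000 in
theorem edges_1_36 : edgesRangeI iota E 1 2542 104361 = true := by decide +kernel

set_option maxRecDepth 1000000 in
theorem edges_2_38 : edgesRangeI iota E 2 3132 104798 = true := by decide +kernel

set_option maxRecDepth 1000000 in
theorem edges_3_36 : edgesRangeI iota E 3 3340 117623 = true := by decide +kernel

set_option maxRecDepth 1000000 in
theorem aliases_9 : aliasRange E 1996 19330 = true := by decide +kernel

set_option maxRecDepth 1000000 in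
theorem aliases_14 : aliasRange E 2009 29542 = true := by decide +kernel

set_option maxRecDepth 1000000 in
theorem aliases_27 : aliasRange E 2067 55601 = true := by decide +kernel

set_option maxRecDepth 1000000 in
theorem aliases_34 : aliasRange E 1835 69481 = true := by decide +kernel

set_option maxRecDepth 1000000 in
theorem aliases_49 : aliasRange E 2053 98722 = true := by decide +kernel

set_option maxRecDepth 1000000 in
theorem aliases_53 : aliasRange E 1891 106705 = true := by decide +kernel

set_option maxRecDepth 1000000 in
theorem aliases_66 : aliasRange E 1879 131703 = true := by decide +kernel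

set_option maxRecDepth 1000000 in
theorem aliases_81 : aliasRange E 1945 161682 = true := by decide +kernel

set_option maxRecDepth 1000000 in
theorem edges_2_9 : edgesRangeI iota E 2 2546 21797 = true := by decide +kernel

set_option maxRecDepth 1000000 in
theorem edges_3_9 : edgesRangeI iota E 3 3072 26201 = true := by decide +kernel

set_option maxRecDepth 1000000 in
theorem aliases_0 : aliasRange E 2411 0 = true := by decide +kernel

set_option maxRecDepth 1000000 in
theorem aliases_3 : aliasRange E 2004 6792 = true := by decide +kernel

set_option maxRecDepth 1000000 in
theorem aliases_8 : aliasRange E 2061 17269 = true := by decide +kernel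

set_option maxRecDepth 1000000 in
theorem aliases_15 : aliasRange E 2062 31551 = true := by decide +kernel

set_option maxRecDepth 1000000 in
theorem aliases_28 : aliasRange E 2084 57668 = true := by decide +kernel

set_option maxRecDepth 1000000 in
theorem aliases_43 : aliasRange E 1824 86985 = true := by decide +kernel

set_option maxRecDepth 1000000 in
theorem aliases_55 : aliasRange E 2123 110552 = true := by decide +kernel

set_option maxRecDepth 1000000 in
theorem aliases_69 : aliasRange E 2029 137630 = true := by decide +kernel

set_option maxRecDepth 1000000 in
theorem aliases_78 : aliasRange E 1944 155779 = true := by decide +kernel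

set_option maxRecDepth 1000000 in
theorem aliases_82 : aliasRange E 1890 163627 = true := by decide +kernel

set_option maxRecDepth 1000000 in
theorem edges_0_3 : edgesRangeI iota E 0 2128 6908 = true := by decide +kernel

set_option maxRecDepth 1000000 in
theorem edges_0_45 : edgesRangeI iota E 0 3298 123059 = true := by decide +kernel

set_option maxRecDepth 1000000 in
theorem edges_2_4 : edgesRangeI iota E 2 2339 9084 = true := by decide +kernel

set_option maxRecDepth 1000000 in
theorem edges_2_42 : edgesRangeI iota E 2 3131 116997 = true := by decide +kernel

set_option maxRecDepth 1000000 in
theorem edges_3_1 : edgesRangeI iota E 3 2367 3377 = true := by decide +kernel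

set_option maxRecDepth 1000000 in
theorem edges_3_19 : edgesRangeI iota E 3 3816 58358 = true := by decide +kernel

set_option maxRecDepth 1000000 in
theorem edges_3_23 : edgesRangeI iota E 3 3080 72404 = true := by decide +kernel

set_option maxRecDepth 1000000 in
theorem aliases_4 : aliasRange E 2055 8796 = true := by decide +kernel

set_option maxRecDepth 1000000 in
theorem aliases_16 : aliasRange E 1881 33613 = true := by decide +kernel

set_option maxRecDepth 1000000 in
theorem aliases_35 : aliasRange E 1917 71316 = true := by decide +kernel

set_option maxRecDepth 1000000 in
theorem aliases_42 : aliasRange E 1993 84992 = true := by decide +kernel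

set_option maxRecDepth 1000000 in
theorem aliases_47 : aliasRange E 1942 94766 = true := by decide +kernel

set_option maxRecDepth 1000000 in
theorem aliases_59 : aliasRange E 1830 118458 = true := by decide +kernel

set_option maxRecDepth 1000000 in
theorem aliases_62 : aliasRange E 1927 124206 = true := by decide +kernel

set_option maxRecDepth 1000000 in
theorem aliases_72 : aliasRange E 2081 143564 = true := by decide +kernel

set_option maxRecDepth 1000000 in
theorem edges_0_1 : edgesRangeI iota E 0 2599 2448 = true := by decide +kernel

set_option maxRecDepth 1000000 in
theorem edges_0_7 : edgesRangeI iota E 0 3193 15639 = true := by decide +kernel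

set_option maxRecDepth 1000000 in
theorem edges_0_12 : edgesRangeI iota E 0 2547 29540 = true := by decide +kernel

set_option maxRecDepth 1000000 in
theorem edges_0_14 : edgesRangeI iota E 0 2505 34419 = true := by decide +kernel

set_option maxRecDepth 1000000 in
theorem edges_0_19 : edgesRangeI iota E 0 2567 47444 = true := by decide +kernel

set_option maxRecDepth 1000000 in
theorem edges_0_22 : edgesRangeI iota E 0 3179 56146 = true := by decide +kernel

set_option maxRecDepth 1000000 in
theorem edges_0_31 : edgesRangeI iota E 0 2465 82304 = true := by decide +kernel

set_option maxRecDepth 1000000 in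
theorem edges_0_34 : edgesRangeI iota E 0 3410 90137 = true := by decide +kernel

set_option maxRecDepth 1000000 in
theorem edges_0_41 : edgesRangeI iota E 0 3579 110424 = true := by decide +kernel

set_option maxRecDepth 1000000 in
theorem edges_0_46 : edgesRangeI iota E 0 3705 126357 = true := by decide +kernel

set_option maxRecDepth 1000000 in
theorem edges_0_51 : edgesRangeI iota E 0 3053 142224 = true := by decide +kernel

set_option maxRecDepth 1000000 in
theorem edges_0_58 : edgesRangeI iota E 0 4028 164498 = true := by decide +kernel

set_option maxRecDepth 1000000 in
theorem edges_1_3 : edgesRangeI iota E 1 2876 8183 = true := by decide +kernel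

set_option maxRecDepth 1000000 in
theorem edges_1_5 : edgesRangeI iota E 1 2824 13608 = true := by decide +kernel

set_option maxRecDepth 1000000 in
theorem edges_1_11 : edgesRangeI iota E 1 2505 28675 = true := by decide +kernel

set_option maxRecDepth 1000000 in
theorem edges_1_14 : edgesRangeI iota E 1 2904 36999 = true := by decide +kernel

set_option maxRecDepth 1000000 in
theorem edges_1_24 : edgesRangeI iota E 1 2991 69051 = true := by decide +kernel

set_option maxRecDepth 1000000 in
theorem edges_1_27 : edgesRangeI iota E 1 3074 77377 = true := by decide +kernel

set_option maxRecDepth 1000000 in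
theorem edges_1_32 : edgesRangeI iota E 1 2690 92330 = true := by decide +kernel

set_option maxRecDepth 1000000 in
theorem edges_1_34 : edgesRangeI iota E 1 2957 98403 = true := by decide +kernel

set_option maxRecDepth 1000000 in
theorem edges_1_55 : edgesRangeI iota E 1 2782 163818 = true := by decide +kernel

set_option maxRecDepth 1000000 in
theorem edges_2_8 : edgesRangeI iota E 2 2849 18948 = true := by decide +kernel

set_option maxRecDepth 1000000 in
theorem edges_2_11 : edgesRangeI iota E 2 2922 27102 = true := by decide +kernel

set_option maxRecDepth 1000000 in
theorem edges_2_16 : edgesRangeI iota E 2 2953 40315 = true := by decide +kernel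

set_option maxRecDepth 1000000 in
theorem edges_2_25 : edgesRangeI iota E 2 2418 66129 = true := by decide +kernel

set_option maxRecDepth 1000000 in
theorem edges_2_28 : edgesRangeI iota E 2 2962 74128 = true := by decide +kernel

set_option maxRecDepth 1000000 in
theorem edges_2_30 : edgesRangeI iota E 2 2738 80386 = true := by decide +kernel

set_option maxRecDepth 1000000 in
theorem edges_2_34 : edgesRangeI iota E 2 3471 92143 = true := by decide +kernel

set_option maxRecDepth 1000000 in
theorem edges_2_36 : edgesRangeI iota E 2 3019 98904 = true := by decide +kernel

set_option maxRecDepth 1000000 in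
theorem edges_2_49 : edgesRangeI iota E 2 2851 139330 = true := by decide +kernel

set_option maxRecDepth 1000000 in
theorem edges_2_57 : edgesRangeI iota E 2 3627 165789 = true := by decide +kernel

set_option maxRecDepth 1000000 in
theorem edges_3_0 : edgesRangeI iota E 3 3377 0 = true := by decide +kernel

set_option maxRecDepth 1000000 in
theorem edges_3_7 : edgesRangeI iota E 3 2751 20840 = true := by decide +kernel

set_option maxRecDepth 1000000 in
theorem edges_3_12 : edgesRangeI iota E 3 3154 35010 = true := by decide +kernel

set_option maxRecDepth 1000000 in
theorem edges_3_16 : edgesRangeI iota E 3 3326 47627 = true := by decide +kernel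

set_option maxRecDepth 1000000 in
theorem edges_3_18 : edgesRangeI iota E 3 3851 54507 = true := by decide +kernel

set_option maxRecDepth 1000000 in
theorem edges_3_26 : edgesRangeI iota E 3 3425 82144 = true := by decide +kernel

set_option maxRecDepth 1000000 in
theorem edges_3_28 : edgesRangeI iota E 3 3731 88868 = true := by decide +kernel

set_option maxRecDepth 1000000 in
theorem edges_3_32 : edgesRangeI iota E 3 3918 103484 = true := by decide +kernel

set_option maxRecDepth 1000000 in
theorem edges_3_40 : edgesRangeI iota E 3 3786 130688 = true := by decide +kernel

set_option maxRecDepth 1000000 in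
theorem edges_3_47 : edgesRangeI iota E 3 3523 156930 = true := by decide +kernel

set_option maxRecDepth 1000000 in
theorem aliases_5 : aliasRange E 2209 10851 = true := by decide +kernel

set_option maxRecDepth 1000000 in
theorem aliases_17 : aliasRange E 2034 35494 = true := by decide +kernel

set_option maxRecDepth 1000000 in
theorem aliases_20 : aliasRange E 2032 41539 = true := by decide +kernel

set_option maxRecDepth 1000000 in
theorem aliases_25 : aliasRange E 1947 51626 = true := by decide +kernel

set_option maxRecDepth 1000000 in
theorem aliases_33 : aliasRange E 1921 67560 = true := by decide +kernel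

set_option maxRecDepth 1000000 in
theorem aliases_46 : aliasRange E 2034 92732 = true := by decide +kernel

set_option maxRecDepth 1000000 in
theorem aliases_68 : aliasRange E 2093 135537 = true := by decide +kernel

set_option maxRecDepth 1000000 in
theorem aliases_85 : aliasRange E 2090 169444 = true := by decide +kernel

set_option maxRecDepth 1000000 in
theorem edges_0_61 : edgesRangeI iota E 0 566 173723 = true := by decide +kernel

set_option maxRecDepth 1000000 in
theorem rows_0 : rowsRange E RS 1500 0 = true := by decide +kernel

set_option maxRecDepth 1000000 in
theorem rows_2 : rowsRange E RS 1500 3000 = true := by decide +kernel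

set_option maxRecDepth 1000000 in
theorem rows_4 : rowsRange E RS 1500 6000 = true := by decide +kernel

set_option maxRecDepth 1000000 in
theorem rows_6 : rowsRange E RS 1500 9000 = true := by decide +kernel

set_option maxRecDepth 1000000 in
theorem rows_8 : rowsRange E RS 1500 12000 = true := by decide +kernel

set_option maxRecDepth 1000000 in
theorem rows_10 : rowsRange E RS 1500 15000 = true := by decide +kernel

set_option maxRecDepth 1000000 in
theorem rows_12 : rowsRange E RS 1500 18000 = true := by decide +kernel

set_option maxRecDepth 1000000 in
theorem rows_14 : rowsRange E RS 1500 21000 = true := by decide +kernel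

set_option maxRecDepth 1000000 in
theorem rows_16 : rowsRange E RS 1500 24000 = true := by decide +kernel

set_option maxRecDepth 1000000 in
theorem rows_18 : rowsRange E RS 1500 27000 = true := by decide +kernel

set_option maxRecDepth 1000000 in
theorem rows_20 : rowsRange E RS 1500 30000 = true := by decide +kernel

set_option maxRecDepth 1000000 in
theorem rows_22 : rowsRange E RS 1500 33000 = true := by decide +kernel

set_option maxRecDepth 1000000 in
theorem rows_24 : rowsRange E RS 1500 36000 = true := by decide +kernel

set_option maxRecDepth 1000000 in
theorem rows_26 : rowsRange E RS 1500 39000 = true := by decide +kernel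

set_option maxRecDepth 1000000 in
theorem rows_28 : rowsRange E RS 1500 42000 = true := by decide +kernel

set_option maxRecDepth 1000000 in
theorem rows_30 : rowsRange E RS 1500 45000 = true := by decide +kernel

set_option maxRecDepth 1000000 in
theorem rows_32 : rowsRange E RS 1500 48000 = true := by decide +kernel

set_option maxRecDepth 1000000 in
theorem rows_34 : rowsRange E RS 1500 51000 = true := by decide +kernel

set_option maxRecDepth 1000000 in
theorem rows_36 : rowsRange E RS 1500 54000 = true := by decide +kernel

set_option maxRecDepth 1000000 in
theorem rows_38 : rowsRange E RS 1500 57000 = true := by decide +kernel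

set_option maxRecDepth 1000000 in
theorem rows_40 : rowsRange E RS 1500 60000 = true := by decide +kernel

set_option maxRecDepth 1000000 in
theorem rows_42 : rowsRange E RS 1500 63000 = true := by decide +kernel

set_option maxRecDepth 1000000 in
theorem rows_44 : rowsRange E RS 1500 66000 = true := by decide +kernel

set_option maxRecDepth 1000000 in
theorem rows_46 : rowsRange E RS 1500 69000 = true := by decide +kernel

set_option maxRecDepth 1000000 in
theorem rows_48 : rowsRange E RS 1500 72000 = true := by decide +kernel

set_option maxRecDepth 1000000 in
theorem rows_50 : rowsRange E RS 1500 75000 = true := by decide +kernel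

set_option maxRecDepth 1000000 in
theorem rows_52 : rowsRange E RS 1500 78000 = true := by decide +kernel

set_option maxRecDepth 1000000 in
theorem rows_54 : rowsRange E RS 1500 81000 = true := by decide +kernel

set_option maxRecDepth 1000000 in
theorem rows_56 : rowsRange E RS 1500 84000 = true := by decide +kernel

set_option maxRecDepth 1000000 in
theorem rows_58 : rowsRange E RS 1500 87000 = true := by decide +kernel

set_option maxRecDepth 1000000 in
theorem rows_60 : rowsRange E RS 1500 90000 = true := by decide +kernel

set_option maxRecDepth 1000000 in
theorem rows_62 : rowsRange E RS 1500 93000 = true := by decide +kernel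

set_option maxRecDepth 1000000 in
theorem rows_64 : rowsRange E RS 1500 96000 = true := by decide +kernel

set_option maxRecDepth 1000000 in
theorem rows_66 : rowsRange E RS 1500 99000 = true := by decide +kernel

set_option maxRecDepth 1000000 in
theorem rows_68 : rowsRange E RS 1500 102000 = true := by decide +kernel

set_option maxRecDepth 1000000 in
theorem rows_70 : rowsRange E RS 1500 105000 = true := by decide +kernel

set_option maxRecDepth 1000000 in
theorem rows_72 : rowsRange E RS 1500 108000 = true := by decide +kernel

set_option maxRecDepth 1000000 in
theorem rows_74 : rowsRange E RS 1500 111000 = true := by decide +kernel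

set_option maxRecDepth 1000000 in
theorem rows_76 : rowsRange E RS 1500 114000 = true := by decide +kernel

set_option maxRecDepth 1000000 in
theorem rows_78 : rowsRange E RS 1500 117000 = true := by decide +kernel

set_option maxRecDepth 1000000 in
theorem rows_80 : rowsRange E RS 1500 120000 = true := by decide +kernel

set_option maxRecDepth 1000000 in
theorem rows_82 : rowsRange E RS 1500 123000 = true := by decide +kernel

set_option maxRecDepth 1000000 in
theorem rows_84 : rowsRange E RS 1500 126000 = true := by decide +kernel

set_option maxRecDepth 1000000 in
theorem rows_86 : rowsRange E RS 1500 129000 = true := by decide +kernel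

set_option maxRecDepth 1000000 in
theorem rows_88 : rowsRange E RS 1500 132000 = true := by decide +kernel

set_option maxRecDepth 1000000 in
theorem rows_90 : rowsRange E RS 1500 135000 = true := by decide +kernel

set_option maxRecDepth 1000000 in
theorem rows_92 : rowsRange E RS 1500 138000 = true := by decide +kernel

set_option maxRecDepth 1000000 in
theorem rows_94 : rowsRange E RS 1500 141000 = true := by decide +kernel

set_option maxRecDepth 1000000 in
theorem rows_96 : rowsRange E RS 1500 144000 = true := by decide +kernel

set_option maxRecDepth 1000000 in
theorem rows_98 : rowsRange E RS 1500 147000 = true := by decide +kernel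

set_option maxRecDepth 1000000 in
theorem rows_100 : rowsRange E RS 1500 150000 = true := by decide +kernel

set_option maxRecDepth 1000000 in
theorem rows_102 : rowsRange E RS 1500 153000 = true := by decide +kernel

set_option maxRecDepth 1000000 in
theorem rows_104 : rowsRange E RS 1500 156000 = true := by decide +kernel

set_option maxRecDepth 1000000 in
theorem rows_106 : rowsRange E RS 1500 159000 = true := by decide +kernel

set_option maxRecDepth 1000000 in
theorem rows_108 : rowsRange E RS 1500 162000 = true := by decide +kernel

set_option maxRecDepth 1000000 in
theorem rows_110 : rowsRange E RS 1500 165000 = true := by decide +kernel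

set_option maxRecDepth 1000000 in
theorem rows_112 : rowsRange E RS 1500 168000 = true := by decide +kernel

set_option maxRecDepth 1000000 in
theorem rows_114 : rowsRange E RS 1500 171000 = true := by decide +kernel

set_option maxRecDepth 1000000 in
theorem edges_1_59 : edgesRangeI iota E 1 267 174022 = true := by decide +kernel

end Cfsg.Agent.Helper5.L34TTC
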