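import Mathlib
import Cfsg.Agent.Helper5.CoverU
import Cfsg.Prelude.Def_CaseTheorems

/-!
# Quotients of a Schur cover with kernel `3 × 4 × 4` by a subgroup with quotient `2 × 2`

Two perfect central extensions of `G` with kernels elementary abelian of order 4, both images of
a stem extension with kernel `3 × 4 × 4`, are isomorphic; small copies of finite groups.
-/

set_option autoImplicit false

namespace Cfsg.Agent.Helper5.L34Two

open Cfsg Cfsg.Agent.Helper5.CoverU

universe u v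

/-- the abelian group `3 × 4 × 4`. -/
abbrev A48 : Type := Multiplicative (ZMod 3 × ZMod 4 × ZMod 4)

theorem card_A48 : Nat.card A48 = 48 := by
  rw [Nat.card_eq_fintype_card]
  decide

theorem card_squares : (Finset.univ.image (fun a : A48 => a * a)).card = 12 := by decide

theorem unique_of_cover {G Γ : Type*} {L₁ L₂ : Type v} [Group G] [Group Γ] [Group L₁] [Group L₂] [Finite Γ]
    (σ : Γ →* G) (hσs : Function.Surjective σ) (ψ : σ.ker ≃* A48)
    (τ₁ : L₁ →* G) (τ₂ : L₂ →* G) (φ₁ : Γ →* L₁) (φ₂ : Γ →* L₂)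
    (h₁ : Function.Surjective φ₁) (h₂ : Function.Surjective φ₂)
    (c₁ : τ₁.comp φ₁ = σ) (c₂ : τ₂.comp φ₂ = σ)
    (k₁ : Nat.card τ₁.ker = 4) (k₂ : Nat.card τ₂.ker = 4)
    (x₁ : ∀ y ∈ τ₁.ker, y * y = 1) (x₂ : ∀ y ∈ τ₂.ker, y * y = 1) : Nonempty (L₁ ≃* L₂) := by
  have fG : Finite G := Finite.of_surjective σ hσs
  have hG : 0 < Nat.card G := Nat.card_pos
  have hcΓ : Nat.card Γ = Nat.card G * 48 := by
    rw [card_eq_mul_ker σ hσs, Nat.card_congr ψ.toEquiv, card_A48]
  -- the order of the kernels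
  have key : ∀ {L : Type v} [Group L] (τ : L →* G) (φ : Γ →* L), Function.Surjective φ →
      τ.comp φ = σ → Nat.card τ.ker = 4 → Nat.card φ.ker = 12 := by
    intro L _ τ φ hφ hc hk
    have hτs : Function.Surjective τ := by
      intro g
      obtain ⟨x, hx⟩ := hσs g
      exact ⟨φ x, by rw [← hx, ← hc]; rfl⟩
    have e1 := card_eq_mul_ker τ hτs
    have e2 := card_eq_mul_ker φ hφ
    rw [hk] at e1
    rw [e1, hcΓ, mul_assoc] at e2
    have e3 := Nat.eq_of_mul_eq_mul_left hG e2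
    omega
  have hk₁ := key τ₁ φ₁ h₁ c₁ k₁
  have hk₂ := key τ₂ φ₂ h₂ c₂ k₂
  -- the squares
  let inj : A48 → Γ := fun a => ((ψ.symm a : σ.ker) : Γ)
  have hinj : Function.Injective inj := by
    intro a b hab
    exact ψ.symm.injective (Subtype.ext hab)
  let T : Set Γ := inj '' ((Finset.univ.image (fun a : A48 => a * a) : Finset A48) : Set A48)
  have hT : T.ncard = 12 := by
    rw [Set.ncard_image_of_injective _ hinj, Set.ncard_coe_finset, card_squares]
  have sub : ∀ {L : Type v} [Group L] (τ : L →* G) (φ : Γ →* L), τ.comp φ = σ →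
      (∀ y ∈ τ.ker, y * y = 1) → T ⊆ (φ.ker : Set Γ) := by
    intro L _ τ φ hc hx t ht
    obtain ⟨a, ha, rfl⟩ := ht
    rw [Finset.mem_coe, Finset.mem_image] at ha
    obtain ⟨b, -, rfl⟩ := ha
    show inj (b * b) ∈ φ.ker
    have e : inj (b * b) = inj b * inj b := by
      show ((ψ.symm (b * b) : σ.ker) : Γ) = _
      rw [map_mul]
      rfl
    rw [e, MonoidHom.mem_ker, map_mul]
    apply hx
    rw [MonoidHom.mem_ker]
    have h3 : τ (φ (inj b)) = σ (inj b) := by rw [← hc]; rfl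
    rw [h3]
    exact (ψ.symm b).property
  have s₁ := sub τ₁ φ₁ c₁ x₁
  have s₂ := sub τ₂ φ₂ c₂ x₂
  have hinf : 12 ≤ Nat.card (φ₁.ker ⊓ φ₂.ker : Subgroup Γ) := by
    have h0 : Nat.card (φ₁.ker ⊓ φ₂.ker : Subgroup Γ) =
        ((φ₁.ker ⊓ φ₂.ker : Subgroup Γ) : Set Γ).ncard := Nat.card_coe_set_eq _
    rw [h0, ← hT]
    apply Set.ncard_le_ncard _ (Set.toFinite _)
    intro t ht
    exact ⟨s₁ ht, s₂ ht⟩
  have e₁ : φ₁.ker ⊓ φ₂.ker = φ₁.ker :=
    Subgroup.eq_of_le_of_card_ge inf_le_left (by rw [hk₁]; exact hinf)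
  have e₂ : φ₁.ker ⊓ φ₂.ker = φ₂.ker :=
    Subgroup.eq_of_le_of_card_ge inf_le_right (by rw [hk₂]; exact hinf)
  have hK : φ₁.ker = φ₂.ker := e₁.symm.trans e₂
  exact ⟨(QuotientGroup.quotientKerEquivOfSurjective φ₁ h₁).symm.trans
    ((QuotientGroup.quotientMulEquivOfEq hK).trans
      (QuotientGroup.quotientKerEquivOfSurjective φ₂ h₂))⟩

/-- a copy of a finite group in the lowest universe. -/
theorem small_copy (L : Type*) [Group L] [Finite L] :
    ∃ (L' : Type) (_ : Group L') (_ : Finite L'), Nonempty (L' ≃* L) := by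
  let e : Fin (Nat.card L) ≃ L := (Finite.equivFin L).symm
  let _ : Group (Fin (Nat.card L)) := e.group
  exact ⟨Fin (Nat.card L), e.group, inferInstance, ⟨e.mulEquiv⟩⟩

/-- the stem extension given by a quasisimple group with given central quotient, on a small
copy. -/
theorem stem_data {G : Type} [Group G] (L : Type*) [Group L] [Finite L] (hq : IsQuasisimple L)
    (hc : Nat.card (Subgroup.center L) = 4) (he : ∀ x ∈ Subgroup.center L, x * x = 1)
    (e : L ⧸ Subgroup.center L ≃* G) :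
    ∃ (L' : Type) (_ : Group L') (_ : Finite L'), Nonempty (L' ≃* L) ∧ Group.IsPerfect L' ∧
      ∃ τ : L' →* G, IsStemExtension τ ∧ Nat.card τ.ker = 4 ∧ ∀ y ∈ τ.ker, y * y = 1 := by
  obtain ⟨L', iL, fL, ⟨ι⟩⟩ := small_copy L
  have hperf : Group.IsPerfect L := hq.1
  have hperf' : Group.IsPerfect L' := Group.IsPerfect.ofSurjective (f := ι.symm.toMonoidHom)
    ι.symm.surjective
  let τ : L' →* G := (e.toMonoidHom.comp (QuotientGroup.mk' (Subgroup.center L))).comp
    ι.toMonoidHom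
  have hker : ∀ y : L', y ∈ τ.ker ↔ ι y ∈ Subgroup.center L := by
    intro y
    rw [MonoidHom.mem_ker]
    show e (QuotientGroup.mk (ι y)) = 1 ↔ _
    rw [map_eq_one_iff e e.injective, QuotientGroup.eq_one_iff]
  refine ⟨L', iL, fL, ⟨ι⟩, hperf', τ, ⟨?_, ?_, ?_⟩, ?_, ?_⟩
  · exact (e.surjective.comp (QuotientGroup.mk'_surjective _)).comp ι.surjective
  · intro y hy
    have h1 := (hker y).mp hy
    rw [Subgroup.mem_center_iff] at h1 ⊢
    intro g
    apply ι.injective
    rw [map_mul, map_mul]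
    exact h1 (ι g)
  · rw [hperf'.commutator_eq_top]
    exact le_top
  · rw [← hc]
    exact Nat.card_congr (ι.toEquiv.subtypeEquiv (fun y => hker y))
  · intro y hy
    apply ι.injective
    rw [map_mul, map_one]
    exact he _ ((hker y).mp hy)

end Cfsg.Agent.Helper5.L34Two
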