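import Mathlib
import Cfsg.Agent.Helper5.LPI

/-!
# Powers of a word through a function computing its action, pointwise version
-/

set_option autoImplicit false

namespace Cfsg.Agent.Helper5.LP

open Cfsg.Agent.Helper5.TC Cfsg.Agent.Helper5.TCI

/-- the power of a word fixes all points, if the iterate of a function computing the action of the
word does. -/
theorem pow_fix_of_pointwise {k N : ℕ} {ι : ℕ → ℕ} {T : ℕ → ℕ → ℕ} (hT : TableOKI k N ι T)
    (l : List ℕ) (hl : ∀ c ∈ l, c < k) (px : ℕ → ℕ) (p : ℕ)
    (hag : ∀ v, v < N → px v = actL T l v) (hfix : ∀ v, v < N → iterF px p v = v) :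
    ∀ v, v < N → actL T (List.replicate p l).flatten v = v := by
  have hit : ∀ (j : ℕ) (v : ℕ), v < N →
      iterF px j v = actL T (List.replicate j l).flatten v := by
    intro j
    induction j with
    | zero => intro v _; rfl
    | succ j ih =>
      intro v hv
      rw [iterF, forceL_eq, hag v hv, ih _ (actL_ltI hT l hl v hv), List.replicate_succ',
        List.flatten_append, actL_append]
      simp
  intro v hv
  rw [← hit p v hv]
  exact hfix v hv

end Cfsg.Agent.Helper5.LP
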