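import Mathlib
import Cfsg.Prelude.Def_SporCoxeter
import Cfsg.Agent.Helper5.LPCox
import Cfsg.Agent.Helper5.LPI

/-!
# Coxeter-style presentations with generators outside the graph, as list-presented groups

A generator that is not a node of the graph need not be an involution; it gets a second letter
for its inverse.
-/

set_option autoImplicit false

namespace Cfsg.Agent.Helper5.LP

open Cfsg.Agent.Helper5.TC Cfsg.Agent.Helper5.TCI Cfsg.Spor

/-- the letters of a free group element; the inverse of the generator `x` is the letter
`ι (idx x)`. -/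
def lettersOfI {α : Type*} [DecidableEq α] (ι : ℕ → ℕ) (idx : α → ℕ) (r : FreeGroup α) : List ℕ :=
  r.toWord.map (fun p => cond p.2 (idx p.1) (ι (idx p.1)))

section
variable {α : Type*} [DecidableEq α] (edges : List (α × ℕ × α)) (extra : List (FreeGroup α))
  (k : ℕ) (R : List (List ℕ)) (ι : ℕ → ℕ) (idx : α → ℕ) (gen : ℕ → α × Bool)

/-- the element of the Coxeter-style presented group spelled by a letter. -/
noncomputable def letterElt (c : ℕ) : CoxPresented α edges extra :=
  cond (gen c).2 (PresentedGroup.of (gen c).1) (PresentedGroup.of (gen c).1)⁻¹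

/-- **A Coxeter-style presentation is a list-presented group with inverse letters.** -/
theorem cox_equivI (hιι : ∀ x, ι (ι x) = x) (hιk : ∀ x, x < k → ι x < k)
    (hgi : ∀ x, gen (idx x) = (x, true)) (hidx : ∀ x, idx x < k)
    (hinvg : ∀ x, gen (ι (idx x)) = (x, false) ∨ (ι (idx x) = idx x ∧ x ∈ coxNodes edges))
    (hig : ∀ c, c < k → cond (gen c).2 (idx (gen c).1) (ι (idx (gen c).1)) = c)
    (hlt : LettersLt k R) (hinv : InvolI k ι R)
    (hcox : ∀ x ∈ coxNodes edges, ∀ y ∈ coxNodes edges,
      coxWord (idx x) (idx y) (coxLabel edges x y) ∈ R ∨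
        coxWord (idx y) (idx x) (coxLabel edges x y) ∈ R)
    (hextra : ∀ r ∈ extra, lettersOfI ι idx r ∈ R)
    (hR : ∀ l ∈ R, (∃ x ∈ coxNodes edges, ∃ y ∈ coxNodes edges,
        l = coxWord (idx x) (idx y) (coxLabel edges x y)) ∨ (∃ r ∈ extra, l = lettersOfI ι idx r) ∨
        ∃ c, c < k ∧ l = [c, ι c] ∧ gen (ι c) = ((gen c).1, !(gen c).2)) :
    Nonempty (CoxPresented α edges extra ≃* LPG k R) := by
  -- nodes are involutions
  have hinvC : ∀ x ∈ coxNodes edges,
      (PresentedGroup.of x : CoxPresented α edges extra) * PresentedGroup.of x = 1 := by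
    intro x hx
    have hmem : (FreeGroup.of x * FreeGroup.of x) ^ coxLabel edges x x ∈
        coxRelators edges ∪ {r | r ∈ extra} :=
      Or.inl ⟨x, hx, x, hx, rfl⟩
    have := PresentedGroup.one_of_mem hmem
    have hl : coxLabel edges x x = 1 := by unfold coxLabel; simp
    rw [hl, pow_one, map_mul] at this
    exact this
  have hLE : ∀ x, letterElt edges extra gen (idx x) = PresentedGroup.of x := by
    intro x
    unfold letterElt
    rw [hgi x]
    rfl
  have hLEinv : ∀ x, letterElt edges extra gen (ι (idx x)) =
      (PresentedGroup.of x : CoxPresented α edges extra)⁻¹ := by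
    intro x
    rcases hinvg x with h | ⟨h1, h2⟩
    · unfold letterElt
      rw [h]
      rfl
    · rw [h1, hLE]
      exact eq_inv_of_mul_eq_one_left (hinvC x h2)
  have hφ : ∀ r ∈ coxRelators edges ∪ {r | r ∈ extra},
      FreeGroup.lift (fun x => ev k R [idx x]) r = 1 := by
    rintro r (⟨x, hx, y, hy, rfl⟩ | hr)
    · rw [map_pow, map_mul, FreeGroup.lift_apply_of, FreeGroup.lift_apply_of]
      rcases hcox x hx y hy with h | h
      · rw [← ev_coxWord]; exact ev_rel h
      · have h1 := ev_rel (k := k) h
        rw [ev_coxWord] at h1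
        have h2 : ev k R [idx x] * ev k R [idx y] =
            ev k R [idx x] * (ev k R [idx y] * ev k R [idx x]) * (ev k R [idx x])⁻¹ := by group
        rw [h2, conj_pow, h1]
        group
    · have hr' : r ∈ extra := hr
      rw [hom_eq_prod]
      have : (r.toWord.map (fun p => cond p.2
            (FreeGroup.lift (fun x => ev k R [idx x]) (FreeGroup.of p.1))
            (FreeGroup.lift (fun x => ev k R [idx x]) (FreeGroup.of p.1))⁻¹))
          = (lettersOfI ι idx r).map (fun c => ev k R [c]) := by
        unfold lettersOfI
        rw [List.map_map]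
        apply List.map_congr_left
        intro p _
        rw [FreeGroup.lift_apply_of]
        rcases p with ⟨x, b⟩
        cases b
        · exact ev_inv_iota hιι hιk hinv (idx x)
        · rfl
      rw [this, prod_map_ev]
      exact ev_rel (hextra r hr')
  have hψ : ∀ l ∈ R, (l.map (letterElt edges extra gen)).prod = 1 := by
    intro l hl
    rcases hR l hl with ⟨x, hx, y, hy, rfl⟩ | ⟨r, hr, rfl⟩ | ⟨c, -, rfl, hc⟩
    · have hmem : (FreeGroup.of x * FreeGroup.of y) ^ coxLabel edges x y ∈
          coxRelators edges ∪ {r | r ∈ extra} := Or.inl ⟨x, hx, y, hy, rfl⟩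
      have h1 := PresentedGroup.one_of_mem hmem
      rw [map_pow, map_mul] at h1
      have h2 : ∀ m : ℕ, ((coxWord (idx x) (idx y) m).map (letterElt edges extra gen)).prod =
          (PresentedGroup.of x * PresentedGroup.of y) ^ m := by
        intro m
        induction m with
        | zero => simp [coxWord]
        | succ m ih =>
          rw [coxWord_succ, List.map_append, List.prod_append, ih, pow_succ']
          simp [hLE]
      rw [h2]
      exact h1
    · have hmem : r ∈ coxRelators edges ∪ {r | r ∈ extra} := Or.inr hr
      have h1 := PresentedGroup.one_of_mem hmem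
      rw [hom_eq_prod] at h1
      rw [← h1]
      unfold lettersOfI
      rw [List.map_map]
      congr 1
      apply List.map_congr_left
      intro p _
      rcases p with ⟨x, b⟩
      cases b
      · exact hLEinv x
      · exact hLE x
    · simp only [List.map_cons, List.map_nil, List.prod_cons, List.prod_nil, mul_one]
      unfold letterElt
      rw [hc]
      cases (gen c).2 <;> simp
  let φ : CoxPresented α edges extra →* LPG k R := PresentedGroup.toGroup hφ
  let ψ : LPG k R →* CoxPresented α edges extra := lift (letterElt edges extra gen) hlt hψ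
  have h1 : ψ.comp φ = MonoidHom.id _ := by
    apply PresentedGroup.ext
    intro x
    show ψ (φ (PresentedGroup.of x)) = PresentedGroup.of x
    rw [PresentedGroup.toGroup.of]
    show lift _ hlt hψ (ev k R [idx x]) = _
    rw [lift_ev _ _ _ [idx x] (by simpa using hidx x)]
    simp [hLE]
  have h2 : φ.comp ψ = MonoidHom.id _ := by
    apply PresentedGroup.ext
    intro z
    show φ (ψ (PresentedGroup.of z)) = PresentedGroup.of z
    rw [of_eq_ev]
    show φ (lift _ hlt hψ (ev k R [z.val])) = _
    rw [lift_ev _ _ _ [z.val] (by simp)]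
    simp only [List.map_cons, List.map_nil, List.prod_cons, List.prod_nil, mul_one]
    have hz := hig z.val z.isLt
    unfold letterElt
    rcases hg : gen z.val with ⟨x, b⟩
    rw [hg] at hz
    cases b
    · simp only [cond_false] at hz ⊢
      rw [map_inv, PresentedGroup.toGroup.of, ev_inv_iota hιι hιk hinv, hz]
    · simp only [cond_true] at hz ⊢
      rw [PresentedGroup.toGroup.of, hz]
  exact ⟨MonoidHom.toMulEquiv φ ψ h1 h2⟩

end

end Cfsg.Agent.Helper5.LP
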