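import Mathlib
import Cfsg.Agent.Helper5.LPX

/-!
# Powers of products of tabulated permutations
-/

set_option autoImplicit false

namespace Cfsg.Agent.Helper5.LP

open Cfsg.Agent.Helper5.TC Cfsg.Agent.Helper5.TCI

section
variable {k N : ℕ} {T : ℕ → ℕ → ℕ}

/-- the composition of two tabulated permutations is the permutation of the concatenated word. -/
theorem agree_append (hT : TableOK k N T) (l1 l2 : List ℕ) (hl2 : ∀ c ∈ l2, c < k)
    (p1 p2 : ℕ → ℕ) (h1 : ∀ v, v < N → p1 v = actL T l1 v) (h2 : ∀ v, v < N → p2 v = actL T l2 v) :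
    ∀ v, v < N → p1 (p2 v) = actL T (l1 ++ l2) v := by
  intro v hv
  rw [actL_append, h2 v hv]
  exact h1 _ (actL_lt hT l2 hl2 v hv)

/-- the power of a word through a function agreeing with its permutation. -/
theorem fixRange_pow_of_agree (hT : TableOK k N T) (l : List ℕ)
    (hl : ∀ c ∈ l, c < k) (px : ℕ → ℕ) (p : ℕ) (hag : ∀ v, v < N → px v = actL T l v)
    (h2 : iterFixRangeF px p N 0 = true) :
    fixRange T (List.replicate p l).flatten N 0 = true := by
  have hit : ∀ (j : ℕ) (v : ℕ), v < N →
      iterF px j v = actL T (List.replicate j l).flatten v := by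
    intro j
    induction j with
    | zero => intro v _; rfl
    | succ j ih =>
      intro v hv
      rw [iterF, forceL_eq, hag v hv, ih _ (actL_lt hT l hl v hv), List.replicate_succ',
        List.flatten_append, actL_append]
      simp
  apply fixRange_of_forall
  intro v _ hv
  have hv' : v < N := by omega
  rw [← hit p v hv']
  exact iterFixRangeF_spec px p N 0 h2 v (Nat.zero_le _) (by omega)

end

end Cfsg.Agent.Helper5.LP
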