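import Mathlib
import Cfsg.Prelude.Def_Local
import Cfsg.Agent.Helper2.SubnormalP
import Cfsg.Agent.Helper2.Layer3
import Cfsg.Agent.Helper5.FEAction
import Cfsg.Agent.Helper5.CompComm
import Cfsg.Agent.Helper5.CoprimeQuot
import Cfsg.Agent.Helper5.Misc
import Cfsg.Agent.Helper5.CharP2

/-!
Helper lemmas (helper5): structure of `L = [F*(H), Q]` for a `p`-subgroup `Q` when `O_p(H) = 1`.
-/

set_option autoImplicit false

namespace Cfsg.Agent.Helper5

open Cfsg.Agent.Helper1 Cfsg.Agent.Helper2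
open scoped commutatorElement

variable {H : Type*} [Group H]

theorem le_centralizer_sup {X A B : Subgroup H} (hA : X ≤ Subgroup.centralizer (A : Set H))
    (hB : X ≤ Subgroup.centralizer (B : Set H)) : X ≤ Subgroup.centralizer ((A ⊔ B : Subgroup H) : Set H) := by
  rw [Subgroup.le_centralizer_iff]
  exact sup_le (Subgroup.le_centralizer_iff.mp hA) (Subgroup.le_centralizer_iff.mp hB)

theorem centralizer_sup_le_left (A B : Subgroup H) :
    Subgroup.centralizer ((A ⊔ B : Subgroup H) : Set H) ≤ Subgroup.centralizer (A : Set H) :=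
  Subgroup.centralizer_le (SetLike.coe_subset_coe.mpr le_sup_left)

theorem centralizer_sup_le_right (A B : Subgroup H) :
    Subgroup.centralizer ((A ⊔ B : Subgroup H) : Set H) ≤ Subgroup.centralizer (B : Set H) :=
  Subgroup.centralizer_le (SetLike.coe_subset_coe.mpr le_sup_right)

/-- `N(A) ∩ N(B) ≤ N([A, B])`. -/
theorem mem_normalizer_commutator (A B : Subgroup H) (g : H) (hA : g ∈ Subgroup.normalizer (A : Set H))
    (hB : g ∈ Subgroup.normalizer (B : Set H)) :
    g ∈ Subgroup.normalizer ((⁅A, B⁆ : Subgroup H) : Set H) := by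
  rw [mem_normalizer_iff_map_conj] at hA hB ⊢
  rw [Subgroup.map_commutator, hA, hB]

/-- A `p`-subgroup centralizing `F*(H)` is trivial when `O_p(H) = 1`. -/
theorem eq_bot_of_le_centralizer_genFitting [Finite H] {p : ℕ} [Fact p.Prime] (hO : Cfsg.pCore p H = ⊥)
    (Y₀ : Subgroup H) (hY₀p : IsPGroup p ↥Y₀)
    (hcen : Y₀ ≤ Subgroup.centralizer (Cfsg.generalizedFittingSubgroup H : Set H)) : Y₀ = ⊥ := by
  set FS := Cfsg.generalizedFittingSubgroup H with hFS
  have hFSn : FS.Normal := inferInstance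
  have hY₀F : Y₀ ≤ FS := hcen.trans centralizer_generalizedFittingSubgroup_le
  set Z := FS ⊓ Subgroup.centralizer (FS : Set H) with hZ
  have hZn : Z.Normal := by
    have : (Subgroup.centralizer (FS : Set H)).Normal := Subgroup.normal_centralizer
    infer_instance
  have hY₀Z : Y₀ ≤ Z := le_inf hY₀F hcen
  have hnorm : Z ≤ Subgroup.normalizer (Y₀ : Set H) := by
    intro z hz
    rw [Subgroup.mem_normalizer_iff]
    intro y
    have hcomm : ∀ w ∈ FS, z * w * z⁻¹ = w := by
      intro w hw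
      have := (Subgroup.mem_centralizer_iff.mp hz.2) w hw
      rw [← this]; group
    constructor
    · intro hy
      rw [hcomm y (hY₀F hy)]; exact hy
    · intro hy
      have h2 : z * y * z⁻¹ ∈ FS := hY₀F hy
      have h3 : y ∈ FS := by
        have := hFSn.conj_mem _ h2 z⁻¹
        have e : z⁻¹ * (z * y * z⁻¹) * z⁻¹⁻¹ = y := by group
        rwa [e] at this
      rw [hcomm y h3] at hy
      exact hy
  have hsub : Y₀.IsSubnormal :=
    Subgroup.IsSubnormal.step Y₀ Z hY₀Z hZn.isSubnormal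
      ((Subgroup.normal_subgroupOf_iff_le_normalizer hY₀Z).mpr hnorm)
  have := isSubnormal_pGroup_le_pCore hsub hY₀p
  rw [hO] at this
  exact eq_bot_iff.mpr this

section LQ

variable [Finite H] {p : ℕ} [Fact p.Prime]

/-- `L = [F*(H), Q]` is an `FE`-group. -/
theorem lq_isFE (hO : Cfsg.pCore p H = ⊥) (Q : Subgroup H) :
    IsFE p ↥(⁅Cfsg.generalizedFittingSubgroup H, Q⁆ : Subgroup H) := by
  set FS := Cfsg.generalizedFittingSubgroup H with hFS
  have hFSn : FS.Normal := inferInstance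
  have hLFS : ⁅FS, Q⁆ ≤ FS := Subgroup.commutator_le_left _ _
  have hsn : (⁅FS, Q⁆ : Subgroup H).IsSubnormal :=
    Subgroup.IsSubnormal.step _ FS hLFS hFSn.isSubnormal
      ((Subgroup.normal_subgroupOf_iff_le_normalizer hLFS).mpr (Subgroup.normalizer_commutator_ge_left FS Q))
  exact isFE_of_subnormal_le_genFitting hO _ hLFS hsn

/-- `C_L(Q) ≤ L'` for `L = [F*(H), Q]`. -/
theorem lq_inf_centralizer_le (hO : Cfsg.pCore p H = ⊥) (Q : Subgroup H) (hQ : IsPGroup p ↥Q) :
    (⁅Cfsg.generalizedFittingSubgroup H, Q⁆ : Subgroup H) ⊓ Subgroup.centralizer (Q : Set H) ≤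
      ⁅(⁅Cfsg.generalizedFittingSubgroup H, Q⁆ : Subgroup H), ⁅Cfsg.generalizedFittingSubgroup H, Q⁆⁆ := by
  set FS := Cfsg.generalizedFittingSubgroup H with hFS
  set L := (⁅FS, Q⁆ : Subgroup H) with hL
  have hFE : IsFE p ↥L := lq_isFE hO Q
  have hQL : Q ≤ Subgroup.normalizer (L : Set H) := Subgroup.normalizer_commutator_ge_right FS Q
  have hLQ : ⁅L, Q⁆ = L := genFitting_comm_comm hO Q hQ
  set FL := (Cfsg.fittingSubgroup ↥L).map L.subtype with hFLdef
  set EL := (Cfsg.layer ↥L).map L.subtype with hELdef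
  have hFL : FL ≤ L := by rintro _ ⟨x, -, rfl⟩; exact x.2
  have hLeq : L = FL ⊔ EL := by
    rw [hFLdef, hELdef, ← Subgroup.map_sup, hFE.1, ← MonoidHom.range_eq_map, Subgroup.range_subtype]
  have hEL : EL ≤ ⁅L, L⁆ := by
    have h1 : ⁅Cfsg.layer ↥L, Cfsg.layer ↥L⁆ = Cfsg.layer ↥L := layer_perfect
    have h2 : EL = ⁅EL, EL⁆ := by
      rw [hELdef, ← Subgroup.map_commutator, h1]
    rw [h2]
    have hELL : EL ≤ L := by rintro _ ⟨x, -, rfl⟩; exact x.2
    exact Subgroup.commutator_mono hELL hELL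
  have hLle : L ≤ FL ⊔ ⁅L, L⁆ := by
    calc L = FL ⊔ EL := hLeq
      _ ≤ FL ⊔ ⁅L, L⁆ := sup_le_sup le_rfl hEL
  have hcop : (Nat.card ↥Q).Coprime (Nat.card ↥FL) := by
    have e' : ↥(Cfsg.fittingSubgroup ↥L) ≃* ↥FL :=
      (Cfsg.fittingSubgroup ↥L).equivMapOfInjective L.subtype L.subtype_injective
    rw [← Nat.card_congr e'.toEquiv]
    obtain ⟨k, hk⟩ := IsPGroup.iff_card.mp hQ
    rw [hk]
    exact Nat.Coprime.pow_left k hFE.2.symm
  exact inf_centralizer_le_commutator_of_coprime L Q FL hQL hLQ hFL hLle hcop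

/-- For a `p`-subgroup `B` normalizing `L = [F*(H), Q]`: `[L, B, B] = [L, B]`. -/
theorem lq_comm_comm (hO : Cfsg.pCore p H = ⊥) (Q : Subgroup H) (B : Subgroup H) (hB : IsPGroup p ↥B)
    (hBL : B ≤ Subgroup.normalizer ((⁅Cfsg.generalizedFittingSubgroup H, Q⁆ : Subgroup H) : Set H)) :
    ⁅⁅(⁅Cfsg.generalizedFittingSubgroup H, Q⁆ : Subgroup H), B⁆, B⁆ =
      ⁅(⁅Cfsg.generalizedFittingSubgroup H, Q⁆ : Subgroup H), B⁆ :=
  comm_comm_eq_of_decomp B _ (fe_decomp _ B hB hBL (lq_isFE hO Q))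

/-- `F*(H)` normalizes `L ⊔ Q` where `L = [F*(H), Q]`. -/
theorem lq_genFitting_le_normalizer_sup (Q : Subgroup H) :
    Cfsg.generalizedFittingSubgroup H ≤
      Subgroup.normalizer (((⁅Cfsg.generalizedFittingSubgroup H, Q⁆ : Subgroup H) ⊔ Q : Subgroup H) : Set H) := by
  set FS := Cfsg.generalizedFittingSubgroup H with hFS
  set L := (⁅FS, Q⁆ : Subgroup H) with hL
  have hFSL : FS ≤ Subgroup.normalizer (L : Set H) := Subgroup.normalizer_commutator_ge_left FS Q
  apply le_normalizer_of_conj_mem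
  intro g hg x hx
  have hle : (L ⊔ Q).map (MulAut.conj g).toMonoidHom ≤ L ⊔ Q := by
    rw [Subgroup.map_sup]
    apply sup_le
    · rw [(mem_normalizer_iff_map_conj L g).mp (hFSL hg)]
      exact le_sup_left
    · rw [map_conj_le_iff]
      intro q hq
      have h1 : g * q * g⁻¹ = ⁅g, q⁆ * q := by rw [commutatorElement_def]; group
      rw [h1]
      exact Subgroup.mul_mem _ (Subgroup.mem_sup_left (Subgroup.commutator_mem_commutator hg hq))
        (Subgroup.mem_sup_right hq)
  exact hle (conj_mem_map_conj _ g x hx)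

/-- The largest normal subgroup of `F*(H)` centralized by `Q` is `C_{F*(H)}(L Q)`. -/
theorem lq_F_eq (Q : Subgroup H) (F : Subgroup H)
    (hF : F ≤ Cfsg.generalizedFittingSubgroup H ∧
      Cfsg.generalizedFittingSubgroup H ≤ Subgroup.normalizer (F : Set H) ∧
      Q ≤ Subgroup.centralizer (F : Set H) ∧
      ∀ N : Subgroup H, N ≤ Cfsg.generalizedFittingSubgroup H →
        Cfsg.generalizedFittingSubgroup H ≤ Subgroup.normalizer (N : Set H) →
        Q ≤ Subgroup.centralizer (N : Set H) → N ≤ F) :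
    F = Cfsg.generalizedFittingSubgroup H ⊓
      Subgroup.centralizer (((⁅Cfsg.generalizedFittingSubgroup H, Q⁆ : Subgroup H) ⊔ Q : Subgroup H) : Set H) := by
  set FS := Cfsg.generalizedFittingSubgroup H with hFS
  set L := (⁅FS, Q⁆ : Subgroup H) with hL
  obtain ⟨hF1, hF2, hF3, hF4⟩ := hF
  have hFQ : F ≤ Subgroup.centralizer (Q : Set H) := Subgroup.le_centralizer_iff.mp hF3
  have hFL : F ≤ Subgroup.centralizer (L : Set H) := by
    rw [Subgroup.le_centralizer_iff, ← Subgroup.commutator_eq_bot_iff_le_centralizer]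
    apply Subgroup.commutator_commutator_eq_bot_of_rotate
    · have : ⁅Q, F⁆ = ⊥ := by
        rw [Subgroup.commutator_eq_bot_iff_le_centralizer]; exact hF3
      rw [this, Subgroup.commutator_bot_left]
    · rw [eq_bot_iff]
      have h1 : ⁅F, FS⁆ ≤ F := Subgroup.le_normalizer_iff_commutator_le_left.1 hF2
      have h2 : ⁅F, Q⁆ = ⊥ := by
        rw [Subgroup.commutator_eq_bot_iff_le_centralizer]; exact hFQ
      rw [← h2]
      exact Subgroup.commutator_mono h1 le_rfl
  apply le_antisymm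
  · exact le_inf hF1 (le_centralizer_sup hFL hFQ)
  · apply hF4 _ inf_le_left
    · intro g hg
      exact mem_normalizer_inf FS _ g (Subgroup.le_normalizer hg)
        (normalizer_le_normalizer_centralizer (L ⊔ Q) (lq_genFitting_le_normalizer_sup Q hg))
    · rw [Subgroup.le_centralizer_iff]
      exact inf_le_right.trans (centralizer_sup_le_right L Q)

/-- A `p`-subgroup centralizing `F` and `L = [F*(H), Q]` is trivial. -/
theorem lq_centralizer_pgroup_eq_bot (hO : Cfsg.pCore p H = ⊥) (Q : Subgroup H) (hQ : IsPGroup p ↥Q)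
    (F : Subgroup H)
    (hF4 : ∀ N : Subgroup H, N ≤ Cfsg.generalizedFittingSubgroup H →
        Cfsg.generalizedFittingSubgroup H ≤ Subgroup.normalizer (N : Set H) →
        Q ≤ Subgroup.centralizer (N : Set H) → N ≤ F)
    (P : Subgroup H) (hP : IsPGroup p ↥P) (hPF : P ≤ Subgroup.centralizer (F : Set H))
    (hPL : P ≤ Subgroup.centralizer ((⁅Cfsg.generalizedFittingSubgroup H, Q⁆ : Subgroup H) : Set H)) :
    P = ⊥ := by
  have hp : p.Prime := Fact.out
  set FS := Cfsg.generalizedFittingSubgroup H with hFS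
  set L := (⁅FS, Q⁆ : Subgroup H) with hL
  set E := Cfsg.layer H with hE
  set F₀ := Cfsg.fittingSubgroup H with hF₀
  have hEFS : E ≤ FS := layer_le_generalizedFittingSubgroup
  have hF₀FS : F₀ ≤ FS := fittingSubgroup_le_generalizedFittingSubgroup
  have hF₀n : F₀.Normal := inferInstance
  -- `P` centralizes `E`
  have hPE : P ≤ Subgroup.centralizer (E : Set H) := by
    rw [Subgroup.le_centralizer_iff]
    apply sSup_le
    intro K hK
    rw [← Subgroup.le_centralizer_iff]
    rcases component_le_commutator_or_centralizes Q hK with h | h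
    · have hKF : K ≤ F :=
        hF4 K ((component_le_layer hK).trans hEFS) (genFitting_le_normalizer_component hK) h
      exact hPF.trans (Subgroup.centralizer_le (SetLike.coe_subset_coe.mpr hKF))
    · have hKL : K ≤ L := h.trans (Subgroup.commutator_mono hEFS le_rfl)
      exact hPL.trans (Subgroup.centralizer_le (SetLike.coe_subset_coe.mpr hKL))
  -- `P` centralizes `F₀`
  set F₁ := (⁅F₀, Q⁆ : Subgroup H) with hF₁
  have hF₁L : F₁ ≤ L := Subgroup.commutator_mono hF₀FS le_rfl
  have hF₁F₀ : F₁ ≤ F₀ := Subgroup.commutator_le_left _ _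
  have hF₀NF₁ : F₀ ≤ Subgroup.normalizer (F₁ : Set H) := Subgroup.normalizer_commutator_ge_left F₀ Q
  have hQNF₁ : Q ≤ Subgroup.normalizer (F₁ : Set H) := Subgroup.normalizer_commutator_ge_right F₀ Q
  have hPF₁ : P ≤ Subgroup.centralizer (F₁ : Set H) :=
    hPL.trans (Subgroup.centralizer_le (SetLike.coe_subset_coe.mpr hF₁L))
  set C₁ := F₀ ⊓ Subgroup.centralizer (F₁ : Set H) with hC₁
  have hcopF₀ : (Nat.card ↥F₀).Coprime p := fitting_coprime_of_pCore_eq_bot hO
  have hcop_of_le : ∀ (R K : Subgroup H), IsPGroup p ↥R → K ≤ F₀ → (Nat.card ↥R).Coprime (Nat.card ↥K) := by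
    intro R K hR hK
    obtain ⟨k, hk⟩ := IsPGroup.iff_card.mp hR
    rw [hk]
    exact Nat.Coprime.pow_left k
      ((hcopF₀.coprime_dvd_left (Subgroup.card_dvd_of_le hK)).symm)
  have hsolv_of : ∀ (R : Subgroup H), IsPGroup p ↥R → Group.IsSolvable ↥R := by
    intro R hR
    have : Group.IsNilpotent ↥R := hR.isNilpotent
    infer_instance
  have hNF₀ : ∀ g : H, g ∈ Subgroup.normalizer (F₀ : Set H) := by
    intro g; rw [Subgroup.normalizer_eq_top]; trivial
  have hQNC₁ : Q ≤ Subgroup.normalizer (C₁ : Set H) := by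
    intro q hq
    exact mem_normalizer_inf F₀ _ q (hNF₀ q) (normalizer_le_normalizer_centralizer F₁ (hQNF₁ hq))
  have hF₀NC₁ : F₀ ≤ Subgroup.normalizer (C₁ : Set H) := by
    intro g hg
    exact mem_normalizer_inf F₀ _ g (hNF₀ g) (normalizer_le_normalizer_centralizer F₁ (hF₀NF₁ hg))
  have hdec : ⁅C₁, Q⁆ ⊔ (C₁ ⊓ Subgroup.centralizer (Q : Set H)) = C₁ :=
    coprime_commutator_sup_centralizer Q C₁ hQNC₁ (hcop_of_le Q C₁ hQ inf_le_left) (Or.inl (hsolv_of Q hQ))
  -- the fixed points of `Q` on `C₁` lie in `F`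
  set N := F₀ ⊓ Subgroup.centralizer ((F₁ ⊔ Q : Subgroup H) : Set H) with hN
  have hNF : N ≤ F := by
    apply hF4 N (inf_le_left.trans hF₀FS)
    · -- `F*(H)` normalizes `N`
      rw [hFS]
      unfold Cfsg.generalizedFittingSubgroup
      apply sup_le
      · intro e he
        apply Subgroup.centralizer_le_normalizer
        rw [Subgroup.mem_centralizer_iff]
        intro n hn
        exact (layer_commute_fitting he hn.1).symm
      · intro g hg
        apply mem_normalizer_inf F₀ _ g (hNF₀ g)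
        apply normalizer_le_normalizer_centralizer (F₁ ⊔ Q)
        apply mem_normalizer_of_conj_mem
        intro x hx
        have hle : (F₁ ⊔ Q).map (MulAut.conj g).toMonoidHom ≤ F₁ ⊔ Q := by
          rw [Subgroup.map_sup]
          apply sup_le
          · rw [(mem_normalizer_iff_map_conj F₁ g).mp (hF₀NF₁ hg)]
            exact le_sup_left
          · rw [map_conj_le_iff]
            intro q hq
            have h1 : g * q * g⁻¹ = ⁅g, q⁆ * q := by rw [commutatorElement_def]; group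
            rw [h1]
            exact Subgroup.mul_mem _ (Subgroup.mem_sup_left (Subgroup.commutator_mem_commutator hg hq))
              (Subgroup.mem_sup_right hq)
        exact hle (conj_mem_map_conj _ g x hx)
    · rw [Subgroup.le_centralizer_iff]
      exact inf_le_right.trans (centralizer_sup_le_right F₁ Q)
  have hPC₁ : P ≤ Subgroup.centralizer (C₁ : Set H) := by
    rw [← hdec]
    apply le_centralizer_sup
    · have h1 : ⁅C₁, Q⁆ ≤ F₁ := Subgroup.commutator_mono inf_le_left le_rfl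
      exact hPF₁.trans (Subgroup.centralizer_le (SetLike.coe_subset_coe.mpr h1))
    · have h1 : C₁ ⊓ Subgroup.centralizer (Q : Set H) ≤ N := by
        intro x hx
        obtain ⟨hx1, hx2⟩ := Subgroup.mem_inf.mp hx
        obtain ⟨hx3, hx4⟩ := Subgroup.mem_inf.mp hx1
        apply Subgroup.mem_inf.mpr
        refine ⟨hx3, ?_⟩
        have h2 : Subgroup.zpowers x ≤ Subgroup.centralizer ((F₁ ⊔ Q : Subgroup H) : Set H) := by
          apply le_centralizer_sup
          · rw [Subgroup.zpowers_le]; exact hx4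
          · rw [Subgroup.zpowers_le]; exact hx2
        exact h2 (Subgroup.mem_zpowers x)
      exact hPF.trans (Subgroup.centralizer_le (SetLike.coe_subset_coe.mpr (h1.trans hNF)))
  set X₁ := F₁ ⊔ C₁ with hX₁
  have hPX₁ : P ≤ Subgroup.centralizer (X₁ : Set H) := le_centralizer_sup hPF₁ hPC₁
  have hX₁P : ⁅X₁, P⁆ = ⊥ := by
    rw [Subgroup.commutator_eq_bot_iff_le_centralizer]
    exact Subgroup.le_centralizer_iff.mp hPX₁
  have hF₀NX₁ : F₀ ≤ Subgroup.normalizer (X₁ : Set H) := by
    intro g hg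
    have h1 := (mem_normalizer_iff_map_conj F₁ g).mp (hF₀NF₁ hg)
    have h2 := (mem_normalizer_iff_map_conj C₁ g).mp (hF₀NC₁ hg)
    rw [mem_normalizer_iff_map_conj, hX₁, Subgroup.map_sup, h1, h2]
  set AP := (⁅F₀, P⁆ : Subgroup H) with hAP
  have hAPF₀ : AP ≤ F₀ := Subgroup.commutator_le_left _ _
  have hAPX₁ : ⁅AP, X₁⁆ = ⊥ := by
    apply Subgroup.commutator_commutator_eq_bot_of_rotate
    · have : ⁅P, X₁⁆ = ⊥ := by
        rw [Subgroup.commutator_eq_bot_iff_le_centralizer]; exact hPX₁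
      rw [this, Subgroup.commutator_bot_left]
    · rw [eq_bot_iff, ← hX₁P]
      exact Subgroup.commutator_mono (Subgroup.le_normalizer_iff_commutator_le_left.1 hF₀NX₁) le_rfl
  have hAPC₁ : AP ≤ C₁ := by
    rw [Subgroup.commutator_eq_bot_iff_le_centralizer] at hAPX₁
    apply le_inf hAPF₀
    exact hAPX₁.trans (centralizer_sup_le_left F₁ C₁)
  have hAPP : ⁅AP, P⁆ = ⊥ := by
    rw [eq_bot_iff, ← hX₁P]
    exact Subgroup.commutator_mono (hAPC₁.trans le_sup_right) le_rfl
  have hPNF₀ : P ≤ Subgroup.normalizer (F₀ : Set H) := fun g _ => hNF₀ g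
  have hAPeq : ⁅AP, P⁆ = AP :=
    coprime_commutator_commutator P F₀ hPNF₀ (hcop_of_le P F₀ hP le_rfl) (Or.inl (hsolv_of P hP))
  have hAPbot : AP = ⊥ := by rw [← hAPeq]; exact hAPP
  have hPF₀ : P ≤ Subgroup.centralizer (F₀ : Set H) := by
    rw [Subgroup.le_centralizer_iff, ← Subgroup.commutator_eq_bot_iff_le_centralizer]
    exact hAPbot
  -- conclusion
  apply eq_bot_of_le_centralizer_genFitting hO P hP
  show P ≤ Subgroup.centralizer ((Cfsg.layer H ⊔ Cfsg.fittingSubgroup H : Subgroup H) : Set H)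
  exact le_centralizer_sup hPE hPF₀

end LQ

end Cfsg.Agent.Helper5
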