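import Cfsg.Agent.Helper5.M11BTCChkE0
import Cfsg.Agent.Helper5.M11BTCChkR0
import Cfsg.Agent.Helper5.M11BTCChkA
import Cfsg.Agent.Helper5.TCIB

/-! summary of the kernel checks: M11BTC -/

set_option autoImplicit false
set_option Elab.async false

namespace Cfsg.Agent.Helper5.M11BTC
open Cfsg.Agent.Helper5.TC Cfsg.Agent.Helper5.TCI

theorem edgesx_0 : ∀ v, v < 14109 → edgeOKI iota E 0 v = true := by
  intro v hv
  rcases Nat.lt_or_ge v 8896 with h | h
  · rcases Nat.lt_or_ge v 4533 with h | h
    · exact edgesRangeI_spec iota E 0 4533 0 edges_0_0 v (by omega) (by omega)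
    · exact edgesRangeI_spec iota E 0 4363 4533 edges_0_1 v (by omega) (by omega)
  · rcases Nat.lt_or_ge v 12242 with h | h
    · exact edgesRangeI_spec iota E 0 3346 8896 edges_0_2 v (by omega) (by omega)
    · rcases Nat.lt_or_ge v 14033 with h | h
      · exact edgesRangeI_spec iota E 0 1791 12242 edges_0_3 v (by omega) (by omega)
      · exact edgesRangeI_spec iota E 0 76 14033 edges_0_4 v (by omega) (by omega)

theorem edgesx_1 : ∀ v, v < 14109 → edgeOKI iota E 1 v = true := by
  intro v hv
  rcases Nat.lt_or_ge v 6935 with h | h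
  · rcases Nat.lt_or_ge v 3534 with h | h
    · exact edgesRangeI_spec iota E 1 3534 0 edges_1_0 v (by omega) (by omega)
    · exact edgesRangeI_spec iota E 1 3401 3534 edges_1_1 v (by omega) (by omega)
  · rcases Nat.lt_or_ge v 10175 with h | h
    · exact edgesRangeI_spec iota E 1 3240 6935 edges_1_2 v (by omega) (by omega)
    · rcases Nat.lt_or_ge v 12807 with h | h
      · exact edgesRangeI_spec iota E 1 2632 10175 edges_1_3 v (by omega) (by omega)
      · exact edgesRangeI_spec iota E 1 1302 12807 edges_1_4 v (by omega) (by omega)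

theorem edgesx_2 : ∀ v, v < 14109 → edgeOKI iota E 2 v = true := by
  intro v hv
  rcases Nat.lt_or_ge v 9273 with h | h
  · rcases Nat.lt_or_ge v 4625 with h | h
    · exact edgesRangeI_spec iota E 2 4625 0 edges_2_0 v (by omega) (by omega)
    · exact edgesRangeI_spec iota E 2 4648 4625 edges_2_1 v (by omega) (by omega)
  · rcases Nat.lt_or_ge v 13441 with h | h
    · exact edgesRangeI_spec iota E 2 4168 9273 edges_2_2 v (by omega) (by omega)
    · exact edgesRangeI_spec iota E 2 668 13441 edges_2_3 v (by omega) (by omega)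

theorem hA0 : ∀ v, v < 14109 → aliasOK E v = true := by
  intro v hv
  rcases Nat.lt_or_ge v 8561 with h | h
  · rcases Nat.lt_or_ge v 4125 with h | h
    · exact aliasRange_spec E 4125 0 aliases_0 v (by omega) (by omega)
    · rcases Nat.lt_or_ge v 6528 with h | h
      · exact aliasRange_spec E 2403 4125 aliases_1 v (by omega) (by omega)
      · exact aliasRange_spec E 2033 6528 aliases_2 v (by omega) (by omega)
  · rcases Nat.lt_or_ge v 12196 with h | h
    · rcases Nat.lt_or_ge v 10421 with h | h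
      · exact aliasRange_spec E 1860 8561 aliases_3 v (by omega) (by omega)
      · exact aliasRange_spec E 1775 10421 aliases_4 v (by omega) (by omega)
    · rcases Nat.lt_or_ge v 13885 with h | h
      · exact aliasRange_spec E 1689 12196 aliases_5 v (by omega) (by omega)
      · exact aliasRange_spec E 224 13885 aliases_6 v (by omega) (by omega)

theorem hrows0 : ∀ v, v < 14109 → tb RS v = true → rowOK2 E RS v E.D.k = true := by
  intro v hv
  rcases Nat.lt_or_ge v 7500 with h | h
  · rcases Nat.lt_or_ge v 3000 with h | h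
    · rcases Nat.lt_or_ge v 1500 with h | h
      · exact rowsRange_spec E RS 1500 0 rows_0 v (by omega) (by omega)
      · exact rowsRange_spec E RS 1500 1500 rows_1 v (by omega) (by omega)
    · rcases Nat.lt_or_ge v 4500 with h | h
      · exact rowsRange_spec E RS 1500 3000 rows_2 v (by omega) (by omega)
      · rcases Nat.lt_or_ge v 6000 with h | h
        · exact rowsRange_spec E RS 1500 4500 rows_3 v (by omega) (by omega)
        · exact rowsRange_spec E RS 1500 6000 rows_4 v (by omega) (by omega)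
  · rcases Nat.lt_or_ge v 10500 with h | h
    · rcases Nat.lt_or_ge v 9000 with h | h
      · exact rowsRange_spec E RS 1500 7500 rows_5 v (by omega) (by omega)
      · exact rowsRange_spec E RS 1500 9000 rows_6 v (by omega) (by omega)
    · rcases Nat.lt_or_ge v 12000 with h | h
      · exact rowsRange_spec E RS 1500 10500 rows_7 v (by omega) (by omega)
      · rcases Nat.lt_or_ge v 13500 with h | h
        · exact rowsRange_spec E RS 1500 12000 rows_8 v (by omega) (by omega)
        · exact rowsRange_spec E RS 609 13500 rows_9 v (by omega) (by omega)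

theorem cb_0 : cntBits RS 0 = 0 := rfl

theorem cb_1 : cntBits RS 14109 = 3960 := by
  have h := cntBits_step RS 0 14109
  rw [cb_0, cnt_0] at h
  exact h

theorem set_ok : setOK 14109 3960 RS = true :=
  setOK_of_parts cb_1 set_zero set_lt

theorem relf_0 : ∀ v, v < 3960 → W_0 v = v := by
  intro v hv
  exact fixPtsF_spec W_0 3960 0 relc_0_0 v (by omega) (by omega)

set_option maxRecDepth 1000000 in
theorem walk_0 : ∀ v, walkT ctF (D.wlen 0) (D.wordP 0) v = W_0 v := by
  intro v
  simp only [W_0, forceL_eq]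
  rfl

theorem relw_0 : ∀ v, v < 3960 → walkT ctF (D.wlen 0) (D.wordP 0) v = v := by
  intro v hv
  rw [walk_0]
  exact relf_0 v hv

theorem relf_1 : ∀ v, v < 3960 → W_1 v = v := by
  intro v hv
  exact fixPtsF_spec W_1 3960 0 relc_1_0 v (by omega) (by omega)

set_option maxRecDepth 1000000 in
theorem walk_1 : ∀ v, walkT ctF (D.wlen 1) (D.wordP 1) v = W_1 v := by
  intro v
  simp only [W_1, forceL_eq]
  rfl

theorem relw_1 : ∀ v, v < 3960 → walkT ctF (D.wlen 1) (D.wordP 1) v = v := by
  intro v hv
  rw [walk_1]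
  exact relf_1 v hv

theorem relf_2 : ∀ v, v < 3960 → W_2 v = v := by
  intro v hv
  exact fixPtsF_spec W_2 3960 0 relc_2_0 v (by omega) (by omega)

set_option maxRecDepth 1000000 in
theorem walk_2 : ∀ v, walkT ctF (D.wlen 2) (D.wordP 2) v = W_2 v := by
  intro v
  simp only [W_2, forceL_eq]
  rfl

theorem relw_2 : ∀ v, v < 3960 → walkT ctF (D.wlen 2) (D.wordP 2) v = v := by
  intro v hv
  rw [walk_2]
  exact relf_2 v hv

theorem relf_3 : ∀ v, v < 3960 → W_3 v = v := by
  intro v hv
  exact fixPtsF_spec W_3 3960 0 relc_3_0 v (by omega) (by omega)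

set_option maxRecDepth 1000000 in
theorem walk_3 : ∀ v, walkT ctF (D.wlen 3) (D.wordP 3) v = W_3 v := by
  intro v
  simp only [W_3, forceL_eq]
  rfl

theorem relw_3 : ∀ v, v < 3960 → walkT ctF (D.wlen 3) (D.wordP 3) v = v := by
  intro v hv
  rw [walk_3]
  exact relf_3 v hv

theorem relf_4 : ∀ v, v < 3960 → W_4 v = v := by
  intro v hv
  exact fixPtsF_spec W_4 3960 0 relc_4_0 v (by omega) (by omega)

set_option maxRecDepth 1000000 in
theorem walk_4 : ∀ v, walkT ctF (D.wlen 4) (D.wordP 4) v = W_4 v := by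
  intro v
  simp only [W_4, forceL_eq]
  rfl

theorem relw_4 : ∀ v, v < 3960 → walkT ctF (D.wlen 4) (D.wordP 4) v = v := by
  intro v hv
  rw [walk_4]
  exact relf_4 v hv

theorem relf_5 : ∀ v, v < 3960 → W_5 v = v := by
  intro v hv
  exact fixPtsF_spec W_5 3960 0 relc_5_0 v (by omega) (by omega)

set_option maxRecDepth 1000000 in
theorem walk_5 : ∀ v, walkT ctF (D.wlen 5) (D.wordP 5) v = W_5 v := by
  intro v
  simp only [W_5, forceL_eq]
  rfl

theorem relw_5 : ∀ v, v < 3960 → walkT ctF (D.wlen 5) (D.wordP 5) v = v := by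
  intro v hv
  rw [walk_5]
  exact relf_5 v hv

theorem relf_6 : ∀ v, v < 3960 → W_6 v = v := by
  intro v hv
  exact fixPtsF_spec W_6 3960 0 relc_6_0 v (by omega) (by omega)

set_option maxRecDepth 1000000 in
theorem walk_6 : ∀ v, walkT ctF (D.wlen 6) (D.wordP 6) v = W_6 v := by
  intro v
  simp only [W_6, forceL_eq]
  rfl

theorem relw_6 : ∀ v, v < 3960 → walkT ctF (D.wlen 6) (D.wordP 6) v = v := by
  intro v hv
  rw [walk_6]
  exact relf_6 v hv

theorem invx_0 : ∀ v, v < 3960 → ctF 0 v < 3960 ∧ ctF 0 (ctF 0 v) = v := by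
  intro v hv
  exact invRowFI_spec ctF 3960 0 0 3960 0 inv_0_0 v (by omega) (by omega)

theorem invx_1 : ∀ v, v < 3960 → ctF 1 v < 3960 ∧ ctF 2 (ctF 1 v) = v := by
  intro v hv
  exact invRowFI_spec ctF 3960 1 2 3960 0 inv_1_0 v (by omega) (by omega)

theorem invx_2 : ∀ v, v < 3960 → ctF 2 v < 3960 ∧ ctF 1 (ctF 2 v) = v := by
  intro v hv
  exact invRowFI_spec ctF 3960 2 1 3960 0 inv_2_0 v (by omega) (by omega)

theorem hconn : ∀ v, v < 3960 → v ≠ 0 → ∃ x, x < E.D.k ∧ ctF x v < v := by
  intro v hv
  exact connF_spec ctF 3 3960 0 conn_0 v (by omega) (by omega)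

theorem hE : ∀ v, v < E.M → ∀ x, x < E.D.k → edgeOKI iota E x v = true := by
  intro v hv x hx
  have hv' : v < 14109 := hv
  have hx' : x < 3 := hx
  interval_cases x
  · exact edgesx_0 v hv'
  · exact edgesx_1 v hv'
  · exact edgesx_2 v hv'

theorem hA : ∀ v, v < E.M → aliasOK E v = true := fun v hv => hA0 v hv

theorem hrows : ∀ v, v < E.M → tb RS v = true → rowOK2 E RS v E.D.k = true := fun v hv => hrows0 v hv

theorem hT : ∀ x, x < E.D.k → ∀ v, v < 3960 → ctF x v < 3960 ∧ ctF (iota x) (ctF x v) = v := by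
  intro x hx
  have hx' : x < 3 := hx
  interval_cases x
  · exact invx_0
  · exact invx_1
  · exact invx_2

theorem hltr : ∀ j, j < E.D.nw → lettersOK E.D.k (E.D.wlen j) (E.D.wordP j) = true :=
  wordsOK_spec D D.nw words_ok

theorem hrelT : ∀ wi, wi < E.D.nrel → ∀ v, v < 3960 →
    walkT ctF (E.D.wlen wi) (E.D.wordP wi) v = v := by
  intro wi hwi
  have hwi' : wi < 7 := hwi
  interval_cases wi
  · exact relw_0
  · exact relw_1
  · exact relw_2
  · exact relw_3
  · exact relw_4
  · exact relw_5
  · exact relw_6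

theorem hsubT : ∀ wi, wi < E.D.nw → E.D.nrel ≤ wi →
    walkT ctF (E.D.wlen wi) (E.D.wordP wi) 0 = 0 :=
  subAll_spec ctF D D.nw sub_ok

end Cfsg.Agent.Helper5.M11BTC
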