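import Mathlib
import Cfsg.Agent.Helper5.LPI
import Cfsg.Agent.Helper5.LPBase0
import Cfsg.Agent.Helper5.M11BTCSum
import Cfsg.Agent.Helper5.M11KTCSum
import Cfsg.Agent.Helper5.M11TTCSum

/-! generated: the relators of the M11 presentation, the certified indices of the parabolic subgroups and the upper bound for the order -/

set_option autoImplicit false

namespace Cfsg.Agent.Helper5.M11LP

open Cfsg.Agent.Helper5.TC Cfsg.Agent.Helper5.TCI Cfsg.Agent.Helper5.LP

/-- relator words on the first 3 letters. -/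
def R3 : List (List ℕ) := [[0, 0], [1, 2], [2, 1], [1, 1, 1, 1], [0, 1, 0, 1, 0, 1, 0, 1, 0, 1, 0, 1, 0, 1, 0, 1, 0, 1, 0, 1, 0, 1], [0, 1, 1, 0, 1, 1, 0, 1, 1, 0, 1, 1, 0, 1, 1, 0, 1, 1], [0, 1, 0, 1, 0, 2, 0, 1, 0, 1, 1, 0, 2, 0, 1, 0, 2, 0, 2]]

/-- an element of prime order. -/
def xw : List ℕ := [0, 1]

/-- the inverse letter. -/
def iot (x : ℕ) : ℕ := (bif Nat.beq x 1 then 2 else (bif Nat.beq x 2 then 1 else x))

theorem iot_ge (x : ℕ) (hx : 16 ≤ x) : iot x = x := by
  unfold iot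
  have h1 : Nat.beq x 1 = false := by
    apply Bool.eq_false_iff.mpr; intro hh; have := Nat.eq_of_beq_eq_true hh; omega
  have h2 : Nat.beq x 2 = false := by
    apply Bool.eq_false_iff.mpr; intro hh; have := Nat.eq_of_beq_eq_true hh; omega
  simp only [h1, h2, cond_false]

theorem iot_iot : ∀ x, iot (iot x) = x := by
  intro x
  rcases Nat.lt_or_ge x 16 with h | h
  · interval_cases x <;> rfl
  · rw [iot_ge x h, iot_ge x h]

theorem iot_lt : ∀ x, x < 3 → iot x < 3 := by
  intro x hx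
  interval_cases x <;> decide

theorem iot_lt16 : ∀ x, x < 16 → iot x < 16 := by
  intro x hx
  interval_cases x <;> decide

theorem wordsB : ∀ i (hi : i < (R3 ++ letterWords 1).length),
    unpack (M11BTC.E.D.wlen i) (M11BTC.E.D.wordP i) = ((R3 ++ letterWords 1)[i]).reverse :=
  wordsMatchB_spec0 _ _ _ (by decide +kernel)

theorem idxB : (para 3 (R3) 1).index = 3960 :=
  lp_indexI (ι := iot) iot_iot iot_lt iot_lt16 (by decide +kernel) (letterWords 1) M11BTC.E rfl rfl rfl
    (by decide +kernel) wordsB M11BTC.rev_ok M11BTC.hE M11BTC.hA M11BTC.set_ok M11BTC.hrows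
    (by norm_num) M11BTC.hT M11BTC.hltr M11BTC.hrelT M11BTC.hsubT M11BTC.hconn

theorem wordsK : ∀ i (hi : i < (R3 ++ [xw] ++ letterWords 0).length),
    unpack (M11KTC.E.D.wlen i) (M11KTC.E.D.wordP i) = ((R3 ++ [xw] ++ letterWords 0)[i]).reverse :=
  wordsMatchB_spec0 _ _ _ (by decide +kernel)

theorem idxK : (para 3 (R3 ++ [xw]) 0).index = 1 :=
  lp_indexI (ι := iot) iot_iot iot_lt iot_lt16 (by decide +kernel) (letterWords 0) M11KTC.E rfl rfl rfl
    (by decide +kernel) wordsK M11KTC.rev_ok M11KTC.hE M11KTC.hA M11KTC.set_ok M11KTC.hrows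
    (by norm_num) M11KTC.hT M11KTC.hltr M11KTC.hrelT M11KTC.hsubT M11KTC.hconn

/-- generators of the point stabiliser of the faithful representation. -/
def subsT : List (List ℕ) := [[0, 1, 0], [1, 0, 1, 1, 0, 1]]

theorem wordsT : ∀ i (hi : i < (R3 ++ subsT).length),
    unpack (M11TTC.E.D.wlen i) (M11TTC.E.D.wordP i) = ((R3 ++ subsT)[i]).reverse :=
  wordsMatchB_spec0 _ _ _ (by decide +kernel)

theorem ubB : Finite (LPG 3 R3) ∧ Nat.card (LPG 3 R3) ≤ 3960 * 2 :=
  card_le_base0 (by decide +kernel) (by norm_num) idxB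

theorem killed : Nat.card (LPG 3 (R3 ++ [xw])) = 1 := card_eq_one_of_index idxK

end Cfsg.Agent.Helper5.M11LP
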