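import Mathlib
import Cfsg.Agent.Helper5.LPUB
import Cfsg.Agent.Helper5.M11TTCSum

/-! generated: a stabiliser chain for the action of the M11 group on 11 points -/

set_option autoImplicit false

namespace Cfsg.Agent.Helper5.M11LP

open Cfsg.Agent.Helper5.TC Cfsg.Agent.Helper5.TCI Cfsg.Agent.Helper5.LP

set_option maxRecDepth 1000000 in
/-- an orbit tree. -/
def tree0 : List (ℕ × ℕ) := [(0, 0), (0, 1), (2, 1), (4, 0), (4, 1), (5, 1), (6, 1), (8, 0), (8, 1), (7, 0)]

/-- a level of the stabiliser chain. -/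
def level0 : Level := (0, [[0], [1]], tree0)

set_option maxRecDepth 1000000 in
/-- an orbit tree. -/
def tree1 : List (ℕ × ℕ) := [(1, 0), (1, 1), (3, 0), (3, 1), (2, 2), (5, 1), (6, 0), (6, 2), (9, 2)]

/-- a level of the stabiliser chain. -/
def level1 : Level := (1, [[0, 2, 0], [1, 0, 2], [2, 0, 1]], tree1)

set_option maxRecDepth 1000000 in
/-- an orbit tree. -/
def tree2 : List (ℕ × ℕ) := [(2, 0), (2, 1), (7, 0), (7, 1), (3, 1), (5, 1), (6, 0), (9, 0)]

/-- a level of the stabiliser chain. -/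
def level2 : Level := (2, [[0, 1, 0, 2, 0, 1], [0, 2, 0, 1, 0, 2]], tree2)

set_option maxRecDepth 1000000 in
/-- an orbit tree. -/
def tree3 : List (ℕ × ℕ) := [(3, 0), (3, 1), (5, 0), (5, 1), (8, 0), (6, 0), (6, 1)]

/-- a level of the stabiliser chain. -/
def level3 : Level := (3, [[0, 2, 0, 1, 1, 0, 2, 0, 2, 0, 1, 0, 1, 1, 0, 1, 0, 1], [0, 2, 0, 2, 0, 1, 1, 0, 2, 0, 1, 0, 1, 0, 1, 1, 0, 1]], tree3)

/-- the stabiliser chain. -/
def levels : List Level := [level0, level1, level2, level3]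

set_option maxRecDepth 1000000 in
theorem chain_ok : chainOK M11TTC.ctF 3 11 [] levels = true := chainOK_of_F (by decide +kernel)

set_option maxRecDepth 1000000 in
theorem chain_prod : chainProd levels = 7920 := by decide +kernel

end Cfsg.Agent.Helper5.M11LP
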