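import Cfsg.Agent.Helper5.TC2A

/-! generated certificate data (events 0): M11TTC -/

set_option autoImplicit false
set_option Elab.async false

namespace Cfsg.Agent.Helper5.M11TTC
open Cfsg.Agent.Helper5.TC

def ev_0 : ℕ := 0x40080a0000006c080200000034041a00000068000300000068080200000020080a00000008080a0000001808060000004808060000005408020000003c080a0000001c08020000002c080a0000005008060000003808020000004c080a00000058341a000000584419000000680015000000400811000000103c1900000038040d00000030040d00000028080a00000014040d00000008040d00000000142100000000041d000000000000
def evSel0 (c : ℕ) : ℕ := ev_0

end Cfsg.Agent.Helper5.M11TTC
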