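import Cfsg.Agent.Helper5.TC2A

/-! generated certificate data (targets of generator 2): M11TTC -/

set_option autoImplicit false
set_option Elab.async false

namespace Cfsg.Agent.Helper5.M11TTC
open Cfsg.Agent.Helper5.TC

def tg2_0 : ℕ := 0x1a00001b00001300001200001b00001000000000000e00000000001500000c00000000001400000b00001100000900000f00000500000d000005000002000007000004000003000008000000000001000006
def tgSel2 (c : ℕ) : ℕ := tg2_0
def tg2F (v : ℕ) : ℕ := Nat.rec (motive := fun _ => ℕ) 0 (fun c _ => Nat.mod (Nat.shiftRight (tgSel2 c) (Nat.mul 24 (Nat.mod v 682))) 16777216) (Nat.add (Nat.div v 682) 1)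

end Cfsg.Agent.Helper5.M11TTC
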