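import Mathlib
import Cfsg.Prelude.Def_Characters
import Cfsg.Agent.Helper6.ColumnOrth
import Cfsg.Agent.Helper6.GaloisConj
import Cfsg.Agent.Helper6.GaloisChar
import Cfsg.Agent.Helper6.RepEigen
import Cfsg.Agent.Helper6.CharBasic
import Cfsg.Agent.Helper6.OddReal

/-!
# Simple groups of order 7920: the 3-elements (towards S0434), part A

Generic lemmas, the arithmetic certificate, and the hypothesis bundle `Hyp`
(the part of the character table known after S4429 / S0435).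
-/

set_option autoImplicit false
set_option linter.unusedVariables false
set_option linter.unusedSectionVars false
set_option linter.style.haveILetI false

namespace Cfsg.Agent.Helper5.M11c

open scoped ComplexConjugate

/-! ## The arithmetic certificate -/

/-- early pruning in `(l, c)` only -/
def cond1 (l c : ℤ) : Bool :=
  decide (2*(c*c + 2*l*l + (1+c+2*l)*(1+c+2*l)) + (2+2*l+2*c)*(2+2*l+2*c) ≤ 286)

/-- the full test -/
def cond2 (l c b N : ℤ) : Bool :=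
  decide ((2+2*l+2*c)*(2+2*l+2*c) ≤
      2*(N - 1 - (-1+b-3*l-2*c)*(-1+b-3*l-2*c) - c*c - 2*l*l - (1+c+2*l)*(1+c+2*l) - b*b
        - (-(1+c+2*l)-b)*(-(1+c+2*l)-b))) &&
  decide (0 ≤ 11*(792 - 72*N + 72*c*c + 99*l*l + 72*(1+c+2*l)*(1+c+2*l) + 88*b*b
        + 72*(-(1+c+2*l)-b)*(-(1+c+2*l)-b))) &&
  decide ((11*(792 - 72*N + 72*c*c + 99*l*l + 72*(1+c+2*l)*(1+c+2*l) + 88*b*b
        + 72*(-(1+c+2*l)-b)*(-(1+c+2*l)-b))) % (N*N) = 0)

/-- the five possible centralizer orders -/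
def Nval (n : Fin 5) : ℤ := match n with
  | 0 => 9 | 1 => 18 | 2 => 36 | 3 => 72 | 4 => 144

set_option maxRecDepth 100000 in
set_option maxHeartbeats 2000000 in
theorem arith_check : ∀ i : Fin 17, ∀ j : Fin 23, cond1 ((i:ℤ) - 8) ((j:ℤ) - 11) = true →
    ∀ k : Fin 23, ∀ n : Fin 5, cond2 ((i:ℤ) - 8) ((j:ℤ) - 11) ((k:ℤ) - 11) (Nval n) = true →
      (n = 1 ∧ i = 6 ∧ j = 13 ∧ k = 11) := by
  decide +kernel

theorem abs_bound {l m : ℤ} (B : ℤ) (hB0 : 0 ≤ B) (hB : m < (B+1)*(B+1)) (h : l*l ≤ m) :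
    -B ≤ l ∧ l ≤ B := by
  constructor
  · by_contra hh
    have h1 : l ≤ -B - 1 := by omega
    nlinarith [mul_nonneg (by linarith : (0:ℤ) ≤ -l - (B+1)) (by linarith : (0:ℤ) ≤ -l + (B+1))]
  · by_contra hh
    have h1 : B + 1 ≤ l := by omega
    nlinarith [mul_nonneg (by linarith : (0:ℤ) ≤ l - (B+1)) (by linarith : (0:ℤ) ≤ l + (B+1))]

/-- The arithmetic certificate in usable form. -/
theorem arith_main (l c b N K : ℤ)
    (hN : N = 9 ∨ N = 18 ∨ N = 36 ∨ N = 72 ∨ N = 144)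
    (h5 : (2+2*l+2*c)*(2+2*l+2*c) ≤
      2*(N - 1 - (-1+b-3*l-2*c)*(-1+b-3*l-2*c) - c*c - 2*l*l - (1+c+2*l)*(1+c+2*l) - b*b
        - (-(1+c+2*l)-b)*(-(1+c+2*l)-b)))
    (hK : 0 ≤ K)
    (h6 : K * (N*N) = 11*(792 - 72*N + 72*c*c + 99*l*l + 72*(1+c+2*l)*(1+c+2*l) + 88*b*b
        + 72*(-(1+c+2*l)-b)*(-(1+c+2*l)-b))) :
    N = 18 ∧ l = -2 ∧ c = 2 ∧ b = 0 := by
  have hN144 : N ≤ 144 := by rcases hN with h | h | h | h | h <;> omega
  have hN0 : 0 < N := by rcases hN with h | h | h | h | h <;> omega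
  -- bounds
  have q1 := mul_self_nonneg (2+2*l+2*c)
  have q2 := mul_self_nonneg (-1+b-3*l-2*c)
  have q3 := mul_self_nonneg c
  have q4 := mul_self_nonneg (1+c+2*l)
  have q5 := mul_self_nonneg b
  have q6 := mul_self_nonneg (-(1+c+2*l)-b)
  have q7 := mul_self_nonneg l
  have hl2 : l * l ≤ 71 := by linarith
  have hc2' : c * c ≤ 143 := by linarith
  have hb2 : b * b ≤ 143 := by linarith
  have hl : -8 ≤ l ∧ l ≤ 8 := abs_bound 8 (by norm_num) (by norm_num) hl2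
  have hc : -11 ≤ c ∧ c ≤ 11 := abs_bound 11 (by norm_num) (by norm_num) hc2'
  have hb : -11 ≤ b ∧ b ≤ 11 := abs_bound 11 (by norm_num) (by norm_num) hb2
  have h286 : 2*(c*c + 2*l*l + (1+c+2*l)*(1+c+2*l)) + (2+2*l+2*c)*(2+2*l+2*c) ≤ 286 := by
    linarith
  clear q1 q2 q3 q4 q5 q6 q7
  -- the indices
  obtain ⟨i, hi⟩ : ∃ i : Fin 17, ((i : ℕ) : ℤ) = l + 8 :=
    ⟨⟨(l + 8).toNat, by omega⟩, by simp only []; omega⟩
  obtain ⟨j, hj⟩ : ∃ j : Fin 23, ((j : ℕ) : ℤ) = c + 11 :=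
    ⟨⟨(c + 11).toNat, by omega⟩, by simp only []; omega⟩
  obtain ⟨k, hk⟩ : ∃ k : Fin 23, ((k : ℕ) : ℤ) = b + 11 :=
    ⟨⟨(b + 11).toNat, by omega⟩, by simp only []; omega⟩
  obtain ⟨n, hn⟩ : ∃ n : Fin 5, Nval n = N := by
    rcases hN with h | h | h | h | h
    · exact ⟨0, h.symm⟩
    · exact ⟨1, h.symm⟩
    · exact ⟨2, h.symm⟩
    · exact ⟨3, h.symm⟩
    · exact ⟨4, h.symm⟩
  have e1 : ((i : ℕ) : ℤ) - 8 = l := by omega
  have e2 : ((j : ℕ) : ℤ) - 11 = c := by omega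
  have e3 : ((k : ℕ) : ℤ) - 11 = b := by omega
  have hc1 : cond1 (((i : ℕ) : ℤ) - 8) (((j : ℕ) : ℤ) - 11) = true := by
    rw [e1, e2]
    unfold cond1
    rw [decide_eq_true_eq]
    exact h286
  have hc2 : cond2 (((i : ℕ) : ℤ) - 8) (((j : ℕ) : ℤ) - 11) (((k : ℕ) : ℤ) - 11) (Nval n)
      = true := by
    rw [e1, e2, e3, hn]
    unfold cond2
    rw [Bool.and_eq_true, Bool.and_eq_true, decide_eq_true_eq, decide_eq_true_eq,
      decide_eq_true_eq]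
    refine ⟨⟨h5, ?_⟩, ?_⟩
    · rw [← h6]
      positivity
    · rw [← h6]
      exact Int.mul_emod_left K (N*N)
  obtain ⟨h1, h2, h3, h4⟩ := arith_check i j hc1 k n hc2
  subst h1 h2 h3 h4
  refine ⟨hn.symm, ?_, ?_, ?_⟩
  · have : ((6 : Fin 17) : ℕ) = 6 := rfl
    omega
  · have : ((13 : Fin 23) : ℕ) = 13 := rfl
    omega
  · have : ((11 : Fin 23) : ℕ) = 11 := rfl
    omega

/-- The arithmetic certificate with named auxiliary values. -/
theorem arith_main' (l c b N K a a' f g : ℤ)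
    (hN : N = 9 ∨ N = 18 ∨ N = 36 ∨ N = 72 ∨ N = 144)
    (ha : a = -1+b-3*l-2*c) (ha' : a' = 2+2*l+2*c) (hf : f = 1+c+2*l) (hg : g = -f-b)
    (h5 : a'*a' ≤ 2*(N - 1 - a*a - c*c - 2*l*l - f*f - b*b - g*g))
    (hK : 0 ≤ K)
    (h6 : K * (N*N) = 11*(792 - 72*N + 72*c*c + 99*l*l + 72*f*f + 88*b*b + 72*g*g)) :
    N = 18 ∧ l = -2 ∧ c = 2 ∧ b = 0 := by
  subst hg
  subst hf
  subst ha
  subst ha'
  exact arith_main l c b N K hN h5 hK h6

end Cfsg.Agent.Helper5.M11c
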