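import Cfsg.Agent.Helper5.M11_S0434a

/-!
# Simple groups of order 7920: the 3-elements (towards S0434), part B

The hypothesis bundle `Hyp`, Galois stability, integrality of the values on 3-elements.
-/

set_option autoImplicit false
set_option linter.unusedVariables false
set_option linter.unusedSectionVars false
set_option linter.style.haveILetI false

namespace Cfsg.Agent.Helper5.M11c

open scoped ComplexConjugate

universe u

variable {G : Type u} [Group G] [Finite G]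

/-- degrees -/
def dg : Fin 10 → ℂ := ![1,10,10,10,11,16,16,44,45,55]
/-- values at an involution -/
def uv : Fin 10 → ℂ := ![1,2,-2,-2,3,0,0,4,-3,-1]
/-- values at an element of order 5 -/
def qv : Fin 10 → ℂ := ![1,0,0,0,1,1,1,-1,0,0]
/-- values at an element of order 11 (except the two characters of degree 16) -/
def sv : Fin 10 → ℂ := ![1,-1,-1,-1,0,0,0,0,1,0]
/-- values at an element of order 3 -/
def tv : Fin 10 → ℂ := ![1,1,1,1,2,-2,-2,-1,0,1]

theorem dg_0 : dg 0 = 1 := rfl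
theorem dg_1 : dg 1 = 10 := rfl
theorem dg_2 : dg 2 = 10 := rfl
theorem dg_3 : dg 3 = 10 := rfl
theorem dg_4 : dg 4 = 11 := rfl
theorem dg_5 : dg 5 = 16 := rfl
theorem dg_6 : dg 6 = 16 := rfl
theorem dg_7 : dg 7 = 44 := rfl
theorem dg_8 : dg 8 = 45 := rfl
theorem dg_9 : dg 9 = 55 := rfl
theorem uv_0 : uv 0 = 1 := rfl
theorem uv_1 : uv 1 = 2 := rfl
theorem uv_2 : uv 2 = -2 := rfl
theorem uv_3 : uv 3 = -2 := rfl
theorem uv_4 : uv 4 = 3 := rfl
theorem uv_5 : uv 5 = 0 := rfl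
theorem uv_6 : uv 6 = 0 := rfl
theorem uv_7 : uv 7 = 4 := rfl
theorem uv_8 : uv 8 = -3 := rfl
theorem uv_9 : uv 9 = -1 := rfl
theorem qv_0 : qv 0 = 1 := rfl
theorem qv_1 : qv 1 = 0 := rfl
theorem qv_2 : qv 2 = 0 := rfl
theorem qv_3 : qv 3 = 0 := rfl
theorem qv_4 : qv 4 = 1 := rfl
theorem qv_5 : qv 5 = 1 := rfl
theorem qv_6 : qv 6 = 1 := rfl
theorem qv_7 : qv 7 = -1 := rfl
theorem qv_8 : qv 8 = 0 := rfl
theorem qv_9 : qv 9 = 0 := rfl
theorem sv_0 : sv 0 = 1 := rfl
theorem sv_1 : sv 1 = -1 := rfl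
theorem sv_2 : sv 2 = -1 := rfl
theorem sv_3 : sv 3 = -1 := rfl
theorem sv_4 : sv 4 = 0 := rfl
theorem sv_5 : sv 5 = 0 := rfl
theorem sv_6 : sv 6 = 0 := rfl
theorem sv_7 : sv 7 = 0 := rfl
theorem sv_8 : sv 8 = 1 := rfl
theorem sv_9 : sv 9 = 0 := rfl
theorem tv_0 : tv 0 = 1 := rfl
theorem tv_1 : tv 1 = 1 := rfl
theorem tv_2 : tv 2 = 1 := rfl
theorem tv_3 : tv 3 = 1 := rfl
theorem tv_4 : tv 4 = 2 := rfl
theorem tv_5 : tv 5 = -2 := rfl
theorem tv_6 : tv 6 = -2 := rfl
theorem tv_7 : tv 7 = -1 := rfl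
theorem tv_8 : tv 8 = 0 := rfl
theorem tv_9 : tv 9 = 1 := rfl

/-- The part of the character table of a simple group of order 7920 known after S0435. -/
structure Hyp (e : Fin 10 ≃ Cfsg.IrrCharacter G) (u : G) : Prop where
  card : Nat.card G = 7920
  deg : ∀ i, (e i : G → ℂ) 1 = dg i
  hu : orderOf u = 2
  uval : ∀ i, (e i : G → ℂ) u = uv i
  qval : ∀ q : G, orderOf q = 5 → ∀ i, (e i : G → ℂ) q = qv i
  sval : ∀ s : G, orderOf s = 11 →
    (∀ i, i ≠ 5 → i ≠ 6 → (e i : G → ℂ) s = sv i) ∧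
    (e 5 : G → ℂ) s + (e 6 : G → ℂ) s = -1 ∧ (e 5 : G → ℂ) s ≠ (e 6 : G → ℂ) s
  cq : ∀ q : G, orderOf q = 5 → Nat.card (Subgroup.centralizer ({q} : Set G)) = 5
  cs : ∀ s : G, orderOf s = 11 → Nat.card (Subgroup.centralizer ({s} : Set G)) = 11
  cm : ∀ a b c : G, ∃ K : ℕ,
    (K : ℂ) * (Nat.card (Subgroup.centralizer ({a} : Set G)) : ℂ) *
        (Nat.card (Subgroup.centralizer ({b} : Set G)) : ℂ) =
      (Nat.card G : ℂ) * ∑ i : Fin 10, (e i : G → ℂ) a * (e i : G → ℂ) b *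
        conj ((e i : G → ℂ) c) / (e i : G → ℂ) 1

theorem sum10 {M : Type*} [AddCommMonoid M] (F : Fin 10 → M) :
    ∑ i, F i = F 0 + F 1 + F 2 + F 3 + F 4 + F 5 + F 6 + F 7 + F 8 + F 9 := by
  simp only [Fin.sum_univ_succ, Fin.sum_univ_zero]
  simp only [add_zero, add_assoc]
  rfl

theorem no_rat_sq_11 (r : ℚ) : (2*r+1)^2 ≠ 11 := by
  intro h
  have h1 : IsSquare (11 : ℚ) := ⟨2*r+1, by rw [← h]; ring⟩
  rw [Rat.isSquare_iff] at h1
  norm_num at h1

/-- a rational algebraic integer in `ℂ` is an integer -/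
theorem h5_int_of_rat_isIntegral {z : ℂ} (hz : IsIntegral ℤ z) (q : ℚ) (hq : z = q) :
    ∃ c : ℤ, z = c := by
  have h1 : IsIntegral ℤ (algebraMap ℚ ℂ q) := by
    rw [hq] at hz
    exact hz
  have h2 : IsIntegral ℤ q :=
    (isIntegral_algebraMap_iff (FaithfulSMul.algebraMap_injective ℚ ℂ)).mp h1
  obtain ⟨c, hc⟩ := IsIntegrallyClosed.isIntegral_iff.mp h2
  refine ⟨c, ?_⟩
  rw [hq, ← hc]
  simp

/-- Column orthogonality along the enumeration `e`. -/
theorem col (e : Fin 10 ≃ Cfsg.IrrCharacter G) (g h : G) :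
    (IsConj g h → ∑ i : Fin 10, (e i : G → ℂ) g * conj ((e i : G → ℂ) h) =
      (Nat.card (Subgroup.centralizer ({g} : Set G)) : ℂ)) ∧
    (¬ IsConj g h → ∑ i : Fin 10, (e i : G → ℂ) g * conj ((e i : G → ℂ) h) = 0) := by
  classical
  haveI := Fintype.ofFinite G
  letI : Fintype (Cfsg.IrrCharacter G) := Fintype.ofEquiv _ e
  have h1 := Helper6.column_orthogonality_aux g h
  have h2 : ∑ i : Fin 10, (e i : G → ℂ) g * conj ((e i : G → ℂ) h) =
      ∑ χ : Cfsg.IrrCharacter G, (χ : G → ℂ) g * conj ((χ : G → ℂ) h) :=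
    Fintype.sum_equiv e _ _ (fun _ => rfl)
  rw [h2, h1]
  constructor
  · intro hc
    rw [if_pos hc]
  · intro hc
    rw [if_neg hc]

theorem not_isConj_of_orderOf_ne {x y : G} (h : orderOf x ≠ orderOf y) : ¬ IsConj x y := by
  intro hc
  obtain ⟨c, hc⟩ := isConj_iff.mp hc
  apply h
  rw [← hc]
  have := MulEquiv.orderOf_eq (MulAut.conj c) x
  rw [MulAut.conj_apply] at this
  exact this.symm

variable {e : Fin 10 ≃ Cfsg.IrrCharacter G} {u : G}

/-- `e 0` is the trivial character. -/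
theorem triv (H : Hyp e u) (g : G) : (e 0 : G → ℂ) g = 1 := by
  obtain ⟨j, hj⟩ := e.surjective ⟨fun _ => (1:ℂ), Helper6.isIrrCharacter_one⟩
  have h1 : (e j : G → ℂ) 1 = 1 := by rw [hj]
  rw [H.deg] at h1
  have h0 : j = 0 := by
    fin_cases j <;> first | rfl | (exfalso; simp [dg] at h1)
  subst h0
  rw [hj]

/-- Galois stability of the eight characters determined by degree, value at `u`, value at `s`. -/
theorem gal (H : Hyp e u) (K : ℕ) (hK : K.Coprime 7920) (hK880 : K % 880 = 1)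
    (s : G) (hs : orderOf s = 11) (i : Fin 10) (hi2 : i ≠ 2) (hi3 : i ≠ 3) (g : G) :
    (e i : G → ℂ) (g ^ K) = (e i : G → ℂ) g := by
  haveI := Fintype.ofFinite G
  have hirr : Cfsg.IsIrrCharacter G (fun g => (e i : G → ℂ) (g ^ K)) :=
    Helper6.IsIrrCharacter.comp_pow (e i).2 K (by rw [H.card]; exact hK)
  obtain ⟨j, hj⟩ := e.surjective ⟨_, hirr⟩
  have hj' : ∀ g, (e j : G → ℂ) g = (e i : G → ℂ) (g ^ K) := fun g => by rw [hj]
  have hu2 : u ^ 2 = 1 := by rw [← H.hu]; exact pow_orderOf_eq_one u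
  have hs11 : s ^ 11 = 1 := by rw [← hs]; exact pow_orderOf_eq_one s
  have huK : u ^ K = u := by
    rw [pow_eq_pow_mod K hu2]
    have : K % 2 = 1 := by omega
    rw [this, pow_one]
  have hsK : s ^ K = s := by
    rw [pow_eq_pow_mod K hs11]
    have : K % 11 = 1 := by omega
    rw [this, pow_one]
  have h1 : dg j = dg i := by rw [← H.deg, ← H.deg, hj' 1, one_pow]
  have h2 : uv j = uv i := by rw [← H.uval, ← H.uval, hj' u, huK]
  have h3 : (e j : G → ℂ) s = (e i : G → ℂ) s := by rw [hj' s, hsK]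
  have h56 := (H.sval s hs).2.2
  have hji : j = i := by
    fin_cases i <;> fin_cases j <;>
      first
      | rfl
      | (exfalso; norm_num [dg] at h1; done)
      | (exfalso; norm_num [uv] at h2; done)
      | (exfalso; exact hi2 rfl)
      | (exfalso; exact hi3 rfl)
      | (exfalso; exact h56 h3)
      | (exfalso; exact h56 h3.symm)
  rw [← hj' g, hji]

/-- Integrality of the values at a 3-element of the eight Galois-stable characters. -/
theorem intval (H : Hyp e u) (x : G) (hx9 : x ^ 9 = 1) (i : Fin 10) (hi2 : i ≠ 2) (hi3 : i ≠ 3) :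
    ∃ m : ℤ, (e i : G → ℂ) x = m := by
  haveI : Fact (Nat.Prime 11) := ⟨by norm_num⟩
  obtain ⟨s, hs⟩ := exists_prime_orderOf_dvd_card' (G := G) 11 (by rw [H.card]; norm_num)
  obtain ⟨n, ρ, hirr, hρ⟩ := (e i).2
  have key := (Helper6.char_galois_facts ρ x 9 hx9).2.2.1
  have hq : ∃ q : ℚ, ρ.character x = q := by
    apply key.mp
    intro k
    rw [hρ]
    have hj : ((k : ZMod 9).val).Coprime 9 := ZMod.val_coe_unit_coprime k
    obtain ⟨K, hK9, hK880⟩ := Nat.chineseRemainder (by norm_num : Nat.Coprime 9 880)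
      ((k : ZMod 9).val) 1
    have hc9 : K.Coprime 9 := by
      unfold Nat.Coprime
      rw [hK9.gcd_eq]
      exact hj
    have hc880 : K.Coprime 880 := by
      unfold Nat.Coprime
      rw [hK880.gcd_eq]
      norm_num
    have hc : K.Coprime 7920 := by
      have : (7920 : ℕ) = 9 * 880 := by norm_num
      rw [this]
      exact Nat.Coprime.mul_right hc9 hc880
    have h880 : K % 880 = 1 := by
      have := hK880
      unfold Nat.ModEq at this
      omega
    have hpow : x ^ ((k : ZMod 9).val) = x ^ K := by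
      rw [pow_eq_pow_mod ((k : ZMod 9).val) hx9, pow_eq_pow_mod K hx9]
      have := hK9
      unfold Nat.ModEq at this
      rw [this]
    rw [hpow]
    exact gal H K hc h880 s hs i hi2 hi3 x
  obtain ⟨q, hq⟩ := hq
  have hint : IsIntegral ℤ (ρ.character x) := Helper6.isIntegral_char ρ x
  obtain ⟨m, hm⟩ := h5_int_of_rat_isIntegral hint q hq
  exact ⟨m, by rw [← hρ]; exact hm⟩

end Cfsg.Agent.Helper5.M11c
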