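import Cfsg.Agent.Helper5.M11_S0434b

/-!
# Simple groups of order 7920: the 3-elements (towards S0434), part C

The character values on the 3-elements and the order of their centralizers.
-/

set_option autoImplicit false
set_option linter.unusedVariables false
set_option linter.unusedSectionVars false
set_option linter.style.haveILetI false
set_option linter.unusedSimpArgs false

namespace Cfsg.Agent.Helper5.M11c

open scoped ComplexConjugate

universe u

variable {G : Type u} [Group G] [Finite G]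
variable {e : Fin 10 ≃ Cfsg.IrrCharacter G} {u : G}

theorem isInt_val (χ : Cfsg.IrrCharacter G) (x : G) : IsIntegral ℤ ((χ : G → ℂ) x) := by
  obtain ⟨n, ρ, hirr, hρ⟩ := χ.2
  rw [← hρ]
  exact Helper6.isIntegral_char ρ x

theorem normSq_add_le_two (z w : ℂ) :
    Complex.normSq (z + w) ≤ 2 * (Complex.normSq z + Complex.normSq w) := by
  rw [Complex.normSq_apply, Complex.normSq_apply, Complex.normSq_apply, Complex.add_re,
    Complex.add_im]
  nlinarith [sq_nonneg (z.re - w.re), sq_nonneg (z.im - w.im)]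

theorem eq_one_of_normSq (z w : ℂ) (h1 : z + w = 2)
    (h2 : Complex.normSq z + Complex.normSq w = 2) : z = 1 ∧ w = 1 := by
  have hre : z.re + w.re = 2 := by
    have := congrArg Complex.re h1
    simpa using this
  have him : z.im + w.im = 0 := by
    have := congrArg Complex.im h1
    simpa using this
  rw [Complex.normSq_apply, Complex.normSq_apply] at h2
  have hw1 : w.re = 2 - z.re := by linarith
  have hw2 : w.im = - z.im := by linarith
  rw [hw1, hw2] at h2
  have h3 : (z.re - 1) * (z.re - 1) + z.im * z.im = 0 := by nlinarith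
  have h4 : z.re - 1 = 0 := by nlinarith [mul_self_nonneg (z.re - 1), mul_self_nonneg z.im]
  have h5 : z.im = 0 := by nlinarith [mul_self_nonneg (z.re - 1), mul_self_nonneg z.im]
  constructor
  · apply Complex.ext
    · simp; linarith
    · simp; exact h5
  · apply Complex.ext
    · simp; linarith
    · simp; linarith

theorem centralizer_inv (x : G) :
    Subgroup.centralizer ({x⁻¹} : Set G) = Subgroup.centralizer ({x} : Set G) := by
  ext g
  rw [Subgroup.mem_centralizer_iff, Subgroup.mem_centralizer_iff]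
  constructor
  · intro h y hy
    rw [Set.mem_singleton_iff] at hy
    subst hy
    have h1 : Commute y⁻¹ g := h y⁻¹ rfl
    exact (Commute.inv_left_iff.mp h1)
  · intro h y hy
    rw [Set.mem_singleton_iff] at hy
    subst hy
    have h1 : Commute x g := h x rfl
    exact (Commute.inv_left_iff.mpr h1)

/-- The values of the ten characters at a 3-element, and the order of its centralizer. -/
theorem three_main (H : Hyp e u) (x : G) (hx1 : x ≠ 1) (hx9 : x ^ 9 = 1)
    (hN : Nat.card (Subgroup.centralizer ({x} : Set G)) = 9 ∨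
      Nat.card (Subgroup.centralizer ({x} : Set G)) = 18 ∨
      Nat.card (Subgroup.centralizer ({x} : Set G)) = 36 ∨
      Nat.card (Subgroup.centralizer ({x} : Set G)) = 72 ∨
      Nat.card (Subgroup.centralizer ({x} : Set G)) = 144) :
    Nat.card (Subgroup.centralizer ({x} : Set G)) = 18 ∧ ∀ i, (e i : G → ℂ) x = tv i := by
  haveI : Fact (Nat.Prime 11) := ⟨by norm_num⟩
  haveI : Fact (Nat.Prime 5) := ⟨by norm_num⟩
  obtain ⟨s, hs⟩ := exists_prime_orderOf_dvd_card' (G := G) 11 (by rw [H.card]; norm_num)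
  obtain ⟨q, hq⟩ := exists_prime_orderOf_dvd_card' (G := G) 5 (by rw [H.card]; norm_num)
  have hox : orderOf x ∣ 9 := orderOf_dvd_of_pow_eq_one hx9
  have hox1 : orderOf x ≠ 1 := fun h => hx1 (orderOf_eq_one_iff.mp h)
  have hno : ∀ y : G, (orderOf y = 1 ∨ orderOf y = 2 ∨ orderOf y = 5 ∨ orderOf y = 11) →
      ¬ IsConj x y := by
    intro y hy
    apply not_isConj_of_orderOf_ne
    intro h
    rw [h] at hox hox1
    rcases hy with hy | hy | hy | hy <;> rw [hy] at hox hox1 <;> omega
  generalize hNdef : Nat.card (Subgroup.centralizer ({x} : Set G)) = N at hN ⊢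
  obtain ⟨a, ha⟩ := intval H x hx9 1 (by decide) (by decide)
  obtain ⟨c, hc⟩ := intval H x hx9 4 (by decide) (by decide)
  obtain ⟨l1, hl1⟩ := intval H x hx9 5 (by decide) (by decide)
  obtain ⟨l2, hl2⟩ := intval H x hx9 6 (by decide) (by decide)
  obtain ⟨f, hf⟩ := intval H x hx9 7 (by decide) (by decide)
  obtain ⟨b, hb⟩ := intval H x hx9 8 (by decide) (by decide)
  obtain ⟨g, hg⟩ := intval H x hx9 9 (by decide) (by decide)
  have h0 : (e 0 : G → ℂ) x = 1 := triv H x
  generalize hv2 : (e 2 : G → ℂ) x = v2 at *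
  generalize hv3 : (e 3 : G → ℂ) x = v3 at *
  -- column (x, 1)
  have hc1 : (1:ℂ) + 10*a + 10*v2 + 10*v3 + 11*c + 16*l1 + 16*l2 + 44*f + 45*b + 55*g = 0 := by
    have h := (col e x 1).2 (hno 1 (Or.inl orderOf_one))
    rw [sum10] at h
    simp only [H.deg, h0, ha, hc, hl1, hl2, hf, hb, hg, hv2, hv3] at h
    simp only [dg_0, dg_1, dg_2, dg_3, dg_4, dg_5, dg_6, dg_7, dg_8, dg_9, Complex.conj_ofNat, map_one, map_zero, map_neg] at h
    linear_combination h
  -- column (x, u)
  have hcu : (1:ℂ) + 2*a - 2*v2 - 2*v3 + 3*c + 4*f - 3*b - g = 0 := by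
    have h := (col e x u).2 (hno u (Or.inr (Or.inl H.hu)))
    rw [sum10] at h
    simp only [H.uval, h0, ha, hc, hl1, hl2, hf, hb, hg, hv2, hv3] at h
    simp only [uv_0, uv_1, uv_2, uv_3, uv_4, uv_5, uv_6, uv_7, uv_8, uv_9, Complex.conj_ofNat, map_one, map_zero, map_neg] at h
    linear_combination h
  -- column (x, q)
  have hcq : (1:ℂ) + c + l1 + l2 - f = 0 := by
    have h := (col e x q).2 (hno q (Or.inr (Or.inr (Or.inl hq))))
    rw [sum10] at h
    simp only [H.qval q hq, h0, ha, hc, hl1, hl2, hf, hb, hg, hv2, hv3] at h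
    simp only [qv_0, qv_1, qv_2, qv_3, qv_4, qv_5, qv_6, qv_7, qv_8, qv_9, Complex.conj_ofNat, map_one, map_zero, map_neg] at h
    linear_combination h
  -- column (x, s)
  obtain ⟨hsv, hxy, hxne⟩ := H.sval s hs
  generalize hxs : (e 5 : G → ℂ) s = xs at *
  generalize hys : (e 6 : G → ℂ) s = ys at *
  have hcs : (1:ℂ) - a - v2 - v3 + b + l1 * conj xs + l2 * conj ys = 0 := by
    have h := (col e x s).2 (hno s (Or.inr (Or.inr (Or.inr hs))))
    rw [sum10] at h
    rw [hsv 0 (by decide) (by decide), hsv 1 (by decide) (by decide),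
      hsv 2 (by decide) (by decide), hsv 3 (by decide) (by decide),
      hsv 4 (by decide) (by decide), hsv 7 (by decide) (by decide),
      hsv 8 (by decide) (by decide), hsv 9 (by decide) (by decide)] at h
    simp only [h0, ha, hc, hl1, hl2, hf, hb, hg, hv2, hv3, hxs, hys] at h
    simp only [sv_0, sv_1, sv_2, sv_3, sv_4, sv_5, sv_6, sv_7, sv_8, sv_9, Complex.conj_ofNat, map_one, map_zero, map_neg] at h
    linear_combination h
  -- column (s, s)
  have hss : xs * conj xs + ys * conj ys = 6 := by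
    have h := (col e s s).1 (IsConj.refl s)
    rw [sum10, H.cs s hs] at h
    rw [hsv 0 (by decide) (by decide), hsv 1 (by decide) (by decide),
      hsv 2 (by decide) (by decide), hsv 3 (by decide) (by decide),
      hsv 4 (by decide) (by decide), hsv 7 (by decide) (by decide),
      hsv 8 (by decide) (by decide), hsv 9 (by decide) (by decide)] at h
    simp only [hxs, hys] at h
    simp only [sv_0, sv_1, sv_2, sv_3, sv_4, sv_5, sv_6, sv_7, sv_8, sv_9, Complex.conj_ofNat, map_one, map_zero, map_neg] at h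
    linear_combination h
  -- the integer a'
  obtain ⟨a', ha'⟩ : ∃ a' : ℤ, v2 + v3 = a' := by
    have hint : IsIntegral ℤ (v2 + v3) := by
      rw [← hv2, ← hv3]
      exact IsIntegral.add (isInt_val _ _) (isInt_val _ _)
    apply h5_int_of_rat_isIntegral hint
      (-(1 + 10*a + 11*c + 16*l1 + 16*l2 + 44*f + 45*b + 55*g) / 10 : ℚ)
    push_cast
    linear_combination (1/10 : ℂ) * hc1
  -- integer equations
  have hE1 : 1 + 10*a + 10*a' + 11*c + 16*l1 + 16*l2 + 44*f + 45*b + 55*g = 0 := by
    have : ((1 + 10*a + 10*a' + 11*c + 16*l1 + 16*l2 + 44*f + 45*b + 55*g : ℤ) : ℂ) = 0 := by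
      push_cast
      linear_combination hc1 - 10 * ha'
    exact_mod_cast this
  have hEu : 1 + 2*a - 2*a' + 3*c + 4*f - 3*b - g = 0 := by
    have : ((1 + 2*a - 2*a' + 3*c + 4*f - 3*b - g : ℤ) : ℂ) = 0 := by
      push_cast
      linear_combination hcu + 2 * ha'
    exact_mod_cast this
  have hEq : 1 + c + l1 + l2 - f = 0 := by
    have : ((1 + c + l1 + l2 - f : ℤ) : ℂ) = 0 := by
      push_cast
      linear_combination hcq
    exact_mod_cast this
  have hys' : conj ys = -1 - conj xs := by
    have : ys = -1 - xs := by linear_combination hxy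
    rw [this]
    simp
  -- l1 = l2
  have hl12 : l1 = l2 := by
    by_contra hne
    have hd : ((l1 - l2 : ℤ) : ℂ) ≠ 0 := by
      intro h0'
      apply hne
      have : (l1 - l2 : ℤ) = 0 := by exact_mod_cast h0'
      omega
    have hcx : conj xs = ((l2 - 1 + a + a' - b : ℤ) : ℂ) / ((l1 - l2 : ℤ) : ℂ) := by
      rw [eq_div_iff hd]
      rw [hys'] at hcs
      push_cast
      linear_combination hcs + ha'
    set r : ℚ := ((l2 - 1 + a + a' - b : ℤ) : ℚ) / ((l1 - l2 : ℤ) : ℚ) with hr
    have hcr : conj xs = (r : ℂ) := by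
      rw [hcx, hr]
      push_cast
      rfl
    have hxr : xs = (r : ℂ) := by
      have := congrArg conj hcr
      rw [Complex.conj_conj] at this
      rw [this]
      simp
    have hyr : ys = -1 - (r : ℂ) := by rw [← hxr]; linear_combination hxy
    rw [hys', hcr, hxr, hyr] at hss
    apply no_rat_sq_11 r
    have : (((2*r+1)^2 : ℚ) : ℂ) = ((11 : ℚ) : ℂ) := by
      push_cast
      linear_combination 2 * hss
    exact_mod_cast this
  subst hl12
  rename' l1 => l
  have hEs : 1 - a - a' + b - l = 0 := by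
    have : ((1 - a - a' + b - l : ℤ) : ℂ) = 0 := by
      push_cast
      rw [hys'] at hcs
      linear_combination hcs + ha'
    exact_mod_cast this
  -- the norm equation
  have hxx : (1:ℂ) + a*a + v2 * conj v2 + v3 * conj v3 + c*c + 2*l*l + f*f + b*b + g*g = N := by
    have h := (col e x x).1 (IsConj.refl x)
    rw [sum10, hNdef] at h
    simp only [h0, ha, hc, hl1, hl2, hf, hb, hg, hv2, hv3] at h
    simp only [map_intCast, map_one] at h
    linear_combination h
  have hS : ((Complex.normSq v2 + Complex.normSq v3 : ℝ) : ℂ) =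
      ((N - 1 - a*a - c*c - 2*l*l - f*f - b*b - g*g : ℤ) : ℂ) := by
    push_cast
    rw [← Complex.mul_conj, ← Complex.mul_conj]
    linear_combination hxx
  have hS' : Complex.normSq v2 + Complex.normSq v3 =
      ((N - 1 - a*a - c*c - 2*l*l - f*f - b*b - g*g : ℤ) : ℝ) := by
    have : ((Complex.normSq v2 + Complex.normSq v3 : ℝ) : ℂ) =
      (((N - 1 - a*a - c*c - 2*l*l - f*f - b*b - g*g : ℤ) : ℝ) : ℂ) := by
      rw [hS]
      push_cast
      rfl
    exact_mod_cast this
  have h5 : a'*a' ≤ 2*((N:ℤ) - 1 - a*a - c*c - 2*l*l - f*f - b*b - g*g) := by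
    have h1 := normSq_add_le_two v2 v3
    rw [ha', hS'] at h1
    have h2 : Complex.normSq ((a' : ℤ) : ℂ) = ((a'*a' : ℤ) : ℝ) := by
      rw [Complex.normSq_intCast]
      push_cast
      rfl
    rw [h2] at h1
    exact_mod_cast h1
  -- the class multiplication count
  obtain ⟨K, hK⟩ := H.cm x x⁻¹ s
  rw [centralizer_inv, hNdef, H.card, sum10] at hK
  have hinv : ∀ i, (e i : G → ℂ) x⁻¹ = conj ((e i : G → ℂ) x) := fun i =>
    Helper6.IsCharacter.inv_eq_conj (Helper6.IsIrrCharacter.isCharacter (e i).2) x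
  simp only [hinv] at hK
  rw [hsv 0 (by decide) (by decide), hsv 1 (by decide) (by decide),
    hsv 2 (by decide) (by decide), hsv 3 (by decide) (by decide),
    hsv 4 (by decide) (by decide), hsv 7 (by decide) (by decide),
    hsv 8 (by decide) (by decide), hsv 9 (by decide) (by decide)] at hK
  simp only [H.deg, h0, ha, hc, hl1, hl2, hf, hb, hg, hv2, hv3, hxs, hys] at hK
  simp only [map_intCast, map_one] at hK
  rw [hys'] at hK
  have hK6 : (K:ℤ) * ((N:ℤ) * (N:ℤ)) = 11*(792 - 72*(N:ℤ) + 72*c*c + 99*l*l + 72*f*f + 88*b*b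
        + 72*g*g) := by
    have : (((K:ℤ) * ((N:ℤ) * (N:ℤ)) : ℤ) : ℂ) = ((11*(792 - 72*(N:ℤ) + 72*c*c + 99*l*l
        + 72*f*f + 88*b*b + 72*g*g) : ℤ) : ℂ) := by
      push_cast
      simp only [dg_0, dg_1, dg_2, dg_3, dg_4, dg_5, dg_6, dg_7, dg_8, dg_9, sv_0, sv_1, sv_2, sv_3, sv_4, sv_5, sv_6, sv_7, sv_8, sv_9, Complex.conj_ofNat, map_one, map_zero, map_neg] at hK
      simp only [Nat.cast_ofNat] at hK
      linear_combination hK - 792 * hxx
    exact_mod_cast this
  have hfE : f = 1 + c + 2*l := by omega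
  have hgE : g = -f - b := by omega
  have haE : a = -1 + b - 3*l - 2*c := by omega
  have ha'E : a' = 2 + 2*l + 2*c := by omega
  have hNz : ((N:ℤ) = 9 ∨ (N:ℤ) = 18 ∨ (N:ℤ) = 36 ∨ (N:ℤ) = 72 ∨ (N:ℤ) = 144) := by
    rcases hN with h | h | h | h | h <;> rw [h] <;> norm_num
  obtain ⟨hN18, hl, hc', hb'⟩ := arith_main' l c b N K a a' f g hNz haE ha'E hfE hgE h5
    (Int.natCast_nonneg K) hK6
  have hN18' : N = 18 := by exact_mod_cast hN18
  subst hl hc' hb'
  have ha1 : a = 1 := by omega
  have ha2 : a' = 2 := by omega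
  have hf1 : f = -1 := by omega
  have hg1 : g = 1 := by omega
  subst ha1 ha2 hf1 hg1
  have hS2 : Complex.normSq v2 + Complex.normSq v3 = 2 := by
    rw [hS', hN18']
    norm_num
  obtain ⟨hv2', hv3'⟩ := eq_one_of_normSq v2 v3 (by rw [ha']; norm_num) hS2
  refine ⟨hN18', ?_⟩
  intro i
  have h10 : i = 0 ∨ i = 1 ∨ i = 2 ∨ i = 3 ∨ i = 4 ∨ i = 5 ∨ i = 6 ∨ i = 7 ∨ i = 8 ∨ i = 9 := by
    fin_cases i <;> simp
  rcases h10 with rfl | rfl | rfl | rfl | rfl | rfl | rfl | rfl | rfl | rfl
  · rw [h0, tv_0]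
  · rw [ha, tv_1]; norm_num
  · rw [hv2, hv2', tv_2]
  · rw [hv3, hv3', tv_3]
  · rw [hc, tv_4]; norm_num
  · rw [hl1, tv_5]; norm_num
  · rw [hl2, tv_6]; norm_num
  · rw [hf, tv_7]; norm_num
  · rw [hb, tv_8]; norm_num
  · rw [hg, tv_9]; norm_num

end Cfsg.Agent.Helper5.M11c
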