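import Cfsg.Agent.Helper5.M11_S0434b
import Cfsg.Agent.Helper4.Bsw2.ClassMult

/-!
# The class multiplication count along an enumeration of the irreducible characters

Provider for the field `cm` of `Cfsg.Agent.Helper5.M11c.Hyp` (via `Helper4.Bsw2.class_mult_count`, compatible with the StructConst side of helper6 library).
-/

set_option autoImplicit false
set_option linter.unusedVariables false
set_option linter.unusedSectionVars false
set_option linter.style.haveILetI false

namespace Cfsg.Agent.Helper5.M11c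

open scoped ComplexConjugate

universe u

variable {G : Type u} [Group G] [Finite G]

theorem cm_provider (e : Fin 10 ≃ Cfsg.IrrCharacter G) (a b c : G) : ∃ K : ℕ,
    (K : ℂ) * (Nat.card (Subgroup.centralizer ({a} : Set G)) : ℂ) *
        (Nat.card (Subgroup.centralizer ({b} : Set G)) : ℂ) =
      (Nat.card G : ℂ) * ∑ i : Fin 10, (e i : G → ℂ) a * (e i : G → ℂ) b *
        conj ((e i : G → ℂ) c) / (e i : G → ℂ) 1 := by
  classical
  haveI := Fintype.ofFinite G
  letI : Fintype (Cfsg.IrrCharacter G) := Fintype.ofEquiv _ e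
  have h1 := Helper4.Bsw2.class_mult_count a b c
  have h2 : ∑ i : Fin 10, (e i : G → ℂ) a * (e i : G → ℂ) b *
        conj ((e i : G → ℂ) c) / (e i : G → ℂ) 1 =
      ∑ χ : Cfsg.IrrCharacter G, (χ : G → ℂ) a * (χ : G → ℂ) b *
        conj ((χ : G → ℂ) c) / (χ : G → ℂ) 1 :=
    Fintype.sum_equiv e _ _ (fun _ => rfl)
  rw [h2]
  refine ⟨∑ x ∈ Helper6.classFinset a, ∑ y ∈ Helper6.classFinset b,
    (if x * y = c then 1 else 0), ?_⟩
  have h3 : ((∑ x ∈ Helper6.classFinset a, ∑ y ∈ Helper6.classFinset b,
      (if x * y = c then 1 else 0) : ℕ) : ℂ) =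
      ∑ x ∈ Helper6.classFinset a, ∑ y ∈ Helper6.classFinset b,
        (if x * y = c then (1 : ℂ) else 0) := by
    push_cast
    rfl
  rw [h3, h1, Helper6.card_classFinset, Helper6.card_classFinset]
  have ha : ((Subgroup.centralizer ({a} : Set G)).index : ℂ) *
      (Nat.card (Subgroup.centralizer ({a} : Set G)) : ℂ) = (Nat.card G : ℂ) := by
    exact_mod_cast Subgroup.index_mul_card (Subgroup.centralizer ({a} : Set G))
  have hb : ((Subgroup.centralizer ({b} : Set G)).index : ℂ) *
      (Nat.card (Subgroup.centralizer ({b} : Set G)) : ℂ) = (Nat.card G : ℂ) := by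
    exact_mod_cast Subgroup.index_mul_card (Subgroup.centralizer ({b} : Set G))
  have hG0 : (Nat.card G : ℂ) ≠ 0 := by
    have : 0 < Nat.card G := Nat.card_pos
    exact_mod_cast this.ne'
  generalize (∑ χ : Cfsg.IrrCharacter G, (χ : G → ℂ) a * (χ : G → ℂ) b *
        conj ((χ : G → ℂ) c) / (χ : G → ℂ) 1) = S
  calc ((Subgroup.centralizer ({a} : Set G)).index : ℂ) *
        ((Subgroup.centralizer ({b} : Set G)).index : ℂ) / (Nat.card G : ℂ) * S *
        (Nat.card (Subgroup.centralizer ({a} : Set G)) : ℂ) *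
        (Nat.card (Subgroup.centralizer ({b} : Set G)) : ℂ)
      = (((Subgroup.centralizer ({a} : Set G)).index : ℂ) *
          (Nat.card (Subgroup.centralizer ({a} : Set G)) : ℂ)) *
        (((Subgroup.centralizer ({b} : Set G)).index : ℂ) *
          (Nat.card (Subgroup.centralizer ({b} : Set G)) : ℂ)) / (Nat.card G : ℂ) * S := by
        ring
    _ = (Nat.card G : ℂ) * S := by
        rw [ha, hb]
        field_simp

end Cfsg.Agent.Helper5.M11c
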