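import Cfsg.Agent.Helper5.M11_S0434c

/-!
# Simple groups of order 7920: the 3-elements (towards S0434), part D

Group theory: centralizer orders of 3-elements, conjugacy of the 3-elements, and
`|N(P)| = 144` for a Sylow 3-subgroup `P`.
-/

set_option autoImplicit false
set_option linter.unusedVariables false
set_option linter.unusedSectionVars false
set_option linter.style.haveILetI false
set_option linter.unusedSimpArgs false

namespace Cfsg.Agent.Helper5.M11c

open scoped ComplexConjugate

universe u

variable {G : Type u} [Group G] [Finite G]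
variable {e : Fin 10 ≃ Cfsg.IrrCharacter G} {u : G}

theorem card_sylow3 (hG : Nat.card G = 7920) (P : Sylow 3 G) :
    Nat.card (P : Subgroup G) = 9 := by
  haveI : Fact (Nat.Prime 3) := ⟨by norm_num⟩
  rw [Sylow.card_eq_multiplicity, hG, Nat.factorization_def _ (by norm_num : Nat.Prime 3)]
  have h : (7920 : ℕ) = 3 ^ 2 * 880 := by norm_num
  rw [h, padicValNat.mul (by norm_num) (by norm_num), padicValNat.prime_pow,
    padicValNat.eq_zero_of_not_dvd (by norm_num)]
  norm_num

theorem sylow3_comm (hG : Nat.card G = 7920) (P : Sylow 3 G) (x y : G)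
    (hx : x ∈ (P : Subgroup G)) (hy : y ∈ (P : Subgroup G)) : x * y = y * x := by
  haveI : Fact (Nat.Prime 3) := ⟨by norm_num⟩
  have hc : Nat.card (P : Subgroup G) = 3 ^ 2 := by rw [card_sylow3 hG P]; norm_num
  haveI := IsPGroup.isMulCommutative_of_card_eq_prime_sq hc
  have := mul_comm' (⟨x, hx⟩ : (P : Subgroup G)) ⟨y, hy⟩
  exact congrArg Subtype.val this

theorem sylow3_le_centralizer (hG : Nat.card G = 7920) (P : Sylow 3 G) (x : G)
    (hx : x ∈ (P : Subgroup G)) : (P : Subgroup G) ≤ Subgroup.centralizer ({x} : Set G) := by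
  intro y hy
  rw [Subgroup.mem_centralizer_iff]
  intro z hz
  rw [Set.mem_singleton_iff] at hz
  subst hz
  exact sylow3_comm hG P z y hx hy

/-- an element commuting with an element `q` whose centralizer has prime order `p`, and whose
order is prime to `p`, is trivial -/
theorem eq_one_of_commute_of_card_centralizer (x q : G) (p : ℕ)
    (hcq : Nat.card (Subgroup.centralizer ({q} : Set G)) = p) (hcomm : Commute q x)
    (hx : (orderOf x).Coprime p) : x = 1 := by
  have hxc : x ∈ Subgroup.centralizer ({q} : Set G) := by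
    rw [Subgroup.mem_centralizer_iff]
    intro z hz
    rw [Set.mem_singleton_iff] at hz
    subst hz
    exact hcomm
  have h1 : orderOf x ∣ p := by
    rw [← hcq]
    have := Subgroup.orderOf_dvd_natCard (Subgroup.centralizer ({q} : Set G)) hxc
    exact this
  have h2 : orderOf x = 1 := by
    have := Nat.Coprime.eq_one_of_dvd hx h1
    exact this
  exact orderOf_eq_one_iff.mp h2

theorem not_dvd_card_centralizer (x : G) (hx1 : x ≠ 1) (hx9 : x ^ 9 = 1) (p : ℕ)
    [hp : Fact p.Prime] (hp9 : Nat.Coprime 9 p)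
    (hcp : ∀ q : G, orderOf q = p → Nat.card (Subgroup.centralizer ({q} : Set G)) = p) :
    ¬ p ∣ Nat.card (Subgroup.centralizer ({x} : Set G)) := by
  intro hdvd
  obtain ⟨q', hq'⟩ := exists_prime_orderOf_dvd_card' (G := Subgroup.centralizer ({x} : Set G)) p hdvd
  have hq : orderOf (q' : G) = p := by rw [Subgroup.orderOf_coe]; exact hq'
  have hcomm : Commute (q' : G) x := by
    have := q'.2
    rw [Subgroup.mem_centralizer_iff] at this
    exact (this x rfl).symm
  apply hx1
  apply eq_one_of_commute_of_card_centralizer x (q' : G) p (hcp _ hq) hcomm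
  exact Nat.Coprime.coprime_dvd_left (orderOf_dvd_of_pow_eq_one hx9) hp9

/-- The possible orders of the centralizer of a 3-element. -/
theorem card_centralizer_cases (H : Hyp e u) (x : G) (hx1 : x ≠ 1) (hx9 : x ^ 9 = 1) :
    Nat.card (Subgroup.centralizer ({x} : Set G)) = 9 ∨
      Nat.card (Subgroup.centralizer ({x} : Set G)) = 18 ∨
      Nat.card (Subgroup.centralizer ({x} : Set G)) = 36 ∨
      Nat.card (Subgroup.centralizer ({x} : Set G)) = 72 ∨
      Nat.card (Subgroup.centralizer ({x} : Set G)) = 144 := by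
  haveI : Fact (Nat.Prime 3) := ⟨by norm_num⟩
  haveI : Fact (Nat.Prime 5) := ⟨by norm_num⟩
  haveI : Fact (Nat.Prime 11) := ⟨by norm_num⟩
  have hpg : IsPGroup 3 (Subgroup.zpowers x) := by
    intro g
    refine ⟨2, ?_⟩
    obtain ⟨g, hg⟩ := g
    obtain ⟨n, rfl⟩ := Subgroup.mem_zpowers_iff.mp hg
    apply Subtype.ext
    simp only [Subgroup.coe_pow, Subgroup.coe_one]
    rw [← zpow_natCast, ← zpow_mul, mul_comm, zpow_mul, zpow_natCast]
    norm_num
    rw [hx9, one_zpow]
  obtain ⟨P, hP⟩ := hpg.exists_le_sylow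
  have hxP : x ∈ (P : Subgroup G) := hP (Subgroup.mem_zpowers x)
  have h9 : 9 ∣ Nat.card (Subgroup.centralizer ({x} : Set G)) := by
    rw [← card_sylow3 H.card P]
    exact Subgroup.card_dvd_of_le (sylow3_le_centralizer H.card P x hxP)
  have h7920 : Nat.card (Subgroup.centralizer ({x} : Set G)) ∣ 7920 := by
    rw [← H.card]
    exact Subgroup.card_subgroup_dvd_card _
  have h5 := not_dvd_card_centralizer x hx1 hx9 5 (by norm_num) H.cq
  have h11 := not_dvd_card_centralizer x hx1 hx9 11 (by norm_num) H.cs
  generalize Nat.card (Subgroup.centralizer ({x} : Set G)) = N at *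
  obtain ⟨m, rfl⟩ := h9
  have hm880 : m ∣ 880 := by
    have : 9 * m ∣ 9 * 880 := by norm_num; exact h7920
    exact Nat.dvd_of_mul_dvd_mul_left (by norm_num) this
  have hm5 : Nat.Coprime m 5 := by
    apply Nat.Coprime.symm
    rw [Nat.Prime.coprime_iff_not_dvd (by norm_num)]
    intro h
    exact h5 (Dvd.dvd.mul_left h 9)
  have hm11 : Nat.Coprime m 11 := by
    apply Nat.Coprime.symm
    rw [Nat.Prime.coprime_iff_not_dvd (by norm_num)]
    intro h
    exact h11 (Dvd.dvd.mul_left h 9)
  have hm55 : Nat.Coprime m 55 := by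
    have : (55 : ℕ) = 5 * 11 := by norm_num
    rw [this]
    exact Nat.Coprime.mul_right hm5 hm11
  have hm16 : m ∣ 16 := by
    have : m ∣ 16 * 55 := by norm_num; exact hm880
    exact Nat.Coprime.dvd_of_dvd_mul_right hm55 this
  have hmle : m ≤ 16 := Nat.le_of_dvd (by norm_num) hm16
  have hm0 : 0 < m := Nat.pos_of_dvd_of_pos hm16 (by norm_num)
  interval_cases m <;> omega

/-- All 3-elements are conjugate. -/
theorem three_conj (H : Hyp e u) (x y : G) (hx1 : x ≠ 1) (hx9 : x ^ 9 = 1) (hy1 : y ≠ 1)
    (hy9 : y ^ 9 = 1) : IsConj x y := by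
  by_contra hne
  have hx := (three_main H x hx1 hx9 (card_centralizer_cases H x hx1 hx9)).2
  have hy := (three_main H y hy1 hy9 (card_centralizer_cases H y hy1 hy9)).2
  have h := (col e x y).2 hne
  rw [sum10] at h
  simp only [hx, hy] at h
  simp only [tv_0, tv_1, tv_2, tv_3, tv_4, tv_5, tv_6, tv_7, tv_8, tv_9, Complex.conj_ofNat,
    map_one, map_zero, map_neg] at h
  norm_num at h

/-- Sylow 3-normalizers have order 144. -/
theorem card_normalizer_sylow3 (H : Hyp e u) (P : Sylow 3 G) :
    Nat.card (Subgroup.normalizer ((P : Subgroup G) : Set G)) = 144 := by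
  haveI : Fact (Nat.Prime 3) := ⟨by norm_num⟩
  have hP9 := card_sylow3 H.card P
  -- a nontrivial element
  have hne : (P : Subgroup G) ≠ ⊥ := by
    intro h
    rw [h, Subgroup.card_bot] at hP9
    omega
  obtain ⟨⟨x0, hx0P⟩, hx01'⟩ := (Subgroup.ne_bot_iff_exists_ne_one.mp hne)
  have hx01 : x0 ≠ 1 := by
    intro h
    apply hx01'
    apply Subtype.ext
    exact h
  have hpow9 : ∀ y : G, y ∈ (P : Subgroup G) → y ^ 9 = 1 := by
    intro y hy
    have h1 : (⟨y, hy⟩ : (P : Subgroup G)) ^ Nat.card (P : Subgroup G) = 1 := pow_card_eq_one'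
    rw [hP9] at h1
    have := congrArg Subtype.val h1
    simpa using this
  have hx09 := hpow9 x0 hx0P
  have hC18 := (three_main H x0 hx01 hx09 (card_centralizer_cases H x0 hx01 hx09)).1
  have hPC := sylow3_le_centralizer H.card P x0 hx0P
  -- `P` is normal in `C(x0)`
  have hidx : ((P : Subgroup G).subgroupOf (Subgroup.centralizer ({x0} : Set G))).index = 2 := by
    have h1 := Subgroup.index_mul_card
      ((P : Subgroup G).subgroupOf (Subgroup.centralizer ({x0} : Set G)))
    rw [Nat.card_congr (Subgroup.subgroupOfEquivOfLe hPC).toEquiv, hP9, hC18] at h1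
    omega
  haveI hnorm := Subgroup.normal_of_index_eq_two hidx
  have hCN : Subgroup.centralizer ({x0} : Set G) ≤
      Subgroup.normalizer ((P : Subgroup G) : Set G) :=
    (Subgroup.normal_subgroupOf_iff_le_normalizer hPC).mp hnorm
  -- the action of the normalizer by conjugation
  letI : MulAction (Subgroup.normalizer ((P : Subgroup G) : Set G)) G :=
    MulAction.compHom G ((MulAut.conj : G →* MulAut G).comp
      (Subgroup.normalizer ((P : Subgroup G) : Set G)).subtype)
  have hsmul : ∀ (n : Subgroup.normalizer ((P : Subgroup G) : Set G)) (y : G),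
      n • y = (n : G) * y * (n : G)⁻¹ := fun n y => rfl
  have horb : MulAction.orbit (Subgroup.normalizer ((P : Subgroup G) : Set G)) x0 =
      ((P : Subgroup G) : Set G) \ {1} := by
    ext y
    constructor
    · rintro ⟨n, rfl⟩
      change (n : G) * x0 * (n : G)⁻¹ ∈ _
      refine ⟨?_, ?_⟩
      · exact (Subgroup.mem_normalizer_iff.mp n.2 x0).mp hx0P
      · rw [Set.mem_singleton_iff]
        intro h
        apply hx01
        have : x0 = (n : G)⁻¹ * ((n : G) * x0 * (n : G)⁻¹) * (n : G) := by group
        rw [this, h]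
        group
    · rintro ⟨hyP, hy1⟩
      rw [Set.mem_singleton_iff] at hy1
      have hconj := three_conj H x0 y hx01 hx09 hy1 (hpow9 y hyP)
      obtain ⟨c, hc⟩ := isConj_iff.mp hconj
      have hy' : (c⁻¹)⁻¹ * x0 * c⁻¹ ∈ (P : Subgroup G) := by
        rw [inv_inv, hc]
        exact hyP
      haveI : IsMulCommutative (P : Subgroup G) := by
        have hc2 : Nat.card (P : Subgroup G) = 3 ^ 2 := by rw [hP9]; norm_num
        exact IsPGroup.isMulCommutative_of_card_eq_prime_sq hc2
      obtain ⟨n, hn, hnx⟩ := Sylow.conj_eq_normalizer_conj_of_mem P x0 c⁻¹ hx0P hy'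
      rw [inv_inv, hc] at hnx
      refine ⟨⟨n⁻¹, Subgroup.inv_mem _ hn⟩, ?_⟩
      change n⁻¹ * x0 * (n⁻¹)⁻¹ = y
      rw [inv_inv]
      exact hnx.symm
  have hstab : MulAction.stabilizer (Subgroup.normalizer ((P : Subgroup G) : Set G)) x0 =
      (Subgroup.centralizer ({x0} : Set G)).subgroupOf
        (Subgroup.normalizer ((P : Subgroup G) : Set G)) := by
    ext n
    rw [MulAction.mem_stabilizer_iff, hsmul, Subgroup.mem_subgroupOf,
      Subgroup.mem_centralizer_iff]
    constructor
    · intro h z hz
      rw [Set.mem_singleton_iff] at hz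
      subst hz
      have : (n : G) * z = z * (n : G) := by
        calc (n : G) * z = ((n : G) * z * (n : G)⁻¹) * (n : G) := by group
          _ = z * (n : G) := by rw [h]
      exact this.symm
    · intro h
      have := h x0 rfl
      rw [← this]
      group
  have hcard := Subgroup.index_mul_card
    (MulAction.stabilizer (Subgroup.normalizer ((P : Subgroup G) : Set G)) x0)
  rw [MulAction.index_stabilizer, horb, hstab,
    Nat.card_congr (Subgroup.subgroupOfEquivOfLe hCN).toEquiv, hC18] at hcard
  have h8 : (((P : Subgroup G) : Set G) \ {1}).ncard = 8 := by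
    rw [Set.ncard_sdiff_singleton_of_mem (Subgroup.one_mem _)]
    have : (((P : Subgroup G) : Set G)).ncard = 9 := by
      rw [← hP9]
      exact (Nat.card_coe_set_eq _).symm
    rw [this]
  rw [h8] at hcard
  omega

end Cfsg.Agent.Helper5.M11c
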