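import Cfsg.Agent.Helper5.M11_S0434d
import Cfsg.Agent.Helper5.M11_S0434cm
import Cfsg.Agent.Helper6.BlockPart

/-!
# Simple groups of order 7920: from the S0435-stage table to `Hyp` (towards S0434), part E
-/

set_option autoImplicit false
set_option linter.unusedVariables false
set_option linter.unusedSectionVars false
set_option linter.style.haveILetI false
set_option linter.unusedSimpArgs false

namespace Cfsg.Agent.Helper5.M11c

open scoped ComplexConjugate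

universe u

variable {G : Type u} [Group G] [Finite G]

/-- In a group whose order is divisible by the prime `p` exactly once, any element of order `p`
is conjugate into any subgroup of order `p`. -/
theorem conj_mem_of_prime_order (p : ℕ) [hp : Fact p.Prime]
    (hfac : (Nat.card G).factorization p = 1) (K : Subgroup G) (hK : Nat.card K = p)
    (y : G) (hy : orderOf y = p) : ∃ g : G, g * y * g⁻¹ ∈ K := by
  have hKp : Nat.card K = p ^ (Nat.card G).factorization p := by rw [hfac, pow_one, hK]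
  let P : Sylow p G := Sylow.ofCard K hKp
  have hpg : IsPGroup p (Subgroup.zpowers y) := by
    apply IsPGroup.of_card (n := 1)
    rw [Nat.card_zpowers, hy, pow_one]
  obtain ⟨Q, hQ⟩ := hpg.exists_le_sylow
  obtain ⟨g, hg⟩ := MulAction.exists_smul_eq G Q P
  refine ⟨g, ?_⟩
  have hyQ : y ∈ (Q : Subgroup G) := hQ (Subgroup.mem_zpowers y)
  have h1 : g * y * g⁻¹ ∈ ((g • Q : Sylow p G) : Subgroup G) := by
    rw [Sylow.coe_subgroup_smul]
    rw [Subgroup.mem_pointwise_smul_iff_inv_smul_mem]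
    simp only [MulAut.smul_def, MulAut.conj_inv_apply]
    have : g⁻¹ * (g * y * g⁻¹) * g = y := by group
    rw [this]
    exact hyQ
  rw [hg] at h1
  exact h1

theorem fact5 (hcard : Nat.card G = 7920) : (Nat.card G).factorization 5 = 1 := by
  haveI : Fact (Nat.Prime 5) := ⟨by norm_num⟩
  rw [hcard, Nat.factorization_def _ (by norm_num : Nat.Prime 5)]
  have h : (7920 : ℕ) = 5 ^ 1 * 1584 := by norm_num
  rw [h, padicValNat.mul (by norm_num) (by norm_num), padicValNat.prime_pow,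
    padicValNat.eq_zero_of_not_dvd (by norm_num)]

theorem fact11 (hcard : Nat.card G = 7920) : (Nat.card G).factorization 11 = 1 := by
  haveI : Fact (Nat.Prime 11) := ⟨by norm_num⟩
  rw [hcard, Nat.factorization_def _ (by norm_num : Nat.Prime 11)]
  have h : (7920 : ℕ) = 11 ^ 1 * 720 := by norm_num
  rw [h, padicValNat.mul (by norm_num) (by norm_num), padicValNat.prime_pow,
    padicValNat.eq_zero_of_not_dvd (by norm_num)]

theorem irr_conj (χ : Cfsg.IrrCharacter G) (g y : G) :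
    (χ : G → ℂ) (g * y * g⁻¹) = (χ : G → ℂ) y :=
  Helper6.IsCharacter.isClassFunction (Helper6.IsIrrCharacter.isCharacter χ.2) y g

theorem irr_isConj (χ : Cfsg.IrrCharacter G) {x y : G} (h : IsConj x y) :
    (χ : G → ℂ) x = (χ : G → ℂ) y := by
  obtain ⟨c, hc⟩ := isConj_iff.mp h
  rw [← hc, irr_conj]

/-- three integers with sum `-2` and sum of squares `12` -/
theorem three_ints (a1 a2 a3 : ℤ) (hs : a1 + a2 + a3 = -2) (hq : a1 ^ 2 + a2 ^ 2 + a3 ^ 2 = 12) :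
    (a1 = 2 ∧ a2 = -2 ∧ a3 = -2) ∨ (a1 = -2 ∧ a2 = 2 ∧ a3 = -2) ∨
      (a1 = -2 ∧ a2 = -2 ∧ a3 = 2) := by
  have h1 : -3 ≤ a1 ∧ a1 ≤ 3 := abs_bound 3 (by norm_num) (by norm_num)
    (by nlinarith [sq_nonneg a2, sq_nonneg a3] : a1 * a1 ≤ 12)
  have h2 : -3 ≤ a2 ∧ a2 ≤ 3 := abs_bound 3 (by norm_num) (by norm_num)
    (by nlinarith [sq_nonneg a1, sq_nonneg a3] : a2 * a2 ≤ 12)
  obtain ⟨h1a, h1b⟩ := h1
  obtain ⟨h2a, h2b⟩ := h2
  have h3 : a3 = -2 - a1 - a2 := by linarith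
  subst h3
  interval_cases a1 <;> interval_cases a2 <;> simp_all

theorem isConj_pow_of_five {q : G} (hq : q ^ 5 = 1) (h : IsConj q (q ^ 2)) (m : ℕ)
    (hm : m % 5 ≠ 0) : IsConj q (q ^ m) := by
  obtain ⟨c, hc⟩ := isConj_iff.mp h
  have hpow : ∀ j : ℕ, c * q ^ j * c⁻¹ = (q ^ 2) ^ j := by
    intro j
    rw [← hc, conj_pow]
  have h24 : IsConj (q ^ 2) (q ^ 4) := by
    rw [isConj_iff]
    refine ⟨c, ?_⟩
    rw [hpow 2, ← pow_mul]
  have h43 : IsConj (q ^ 4) (q ^ 3) := by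
    rw [isConj_iff]
    refine ⟨c, ?_⟩
    rw [hpow 4, ← pow_mul]
    have : q ^ (2 * 4) = q ^ 5 * q ^ 3 := by rw [← pow_add]
    rw [this, hq, one_mul]
  have hmod : q ^ m = q ^ (m % 5) := pow_eq_pow_mod m hq
  rw [hmod]
  have hlt : m % 5 < 5 := Nat.mod_lt _ (by norm_num)
  interval_cases hm5 : m % 5
  · exact absurd rfl hm
  · rw [pow_one]
  · exact h
  · exact (h.trans h24).trans h43
  · exact h.trans h24

/-- The table in the normalized order (the first character of degree 10 has value 2 at `u`). -/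
theorem hyp_of_table_aux (hcard : Nat.card G = 7920)
    (e : Fin 10 ≃ Cfsg.IrrCharacter G)
    (hdeg : ∀ i, Cfsg.charDegree ((e i : Cfsg.IrrCharacter G) : G → ℂ) =
      (![1, 10, 10, 10, 11, 16, 16, 44, 45, 55] : Fin 10 → ℕ) i)
    (he0 : ∀ g : G, (e 0 : G → ℂ) g = 1)
    (q : G) (hq : orderOf q = 5) (hq2 : IsConj q (q ^ 2))
    (hCq : ∀ q' : G, orderOf q' = 5 → Nat.card (Subgroup.centralizer ({q'} : Set G)) = 5)
    (vq : ∀ i, (e i : G → ℂ) q =
      (((![1, 0, 0, 0, 1, 1, 1, -1, 0, 0] : Fin 10 → ℤ) i : ℤ) : ℂ))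
    (K : Subgroup G) (hK : Nat.card K = 11)
    (hCs : ∀ s : G, orderOf s = 11 → Nat.card (Subgroup.centralizer ({s} : Set G)) = 11)
    (vs : ∀ k ∈ K, k ≠ 1 →
      (∀ i, i ≠ 5 → i ≠ 6 → (e i : G → ℂ) k =
        (((![1, -1, -1, -1, 0, 0, 0, 0, 1, 0] : Fin 10 → ℤ) i : ℤ) : ℂ)) ∧
      (e 5 : G → ℂ) k + (e 6 : G → ℂ) k = -1 ∧
      (e 5 : G → ℂ) k * conj ((e 5 : G → ℂ) k) + (e 6 : G → ℂ) k * conj ((e 6 : G → ℂ) k) = 6)
    (u : G) (hu : orderOf u = 2) (a : Fin 10 → ℤ) (ha : ∀ i, (e i : G → ℂ) u = (a i : ℂ))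
    (h1 : a 1 = 2) (h2 : a 2 = -2) (h3 : a 3 = -2)
    (h16a : a 5 = 0) (h16b : a 6 = 0) (h45 : a 8 = -3)
    (hC48 : Nat.card (Subgroup.centralizer ({u} : Set G)) = 48) : Hyp e u := by
  haveI : Fact (Nat.Prime 5) := ⟨by norm_num⟩
  haveI : Fact (Nat.Prime 11) := ⟨by norm_num⟩
  have hq5 : q ^ 5 = 1 := by rw [← hq]; exact pow_orderOf_eq_one q
  -- degrees as complex numbers
  have hdegC : ∀ i, (e i : G → ℂ) 1 = dg i := by
    intro i
    rw [← Helper6.charDegree_cast_of_isCharacter (Helper6.IsIrrCharacter.isCharacter (e i).2),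
      hdeg i]
    fin_cases i <;> simp [dg]
  -- a 0 = 1
  have h0 : a 0 = 1 := by
    have := ha 0
    rw [he0 u] at this
    exact_mod_cast this.symm
  -- the values at u of the characters of degree 11, 44, 55
  have hu1 : u ≠ 1 := by
    intro h
    rw [h, orderOf_one] at hu
    omega
  have hnuq : ¬ IsConj u q := not_isConj_of_orderOf_ne (by rw [hu, hq]; norm_num)
  have hnu1 : ¬ IsConj u 1 := not_isConj_of_orderOf_ne (by rw [hu, orderOf_one]; norm_num)
  have hcq : 1 + a 4 - a 7 = 0 := by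
    have h := (col e u q).2 hnuq
    rw [sum10] at h
    simp only [vq, ha, h0, h1, h2, h3, h16a, h16b, h45] at h
    have : ((1 + a 4 - a 7 : ℤ) : ℂ) = 0 := by
      push_cast
      simp [Matrix.cons_val_zero, Matrix.cons_val_one] at h
      linear_combination h
    exact_mod_cast this
  have hc1 : 1 + 10 * (a 1 + a 2 + a 3) + 11 * a 4 + 44 * a 7 + 45 * a 8 + 55 * a 9 = 0 := by
    have h := (col e u 1).2 hnu1
    rw [sum10] at h
    simp only [hdegC, ha, h0, h16a, h16b] at h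
    simp only [dg_0, dg_1, dg_2, dg_3, dg_4, dg_5, dg_6, dg_7, dg_8, dg_9, Complex.conj_ofNat,
      map_one] at h
    have : ((1 + 10 * (a 1 + a 2 + a 3) + 11 * a 4 + 44 * a 7 + 45 * a 8 + 55 * a 9 : ℤ) : ℂ)
        = 0 := by
      push_cast
      linear_combination h
    exact_mod_cast this
  have hcu : 1 + a 1 * a 1 + a 2 * a 2 + a 3 * a 3 + a 4 * a 4 + a 7 * a 7 + a 8 * a 8
      + a 9 * a 9 = 48 := by
    have h := (col e u u).1 (IsConj.refl u)
    rw [sum10, hC48] at h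
    simp only [ha, h0, h16a, h16b] at h
    simp only [map_intCast] at h
    have : ((1 + a 1 * a 1 + a 2 * a 2 + a 3 * a 3 + a 4 * a 4 + a 7 * a 7 + a 8 * a 8
      + a 9 * a 9 : ℤ) : ℂ) = ((48 : ℤ) : ℂ) := by
      push_cast
      linear_combination h
    exact_mod_cast this
  rw [h1, h2, h3, h45] at hc1 hcu
  have h7 : a 7 = 1 + a 4 := by omega
  have h9 : a 9 = 2 - a 4 := by omega
  have h4 : a 4 = 3 := by
    rw [h7, h9] at hcu
    have h' : (a 4 - 3) * (3 * a 4 + 7) = 0 := by nlinarith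
    rcases mul_eq_zero.mp h' with h'' | h''
    · omega
    · omega
  rw [h4] at h7 h9
  refine
    { card := hcard
      deg := hdegC
      hu := hu
      uval := ?_
      qval := ?_
      sval := ?_
      cq := hCq
      cs := hCs
      cm := cm_provider e }
  · intro i
    rw [ha i]
    have h10 : i = 0 ∨ i = 1 ∨ i = 2 ∨ i = 3 ∨ i = 4 ∨ i = 5 ∨ i = 6 ∨ i = 7 ∨ i = 8 ∨ i = 9 := by
      fin_cases i <;> simp
    rcases h10 with rfl | rfl | rfl | rfl | rfl | rfl | rfl | rfl | rfl | rfl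
    · rw [h0, uv_0]; norm_num
    · rw [h1, uv_1]; norm_num
    · rw [h2, uv_2]; norm_num
    · rw [h3, uv_3]; norm_num
    · rw [h4, uv_4]; norm_num
    · rw [h16a, uv_5]; norm_num
    · rw [h16b, uv_6]; norm_num
    · rw [h7, uv_7]; norm_num
    · rw [h45, uv_8]; norm_num
    · rw [h9, uv_9]; norm_num
  · intro q' hq' i
    have hZ : Nat.card (Subgroup.zpowers q) = 5 := by rw [Nat.card_zpowers, hq]
    obtain ⟨g, hg⟩ := conj_mem_of_prime_order 5 (fact5 hcard) (Subgroup.zpowers q) hZ q' hq'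
    obtain ⟨n, hn⟩ := (mem_powers_iff_mem_zpowers).mpr hg
    have hn' : q ^ n = g * q' * g⁻¹ := hn
    have hn5 : n % 5 ≠ 0 := by
      intro h0'
      have : q ^ n = 1 := by rw [pow_eq_pow_mod n hq5, h0', pow_zero]
      rw [this] at hn'
      have hq1 : q' = 1 := by
        have : q' = g⁻¹ * (g * q' * g⁻¹) * g := by group
        rw [this, ← hn']
        group
      rw [hq1, orderOf_one] at hq'
      omega
    have hc := isConj_pow_of_five hq5 hq2 n hn5
    rw [← irr_conj (e i) g q', ← hn', ← irr_isConj (e i) hc, vq i]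
    fin_cases i <;> simp [qv]
  · intro s hs
    obtain ⟨g, hg⟩ := conj_mem_of_prime_order 11 (fact11 hcard) K hK s hs
    have hk1 : g * s * g⁻¹ ≠ 1 := by
      intro h
      have hs1 : s = 1 := by
        have : s = g⁻¹ * (g * s * g⁻¹) * g := by group
        rw [this, h]
        group
      rw [hs1, orderOf_one] at hs
      omega
    obtain ⟨hv, v56, vn⟩ := vs _ hg hk1
    rw [irr_conj, irr_conj] at v56 vn
    refine ⟨?_, v56, ?_⟩
    · intro i hi5 hi6
      rw [← irr_conj (e i) g s, hv i hi5 hi6]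
      fin_cases i <;> simp [sv]
    · intro heq
      rw [← heq] at v56 vn
      have hz : (e 5 : G → ℂ) s = -1/2 := by linear_combination (1/2 : ℂ) * v56
      rw [hz] at vn
      have hcj : (starRingEnd ℂ) (-1/2 : ℂ) = -1/2 := by
        rw [map_div₀, map_neg, map_one, Complex.conj_ofNat]
      rw [hcj] at vn
      norm_num at vn

theorem tblN_swap (j : Fin 10) (hj : j = 2 ∨ j = 3) (i : Fin 10) :
    (![1, 10, 10, 10, 11, 16, 16, 44, 45, 55] : Fin 10 → ℕ) (Equiv.swap 1 j i) =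
      (![1, 10, 10, 10, 11, 16, 16, 44, 45, 55] : Fin 10 → ℕ) i := by
  rcases hj with rfl | rfl <;> revert i <;> decide

theorem tblQ_swap (j : Fin 10) (hj : j = 2 ∨ j = 3) (i : Fin 10) :
    (![1, 0, 0, 0, 1, 1, 1, -1, 0, 0] : Fin 10 → ℤ) (Equiv.swap 1 j i) =
      (![1, 0, 0, 0, 1, 1, 1, -1, 0, 0] : Fin 10 → ℤ) i := by
  rcases hj with rfl | rfl <;> revert i <;> decide

theorem tblS_swap (j : Fin 10) (hj : j = 2 ∨ j = 3) (i : Fin 10) :
    (![1, -1, -1, -1, 0, 0, 0, 0, 1, 0] : Fin 10 → ℤ) (Equiv.swap 1 j i) =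
      (![1, -1, -1, -1, 0, 0, 0, 0, 1, 0] : Fin 10 → ℤ) i := by
  rcases hj with rfl | rfl <;> revert i <;> decide

theorem swap_fix (j : Fin 10) (hj : j = 2 ∨ j = 3) :
    Equiv.swap 1 j 0 = 0 ∧ Equiv.swap 1 j 5 = 5 ∧ Equiv.swap 1 j 6 = 6 ∧ Equiv.swap 1 j 8 = 8 ∧
      (∀ i : Fin 10, i ≠ 5 → Equiv.swap 1 j i ≠ 5) ∧
      (∀ i : Fin 10, i ≠ 6 → Equiv.swap 1 j i ≠ 6) := by
  rcases hj with rfl | rfl <;> decide

/-- From the S0435-stage table (any order of the three characters of degree 10) to `Hyp`. -/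
theorem hyp_of_table (hcard : Nat.card G = 7920)
    (e : Fin 10 ≃ Cfsg.IrrCharacter G)
    (hdeg : ∀ i, Cfsg.charDegree ((e i : Cfsg.IrrCharacter G) : G → ℂ) =
      (![1, 10, 10, 10, 11, 16, 16, 44, 45, 55] : Fin 10 → ℕ) i)
    (he0 : ∀ g : G, (e 0 : G → ℂ) g = 1)
    (q : G) (hq : orderOf q = 5) (hq2 : IsConj q (q ^ 2))
    (hCq : ∀ q' : G, orderOf q' = 5 → Nat.card (Subgroup.centralizer ({q'} : Set G)) = 5)
    (vq : ∀ i, (e i : G → ℂ) q =
      (((![1, 0, 0, 0, 1, 1, 1, -1, 0, 0] : Fin 10 → ℤ) i : ℤ) : ℂ))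
    (K : Subgroup G) (hK : Nat.card K = 11)
    (hCs : ∀ s : G, orderOf s = 11 → Nat.card (Subgroup.centralizer ({s} : Set G)) = 11)
    (vs : ∀ k ∈ K, k ≠ 1 →
      (∀ i, i ≠ 5 → i ≠ 6 → (e i : G → ℂ) k =
        (((![1, -1, -1, -1, 0, 0, 0, 0, 1, 0] : Fin 10 → ℤ) i : ℤ) : ℂ)) ∧
      (e 5 : G → ℂ) k + (e 6 : G → ℂ) k = -1 ∧
      (e 5 : G → ℂ) k * conj ((e 5 : G → ℂ) k) + (e 6 : G → ℂ) k * conj ((e 6 : G → ℂ) k) = 6)
    (u : G) (hu : orderOf u = 2) (a : Fin 10 → ℤ) (ha : ∀ i, (e i : G → ℂ) u = (a i : ℂ))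
    (hs10 : a 1 + a 2 + a 3 = -2) (hq10 : a 1 ^ 2 + a 2 ^ 2 + a 3 ^ 2 = 12)
    (h16a : a 5 = 0) (h16b : a 6 = 0) (h45 : a 8 = -3)
    (hC48 : Nat.card (Subgroup.centralizer ({u} : Set G)) = 48) :
    ∃ e' : Fin 10 ≃ Cfsg.IrrCharacter G, Hyp e' u := by
  rcases three_ints (a 1) (a 2) (a 3) hs10 hq10 with ⟨h1, h2, h3⟩ | ⟨h1, h2, h3⟩ | ⟨h1, h2, h3⟩
  · exact ⟨e, hyp_of_table_aux hcard e hdeg he0 q hq hq2 hCq vq K hK hCs vs u hu a ha h1 h2 h3
      h16a h16b h45 hC48⟩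
  · -- swap 1 and 2
    have hj : (2 : Fin 10) = 2 ∨ (2 : Fin 10) = 3 := Or.inl rfl
    obtain ⟨s0, s5, s6, s8, sn5, sn6⟩ := swap_fix 2 hj
    refine ⟨(Equiv.swap (1 : Fin 10) 2).trans e, ?_⟩
    refine hyp_of_table_aux hcard _ ?_ ?_ q hq hq2 hCq ?_ K hK hCs ?_ u hu
      (fun i => a (Equiv.swap 1 2 i)) (fun i => ha _) ?_ ?_ ?_ ?_ ?_ ?_ hC48
    · intro i
      rw [Equiv.trans_apply, hdeg, tblN_swap 2 hj]
    · intro g
      rw [Equiv.trans_apply, s0]
      exact he0 g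
    · intro i
      rw [Equiv.trans_apply, vq, tblQ_swap 2 hj]
    · intro k hk hk1
      obtain ⟨hv, v56, vn⟩ := vs k hk hk1
      refine ⟨?_, ?_, ?_⟩
      · intro i hi5 hi6
        rw [Equiv.trans_apply, hv _ (sn5 i hi5) (sn6 i hi6), tblS_swap 2 hj]
      · rw [Equiv.trans_apply, Equiv.trans_apply, s5, s6]
        exact v56
      · rw [Equiv.trans_apply, Equiv.trans_apply, s5, s6]
        exact vn
    · show a (Equiv.swap 1 2 1) = 2
      rw [Equiv.swap_apply_left]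
      exact h2
    · show a (Equiv.swap 1 2 2) = -2
      rw [Equiv.swap_apply_right]
      exact h1
    · show a (Equiv.swap 1 2 3) = -2
      have : Equiv.swap (1 : Fin 10) 2 3 = 3 := by decide
      rw [this]
      exact h3
    · show a (Equiv.swap 1 2 5) = 0
      rw [s5]
      exact h16a
    · show a (Equiv.swap 1 2 6) = 0
      rw [s6]
      exact h16b
    · show a (Equiv.swap 1 2 8) = -3
      rw [s8]
      exact h45
  · -- swap 1 and 3
    have hj : (3 : Fin 10) = 2 ∨ (3 : Fin 10) = 3 := Or.inr rfl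
    obtain ⟨s0, s5, s6, s8, sn5, sn6⟩ := swap_fix 3 hj
    refine ⟨(Equiv.swap (1 : Fin 10) 3).trans e, ?_⟩
    refine hyp_of_table_aux hcard _ ?_ ?_ q hq hq2 hCq ?_ K hK hCs ?_ u hu
      (fun i => a (Equiv.swap 1 3 i)) (fun i => ha _) ?_ ?_ ?_ ?_ ?_ ?_ hC48
    · intro i
      rw [Equiv.trans_apply, hdeg, tblN_swap 3 hj]
    · intro g
      rw [Equiv.trans_apply, s0]
      exact he0 g
    · intro i
      rw [Equiv.trans_apply, vq, tblQ_swap 3 hj]
    · intro k hk hk1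
      obtain ⟨hv, v56, vn⟩ := vs k hk hk1
      refine ⟨?_, ?_, ?_⟩
      · intro i hi5 hi6
        rw [Equiv.trans_apply, hv _ (sn5 i hi5) (sn6 i hi6), tblS_swap 3 hj]
      · rw [Equiv.trans_apply, Equiv.trans_apply, s5, s6]
        exact v56
      · rw [Equiv.trans_apply, Equiv.trans_apply, s5, s6]
        exact vn
    · show a (Equiv.swap 1 3 1) = 2
      rw [Equiv.swap_apply_left]
      exact h3
    · show a (Equiv.swap 1 3 2) = -2
      have : Equiv.swap (1 : Fin 10) 3 2 = 2 := by decide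
      rw [this]
      exact h2
    · show a (Equiv.swap 1 3 3) = -2
      rw [Equiv.swap_apply_right]
      exact h1
    · show a (Equiv.swap 1 3 5) = 0
      rw [s5]
      exact h16a
    · show a (Equiv.swap 1 3 6) = 0
      rw [s6]
      exact h16b
    · show a (Equiv.swap 1 3 8) = -3
      rw [s8]
      exact h45

/-- S0434 from the S0435-stage table. -/
theorem card_normalizer_sylow3_of_table (hcard : Nat.card G = 7920)
    (e : Fin 10 ≃ Cfsg.IrrCharacter G)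
    (hdeg : ∀ i, Cfsg.charDegree ((e i : Cfsg.IrrCharacter G) : G → ℂ) =
      (![1, 10, 10, 10, 11, 16, 16, 44, 45, 55] : Fin 10 → ℕ) i)
    (he0 : ∀ g : G, (e 0 : G → ℂ) g = 1)
    (q : G) (hq : orderOf q = 5) (hq2 : IsConj q (q ^ 2))
    (hCq : ∀ q' : G, orderOf q' = 5 → Nat.card (Subgroup.centralizer ({q'} : Set G)) = 5)
    (vq : ∀ i, (e i : G → ℂ) q =
      (((![1, 0, 0, 0, 1, 1, 1, -1, 0, 0] : Fin 10 → ℤ) i : ℤ) : ℂ))
    (K : Subgroup G) (hK : Nat.card K = 11)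
    (hCs : ∀ s : G, orderOf s = 11 → Nat.card (Subgroup.centralizer ({s} : Set G)) = 11)
    (vs : ∀ k ∈ K, k ≠ 1 →
      (∀ i, i ≠ 5 → i ≠ 6 → (e i : G → ℂ) k =
        (((![1, -1, -1, -1, 0, 0, 0, 0, 1, 0] : Fin 10 → ℤ) i : ℤ) : ℂ)) ∧
      (e 5 : G → ℂ) k + (e 6 : G → ℂ) k = -1 ∧
      (e 5 : G → ℂ) k * conj ((e 5 : G → ℂ) k) + (e 6 : G → ℂ) k * conj ((e 6 : G → ℂ) k) = 6)
    (u : G) (hu : orderOf u = 2) (a : Fin 10 → ℤ) (ha : ∀ i, (e i : G → ℂ) u = (a i : ℂ))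
    (hs10 : a 1 + a 2 + a 3 = -2) (hq10 : a 1 ^ 2 + a 2 ^ 2 + a 3 ^ 2 = 12)
    (h16a : a 5 = 0) (h16b : a 6 = 0) (h45 : a 8 = -3)
    (hC48 : Nat.card (Subgroup.centralizer ({u} : Set G)) = 48) (P : Sylow 3 G) :
    Nat.card (Subgroup.normalizer ((P : Subgroup G) : Set G)) = 144 := by
  obtain ⟨e', H⟩ := hyp_of_table hcard e hdeg he0 q hq hq2 hCq vq K hK hCs vs u hu a ha hs10 hq10
    h16a h16b h45 hC48
  exact card_normalizer_sylow3 H P

end Cfsg.Agent.Helper5.M11c
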