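import Cfsg.Agent.Helper5.M11_S0434d
import Cfsg.Agent.Helper5.M11_S0434cm
import Cfsg.Agent.Helper2.M11_Setup
import Cfsg.Agent.Helper7.M11_Table
import Cfsg.Agent.Helper8.M11_Asm

/-!
# Simple groups of order 7920: S0434 from `C(Q₅) = Q₅` (towards S0434), part F

Assembly: `exists_case` (helper2) + `caseB_false` (helper8) + `caseA_table` (helper7) + the core.
-/

set_option autoImplicit false
set_option linter.unusedVariables false
set_option linter.unusedSectionVars false
set_option linter.style.haveILetI false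

namespace Cfsg.Agent.Helper5.M11c

open scoped ComplexConjugate
open Cfsg.Agent.Helper2.M11

universe u

variable {G : Type u} [Group G] [Finite G]

/-- Case A holds (Case B is impossible). -/
theorem exists_caseA (hG : Cfsg.IsM11 G)
    (hC5 : ∀ Q : Sylow 5 G, Subgroup.centralizer ((Q : Subgroup G) : Set G) = (Q : Subgroup G))
    (P : Sylow 11 G) : Nonempty (CaseA (P : Subgroup G)) := by
  classical
  haveI := Fintype.ofFinite G
  haveI : Finite (Cfsg.IrrCharacter G) := Cfsg.Agent.Helper6.irr_finite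
  haveI := Fintype.ofFinite (Cfsg.IrrCharacter G)
  haveI : Fact (Nat.Prime 5) := ⟨by norm_num⟩
  rcases exists_case hG P with hA | ⟨⟨B⟩⟩
  · exact hA
  · exfalso
    obtain ⟨q, hq⟩ := exists_prime_orderOf_dvd_card' (G := G) 5 (by rw [hG.2]; norm_num)
    obtain ⟨hCq, hconj⟩ := order5_facts hG hC5 q hq
    obtain ⟨v, -, hv01, -, hvdvd, -⟩ := col5 q hq hCq hconj
    exact caseB_false B v hv01 hvdvd

/-- The table hypotheses hold for every involution. -/
theorem exists_hyp (hG : Cfsg.IsM11 G)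
    (hC5 : ∀ Q : Sylow 5 G, Subgroup.centralizer ((Q : Subgroup G) : Set G) = (Q : Subgroup G))
    (u : G) (hu : orderOf u = 2) : ∃ e : Fin 10 ≃ Cfsg.IrrCharacter G, Hyp e u := by
  classical
  haveI := Fintype.ofFinite G
  haveI : Finite (Cfsg.IrrCharacter G) := Cfsg.Agent.Helper6.irr_finite
  haveI := Fintype.ofFinite (Cfsg.IrrCharacter G)
  haveI : Fact (Nat.Prime 11) := ⟨by norm_num⟩
  obtain ⟨P⟩ : Nonempty (Sylow 11 G) := inferInstance
  obtain ⟨A⟩ := exists_caseA hG hC5 P
  obtain ⟨e, h1, h2, h3, h4, h5, h6, _⟩ := caseA_table hG P A hC5 u hu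
  exact ⟨e, ⟨hG.2, h1, hu, h2, h3, h4, h5, h6, cm_provider e⟩⟩

/-- an involution exists -/
theorem exists_involution (hG : Cfsg.IsM11 G) : ∃ u : G, orderOf u = 2 := by
  haveI : Fact (Nat.Prime 2) := ⟨by norm_num⟩
  exact exists_prime_orderOf_dvd_card' (G := G) 2 (by rw [hG.2]; norm_num)

/-- S0434 from `C(Q₅) = Q₅`. -/
theorem card_normalizer_sylow3_of_c5 (hG : Cfsg.IsM11 G)
    (hC5 : ∀ Q : Sylow 5 G, Subgroup.centralizer ((Q : Subgroup G) : Set G) = (Q : Subgroup G))
    (P : Sylow 3 G) : Nat.card (Subgroup.normalizer ((P : Subgroup G) : Set G)) = 144 := by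
  obtain ⟨u, hu⟩ := exists_involution hG
  obtain ⟨e, H⟩ := exists_hyp hG hC5 u hu
  exact card_normalizer_sylow3 H P

end Cfsg.Agent.Helper5.M11c
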