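import Cfsg.Agent.Helper5.M12DTCDatD
import Cfsg.Agent.Helper5.M12DTCDatT
import Cfsg.Agent.Helper5.TCIB

/-! kernel checks of words: M12DTC -/

set_option autoImplicit false
set_option Elab.async false

namespace Cfsg.Agent.Helper5.M12DTC
open Cfsg.Agent.Helper5.TC Cfsg.Agent.Helper5.TCI

set_option maxRecDepth 1000000 in
theorem set_zero : tb RS 0 = true := by decide +kernel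

set_option maxRecDepth 1000000 in
theorem set_lt : Nat.blt RS (Nat.pow 2 205580) = true := by decide +kernel

set_option maxRecDepth 1000000 in
theorem rev_ok : revOKI iota D D.nw = true := by decide +kernel

set_option maxRecDepth 1000000 in
theorem words_ok : wordsOK D D.nw = true := by decide +kernel

set_option maxRecDepth 1000000 in
theorem sub_ok : subAll ctF D D.nw = true := by decide +kernel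

theorem word_0 : unpack (D.wlen 0) (D.wordP 0) = [1, 0] := by decide +kernel

theorem word_1 : unpack (D.wlen 1) (D.wordP 1) = [0, 1] := by decide +kernel

theorem word_2 : unpack (D.wlen 2) (D.wordP 2) = [0, 0, 0, 0, 0, 0, 0, 0, 0, 0, 0] := by decide +kernel

theorem word_3 : unpack (D.wlen 3) (D.wordP 3) = [3, 2] := by decide +kernel

theorem word_4 : unpack (D.wlen 4) (D.wordP 4) = [2, 3] := by decide +kernel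

theorem word_5 : unpack (D.wlen 5) (D.wordP 5) = [2, 2, 2, 2, 2] := by decide +kernel

theorem word_6 : unpack (D.wlen 6) (D.wordP 6) = [1, 1, 2, 1, 2, 0, 0, 3, 3, 0, 0, 2, 0, 3, 1, 1, 2, 2, 1, 1, 3, 0, 3, 0] := by decide +kernel

theorem word_7 : unpack (D.wlen 7) (D.wordP 7) = [3, 1, 2, 1, 2, 0, 0, 3, 3, 0, 0, 2, 2, 3, 1, 1, 2, 2, 1, 1, 3, 0, 3, 0] := by decide +kernel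

theorem word_8 : unpack (D.wlen 8) (D.wordP 8) = [1, 1, 1, 3, 0, 3, 0, 3, 1, 1, 2, 2, 0, 3, 3, 0, 0, 2, 1, 2, 1, 2, 0, 0] := by decide +kernel

theorem word_9 : unpack (D.wlen 9) (D.wordP 9) = [3, 1, 1, 3, 0, 3, 0, 3, 1, 1, 2, 2, 2, 3, 3, 0, 0, 2, 1, 2, 1, 2, 0, 0] := by decide +kernel

theorem word_10 : unpack (D.wlen 10) (D.wordP 10) = [1, 1, 3, 0, 0, 0, 3, 1, 3, 0, 0, 0, 3, 0, 2, 1, 1, 1, 2, 0, 2, 1, 1, 1, 2, 0] := by decide +kernel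

theorem word_11 : unpack (D.wlen 11) (D.wordP 11) = [3, 1, 3, 0, 0, 0, 3, 1, 3, 0, 0, 0, 3, 2, 2, 1, 1, 1, 2, 0, 2, 1, 1, 1, 2, 0] := by decide +kernel

theorem word_12 : unpack (D.wlen 12) (D.wordP 12) = [1, 1, 1, 1, 2, 0, 2, 1, 1, 1, 2, 0, 2, 0, 3, 1, 3, 0, 0, 0, 3, 1, 3, 0, 0, 0] := by decide +kernel

theorem word_13 : unpack (D.wlen 13) (D.wordP 13) = [3, 1, 1, 1, 2, 0, 2, 1, 1, 1, 2, 0, 2, 2, 3, 1, 3, 0, 0, 0, 3, 1, 3, 0, 0, 0] := by decide +kernel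

theorem word_14 : unpack (D.wlen 14) (D.wordP 14) = [1, 0, 0, 0, 3, 0, 3, 0, 3, 0, 0, 0, 3, 3, 0, 2, 2, 1, 1, 1, 2, 1, 2, 1, 2, 1, 1, 1] := by decide +kernel

theorem word_15 : unpack (D.wlen 15) (D.wordP 15) = [3, 0, 0, 0, 3, 0, 3, 0, 3, 0, 0, 0, 3, 3, 2, 2, 2, 1, 1, 1, 2, 1, 2, 1, 2, 1, 1, 1] := by decide +kernel

theorem word_16 : unpack (D.wlen 16) (D.wordP 16) = [1, 1, 2, 1, 2, 1, 1, 1, 2, 2, 1, 1, 1, 2, 0, 3, 0, 0, 0, 3, 3, 0, 0, 0, 3, 0, 3, 0] := by decide +kernel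

theorem word_17 : unpack (D.wlen 17) (D.wordP 17) = [3, 1, 2, 1, 2, 1, 1, 1, 2, 2, 1, 1, 1, 2, 2, 3, 0, 0, 0, 3, 3, 0, 0, 0, 3, 0, 3, 0] := by decide +kernel

theorem word_18 : unpack (D.wlen 18) (D.wordP 18) = [1, 0, 0, 0, 0, 0, 3, 3, 0, 0, 0, 0, 0, 3, 3, 0, 2, 2, 1, 1, 1, 1, 1, 2, 2, 1, 1, 1, 1, 1] := by decide +kernel

theorem word_19 : unpack (D.wlen 19) (D.wordP 19) = [3, 0, 0, 0, 0, 0, 3, 3, 0, 0, 0, 0, 0, 3, 3, 2, 2, 2, 1, 1, 1, 1, 1, 2, 2, 1, 1, 1, 1, 1] := by decide +kernel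

theorem word_20 : unpack (D.wlen 20) (D.wordP 20) = [1, 1, 1, 1, 1, 1, 2, 2, 1, 1, 1, 1, 1, 2, 2, 0, 3, 3, 0, 0, 0, 0, 0, 3, 3, 0, 0, 0, 0, 0] := by decide +kernel

theorem word_21 : unpack (D.wlen 21) (D.wordP 21) = [3, 1, 1, 1, 1, 1, 2, 2, 1, 1, 1, 1, 1, 2, 2, 2, 3, 3, 0, 0, 0, 0, 0, 3, 3, 0, 0, 0, 0, 0] := by decide +kernel

theorem word_22 : unpack (D.wlen 22) (D.wordP 22) = [1, 1, 1, 3, 3, 0, 3, 3, 1, 1, 3, 3, 0, 3, 3, 0, 2, 2, 1, 2, 2, 0, 0, 2, 2, 1, 2, 2, 0, 0] := by decide +kernel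

theorem word_23 : unpack (D.wlen 23) (D.wordP 23) = [3, 1, 1, 3, 3, 0, 3, 3, 1, 1, 3, 3, 0, 3, 3, 2, 2, 2, 1, 2, 2, 0, 0, 2, 2, 1, 2, 2, 0, 0] := by decide +kernel

theorem word_24 : unpack (D.wlen 24) (D.wordP 24) = [1, 1, 2, 2, 0, 0, 2, 2, 1, 2, 2, 0, 0, 2, 2, 0, 3, 3, 1, 1, 3, 3, 0, 3, 3, 1, 1, 3, 3, 0] := by decide +kernel

theorem word_25 : unpack (D.wlen 25) (D.wordP 25) = [3, 1, 2, 2, 0, 0, 2, 2, 1, 2, 2, 0, 0, 2, 2, 2, 3, 3, 1, 1, 3, 3, 0, 3, 3, 1, 1, 3, 3, 0] := by decide +kernel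

theorem word_26 : unpack (D.wlen 26) (D.wordP 26) = [1, 1, 1, 1, 2, 0, 0, 3, 0, 3, 0, 0, 0, 3, 0, 2, 0, 3, 1, 2, 1, 1, 1, 2, 1, 2, 1, 1, 3, 0, 0, 0] := by decide +kernel

theorem word_27 : unpack (D.wlen 27) (D.wordP 27) = [3, 1, 1, 1, 2, 0, 0, 3, 0, 3, 0, 0, 0, 3, 0, 2, 2, 3, 1, 2, 1, 1, 1, 2, 1, 2, 1, 1, 3, 0, 0, 0] := by decide +kernel

theorem word_28 : unpack (D.wlen 28) (D.wordP 28) = [1, 1, 2, 1, 1, 3, 0, 0, 0, 3, 1, 2, 1, 1, 1, 2, 0, 3, 0, 0, 0, 3, 0, 2, 1, 1, 1, 2, 0, 0, 3, 0] := by decide +kernel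

theorem word_29 : unpack (D.wlen 29) (D.wordP 29) = [3, 1, 2, 1, 1, 3, 0, 0, 0, 3, 1, 2, 1, 1, 1, 2, 2, 3, 0, 0, 0, 3, 0, 2, 1, 1, 1, 2, 0, 0, 3, 0] := by decide +kernel

theorem word_30 : unpack (D.wlen 30) (D.wordP 30) = [1, 0, 2, 2, 0, 2, 2, 0, 2, 2, 0, 2, 2, 0, 2, 2, 0, 3, 3, 1, 3, 3, 1, 3, 3, 1, 3, 3, 1, 3, 3, 1] := by decide +kernel

theorem word_31 : unpack (D.wlen 31) (D.wordP 31) = [3, 0, 2, 2, 0, 2, 2, 0, 2, 2, 0, 2, 2, 0, 2, 2, 2, 3, 3, 1, 3, 3, 1, 3, 3, 1, 3, 3, 1, 3, 3, 1] := by decide +kernel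

theorem word_32 : unpack (D.wlen 32) (D.wordP 32) = [1, 1, 3, 0, 0, 0, 3, 1, 1, 2, 1, 2, 1, 1, 1, 2, 0, 3, 0, 0, 0, 3, 0, 3, 0, 0, 2, 1, 1, 1, 2, 0] := by decide +kernel

theorem word_33 : unpack (D.wlen 33) (D.wordP 33) = [3, 1, 3, 0, 0, 0, 3, 1, 1, 2, 1, 2, 1, 1, 1, 2, 2, 3, 0, 0, 0, 3, 0, 3, 0, 0, 2, 1, 1, 1, 2, 0] := by decide +kernel

theorem word_34 : unpack (D.wlen 34) (D.wordP 34) = [1, 1, 3, 3, 1, 3, 3, 1, 3, 3, 1, 3, 3, 1, 3, 3, 0, 2, 2, 0, 2, 2, 0, 2, 2, 0, 2, 2, 0, 2, 2, 0] := by decide +kernel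

theorem word_35 : unpack (D.wlen 35) (D.wordP 35) = [3, 1, 3, 3, 1, 3, 3, 1, 3, 3, 1, 3, 3, 1, 3, 3, 2, 2, 2, 0, 2, 2, 0, 2, 2, 0, 2, 2, 0, 2, 2, 0] := by decide +kernel

theorem word_36 : unpack (D.wlen 36) (D.wordP 36) = [1, 1, 1, 1, 2, 0, 3, 0, 0, 0, 3, 0, 3, 0, 0, 2, 0, 3, 1, 1, 2, 1, 2, 1, 1, 1, 2, 1, 3, 0, 0, 0] := by decide +kernel

theorem word_37 : unpack (D.wlen 37) (D.wordP 37) = [3, 1, 1, 1, 2, 0, 3, 0, 0, 0, 3, 0, 3, 0, 0, 2, 2, 3, 1, 1, 2, 1, 2, 1, 1, 1, 2, 1, 3, 0, 0, 0] := by decide +kernel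

theorem word_38 : unpack (D.wlen 38) (D.wordP 38) = [1, 1, 1, 1, 1, 1, 3, 1, 1, 1, 1, 1, 2, 2, 0, 2, 2, 0, 3, 3, 1, 3, 3, 0, 0, 0, 0, 0, 2, 0, 0, 0, 0, 0] := by decide +kernel

theorem word_39 : unpack (D.wlen 39) (D.wordP 39) = [3, 1, 1, 1, 1, 1, 3, 1, 1, 1, 1, 1, 2, 2, 0, 2, 2, 2, 3, 3, 1, 3, 3, 0, 0, 0, 0, 0, 2, 0, 0, 0, 0, 0] := by decide +kernel

theorem word_40 : unpack (D.wlen 40) (D.wordP 40) = [1, 1, 3, 3, 0, 0, 0, 0, 0, 2, 0, 0, 0, 0, 0, 3, 3, 0, 2, 2, 1, 1, 1, 1, 1, 3, 1, 1, 1, 1, 1, 2, 2, 0] := by decide +kernel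

theorem word_41 : unpack (D.wlen 41) (D.wordP 41) = [3, 1, 3, 3, 0, 0, 0, 0, 0, 2, 0, 0, 0, 0, 0, 3, 3, 2, 2, 2, 1, 1, 1, 1, 1, 3, 1, 1, 1, 1, 1, 2, 2, 0] := by decide +kernel

theorem word_42 : unpack (D.wlen 42) (D.wordP 42) = [1, 1, 1, 3, 0, 0, 0, 3, 3, 0, 0, 2, 1, 1, 1, 2, 2, 0, 3, 3, 0, 0, 0, 3, 1, 1, 2, 2, 1, 1, 1, 2, 0, 0] := by decide +kernel

theorem word_43 : unpack (D.wlen 43) (D.wordP 43) = [3, 1, 1, 3, 0, 0, 0, 3, 3, 0, 0, 2, 1, 1, 1, 2, 2, 2, 3, 3, 0, 0, 0, 3, 1, 1, 2, 2, 1, 1, 1, 2, 0, 0] := by decide +kernel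

theorem word_44 : unpack (D.wlen 44) (D.wordP 44) = [1, 1, 1, 2, 2, 1, 1, 1, 2, 0, 0, 3, 3, 0, 0, 0, 3, 0, 2, 1, 1, 1, 2, 2, 1, 1, 3, 0, 0, 0, 3, 3, 0, 0] := by decide +kernel

theorem word_45 : unpack (D.wlen 45) (D.wordP 45) = [3, 1, 1, 2, 2, 1, 1, 1, 2, 0, 0, 3, 3, 0, 0, 0, 3, 2, 2, 1, 1, 1, 2, 2, 1, 1, 3, 0, 0, 0, 3, 3, 0, 0] := by decide +kernel

theorem word_46 : unpack (D.wlen 46) (D.wordP 46) = [1, 1, 1, 3, 1, 1, 2, 2, 1, 1, 1, 2, 1, 1, 1, 2, 2, 0, 3, 3, 0, 0, 0, 3, 0, 0, 0, 3, 3, 0, 0, 2, 0, 0] := by decide +kernel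

theorem word_47 : unpack (D.wlen 47) (D.wordP 47) = [3, 1, 1, 3, 1, 1, 2, 2, 1, 1, 1, 2, 1, 1, 1, 2, 2, 2, 3, 3, 0, 0, 0, 3, 0, 0, 0, 3, 3, 0, 0, 2, 0, 0] := by decide +kernel

theorem word_48 : unpack (D.wlen 48) (D.wordP 48) = [1, 0, 0, 0, 3, 0, 0, 0, 3, 3, 0, 0, 2, 0, 0, 3, 3, 0, 2, 2, 1, 1, 3, 1, 1, 2, 2, 1, 1, 1, 2, 1, 1, 1] := by decide +kernel

theorem word_49 : unpack (D.wlen 49) (D.wordP 49) = [3, 0, 0, 0, 3, 0, 0, 0, 3, 3, 0, 0, 2, 0, 0, 3, 3, 2, 2, 2, 1, 1, 3, 1, 1, 2, 2, 1, 1, 1, 2, 1, 1, 1] := by decide +kernel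

theorem word_50 : unpack (D.wlen 50) (D.wordP 50) = [1, 1, 2, 1, 1, 1, 2, 0, 3, 0, 0, 2, 1, 1, 1, 2, 2, 0, 3, 3, 0, 0, 0, 3, 1, 1, 2, 1, 3, 0, 0, 0, 3, 0] := by decide +kernel

theorem word_51 : unpack (D.wlen 51) (D.wordP 51) = [3, 1, 2, 1, 1, 1, 2, 0, 3, 0, 0, 2, 1, 1, 1, 2, 2, 2, 3, 3, 0, 0, 0, 3, 1, 1, 2, 1, 3, 0, 0, 0, 3, 0] := by decide +kernel

theorem word_52 : unpack (D.wlen 52) (D.wordP 52) = [1, 1, 3, 0, 0, 0, 3, 0, 3, 3, 0, 0, 0, 3, 1, 1, 2, 0, 3, 0, 0, 2, 1, 1, 1, 2, 2, 1, 2, 1, 1, 1, 2, 0] := by decide +kernel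

theorem word_53 : unpack (D.wlen 53) (D.wordP 53) = [3, 1, 3, 0, 0, 0, 3, 0, 3, 3, 0, 0, 0, 3, 1, 1, 2, 2, 3, 0, 0, 2, 1, 1, 1, 2, 2, 1, 2, 1, 1, 1, 2, 0] := by decide +kernel

theorem word_54 : unpack (D.wlen 54) (D.wordP 54) = [1, 1, 2, 1, 1, 3, 0, 0, 0, 3, 3, 0, 3, 0, 0, 0, 3, 0, 2, 1, 1, 1, 2, 1, 2, 2, 1, 1, 1, 2, 0, 0, 3, 0] := by decide +kernel

theorem word_55 : unpack (D.wlen 55) (D.wordP 55) = [3, 1, 2, 1, 1, 3, 0, 0, 0, 3, 3, 0, 3, 0, 0, 0, 3, 2, 2, 1, 1, 1, 2, 1, 2, 2, 1, 1, 1, 2, 0, 0, 3, 0] := by decide +kernel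

theorem word_56 : unpack (D.wlen 56) (D.wordP 56) = [1, 1, 2, 2, 1, 1, 1, 2, 0, 0, 3, 0, 2, 1, 1, 1, 2, 0, 3, 0, 0, 0, 3, 1, 2, 1, 1, 3, 0, 0, 0, 3, 3, 0] := by decide +kernel

theorem word_57 : unpack (D.wlen 57) (D.wordP 57) = [3, 1, 2, 2, 1, 1, 1, 2, 0, 0, 3, 0, 2, 1, 1, 1, 2, 2, 3, 0, 0, 0, 3, 1, 2, 1, 1, 3, 0, 0, 0, 3, 3, 0] := by decide +kernel

theorem word_58 : unpack (D.wlen 58) (D.wordP 58) = [1, 0, 0, 0, 2, 2, 0, 0, 0, 2, 2, 0, 3, 0, 3, 0, 2, 2, 0, 3, 3, 1, 2, 1, 2, 1, 3, 3, 1, 1, 1, 3, 3, 1, 1, 1] := by decide +kernel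

theorem word_59 : unpack (D.wlen 59) (D.wordP 59) = [3, 0, 0, 0, 2, 2, 0, 0, 0, 2, 2, 0, 3, 0, 3, 0, 2, 2, 2, 3, 3, 1, 2, 1, 2, 1, 3, 3, 1, 1, 1, 3, 3, 1, 1, 1] := by decide +kernel

theorem word_60 : unpack (D.wlen 60) (D.wordP 60) = [1, 1, 1, 1, 3, 3, 1, 1, 1, 2, 2, 0, 3, 0, 3, 0, 2, 2, 0, 3, 3, 1, 2, 1, 2, 1, 3, 3, 0, 0, 0, 2, 2, 0, 0, 0] := by decide +kernel

theorem word_61 : unpack (D.wlen 61) (D.wordP 61) = [3, 1, 1, 1, 3, 3, 1, 1, 1, 2, 2, 0, 3, 0, 3, 0, 2, 2, 2, 3, 3, 1, 2, 1, 2, 1, 3, 3, 0, 0, 0, 2, 2, 0, 0, 0] := by decide +kernel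

theorem word_62 : unpack (D.wlen 62) (D.wordP 62) = [1, 1, 1, 1, 2, 0, 0, 3, 0, 0, 2, 1, 1, 1, 2, 0, 0, 2, 0, 3, 1, 1, 3, 0, 0, 0, 3, 1, 1, 2, 1, 1, 3, 0, 0, 0] := by decide +kernel

theorem word_63 : unpack (D.wlen 63) (D.wordP 63) = [3, 1, 1, 1, 2, 0, 0, 3, 0, 0, 2, 1, 1, 1, 2, 0, 0, 2, 2, 3, 1, 1, 3, 0, 0, 0, 3, 1, 1, 2, 1, 1, 3, 0, 0, 0] := by decide +kernel

theorem word_64 : unpack (D.wlen 64) (D.wordP 64) = [1, 1, 1, 3, 0, 0, 0, 3, 1, 1, 3, 0, 0, 0, 3, 1, 1, 2, 0, 3, 0, 0, 2, 1, 1, 1, 2, 0, 0, 2, 1, 1, 1, 2, 0, 0] := by decide +kernel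

theorem word_65 : unpack (D.wlen 65) (D.wordP 65) = [3, 1, 1, 3, 0, 0, 0, 3, 1, 1, 3, 0, 0, 0, 3, 1, 1, 2, 2, 3, 0, 0, 2, 1, 1, 1, 2, 0, 0, 2, 1, 1, 1, 2, 0, 0] := by decide +kernel

theorem word_66 : unpack (D.wlen 66) (D.wordP 66) = [1, 1, 3, 3, 1, 1, 1, 3, 3, 1, 1, 1, 3, 3, 1, 2, 1, 2, 0, 3, 0, 3, 0, 2, 2, 0, 0, 0, 2, 2, 0, 0, 0, 2, 2, 0] := by decide +kernel

theorem word_67 : unpack (D.wlen 67) (D.wordP 67) = [3, 1, 3, 3, 1, 1, 1, 3, 3, 1, 1, 1, 3, 3, 1, 2, 1, 2, 2, 3, 0, 3, 0, 2, 2, 0, 0, 0, 2, 2, 0, 0, 0, 2, 2, 0] := by decide +kernel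

theorem word_68 : unpack (D.wlen 68) (D.wordP 68) = [1, 1, 3, 3, 0, 0, 0, 2, 2, 0, 0, 0, 3, 3, 1, 2, 1, 2, 0, 3, 0, 3, 0, 2, 2, 1, 1, 1, 3, 3, 1, 1, 1, 2, 2, 0] := by decide +kernel

theorem word_69 : unpack (D.wlen 69) (D.wordP 69) = [3, 1, 3, 3, 0, 0, 0, 2, 2, 0, 0, 0, 3, 3, 1, 2, 1, 2, 2, 3, 0, 3, 0, 2, 2, 1, 1, 1, 3, 3, 1, 1, 1, 2, 2, 0] := by decide +kernel

theorem word_70 : unpack (D.wlen 70) (D.wordP 70) = [1, 1, 2, 0, 0, 0, 0, 0, 3, 3, 1, 2, 0, 0, 0, 0, 0, 3, 3, 0, 2, 2, 1, 1, 1, 1, 1, 3, 0, 2, 2, 1, 1, 1, 1, 1, 3, 0] := by decide +kernel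

theorem word_71 : unpack (D.wlen 71) (D.wordP 71) = [3, 1, 2, 0, 0, 0, 0, 0, 3, 3, 1, 2, 0, 0, 0, 0, 0, 3, 3, 2, 2, 2, 1, 1, 1, 1, 1, 3, 0, 2, 2, 1, 1, 1, 1, 1, 3, 0] := by decide +kernel

theorem word_72 : unpack (D.wlen 72) (D.wordP 72) = [1, 1, 1, 1, 1, 1, 3, 0, 2, 2, 1, 1, 1, 1, 1, 3, 0, 2, 2, 0, 3, 3, 1, 2, 0, 0, 0, 0, 0, 3, 3, 1, 2, 0, 0, 0, 0, 0] := by decide +kernel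

theorem word_73 : unpack (D.wlen 73) (D.wordP 73) = [3, 1, 1, 1, 1, 1, 3, 0, 2, 2, 1, 1, 1, 1, 1, 3, 0, 2, 2, 2, 3, 3, 1, 2, 0, 0, 0, 0, 0, 3, 3, 1, 2, 0, 0, 0, 0, 0] := by decide +kernel

theorem word_74 : unpack (D.wlen 74) (D.wordP 74) = [1, 1, 1, 1, 3, 3, 0, 0, 3, 3, 1, 1, 1, 3, 3, 0, 0, 3, 3, 0, 2, 2, 1, 1, 2, 2, 0, 0, 0, 2, 2, 1, 1, 2, 2, 0, 0, 0] := by decide +kernel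

theorem word_75 : unpack (D.wlen 75) (D.wordP 75) = [3, 1, 1, 1, 3, 3, 0, 0, 3, 3, 1, 1, 1, 3, 3, 0, 0, 3, 3, 2, 2, 2, 1, 1, 2, 2, 0, 0, 0, 2, 2, 1, 1, 2, 2, 0, 0, 0] := by decide +kernel

theorem word_76 : unpack (D.wlen 76) (D.wordP 76) = [1, 1, 3, 3, 0, 0, 0, 0, 0, 2, 1, 3, 3, 0, 0, 0, 0, 0, 2, 0, 3, 1, 1, 1, 1, 1, 2, 2, 0, 3, 1, 1, 1, 1, 1, 2, 2, 0] := by decide +kernel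

theorem word_77 : unpack (D.wlen 77) (D.wordP 77) = [3, 1, 3, 3, 0, 0, 0, 0, 0, 2, 1, 3, 3, 0, 0, 0, 0, 0, 2, 2, 3, 1, 1, 1, 1, 1, 2, 2, 0, 3, 1, 1, 1, 1, 1, 2, 2, 0] := by decide +kernel

theorem word_78 : unpack (D.wlen 78) (D.wordP 78) = [1, 1, 1, 1, 1, 1, 2, 2, 0, 3, 1, 1, 1, 1, 1, 2, 2, 0, 3, 0, 2, 1, 3, 3, 0, 0, 0, 0, 0, 2, 1, 3, 3, 0, 0, 0, 0, 0] := by decide +kernel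

theorem word_79 : unpack (D.wlen 79) (D.wordP 79) = [3, 1, 1, 1, 1, 1, 2, 2, 0, 3, 1, 1, 1, 1, 1, 2, 2, 0, 3, 2, 2, 1, 3, 3, 0, 0, 0, 0, 0, 2, 1, 3, 3, 0, 0, 0, 0, 0] := by decide +kernel

theorem word_80 : unpack (D.wlen 80) (D.wordP 80) = [1, 1, 1, 2, 2, 0, 0, 0, 2, 2, 1, 1, 2, 2, 0, 0, 0, 2, 2, 0, 3, 3, 1, 1, 1, 3, 3, 0, 0, 3, 3, 1, 1, 1, 3, 3, 0, 0] := by decide +kernel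

theorem word_81 : unpack (D.wlen 81) (D.wordP 81) = [3, 1, 1, 2, 2, 0, 0, 0, 2, 2, 1, 1, 2, 2, 0, 0, 0, 2, 2, 2, 3, 3, 1, 1, 1, 3, 3, 0, 0, 3, 3, 1, 1, 1, 3, 3, 0, 0] := by decide +kernel

theorem word_82 : unpack (D.wlen 82) (D.wordP 82) = [1, 1, 1, 1, 2, 0, 3, 0, 0, 2, 0, 0, 3, 3, 0, 0, 0, 0, 2, 0, 3, 1, 1, 1, 1, 2, 2, 1, 1, 3, 1, 1, 2, 1, 3, 0, 0, 0] := by decide +kernel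

theorem word_83 : unpack (D.wlen 83) (D.wordP 83) = [3, 1, 1, 1, 2, 0, 3, 0, 0, 2, 0, 0, 3, 3, 0, 0, 0, 0, 2, 2, 3, 1, 1, 1, 1, 2, 2, 1, 1, 3, 1, 1, 2, 1, 3, 0, 0, 0] := by decide +kernel

theorem word_84 : unpack (D.wlen 84) (D.wordP 84) = [1, 1, 1, 2, 1, 1, 2, 1, 1, 2, 0, 0, 0, 3, 3, 0, 0, 2, 2, 0, 3, 3, 1, 1, 2, 2, 1, 1, 1, 3, 0, 0, 3, 0, 0, 3, 0, 0] := by decide +kernel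

theorem word_85 : unpack (D.wlen 85) (D.wordP 85) = [3, 1, 1, 2, 1, 1, 2, 1, 1, 2, 0, 0, 0, 3, 3, 0, 0, 2, 2, 2, 3, 3, 1, 1, 2, 2, 1, 1, 1, 3, 0, 0, 3, 0, 0, 3, 0, 0] := by decide +kernel

theorem word_86 : unpack (D.wlen 86) (D.wordP 86) = [3, 1, 1, 2, 2, 1, 1, 3, 0, 3, 0, 3, 1, 1, 2, 2, 1, 1, 3, 0, 3, 0, 3, 1, 1, 2, 2, 1, 1, 3, 0, 3, 0, 3, 1, 1, 2, 2, 1, 1, 3, 0, 3, 0] := by decide +kernel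

theorem word_87 : unpack (D.wlen 87) (D.wordP 87) = [3, 3, 0, 0, 2, 1, 2, 1, 2, 0, 0, 3, 3, 0, 0, 2, 1, 2, 1, 2, 0, 0, 3, 3, 0, 0, 2, 1, 2, 1, 2, 0, 0, 3, 3, 0, 0, 2, 1, 2, 1, 2, 0, 0] := by decide +kernel

theorem word_88 : unpack (D.wlen 88) (D.wordP 88) = [2, 1, 1, 1, 2, 0, 2, 1, 1, 1, 2, 0, 2, 1, 1, 1, 2, 0, 2, 1, 1, 1, 2, 0, 2, 1, 1, 1, 2, 0, 2, 1, 1, 1, 2, 0, 2, 1, 1, 1, 2, 0, 2, 1, 1, 1, 2, 0] := by decide +kernel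

theorem word_89 : unpack (D.wlen 89) (D.wordP 89) = [3, 1, 3, 0, 0, 0, 3, 1, 3, 0, 0, 0, 3, 1, 3, 0, 0, 0, 3, 1, 3, 0, 0, 0, 3, 1, 3, 0, 0, 0, 3, 1, 3, 0, 0, 0, 3, 1, 3, 0, 0, 0, 3, 1, 3, 0, 0, 0] := by decide +kernel

theorem word_90 : unpack (D.wlen 90) (D.wordP 90) = [2, 2, 1, 1, 1, 2, 1, 2, 1, 2, 1, 1, 1, 2, 2, 1, 1, 1, 2, 1, 2, 1, 2, 1, 1, 1, 2, 2, 1, 1, 1, 2, 1, 2, 1, 2, 1, 1, 1, 2, 2, 1, 1, 1, 2, 1, 2, 1, 2, 1, 1, 1] := by decide +kernel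

theorem word_91 : unpack (D.wlen 91) (D.wordP 91) = [3, 0, 0, 0, 3, 3, 0, 0, 0, 3, 0, 3, 0, 3, 0, 0, 0, 3, 3, 0, 0, 0, 3, 0, 3, 0, 3, 0, 0, 0, 3, 3, 0, 0, 0, 3, 0, 3, 0, 3, 0, 0, 0, 3, 3, 0, 0, 0, 3, 0, 3, 0] := by decide +kernel

theorem word_92 : unpack (D.wlen 92) (D.wordP 92) = [2, 2, 1, 1, 1, 1, 1, 2, 2, 1, 1, 1, 1, 1, 2, 2, 1, 1, 1, 1, 1, 2, 2, 1, 1, 1, 1, 1, 2, 2, 1, 1, 1, 1, 1, 2, 2, 1, 1, 1, 1, 1, 2, 2, 1, 1, 1, 1, 1, 2, 2, 1, 1, 1, 1, 1] := by decide +kernel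

theorem word_93 : unpack (D.wlen 93) (D.wordP 93) = [3, 3, 0, 0, 0, 0, 0, 3, 3, 0, 0, 0, 0, 0, 3, 3, 0, 0, 0, 0, 0, 3, 3, 0, 0, 0, 0, 0, 3, 3, 0, 0, 0, 0, 0, 3, 3, 0, 0, 0, 0, 0, 3, 3, 0, 0, 0, 0, 0, 3, 3, 0, 0, 0, 0, 0] := by decide +kernel

theorem word_94 : unpack (D.wlen 94) (D.wordP 94) = [2, 2, 1, 2, 2, 0, 0, 2, 2, 1, 2, 2, 0, 0, 2, 2, 1, 2, 2, 0, 0, 2, 2, 1, 2, 2, 0, 0, 2, 2, 1, 2, 2, 0, 0, 2, 2, 1, 2, 2, 0, 0, 2, 2, 1, 2, 2, 0, 0, 2, 2, 1, 2, 2, 0, 0] := by decide +kernel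

theorem word_95 : unpack (D.wlen 95) (D.wordP 95) = [3, 3, 1, 1, 3, 3, 0, 3, 3, 1, 1, 3, 3, 0, 3, 3, 1, 1, 3, 3, 0, 3, 3, 1, 1, 3, 3, 0, 3, 3, 1, 1, 3, 3, 0, 3, 3, 1, 1, 3, 3, 0, 3, 3, 1, 1, 3, 3, 0, 3, 3, 1, 1, 3, 3, 0] := by decide +kernel

theorem word_96 : unpack (D.wlen 96) (D.wordP 96) = [3, 1, 2, 1, 1, 1, 2, 1, 2, 1, 1, 3, 0, 0, 0, 3, 1, 2, 1, 1, 1, 2, 1, 2, 1, 1, 3, 0, 0, 0, 3, 1, 2, 1, 1, 1, 2, 1, 2, 1, 1, 3, 0, 0, 0, 3, 1, 2, 1, 1, 1, 2, 1, 2, 1, 1, 3, 0, 0, 0] := by decide +kernel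

theorem word_97 : unpack (D.wlen 97) (D.wordP 97) = [3, 0, 0, 0, 3, 0, 2, 1, 1, 1, 2, 0, 0, 3, 0, 3, 0, 0, 0, 3, 0, 2, 1, 1, 1, 2, 0, 0, 3, 0, 3, 0, 0, 0, 3, 0, 2, 1, 1, 1, 2, 0, 0, 3, 0, 3, 0, 0, 0, 3, 0, 2, 1, 1, 1, 2, 0, 0, 3, 0] := by decide +kernel

theorem word_98 : unpack (D.wlen 98) (D.wordP 98) = [3, 3, 1, 3, 3, 1, 3, 3, 1, 3, 3, 1, 3, 3, 1, 3, 3, 1, 3, 3, 1, 3, 3, 1, 3, 3, 1, 3, 3, 1, 3, 3, 1, 3, 3, 1, 3, 3, 1, 3, 3, 1, 3, 3, 1, 3, 3, 1, 3, 3, 1, 3, 3, 1, 3, 3, 1, 3, 3, 1] := by decide +kernel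

theorem word_99 : unpack (D.wlen 99) (D.wordP 99) = [3, 0, 0, 0, 3, 0, 3, 0, 0, 2, 1, 1, 1, 2, 0, 3, 0, 0, 0, 3, 0, 3, 0, 0, 2, 1, 1, 1, 2, 0, 3, 0, 0, 0, 3, 0, 3, 0, 0, 2, 1, 1, 1, 2, 0, 3, 0, 0, 0, 3, 0, 3, 0, 0, 2, 1, 1, 1, 2, 0] := by decide +kernel

theorem word_100 : unpack (D.wlen 100) (D.wordP 100) = [2, 2, 0, 2, 2, 0, 2, 2, 0, 2, 2, 0, 2, 2, 0, 2, 2, 0, 2, 2, 0, 2, 2, 0, 2, 2, 0, 2, 2, 0, 2, 2, 0, 2, 2, 0, 2, 2, 0, 2, 2, 0, 2, 2, 0, 2, 2, 0, 2, 2, 0, 2, 2, 0, 2, 2, 0, 2, 2, 0] := by decide +kernel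

theorem word_101 : unpack (D.wlen 101) (D.wordP 101) = [3, 1, 1, 2, 1, 2, 1, 1, 1, 2, 1, 3, 0, 0, 0, 3, 1, 1, 2, 1, 2, 1, 1, 1, 2, 1, 3, 0, 0, 0, 3, 1, 1, 2, 1, 2, 1, 1, 1, 2, 1, 3, 0, 0, 0, 3, 1, 1, 2, 1, 2, 1, 1, 1, 2, 1, 3, 0, 0, 0] := by decide +kernel

theorem word_102 : unpack (D.wlen 102) (D.wordP 102) = [3, 3, 1, 3, 3, 0, 0, 0, 0, 0, 2, 0, 0, 0, 0, 0, 3, 3, 1, 3, 3, 0, 0, 0, 0, 0, 2, 0, 0, 0, 0, 0, 3, 3, 1, 3, 3, 0, 0, 0, 0, 0, 2, 0, 0, 0, 0, 0, 3, 3, 1, 3, 3, 0, 0, 0, 0, 0, 2, 0, 0, 0, 0, 0] := by decide +kernel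

theorem word_103 : unpack (D.wlen 103) (D.wordP 103) = [2, 2, 1, 1, 1, 1, 1, 3, 1, 1, 1, 1, 1, 2, 2, 0, 2, 2, 1, 1, 1, 1, 1, 3, 1, 1, 1, 1, 1, 2, 2, 0, 2, 2, 1, 1, 1, 1, 1, 3, 1, 1, 1, 1, 1, 2, 2, 0, 2, 2, 1, 1, 1, 1, 1, 3, 1, 1, 1, 1, 1, 2, 2, 0] := by decide +kernel

theorem word_104 : unpack (D.wlen 104) (D.wordP 104) = [3, 3, 0, 0, 0, 3, 1, 1, 2, 2, 1, 1, 1, 2, 0, 0, 3, 3, 0, 0, 0, 3, 1, 1, 2, 2, 1, 1, 1, 2, 0, 0, 3, 3, 0, 0, 0, 3, 1, 1, 2, 2, 1, 1, 1, 2, 0, 0, 3, 3, 0, 0, 0, 3, 1, 1, 2, 2, 1, 1, 1, 2, 0, 0] := by decide +kernel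

theorem word_105 : unpack (D.wlen 105) (D.wordP 105) = [2, 1, 1, 1, 2, 2, 1, 1, 3, 0, 0, 0, 3, 3, 0, 0, 2, 1, 1, 1, 2, 2, 1, 1, 3, 0, 0, 0, 3, 3, 0, 0, 2, 1, 1, 1, 2, 2, 1, 1, 3, 0, 0, 0, 3, 3, 0, 0, 2, 1, 1, 1, 2, 2, 1, 1, 3, 0, 0, 0, 3, 3, 0, 0] := by decide +kernel

theorem word_106 : unpack (D.wlen 106) (D.wordP 106) = [3, 3, 0, 0, 0, 3, 0, 0, 0, 3, 3, 0, 0, 2, 0, 0, 3, 3, 0, 0, 0, 3, 0, 0, 0, 3, 3, 0, 0, 2, 0, 0, 3, 3, 0, 0, 0, 3, 0, 0, 0, 3, 3, 0, 0, 2, 0, 0, 3, 3, 0, 0, 0, 3, 0, 0, 0, 3, 3, 0, 0, 2, 0, 0] := by decide +kernel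

theorem word_107 : unpack (D.wlen 107) (D.wordP 107) = [2, 2, 1, 1, 3, 1, 1, 2, 2, 1, 1, 1, 2, 1, 1, 1, 2, 2, 1, 1, 3, 1, 1, 2, 2, 1, 1, 1, 2, 1, 1, 1, 2, 2, 1, 1, 3, 1, 1, 2, 2, 1, 1, 1, 2, 1, 1, 1, 2, 2, 1, 1, 3, 1, 1, 2, 2, 1, 1, 1, 2, 1, 1, 1] := by decide +kernel

theorem word_108 : unpack (D.wlen 108) (D.wordP 108) = [3, 3, 0, 0, 0, 3, 1, 1, 2, 1, 3, 0, 0, 0, 3, 0, 3, 3, 0, 0, 0, 3, 1, 1, 2, 1, 3, 0, 0, 0, 3, 0, 3, 3, 0, 0, 0, 3, 1, 1, 2, 1, 3, 0, 0, 0, 3, 0, 3, 3, 0, 0, 0, 3, 1, 1, 2, 1, 3, 0, 0, 0, 3, 0] := by decide +kernel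

theorem word_109 : unpack (D.wlen 109) (D.wordP 109) = [3, 0, 0, 2, 1, 1, 1, 2, 2, 1, 2, 1, 1, 1, 2, 0, 3, 0, 0, 2, 1, 1, 1, 2, 2, 1, 2, 1, 1, 1, 2, 0, 3, 0, 0, 2, 1, 1, 1, 2, 2, 1, 2, 1, 1, 1, 2, 0, 3, 0, 0, 2, 1, 1, 1, 2, 2, 1, 2, 1, 1, 1, 2, 0] := by decide +kernel

theorem word_110 : unpack (D.wlen 110) (D.wordP 110) = [2, 1, 1, 1, 2, 1, 2, 2, 1, 1, 1, 2, 0, 0, 3, 0, 2, 1, 1, 1, 2, 1, 2, 2, 1, 1, 1, 2, 0, 0, 3, 0, 2, 1, 1, 1, 2, 1, 2, 2, 1, 1, 1, 2, 0, 0, 3, 0, 2, 1, 1, 1, 2, 1, 2, 2, 1, 1, 1, 2, 0, 0, 3, 0] := by decide +kernel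

theorem word_111 : unpack (D.wlen 111) (D.wordP 111) = [3, 0, 0, 0, 3, 1, 2, 1, 1, 3, 0, 0, 0, 3, 3, 0, 3, 0, 0, 0, 3, 1, 2, 1, 1, 3, 0, 0, 0, 3, 3, 0, 3, 0, 0, 0, 3, 1, 2, 1, 1, 3, 0, 0, 0, 3, 3, 0, 3, 0, 0, 0, 3, 1, 2, 1, 1, 3, 0, 0, 0, 3, 3, 0] := by decide +kernel

theorem word_112 : unpack (D.wlen 112) (D.wordP 112) = [3, 3, 1, 2, 1, 2, 1, 3, 3, 1, 1, 1, 3, 3, 1, 1, 1, 3, 3, 1, 2, 1, 2, 1, 3, 3, 1, 1, 1, 3, 3, 1, 1, 1, 3, 3, 1, 2, 1, 2, 1, 3, 3, 1, 1, 1, 3, 3, 1, 1, 1, 3, 3, 1, 2, 1, 2, 1, 3, 3, 1, 1, 1, 3, 3, 1, 1, 1] := by decide +kernel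

theorem word_113 : unpack (D.wlen 113) (D.wordP 113) = [3, 3, 1, 2, 1, 2, 1, 3, 3, 0, 0, 0, 2, 2, 0, 0, 0, 3, 3, 1, 2, 1, 2, 1, 3, 3, 0, 0, 0, 2, 2, 0, 0, 0, 3, 3, 1, 2, 1, 2, 1, 3, 3, 0, 0, 0, 2, 2, 0, 0, 0, 3, 3, 1, 2, 1, 2, 1, 3, 3, 0, 0, 0, 2, 2, 0, 0, 0] := by decide +kernel

theorem word_114 : unpack (D.wlen 114) (D.wordP 114) = [3, 1, 1, 3, 0, 0, 0, 3, 1, 1, 2, 1, 1, 3, 0, 0, 0, 3, 1, 1, 3, 0, 0, 0, 3, 1, 1, 2, 1, 1, 3, 0, 0, 0, 3, 1, 1, 3, 0, 0, 0, 3, 1, 1, 2, 1, 1, 3, 0, 0, 0, 3, 1, 1, 3, 0, 0, 0, 3, 1, 1, 2, 1, 1, 3, 0, 0, 0] := by decide +kernel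

theorem word_115 : unpack (D.wlen 115) (D.wordP 115) = [3, 0, 0, 2, 1, 1, 1, 2, 0, 0, 2, 1, 1, 1, 2, 0, 0, 3, 0, 0, 2, 1, 1, 1, 2, 0, 0, 2, 1, 1, 1, 2, 0, 0, 3, 0, 0, 2, 1, 1, 1, 2, 0, 0, 2, 1, 1, 1, 2, 0, 0, 3, 0, 0, 2, 1, 1, 1, 2, 0, 0, 2, 1, 1, 1, 2, 0, 0] := by decide +kernel

theorem word_116 : unpack (D.wlen 116) (D.wordP 116) = [3, 0, 3, 0, 2, 2, 0, 0, 0, 2, 2, 0, 0, 0, 2, 2, 0, 3, 0, 3, 0, 2, 2, 0, 0, 0, 2, 2, 0, 0, 0, 2, 2, 0, 3, 0, 3, 0, 2, 2, 0, 0, 0, 2, 2, 0, 0, 0, 2, 2, 0, 3, 0, 3, 0, 2, 2, 0, 0, 0, 2, 2, 0, 0, 0, 2, 2, 0] := by decide +kernel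

theorem word_117 : unpack (D.wlen 117) (D.wordP 117) = [3, 0, 3, 0, 2, 2, 1, 1, 1, 3, 3, 1, 1, 1, 2, 2, 0, 3, 0, 3, 0, 2, 2, 1, 1, 1, 3, 3, 1, 1, 1, 2, 2, 0, 3, 0, 3, 0, 2, 2, 1, 1, 1, 3, 3, 1, 1, 1, 2, 2, 0, 3, 0, 3, 0, 2, 2, 1, 1, 1, 3, 3, 1, 1, 1, 2, 2, 0] := by decide +kernel

theorem word_118 : unpack (D.wlen 118) (D.wordP 118) = [2, 2, 1, 1, 1, 1, 1, 3, 0, 2, 2, 1, 1, 1, 1, 1, 3, 0, 2, 2, 1, 1, 1, 1, 1, 3, 0, 2, 2, 1, 1, 1, 1, 1, 3, 0, 2, 2, 1, 1, 1, 1, 1, 3, 0, 2, 2, 1, 1, 1, 1, 1, 3, 0, 2, 2, 1, 1, 1, 1, 1, 3, 0, 2, 2, 1, 1, 1, 1, 1, 3, 0] := by decide +kernel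

theorem word_119 : unpack (D.wlen 119) (D.wordP 119) = [3, 3, 1, 2, 0, 0, 0, 0, 0, 3, 3, 1, 2, 0, 0, 0, 0, 0, 3, 3, 1, 2, 0, 0, 0, 0, 0, 3, 3, 1, 2, 0, 0, 0, 0, 0, 3, 3, 1, 2, 0, 0, 0, 0, 0, 3, 3, 1, 2, 0, 0, 0, 0, 0, 3, 3, 1, 2, 0, 0, 0, 0, 0, 3, 3, 1, 2, 0, 0, 0, 0, 0] := by decide +kernel

theorem word_120 : unpack (D.wlen 120) (D.wordP 120) = [2, 2, 1, 1, 2, 2, 0, 0, 0, 2, 2, 1, 1, 2, 2, 0, 0, 0, 2, 2, 1, 1, 2, 2, 0, 0, 0, 2, 2, 1, 1, 2, 2, 0, 0, 0, 2, 2, 1, 1, 2, 2, 0, 0, 0, 2, 2, 1, 1, 2, 2, 0, 0, 0, 2, 2, 1, 1, 2, 2, 0, 0, 0, 2, 2, 1, 1, 2, 2, 0, 0, 0] := by decide +kernel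

theorem word_121 : unpack (D.wlen 121) (D.wordP 121) = [3, 1, 1, 1, 1, 1, 2, 2, 0, 3, 1, 1, 1, 1, 1, 2, 2, 0, 3, 1, 1, 1, 1, 1, 2, 2, 0, 3, 1, 1, 1, 1, 1, 2, 2, 0, 3, 1, 1, 1, 1, 1, 2, 2, 0, 3, 1, 1, 1, 1, 1, 2, 2, 0, 3, 1, 1, 1, 1, 1, 2, 2, 0, 3, 1, 1, 1, 1, 1, 2, 2, 0] := by decide +kernel

theorem word_122 : unpack (D.wlen 122) (D.wordP 122) = [2, 1, 3, 3, 0, 0, 0, 0, 0, 2, 1, 3, 3, 0, 0, 0, 0, 0, 2, 1, 3, 3, 0, 0, 0, 0, 0, 2, 1, 3, 3, 0, 0, 0, 0, 0, 2, 1, 3, 3, 0, 0, 0, 0, 0, 2, 1, 3, 3, 0, 0, 0, 0, 0, 2, 1, 3, 3, 0, 0, 0, 0, 0, 2, 1, 3, 3, 0, 0, 0, 0, 0] := by decide +kernel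

theorem word_123 : unpack (D.wlen 123) (D.wordP 123) = [3, 3, 1, 1, 1, 3, 3, 0, 0, 3, 3, 1, 1, 1, 3, 3, 0, 0, 3, 3, 1, 1, 1, 3, 3, 0, 0, 3, 3, 1, 1, 1, 3, 3, 0, 0, 3, 3, 1, 1, 1, 3, 3, 0, 0, 3, 3, 1, 1, 1, 3, 3, 0, 0, 3, 3, 1, 1, 1, 3, 3, 0, 0, 3, 3, 1, 1, 1, 3, 3, 0, 0] := by decide +kernel

theorem word_124 : unpack (D.wlen 124) (D.wordP 124) = [3, 1, 1, 1, 1, 2, 2, 1, 1, 3, 1, 1, 2, 1, 3, 0, 0, 0, 3, 1, 1, 1, 1, 2, 2, 1, 1, 3, 1, 1, 2, 1, 3, 0, 0, 0, 3, 1, 1, 1, 1, 2, 2, 1, 1, 3, 1, 1, 2, 1, 3, 0, 0, 0, 3, 1, 1, 1, 1, 2, 2, 1, 1, 3, 1, 1, 2, 1, 3, 0, 0, 0] := by decide +kernel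

theorem word_125 : unpack (D.wlen 125) (D.wordP 125) = [3, 3, 1, 1, 2, 2, 1, 1, 1, 3, 0, 0, 3, 0, 0, 3, 0, 0, 3, 3, 1, 1, 2, 2, 1, 1, 1, 3, 0, 0, 3, 0, 0, 3, 0, 0, 3, 3, 1, 1, 2, 2, 1, 1, 1, 3, 0, 0, 3, 0, 0, 3, 0, 0, 3, 3, 1, 1, 2, 2, 1, 1, 1, 3, 0, 0, 3, 0, 0, 3, 0, 0] := by decide +kernel

theorem word_126 : unpack (D.wlen 126) (D.wordP 126) = [0] := by decide +kernel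

end Cfsg.Agent.Helper5.M12DTC
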