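import Cfsg.Agent.Helper5.M12DTCDatD
import Cfsg.Agent.Helper5.TCIB

/-! kernel checks of edges, aliases, rows: M12DTC -/

set_option autoImplicit false
set_option Elab.async false

namespace Cfsg.Agent.Helper5.M12DTC
open Cfsg.Agent.Helper5.TC Cfsg.Agent.Helper5.TCI

set_option maxRecDepth 1000000 in
theorem cnt_1 : cntFrom RS 20000 20000 0 = 3135 := by decide +kernel

set_option maxRecDepth 1000000 in
theorem cnt_3 : cntFrom RS 20000 60000 0 = 1359 := by decide +kernel

set_option maxRecDepth 1000000 in
theorem cnt_5 : cntFrom RS 20000 100000 0 = 1465 := by decide +kernel

set_option maxRecDepth 1000000 in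
theorem cnt_7 : cntFrom RS 20000 140000 0 = 985 := by decide +kernel

set_option maxRecDepth 1000000 in
theorem cnt_9 : cntFrom RS 20000 180000 0 = 286 := by decide +kernel

set_option maxRecDepth 1000000 in
theorem edges_0_69 : edgesRangeI iota E 0 2446 180660 = true := by decide +kernel

set_option maxRecDepth 1000000 in
theorem edges_1_52 : edgesRangeI iota E 1 2788 144738 = true := by decide +kernel

set_option maxRecDepth 1000000 in
theorem edges_0_32 : edgesRangeI iota E 0 2417 82650 = true := by decide +kernel

set_option maxRecDepth 1000000 in
theorem edges_2_76 : edgesRangeI iota E 2 1818 149342 = true := by decide +kernel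

set_option maxRecDepth 1000000 in
theorem edges_1_39 : edgesRangeI iota E 1 2488 109829 = true := by decide +kernel

set_option maxRecDepth 1000000 in
theorem edges_1_41 : edgesRangeI iota E 1 2437 114676 = true := by decide +kernel

set_option maxRecDepth 1000000 in
theorem edges_1_68 : edgesRangeI iota E 1 3126 186727 = true := by decide +kernel

set_option maxRecDepth 1000000 in
theorem edges_1_32 : edgesRangeI iota E 1 3208 88498 = true := by decide +kernel

set_option maxRecDepth 1000000 in
theorem edges_0_7 : edgesRangeI iota E 0 2552 17979 = true := by decide +kernel

set_option maxRecDepth 1000000 in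
theorem edges_0_38 : edgesRangeI iota E 0 2789 99289 = true := by decide +kernel

set_option maxRecDepth 1000000 in
theorem edges_1_21 : edgesRangeI iota E 1 2458 58284 = true := by decide +kernel

set_option maxRecDepth 1000000 in
theorem edges_2_27 : edgesRangeI iota E 2 2045 49726 = true := by decide +kernel

set_option maxRecDepth 1000000 in
theorem edges_2_50 : edgesRangeI iota E 2 2362 95629 = true := by decide +kernel

set_option maxRecDepth 1000000 in
theorem edges_3_36 : edgesRangeI iota E 3 2506 81793 = true := by decide +kernel

set_option maxRecDepth 1000000 in
theorem edges_2_31 : edgesRangeI iota E 2 1725 57821 = true := by decide +kernel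

set_option maxRecDepth 1000000 in
theorem edges_3_72 : edgesRangeI iota E 3 2186 168122 = true := by decide +kernel

set_option maxRecDepth 1000000 in
theorem edges_1_48 : edgesRangeI iota E 1 3533 133463 = true := by decide +kernel

set_option maxRecDepth 1000000 in
theorem edges_2_38 : edgesRangeI iota E 2 1560 71587 = true := by decide +kernel

set_option maxRecDepth 1000000 in
theorem edges_2_99 : edgesRangeI iota E 2 2386 200638 = true := by decide +kernel

set_option maxRecDepth 1000000 in
theorem edges_2_47 : edgesRangeI iota E 2 1911 89041 = true := by decide +kernel

set_option maxRecDepth 1000000 in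
theorem edges_3_27 : edgesRangeI iota E 3 2151 61702 = true := by decide +kernel

set_option maxRecDepth 1000000 in
theorem edges_3_47 : edgesRangeI iota E 3 2027 110867 = true := by decide +kernel

set_option maxRecDepth 1000000 in
theorem edges_3_30 : edgesRangeI iota E 3 2235 68771 = true := by decide +kernel

set_option maxRecDepth 1000000 in
theorem edges_0_44 : edgesRangeI iota E 0 2544 115487 = true := by decide +kernel

set_option maxRecDepth 1000000 in
theorem edges_0_71 : edgesRangeI iota E 0 2881 185660 = true := by decide +kernel

set_option maxRecDepth 1000000 in
theorem edges_2_51 : edgesRangeI iota E 2 2585 97991 = true := by decide +kernel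

set_option maxRecDepth 1000000 in
theorem edges_3_17 : edgesRangeI iota E 3 2215 38204 = true := by decide +kernel

set_option maxRecDepth 1000000 in
theorem edges_0_52 : edgesRangeI iota E 0 2429 136559 = true := by decide +kernel

set_option maxRecDepth 1000000 in
theorem edges_1_20 : edgesRangeI iota E 1 2923 55361 = true := by decide +kernel

set_option maxRecDepth 1000000 in
theorem edges_2_22 : edgesRangeI iota E 2 1780 39466 = true := by decide +kernel

set_option maxRecDepth 1000000 in
theorem edges_3_81 : edgesRangeI iota E 3 2146 190480 = true := by decide +kernel

set_option maxRecDepth 1000000 in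
theorem edges_0_58 : edgesRangeI iota E 0 2649 151665 = true := by decide +kernel

set_option maxRecDepth 1000000 in
theorem edges_2_13 : edgesRangeI iota E 2 1699 23416 = true := by decide +kernel

set_option maxRecDepth 1000000 in
theorem edges_0_0 : edgesRangeI iota E 0 2877 0 = true := by decide +kernel

set_option maxRecDepth 1000000 in
theorem edges_2_10 : edgesRangeI iota E 2 1447 18689 = true := by decide +kernel

set_option maxRecDepth 1000000 in
theorem edges_3_51 : edgesRangeI iota E 3 2115 119169 = true := by decide +kernel

set_option maxRecDepth 1000000 in
theorem edges_2_9 : edgesRangeI iota E 2 1947 16742 = true := by decide +kernel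

set_option maxRecDepth 1000000 in
theorem edges_2_82 : edgesRangeI iota E 2 2034 161541 = true := by decide +kernel

set_option maxRecDepth 1000000 in
theorem edges_3_60 : edgesRangeI iota E 3 2257 140437 = true := by decide +kernel

set_option maxRecDepth 1000000 in
theorem edges_1_35 : edgesRangeI iota E 1 2985 98189 = true := by decide +kernel

set_option maxRecDepth 1000000 in
theorem edges_3_16 : edgesRangeI iota E 3 2439 35765 = true := by decide +kernel

set_option maxRecDepth 1000000 in
theorem edges_3_76 : edgesRangeI iota E 3 2708 177318 = true := by decide +kernel

set_option maxRecDepth 1000000 in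
theorem edges_3_45 : edgesRangeI iota E 3 2203 106687 = true := by decide +kernel

set_option maxRecDepth 1000000 in
theorem edges_3_64 : edgesRangeI iota E 3 1872 149735 = true := by decide +kernel

set_option maxRecDepth 1000000 in
theorem edges_0_41 : edgesRangeI iota E 0 2854 107742 = true := by decide +kernel

set_option maxRecDepth 1000000 in
theorem edges_1_24 : edgesRangeI iota E 1 2815 66159 = true := by decide +kernel

set_option maxRecDepth 1000000 in
theorem edges_2_71 : edgesRangeI iota E 2 1871 139297 = true := by decide +kernel

set_option maxRecDepth 1000000 in
theorem edges_2_95 : edgesRangeI iota E 2 2358 190995 = true := by decide +kernel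

set_option maxRecDepth 1000000 in
theorem edges_3_0 : edgesRangeI iota E 3 2925 0 = true := by decide +kernel

set_option maxRecDepth 1000000 in
theorem edges_3_48 : edgesRangeI iota E 3 1866 112894 = true := by decide +kernel

set_option maxRecDepth 1000000 in
theorem edges_0_50 : edgesRangeI iota E 0 2496 130932 = true := by decide +kernel

set_option maxRecDepth 1000000 in
theorem edges_1_67 : edgesRangeI iota E 1 2902 183825 = true := by decide +kernel

set_option maxRecDepth 1000000 in
theorem edges_2_20 : edgesRangeI iota E 2 1891 35915 = true := by decide +kernel

set_option maxRecDepth 1000000 in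
theorem edges_2_46 : edgesRangeI iota E 2 1865 87176 = true := by decide +kernel

set_option maxRecDepth 1000000 in
theorem edges_3_18 : edgesRangeI iota E 3 2008 40419 = true := by decide +kernel

set_option maxRecDepth 1000000 in
theorem edges_0_4 : edgesRangeI iota E 0 2488 10577 = true := by decide +kernel

set_option maxRecDepth 1000000 in
theorem edges_0_39 : edgesRangeI iota E 0 2985 102078 = true := by decide +kernel

set_option maxRecDepth 1000000 in
theorem edges_0_73 : edgesRangeI iota E 0 2369 191328 = true := by decide +kernel

set_option maxRecDepth 1000000 in
theorem edges_2_67 : edgesRangeI iota E 2 2247 130583 = true := by decide +kernel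

set_option maxRecDepth 1000000 in
theorem edges_3_68 : edgesRangeI iota E 3 2233 158787 = true := by decide +kernel

set_option maxRecDepth 1000000 in
theorem edges_1_5 : edgesRangeI iota E 1 2786 14137 = true := by decide +kernel

set_option maxRecDepth 1000000 in
theorem edges_2_81 : edgesRangeI iota E 2 2041 159500 = true := by decide +kernel

set_option maxRecDepth 1000000 in
theorem edges_1_25 : edgesRangeI iota E 1 2807 68974 = true := by decide +kernel

set_option maxRecDepth 1000000 in
theorem edges_2_8 : edgesRangeI iota E 2 2056 14686 = true := by decide +kernel

set_option maxRecDepth 1000000 in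
theorem edges_2_45 : edgesRangeI iota E 2 2050 85126 = true := by decide +kernel

set_option maxRecDepth 1000000 in
theorem edges_3_56 : edgesRangeI iota E 3 2513 130487 = true := by decide +kernel

set_option maxRecDepth 1000000 in
theorem edges_3_77 : edgesRangeI iota E 3 2333 180026 = true := by decide +kernel

set_option maxRecDepth 1000000 in
theorem edges_0_17 : edgesRangeI iota E 0 3101 44128 = true := by decide +kernel

set_option maxRecDepth 1000000 in
theorem edges_0_55 : edgesRangeI iota E 0 2368 144319 = true := by decide +kernel

set_option maxRecDepth 1000000 in
theorem edges_3_19 : edgesRangeI iota E 3 2153 42427 = true := by decide +kernel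

set_option maxRecDepth 1000000 in
theorem edges_2_43 : edgesRangeI iota E 2 1910 80672 = true := by decide +kernel

set_option maxRecDepth 1000000 in
theorem edges_3_22 : edgesRangeI iota E 3 2138 50486 = true := by decide +kernel

set_option maxRecDepth 1000000 in
theorem aliases_1 : aliasRange E 2114 2340 = true := by decide +kernel

set_option maxRecDepth 1000000 in
theorem edges_0_30 : edgesRangeI iota E 0 2558 77239 = true := by decide +kernel

set_option maxRecDepth 1000000 in
theorem edges_1_50 : edgesRangeI iota E 1 2707 139413 = true := by decide +kernel

set_option maxRecDepth 1000000 in
theorem edges_3_25 : edgesRangeI iota E 3 2221 57287 = true := by decide +kernel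

set_option maxRecDepth 1000000 in
theorem edges_0_37 : edgesRangeI iota E 0 2749 96540 = true := by decide +kernel

set_option maxRecDepth 1000000 in
theorem edges_1_16 : edgesRangeI iota E 1 2299 43352 = true := by decide +kernel

set_option maxRecDepth 1000000 in
theorem edges_3_32 : edgesRangeI iota E 3 2227 72913 = true := by decide +kernel

set_option maxRecDepth 1000000 in
theorem edges_2_60 : edgesRangeI iota E 2 1914 115853 = true := by decide +kernel

set_option maxRecDepth 1000000 in
theorem edges_3_34 : edgesRangeI iota E 3 2401 77346 = true := by decide +kernel

set_option maxRecDepth 1000000 in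
theorem aliases_22 : aliasRange E 1890 47705 = true := by decide +kernel

set_option maxRecDepth 1000000 in
theorem edges_0_66 : edgesRangeI iota E 0 2393 172856 = true := by decide +kernel

set_option maxRecDepth 1000000 in
theorem edges_0_29 : edgesRangeI iota E 0 2513 74726 = true := by decide +kernel

set_option maxRecDepth 1000000 in
theorem edges_1_2 : edgesRangeI iota E 1 3087 5862 = true := by decide +kernel

set_option maxRecDepth 1000000 in
theorem edges_1_63 : edgesRangeI iota E 1 2814 173099 = true := by decide +kernel

set_option maxRecDepth 1000000 in
theorem edges_2_55 : edgesRangeI iota E 2 1716 107064 = true := by decide +kernel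

set_option maxRecDepth 1000000 in
theorem edges_3_6 : edgesRangeI iota E 3 2477 13852 = true := by decide +kernel

set_option maxRecDepth 1000000 in
theorem edges_1_56 : edgesRangeI iota E 1 2562 154769 = true := by decide +kernel

set_option maxRecDepth 1000000 in
theorem edges_3_66 : edgesRangeI iota E 3 2222 153858 = true := by decide +kernel

set_option maxRecDepth 1000000 in
theorem edges_2_14 : edgesRangeI iota E 2 1658 25115 = true := by decide +kernel

set_option maxRecDepth 1000000 in
theorem edges_2_65 : edgesRangeI iota E 2 2292 125985 = true := by decide +kernel

set_option maxRecDepth 1000000 in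
theorem edges_2_97 : edgesRangeI iota E 2 2597 195743 = true := by decide +kernel

set_option maxRecDepth 1000000 in
theorem edges_3_63 : edgesRangeI iota E 3 2326 147409 = true := by decide +kernel

set_option maxRecDepth 1000000 in
theorem edges_0_35 : edgesRangeI iota E 0 2731 91153 = true := by decide +kernel

set_option maxRecDepth 1000000 in
theorem edges_1_66 : edgesRangeI iota E 1 2715 181110 = true := by decide +kernel

set_option maxRecDepth 1000000 in
theorem edges_2_52 : edgesRangeI iota E 2 1794 100576 = true := by decide +kernel

set_option maxRecDepth 1000000 in
theorem edges_3_39 : edgesRangeI iota E 3 3364 90045 = true := by decide +kernel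

set_option maxRecDepth 1000000 in
theorem edges_3_69 : edgesRangeI iota E 3 2391 161020 = true := by decide +kernel

set_option maxRecDepth 1000000 in
theorem aliases_3 : aliasRange E 2405 6753 = true := by decide +kernel

set_option maxRecDepth 1000000 in
theorem aliases_14 : aliasRange E 2144 30977 = true := by decide +kernel

set_option maxRecDepth 1000000 in
theorem aliases_21 : aliasRange E 2026 45679 = true := by decide +kernel

set_option maxRecDepth 1000000 in
theorem aliases_35 : aliasRange E 1996 73637 = true := by decide +kernel

set_option maxRecDepth 1000000 in
theorem aliases_43 : aliasRange E 1935 89077 = true := by decide +kernel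

set_option maxRecDepth 1000000 in
theorem aliases_60 : aliasRange E 1823 122329 = true := by decide +kernel

set_option maxRecDepth 1000000 in
theorem aliases_68 : aliasRange E 1787 137496 = true := by decide +kernel

set_option maxRecDepth 1000000 in
theorem aliases_82 : aliasRange E 1982 163676 = true := by decide +kernel

set_option maxRecDepth 1000000 in
theorem aliases_93 : aliasRange E 1826 183803 = true := by decide +kernel

set_option maxRecDepth 1000000 in
theorem aliases_100 : aliasRange E 1972 196733 = true := by decide +kernel

set_option maxRecDepth 1000000 in
theorem aliases_103 : aliasRange E 1921 202279 = true := by decide +kernel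

set_option maxRecDepth 1000000 in
theorem edges_2_12 : edgesRangeI iota E 2 1571 21845 = true := by decide +kernel

set_option maxRecDepth 1000000 in
theorem edges_2_17 : edgesRangeI iota E 2 1818 30707 = true := by decide +kernel

set_option maxRecDepth 1000000 in
theorem edges_2_40 : edgesRangeI iota E 2 1846 74960 = true := by decide +kernel

set_option maxRecDepth 1000000 in
theorem edges_2_57 : edgesRangeI iota E 2 1651 110815 = true := by decide +kernel

set_option maxRecDepth 1000000 in
theorem edges_3_3 : edgesRangeI iota E 3 1828 7946 = true := by decide +kernel

set_option maxRecDepth 1000000 in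
theorem edges_3_78 : edgesRangeI iota E 3 2826 182359 = true := by decide +kernel

set_option maxRecDepth 1000000 in
theorem aliases_8 : aliasRange E 2448 18048 = true := by decide +kernel

set_option maxRecDepth 1000000 in
theorem aliases_13 : aliasRange E 2104 28873 = true := by decide +kernel

set_option maxRecDepth 1000000 in
theorem aliases_18 : aliasRange E 2040 39448 = true := by decide +kernel

set_option maxRecDepth 1000000 in
theorem aliases_25 : aliasRange E 2088 53717 = true := by decide +kernel

set_option maxRecDepth 1000000 in
theorem aliases_39 : aliasRange E 1931 81475 = true := by decide +kernel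

set_option maxRecDepth 1000000 in
theorem aliases_66 : aliasRange E 1985 133575 = true := by decide +kernel

set_option maxRecDepth 1000000 in
theorem aliases_70 : aliasRange E 1911 141160 = true := by decide +kernel

set_option maxRecDepth 1000000 in
theorem aliases_78 : aliasRange E 1791 156310 = true := by decide +kernel

set_option maxRecDepth 1000000 in
theorem aliases_86 : aliasRange E 1820 171418 = true := by decide +kernel

set_option maxRecDepth 1000000 in
theorem edges_0_2 : edgesRangeI iota E 0 2522 5624 = true := by decide +kernel

set_option maxRecDepth 1000000 in
theorem edges_0_11 : edgesRangeI iota E 0 2805 28295 = true := by decide +kernel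

set_option maxRecDepth 1000000 in
theorem edges_1_0 : edgesRangeI iota E 1 2733 0 = true := by decide +kernel

set_option maxRecDepth 1000000 in
theorem edges_1_18 : edgesRangeI iota E 1 2689 49848 = true := by decide +kernel

set_option maxRecDepth 1000000 in
theorem edges_2_2 : edgesRangeI iota E 2 1936 4159 = true := by decide +kernel

set_option maxRecDepth 1000000 in
theorem edges_3_54 : edgesRangeI iota E 3 2661 125416 = true := by decide +kernel

set_option maxRecDepth 1000000 in
theorem edges_3_65 : edgesRangeI iota E 3 2251 151607 = true := by decide +kernel

set_option maxRecDepth 1000000 in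
theorem aliases_12 : aliasRange E 1854 27019 = true := by decide +kernel

set_option maxRecDepth 1000000 in
theorem aliases_36 : aliasRange E 1976 75633 = true := by decide +kernel

set_option maxRecDepth 1000000 in
theorem aliases_48 : aliasRange E 1950 98654 = true := by decide +kernel

set_option maxRecDepth 1000000 in
theorem aliases_56 : aliasRange E 2012 114343 = true := by decide +kernel

set_option maxRecDepth 1000000 in
theorem aliases_58 : aliasRange E 1949 118349 = true := by decide +kernel

set_option maxRecDepth 1000000 in
theorem aliases_63 : aliasRange E 1792 127931 = true := by decide +kernel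

set_option maxRecDepth 1000000 in
theorem aliases_97 : aliasRange E 1850 191194 = true := by decide +kernel

set_option maxRecDepth 1000000 in
theorem edges_0_8 : edgesRangeI iota E 0 2570 20531 = true := by decide +kernel

set_option maxRecDepth 1000000 in
theorem edges_0_14 : edgesRangeI iota E 0 2580 36219 = true := by decide +kernel

set_option maxRecDepth 1000000 in
theorem edges_0_46 : edgesRangeI iota E 0 2599 120734 = true := by decide +kernel

set_option maxRecDepth 1000000 in
theorem edges_1_28 : edgesRangeI iota E 1 2636 76619 = true := by decide +kernel

set_option maxRecDepth 1000000 in
theorem edges_1_49 : edgesRangeI iota E 1 2417 136996 = true := by decide +kernel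

set_option maxRecDepth 1000000 in
theorem edges_1_61 : edgesRangeI iota E 1 2679 167692 = true := by decide +kernel

set_option maxRecDepth 1000000 in
theorem edges_1_72 : edgesRangeI iota E 1 2804 198789 = true := by decide +kernel

set_option maxRecDepth 1000000 in
theorem edges_2_5 : edgesRangeI iota E 2 1634 9685 = true := by decide +kernel

set_option maxRecDepth 1000000 in
theorem edges_2_56 : edgesRangeI iota E 2 2035 108780 = true := by decide +kernel

set_option maxRecDepth 1000000 in
theorem edges_2_84 : edgesRangeI iota E 2 1899 165826 = true := by decide +kernel

set_option maxRecDepth 1000000 in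
theorem edges_3_14 : edgesRangeI iota E 3 2393 31287 = true := by decide +kernel

set_option maxRecDepth 1000000 in
theorem edges_3_41 : edgesRangeI iota E 3 2378 96422 = true := by decide +kernel

set_option maxRecDepth 1000000 in
theorem aliases_7 : aliasRange E 2420 15628 = true := by decide +kernel

set_option maxRecDepth 1000000 in
theorem aliases_27 : aliasRange E 2067 57745 = true := by decide +kernel

set_option maxRecDepth 1000000 in
theorem aliases_32 : aliasRange E 1973 67754 = true := by decide +kernel

set_option maxRecDepth 1000000 in
theorem aliases_37 : aliasRange E 1867 77609 = true := by decide +kernel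

set_option maxRecDepth 1000000 in
theorem aliases_49 : aliasRange E 1967 100604 = true := by decide +kernel

set_option maxRecDepth 1000000 in
theorem aliases_53 : aliasRange E 1981 108446 = true := by decide +kernel

set_option maxRecDepth 1000000 in
theorem aliases_84 : aliasRange E 1935 167605 = true := by decide +kernel

set_option maxRecDepth 1000000 in
theorem aliases_91 : aliasRange E 1760 180235 = true := by decide +kernel

set_option maxRecDepth 1000000 in
theorem edges_0_1 : edgesRangeI iota E 0 2747 2877 = true := by decide +kernel

set_option maxRecDepth 1000000 in
theorem edges_0_15 : edgesRangeI iota E 0 2721 38799 = true := by decide +kernel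

set_option maxRecDepth 1000000 in
theorem edges_0_21 : edgesRangeI iota E 0 2240 55014 = true := by decide +kernel

set_option maxRecDepth 1000000 in
theorem edges_0_24 : edgesRangeI iota E 0 2582 62161 = true := by decide +kernel

set_option maxRecDepth 1000000 in
theorem edges_0_28 : edgesRangeI iota E 0 2603 72123 = true := by decide +kernel

set_option maxRecDepth 1000000 in
theorem edges_0_36 : edgesRangeI iota E 0 2656 93884 = true := by decide +kernel

set_option maxRecDepth 1000000 in
theorem edges_0_45 : edgesRangeI iota E 0 2703 118031 = true := by decide +kernel

set_option maxRecDepth 1000000 in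
theorem edges_0_53 : edgesRangeI iota E 0 2614 138988 = true := by decide +kernel

set_option maxRecDepth 1000000 in
theorem edges_0_59 : edgesRangeI iota E 0 2542 154314 = true := by decide +kernel

set_option maxRecDepth 1000000 in
theorem edges_0_62 : edgesRangeI iota E 0 2813 161784 = true := by decide +kernel

set_option maxRecDepth 1000000 in
theorem edges_0_67 : edgesRangeI iota E 0 2653 175249 = true := by decide +kernel

set_option maxRecDepth 1000000 in
theorem edges_0_70 : edgesRangeI iota E 0 2554 183106 = true := by decide +kernel

set_option maxRecDepth 1000000 in
theorem edges_0_75 : edgesRangeI iota E 0 2829 196455 = true := by decide +kernel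

set_option maxRecDepth 1000000 in
theorem edges_0_77 : edgesRangeI iota E 0 2751 201785 = true := by decide +kernel

set_option maxRecDepth 1000000 in
theorem edges_1_3 : edgesRangeI iota E 1 2549 8949 = true := by decide +kernel

set_option maxRecDepth 1000000 in
theorem edges_1_7 : edgesRangeI iota E 1 2741 19652 = true := by decide +kernel

set_option maxRecDepth 1000000 in
theorem edges_1_12 : edgesRangeI iota E 1 2436 33009 = true := by decide +kernel

set_option maxRecDepth 1000000 in
theorem edges_1_15 : edgesRangeI iota E 1 2580 40772 = true := by decide +kernel

set_option maxRecDepth 1000000 in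
theorem edges_1_19 : edgesRangeI iota E 1 2824 52537 = true := by decide +kernel

set_option maxRecDepth 1000000 in
theorem edges_1_23 : edgesRangeI iota E 1 2889 63270 = true := by decide +kernel

set_option maxRecDepth 1000000 in
theorem edges_1_29 : edgesRangeI iota E 1 2979 79255 = true := by decide +kernel

set_option maxRecDepth 1000000 in
theorem edges_1_33 : edgesRangeI iota E 1 3544 91706 = true := by decide +kernel

set_option maxRecDepth 1000000 in
theorem edges_1_37 : edgesRangeI iota E 1 2923 104076 = true := by decide +kernel

set_option maxRecDepth 1000000 in
theorem edges_1_40 : edgesRangeI iota E 1 2359 112317 = true := by decide +kernel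

set_option maxRecDepth 1000000 in
theorem edges_1_58 : edgesRangeI iota E 1 2229 159994 = true := by decide +kernel

set_option maxRecDepth 1000000 in
theorem edges_1_60 : edgesRangeI iota E 1 2936 164756 = true := by decide +kernel

set_option maxRecDepth 1000000 in
theorem edges_1_71 : edgesRangeI iota E 1 3673 195116 = true := by decide +kernel

set_option maxRecDepth 1000000 in
theorem edges_2_1 : edgesRangeI iota E 2 1999 2160 = true := by decide +kernel

set_option maxRecDepth 1000000 in
theorem edges_2_25 : edgesRangeI iota E 2 2102 44677 = true := by decide +kernel

set_option maxRecDepth 1000000 in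
theorem edges_2_29 : edgesRangeI iota E 2 1954 53580 = true := by decide +kernel

set_option maxRecDepth 1000000 in
theorem edges_2_48 : edgesRangeI iota E 2 1970 90952 = true := by decide +kernel

set_option maxRecDepth 1000000 in
theorem edges_2_53 : edgesRangeI iota E 2 2387 102370 = true := by decide +kernel

set_option maxRecDepth 1000000 in
theorem edges_2_59 : edgesRangeI iota E 2 1730 114123 = true := by decide +kernel

set_option maxRecDepth 1000000 in
theorem edges_2_68 : edgesRangeI iota E 2 2125 132830 = true := by decide +kernel

set_option maxRecDepth 1000000 in
theorem edges_2_70 : edgesRangeI iota E 2 1987 137310 = true := by decide +kernel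

set_option maxRecDepth 1000000 in
theorem edges_2_74 : edgesRangeI iota E 2 2151 145141 = true := by decide +kernel

set_option maxRecDepth 1000000 in
theorem edges_2_80 : edgesRangeI iota E 2 2437 157063 = true := by decide +kernel

set_option maxRecDepth 1000000 in
theorem edges_2_91 : edgesRangeI iota E 2 2524 181234 = true := by decide +kernel

set_option maxRecDepth 1000000 in
theorem edges_2_96 : edgesRangeI iota E 2 2390 193353 = true := by decide +kernel

set_option maxRecDepth 1000000 in
theorem edges_3_4 : edgesRangeI iota E 3 1989 9774 = true := by decide +kernel

set_option maxRecDepth 1000000 in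
theorem edges_3_11 : edgesRangeI iota E 3 2201 24349 = true := by decide +kernel

set_option maxRecDepth 1000000 in
theorem edges_3_15 : edgesRangeI iota E 3 2085 33680 = true := by decide +kernel

set_option maxRecDepth 1000000 in
theorem edges_3_26 : edgesRangeI iota E 3 2194 59508 = true := by decide +kernel

set_option maxRecDepth 1000000 in
theorem edges_3_35 : edgesRangeI iota E 3 2046 79747 = true := by decide +kernel

set_option maxRecDepth 1000000 in
theorem edges_3_44 : edgesRangeI iota E 3 2814 103873 = true := by decide +kernel

set_option maxRecDepth 1000000 in
theorem edges_3_58 : edgesRangeI iota E 3 2484 135930 = true := by decide +kernel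

set_option maxRecDepth 1000000 in
theorem edges_3_62 : edgesRangeI iota E 3 2512 144897 = true := by decide +kernel

set_option maxRecDepth 1000000 in
theorem edges_3_74 : edgesRangeI iota E 3 2594 172590 = true := by decide +kernel

set_option maxRecDepth 1000000 in
theorem edges_3_85 : edgesRangeI iota E 3 3045 200663 = true := by decide +kernel

set_option maxRecDepth 1000000 in
theorem aliases_6 : aliasRange E 1891 13737 = true := by decide +kernel

set_option maxRecDepth 1000000 in
theorem aliases_10 : aliasRange E 2158 22728 = true := by decide +kernel

set_option maxRecDepth 1000000 in
theorem aliases_19 : aliasRange E 2219 41488 = true := by decide +kernel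

set_option maxRecDepth 1000000 in
theorem aliases_26 : aliasRange E 1940 55805 = true := by decide +kernel

set_option maxRecDepth 1000000 in
theorem aliases_41 : aliasRange E 1900 85300 = true := by decide +kernel

set_option maxRecDepth 1000000 in
theorem aliases_45 : aliasRange E 1930 92904 = true := by decide +kernel

set_option maxRecDepth 1000000 in
theorem aliases_64 : aliasRange E 1892 129723 = true := by decide +kernel

set_option maxRecDepth 1000000 in
theorem aliases_71 : aliasRange E 1887 143071 = true := by decide +kernel

set_option maxRecDepth 1000000 in
theorem aliases_75 : aliasRange E 1983 150536 = true := by decide +kernel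

set_option maxRecDepth 1000000 in
theorem aliases_77 : aliasRange E 1945 154365 = true := by decide +kernel

set_option maxRecDepth 1000000 in
theorem aliases_80 : aliasRange E 1822 159974 = true := by decide +kernel

set_option maxRecDepth 1000000 in
theorem aliases_83 : aliasRange E 1947 165658 = true := by decide +kernel

set_option maxRecDepth 1000000 in
theorem aliases_92 : aliasRange E 1808 181995 = true := by decide +kernel

set_option maxRecDepth 1000000 in
theorem aliases_98 : aliasRange E 1805 193044 = true := by decide +kernel

set_option maxRecDepth 1000000 in
theorem edges_0_78 : edgesRangeI iota E 0 1044 204536 = true := by decide +kernel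

set_option maxRecDepth 1000000 in
theorem rows_0 : rowsRange E RS 1500 0 = true := by decide +kernel

set_option maxRecDepth 1000000 in
theorem rows_1 : rowsRange E RS 1500 1500 = true := by decide +kernel

set_option maxRecDepth 1000000 in
theorem rows_3 : rowsRange E RS 1500 4500 = true := by decide +kernel

set_option maxRecDepth 1000000 in
theorem rows_5 : rowsRange E RS 1500 7500 = true := by decide +kernel

set_option maxRecDepth 1000000 in
theorem rows_7 : rowsRange E RS 1500 10500 = true := by decide +kernel

set_option maxRecDepth 1000000 in
theorem rows_9 : rowsRange E RS 1500 13500 = true := by decide +kernel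

set_option maxRecDepth 1000000 in
theorem rows_11 : rowsRange E RS 1500 16500 = true := by decide +kernel

set_option maxRecDepth 1000000 in
theorem rows_13 : rowsRange E RS 1500 19500 = true := by decide +kernel

set_option maxRecDepth 1000000 in
theorem rows_15 : rowsRange E RS 1500 22500 = true := by decide +kernel

set_option maxRecDepth 1000000 in
theorem rows_17 : rowsRange E RS 1500 25500 = true := by decide +kernel

set_option maxRecDepth 1000000 in
theorem rows_19 : rowsRange E RS 1500 28500 = true := by decide +kernel

set_option maxRecDepth 1000000 in
theorem rows_21 : rowsRange E RS 1500 31500 = true := by decide +kernel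

set_option maxRecDepth 1000000 in
theorem rows_23 : rowsRange E RS 1500 34500 = true := by decide +kernel

set_option maxRecDepth 1000000 in
theorem rows_25 : rowsRange E RS 1500 37500 = true := by decide +kernel

set_option maxRecDepth 1000000 in
theorem rows_27 : rowsRange E RS 1500 40500 = true := by decide +kernel

set_option maxRecDepth 1000000 in
theorem rows_29 : rowsRange E RS 1500 43500 = true := by decide +kernel

set_option maxRecDepth 1000000 in
theorem rows_31 : rowsRange E RS 1500 46500 = true := by decide +kernel

set_option maxRecDepth 1000000 in
theorem rows_33 : rowsRange E RS 1500 49500 = true := by decide +kernel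

set_option maxRecDepth 1000000 in
theorem rows_35 : rowsRange E RS 1500 52500 = true := by decide +kernel

set_option maxRecDepth 1000000 in
theorem rows_37 : rowsRange E RS 1500 55500 = true := by decide +kernel

set_option maxRecDepth 1000000 in
theorem rows_39 : rowsRange E RS 1500 58500 = true := by decide +kernel

set_option maxRecDepth 1000000 in
theorem rows_41 : rowsRange E RS 1500 61500 = true := by decide +kernel

set_option maxRecDepth 1000000 in
theorem rows_43 : rowsRange E RS 1500 64500 = true := by decide +kernel

set_option maxRecDepth 1000000 in
theorem rows_45 : rowsRange E RS 1500 67500 = true := by decide +kernel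

set_option maxRecDepth 1000000 in
theorem rows_47 : rowsRange E RS 1500 70500 = true := by decide +kernel

set_option maxRecDepth 1000000 in
theorem rows_49 : rowsRange E RS 1500 73500 = true := by decide +kernel

set_option maxRecDepth 1000000 in
theorem rows_51 : rowsRange E RS 1500 76500 = true := by decide +kernel

set_option maxRecDepth 1000000 in
theorem rows_53 : rowsRange E RS 1500 79500 = true := by decide +kernel

set_option maxRecDepth 1000000 in
theorem rows_55 : rowsRange E RS 1500 82500 = true := by decide +kernel

set_option maxRecDepth 1000000 in
theorem rows_57 : rowsRange E RS 1500 85500 = true := by decide +kernel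

set_option maxRecDepth 1000000 in
theorem rows_59 : rowsRange E RS 1500 88500 = true := by decide +kernel

set_option maxRecDepth 1000000 in
theorem rows_61 : rowsRange E RS 1500 91500 = true := by decide +kernel

set_option maxRecDepth 1000000 in
theorem rows_63 : rowsRange E RS 1500 94500 = true := by decide +kernel

set_option maxRecDepth 1000000 in
theorem rows_65 : rowsRange E RS 1500 97500 = true := by decide +kernel

set_option maxRecDepth 1000000 in
theorem rows_67 : rowsRange E RS 1500 100500 = true := by decide +kernel

set_option maxRecDepth 1000000 in
theorem rows_69 : rowsRange E RS 1500 103500 = true := by decide +kernel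

set_option maxRecDepth 1000000 in
theorem rows_71 : rowsRange E RS 1500 106500 = true := by decide +kernel

set_option maxRecDepth 1000000 in
theorem rows_73 : rowsRange E RS 1500 109500 = true := by decide +kernel

set_option maxRecDepth 1000000 in
theorem rows_75 : rowsRange E RS 1500 112500 = true := by decide +kernel

set_option maxRecDepth 1000000 in
theorem rows_77 : rowsRange E RS 1500 115500 = true := by decide +kernel

set_option maxRecDepth 1000000 in
theorem rows_79 : rowsRange E RS 1500 118500 = true := by decide +kernel

set_option maxRecDepth 1000000 in
theorem rows_81 : rowsRange E RS 1500 121500 = true := by decide +kernel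

set_option maxRecDepth 1000000 in
theorem rows_83 : rowsRange E RS 1500 124500 = true := by decide +kernel

set_option maxRecDepth 1000000 in
theorem rows_85 : rowsRange E RS 1500 127500 = true := by decide +kernel

set_option maxRecDepth 1000000 in
theorem rows_87 : rowsRange E RS 1500 130500 = true := by decide +kernel

set_option maxRecDepth 1000000 in
theorem rows_89 : rowsRange E RS 1500 133500 = true := by decide +kernel

set_option maxRecDepth 1000000 in
theorem rows_91 : rowsRange E RS 1500 136500 = true := by decide +kernel

set_option maxRecDepth 1000000 in
theorem rows_93 : rowsRange E RS 1500 139500 = true := by decide +kernel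

set_option maxRecDepth 1000000 in
theorem rows_95 : rowsRange E RS 1500 142500 = true := by decide +kernel

set_option maxRecDepth 1000000 in
theorem rows_97 : rowsRange E RS 1500 145500 = true := by decide +kernel

set_option maxRecDepth 1000000 in
theorem rows_99 : rowsRange E RS 1500 148500 = true := by decide +kernel

set_option maxRecDepth 1000000 in
theorem rows_101 : rowsRange E RS 1500 151500 = true := by decide +kernel

set_option maxRecDepth 1000000 in
theorem rows_103 : rowsRange E RS 1500 154500 = true := by decide +kernel

set_option maxRecDepth 1000000 in
theorem rows_105 : rowsRange E RS 1500 157500 = true := by decide +kernel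

set_option maxRecDepth 1000000 in
theorem rows_107 : rowsRange E RS 1500 160500 = true := by decide +kernel

set_option maxRecDepth 1000000 in
theorem rows_109 : rowsRange E RS 1500 163500 = true := by decide +kernel

set_option maxRecDepth 1000000 in
theorem rows_111 : rowsRange E RS 1500 166500 = true := by decide +kernel

set_option maxRecDepth 1000000 in
theorem rows_113 : rowsRange E RS 1500 169500 = true := by decide +kernel

set_option maxRecDepth 1000000 in
theorem rows_115 : rowsRange E RS 1500 172500 = true := by decide +kernel

set_option maxRecDepth 1000000 in
theorem rows_117 : rowsRange E RS 1500 175500 = true := by decide +kernel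

set_option maxRecDepth 1000000 in
theorem rows_119 : rowsRange E RS 1500 178500 = true := by decide +kernel

set_option maxRecDepth 1000000 in
theorem rows_121 : rowsRange E RS 1500 181500 = true := by decide +kernel

set_option maxRecDepth 1000000 in
theorem rows_123 : rowsRange E RS 1500 184500 = true := by decide +kernel

set_option maxRecDepth 1000000 in
theorem rows_125 : rowsRange E RS 1500 187500 = true := by decide +kernel

set_option maxRecDepth 1000000 in
theorem rows_127 : rowsRange E RS 1500 190500 = true := by decide +kernel

set_option maxRecDepth 1000000 in
theorem rows_129 : rowsRange E RS 1500 193500 = true := by decide +kernel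

set_option maxRecDepth 1000000 in
theorem rows_131 : rowsRange E RS 1500 196500 = true := by decide +kernel

set_option maxRecDepth 1000000 in
theorem rows_133 : rowsRange E RS 1500 199500 = true := by decide +kernel

set_option maxRecDepth 1000000 in
theorem rows_135 : rowsRange E RS 1500 202500 = true := by decide +kernel

set_option maxRecDepth 1000000 in
theorem edges_3_87 : edgesRangeI iota E 3 280 205300 = true := by decide +kernel

set_option maxRecDepth 1000000 in
theorem rows_137 : rowsRange E RS 80 205500 = true := by decide +kernel

end Cfsg.Agent.Helper5.M12DTC
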