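import Cfsg.Agent.Helper5.M12DTCDatD
import Cfsg.Agent.Helper5.M12DTCDatT
import Cfsg.Agent.Helper5.TCIB

/-! kernel checks of the coset table: M12DTC -/

set_option autoImplicit false
set_option Elab.async false

namespace Cfsg.Agent.Helper5.M12DTC
open Cfsg.Agent.Helper5.TC Cfsg.Agent.Helper5.TCI

set_option maxRecDepth 1000000 in
theorem relc_2_0 : fixPtsF W_2 17280 0 = true := by decide +kernel

set_option maxRecDepth 1000000 in
theorem relc_9_0 : fixPtsF W_9 8333 0 = true := by decide +kernel

set_option maxRecDepth 1000000 in
theorem relc_11_0 : fixPtsF W_11 7692 0 = true := by decide +kernel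

set_option maxRecDepth 1000000 in
theorem relc_13_0 : fixPtsF W_13 7692 0 = true := by decide +kernel

set_option maxRecDepth 1000000 in
theorem relc_15_0 : fixPtsF W_15 7142 0 = true := by decide +kernel

set_option maxRecDepth 1000000 in
theorem relc_17_0 : fixPtsF W_17 7142 0 = true := by decide +kernel

set_option maxRecDepth 1000000 in
theorem relc_19_0 : fixPtsF W_19 6666 0 = true := by decide +kernel

set_option maxRecDepth 1000000 in
theorem relc_21_0 : fixPtsF W_21 6666 0 = true := by decide +kernel

set_option maxRecDepth 1000000 in
theorem relc_23_0 : fixPtsF W_23 6666 0 = true := by decide +kernel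

set_option maxRecDepth 1000000 in
theorem relc_25_0 : fixPtsF W_25 6666 0 = true := by decide +kernel

set_option maxRecDepth 1000000 in
theorem relc_27_0 : fixPtsF W_27 6250 0 = true := by decide +kernel

set_option maxRecDepth 1000000 in
theorem relc_29_0 : fixPtsF W_29 6250 0 = true := by decide +kernel

set_option maxRecDepth 1000000 in
theorem relc_31_0 : fixPtsF W_31 6250 0 = true := by decide +kernel

set_option maxRecDepth 1000000 in
theorem relc_33_0 : fixPtsF W_33 6250 0 = true := by decide +kernel

set_option maxRecDepth 1000000 in
theorem relc_35_0 : fixPtsF W_35 6250 0 = true := by decide +kernel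

set_option maxRecDepth 1000000 in
theorem relc_37_0 : fixPtsF W_37 6250 0 = true := by decide +kernel

set_option maxRecDepth 1000000 in
theorem relc_39_0 : fixPtsF W_39 5882 0 = true := by decide +kernel

set_option maxRecDepth 1000000 in
theorem relc_41_0 : fixPtsF W_41 5882 0 = true := by decide +kernel

set_option maxRecDepth 1000000 in
theorem relc_43_0 : fixPtsF W_43 5882 0 = true := by decide +kernel

set_option maxRecDepth 1000000 in
theorem relc_45_0 : fixPtsF W_45 5882 0 = true := by decide +kernel

set_option maxRecDepth 1000000 in
theorem relc_47_0 : fixPtsF W_47 5882 0 = true := by decide +kernel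

set_option maxRecDepth 1000000 in
theorem relc_49_0 : fixPtsF W_49 5882 0 = true := by decide +kernel

set_option maxRecDepth 1000000 in
theorem relc_51_0 : fixPtsF W_51 5882 0 = true := by decide +kernel

set_option maxRecDepth 1000000 in
theorem relc_53_0 : fixPtsF W_53 5882 0 = true := by decide +kernel

set_option maxRecDepth 1000000 in
theorem relc_55_0 : fixPtsF W_55 5882 0 = true := by decide +kernel

set_option maxRecDepth 1000000 in
theorem relc_57_0 : fixPtsF W_57 5882 0 = true := by decide +kernel

set_option maxRecDepth 1000000 in
theorem relc_58_2 : fixPtsF W_58 5555 11110 = true := by decide +kernel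

set_option maxRecDepth 1000000 in
theorem relc_60_0 : fixPtsF W_60 5555 0 = true := by decide +kernel

set_option maxRecDepth 1000000 in
theorem relc_61_1 : fixPtsF W_61 5555 5555 = true := by decide +kernel

set_option maxRecDepth 1000000 in
theorem relc_62_2 : fixPtsF W_62 5555 11110 = true := by decide +kernel

set_option maxRecDepth 1000000 in
theorem relc_64_0 : fixPtsF W_64 5555 0 = true := by decide +kernel

set_option maxRecDepth 1000000 in
theorem relc_65_1 : fixPtsF W_65 5555 5555 = true := by decide +kernel

set_option maxRecDepth 1000000 in
theorem relc_66_2 : fixPtsF W_66 5555 11110 = true := by decide +kernel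

set_option maxRecDepth 1000000 in
theorem relc_68_0 : fixPtsF W_68 5555 0 = true := by decide +kernel

set_option maxRecDepth 1000000 in
theorem relc_69_1 : fixPtsF W_69 5555 5555 = true := by decide +kernel

set_option maxRecDepth 1000000 in
theorem relc_70_2 : fixPtsF W_70 5263 10526 = true := by decide +kernel

set_option maxRecDepth 1000000 in
theorem relc_72_0 : fixPtsF W_72 5263 0 = true := by decide +kernel

set_option maxRecDepth 1000000 in
theorem relc_73_1 : fixPtsF W_73 5263 5263 = true := by decide +kernel

set_option maxRecDepth 1000000 in
theorem relc_74_2 : fixPtsF W_74 5263 10526 = true := by decide +kernel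

set_option maxRecDepth 1000000 in
theorem relc_76_0 : fixPtsF W_76 5263 0 = true := by decide +kernel

set_option maxRecDepth 1000000 in
theorem relc_77_1 : fixPtsF W_77 5263 5263 = true := by decide +kernel

set_option maxRecDepth 1000000 in
theorem relc_78_2 : fixPtsF W_78 5263 10526 = true := by decide +kernel

set_option maxRecDepth 1000000 in
theorem relc_80_0 : fixPtsF W_80 5263 0 = true := by decide +kernel

set_option maxRecDepth 1000000 in
theorem relc_81_1 : fixPtsF W_81 5263 5263 = true := by decide +kernel

set_option maxRecDepth 1000000 in
theorem relc_82_2 : fixPtsF W_82 5263 10526 = true := by decide +kernel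

set_option maxRecDepth 1000000 in
theorem relc_84_0 : fixPtsF W_84 5263 0 = true := by decide +kernel

set_option maxRecDepth 1000000 in
theorem relc_85_1 : fixPtsF W_85 5263 5263 = true := by decide +kernel

set_option maxRecDepth 1000000 in
theorem relc_86_2 : fixPtsF W_86 4545 9090 = true := by decide +kernel

set_option maxRecDepth 1000000 in
theorem relc_88_0 : fixPtsF W_88 4166 0 = true := by decide +kernel

set_option maxRecDepth 1000000 in
theorem relc_89_0 : fixPtsF W_89 4166 0 = true := by decide +kernel

set_option maxRecDepth 1000000 in
theorem relc_90_0 : fixPtsF W_90 3846 0 = true := by decide +kernel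

set_option maxRecDepth 1000000 in
theorem relc_91_0 : fixPtsF W_91 3846 0 = true := by decide +kernel

set_option maxRecDepth 1000000 in
theorem relc_92_0 : fixPtsF W_92 3571 0 = true := by decide +kernel

set_option maxRecDepth 1000000 in
theorem relc_93_0 : fixPtsF W_93 3571 0 = true := by decide +kernel

set_option maxRecDepth 1000000 in
theorem relc_94_0 : fixPtsF W_94 3571 0 = true := by decide +kernel

set_option maxRecDepth 1000000 in
theorem relc_95_0 : fixPtsF W_95 3571 0 = true := by decide +kernel

set_option maxRecDepth 1000000 in
theorem relc_96_0 : fixPtsF W_96 3333 0 = true := by decide +kernel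

set_option maxRecDepth 1000000 in
theorem relc_96_4 : fixPtsF W_96 3333 13332 = true := by decide +kernel

set_option maxRecDepth 1000000 in
theorem relc_97_3 : fixPtsF W_97 3333 9999 = true := by decide +kernel

set_option maxRecDepth 1000000 in
theorem relc_98_2 : fixPtsF W_98 3333 6666 = true := by decide +kernel

set_option maxRecDepth 1000000 in
theorem relc_99_1 : fixPtsF W_99 3333 3333 = true := by decide +kernel

set_option maxRecDepth 1000000 in
theorem relc_100_0 : fixPtsF W_100 3333 0 = true := by decide +kernel

set_option maxRecDepth 1000000 in
theorem relc_100_4 : fixPtsF W_100 3333 13332 = true := by decide +kernel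

set_option maxRecDepth 1000000 in
theorem relc_101_3 : fixPtsF W_101 3333 9999 = true := by decide +kernel

set_option maxRecDepth 1000000 in
theorem relc_102_2 : fixPtsF W_102 3125 6250 = true := by decide +kernel

set_option maxRecDepth 1000000 in
theorem relc_103_1 : fixPtsF W_103 3125 3125 = true := by decide +kernel

set_option maxRecDepth 1000000 in
theorem relc_104_0 : fixPtsF W_104 3125 0 = true := by decide +kernel

set_option maxRecDepth 1000000 in
theorem relc_104_4 : fixPtsF W_104 3125 12500 = true := by decide +kernel

set_option maxRecDepth 1000000 in
theorem relc_105_3 : fixPtsF W_105 3125 9375 = true := by decide +kernel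

set_option maxRecDepth 1000000 in
theorem relc_106_2 : fixPtsF W_106 3125 6250 = true := by decide +kernel

set_option maxRecDepth 1000000 in
theorem relc_107_1 : fixPtsF W_107 3125 3125 = true := by decide +kernel

set_option maxRecDepth 1000000 in
theorem relc_108_0 : fixPtsF W_108 3125 0 = true := by decide +kernel

set_option maxRecDepth 1000000 in
theorem relc_108_4 : fixPtsF W_108 3125 12500 = true := by decide +kernel

set_option maxRecDepth 1000000 in
theorem relc_109_3 : fixPtsF W_109 3125 9375 = true := by decide +kernel

set_option maxRecDepth 1000000 in
theorem relc_110_2 : fixPtsF W_110 3125 6250 = true := by decide +kernel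

set_option maxRecDepth 1000000 in
theorem relc_111_1 : fixPtsF W_111 3125 3125 = true := by decide +kernel

set_option maxRecDepth 1000000 in
theorem relc_112_0 : fixPtsF W_112 2941 0 = true := by decide +kernel

set_option maxRecDepth 1000000 in
theorem relc_112_4 : fixPtsF W_112 2941 11764 = true := by decide +kernel

set_option maxRecDepth 1000000 in
theorem relc_113_3 : fixPtsF W_113 2941 8823 = true := by decide +kernel

set_option maxRecDepth 1000000 in
theorem relc_114_2 : fixPtsF W_114 2941 5882 = true := by decide +kernel

set_option maxRecDepth 1000000 in
theorem relc_115_1 : fixPtsF W_115 2941 2941 = true := by decide +kernel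

set_option maxRecDepth 1000000 in
theorem relc_116_0 : fixPtsF W_116 2941 0 = true := by decide +kernel

set_option maxRecDepth 1000000 in
theorem relc_116_4 : fixPtsF W_116 2941 11764 = true := by decide +kernel

set_option maxRecDepth 1000000 in
theorem relc_117_3 : fixPtsF W_117 2941 8823 = true := by decide +kernel

set_option maxRecDepth 1000000 in
theorem relc_118_2 : fixPtsF W_118 2777 5554 = true := by decide +kernel

set_option maxRecDepth 1000000 in
theorem relc_119_0 : fixPtsF W_119 2777 0 = true := by decide +kernel

set_option maxRecDepth 1000000 in
theorem relc_119_4 : fixPtsF W_119 2777 11108 = true := by decide +kernel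

set_option maxRecDepth 1000000 in
theorem relc_120_2 : fixPtsF W_120 2777 5554 = true := by decide +kernel

set_option maxRecDepth 1000000 in
theorem relc_121_0 : fixPtsF W_121 2777 0 = true := by decide +kernel

set_option maxRecDepth 1000000 in
theorem relc_121_4 : fixPtsF W_121 2777 11108 = true := by decide +kernel

set_option maxRecDepth 1000000 in
theorem relc_122_2 : fixPtsF W_122 2777 5554 = true := by decide +kernel

set_option maxRecDepth 1000000 in
theorem relc_123_0 : fixPtsF W_123 2777 0 = true := by decide +kernel

set_option maxRecDepth 1000000 in
theorem relc_123_4 : fixPtsF W_123 2777 11108 = true := by decide +kernel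

set_option maxRecDepth 1000000 in
theorem relc_124_2 : fixPtsF W_124 2777 5554 = true := by decide +kernel

set_option maxRecDepth 1000000 in
theorem relc_125_0 : fixPtsF W_125 2777 0 = true := by decide +kernel

set_option maxRecDepth 1000000 in
theorem relc_125_4 : fixPtsF W_125 2777 11108 = true := by decide +kernel

set_option maxRecDepth 1000000 in
theorem relc_40_2 : fixPtsF W_40 5516 11764 = true := by decide +kernel

set_option maxRecDepth 1000000 in
theorem relc_44_2 : fixPtsF W_44 5516 11764 = true := by decide +kernel

set_option maxRecDepth 1000000 in
theorem relc_48_2 : fixPtsF W_48 5516 11764 = true := by decide +kernel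

set_option maxRecDepth 1000000 in
theorem relc_52_2 : fixPtsF W_52 5516 11764 = true := by decide +kernel

set_option maxRecDepth 1000000 in
theorem relc_56_2 : fixPtsF W_56 5516 11764 = true := by decide +kernel

set_option maxRecDepth 1000000 in
theorem relc_114_5 : fixPtsF W_114 2575 14705 = true := by decide +kernel

set_option maxRecDepth 1000000 in
theorem relc_117_5 : fixPtsF W_117 2575 14705 = true := by decide +kernel

set_option maxRecDepth 1000000 in
theorem relc_95_4 : fixPtsF W_95 2996 14284 = true := by decide +kernel

set_option maxRecDepth 1000000 in
theorem relc_27_2 : fixPtsF W_27 4780 12500 = true := by decide +kernel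

set_option maxRecDepth 1000000 in
theorem relc_31_2 : fixPtsF W_31 4780 12500 = true := by decide +kernel

set_option maxRecDepth 1000000 in
theorem relc_35_2 : fixPtsF W_35 4780 12500 = true := by decide +kernel

set_option maxRecDepth 1000000 in
theorem relc_18_2 : fixPtsF W_18 3948 13332 = true := by decide +kernel

set_option maxRecDepth 1000000 in
theorem relc_20_2 : fixPtsF W_20 3948 13332 = true := by decide +kernel

set_option maxRecDepth 1000000 in
theorem relc_24_2 : fixPtsF W_24 3948 13332 = true := by decide +kernel

set_option maxRecDepth 1000000 in
theorem relc_105_5 : fixPtsF W_105 1655 15625 = true := by decide +kernel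

set_option maxRecDepth 1000000 in
theorem relc_109_5 : fixPtsF W_109 1655 15625 = true := by decide +kernel

set_option maxRecDepth 1000000 in
theorem relc_91_4 : fixPtsF W_91 1896 15384 = true := by decide +kernel

set_option maxRecDepth 1000000 in
theorem relc_0_0 : fixPtsF W_0 17280 0 = true := by decide +kernel

set_option maxRecDepth 1000000 in
theorem relc_70_3 : fixPtsF W_70 1491 15789 = true := by decide +kernel

set_option maxRecDepth 1000000 in
theorem relc_72_3 : fixPtsF W_72 1491 15789 = true := by decide +kernel

set_option maxRecDepth 1000000 in
theorem relc_76_3 : fixPtsF W_76 1491 15789 = true := by decide +kernel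

set_option maxRecDepth 1000000 in
theorem relc_80_3 : fixPtsF W_80 1491 15789 = true := by decide +kernel

set_option maxRecDepth 1000000 in
theorem relc_84_3 : fixPtsF W_84 1491 15789 = true := by decide +kernel

set_option maxRecDepth 1000000 in
theorem relc_12_2 : fixPtsF W_12 1896 15384 = true := by decide +kernel

set_option maxRecDepth 1000000 in
theorem inv_2_0 : invRowFI ctF 17280 2 3 17280 0 = true := by decide +kernel

set_option maxRecDepth 1000000 in
theorem relc_120_6 : fixPtsF W_120 618 16662 = true := by decide +kernel

set_option maxRecDepth 1000000 in
theorem relc_124_6 : fixPtsF W_124 618 16662 = true := by decide +kernel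

set_option maxRecDepth 1000000 in
theorem relc_100_5 : fixPtsF W_100 615 16665 = true := by decide +kernel

set_option maxRecDepth 1000000 in
theorem relc_89_4 : fixPtsF W_89 616 16664 = true := by decide +kernel

set_option maxRecDepth 1000000 in
theorem relc_62_3 : fixPtsF W_62 615 16665 = true := by decide +kernel

set_option maxRecDepth 1000000 in
theorem relc_66_3 : fixPtsF W_66 615 16665 = true := by decide +kernel

set_option maxRecDepth 1000000 in
theorem relc_6_2 : fixPtsF W_6 614 16666 = true := by decide +kernel

set_option maxRecDepth 1000000 in
theorem relc_7_2 : fixPtsF W_7 614 16666 = true := by decide +kernel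

end Cfsg.Agent.Helper5.M12DTC
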