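import Cfsg.Agent.Helper5.M12DTCDatD
import Cfsg.Agent.Helper5.M12DTCDatT
import Cfsg.Agent.Helper5.TCIB

/-! kernel checks of the coset table: M12DTC -/

set_option autoImplicit false
set_option Elab.async false

namespace Cfsg.Agent.Helper5.M12DTC
open Cfsg.Agent.Helper5.TC Cfsg.Agent.Helper5.TCI

set_option maxRecDepth 1000000 in
theorem relc_6_0 : fixPtsF W_6 8333 0 = true := by decide +kernel

set_option maxRecDepth 1000000 in
theorem relc_7_1 : fixPtsF W_7 8333 8333 = true := by decide +kernel

set_option maxRecDepth 1000000 in
theorem relc_9_1 : fixPtsF W_9 8333 8333 = true := by decide +kernel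

set_option maxRecDepth 1000000 in
theorem relc_12_1 : fixPtsF W_12 7692 7692 = true := by decide +kernel

set_option maxRecDepth 1000000 in
theorem relc_14_1 : fixPtsF W_14 7142 7142 = true := by decide +kernel

set_option maxRecDepth 1000000 in
theorem relc_16_1 : fixPtsF W_16 7142 7142 = true := by decide +kernel

set_option maxRecDepth 1000000 in
theorem relc_18_1 : fixPtsF W_18 6666 6666 = true := by decide +kernel

set_option maxRecDepth 1000000 in
theorem relc_20_1 : fixPtsF W_20 6666 6666 = true := by decide +kernel

set_option maxRecDepth 1000000 in
theorem relc_22_1 : fixPtsF W_22 6666 6666 = true := by decide +kernel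

set_option maxRecDepth 1000000 in
theorem relc_24_1 : fixPtsF W_24 6666 6666 = true := by decide +kernel

set_option maxRecDepth 1000000 in
theorem relc_26_1 : fixPtsF W_26 6250 6250 = true := by decide +kernel

set_option maxRecDepth 1000000 in
theorem relc_28_0 : fixPtsF W_28 6250 0 = true := by decide +kernel

set_option maxRecDepth 1000000 in
theorem relc_30_0 : fixPtsF W_30 6250 0 = true := by decide +kernel

set_option maxRecDepth 1000000 in
theorem relc_32_0 : fixPtsF W_32 6250 0 = true := by decide +kernel

set_option maxRecDepth 1000000 in
theorem relc_34_0 : fixPtsF W_34 6250 0 = true := by decide +kernel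

set_option maxRecDepth 1000000 in
theorem relc_36_0 : fixPtsF W_36 6250 0 = true := by decide +kernel

set_option maxRecDepth 1000000 in
theorem relc_38_0 : fixPtsF W_38 5882 0 = true := by decide +kernel

set_option maxRecDepth 1000000 in
theorem relc_39_1 : fixPtsF W_39 5882 5882 = true := by decide +kernel

set_option maxRecDepth 1000000 in
theorem relc_41_1 : fixPtsF W_41 5882 5882 = true := by decide +kernel

set_option maxRecDepth 1000000 in
theorem relc_43_1 : fixPtsF W_43 5882 5882 = true := by decide +kernel

set_option maxRecDepth 1000000 in
theorem relc_45_1 : fixPtsF W_45 5882 5882 = true := by decide +kernel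

set_option maxRecDepth 1000000 in
theorem relc_47_1 : fixPtsF W_47 5882 5882 = true := by decide +kernel

set_option maxRecDepth 1000000 in
theorem relc_49_1 : fixPtsF W_49 5882 5882 = true := by decide +kernel

set_option maxRecDepth 1000000 in
theorem relc_51_1 : fixPtsF W_51 5882 5882 = true := by decide +kernel

set_option maxRecDepth 1000000 in
theorem relc_53_1 : fixPtsF W_53 5882 5882 = true := by decide +kernel

set_option maxRecDepth 1000000 in
theorem relc_55_1 : fixPtsF W_55 5882 5882 = true := by decide +kernel

set_option maxRecDepth 1000000 in
theorem relc_57_1 : fixPtsF W_57 5882 5882 = true := by decide +kernel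

set_option maxRecDepth 1000000 in
theorem relc_59_2 : fixPtsF W_59 5555 11110 = true := by decide +kernel

set_option maxRecDepth 1000000 in
theorem relc_61_0 : fixPtsF W_61 5555 0 = true := by decide +kernel

set_option maxRecDepth 1000000 in
theorem relc_62_1 : fixPtsF W_62 5555 5555 = true := by decide +kernel

set_option maxRecDepth 1000000 in
theorem relc_63_2 : fixPtsF W_63 5555 11110 = true := by decide +kernel

set_option maxRecDepth 1000000 in
theorem relc_65_0 : fixPtsF W_65 5555 0 = true := by decide +kernel

set_option maxRecDepth 1000000 in
theorem relc_66_1 : fixPtsF W_66 5555 5555 = true := by decide +kernel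

set_option maxRecDepth 1000000 in
theorem relc_67_2 : fixPtsF W_67 5555 11110 = true := by decide +kernel

set_option maxRecDepth 1000000 in
theorem relc_69_0 : fixPtsF W_69 5555 0 = true := by decide +kernel

set_option maxRecDepth 1000000 in
theorem relc_70_1 : fixPtsF W_70 5263 5263 = true := by decide +kernel

set_option maxRecDepth 1000000 in
theorem relc_71_1 : fixPtsF W_71 5263 5263 = true := by decide +kernel

set_option maxRecDepth 1000000 in
theorem relc_72_2 : fixPtsF W_72 5263 10526 = true := by decide +kernel

set_option maxRecDepth 1000000 in
theorem relc_74_0 : fixPtsF W_74 5263 0 = true := by decide +kernel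

set_option maxRecDepth 1000000 in
theorem relc_75_1 : fixPtsF W_75 5263 5263 = true := by decide +kernel

set_option maxRecDepth 1000000 in
theorem relc_76_2 : fixPtsF W_76 5263 10526 = true := by decide +kernel

set_option maxRecDepth 1000000 in
theorem relc_78_0 : fixPtsF W_78 5263 0 = true := by decide +kernel

set_option maxRecDepth 1000000 in
theorem relc_79_1 : fixPtsF W_79 5263 5263 = true := by decide +kernel

set_option maxRecDepth 1000000 in
theorem relc_80_2 : fixPtsF W_80 5263 10526 = true := by decide +kernel

set_option maxRecDepth 1000000 in
theorem relc_82_0 : fixPtsF W_82 5263 0 = true := by decide +kernel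

set_option maxRecDepth 1000000 in
theorem relc_83_1 : fixPtsF W_83 5263 5263 = true := by decide +kernel

set_option maxRecDepth 1000000 in
theorem relc_84_2 : fixPtsF W_84 5263 10526 = true := by decide +kernel

set_option maxRecDepth 1000000 in
theorem relc_86_0 : fixPtsF W_86 4545 0 = true := by decide +kernel

set_option maxRecDepth 1000000 in
theorem relc_87_0 : fixPtsF W_87 4545 0 = true := by decide +kernel

set_option maxRecDepth 1000000 in
theorem relc_88_1 : fixPtsF W_88 4166 4166 = true := by decide +kernel

set_option maxRecDepth 1000000 in
theorem relc_89_1 : fixPtsF W_89 4166 4166 = true := by decide +kernel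

set_option maxRecDepth 1000000 in
theorem relc_90_1 : fixPtsF W_90 3846 3846 = true := by decide +kernel

set_option maxRecDepth 1000000 in
theorem relc_91_1 : fixPtsF W_91 3846 3846 = true := by decide +kernel

set_option maxRecDepth 1000000 in
theorem relc_92_1 : fixPtsF W_92 3571 3571 = true := by decide +kernel

set_option maxRecDepth 1000000 in
theorem relc_93_1 : fixPtsF W_93 3571 3571 = true := by decide +kernel

set_option maxRecDepth 1000000 in
theorem relc_94_1 : fixPtsF W_94 3571 3571 = true := by decide +kernel

set_option maxRecDepth 1000000 in
theorem relc_95_1 : fixPtsF W_95 3571 3571 = true := by decide +kernel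

set_option maxRecDepth 1000000 in
theorem relc_96_1 : fixPtsF W_96 3333 3333 = true := by decide +kernel

set_option maxRecDepth 1000000 in
theorem relc_97_0 : fixPtsF W_97 3333 0 = true := by decide +kernel

set_option maxRecDepth 1000000 in
theorem relc_97_4 : fixPtsF W_97 3333 13332 = true := by decide +kernel

set_option maxRecDepth 1000000 in
theorem relc_98_3 : fixPtsF W_98 3333 9999 = true := by decide +kernel

set_option maxRecDepth 1000000 in
theorem relc_99_2 : fixPtsF W_99 3333 6666 = true := by decide +kernel

set_option maxRecDepth 1000000 in
theorem relc_100_1 : fixPtsF W_100 3333 3333 = true := by decide +kernel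

set_option maxRecDepth 1000000 in
theorem relc_101_0 : fixPtsF W_101 3333 0 = true := by decide +kernel

set_option maxRecDepth 1000000 in
theorem relc_101_4 : fixPtsF W_101 3333 13332 = true := by decide +kernel

set_option maxRecDepth 1000000 in
theorem relc_102_4 : fixPtsF W_102 3125 12500 = true := by decide +kernel

set_option maxRecDepth 1000000 in
theorem relc_103_3 : fixPtsF W_103 3125 9375 = true := by decide +kernel

set_option maxRecDepth 1000000 in
theorem relc_104_2 : fixPtsF W_104 3125 6250 = true := by decide +kernel

set_option maxRecDepth 1000000 in
theorem relc_105_1 : fixPtsF W_105 3125 3125 = true := by decide +kernel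

set_option maxRecDepth 1000000 in
theorem relc_106_0 : fixPtsF W_106 3125 0 = true := by decide +kernel

set_option maxRecDepth 1000000 in
theorem relc_106_4 : fixPtsF W_106 3125 12500 = true := by decide +kernel

set_option maxRecDepth 1000000 in
theorem relc_107_3 : fixPtsF W_107 3125 9375 = true := by decide +kernel

set_option maxRecDepth 1000000 in
theorem relc_108_2 : fixPtsF W_108 3125 6250 = true := by decide +kernel

set_option maxRecDepth 1000000 in
theorem relc_109_1 : fixPtsF W_109 3125 3125 = true := by decide +kernel

set_option maxRecDepth 1000000 in
theorem relc_110_0 : fixPtsF W_110 3125 0 = true := by decide +kernel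

set_option maxRecDepth 1000000 in
theorem relc_110_4 : fixPtsF W_110 3125 12500 = true := by decide +kernel

set_option maxRecDepth 1000000 in
theorem relc_111_3 : fixPtsF W_111 3125 9375 = true := by decide +kernel

set_option maxRecDepth 1000000 in
theorem relc_112_2 : fixPtsF W_112 2941 5882 = true := by decide +kernel

set_option maxRecDepth 1000000 in
theorem relc_113_1 : fixPtsF W_113 2941 2941 = true := by decide +kernel

set_option maxRecDepth 1000000 in
theorem relc_114_0 : fixPtsF W_114 2941 0 = true := by decide +kernel

set_option maxRecDepth 1000000 in
theorem relc_114_4 : fixPtsF W_114 2941 11764 = true := by decide +kernel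

set_option maxRecDepth 1000000 in
theorem relc_115_3 : fixPtsF W_115 2941 8823 = true := by decide +kernel

set_option maxRecDepth 1000000 in
theorem relc_116_2 : fixPtsF W_116 2941 5882 = true := by decide +kernel

set_option maxRecDepth 1000000 in
theorem relc_117_1 : fixPtsF W_117 2941 2941 = true := by decide +kernel

set_option maxRecDepth 1000000 in
theorem relc_118_0 : fixPtsF W_118 2777 0 = true := by decide +kernel

set_option maxRecDepth 1000000 in
theorem relc_118_3 : fixPtsF W_118 2777 8331 = true := by decide +kernel

set_option maxRecDepth 1000000 in
theorem relc_119_1 : fixPtsF W_119 2777 2777 = true := by decide +kernel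

set_option maxRecDepth 1000000 in
theorem relc_119_5 : fixPtsF W_119 2777 13885 = true := by decide +kernel

set_option maxRecDepth 1000000 in
theorem relc_120_3 : fixPtsF W_120 2777 8331 = true := by decide +kernel

set_option maxRecDepth 1000000 in
theorem relc_121_1 : fixPtsF W_121 2777 2777 = true := by decide +kernel

set_option maxRecDepth 1000000 in
theorem relc_121_5 : fixPtsF W_121 2777 13885 = true := by decide +kernel

set_option maxRecDepth 1000000 in
theorem relc_122_3 : fixPtsF W_122 2777 8331 = true := by decide +kernel

set_option maxRecDepth 1000000 in
theorem relc_123_1 : fixPtsF W_123 2777 2777 = true := by decide +kernel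

set_option maxRecDepth 1000000 in
theorem relc_123_5 : fixPtsF W_123 2777 13885 = true := by decide +kernel

set_option maxRecDepth 1000000 in
theorem relc_124_3 : fixPtsF W_124 2777 8331 = true := by decide +kernel

set_option maxRecDepth 1000000 in
theorem relc_125_1 : fixPtsF W_125 2777 2777 = true := by decide +kernel

set_option maxRecDepth 1000000 in
theorem relc_125_5 : fixPtsF W_125 2777 13885 = true := by decide +kernel

set_option maxRecDepth 1000000 in
theorem relc_43_2 : fixPtsF W_43 5516 11764 = true := by decide +kernel

set_option maxRecDepth 1000000 in
theorem relc_47_2 : fixPtsF W_47 5516 11764 = true := by decide +kernel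

set_option maxRecDepth 1000000 in
theorem relc_51_2 : fixPtsF W_51 5516 11764 = true := by decide +kernel

set_option maxRecDepth 1000000 in
theorem relc_55_2 : fixPtsF W_55 5516 11764 = true := by decide +kernel

set_option maxRecDepth 1000000 in
theorem relc_113_5 : fixPtsF W_113 2575 14705 = true := by decide +kernel

set_option maxRecDepth 1000000 in
theorem relc_116_5 : fixPtsF W_116 2575 14705 = true := by decide +kernel

set_option maxRecDepth 1000000 in
theorem relc_94_4 : fixPtsF W_94 2996 14284 = true := by decide +kernel

set_option maxRecDepth 1000000 in
theorem relc_26_2 : fixPtsF W_26 4780 12500 = true := by decide +kernel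

set_option maxRecDepth 1000000 in
theorem relc_29_2 : fixPtsF W_29 4780 12500 = true := by decide +kernel

set_option maxRecDepth 1000000 in
theorem relc_33_2 : fixPtsF W_33 4780 12500 = true := by decide +kernel

set_option maxRecDepth 1000000 in
theorem relc_37_2 : fixPtsF W_37 4780 12500 = true := by decide +kernel

set_option maxRecDepth 1000000 in
theorem relc_23_2 : fixPtsF W_23 3948 13332 = true := by decide +kernel

set_option maxRecDepth 1000000 in
theorem relc_103_5 : fixPtsF W_103 1655 15625 = true := by decide +kernel

set_option maxRecDepth 1000000 in
theorem relc_107_5 : fixPtsF W_107 1655 15625 = true := by decide +kernel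

set_option maxRecDepth 1000000 in
theorem relc_111_5 : fixPtsF W_111 1655 15625 = true := by decide +kernel

set_option maxRecDepth 1000000 in
theorem relc_15_2 : fixPtsF W_15 2996 14284 = true := by decide +kernel

set_option maxRecDepth 1000000 in
theorem relc_1_0 : fixPtsF W_1 17280 0 = true := by decide +kernel

set_option maxRecDepth 1000000 in
theorem relc_71_3 : fixPtsF W_71 1491 15789 = true := by decide +kernel

set_option maxRecDepth 1000000 in
theorem relc_73_3 : fixPtsF W_73 1491 15789 = true := by decide +kernel

set_option maxRecDepth 1000000 in
theorem relc_77_3 : fixPtsF W_77 1491 15789 = true := by decide +kernel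

set_option maxRecDepth 1000000 in
theorem relc_81_3 : fixPtsF W_81 1491 15789 = true := by decide +kernel

set_option maxRecDepth 1000000 in
theorem relc_85_3 : fixPtsF W_85 1491 15789 = true := by decide +kernel

set_option maxRecDepth 1000000 in
theorem relc_13_2 : fixPtsF W_13 1896 15384 = true := by decide +kernel

set_option maxRecDepth 1000000 in
theorem inv_3_0 : invRowFI ctF 17280 3 2 17280 0 = true := by decide +kernel

set_option maxRecDepth 1000000 in
theorem relc_121_6 : fixPtsF W_121 618 16662 = true := by decide +kernel

set_option maxRecDepth 1000000 in
theorem relc_125_6 : fixPtsF W_125 618 16662 = true := by decide +kernel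

set_option maxRecDepth 1000000 in
theorem relc_101_5 : fixPtsF W_101 615 16665 = true := by decide +kernel

set_option maxRecDepth 1000000 in
theorem relc_58_3 : fixPtsF W_58 615 16665 = true := by decide +kernel

set_option maxRecDepth 1000000 in
theorem relc_59_3 : fixPtsF W_59 615 16665 = true := by decide +kernel

set_option maxRecDepth 1000000 in
theorem relc_63_3 : fixPtsF W_63 615 16665 = true := by decide +kernel

set_option maxRecDepth 1000000 in
theorem relc_67_3 : fixPtsF W_67 615 16665 = true := by decide +kernel

set_option maxRecDepth 1000000 in
theorem relc_8_2 : fixPtsF W_8 614 16666 = true := by decide +kernel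

end Cfsg.Agent.Helper5.M12DTC
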