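import Cfsg.Agent.Helper5.M12DTCDatD
import Cfsg.Agent.Helper5.M12DTCDatT
import Cfsg.Agent.Helper5.TCIB

/-! kernel checks of the coset table: M12DTC -/

set_option autoImplicit false
set_option Elab.async false

namespace Cfsg.Agent.Helper5.M12DTC
open Cfsg.Agent.Helper5.TC Cfsg.Agent.Helper5.TCI

set_option maxRecDepth 1000000 in
theorem relc_6_1 : fixPtsF W_6 8333 8333 = true := by decide +kernel

set_option maxRecDepth 1000000 in
theorem relc_8_0 : fixPtsF W_8 8333 0 = true := by decide +kernel

set_option maxRecDepth 1000000 in
theorem relc_10_0 : fixPtsF W_10 7692 0 = true := by decide +kernel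

set_option maxRecDepth 1000000 in
theorem relc_11_1 : fixPtsF W_11 7692 7692 = true := by decide +kernel

set_option maxRecDepth 1000000 in
theorem relc_13_1 : fixPtsF W_13 7692 7692 = true := by decide +kernel

set_option maxRecDepth 1000000 in
theorem relc_16_0 : fixPtsF W_16 7142 0 = true := by decide +kernel

set_option maxRecDepth 1000000 in
theorem relc_18_0 : fixPtsF W_18 6666 0 = true := by decide +kernel

set_option maxRecDepth 1000000 in
theorem relc_20_0 : fixPtsF W_20 6666 0 = true := by decide +kernel

set_option maxRecDepth 1000000 in
theorem relc_22_0 : fixPtsF W_22 6666 0 = true := by decide +kernel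

set_option maxRecDepth 1000000 in
theorem relc_24_0 : fixPtsF W_24 6666 0 = true := by decide +kernel

set_option maxRecDepth 1000000 in
theorem relc_26_0 : fixPtsF W_26 6250 0 = true := by decide +kernel

set_option maxRecDepth 1000000 in
theorem relc_27_1 : fixPtsF W_27 6250 6250 = true := by decide +kernel

set_option maxRecDepth 1000000 in
theorem relc_29_1 : fixPtsF W_29 6250 6250 = true := by decide +kernel

set_option maxRecDepth 1000000 in
theorem relc_31_1 : fixPtsF W_31 6250 6250 = true := by decide +kernel

set_option maxRecDepth 1000000 in
theorem relc_33_1 : fixPtsF W_33 6250 6250 = true := by decide +kernel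

set_option maxRecDepth 1000000 in
theorem relc_35_1 : fixPtsF W_35 6250 6250 = true := by decide +kernel

set_option maxRecDepth 1000000 in
theorem relc_37_1 : fixPtsF W_37 6250 6250 = true := by decide +kernel

set_option maxRecDepth 1000000 in
theorem relc_40_1 : fixPtsF W_40 5882 5882 = true := by decide +kernel

set_option maxRecDepth 1000000 in
theorem relc_42_1 : fixPtsF W_42 5882 5882 = true := by decide +kernel

set_option maxRecDepth 1000000 in
theorem relc_44_1 : fixPtsF W_44 5882 5882 = true := by decide +kernel

set_option maxRecDepth 1000000 in
theorem relc_46_1 : fixPtsF W_46 5882 5882 = true := by decide +kernel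

set_option maxRecDepth 1000000 in
theorem relc_48_1 : fixPtsF W_48 5882 5882 = true := by decide +kernel

set_option maxRecDepth 1000000 in
theorem relc_50_1 : fixPtsF W_50 5882 5882 = true := by decide +kernel

set_option maxRecDepth 1000000 in
theorem relc_52_1 : fixPtsF W_52 5882 5882 = true := by decide +kernel

set_option maxRecDepth 1000000 in
theorem relc_54_1 : fixPtsF W_54 5882 5882 = true := by decide +kernel

set_option maxRecDepth 1000000 in
theorem relc_56_1 : fixPtsF W_56 5882 5882 = true := by decide +kernel

set_option maxRecDepth 1000000 in
theorem relc_58_1 : fixPtsF W_58 5555 5555 = true := by decide +kernel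

set_option maxRecDepth 1000000 in
theorem relc_59_1 : fixPtsF W_59 5555 5555 = true := by decide +kernel

set_option maxRecDepth 1000000 in
theorem relc_60_2 : fixPtsF W_60 5555 11110 = true := by decide +kernel

set_option maxRecDepth 1000000 in
theorem relc_62_0 : fixPtsF W_62 5555 0 = true := by decide +kernel

set_option maxRecDepth 1000000 in
theorem relc_63_1 : fixPtsF W_63 5555 5555 = true := by decide +kernel

set_option maxRecDepth 1000000 in
theorem relc_64_2 : fixPtsF W_64 5555 11110 = true := by decide +kernel

set_option maxRecDepth 1000000 in
theorem relc_66_0 : fixPtsF W_66 5555 0 = true := by decide +kernel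

set_option maxRecDepth 1000000 in
theorem relc_67_1 : fixPtsF W_67 5555 5555 = true := by decide +kernel

set_option maxRecDepth 1000000 in
theorem relc_68_2 : fixPtsF W_68 5555 11110 = true := by decide +kernel

set_option maxRecDepth 1000000 in
theorem relc_70_0 : fixPtsF W_70 5263 0 = true := by decide +kernel

set_option maxRecDepth 1000000 in
theorem relc_71_0 : fixPtsF W_71 5263 0 = true := by decide +kernel

set_option maxRecDepth 1000000 in
theorem relc_72_1 : fixPtsF W_72 5263 5263 = true := by decide +kernel

set_option maxRecDepth 1000000 in
theorem relc_73_2 : fixPtsF W_73 5263 10526 = true := by decide +kernel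

set_option maxRecDepth 1000000 in
theorem relc_75_0 : fixPtsF W_75 5263 0 = true := by decide +kernel

set_option maxRecDepth 1000000 in
theorem relc_76_1 : fixPtsF W_76 5263 5263 = true := by decide +kernel

set_option maxRecDepth 1000000 in
theorem relc_77_2 : fixPtsF W_77 5263 10526 = true := by decide +kernel

set_option maxRecDepth 1000000 in
theorem relc_79_0 : fixPtsF W_79 5263 0 = true := by decide +kernel

set_option maxRecDepth 1000000 in
theorem relc_80_1 : fixPtsF W_80 5263 5263 = true := by decide +kernel

set_option maxRecDepth 1000000 in
theorem relc_81_2 : fixPtsF W_81 5263 10526 = true := by decide +kernel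

set_option maxRecDepth 1000000 in
theorem relc_83_0 : fixPtsF W_83 5263 0 = true := by decide +kernel

set_option maxRecDepth 1000000 in
theorem relc_84_1 : fixPtsF W_84 5263 5263 = true := by decide +kernel

set_option maxRecDepth 1000000 in
theorem relc_85_2 : fixPtsF W_85 5263 10526 = true := by decide +kernel

set_option maxRecDepth 1000000 in
theorem relc_87_2 : fixPtsF W_87 4545 9090 = true := by decide +kernel

set_option maxRecDepth 1000000 in
theorem relc_88_3 : fixPtsF W_88 4166 12498 = true := by decide +kernel

set_option maxRecDepth 1000000 in
theorem relc_89_3 : fixPtsF W_89 4166 12498 = true := by decide +kernel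

set_option maxRecDepth 1000000 in
theorem relc_90_3 : fixPtsF W_90 3846 11538 = true := by decide +kernel

set_option maxRecDepth 1000000 in
theorem relc_91_3 : fixPtsF W_91 3846 11538 = true := by decide +kernel

set_option maxRecDepth 1000000 in
theorem relc_92_3 : fixPtsF W_92 3571 10713 = true := by decide +kernel

set_option maxRecDepth 1000000 in
theorem relc_93_3 : fixPtsF W_93 3571 10713 = true := by decide +kernel

set_option maxRecDepth 1000000 in
theorem relc_94_3 : fixPtsF W_94 3571 10713 = true := by decide +kernel

set_option maxRecDepth 1000000 in
theorem relc_95_3 : fixPtsF W_95 3571 10713 = true := by decide +kernel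

set_option maxRecDepth 1000000 in
theorem relc_96_3 : fixPtsF W_96 3333 9999 = true := by decide +kernel

set_option maxRecDepth 1000000 in
theorem relc_97_2 : fixPtsF W_97 3333 6666 = true := by decide +kernel

set_option maxRecDepth 1000000 in
theorem relc_98_1 : fixPtsF W_98 3333 3333 = true := by decide +kernel

set_option maxRecDepth 1000000 in
theorem relc_99_0 : fixPtsF W_99 3333 0 = true := by decide +kernel

set_option maxRecDepth 1000000 in
theorem relc_99_4 : fixPtsF W_99 3333 13332 = true := by decide +kernel

set_option maxRecDepth 1000000 in
theorem relc_100_3 : fixPtsF W_100 3333 9999 = true := by decide +kernel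

set_option maxRecDepth 1000000 in
theorem relc_101_2 : fixPtsF W_101 3333 6666 = true := by decide +kernel

set_option maxRecDepth 1000000 in
theorem relc_102_1 : fixPtsF W_102 3125 3125 = true := by decide +kernel

set_option maxRecDepth 1000000 in
theorem relc_103_0 : fixPtsF W_103 3125 0 = true := by decide +kernel

set_option maxRecDepth 1000000 in
theorem relc_103_4 : fixPtsF W_103 3125 12500 = true := by decide +kernel

set_option maxRecDepth 1000000 in
theorem relc_104_3 : fixPtsF W_104 3125 9375 = true := by decide +kernel

set_option maxRecDepth 1000000 in
theorem relc_105_2 : fixPtsF W_105 3125 6250 = true := by decide +kernel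

set_option maxRecDepth 1000000 in
theorem relc_106_1 : fixPtsF W_106 3125 3125 = true := by decide +kernel

set_option maxRecDepth 1000000 in
theorem relc_107_0 : fixPtsF W_107 3125 0 = true := by decide +kernel

set_option maxRecDepth 1000000 in
theorem relc_107_4 : fixPtsF W_107 3125 12500 = true := by decide +kernel

set_option maxRecDepth 1000000 in
theorem relc_108_3 : fixPtsF W_108 3125 9375 = true := by decide +kernel

set_option maxRecDepth 1000000 in
theorem relc_109_2 : fixPtsF W_109 3125 6250 = true := by decide +kernel

set_option maxRecDepth 1000000 in
theorem relc_110_1 : fixPtsF W_110 3125 3125 = true := by decide +kernel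

set_option maxRecDepth 1000000 in
theorem relc_111_0 : fixPtsF W_111 3125 0 = true := by decide +kernel

set_option maxRecDepth 1000000 in
theorem relc_111_4 : fixPtsF W_111 3125 12500 = true := by decide +kernel

set_option maxRecDepth 1000000 in
theorem relc_112_3 : fixPtsF W_112 2941 8823 = true := by decide +kernel

set_option maxRecDepth 1000000 in
theorem relc_113_2 : fixPtsF W_113 2941 5882 = true := by decide +kernel

set_option maxRecDepth 1000000 in
theorem relc_114_1 : fixPtsF W_114 2941 2941 = true := by decide +kernel

set_option maxRecDepth 1000000 in
theorem relc_115_0 : fixPtsF W_115 2941 0 = true := by decide +kernel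

set_option maxRecDepth 1000000 in
theorem relc_115_4 : fixPtsF W_115 2941 11764 = true := by decide +kernel

set_option maxRecDepth 1000000 in
theorem relc_116_3 : fixPtsF W_116 2941 8823 = true := by decide +kernel

set_option maxRecDepth 1000000 in
theorem relc_117_2 : fixPtsF W_117 2941 5882 = true := by decide +kernel

set_option maxRecDepth 1000000 in
theorem relc_118_1 : fixPtsF W_118 2777 2777 = true := by decide +kernel

set_option maxRecDepth 1000000 in
theorem relc_118_5 : fixPtsF W_118 2777 13885 = true := by decide +kernel

set_option maxRecDepth 1000000 in
theorem relc_119_3 : fixPtsF W_119 2777 8331 = true := by decide +kernel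

set_option maxRecDepth 1000000 in
theorem relc_120_1 : fixPtsF W_120 2777 2777 = true := by decide +kernel

set_option maxRecDepth 1000000 in
theorem relc_120_5 : fixPtsF W_120 2777 13885 = true := by decide +kernel

set_option maxRecDepth 1000000 in
theorem relc_121_3 : fixPtsF W_121 2777 8331 = true := by decide +kernel

set_option maxRecDepth 1000000 in
theorem relc_122_1 : fixPtsF W_122 2777 2777 = true := by decide +kernel

set_option maxRecDepth 1000000 in
theorem relc_122_5 : fixPtsF W_122 2777 13885 = true := by decide +kernel

set_option maxRecDepth 1000000 in
theorem relc_123_3 : fixPtsF W_123 2777 8331 = true := by decide +kernel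

set_option maxRecDepth 1000000 in
theorem relc_124_1 : fixPtsF W_124 2777 2777 = true := by decide +kernel

set_option maxRecDepth 1000000 in
theorem relc_124_5 : fixPtsF W_124 2777 13885 = true := by decide +kernel

set_option maxRecDepth 1000000 in
theorem relc_125_3 : fixPtsF W_125 2777 8331 = true := by decide +kernel

set_option maxRecDepth 1000000 in
theorem relc_39_2 : fixPtsF W_39 5516 11764 = true := by decide +kernel

set_option maxRecDepth 1000000 in
theorem relc_42_2 : fixPtsF W_42 5516 11764 = true := by decide +kernel

set_option maxRecDepth 1000000 in
theorem relc_46_2 : fixPtsF W_46 5516 11764 = true := by decide +kernel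

set_option maxRecDepth 1000000 in
theorem relc_50_2 : fixPtsF W_50 5516 11764 = true := by decide +kernel

set_option maxRecDepth 1000000 in
theorem relc_54_2 : fixPtsF W_54 5516 11764 = true := by decide +kernel

set_option maxRecDepth 1000000 in
theorem relc_112_5 : fixPtsF W_112 2575 14705 = true := by decide +kernel

set_option maxRecDepth 1000000 in
theorem relc_115_5 : fixPtsF W_115 2575 14705 = true := by decide +kernel

set_option maxRecDepth 1000000 in
theorem relc_93_4 : fixPtsF W_93 2996 14284 = true := by decide +kernel

set_option maxRecDepth 1000000 in
theorem relc_87_3 : fixPtsF W_87 3645 13635 = true := by decide +kernel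

set_option maxRecDepth 1000000 in
theorem relc_30_2 : fixPtsF W_30 4780 12500 = true := by decide +kernel

set_option maxRecDepth 1000000 in
theorem relc_34_2 : fixPtsF W_34 4780 12500 = true := by decide +kernel

set_option maxRecDepth 1000000 in
theorem relc_5_0 : fixPtsF W_5 17280 0 = true := by decide +kernel

set_option maxRecDepth 1000000 in
theorem relc_22_2 : fixPtsF W_22 3948 13332 = true := by decide +kernel

set_option maxRecDepth 1000000 in
theorem relc_102_5 : fixPtsF W_102 1655 15625 = true := by decide +kernel

set_option maxRecDepth 1000000 in
theorem relc_104_5 : fixPtsF W_104 1655 15625 = true := by decide +kernel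

set_option maxRecDepth 1000000 in
theorem relc_108_5 : fixPtsF W_108 1655 15625 = true := by decide +kernel

set_option maxRecDepth 1000000 in
theorem relc_90_4 : fixPtsF W_90 1896 15384 = true := by decide +kernel

set_option maxRecDepth 1000000 in
theorem relc_16_2 : fixPtsF W_16 2996 14284 = true := by decide +kernel

set_option maxRecDepth 1000000 in
theorem relc_3_0 : fixPtsF W_3 17280 0 = true := by decide +kernel

set_option maxRecDepth 1000000 in
theorem relc_74_3 : fixPtsF W_74 1491 15789 = true := by decide +kernel

set_option maxRecDepth 1000000 in
theorem relc_78_3 : fixPtsF W_78 1491 15789 = true := by decide +kernel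

set_option maxRecDepth 1000000 in
theorem relc_82_3 : fixPtsF W_82 1491 15789 = true := by decide +kernel

set_option maxRecDepth 1000000 in
theorem relc_10_2 : fixPtsF W_10 1896 15384 = true := by decide +kernel

set_option maxRecDepth 1000000 in
theorem inv_0_0 : invRowFI ctF 17280 0 1 17280 0 = true := by decide +kernel

set_option maxRecDepth 1000000 in
theorem relc_118_6 : fixPtsF W_118 618 16662 = true := by decide +kernel

set_option maxRecDepth 1000000 in
theorem relc_122_6 : fixPtsF W_122 618 16662 = true := by decide +kernel

set_option maxRecDepth 1000000 in
theorem relc_96_5 : fixPtsF W_96 615 16665 = true := by decide +kernel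

set_option maxRecDepth 1000000 in
theorem relc_98_5 : fixPtsF W_98 615 16665 = true := by decide +kernel

set_option maxRecDepth 1000000 in
theorem conn_0 : connF ctF 4 17280 0 = true := by decide +kernel

set_option maxRecDepth 1000000 in
theorem relc_60_3 : fixPtsF W_60 615 16665 = true := by decide +kernel

set_option maxRecDepth 1000000 in
theorem relc_64_3 : fixPtsF W_64 615 16665 = true := by decide +kernel

set_option maxRecDepth 1000000 in
theorem relc_68_3 : fixPtsF W_68 615 16665 = true := by decide +kernel

set_option maxRecDepth 1000000 in
theorem relc_9_2 : fixPtsF W_9 614 16666 = true := by decide +kernel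

end Cfsg.Agent.Helper5.M12DTC
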