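import Cfsg.Agent.Helper5.M12DTCDatD
import Cfsg.Agent.Helper5.M12DTCDatT
import Cfsg.Agent.Helper5.TCIB

/-! kernel checks of the coset table: M12DTC -/

set_option autoImplicit false
set_option Elab.async false

namespace Cfsg.Agent.Helper5.M12DTC
open Cfsg.Agent.Helper5.TC Cfsg.Agent.Helper5.TCI

set_option maxRecDepth 1000000 in
theorem relc_7_0 : fixPtsF W_7 8333 0 = true := by decide +kernel

set_option maxRecDepth 1000000 in
theorem relc_8_1 : fixPtsF W_8 8333 8333 = true := by decide +kernel

set_option maxRecDepth 1000000 in
theorem relc_10_1 : fixPtsF W_10 7692 7692 = true := by decide +kernel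

set_option maxRecDepth 1000000 in
theorem relc_12_0 : fixPtsF W_12 7692 0 = true := by decide +kernel

set_option maxRecDepth 1000000 in
theorem relc_14_0 : fixPtsF W_14 7142 0 = true := by decide +kernel

set_option maxRecDepth 1000000 in
theorem relc_15_1 : fixPtsF W_15 7142 7142 = true := by decide +kernel

set_option maxRecDepth 1000000 in
theorem relc_17_1 : fixPtsF W_17 7142 7142 = true := by decide +kernel

set_option maxRecDepth 1000000 in
theorem relc_19_1 : fixPtsF W_19 6666 6666 = true := by decide +kernel

set_option maxRecDepth 1000000 in
theorem relc_21_1 : fixPtsF W_21 6666 6666 = true := by decide +kernel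

set_option maxRecDepth 1000000 in
theorem relc_23_1 : fixPtsF W_23 6666 6666 = true := by decide +kernel

set_option maxRecDepth 1000000 in
theorem relc_25_1 : fixPtsF W_25 6666 6666 = true := by decide +kernel

set_option maxRecDepth 1000000 in
theorem relc_28_1 : fixPtsF W_28 6250 6250 = true := by decide +kernel

set_option maxRecDepth 1000000 in
theorem relc_30_1 : fixPtsF W_30 6250 6250 = true := by decide +kernel

set_option maxRecDepth 1000000 in
theorem relc_32_1 : fixPtsF W_32 6250 6250 = true := by decide +kernel

set_option maxRecDepth 1000000 in
theorem relc_34_1 : fixPtsF W_34 6250 6250 = true := by decide +kernel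

set_option maxRecDepth 1000000 in
theorem relc_36_1 : fixPtsF W_36 6250 6250 = true := by decide +kernel

set_option maxRecDepth 1000000 in
theorem relc_38_1 : fixPtsF W_38 5882 5882 = true := by decide +kernel

set_option maxRecDepth 1000000 in
theorem relc_40_0 : fixPtsF W_40 5882 0 = true := by decide +kernel

set_option maxRecDepth 1000000 in
theorem relc_42_0 : fixPtsF W_42 5882 0 = true := by decide +kernel

set_option maxRecDepth 1000000 in
theorem relc_44_0 : fixPtsF W_44 5882 0 = true := by decide +kernel

set_option maxRecDepth 1000000 in
theorem relc_46_0 : fixPtsF W_46 5882 0 = true := by decide +kernel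

set_option maxRecDepth 1000000 in
theorem relc_48_0 : fixPtsF W_48 5882 0 = true := by decide +kernel

set_option maxRecDepth 1000000 in
theorem relc_50_0 : fixPtsF W_50 5882 0 = true := by decide +kernel

set_option maxRecDepth 1000000 in
theorem relc_52_0 : fixPtsF W_52 5882 0 = true := by decide +kernel

set_option maxRecDepth 1000000 in
theorem relc_54_0 : fixPtsF W_54 5882 0 = true := by decide +kernel

set_option maxRecDepth 1000000 in
theorem relc_56_0 : fixPtsF W_56 5882 0 = true := by decide +kernel

set_option maxRecDepth 1000000 in
theorem relc_58_0 : fixPtsF W_58 5555 0 = true := by decide +kernel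

set_option maxRecDepth 1000000 in
theorem relc_59_0 : fixPtsF W_59 5555 0 = true := by decide +kernel

set_option maxRecDepth 1000000 in
theorem relc_60_1 : fixPtsF W_60 5555 5555 = true := by decide +kernel

set_option maxRecDepth 1000000 in
theorem relc_61_2 : fixPtsF W_61 5555 11110 = true := by decide +kernel

set_option maxRecDepth 1000000 in
theorem relc_63_0 : fixPtsF W_63 5555 0 = true := by decide +kernel

set_option maxRecDepth 1000000 in
theorem relc_64_1 : fixPtsF W_64 5555 5555 = true := by decide +kernel

set_option maxRecDepth 1000000 in
theorem relc_65_2 : fixPtsF W_65 5555 11110 = true := by decide +kernel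

set_option maxRecDepth 1000000 in
theorem relc_67_0 : fixPtsF W_67 5555 0 = true := by decide +kernel

set_option maxRecDepth 1000000 in
theorem relc_68_1 : fixPtsF W_68 5555 5555 = true := by decide +kernel

set_option maxRecDepth 1000000 in
theorem relc_69_2 : fixPtsF W_69 5555 11110 = true := by decide +kernel

set_option maxRecDepth 1000000 in
theorem relc_71_2 : fixPtsF W_71 5263 10526 = true := by decide +kernel

set_option maxRecDepth 1000000 in
theorem relc_73_0 : fixPtsF W_73 5263 0 = true := by decide +kernel

set_option maxRecDepth 1000000 in
theorem relc_74_1 : fixPtsF W_74 5263 5263 = true := by decide +kernel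

set_option maxRecDepth 1000000 in
theorem relc_75_2 : fixPtsF W_75 5263 10526 = true := by decide +kernel

set_option maxRecDepth 1000000 in
theorem relc_77_0 : fixPtsF W_77 5263 0 = true := by decide +kernel

set_option maxRecDepth 1000000 in
theorem relc_78_1 : fixPtsF W_78 5263 5263 = true := by decide +kernel

set_option maxRecDepth 1000000 in
theorem relc_79_2 : fixPtsF W_79 5263 10526 = true := by decide +kernel

set_option maxRecDepth 1000000 in
theorem relc_81_0 : fixPtsF W_81 5263 0 = true := by decide +kernel

set_option maxRecDepth 1000000 in
theorem relc_82_1 : fixPtsF W_82 5263 5263 = true := by decide +kernel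

set_option maxRecDepth 1000000 in
theorem relc_83_2 : fixPtsF W_83 5263 10526 = true := by decide +kernel

set_option maxRecDepth 1000000 in
theorem relc_85_0 : fixPtsF W_85 5263 0 = true := by decide +kernel

set_option maxRecDepth 1000000 in
theorem relc_86_1 : fixPtsF W_86 4545 4545 = true := by decide +kernel

set_option maxRecDepth 1000000 in
theorem relc_87_1 : fixPtsF W_87 4545 4545 = true := by decide +kernel

set_option maxRecDepth 1000000 in
theorem relc_88_2 : fixPtsF W_88 4166 8332 = true := by decide +kernel

set_option maxRecDepth 1000000 in
theorem relc_89_2 : fixPtsF W_89 4166 8332 = true := by decide +kernel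

set_option maxRecDepth 1000000 in
theorem relc_90_2 : fixPtsF W_90 3846 7692 = true := by decide +kernel

set_option maxRecDepth 1000000 in
theorem relc_91_2 : fixPtsF W_91 3846 7692 = true := by decide +kernel

set_option maxRecDepth 1000000 in
theorem relc_92_2 : fixPtsF W_92 3571 7142 = true := by decide +kernel

set_option maxRecDepth 1000000 in
theorem relc_93_2 : fixPtsF W_93 3571 7142 = true := by decide +kernel

set_option maxRecDepth 1000000 in
theorem relc_94_2 : fixPtsF W_94 3571 7142 = true := by decide +kernel

set_option maxRecDepth 1000000 in
theorem relc_95_2 : fixPtsF W_95 3571 7142 = true := by decide +kernel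

set_option maxRecDepth 1000000 in
theorem relc_96_2 : fixPtsF W_96 3333 6666 = true := by decide +kernel

set_option maxRecDepth 1000000 in
theorem relc_97_1 : fixPtsF W_97 3333 3333 = true := by decide +kernel

set_option maxRecDepth 1000000 in
theorem relc_98_0 : fixPtsF W_98 3333 0 = true := by decide +kernel

set_option maxRecDepth 1000000 in
theorem relc_98_4 : fixPtsF W_98 3333 13332 = true := by decide +kernel

set_option maxRecDepth 1000000 in
theorem relc_99_3 : fixPtsF W_99 3333 9999 = true := by decide +kernel

set_option maxRecDepth 1000000 in
theorem relc_100_2 : fixPtsF W_100 3333 6666 = true := by decide +kernel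

set_option maxRecDepth 1000000 in
theorem relc_101_1 : fixPtsF W_101 3333 3333 = true := by decide +kernel

set_option maxRecDepth 1000000 in
theorem relc_102_0 : fixPtsF W_102 3125 0 = true := by decide +kernel

set_option maxRecDepth 1000000 in
theorem relc_102_3 : fixPtsF W_102 3125 9375 = true := by decide +kernel

set_option maxRecDepth 1000000 in
theorem relc_103_2 : fixPtsF W_103 3125 6250 = true := by decide +kernel

set_option maxRecDepth 1000000 in
theorem relc_104_1 : fixPtsF W_104 3125 3125 = true := by decide +kernel

set_option maxRecDepth 1000000 in
theorem relc_105_0 : fixPtsF W_105 3125 0 = true := by decide +kernel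

set_option maxRecDepth 1000000 in
theorem relc_105_4 : fixPtsF W_105 3125 12500 = true := by decide +kernel

set_option maxRecDepth 1000000 in
theorem relc_106_3 : fixPtsF W_106 3125 9375 = true := by decide +kernel

set_option maxRecDepth 1000000 in
theorem relc_107_2 : fixPtsF W_107 3125 6250 = true := by decide +kernel

set_option maxRecDepth 1000000 in
theorem relc_108_1 : fixPtsF W_108 3125 3125 = true := by decide +kernel

set_option maxRecDepth 1000000 in
theorem relc_109_0 : fixPtsF W_109 3125 0 = true := by decide +kernel

set_option maxRecDepth 1000000 in
theorem relc_109_4 : fixPtsF W_109 3125 12500 = true := by decide +kernel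

set_option maxRecDepth 1000000 in
theorem relc_110_3 : fixPtsF W_110 3125 9375 = true := by decide +kernel

set_option maxRecDepth 1000000 in
theorem relc_111_2 : fixPtsF W_111 3125 6250 = true := by decide +kernel

set_option maxRecDepth 1000000 in
theorem relc_112_1 : fixPtsF W_112 2941 2941 = true := by decide +kernel

set_option maxRecDepth 1000000 in
theorem relc_113_0 : fixPtsF W_113 2941 0 = true := by decide +kernel

set_option maxRecDepth 1000000 in
theorem relc_113_4 : fixPtsF W_113 2941 11764 = true := by decide +kernel

set_option maxRecDepth 1000000 in
theorem relc_114_3 : fixPtsF W_114 2941 8823 = true := by decide +kernel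

set_option maxRecDepth 1000000 in
theorem relc_115_2 : fixPtsF W_115 2941 5882 = true := by decide +kernel

set_option maxRecDepth 1000000 in
theorem relc_116_1 : fixPtsF W_116 2941 2941 = true := by decide +kernel

set_option maxRecDepth 1000000 in
theorem relc_117_0 : fixPtsF W_117 2941 0 = true := by decide +kernel

set_option maxRecDepth 1000000 in
theorem relc_117_4 : fixPtsF W_117 2941 11764 = true := by decide +kernel

set_option maxRecDepth 1000000 in
theorem relc_118_4 : fixPtsF W_118 2777 11108 = true := by decide +kernel

set_option maxRecDepth 1000000 in
theorem relc_119_2 : fixPtsF W_119 2777 5554 = true := by decide +kernel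

set_option maxRecDepth 1000000 in
theorem relc_120_0 : fixPtsF W_120 2777 0 = true := by decide +kernel

set_option maxRecDepth 1000000 in
theorem relc_120_4 : fixPtsF W_120 2777 11108 = true := by decide +kernel

set_option maxRecDepth 1000000 in
theorem relc_121_2 : fixPtsF W_121 2777 5554 = true := by decide +kernel

set_option maxRecDepth 1000000 in
theorem relc_122_0 : fixPtsF W_122 2777 0 = true := by decide +kernel

set_option maxRecDepth 1000000 in
theorem relc_122_4 : fixPtsF W_122 2777 11108 = true := by decide +kernel

set_option maxRecDepth 1000000 in
theorem relc_123_2 : fixPtsF W_123 2777 5554 = true := by decide +kernel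

set_option maxRecDepth 1000000 in
theorem relc_124_0 : fixPtsF W_124 2777 0 = true := by decide +kernel

set_option maxRecDepth 1000000 in
theorem relc_124_4 : fixPtsF W_124 2777 11108 = true := by decide +kernel

set_option maxRecDepth 1000000 in
theorem relc_125_2 : fixPtsF W_125 2777 5554 = true := by decide +kernel

set_option maxRecDepth 1000000 in
theorem relc_38_2 : fixPtsF W_38 5516 11764 = true := by decide +kernel

set_option maxRecDepth 1000000 in
theorem relc_41_2 : fixPtsF W_41 5516 11764 = true := by decide +kernel

set_option maxRecDepth 1000000 in
theorem relc_45_2 : fixPtsF W_45 5516 11764 = true := by decide +kernel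

set_option maxRecDepth 1000000 in
theorem relc_49_2 : fixPtsF W_49 5516 11764 = true := by decide +kernel

set_option maxRecDepth 1000000 in
theorem relc_53_2 : fixPtsF W_53 5516 11764 = true := by decide +kernel

set_option maxRecDepth 1000000 in
theorem relc_57_2 : fixPtsF W_57 5516 11764 = true := by decide +kernel

set_option maxRecDepth 1000000 in
theorem relc_92_4 : fixPtsF W_92 2996 14284 = true := by decide +kernel

set_option maxRecDepth 1000000 in
theorem relc_86_3 : fixPtsF W_86 3645 13635 = true := by decide +kernel

set_option maxRecDepth 1000000 in
theorem relc_28_2 : fixPtsF W_28 4780 12500 = true := by decide +kernel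

set_option maxRecDepth 1000000 in
theorem relc_32_2 : fixPtsF W_32 4780 12500 = true := by decide +kernel

set_option maxRecDepth 1000000 in
theorem relc_36_2 : fixPtsF W_36 4780 12500 = true := by decide +kernel

set_option maxRecDepth 1000000 in
theorem relc_19_2 : fixPtsF W_19 3948 13332 = true := by decide +kernel

set_option maxRecDepth 1000000 in
theorem relc_21_2 : fixPtsF W_21 3948 13332 = true := by decide +kernel

set_option maxRecDepth 1000000 in
theorem relc_25_2 : fixPtsF W_25 3948 13332 = true := by decide +kernel

set_option maxRecDepth 1000000 in
theorem relc_106_5 : fixPtsF W_106 1655 15625 = true := by decide +kernel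

set_option maxRecDepth 1000000 in
theorem relc_110_5 : fixPtsF W_110 1655 15625 = true := by decide +kernel

set_option maxRecDepth 1000000 in
theorem relc_14_2 : fixPtsF W_14 2996 14284 = true := by decide +kernel

set_option maxRecDepth 1000000 in
theorem relc_17_2 : fixPtsF W_17 2996 14284 = true := by decide +kernel

set_option maxRecDepth 1000000 in
theorem relc_4_0 : fixPtsF W_4 17280 0 = true := by decide +kernel

set_option maxRecDepth 1000000 in
theorem relc_75_3 : fixPtsF W_75 1491 15789 = true := by decide +kernel

set_option maxRecDepth 1000000 in
theorem relc_79_3 : fixPtsF W_79 1491 15789 = true := by decide +kernel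

set_option maxRecDepth 1000000 in
theorem relc_83_3 : fixPtsF W_83 1491 15789 = true := by decide +kernel

set_option maxRecDepth 1000000 in
theorem relc_11_2 : fixPtsF W_11 1896 15384 = true := by decide +kernel

set_option maxRecDepth 1000000 in
theorem inv_1_0 : invRowFI ctF 17280 1 0 17280 0 = true := by decide +kernel

set_option maxRecDepth 1000000 in
theorem relc_119_6 : fixPtsF W_119 618 16662 = true := by decide +kernel

set_option maxRecDepth 1000000 in
theorem relc_123_6 : fixPtsF W_123 618 16662 = true := by decide +kernel

set_option maxRecDepth 1000000 in
theorem relc_97_5 : fixPtsF W_97 615 16665 = true := by decide +kernel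

set_option maxRecDepth 1000000 in
theorem relc_99_5 : fixPtsF W_99 615 16665 = true := by decide +kernel

set_option maxRecDepth 1000000 in
theorem relc_88_4 : fixPtsF W_88 616 16664 = true := by decide +kernel

set_option maxRecDepth 1000000 in
theorem relc_61_3 : fixPtsF W_61 615 16665 = true := by decide +kernel

set_option maxRecDepth 1000000 in
theorem relc_65_3 : fixPtsF W_65 615 16665 = true := by decide +kernel

set_option maxRecDepth 1000000 in
theorem relc_69_3 : fixPtsF W_69 615 16665 = true := by decide +kernel

end Cfsg.Agent.Helper5.M12DTC
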