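import Cfsg.Agent.Helper5.M12DTCChkE0
import Cfsg.Agent.Helper5.M12DTCChkE1
import Cfsg.Agent.Helper5.M12DTCChkR0
import Cfsg.Agent.Helper5.M12DTCChkR1
import Cfsg.Agent.Helper5.M12DTCChkR2
import Cfsg.Agent.Helper5.M12DTCChkR3
import Cfsg.Agent.Helper5.M12DTCChkA
import Cfsg.Agent.Helper5.TCIB

/-! summary of the kernel checks: M12DTC -/

set_option autoImplicit false
set_option Elab.async false

namespace Cfsg.Agent.Helper5.M12DTC
open Cfsg.Agent.Helper5.TC Cfsg.Agent.Helper5.TCI

theorem edgesx_0 : ∀ v, v < 205580 → edgeOKI iota E 0 v = true := by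
  intro v hv
  rcases Nat.lt_or_ge v 102078 with h | h
  · rcases Nat.lt_or_ge v 49858 with h | h
    · rcases Nat.lt_or_ge v 23101 with h | h
      · rcases Nat.lt_or_ge v 10577 with h | h
        · rcases Nat.lt_or_ge v 5624 with h | h
          · rcases Nat.lt_or_ge v 2877 with h | h
            · exact edgesRangeI_spec iota E 0 2877 0 edges_0_0 v (by omega) (by omega)
            · exact edgesRangeI_spec iota E 0 2747 2877 edges_0_1 v (by omega) (by omega)
          · rcases Nat.lt_or_ge v 8146 with h | h
            · exact edgesRangeI_spec iota E 0 2522 5624 edges_0_2 v (by omega) (by omega)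
            · exact edgesRangeI_spec iota E 0 2431 8146 edges_0_3 v (by omega) (by omega)
        · rcases Nat.lt_or_ge v 15627 with h | h
          · rcases Nat.lt_or_ge v 13065 with h | h
            · exact edgesRangeI_spec iota E 0 2488 10577 edges_0_4 v (by omega) (by omega)
            · exact edgesRangeI_spec iota E 0 2562 13065 edges_0_5 v (by omega) (by omega)
          · rcases Nat.lt_or_ge v 17979 with h | h
            · exact edgesRangeI_spec iota E 0 2352 15627 edges_0_6 v (by omega) (by omega)
            · rcases Nat.lt_or_ge v 20531 with h | h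
              · exact edgesRangeI_spec iota E 0 2552 17979 edges_0_7 v (by omega) (by omega)
              · exact edgesRangeI_spec iota E 0 2570 20531 edges_0_8 v (by omega) (by omega)
      · rcases Nat.lt_or_ge v 36219 with h | h
        · rcases Nat.lt_or_ge v 28295 with h | h
          · rcases Nat.lt_or_ge v 25796 with h | h
            · exact edgesRangeI_spec iota E 0 2695 23101 edges_0_9 v (by omega) (by omega)
            · exact edgesRangeI_spec iota E 0 2499 25796 edges_0_10 v (by omega) (by omega)
          · rcases Nat.lt_or_ge v 31100 with h | h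
            · exact edgesRangeI_spec iota E 0 2805 28295 edges_0_11 v (by omega) (by omega)
            · rcases Nat.lt_or_ge v 33933 with h | h
              · exact edgesRangeI_spec iota E 0 2833 31100 edges_0_12 v (by omega) (by omega)
              · exact edgesRangeI_spec iota E 0 2286 33933 edges_0_13 v (by omega) (by omega)
        · rcases Nat.lt_or_ge v 41520 with h | h
          · rcases Nat.lt_or_ge v 38799 with h | h
            · exact edgesRangeI_spec iota E 0 2580 36219 edges_0_14 v (by omega) (by omega)
            · exact edgesRangeI_spec iota E 0 2721 38799 edges_0_15 v (by omega) (by omega)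
          · rcases Nat.lt_or_ge v 44128 with h | h
            · exact edgesRangeI_spec iota E 0 2608 41520 edges_0_16 v (by omega) (by omega)
            · rcases Nat.lt_or_ge v 47229 with h | h
              · exact edgesRangeI_spec iota E 0 3101 44128 edges_0_17 v (by omega) (by omega)
              · exact edgesRangeI_spec iota E 0 2629 47229 edges_0_18 v (by omega) (by omega)
    · rcases Nat.lt_or_ge v 74726 with h | h
      · rcases Nat.lt_or_ge v 62161 with h | h
        · rcases Nat.lt_or_ge v 55014 with h | h
          · rcases Nat.lt_or_ge v 52183 with h | h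
            · exact edgesRangeI_spec iota E 0 2325 49858 edges_0_19 v (by omega) (by omega)
            · exact edgesRangeI_spec iota E 0 2831 52183 edges_0_20 v (by omega) (by omega)
          · rcases Nat.lt_or_ge v 57254 with h | h
            · exact edgesRangeI_spec iota E 0 2240 55014 edges_0_21 v (by omega) (by omega)
            · rcases Nat.lt_or_ge v 59533 with h | h
              · exact edgesRangeI_spec iota E 0 2279 57254 edges_0_22 v (by omega) (by omega)
              · exact edgesRangeI_spec iota E 0 2628 59533 edges_0_23 v (by omega) (by omega)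
        · rcases Nat.lt_or_ge v 67184 with h | h
          · rcases Nat.lt_or_ge v 64743 with h | h
            · exact edgesRangeI_spec iota E 0 2582 62161 edges_0_24 v (by omega) (by omega)
            · exact edgesRangeI_spec iota E 0 2441 64743 edges_0_25 v (by omega) (by omega)
          · rcases Nat.lt_or_ge v 69421 with h | h
            · exact edgesRangeI_spec iota E 0 2237 67184 edges_0_26 v (by omega) (by omega)
            · rcases Nat.lt_or_ge v 72123 with h | h
              · exact edgesRangeI_spec iota E 0 2702 69421 edges_0_27 v (by omega) (by omega)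
              · exact edgesRangeI_spec iota E 0 2603 72123 edges_0_28 v (by omega) (by omega)
      · rcases Nat.lt_or_ge v 88188 with h | h
        · rcases Nat.lt_or_ge v 79797 with h | h
          · rcases Nat.lt_or_ge v 77239 with h | h
            · exact edgesRangeI_spec iota E 0 2513 74726 edges_0_29 v (by omega) (by omega)
            · exact edgesRangeI_spec iota E 0 2558 77239 edges_0_30 v (by omega) (by omega)
          · rcases Nat.lt_or_ge v 82650 with h | h
            · exact edgesRangeI_spec iota E 0 2853 79797 edges_0_31 v (by omega) (by omega)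
            · rcases Nat.lt_or_ge v 85067 with h | h
              · exact edgesRangeI_spec iota E 0 2417 82650 edges_0_32 v (by omega) (by omega)
              · exact edgesRangeI_spec iota E 0 3121 85067 edges_0_33 v (by omega) (by omega)
        · rcases Nat.lt_or_ge v 93884 with h | h
          · rcases Nat.lt_or_ge v 91153 with h | h
            · exact edgesRangeI_spec iota E 0 2965 88188 edges_0_34 v (by omega) (by omega)
            · exact edgesRangeI_spec iota E 0 2731 91153 edges_0_35 v (by omega) (by omega)
          · rcases Nat.lt_or_ge v 96540 with h | h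
            · exact edgesRangeI_spec iota E 0 2656 93884 edges_0_36 v (by omega) (by omega)
            · rcases Nat.lt_or_ge v 99289 with h | h
              · exact edgesRangeI_spec iota E 0 2749 96540 edges_0_37 v (by omega) (by omega)
              · exact edgesRangeI_spec iota E 0 2789 99289 edges_0_38 v (by omega) (by omega)
  · rcases Nat.lt_or_ge v 154314 with h | h
    · rcases Nat.lt_or_ge v 128224 with h | h
      · rcases Nat.lt_or_ge v 115487 with h | h
        · rcases Nat.lt_or_ge v 107742 with h | h
          · rcases Nat.lt_or_ge v 105063 with h | h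
            · exact edgesRangeI_spec iota E 0 2985 102078 edges_0_39 v (by omega) (by omega)
            · exact edgesRangeI_spec iota E 0 2679 105063 edges_0_40 v (by omega) (by omega)
          · rcases Nat.lt_or_ge v 110596 with h | h
            · exact edgesRangeI_spec iota E 0 2854 107742 edges_0_41 v (by omega) (by omega)
            · rcases Nat.lt_or_ge v 113163 with h | h
              · exact edgesRangeI_spec iota E 0 2567 110596 edges_0_42 v (by omega) (by omega)
              · exact edgesRangeI_spec iota E 0 2324 113163 edges_0_43 v (by omega) (by omega)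
        · rcases Nat.lt_or_ge v 120734 with h | h
          · rcases Nat.lt_or_ge v 118031 with h | h
            · exact edgesRangeI_spec iota E 0 2544 115487 edges_0_44 v (by omega) (by omega)
            · exact edgesRangeI_spec iota E 0 2703 118031 edges_0_45 v (by omega) (by omega)
          · rcases Nat.lt_or_ge v 123333 with h | h
            · exact edgesRangeI_spec iota E 0 2599 120734 edges_0_46 v (by omega) (by omega)
            · rcases Nat.lt_or_ge v 125673 with h | h
              · exact edgesRangeI_spec iota E 0 2340 123333 edges_0_47 v (by omega) (by omega)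
              · exact edgesRangeI_spec iota E 0 2551 125673 edges_0_48 v (by omega) (by omega)
      · rcases Nat.lt_or_ge v 141602 with h | h
        · rcases Nat.lt_or_ge v 133428 with h | h
          · rcases Nat.lt_or_ge v 130932 with h | h
            · exact edgesRangeI_spec iota E 0 2708 128224 edges_0_49 v (by omega) (by omega)
            · exact edgesRangeI_spec iota E 0 2496 130932 edges_0_50 v (by omega) (by omega)
          · rcases Nat.lt_or_ge v 136559 with h | h
            · exact edgesRangeI_spec iota E 0 3131 133428 edges_0_51 v (by omega) (by omega)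
            · rcases Nat.lt_or_ge v 138988 with h | h
              · exact edgesRangeI_spec iota E 0 2429 136559 edges_0_52 v (by omega) (by omega)
              · exact edgesRangeI_spec iota E 0 2614 138988 edges_0_53 v (by omega) (by omega)
        · rcases Nat.lt_or_ge v 146687 with h | h
          · rcases Nat.lt_or_ge v 144319 with h | h
            · exact edgesRangeI_spec iota E 0 2717 141602 edges_0_54 v (by omega) (by omega)
            · exact edgesRangeI_spec iota E 0 2368 144319 edges_0_55 v (by omega) (by omega)
          · rcases Nat.lt_or_ge v 149247 with h | h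
            · exact edgesRangeI_spec iota E 0 2560 146687 edges_0_56 v (by omega) (by omega)
            · rcases Nat.lt_or_ge v 151665 with h | h
              · exact edgesRangeI_spec iota E 0 2418 149247 edges_0_57 v (by omega) (by omega)
              · exact edgesRangeI_spec iota E 0 2649 151665 edges_0_58 v (by omega) (by omega)
    · rcases Nat.lt_or_ge v 180660 with h | h
      · rcases Nat.lt_or_ge v 167500 with h | h
        · rcases Nat.lt_or_ge v 159376 with h | h
          · rcases Nat.lt_or_ge v 156856 with h | h
            · exact edgesRangeI_spec iota E 0 2542 154314 edges_0_59 v (by omega) (by omega)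
            · exact edgesRangeI_spec iota E 0 2520 156856 edges_0_60 v (by omega) (by omega)
          · rcases Nat.lt_or_ge v 161784 with h | h
            · exact edgesRangeI_spec iota E 0 2408 159376 edges_0_61 v (by omega) (by omega)
            · rcases Nat.lt_or_ge v 164597 with h | h
              · exact edgesRangeI_spec iota E 0 2813 161784 edges_0_62 v (by omega) (by omega)
              · exact edgesRangeI_spec iota E 0 2903 164597 edges_0_63 v (by omega) (by omega)
        · rcases Nat.lt_or_ge v 172856 with h | h
          · rcases Nat.lt_or_ge v 170240 with h | h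
            · exact edgesRangeI_spec iota E 0 2740 167500 edges_0_64 v (by omega) (by omega)
            · exact edgesRangeI_spec iota E 0 2616 170240 edges_0_65 v (by omega) (by omega)
          · rcases Nat.lt_or_ge v 175249 with h | h
            · exact edgesRangeI_spec iota E 0 2393 172856 edges_0_66 v (by omega) (by omega)
            · rcases Nat.lt_or_ge v 177902 with h | h
              · exact edgesRangeI_spec iota E 0 2653 175249 edges_0_67 v (by omega) (by omega)
              · exact edgesRangeI_spec iota E 0 2758 177902 edges_0_68 v (by omega) (by omega)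
      · rcases Nat.lt_or_ge v 193697 with h | h
        · rcases Nat.lt_or_ge v 185660 with h | h
          · rcases Nat.lt_or_ge v 183106 with h | h
            · exact edgesRangeI_spec iota E 0 2446 180660 edges_0_69 v (by omega) (by omega)
            · exact edgesRangeI_spec iota E 0 2554 183106 edges_0_70 v (by omega) (by omega)
          · rcases Nat.lt_or_ge v 188541 with h | h
            · exact edgesRangeI_spec iota E 0 2881 185660 edges_0_71 v (by omega) (by omega)
            · rcases Nat.lt_or_ge v 191328 with h | h
              · exact edgesRangeI_spec iota E 0 2787 188541 edges_0_72 v (by omega) (by omega)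
              · exact edgesRangeI_spec iota E 0 2369 191328 edges_0_73 v (by omega) (by omega)
        · rcases Nat.lt_or_ge v 199284 with h | h
          · rcases Nat.lt_or_ge v 196455 with h | h
            · exact edgesRangeI_spec iota E 0 2758 193697 edges_0_74 v (by omega) (by omega)
            · exact edgesRangeI_spec iota E 0 2829 196455 edges_0_75 v (by omega) (by omega)
          · rcases Nat.lt_or_ge v 201785 with h | h
            · exact edgesRangeI_spec iota E 0 2501 199284 edges_0_76 v (by omega) (by omega)
            · rcases Nat.lt_or_ge v 204536 with h | h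
              · exact edgesRangeI_spec iota E 0 2751 201785 edges_0_77 v (by omega) (by omega)
              · exact edgesRangeI_spec iota E 0 1044 204536 edges_0_78 v (by omega) (by omega)

theorem edgesx_1 : ∀ v, v < 205580 → edgeOKI iota E 1 v = true := by
  intro v hv
  rcases Nat.lt_or_ge v 104076 with h | h
  · rcases Nat.lt_or_ge v 49848 with h | h
    · rcases Nat.lt_or_ge v 24593 with h | h
      · rcases Nat.lt_or_ge v 11498 with h | h
        · rcases Nat.lt_or_ge v 5862 with h | h
          · rcases Nat.lt_or_ge v 2733 with h | h
            · exact edgesRangeI_spec iota E 1 2733 0 edges_1_0 v (by omega) (by omega)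
            · exact edgesRangeI_spec iota E 1 3129 2733 edges_1_1 v (by omega) (by omega)
          · rcases Nat.lt_or_ge v 8949 with h | h
            · exact edgesRangeI_spec iota E 1 3087 5862 edges_1_2 v (by omega) (by omega)
            · exact edgesRangeI_spec iota E 1 2549 8949 edges_1_3 v (by omega) (by omega)
        · rcases Nat.lt_or_ge v 16923 with h | h
          · rcases Nat.lt_or_ge v 14137 with h | h
            · exact edgesRangeI_spec iota E 1 2639 11498 edges_1_4 v (by omega) (by omega)
            · exact edgesRangeI_spec iota E 1 2786 14137 edges_1_5 v (by omega) (by omega)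
          · rcases Nat.lt_or_ge v 19652 with h | h
            · exact edgesRangeI_spec iota E 1 2729 16923 edges_1_6 v (by omega) (by omega)
            · rcases Nat.lt_or_ge v 22393 with h | h
              · exact edgesRangeI_spec iota E 1 2741 19652 edges_1_7 v (by omega) (by omega)
              · exact edgesRangeI_spec iota E 1 2200 22393 edges_1_8 v (by omega) (by omega)
      · rcases Nat.lt_or_ge v 35445 with h | h
        · rcases Nat.lt_or_ge v 30144 with h | h
          · rcases Nat.lt_or_ge v 27256 with h | h
            · exact edgesRangeI_spec iota E 1 2663 24593 edges_1_9 v (by omega) (by omega)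
            · exact edgesRangeI_spec iota E 1 2888 27256 edges_1_10 v (by omega) (by omega)
          · rcases Nat.lt_or_ge v 33009 with h | h
            · exact edgesRangeI_spec iota E 1 2865 30144 edges_1_11 v (by omega) (by omega)
            · exact edgesRangeI_spec iota E 1 2436 33009 edges_1_12 v (by omega) (by omega)
        · rcases Nat.lt_or_ge v 40772 with h | h
          · rcases Nat.lt_or_ge v 38411 with h | h
            · exact edgesRangeI_spec iota E 1 2966 35445 edges_1_13 v (by omega) (by omega)
            · exact edgesRangeI_spec iota E 1 2361 38411 edges_1_14 v (by omega) (by omega)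
          · rcases Nat.lt_or_ge v 43352 with h | h
            · exact edgesRangeI_spec iota E 1 2580 40772 edges_1_15 v (by omega) (by omega)
            · rcases Nat.lt_or_ge v 45651 with h | h
              · exact edgesRangeI_spec iota E 1 2299 43352 edges_1_16 v (by omega) (by omega)
              · exact edgesRangeI_spec iota E 1 4197 45651 edges_1_17 v (by omega) (by omega)
    · rcases Nat.lt_or_ge v 74321 with h | h
      · rcases Nat.lt_or_ge v 60742 with h | h
        · rcases Nat.lt_or_ge v 55361 with h | h
          · rcases Nat.lt_or_ge v 52537 with h | h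
            · exact edgesRangeI_spec iota E 1 2689 49848 edges_1_18 v (by omega) (by omega)
            · exact edgesRangeI_spec iota E 1 2824 52537 edges_1_19 v (by omega) (by omega)
          · rcases Nat.lt_or_ge v 58284 with h | h
            · exact edgesRangeI_spec iota E 1 2923 55361 edges_1_20 v (by omega) (by omega)
            · exact edgesRangeI_spec iota E 1 2458 58284 edges_1_21 v (by omega) (by omega)
        · rcases Nat.lt_or_ge v 66159 with h | h
          · rcases Nat.lt_or_ge v 63270 with h | h
            · exact edgesRangeI_spec iota E 1 2528 60742 edges_1_22 v (by omega) (by omega)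
            · exact edgesRangeI_spec iota E 1 2889 63270 edges_1_23 v (by omega) (by omega)
          · rcases Nat.lt_or_ge v 68974 with h | h
            · exact edgesRangeI_spec iota E 1 2815 66159 edges_1_24 v (by omega) (by omega)
            · rcases Nat.lt_or_ge v 71781 with h | h
              · exact edgesRangeI_spec iota E 1 2807 68974 edges_1_25 v (by omega) (by omega)
              · exact edgesRangeI_spec iota E 1 2540 71781 edges_1_26 v (by omega) (by omega)
      · rcases Nat.lt_or_ge v 88498 with h | h
        · rcases Nat.lt_or_ge v 79255 with h | h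
          · rcases Nat.lt_or_ge v 76619 with h | h
            · exact edgesRangeI_spec iota E 1 2298 74321 edges_1_27 v (by omega) (by omega)
            · exact edgesRangeI_spec iota E 1 2636 76619 edges_1_28 v (by omega) (by omega)
          · rcases Nat.lt_or_ge v 82234 with h | h
            · exact edgesRangeI_spec iota E 1 2979 79255 edges_1_29 v (by omega) (by omega)
            · rcases Nat.lt_or_ge v 85561 with h | h
              · exact edgesRangeI_spec iota E 1 3327 82234 edges_1_30 v (by omega) (by omega)
              · exact edgesRangeI_spec iota E 1 2937 85561 edges_1_31 v (by omega) (by omega)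
        · rcases Nat.lt_or_ge v 95250 with h | h
          · rcases Nat.lt_or_ge v 91706 with h | h
            · exact edgesRangeI_spec iota E 1 3208 88498 edges_1_32 v (by omega) (by omega)
            · exact edgesRangeI_spec iota E 1 3544 91706 edges_1_33 v (by omega) (by omega)
          · rcases Nat.lt_or_ge v 98189 with h | h
            · exact edgesRangeI_spec iota E 1 2939 95250 edges_1_34 v (by omega) (by omega)
            · rcases Nat.lt_or_ge v 101174 with h | h
              · exact edgesRangeI_spec iota E 1 2985 98189 edges_1_35 v (by omega) (by omega)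
              · exact edgesRangeI_spec iota E 1 2902 101174 edges_1_36 v (by omega) (by omega)
  · rcases Nat.lt_or_ge v 154769 with h | h
    · rcases Nat.lt_or_ge v 128011 with h | h
      · rcases Nat.lt_or_ge v 114676 with h | h
        · rcases Nat.lt_or_ge v 109829 with h | h
          · rcases Nat.lt_or_ge v 106999 with h | h
            · exact edgesRangeI_spec iota E 1 2923 104076 edges_1_37 v (by omega) (by omega)
            · exact edgesRangeI_spec iota E 1 2830 106999 edges_1_38 v (by omega) (by omega)
          · rcases Nat.lt_or_ge v 112317 with h | h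
            · exact edgesRangeI_spec iota E 1 2488 109829 edges_1_39 v (by omega) (by omega)
            · exact edgesRangeI_spec iota E 1 2359 112317 edges_1_40 v (by omega) (by omega)
        · rcases Nat.lt_or_ge v 120136 with h | h
          · rcases Nat.lt_or_ge v 117113 with h | h
            · exact edgesRangeI_spec iota E 1 2437 114676 edges_1_41 v (by omega) (by omega)
            · exact edgesRangeI_spec iota E 1 3023 117113 edges_1_42 v (by omega) (by omega)
          · rcases Nat.lt_or_ge v 122742 with h | h
            · exact edgesRangeI_spec iota E 1 2606 120136 edges_1_43 v (by omega) (by omega)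
            · rcases Nat.lt_or_ge v 125131 with h | h
              · exact edgesRangeI_spec iota E 1 2389 122742 edges_1_44 v (by omega) (by omega)
              · exact edgesRangeI_spec iota E 1 2880 125131 edges_1_45 v (by omega) (by omega)
      · rcases Nat.lt_or_ge v 142120 with h | h
        · rcases Nat.lt_or_ge v 133463 with h | h
          · rcases Nat.lt_or_ge v 130581 with h | h
            · exact edgesRangeI_spec iota E 1 2570 128011 edges_1_46 v (by omega) (by omega)
            · exact edgesRangeI_spec iota E 1 2882 130581 edges_1_47 v (by omega) (by omega)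
          · rcases Nat.lt_or_ge v 136996 with h | h
            · exact edgesRangeI_spec iota E 1 3533 133463 edges_1_48 v (by omega) (by omega)
            · rcases Nat.lt_or_ge v 139413 with h | h
              · exact edgesRangeI_spec iota E 1 2417 136996 edges_1_49 v (by omega) (by omega)
              · exact edgesRangeI_spec iota E 1 2707 139413 edges_1_50 v (by omega) (by omega)
        · rcases Nat.lt_or_ge v 147526 with h | h
          · rcases Nat.lt_or_ge v 144738 with h | h
            · exact edgesRangeI_spec iota E 1 2618 142120 edges_1_51 v (by omega) (by omega)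
            · exact edgesRangeI_spec iota E 1 2788 144738 edges_1_52 v (by omega) (by omega)
          · rcases Nat.lt_or_ge v 150208 with h | h
            · exact edgesRangeI_spec iota E 1 2682 147526 edges_1_53 v (by omega) (by omega)
            · rcases Nat.lt_or_ge v 152436 with h | h
              · exact edgesRangeI_spec iota E 1 2228 150208 edges_1_54 v (by omega) (by omega)
              · exact edgesRangeI_spec iota E 1 2333 152436 edges_1_55 v (by omega) (by omega)
    · rcases Nat.lt_or_ge v 178411 with h | h
      · rcases Nat.lt_or_ge v 164756 with h | h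
        · rcases Nat.lt_or_ge v 159994 with h | h
          · rcases Nat.lt_or_ge v 157331 with h | h
            · exact edgesRangeI_spec iota E 1 2562 154769 edges_1_56 v (by omega) (by omega)
            · exact edgesRangeI_spec iota E 1 2663 157331 edges_1_57 v (by omega) (by omega)
          · rcases Nat.lt_or_ge v 162223 with h | h
            · exact edgesRangeI_spec iota E 1 2229 159994 edges_1_58 v (by omega) (by omega)
            · exact edgesRangeI_spec iota E 1 2533 162223 edges_1_59 v (by omega) (by omega)
        · rcases Nat.lt_or_ge v 170371 with h | h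
          · rcases Nat.lt_or_ge v 167692 with h | h
            · exact edgesRangeI_spec iota E 1 2936 164756 edges_1_60 v (by omega) (by omega)
            · exact edgesRangeI_spec iota E 1 2679 167692 edges_1_61 v (by omega) (by omega)
          · rcases Nat.lt_or_ge v 173099 with h | h
            · exact edgesRangeI_spec iota E 1 2728 170371 edges_1_62 v (by omega) (by omega)
            · rcases Nat.lt_or_ge v 175913 with h | h
              · exact edgesRangeI_spec iota E 1 2814 173099 edges_1_63 v (by omega) (by omega)
              · exact edgesRangeI_spec iota E 1 2498 175913 edges_1_64 v (by omega) (by omega)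
      · rcases Nat.lt_or_ge v 192242 with h | h
        · rcases Nat.lt_or_ge v 183825 with h | h
          · rcases Nat.lt_or_ge v 181110 with h | h
            · exact edgesRangeI_spec iota E 1 2699 178411 edges_1_65 v (by omega) (by omega)
            · exact edgesRangeI_spec iota E 1 2715 181110 edges_1_66 v (by omega) (by omega)
          · rcases Nat.lt_or_ge v 186727 with h | h
            · exact edgesRangeI_spec iota E 1 2902 183825 edges_1_67 v (by omega) (by omega)
            · rcases Nat.lt_or_ge v 189853 with h | h
              · exact edgesRangeI_spec iota E 1 3126 186727 edges_1_68 v (by omega) (by omega)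
              · exact edgesRangeI_spec iota E 1 2389 189853 edges_1_69 v (by omega) (by omega)
        · rcases Nat.lt_or_ge v 198789 with h | h
          · rcases Nat.lt_or_ge v 195116 with h | h
            · exact edgesRangeI_spec iota E 1 2874 192242 edges_1_70 v (by omega) (by omega)
            · exact edgesRangeI_spec iota E 1 3673 195116 edges_1_71 v (by omega) (by omega)
          · rcases Nat.lt_or_ge v 201593 with h | h
            · exact edgesRangeI_spec iota E 1 2804 198789 edges_1_72 v (by omega) (by omega)
            · rcases Nat.lt_or_ge v 204565 with h | h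
              · exact edgesRangeI_spec iota E 1 2972 201593 edges_1_73 v (by omega) (by omega)
              · exact edgesRangeI_spec iota E 1 1015 204565 edges_1_74 v (by omega) (by omega)

theorem edgesx_2 : ∀ v, v < 205580 → edgeOKI iota E 2 v = true := by
  intro v hv
  rcases Nat.lt_or_ge v 97991 with h | h
  · rcases Nat.lt_or_ge v 44677 with h | h
    · rcases Nat.lt_or_ge v 21845 with h | h
      · rcases Nat.lt_or_ge v 11319 with h | h
        · rcases Nat.lt_or_ge v 6095 with h | h
          · rcases Nat.lt_or_ge v 2160 with h | h
            · exact edgesRangeI_spec iota E 2 2160 0 edges_2_0 v (by omega) (by omega)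
            · rcases Nat.lt_or_ge v 4159 with h | h
              · exact edgesRangeI_spec iota E 2 1999 2160 edges_2_1 v (by omega) (by omega)
              · exact edgesRangeI_spec iota E 2 1936 4159 edges_2_2 v (by omega) (by omega)
          · rcases Nat.lt_or_ge v 8124 with h | h
            · exact edgesRangeI_spec iota E 2 2029 6095 edges_2_3 v (by omega) (by omega)
            · rcases Nat.lt_or_ge v 9685 with h | h
              · exact edgesRangeI_spec iota E 2 1561 8124 edges_2_4 v (by omega) (by omega)
              · exact edgesRangeI_spec iota E 2 1634 9685 edges_2_5 v (by omega) (by omega)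
        · rcases Nat.lt_or_ge v 16742 with h | h
          · rcases Nat.lt_or_ge v 12906 with h | h
            · exact edgesRangeI_spec iota E 2 1587 11319 edges_2_6 v (by omega) (by omega)
            · rcases Nat.lt_or_ge v 14686 with h | h
              · exact edgesRangeI_spec iota E 2 1780 12906 edges_2_7 v (by omega) (by omega)
              · exact edgesRangeI_spec iota E 2 2056 14686 edges_2_8 v (by omega) (by omega)
          · rcases Nat.lt_or_ge v 18689 with h | h
            · exact edgesRangeI_spec iota E 2 1947 16742 edges_2_9 v (by omega) (by omega)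
            · rcases Nat.lt_or_ge v 20136 with h | h
              · exact edgesRangeI_spec iota E 2 1447 18689 edges_2_10 v (by omega) (by omega)
              · exact edgesRangeI_spec iota E 2 1709 20136 edges_2_11 v (by omega) (by omega)
      · rcases Nat.lt_or_ge v 32525 with h | h
        · rcases Nat.lt_or_ge v 26773 with h | h
          · rcases Nat.lt_or_ge v 23416 with h | h
            · exact edgesRangeI_spec iota E 2 1571 21845 edges_2_12 v (by omega) (by omega)
            · rcases Nat.lt_or_ge v 25115 with h | h
              · exact edgesRangeI_spec iota E 2 1699 23416 edges_2_13 v (by omega) (by omega)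
              · exact edgesRangeI_spec iota E 2 1658 25115 edges_2_14 v (by omega) (by omega)
          · rcases Nat.lt_or_ge v 28877 with h | h
            · exact edgesRangeI_spec iota E 2 2104 26773 edges_2_15 v (by omega) (by omega)
            · rcases Nat.lt_or_ge v 30707 with h | h
              · exact edgesRangeI_spec iota E 2 1830 28877 edges_2_16 v (by omega) (by omega)
              · exact edgesRangeI_spec iota E 2 1818 30707 edges_2_17 v (by omega) (by omega)
        · rcases Nat.lt_or_ge v 37806 with h | h
          · rcases Nat.lt_or_ge v 34237 with h | h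
            · exact edgesRangeI_spec iota E 2 1712 32525 edges_2_18 v (by omega) (by omega)
            · rcases Nat.lt_or_ge v 35915 with h | h
              · exact edgesRangeI_spec iota E 2 1678 34237 edges_2_19 v (by omega) (by omega)
              · exact edgesRangeI_spec iota E 2 1891 35915 edges_2_20 v (by omega) (by omega)
          · rcases Nat.lt_or_ge v 41246 with h | h
            · rcases Nat.lt_or_ge v 39466 with h | h
              · exact edgesRangeI_spec iota E 2 1660 37806 edges_2_21 v (by omega) (by omega)
              · exact edgesRangeI_spec iota E 2 1780 39466 edges_2_22 v (by omega) (by omega)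
            · rcases Nat.lt_or_ge v 42896 with h | h
              · exact edgesRangeI_spec iota E 2 1650 41246 edges_2_23 v (by omega) (by omega)
              · exact edgesRangeI_spec iota E 2 1781 42896 edges_2_24 v (by omega) (by omega)
    · rcases Nat.lt_or_ge v 71587 with h | h
      · rcases Nat.lt_or_ge v 57821 with h | h
        · rcases Nat.lt_or_ge v 51771 with h | h
          · rcases Nat.lt_or_ge v 46779 with h | h
            · exact edgesRangeI_spec iota E 2 2102 44677 edges_2_25 v (by omega) (by omega)
            · rcases Nat.lt_or_ge v 49726 with h | h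
              · exact edgesRangeI_spec iota E 2 2947 46779 edges_2_26 v (by omega) (by omega)
              · exact edgesRangeI_spec iota E 2 2045 49726 edges_2_27 v (by omega) (by omega)
          · rcases Nat.lt_or_ge v 53580 with h | h
            · exact edgesRangeI_spec iota E 2 1809 51771 edges_2_28 v (by omega) (by omega)
            · rcases Nat.lt_or_ge v 55534 with h | h
              · exact edgesRangeI_spec iota E 2 1954 53580 edges_2_29 v (by omega) (by omega)
              · exact edgesRangeI_spec iota E 2 2287 55534 edges_2_30 v (by omega) (by omega)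
        · rcases Nat.lt_or_ge v 63393 with h | h
          · rcases Nat.lt_or_ge v 59546 with h | h
            · exact edgesRangeI_spec iota E 2 1725 57821 edges_2_31 v (by omega) (by omega)
            · rcases Nat.lt_or_ge v 61538 with h | h
              · exact edgesRangeI_spec iota E 2 1992 59546 edges_2_32 v (by omega) (by omega)
              · exact edgesRangeI_spec iota E 2 1855 61538 edges_2_33 v (by omega) (by omega)
          · rcases Nat.lt_or_ge v 67397 with h | h
            · rcases Nat.lt_or_ge v 65336 with h | h
              · exact edgesRangeI_spec iota E 2 1943 63393 edges_2_34 v (by omega) (by omega)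
              · exact edgesRangeI_spec iota E 2 2061 65336 edges_2_35 v (by omega) (by omega)
            · rcases Nat.lt_or_ge v 69666 with h | h
              · exact edgesRangeI_spec iota E 2 2269 67397 edges_2_36 v (by omega) (by omega)
              · exact edgesRangeI_spec iota E 2 1921 69666 edges_2_37 v (by omega) (by omega)
      · rcases Nat.lt_or_ge v 82582 with h | h
        · rcases Nat.lt_or_ge v 76806 with h | h
          · rcases Nat.lt_or_ge v 73147 with h | h
            · exact edgesRangeI_spec iota E 2 1560 71587 edges_2_38 v (by omega) (by omega)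
            · rcases Nat.lt_or_ge v 74960 with h | h
              · exact edgesRangeI_spec iota E 2 1813 73147 edges_2_39 v (by omega) (by omega)
              · exact edgesRangeI_spec iota E 2 1846 74960 edges_2_40 v (by omega) (by omega)
          · rcases Nat.lt_or_ge v 78792 with h | h
            · exact edgesRangeI_spec iota E 2 1986 76806 edges_2_41 v (by omega) (by omega)
            · rcases Nat.lt_or_ge v 80672 with h | h
              · exact edgesRangeI_spec iota E 2 1880 78792 edges_2_42 v (by omega) (by omega)
              · exact edgesRangeI_spec iota E 2 1910 80672 edges_2_43 v (by omega) (by omega)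
        · rcases Nat.lt_or_ge v 89041 with h | h
          · rcases Nat.lt_or_ge v 85126 with h | h
            · exact edgesRangeI_spec iota E 2 2544 82582 edges_2_44 v (by omega) (by omega)
            · rcases Nat.lt_or_ge v 87176 with h | h
              · exact edgesRangeI_spec iota E 2 2050 85126 edges_2_45 v (by omega) (by omega)
              · exact edgesRangeI_spec iota E 2 1865 87176 edges_2_46 v (by omega) (by omega)
          · rcases Nat.lt_or_ge v 92922 with h | h
            · rcases Nat.lt_or_ge v 90952 with h | h
              · exact edgesRangeI_spec iota E 2 1911 89041 edges_2_47 v (by omega) (by omega)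
              · exact edgesRangeI_spec iota E 2 1970 90952 edges_2_48 v (by omega) (by omega)
            · rcases Nat.lt_or_ge v 95629 with h | h
              · exact edgesRangeI_spec iota E 2 2707 92922 edges_2_49 v (by omega) (by omega)
              · exact edgesRangeI_spec iota E 2 2362 95629 edges_2_50 v (by omega) (by omega)
  · rcases Nat.lt_or_ge v 149342 with h | h
    · rcases Nat.lt_or_ge v 121890 with h | h
      · rcases Nat.lt_or_ge v 110815 with h | h
        · rcases Nat.lt_or_ge v 104757 with h | h
          · rcases Nat.lt_or_ge v 100576 with h | h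
            · exact edgesRangeI_spec iota E 2 2585 97991 edges_2_51 v (by omega) (by omega)
            · rcases Nat.lt_or_ge v 102370 with h | h
              · exact edgesRangeI_spec iota E 2 1794 100576 edges_2_52 v (by omega) (by omega)
              · exact edgesRangeI_spec iota E 2 2387 102370 edges_2_53 v (by omega) (by omega)
          · rcases Nat.lt_or_ge v 107064 with h | h
            · exact edgesRangeI_spec iota E 2 2307 104757 edges_2_54 v (by omega) (by omega)
            · rcases Nat.lt_or_ge v 108780 with h | h
              · exact edgesRangeI_spec iota E 2 1716 107064 edges_2_55 v (by omega) (by omega)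
              · exact edgesRangeI_spec iota E 2 2035 108780 edges_2_56 v (by omega) (by omega)
        · rcases Nat.lt_or_ge v 115853 with h | h
          · rcases Nat.lt_or_ge v 112466 with h | h
            · exact edgesRangeI_spec iota E 2 1651 110815 edges_2_57 v (by omega) (by omega)
            · rcases Nat.lt_or_ge v 114123 with h | h
              · exact edgesRangeI_spec iota E 2 1657 112466 edges_2_58 v (by omega) (by omega)
              · exact edgesRangeI_spec iota E 2 1730 114123 edges_2_59 v (by omega) (by omega)
          · rcases Nat.lt_or_ge v 117767 with h | h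
            · exact edgesRangeI_spec iota E 2 1914 115853 edges_2_60 v (by omega) (by omega)
            · rcases Nat.lt_or_ge v 119994 with h | h
              · exact edgesRangeI_spec iota E 2 2227 117767 edges_2_61 v (by omega) (by omega)
              · exact edgesRangeI_spec iota E 2 1896 119994 edges_2_62 v (by omega) (by omega)
      · rcases Nat.lt_or_ge v 134955 with h | h
        · rcases Nat.lt_or_ge v 128277 with h | h
          · rcases Nat.lt_or_ge v 124057 with h | h
            · exact edgesRangeI_spec iota E 2 2167 121890 edges_2_63 v (by omega) (by omega)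
            · rcases Nat.lt_or_ge v 125985 with h | h
              · exact edgesRangeI_spec iota E 2 1928 124057 edges_2_64 v (by omega) (by omega)
              · exact edgesRangeI_spec iota E 2 2292 125985 edges_2_65 v (by omega) (by omega)
          · rcases Nat.lt_or_ge v 130583 with h | h
            · exact edgesRangeI_spec iota E 2 2306 128277 edges_2_66 v (by omega) (by omega)
            · rcases Nat.lt_or_ge v 132830 with h | h
              · exact edgesRangeI_spec iota E 2 2247 130583 edges_2_67 v (by omega) (by omega)
              · exact edgesRangeI_spec iota E 2 2125 132830 edges_2_68 v (by omega) (by omega)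
        · rcases Nat.lt_or_ge v 141168 with h | h
          · rcases Nat.lt_or_ge v 137310 with h | h
            · exact edgesRangeI_spec iota E 2 2355 134955 edges_2_69 v (by omega) (by omega)
            · rcases Nat.lt_or_ge v 139297 with h | h
              · exact edgesRangeI_spec iota E 2 1987 137310 edges_2_70 v (by omega) (by omega)
              · exact edgesRangeI_spec iota E 2 1871 139297 edges_2_71 v (by omega) (by omega)
          · rcases Nat.lt_or_ge v 145141 with h | h
            · rcases Nat.lt_or_ge v 142980 with h | h
              · exact edgesRangeI_spec iota E 2 1812 141168 edges_2_72 v (by omega) (by omega)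
              · exact edgesRangeI_spec iota E 2 2161 142980 edges_2_73 v (by omega) (by omega)
            · rcases Nat.lt_or_ge v 147292 with h | h
              · exact edgesRangeI_spec iota E 2 2151 145141 edges_2_74 v (by omega) (by omega)
              · exact edgesRangeI_spec iota E 2 2050 147292 edges_2_75 v (by omega) (by omega)
    · rcases Nat.lt_or_ge v 176709 with h | h
      · rcases Nat.lt_or_ge v 161541 with h | h
        · rcases Nat.lt_or_ge v 154818 with h | h
          · rcases Nat.lt_or_ge v 151160 with h | h
            · exact edgesRangeI_spec iota E 2 1818 149342 edges_2_76 v (by omega) (by omega)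
            · rcases Nat.lt_or_ge v 152996 with h | h
              · exact edgesRangeI_spec iota E 2 1836 151160 edges_2_77 v (by omega) (by omega)
              · exact edgesRangeI_spec iota E 2 1822 152996 edges_2_78 v (by omega) (by omega)
          · rcases Nat.lt_or_ge v 157063 with h | h
            · exact edgesRangeI_spec iota E 2 2245 154818 edges_2_79 v (by omega) (by omega)
            · rcases Nat.lt_or_ge v 159500 with h | h
              · exact edgesRangeI_spec iota E 2 2437 157063 edges_2_80 v (by omega) (by omega)
              · exact edgesRangeI_spec iota E 2 2041 159500 edges_2_81 v (by omega) (by omega)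
        · rcases Nat.lt_or_ge v 167725 with h | h
          · rcases Nat.lt_or_ge v 163575 with h | h
            · exact edgesRangeI_spec iota E 2 2034 161541 edges_2_82 v (by omega) (by omega)
            · rcases Nat.lt_or_ge v 165826 with h | h
              · exact edgesRangeI_spec iota E 2 2251 163575 edges_2_83 v (by omega) (by omega)
              · exact edgesRangeI_spec iota E 2 1899 165826 edges_2_84 v (by omega) (by omega)
          · rcases Nat.lt_or_ge v 172213 with h | h
            · rcases Nat.lt_or_ge v 169985 with h | h
              · exact edgesRangeI_spec iota E 2 2260 167725 edges_2_85 v (by omega) (by omega)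
              · exact edgesRangeI_spec iota E 2 2228 169985 edges_2_86 v (by omega) (by omega)
            · rcases Nat.lt_or_ge v 174374 with h | h
              · exact edgesRangeI_spec iota E 2 2161 172213 edges_2_87 v (by omega) (by omega)
              · exact edgesRangeI_spec iota E 2 2335 174374 edges_2_88 v (by omega) (by omega)
      · rcases Nat.lt_or_ge v 190995 with h | h
        · rcases Nat.lt_or_ge v 183758 with h | h
          · rcases Nat.lt_or_ge v 178949 with h | h
            · exact edgesRangeI_spec iota E 2 2240 176709 edges_2_89 v (by omega) (by omega)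
            · rcases Nat.lt_or_ge v 181234 with h | h
              · exact edgesRangeI_spec iota E 2 2285 178949 edges_2_90 v (by omega) (by omega)
              · exact edgesRangeI_spec iota E 2 2524 181234 edges_2_91 v (by omega) (by omega)
          · rcases Nat.lt_or_ge v 186255 with h | h
            · exact edgesRangeI_spec iota E 2 2497 183758 edges_2_92 v (by omega) (by omega)
            · rcases Nat.lt_or_ge v 188695 with h | h
              · exact edgesRangeI_spec iota E 2 2440 186255 edges_2_93 v (by omega) (by omega)
              · exact edgesRangeI_spec iota E 2 2300 188695 edges_2_94 v (by omega) (by omega)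
        · rcases Nat.lt_or_ge v 198340 with h | h
          · rcases Nat.lt_or_ge v 193353 with h | h
            · exact edgesRangeI_spec iota E 2 2358 190995 edges_2_95 v (by omega) (by omega)
            · rcases Nat.lt_or_ge v 195743 with h | h
              · exact edgesRangeI_spec iota E 2 2390 193353 edges_2_96 v (by omega) (by omega)
              · exact edgesRangeI_spec iota E 2 2597 195743 edges_2_97 v (by omega) (by omega)
          · rcases Nat.lt_or_ge v 203024 with h | h
            · rcases Nat.lt_or_ge v 200638 with h | h
              · exact edgesRangeI_spec iota E 2 2298 198340 edges_2_98 v (by omega) (by omega)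
              · exact edgesRangeI_spec iota E 2 2386 200638 edges_2_99 v (by omega) (by omega)
            · rcases Nat.lt_or_ge v 205177 with h | h
              · exact edgesRangeI_spec iota E 2 2153 203024 edges_2_100 v (by omega) (by omega)
              · exact edgesRangeI_spec iota E 2 403 205177 edges_2_101 v (by omega) (by omega)

theorem edgesx_3 : ∀ v, v < 205580 → edgeOKI iota E 3 v = true := by
  intro v hv
  rcases Nat.lt_or_ge v 103873 with h | h
  · rcases Nat.lt_or_ge v 50486 with h | h
    · rcases Nat.lt_or_ge v 24349 with h | h
      · rcases Nat.lt_or_ge v 11763 with h | h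
        · rcases Nat.lt_or_ge v 5368 with h | h
          · rcases Nat.lt_or_ge v 2925 with h | h
            · exact edgesRangeI_spec iota E 3 2925 0 edges_3_0 v (by omega) (by omega)
            · exact edgesRangeI_spec iota E 3 2443 2925 edges_3_1 v (by omega) (by omega)
          · rcases Nat.lt_or_ge v 7946 with h | h
            · exact edgesRangeI_spec iota E 3 2578 5368 edges_3_2 v (by omega) (by omega)
            · rcases Nat.lt_or_ge v 9774 with h | h
              · exact edgesRangeI_spec iota E 3 1828 7946 edges_3_3 v (by omega) (by omega)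
              · exact edgesRangeI_spec iota E 3 1989 9774 edges_3_4 v (by omega) (by omega)
        · rcases Nat.lt_or_ge v 18566 with h | h
          · rcases Nat.lt_or_ge v 13852 with h | h
            · exact edgesRangeI_spec iota E 3 2089 11763 edges_3_5 v (by omega) (by omega)
            · rcases Nat.lt_or_ge v 16329 with h | h
              · exact edgesRangeI_spec iota E 3 2477 13852 edges_3_6 v (by omega) (by omega)
              · exact edgesRangeI_spec iota E 3 2237 16329 edges_3_7 v (by omega) (by omega)
          · rcases Nat.lt_or_ge v 20356 with h | h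
            · exact edgesRangeI_spec iota E 3 1790 18566 edges_3_8 v (by omega) (by omega)
            · rcases Nat.lt_or_ge v 22329 with h | h
              · exact edgesRangeI_spec iota E 3 1973 20356 edges_3_9 v (by omega) (by omega)
              · exact edgesRangeI_spec iota E 3 2020 22329 edges_3_10 v (by omega) (by omega)
      · rcases Nat.lt_or_ge v 35765 with h | h
        · rcases Nat.lt_or_ge v 28907 with h | h
          · rcases Nat.lt_or_ge v 26550 with h | h
            · exact edgesRangeI_spec iota E 3 2201 24349 edges_3_11 v (by omega) (by omega)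
            · exact edgesRangeI_spec iota E 3 2357 26550 edges_3_12 v (by omega) (by omega)
          · rcases Nat.lt_or_ge v 31287 with h | h
            · exact edgesRangeI_spec iota E 3 2380 28907 edges_3_13 v (by omega) (by omega)
            · rcases Nat.lt_or_ge v 33680 with h | h
              · exact edgesRangeI_spec iota E 3 2393 31287 edges_3_14 v (by omega) (by omega)
              · exact edgesRangeI_spec iota E 3 2085 33680 edges_3_15 v (by omega) (by omega)
        · rcases Nat.lt_or_ge v 42427 with h | h
          · rcases Nat.lt_or_ge v 38204 with h | h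
            · exact edgesRangeI_spec iota E 3 2439 35765 edges_3_16 v (by omega) (by omega)
            · rcases Nat.lt_or_ge v 40419 with h | h
              · exact edgesRangeI_spec iota E 3 2215 38204 edges_3_17 v (by omega) (by omega)
              · exact edgesRangeI_spec iota E 3 2008 40419 edges_3_18 v (by omega) (by omega)
          · rcases Nat.lt_or_ge v 44580 with h | h
            · exact edgesRangeI_spec iota E 3 2153 42427 edges_3_19 v (by omega) (by omega)
            · rcases Nat.lt_or_ge v 47255 with h | h
              · exact edgesRangeI_spec iota E 3 2675 44580 edges_3_20 v (by omega) (by omega)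
              · exact edgesRangeI_spec iota E 3 3231 47255 edges_3_21 v (by omega) (by omega)
    · rcases Nat.lt_or_ge v 75140 with h | h
      · rcases Nat.lt_or_ge v 61702 with h | h
        · rcases Nat.lt_or_ge v 54633 with h | h
          · rcases Nat.lt_or_ge v 52624 with h | h
            · exact edgesRangeI_spec iota E 3 2138 50486 edges_3_22 v (by omega) (by omega)
            · exact edgesRangeI_spec iota E 3 2009 52624 edges_3_23 v (by omega) (by omega)
          · rcases Nat.lt_or_ge v 57287 with h | h
            · exact edgesRangeI_spec iota E 3 2654 54633 edges_3_24 v (by omega) (by omega)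
            · rcases Nat.lt_or_ge v 59508 with h | h
              · exact edgesRangeI_spec iota E 3 2221 57287 edges_3_25 v (by omega) (by omega)
              · exact edgesRangeI_spec iota E 3 2194 59508 edges_3_26 v (by omega) (by omega)
        · rcases Nat.lt_or_ge v 68771 with h | h
          · rcases Nat.lt_or_ge v 63853 with h | h
            · exact edgesRangeI_spec iota E 3 2151 61702 edges_3_27 v (by omega) (by omega)
            · rcases Nat.lt_or_ge v 66316 with h | h
              · exact edgesRangeI_spec iota E 3 2463 63853 edges_3_28 v (by omega) (by omega)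
              · exact edgesRangeI_spec iota E 3 2455 66316 edges_3_29 v (by omega) (by omega)
          · rcases Nat.lt_or_ge v 71006 with h | h
            · exact edgesRangeI_spec iota E 3 2235 68771 edges_3_30 v (by omega) (by omega)
            · rcases Nat.lt_or_ge v 72913 with h | h
              · exact edgesRangeI_spec iota E 3 1907 71006 edges_3_31 v (by omega) (by omega)
              · exact edgesRangeI_spec iota E 3 2227 72913 edges_3_32 v (by omega) (by omega)
      · rcases Nat.lt_or_ge v 87486 with h | h
        · rcases Nat.lt_or_ge v 79747 with h | h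
          · rcases Nat.lt_or_ge v 77346 with h | h
            · exact edgesRangeI_spec iota E 3 2206 75140 edges_3_33 v (by omega) (by omega)
            · exact edgesRangeI_spec iota E 3 2401 77346 edges_3_34 v (by omega) (by omega)
          · rcases Nat.lt_or_ge v 81793 with h | h
            · exact edgesRangeI_spec iota E 3 2046 79747 edges_3_35 v (by omega) (by omega)
            · rcases Nat.lt_or_ge v 84299 with h | h
              · exact edgesRangeI_spec iota E 3 2506 81793 edges_3_36 v (by omega) (by omega)
              · exact edgesRangeI_spec iota E 3 3187 84299 edges_3_37 v (by omega) (by omega)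
        · rcases Nat.lt_or_ge v 96422 with h | h
          · rcases Nat.lt_or_ge v 90045 with h | h
            · exact edgesRangeI_spec iota E 3 2559 87486 edges_3_38 v (by omega) (by omega)
            · rcases Nat.lt_or_ge v 93409 with h | h
              · exact edgesRangeI_spec iota E 3 3364 90045 edges_3_39 v (by omega) (by omega)
              · exact edgesRangeI_spec iota E 3 3013 93409 edges_3_40 v (by omega) (by omega)
          · rcases Nat.lt_or_ge v 98800 with h | h
            · exact edgesRangeI_spec iota E 3 2378 96422 edges_3_41 v (by omega) (by omega)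
            · rcases Nat.lt_or_ge v 101445 with h | h
              · exact edgesRangeI_spec iota E 3 2645 98800 edges_3_42 v (by omega) (by omega)
              · exact edgesRangeI_spec iota E 3 2428 101445 edges_3_43 v (by omega) (by omega)
  · rcases Nat.lt_or_ge v 153858 with h | h
    · rcases Nat.lt_or_ge v 128077 with h | h
      · rcases Nat.lt_or_ge v 114760 with h | h
        · rcases Nat.lt_or_ge v 108890 with h | h
          · rcases Nat.lt_or_ge v 106687 with h | h
            · exact edgesRangeI_spec iota E 3 2814 103873 edges_3_44 v (by omega) (by omega)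
            · exact edgesRangeI_spec iota E 3 2203 106687 edges_3_45 v (by omega) (by omega)
          · rcases Nat.lt_or_ge v 110867 with h | h
            · exact edgesRangeI_spec iota E 3 1977 108890 edges_3_46 v (by omega) (by omega)
            · rcases Nat.lt_or_ge v 112894 with h | h
              · exact edgesRangeI_spec iota E 3 2027 110867 edges_3_47 v (by omega) (by omega)
              · exact edgesRangeI_spec iota E 3 1866 112894 edges_3_48 v (by omega) (by omega)
        · rcases Nat.lt_or_ge v 121284 with h | h
          · rcases Nat.lt_or_ge v 116722 with h | h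
            · exact edgesRangeI_spec iota E 3 1962 114760 edges_3_49 v (by omega) (by omega)
            · rcases Nat.lt_or_ge v 119169 with h | h
              · exact edgesRangeI_spec iota E 3 2447 116722 edges_3_50 v (by omega) (by omega)
              · exact edgesRangeI_spec iota E 3 2115 119169 edges_3_51 v (by omega) (by omega)
          · rcases Nat.lt_or_ge v 123213 with h | h
            · exact edgesRangeI_spec iota E 3 1929 121284 edges_3_52 v (by omega) (by omega)
            · rcases Nat.lt_or_ge v 125416 with h | h
              · exact edgesRangeI_spec iota E 3 2203 123213 edges_3_53 v (by omega) (by omega)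
              · exact edgesRangeI_spec iota E 3 2661 125416 edges_3_54 v (by omega) (by omega)
      · rcases Nat.lt_or_ge v 140437 with h | h
        · rcases Nat.lt_or_ge v 133000 with h | h
          · rcases Nat.lt_or_ge v 130487 with h | h
            · exact edgesRangeI_spec iota E 3 2410 128077 edges_3_55 v (by omega) (by omega)
            · exact edgesRangeI_spec iota E 3 2513 130487 edges_3_56 v (by omega) (by omega)
          · rcases Nat.lt_or_ge v 135930 with h | h
            · exact edgesRangeI_spec iota E 3 2930 133000 edges_3_57 v (by omega) (by omega)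
            · rcases Nat.lt_or_ge v 138414 with h | h
              · exact edgesRangeI_spec iota E 3 2484 135930 edges_3_58 v (by omega) (by omega)
              · exact edgesRangeI_spec iota E 3 2023 138414 edges_3_59 v (by omega) (by omega)
        · rcases Nat.lt_or_ge v 147409 with h | h
          · rcases Nat.lt_or_ge v 142694 with h | h
            · exact edgesRangeI_spec iota E 3 2257 140437 edges_3_60 v (by omega) (by omega)
            · rcases Nat.lt_or_ge v 144897 with h | h
              · exact edgesRangeI_spec iota E 3 2203 142694 edges_3_61 v (by omega) (by omega)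
              · exact edgesRangeI_spec iota E 3 2512 144897 edges_3_62 v (by omega) (by omega)
          · rcases Nat.lt_or_ge v 149735 with h | h
            · exact edgesRangeI_spec iota E 3 2326 147409 edges_3_63 v (by omega) (by omega)
            · rcases Nat.lt_or_ge v 151607 with h | h
              · exact edgesRangeI_spec iota E 3 1872 149735 edges_3_64 v (by omega) (by omega)
              · exact edgesRangeI_spec iota E 3 2251 151607 edges_3_65 v (by omega) (by omega)
    · rcases Nat.lt_or_ge v 180026 with h | h
      · rcases Nat.lt_or_ge v 165898 with h | h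
        · rcases Nat.lt_or_ge v 158787 with h | h
          · rcases Nat.lt_or_ge v 156080 with h | h
            · exact edgesRangeI_spec iota E 3 2222 153858 edges_3_66 v (by omega) (by omega)
            · exact edgesRangeI_spec iota E 3 2707 156080 edges_3_67 v (by omega) (by omega)
          · rcases Nat.lt_or_ge v 161020 with h | h
            · exact edgesRangeI_spec iota E 3 2233 158787 edges_3_68 v (by omega) (by omega)
            · rcases Nat.lt_or_ge v 163411 with h | h
              · exact edgesRangeI_spec iota E 3 2391 161020 edges_3_69 v (by omega) (by omega)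
              · exact edgesRangeI_spec iota E 3 2487 163411 edges_3_70 v (by omega) (by omega)
        · rcases Nat.lt_or_ge v 172590 with h | h
          · rcases Nat.lt_or_ge v 168122 with h | h
            · exact edgesRangeI_spec iota E 3 2224 165898 edges_3_71 v (by omega) (by omega)
            · rcases Nat.lt_or_ge v 170308 with h | h
              · exact edgesRangeI_spec iota E 3 2186 168122 edges_3_72 v (by omega) (by omega)
              · exact edgesRangeI_spec iota E 3 2282 170308 edges_3_73 v (by omega) (by omega)
          · rcases Nat.lt_or_ge v 175184 with h | h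
            · exact edgesRangeI_spec iota E 3 2594 172590 edges_3_74 v (by omega) (by omega)
            · rcases Nat.lt_or_ge v 177318 with h | h
              · exact edgesRangeI_spec iota E 3 2134 175184 edges_3_75 v (by omega) (by omega)
              · exact edgesRangeI_spec iota E 3 2708 177318 edges_3_76 v (by omega) (by omega)
      · rcases Nat.lt_or_ge v 192626 with h | h
        · rcases Nat.lt_or_ge v 185185 with h | h
          · rcases Nat.lt_or_ge v 182359 with h | h
            · exact edgesRangeI_spec iota E 3 2333 180026 edges_3_77 v (by omega) (by omega)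
            · exact edgesRangeI_spec iota E 3 2826 182359 edges_3_78 v (by omega) (by omega)
          · rcases Nat.lt_or_ge v 187659 with h | h
            · exact edgesRangeI_spec iota E 3 2474 185185 edges_3_79 v (by omega) (by omega)
            · rcases Nat.lt_or_ge v 190480 with h | h
              · exact edgesRangeI_spec iota E 3 2821 187659 edges_3_80 v (by omega) (by omega)
              · exact edgesRangeI_spec iota E 3 2146 190480 edges_3_81 v (by omega) (by omega)
        · rcases Nat.lt_or_ge v 200663 with h | h
          · rcases Nat.lt_or_ge v 194942 with h | h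
            · exact edgesRangeI_spec iota E 3 2316 192626 edges_3_82 v (by omega) (by omega)
            · rcases Nat.lt_or_ge v 198216 with h | h
              · exact edgesRangeI_spec iota E 3 3274 194942 edges_3_83 v (by omega) (by omega)
              · exact edgesRangeI_spec iota E 3 2447 198216 edges_3_84 v (by omega) (by omega)
          · rcases Nat.lt_or_ge v 203708 with h | h
            · exact edgesRangeI_spec iota E 3 3045 200663 edges_3_85 v (by omega) (by omega)
            · rcases Nat.lt_or_ge v 205300 with h | h
              · exact edgesRangeI_spec iota E 3 1592 203708 edges_3_86 v (by omega) (by omega)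
              · exact edgesRangeI_spec iota E 3 280 205300 edges_3_87 v (by omega) (by omega)

theorem hA0 : ∀ v, v < 205580 → aliasOK E v = true := by
  intro v hv
  rcases Nat.lt_or_ge v 106410 with h | h
  · rcases Nat.lt_or_ge v 55805 with h | h
    · rcases Nat.lt_or_ge v 28873 with h | h
      · rcases Nat.lt_or_ge v 13737 with h | h
        · rcases Nat.lt_or_ge v 6753 with h | h
          · rcases Nat.lt_or_ge v 2340 with h | h
            · exact aliasRange_spec E 2340 0 aliases_0 v (by omega) (by omega)
            · rcases Nat.lt_or_ge v 4454 with h | h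
              · exact aliasRange_spec E 2114 2340 aliases_1 v (by omega) (by omega)
              · exact aliasRange_spec E 2299 4454 aliases_2 v (by omega) (by omega)
          · rcases Nat.lt_or_ge v 9158 with h | h
            · exact aliasRange_spec E 2405 6753 aliases_3 v (by omega) (by omega)
            · rcases Nat.lt_or_ge v 11505 with h | h
              · exact aliasRange_spec E 2347 9158 aliases_4 v (by omega) (by omega)
              · exact aliasRange_spec E 2232 11505 aliases_5 v (by omega) (by omega)
        · rcases Nat.lt_or_ge v 20496 with h | h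
          · rcases Nat.lt_or_ge v 15628 with h | h
            · exact aliasRange_spec E 1891 13737 aliases_6 v (by omega) (by omega)
            · rcases Nat.lt_or_ge v 18048 with h | h
              · exact aliasRange_spec E 2420 15628 aliases_7 v (by omega) (by omega)
              · exact aliasRange_spec E 2448 18048 aliases_8 v (by omega) (by omega)
          · rcases Nat.lt_or_ge v 24886 with h | h
            · rcases Nat.lt_or_ge v 22728 with h | h
              · exact aliasRange_spec E 2232 20496 aliases_9 v (by omega) (by omega)
              · exact aliasRange_spec E 2158 22728 aliases_10 v (by omega) (by omega)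
            · rcases Nat.lt_or_ge v 27019 with h | h
              · exact aliasRange_spec E 2133 24886 aliases_11 v (by omega) (by omega)
              · exact aliasRange_spec E 1854 27019 aliases_12 v (by omega) (by omega)
      · rcases Nat.lt_or_ge v 41488 with h | h
        · rcases Nat.lt_or_ge v 35205 with h | h
          · rcases Nat.lt_or_ge v 30977 with h | h
            · exact aliasRange_spec E 2104 28873 aliases_13 v (by omega) (by omega)
            · rcases Nat.lt_or_ge v 33121 with h | h
              · exact aliasRange_spec E 2144 30977 aliases_14 v (by omega) (by omega)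
              · exact aliasRange_spec E 2084 33121 aliases_15 v (by omega) (by omega)
          · rcases Nat.lt_or_ge v 37366 with h | h
            · exact aliasRange_spec E 2161 35205 aliases_16 v (by omega) (by omega)
            · rcases Nat.lt_or_ge v 39448 with h | h
              · exact aliasRange_spec E 2082 37366 aliases_17 v (by omega) (by omega)
              · exact aliasRange_spec E 2040 39448 aliases_18 v (by omega) (by omega)
        · rcases Nat.lt_or_ge v 47705 with h | h
          · rcases Nat.lt_or_ge v 43707 with h | h
            · exact aliasRange_spec E 2219 41488 aliases_19 v (by omega) (by omega)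
            · rcases Nat.lt_or_ge v 45679 with h | h
              · exact aliasRange_spec E 1972 43707 aliases_20 v (by omega) (by omega)
              · exact aliasRange_spec E 2026 45679 aliases_21 v (by omega) (by omega)
          · rcases Nat.lt_or_ge v 51577 with h | h
            · rcases Nat.lt_or_ge v 49595 with h | h
              · exact aliasRange_spec E 1890 47705 aliases_22 v (by omega) (by omega)
              · exact aliasRange_spec E 1982 49595 aliases_23 v (by omega) (by omega)
            · rcases Nat.lt_or_ge v 53717 with h | h
              · exact aliasRange_spec E 2140 51577 aliases_24 v (by omega) (by omega)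
              · exact aliasRange_spec E 2088 53717 aliases_25 v (by omega) (by omega)
    · rcases Nat.lt_or_ge v 81475 with h | h
      · rcases Nat.lt_or_ge v 67754 with h | h
        · rcases Nat.lt_or_ge v 61746 with h | h
          · rcases Nat.lt_or_ge v 57745 with h | h
            · exact aliasRange_spec E 1940 55805 aliases_26 v (by omega) (by omega)
            · rcases Nat.lt_or_ge v 59812 with h | h
              · exact aliasRange_spec E 2067 57745 aliases_27 v (by omega) (by omega)
              · exact aliasRange_spec E 1934 59812 aliases_28 v (by omega) (by omega)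
          · rcases Nat.lt_or_ge v 63740 with h | h
            · exact aliasRange_spec E 1994 61746 aliases_29 v (by omega) (by omega)
            · rcases Nat.lt_or_ge v 65748 with h | h
              · exact aliasRange_spec E 2008 63740 aliases_30 v (by omega) (by omega)
              · exact aliasRange_spec E 2006 65748 aliases_31 v (by omega) (by omega)
        · rcases Nat.lt_or_ge v 73637 with h | h
          · rcases Nat.lt_or_ge v 69727 with h | h
            · exact aliasRange_spec E 1973 67754 aliases_32 v (by omega) (by omega)
            · rcases Nat.lt_or_ge v 71638 with h | h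
              · exact aliasRange_spec E 1911 69727 aliases_33 v (by omega) (by omega)
              · exact aliasRange_spec E 1999 71638 aliases_34 v (by omega) (by omega)
          · rcases Nat.lt_or_ge v 77609 with h | h
            · rcases Nat.lt_or_ge v 75633 with h | h
              · exact aliasRange_spec E 1996 73637 aliases_35 v (by omega) (by omega)
              · exact aliasRange_spec E 1976 75633 aliases_36 v (by omega) (by omega)
            · rcases Nat.lt_or_ge v 79476 with h | h
              · exact aliasRange_spec E 1867 77609 aliases_37 v (by omega) (by omega)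
              · exact aliasRange_spec E 1999 79476 aliases_38 v (by omega) (by omega)
      · rcases Nat.lt_or_ge v 92904 with h | h
        · rcases Nat.lt_or_ge v 87200 with h | h
          · rcases Nat.lt_or_ge v 83406 with h | h
            · exact aliasRange_spec E 1931 81475 aliases_39 v (by omega) (by omega)
            · rcases Nat.lt_or_ge v 85300 with h | h
              · exact aliasRange_spec E 1894 83406 aliases_40 v (by omega) (by omega)
              · exact aliasRange_spec E 1900 85300 aliases_41 v (by omega) (by omega)
          · rcases Nat.lt_or_ge v 89077 with h | h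
            · exact aliasRange_spec E 1877 87200 aliases_42 v (by omega) (by omega)
            · rcases Nat.lt_or_ge v 91012 with h | h
              · exact aliasRange_spec E 1935 89077 aliases_43 v (by omega) (by omega)
              · exact aliasRange_spec E 1892 91012 aliases_44 v (by omega) (by omega)
        · rcases Nat.lt_or_ge v 98654 with h | h
          · rcases Nat.lt_or_ge v 94834 with h | h
            · exact aliasRange_spec E 1930 92904 aliases_45 v (by omega) (by omega)
            · rcases Nat.lt_or_ge v 96775 with h | h
              · exact aliasRange_spec E 1941 94834 aliases_46 v (by omega) (by omega)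
              · exact aliasRange_spec E 1879 96775 aliases_47 v (by omega) (by omega)
          · rcases Nat.lt_or_ge v 102571 with h | h
            · rcases Nat.lt_or_ge v 100604 with h | h
              · exact aliasRange_spec E 1950 98654 aliases_48 v (by omega) (by omega)
              · exact aliasRange_spec E 1967 100604 aliases_49 v (by omega) (by omega)
            · rcases Nat.lt_or_ge v 104490 with h | h
              · exact aliasRange_spec E 1919 102571 aliases_50 v (by omega) (by omega)
              · exact aliasRange_spec E 1920 104490 aliases_51 v (by omega) (by omega)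
  · rcases Nat.lt_or_ge v 156310 with h | h
    · rcases Nat.lt_or_ge v 131615 with h | h
      · rcases Nat.lt_or_ge v 118349 with h | h
        · rcases Nat.lt_or_ge v 112372 with h | h
          · rcases Nat.lt_or_ge v 108446 with h | h
            · exact aliasRange_spec E 2036 106410 aliases_52 v (by omega) (by omega)
            · rcases Nat.lt_or_ge v 110427 with h | h
              · exact aliasRange_spec E 1981 108446 aliases_53 v (by omega) (by omega)
              · exact aliasRange_spec E 1945 110427 aliases_54 v (by omega) (by omega)
          · rcases Nat.lt_or_ge v 114343 with h | h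
            · exact aliasRange_spec E 1971 112372 aliases_55 v (by omega) (by omega)
            · rcases Nat.lt_or_ge v 116355 with h | h
              · exact aliasRange_spec E 2012 114343 aliases_56 v (by omega) (by omega)
              · exact aliasRange_spec E 1994 116355 aliases_57 v (by omega) (by omega)
        · rcases Nat.lt_or_ge v 124152 with h | h
          · rcases Nat.lt_or_ge v 120298 with h | h
            · exact aliasRange_spec E 1949 118349 aliases_58 v (by omega) (by omega)
            · rcases Nat.lt_or_ge v 122329 with h | h
              · exact aliasRange_spec E 2031 120298 aliases_59 v (by omega) (by omega)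
              · exact aliasRange_spec E 1823 122329 aliases_60 v (by omega) (by omega)
          · rcases Nat.lt_or_ge v 127931 with h | h
            · rcases Nat.lt_or_ge v 126031 with h | h
              · exact aliasRange_spec E 1879 124152 aliases_61 v (by omega) (by omega)
              · exact aliasRange_spec E 1900 126031 aliases_62 v (by omega) (by omega)
            · rcases Nat.lt_or_ge v 129723 with h | h
              · exact aliasRange_spec E 1792 127931 aliases_63 v (by omega) (by omega)
              · exact aliasRange_spec E 1892 129723 aliases_64 v (by omega) (by omega)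
      · rcases Nat.lt_or_ge v 143071 with h | h
        · rcases Nat.lt_or_ge v 137496 with h | h
          · rcases Nat.lt_or_ge v 133575 with h | h
            · exact aliasRange_spec E 1960 131615 aliases_65 v (by omega) (by omega)
            · rcases Nat.lt_or_ge v 135560 with h | h
              · exact aliasRange_spec E 1985 133575 aliases_66 v (by omega) (by omega)
              · exact aliasRange_spec E 1936 135560 aliases_67 v (by omega) (by omega)
          · rcases Nat.lt_or_ge v 139283 with h | h
            · exact aliasRange_spec E 1787 137496 aliases_68 v (by omega) (by omega)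
            · rcases Nat.lt_or_ge v 141160 with h | h
              · exact aliasRange_spec E 1877 139283 aliases_69 v (by omega) (by omega)
              · exact aliasRange_spec E 1911 141160 aliases_70 v (by omega) (by omega)
        · rcases Nat.lt_or_ge v 148711 with h | h
          · rcases Nat.lt_or_ge v 144958 with h | h
            · exact aliasRange_spec E 1887 143071 aliases_71 v (by omega) (by omega)
            · rcases Nat.lt_or_ge v 146849 with h | h
              · exact aliasRange_spec E 1891 144958 aliases_72 v (by omega) (by omega)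
              · exact aliasRange_spec E 1862 146849 aliases_73 v (by omega) (by omega)
          · rcases Nat.lt_or_ge v 152519 with h | h
            · rcases Nat.lt_or_ge v 150536 with h | h
              · exact aliasRange_spec E 1825 148711 aliases_74 v (by omega) (by omega)
              · exact aliasRange_spec E 1983 150536 aliases_75 v (by omega) (by omega)
            · rcases Nat.lt_or_ge v 154365 with h | h
              · exact aliasRange_spec E 1846 152519 aliases_76 v (by omega) (by omega)
              · exact aliasRange_spec E 1945 154365 aliases_77 v (by omega) (by omega)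
    · rcases Nat.lt_or_ge v 180235 with h | h
      · rcases Nat.lt_or_ge v 167605 with h | h
        · rcases Nat.lt_or_ge v 161796 with h | h
          · rcases Nat.lt_or_ge v 158101 with h | h
            · exact aliasRange_spec E 1791 156310 aliases_78 v (by omega) (by omega)
            · rcases Nat.lt_or_ge v 159974 with h | h
              · exact aliasRange_spec E 1873 158101 aliases_79 v (by omega) (by omega)
              · exact aliasRange_spec E 1822 159974 aliases_80 v (by omega) (by omega)
          · rcases Nat.lt_or_ge v 163676 with h | h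
            · exact aliasRange_spec E 1880 161796 aliases_81 v (by omega) (by omega)
            · rcases Nat.lt_or_ge v 165658 with h | h
              · exact aliasRange_spec E 1982 163676 aliases_82 v (by omega) (by omega)
              · exact aliasRange_spec E 1947 165658 aliases_83 v (by omega) (by omega)
        · rcases Nat.lt_or_ge v 173238 with h | h
          · rcases Nat.lt_or_ge v 169540 with h | h
            · exact aliasRange_spec E 1935 167605 aliases_84 v (by omega) (by omega)
            · rcases Nat.lt_or_ge v 171418 with h | h
              · exact aliasRange_spec E 1878 169540 aliases_85 v (by omega) (by omega)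
              · exact aliasRange_spec E 1820 171418 aliases_86 v (by omega) (by omega)
          · rcases Nat.lt_or_ge v 176758 with h | h
            · rcases Nat.lt_or_ge v 174938 with h | h
              · exact aliasRange_spec E 1700 173238 aliases_87 v (by omega) (by omega)
              · exact aliasRange_spec E 1820 174938 aliases_88 v (by omega) (by omega)
            · rcases Nat.lt_or_ge v 178453 with h | h
              · exact aliasRange_spec E 1695 176758 aliases_89 v (by omega) (by omega)
              · exact aliasRange_spec E 1782 178453 aliases_90 v (by omega) (by omega)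
      · rcases Nat.lt_or_ge v 193044 with h | h
        · rcases Nat.lt_or_ge v 185629 with h | h
          · rcases Nat.lt_or_ge v 181995 with h | h
            · exact aliasRange_spec E 1760 180235 aliases_91 v (by omega) (by omega)
            · rcases Nat.lt_or_ge v 183803 with h | h
              · exact aliasRange_spec E 1808 181995 aliases_92 v (by omega) (by omega)
              · exact aliasRange_spec E 1826 183803 aliases_93 v (by omega) (by omega)
          · rcases Nat.lt_or_ge v 189318 with h | h
            · rcases Nat.lt_or_ge v 187463 with h | h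
              · exact aliasRange_spec E 1834 185629 aliases_94 v (by omega) (by omega)
              · exact aliasRange_spec E 1855 187463 aliases_95 v (by omega) (by omega)
            · rcases Nat.lt_or_ge v 191194 with h | h
              · exact aliasRange_spec E 1876 189318 aliases_96 v (by omega) (by omega)
              · exact aliasRange_spec E 1850 191194 aliases_97 v (by omega) (by omega)
        · rcases Nat.lt_or_ge v 198705 with h | h
          · rcases Nat.lt_or_ge v 194849 with h | h
            · exact aliasRange_spec E 1805 193044 aliases_98 v (by omega) (by omega)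
            · rcases Nat.lt_or_ge v 196733 with h | h
              · exact aliasRange_spec E 1884 194849 aliases_99 v (by omega) (by omega)
              · exact aliasRange_spec E 1972 196733 aliases_100 v (by omega) (by omega)
          · rcases Nat.lt_or_ge v 202279 with h | h
            · rcases Nat.lt_or_ge v 200516 with h | h
              · exact aliasRange_spec E 1811 198705 aliases_101 v (by omega) (by omega)
              · exact aliasRange_spec E 1763 200516 aliases_102 v (by omega) (by omega)
            · rcases Nat.lt_or_ge v 204200 with h | h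
              · exact aliasRange_spec E 1921 202279 aliases_103 v (by omega) (by omega)
              · exact aliasRange_spec E 1380 204200 aliases_104 v (by omega) (by omega)

theorem hrows0 : ∀ v, v < 205580 → tb RS v = true → rowOK2 E RS v E.D.k = true := by
  intro v hv
  rcases Nat.lt_or_ge v 103500 with h | h
  · rcases Nat.lt_or_ge v 51000 with h | h
    · rcases Nat.lt_or_ge v 25500 with h | h
      · rcases Nat.lt_or_ge v 12000 with h | h
        · rcases Nat.lt_or_ge v 6000 with h | h
          · rcases Nat.lt_or_ge v 3000 with h | h
            · rcases Nat.lt_or_ge v 1500 with h | h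
              · exact rowsRange_spec E RS 1500 0 rows_0 v (by omega) (by omega)
              · exact rowsRange_spec E RS 1500 1500 rows_1 v (by omega) (by omega)
            · rcases Nat.lt_or_ge v 4500 with h | h
              · exact rowsRange_spec E RS 1500 3000 rows_2 v (by omega) (by omega)
              · exact rowsRange_spec E RS 1500 4500 rows_3 v (by omega) (by omega)
          · rcases Nat.lt_or_ge v 9000 with h | h
            · rcases Nat.lt_or_ge v 7500 with h | h
              · exact rowsRange_spec E RS 1500 6000 rows_4 v (by omega) (by omega)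
              · exact rowsRange_spec E RS 1500 7500 rows_5 v (by omega) (by omega)
            · rcases Nat.lt_or_ge v 10500 with h | h
              · exact rowsRange_spec E RS 1500 9000 rows_6 v (by omega) (by omega)
              · exact rowsRange_spec E RS 1500 10500 rows_7 v (by omega) (by omega)
        · rcases Nat.lt_or_ge v 18000 with h | h
          · rcases Nat.lt_or_ge v 15000 with h | h
            · rcases Nat.lt_or_ge v 13500 with h | h
              · exact rowsRange_spec E RS 1500 12000 rows_8 v (by omega) (by omega)
              · exact rowsRange_spec E RS 1500 13500 rows_9 v (by omega) (by omega)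
            · rcases Nat.lt_or_ge v 16500 with h | h
              · exact rowsRange_spec E RS 1500 15000 rows_10 v (by omega) (by omega)
              · exact rowsRange_spec E RS 1500 16500 rows_11 v (by omega) (by omega)
          · rcases Nat.lt_or_ge v 21000 with h | h
            · rcases Nat.lt_or_ge v 19500 with h | h
              · exact rowsRange_spec E RS 1500 18000 rows_12 v (by omega) (by omega)
              · exact rowsRange_spec E RS 1500 19500 rows_13 v (by omega) (by omega)
            · rcases Nat.lt_or_ge v 22500 with h | h
              · exact rowsRange_spec E RS 1500 21000 rows_14 v (by omega) (by omega)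
              · rcases Nat.lt_or_ge v 24000 with h | h
                · exact rowsRange_spec E RS 1500 22500 rows_15 v (by omega) (by omega)
                · exact rowsRange_spec E RS 1500 24000 rows_16 v (by omega) (by omega)
      · rcases Nat.lt_or_ge v 37500 with h | h
        · rcases Nat.lt_or_ge v 31500 with h | h
          · rcases Nat.lt_or_ge v 28500 with h | h
            · rcases Nat.lt_or_ge v 27000 with h | h
              · exact rowsRange_spec E RS 1500 25500 rows_17 v (by omega) (by omega)
              · exact rowsRange_spec E RS 1500 27000 rows_18 v (by omega) (by omega)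
            · rcases Nat.lt_or_ge v 30000 with h | h
              · exact rowsRange_spec E RS 1500 28500 rows_19 v (by omega) (by omega)
              · exact rowsRange_spec E RS 1500 30000 rows_20 v (by omega) (by omega)
          · rcases Nat.lt_or_ge v 34500 with h | h
            · rcases Nat.lt_or_ge v 33000 with h | h
              · exact rowsRange_spec E RS 1500 31500 rows_21 v (by omega) (by omega)
              · exact rowsRange_spec E RS 1500 33000 rows_22 v (by omega) (by omega)
            · rcases Nat.lt_or_ge v 36000 with h | h
              · exact rowsRange_spec E RS 1500 34500 rows_23 v (by omega) (by omega)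
              · exact rowsRange_spec E RS 1500 36000 rows_24 v (by omega) (by omega)
        · rcases Nat.lt_or_ge v 43500 with h | h
          · rcases Nat.lt_or_ge v 40500 with h | h
            · rcases Nat.lt_or_ge v 39000 with h | h
              · exact rowsRange_spec E RS 1500 37500 rows_25 v (by omega) (by omega)
              · exact rowsRange_spec E RS 1500 39000 rows_26 v (by omega) (by omega)
            · rcases Nat.lt_or_ge v 42000 with h | h
              · exact rowsRange_spec E RS 1500 40500 rows_27 v (by omega) (by omega)
              · exact rowsRange_spec E RS 1500 42000 rows_28 v (by omega) (by omega)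
          · rcases Nat.lt_or_ge v 46500 with h | h
            · rcases Nat.lt_or_ge v 45000 with h | h
              · exact rowsRange_spec E RS 1500 43500 rows_29 v (by omega) (by omega)
              · exact rowsRange_spec E RS 1500 45000 rows_30 v (by omega) (by omega)
            · rcases Nat.lt_or_ge v 48000 with h | h
              · exact rowsRange_spec E RS 1500 46500 rows_31 v (by omega) (by omega)
              · rcases Nat.lt_or_ge v 49500 with h | h
                · exact rowsRange_spec E RS 1500 48000 rows_32 v (by omega) (by omega)
                · exact rowsRange_spec E RS 1500 49500 rows_33 v (by omega) (by omega)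
    · rcases Nat.lt_or_ge v 76500 with h | h
      · rcases Nat.lt_or_ge v 63000 with h | h
        · rcases Nat.lt_or_ge v 57000 with h | h
          · rcases Nat.lt_or_ge v 54000 with h | h
            · rcases Nat.lt_or_ge v 52500 with h | h
              · exact rowsRange_spec E RS 1500 51000 rows_34 v (by omega) (by omega)
              · exact rowsRange_spec E RS 1500 52500 rows_35 v (by omega) (by omega)
            · rcases Nat.lt_or_ge v 55500 with h | h
              · exact rowsRange_spec E RS 1500 54000 rows_36 v (by omega) (by omega)
              · exact rowsRange_spec E RS 1500 55500 rows_37 v (by omega) (by omega)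
          · rcases Nat.lt_or_ge v 60000 with h | h
            · rcases Nat.lt_or_ge v 58500 with h | h
              · exact rowsRange_spec E RS 1500 57000 rows_38 v (by omega) (by omega)
              · exact rowsRange_spec E RS 1500 58500 rows_39 v (by omega) (by omega)
            · rcases Nat.lt_or_ge v 61500 with h | h
              · exact rowsRange_spec E RS 1500 60000 rows_40 v (by omega) (by omega)
              · exact rowsRange_spec E RS 1500 61500 rows_41 v (by omega) (by omega)
        · rcases Nat.lt_or_ge v 69000 with h | h
          · rcases Nat.lt_or_ge v 66000 with h | h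
            · rcases Nat.lt_or_ge v 64500 with h | h
              · exact rowsRange_spec E RS 1500 63000 rows_42 v (by omega) (by omega)
              · exact rowsRange_spec E RS 1500 64500 rows_43 v (by omega) (by omega)
            · rcases Nat.lt_or_ge v 67500 with h | h
              · exact rowsRange_spec E RS 1500 66000 rows_44 v (by omega) (by omega)
              · exact rowsRange_spec E RS 1500 67500 rows_45 v (by omega) (by omega)
          · rcases Nat.lt_or_ge v 72000 with h | h
            · rcases Nat.lt_or_ge v 70500 with h | h
              · exact rowsRange_spec E RS 1500 69000 rows_46 v (by omega) (by omega)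
              · exact rowsRange_spec E RS 1500 70500 rows_47 v (by omega) (by omega)
            · rcases Nat.lt_or_ge v 73500 with h | h
              · exact rowsRange_spec E RS 1500 72000 rows_48 v (by omega) (by omega)
              · rcases Nat.lt_or_ge v 75000 with h | h
                · exact rowsRange_spec E RS 1500 73500 rows_49 v (by omega) (by omega)
                · exact rowsRange_spec E RS 1500 75000 rows_50 v (by omega) (by omega)
      · rcases Nat.lt_or_ge v 90000 with h | h
        · rcases Nat.lt_or_ge v 82500 with h | h
          · rcases Nat.lt_or_ge v 79500 with h | h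
            · rcases Nat.lt_or_ge v 78000 with h | h
              · exact rowsRange_spec E RS 1500 76500 rows_51 v (by omega) (by omega)
              · exact rowsRange_spec E RS 1500 78000 rows_52 v (by omega) (by omega)
            · rcases Nat.lt_or_ge v 81000 with h | h
              · exact rowsRange_spec E RS 1500 79500 rows_53 v (by omega) (by omega)
              · exact rowsRange_spec E RS 1500 81000 rows_54 v (by omega) (by omega)
          · rcases Nat.lt_or_ge v 85500 with h | h
            · rcases Nat.lt_or_ge v 84000 with h | h
              · exact rowsRange_spec E RS 1500 82500 rows_55 v (by omega) (by omega)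
              · exact rowsRange_spec E RS 1500 84000 rows_56 v (by omega) (by omega)
            · rcases Nat.lt_or_ge v 87000 with h | h
              · exact rowsRange_spec E RS 1500 85500 rows_57 v (by omega) (by omega)
              · rcases Nat.lt_or_ge v 88500 with h | h
                · exact rowsRange_spec E RS 1500 87000 rows_58 v (by omega) (by omega)
                · exact rowsRange_spec E RS 1500 88500 rows_59 v (by omega) (by omega)
        · rcases Nat.lt_or_ge v 96000 with h | h
          · rcases Nat.lt_or_ge v 93000 with h | h
            · rcases Nat.lt_or_ge v 91500 with h | h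
              · exact rowsRange_spec E RS 1500 90000 rows_60 v (by omega) (by omega)
              · exact rowsRange_spec E RS 1500 91500 rows_61 v (by omega) (by omega)
            · rcases Nat.lt_or_ge v 94500 with h | h
              · exact rowsRange_spec E RS 1500 93000 rows_62 v (by omega) (by omega)
              · exact rowsRange_spec E RS 1500 94500 rows_63 v (by omega) (by omega)
          · rcases Nat.lt_or_ge v 99000 with h | h
            · rcases Nat.lt_or_ge v 97500 with h | h
              · exact rowsRange_spec E RS 1500 96000 rows_64 v (by omega) (by omega)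
              · exact rowsRange_spec E RS 1500 97500 rows_65 v (by omega) (by omega)
            · rcases Nat.lt_or_ge v 100500 with h | h
              · exact rowsRange_spec E RS 1500 99000 rows_66 v (by omega) (by omega)
              · rcases Nat.lt_or_ge v 102000 with h | h
                · exact rowsRange_spec E RS 1500 100500 rows_67 v (by omega) (by omega)
                · exact rowsRange_spec E RS 1500 102000 rows_68 v (by omega) (by omega)
  · rcases Nat.lt_or_ge v 154500 with h | h
    · rcases Nat.lt_or_ge v 129000 with h | h
      · rcases Nat.lt_or_ge v 115500 with h | h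
        · rcases Nat.lt_or_ge v 109500 with h | h
          · rcases Nat.lt_or_ge v 106500 with h | h
            · rcases Nat.lt_or_ge v 105000 with h | h
              · exact rowsRange_spec E RS 1500 103500 rows_69 v (by omega) (by omega)
              · exact rowsRange_spec E RS 1500 105000 rows_70 v (by omega) (by omega)
            · rcases Nat.lt_or_ge v 108000 with h | h
              · exact rowsRange_spec E RS 1500 106500 rows_71 v (by omega) (by omega)
              · exact rowsRange_spec E RS 1500 108000 rows_72 v (by omega) (by omega)
          · rcases Nat.lt_or_ge v 112500 with h | h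
            · rcases Nat.lt_or_ge v 111000 with h | h
              · exact rowsRange_spec E RS 1500 109500 rows_73 v (by omega) (by omega)
              · exact rowsRange_spec E RS 1500 111000 rows_74 v (by omega) (by omega)
            · rcases Nat.lt_or_ge v 114000 with h | h
              · exact rowsRange_spec E RS 1500 112500 rows_75 v (by omega) (by omega)
              · exact rowsRange_spec E RS 1500 114000 rows_76 v (by omega) (by omega)
        · rcases Nat.lt_or_ge v 121500 with h | h
          · rcases Nat.lt_or_ge v 118500 with h | h
            · rcases Nat.lt_or_ge v 117000 with h | h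
              · exact rowsRange_spec E RS 1500 115500 rows_77 v (by omega) (by omega)
              · exact rowsRange_spec E RS 1500 117000 rows_78 v (by omega) (by omega)
            · rcases Nat.lt_or_ge v 120000 with h | h
              · exact rowsRange_spec E RS 1500 118500 rows_79 v (by omega) (by omega)
              · exact rowsRange_spec E RS 1500 120000 rows_80 v (by omega) (by omega)
          · rcases Nat.lt_or_ge v 124500 with h | h
            · rcases Nat.lt_or_ge v 123000 with h | h
              · exact rowsRange_spec E RS 1500 121500 rows_81 v (by omega) (by omega)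
              · exact rowsRange_spec E RS 1500 123000 rows_82 v (by omega) (by omega)
            · rcases Nat.lt_or_ge v 126000 with h | h
              · exact rowsRange_spec E RS 1500 124500 rows_83 v (by omega) (by omega)
              · rcases Nat.lt_or_ge v 127500 with h | h
                · exact rowsRange_spec E RS 1500 126000 rows_84 v (by omega) (by omega)
                · exact rowsRange_spec E RS 1500 127500 rows_85 v (by omega) (by omega)
      · rcases Nat.lt_or_ge v 141000 with h | h
        · rcases Nat.lt_or_ge v 135000 with h | h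
          · rcases Nat.lt_or_ge v 132000 with h | h
            · rcases Nat.lt_or_ge v 130500 with h | h
              · exact rowsRange_spec E RS 1500 129000 rows_86 v (by omega) (by omega)
              · exact rowsRange_spec E RS 1500 130500 rows_87 v (by omega) (by omega)
            · rcases Nat.lt_or_ge v 133500 with h | h
              · exact rowsRange_spec E RS 1500 132000 rows_88 v (by omega) (by omega)
              · exact rowsRange_spec E RS 1500 133500 rows_89 v (by omega) (by omega)
          · rcases Nat.lt_or_ge v 138000 with h | h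
            · rcases Nat.lt_or_ge v 136500 with h | h
              · exact rowsRange_spec E RS 1500 135000 rows_90 v (by omega) (by omega)
              · exact rowsRange_spec E RS 1500 136500 rows_91 v (by omega) (by omega)
            · rcases Nat.lt_or_ge v 139500 with h | h
              · exact rowsRange_spec E RS 1500 138000 rows_92 v (by omega) (by omega)
              · exact rowsRange_spec E RS 1500 139500 rows_93 v (by omega) (by omega)
        · rcases Nat.lt_or_ge v 147000 with h | h
          · rcases Nat.lt_or_ge v 144000 with h | h
            · rcases Nat.lt_or_ge v 142500 with h | h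
              · exact rowsRange_spec E RS 1500 141000 rows_94 v (by omega) (by omega)
              · exact rowsRange_spec E RS 1500 142500 rows_95 v (by omega) (by omega)
            · rcases Nat.lt_or_ge v 145500 with h | h
              · exact rowsRange_spec E RS 1500 144000 rows_96 v (by omega) (by omega)
              · exact rowsRange_spec E RS 1500 145500 rows_97 v (by omega) (by omega)
          · rcases Nat.lt_or_ge v 150000 with h | h
            · rcases Nat.lt_or_ge v 148500 with h | h
              · exact rowsRange_spec E RS 1500 147000 rows_98 v (by omega) (by omega)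
              · exact rowsRange_spec E RS 1500 148500 rows_99 v (by omega) (by omega)
            · rcases Nat.lt_or_ge v 151500 with h | h
              · exact rowsRange_spec E RS 1500 150000 rows_100 v (by omega) (by omega)
              · rcases Nat.lt_or_ge v 153000 with h | h
                · exact rowsRange_spec E RS 1500 151500 rows_101 v (by omega) (by omega)
                · exact rowsRange_spec E RS 1500 153000 rows_102 v (by omega) (by omega)
    · rcases Nat.lt_or_ge v 180000 with h | h
      · rcases Nat.lt_or_ge v 166500 with h | h
        · rcases Nat.lt_or_ge v 160500 with h | h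
          · rcases Nat.lt_or_ge v 157500 with h | h
            · rcases Nat.lt_or_ge v 156000 with h | h
              · exact rowsRange_spec E RS 1500 154500 rows_103 v (by omega) (by omega)
              · exact rowsRange_spec E RS 1500 156000 rows_104 v (by omega) (by omega)
            · rcases Nat.lt_or_ge v 159000 with h | h
              · exact rowsRange_spec E RS 1500 157500 rows_105 v (by omega) (by omega)
              · exact rowsRange_spec E RS 1500 159000 rows_106 v (by omega) (by omega)
          · rcases Nat.lt_or_ge v 163500 with h | h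
            · rcases Nat.lt_or_ge v 162000 with h | h
              · exact rowsRange_spec E RS 1500 160500 rows_107 v (by omega) (by omega)
              · exact rowsRange_spec E RS 1500 162000 rows_108 v (by omega) (by omega)
            · rcases Nat.lt_or_ge v 165000 with h | h
              · exact rowsRange_spec E RS 1500 163500 rows_109 v (by omega) (by omega)
              · exact rowsRange_spec E RS 1500 165000 rows_110 v (by omega) (by omega)
        · rcases Nat.lt_or_ge v 172500 with h | h
          · rcases Nat.lt_or_ge v 169500 with h | h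
            · rcases Nat.lt_or_ge v 168000 with h | h
              · exact rowsRange_spec E RS 1500 166500 rows_111 v (by omega) (by omega)
              · exact rowsRange_spec E RS 1500 168000 rows_112 v (by omega) (by omega)
            · rcases Nat.lt_or_ge v 171000 with h | h
              · exact rowsRange_spec E RS 1500 169500 rows_113 v (by omega) (by omega)
              · exact rowsRange_spec E RS 1500 171000 rows_114 v (by omega) (by omega)
          · rcases Nat.lt_or_ge v 175500 with h | h
            · rcases Nat.lt_or_ge v 174000 with h | h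
              · exact rowsRange_spec E RS 1500 172500 rows_115 v (by omega) (by omega)
              · exact rowsRange_spec E RS 1500 174000 rows_116 v (by omega) (by omega)
            · rcases Nat.lt_or_ge v 177000 with h | h
              · exact rowsRange_spec E RS 1500 175500 rows_117 v (by omega) (by omega)
              · rcases Nat.lt_or_ge v 178500 with h | h
                · exact rowsRange_spec E RS 1500 177000 rows_118 v (by omega) (by omega)
                · exact rowsRange_spec E RS 1500 178500 rows_119 v (by omega) (by omega)
      · rcases Nat.lt_or_ge v 193500 with h | h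
        · rcases Nat.lt_or_ge v 186000 with h | h
          · rcases Nat.lt_or_ge v 183000 with h | h
            · rcases Nat.lt_or_ge v 181500 with h | h
              · exact rowsRange_spec E RS 1500 180000 rows_120 v (by omega) (by omega)
              · exact rowsRange_spec E RS 1500 181500 rows_121 v (by omega) (by omega)
            · rcases Nat.lt_or_ge v 184500 with h | h
              · exact rowsRange_spec E RS 1500 183000 rows_122 v (by omega) (by omega)
              · exact rowsRange_spec E RS 1500 184500 rows_123 v (by omega) (by omega)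
          · rcases Nat.lt_or_ge v 189000 with h | h
            · rcases Nat.lt_or_ge v 187500 with h | h
              · exact rowsRange_spec E RS 1500 186000 rows_124 v (by omega) (by omega)
              · exact rowsRange_spec E RS 1500 187500 rows_125 v (by omega) (by omega)
            · rcases Nat.lt_or_ge v 190500 with h | h
              · exact rowsRange_spec E RS 1500 189000 rows_126 v (by omega) (by omega)
              · rcases Nat.lt_or_ge v 192000 with h | h
                · exact rowsRange_spec E RS 1500 190500 rows_127 v (by omega) (by omega)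
                · exact rowsRange_spec E RS 1500 192000 rows_128 v (by omega) (by omega)
        · rcases Nat.lt_or_ge v 199500 with h | h
          · rcases Nat.lt_or_ge v 196500 with h | h
            · rcases Nat.lt_or_ge v 195000 with h | h
              · exact rowsRange_spec E RS 1500 193500 rows_129 v (by omega) (by omega)
              · exact rowsRange_spec E RS 1500 195000 rows_130 v (by omega) (by omega)
            · rcases Nat.lt_or_ge v 198000 with h | h
              · exact rowsRange_spec E RS 1500 196500 rows_131 v (by omega) (by omega)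
              · exact rowsRange_spec E RS 1500 198000 rows_132 v (by omega) (by omega)
          · rcases Nat.lt_or_ge v 202500 with h | h
            · rcases Nat.lt_or_ge v 201000 with h | h
              · exact rowsRange_spec E RS 1500 199500 rows_133 v (by omega) (by omega)
              · exact rowsRange_spec E RS 1500 201000 rows_134 v (by omega) (by omega)
            · rcases Nat.lt_or_ge v 204000 with h | h
              · exact rowsRange_spec E RS 1500 202500 rows_135 v (by omega) (by omega)
              · rcases Nat.lt_or_ge v 205500 with h | h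
                · exact rowsRange_spec E RS 1500 204000 rows_136 v (by omega) (by omega)
                · exact rowsRange_spec E RS 80 205500 rows_137 v (by omega) (by omega)

theorem cb_0 : cntBits RS 0 = 0 := rfl

theorem cb_1 : cntBits RS 20000 = 4938 := by
  have h := cntBits_step RS 0 20000
  rw [cb_0, cnt_0] at h
  exact h

theorem cb_2 : cntBits RS 40000 = 8073 := by
  have h := cntBits_step RS 20000 20000
  rw [cb_1, cnt_1] at h
  exact h

theorem cb_3 : cntBits RS 60000 = 10233 := by
  have h := cntBits_step RS 40000 20000
  rw [cb_2, cnt_2] at h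
  exact h

theorem cb_4 : cntBits RS 80000 = 11592 := by
  have h := cntBits_step RS 60000 20000
  rw [cb_3, cnt_3] at h
  exact h

theorem cb_5 : cntBits RS 100000 = 12413 := by
  have h := cntBits_step RS 80000 20000
  rw [cb_4, cnt_4] at h
  exact h

theorem cb_6 : cntBits RS 120000 = 13878 := by
  have h := cntBits_step RS 100000 20000
  rw [cb_5, cnt_5] at h
  exact h

theorem cb_7 : cntBits RS 140000 = 15005 := by
  have h := cntBits_step RS 120000 20000
  rw [cb_6, cnt_6] at h
  exact h

theorem cb_8 : cntBits RS 160000 = 15990 := by
  have h := cntBits_step RS 140000 20000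
  rw [cb_7, cnt_7] at h
  exact h

theorem cb_9 : cntBits RS 180000 = 16485 := by
  have h := cntBits_step RS 160000 20000
  rw [cb_8, cnt_8] at h
  exact h

theorem cb_10 : cntBits RS 200000 = 16771 := by
  have h := cntBits_step RS 180000 20000
  rw [cb_9, cnt_9] at h
  exact h

theorem cb_11 : cntBits RS 205580 = 17280 := by
  have h := cntBits_step RS 200000 5580
  rw [cb_10, cnt_10] at h
  exact h

theorem set_ok : setOK 205580 17280 RS = true :=
  setOK_of_parts cb_11 set_zero set_lt

theorem relf_0 : ∀ v, v < 17280 → W_0 v = v := by
  intro v hv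
  exact fixPtsF_spec W_0 17280 0 relc_0_0 v (by omega) (by omega)

set_option maxRecDepth 1000000 in
theorem walk_0 : ∀ v, walkT ctF (D.wlen 0) (D.wordP 0) v = W_0 v := by
  intro v
  simp only [W_0, forceL_eq]
  rfl

theorem relw_0 : ∀ v, v < 17280 → walkT ctF (D.wlen 0) (D.wordP 0) v = v := by
  intro v hv
  rw [walk_0]
  exact relf_0 v hv

theorem relf_1 : ∀ v, v < 17280 → W_1 v = v := by
  intro v hv
  exact fixPtsF_spec W_1 17280 0 relc_1_0 v (by omega) (by omega)

set_option maxRecDepth 1000000 in
theorem walk_1 : ∀ v, walkT ctF (D.wlen 1) (D.wordP 1) v = W_1 v := by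
  intro v
  simp only [W_1, forceL_eq]
  rfl

theorem relw_1 : ∀ v, v < 17280 → walkT ctF (D.wlen 1) (D.wordP 1) v = v := by
  intro v hv
  rw [walk_1]
  exact relf_1 v hv

theorem relf_2 : ∀ v, v < 17280 → W_2 v = v := by
  intro v hv
  exact fixPtsF_spec W_2 17280 0 relc_2_0 v (by omega) (by omega)

set_option maxRecDepth 1000000 in
theorem walk_2 : ∀ v, walkT ctF (D.wlen 2) (D.wordP 2) v = W_2 v := by
  intro v
  simp only [W_2, forceL_eq]
  rfl

theorem relw_2 : ∀ v, v < 17280 → walkT ctF (D.wlen 2) (D.wordP 2) v = v := by
  intro v hv
  rw [walk_2]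
  exact relf_2 v hv

theorem relf_3 : ∀ v, v < 17280 → W_3 v = v := by
  intro v hv
  exact fixPtsF_spec W_3 17280 0 relc_3_0 v (by omega) (by omega)

set_option maxRecDepth 1000000 in
theorem walk_3 : ∀ v, walkT ctF (D.wlen 3) (D.wordP 3) v = W_3 v := by
  intro v
  simp only [W_3, forceL_eq]
  rfl

theorem relw_3 : ∀ v, v < 17280 → walkT ctF (D.wlen 3) (D.wordP 3) v = v := by
  intro v hv
  rw [walk_3]
  exact relf_3 v hv

theorem relf_4 : ∀ v, v < 17280 → W_4 v = v := by
  intro v hv
  exact fixPtsF_spec W_4 17280 0 relc_4_0 v (by omega) (by omega)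

set_option maxRecDepth 1000000 in
theorem walk_4 : ∀ v, walkT ctF (D.wlen 4) (D.wordP 4) v = W_4 v := by
  intro v
  simp only [W_4, forceL_eq]
  rfl

theorem relw_4 : ∀ v, v < 17280 → walkT ctF (D.wlen 4) (D.wordP 4) v = v := by
  intro v hv
  rw [walk_4]
  exact relf_4 v hv

theorem relf_5 : ∀ v, v < 17280 → W_5 v = v := by
  intro v hv
  exact fixPtsF_spec W_5 17280 0 relc_5_0 v (by omega) (by omega)

set_option maxRecDepth 1000000 in
theorem walk_5 : ∀ v, walkT ctF (D.wlen 5) (D.wordP 5) v = W_5 v := by
  intro v
  simp only [W_5, forceL_eq]
  rfl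

theorem relw_5 : ∀ v, v < 17280 → walkT ctF (D.wlen 5) (D.wordP 5) v = v := by
  intro v hv
  rw [walk_5]
  exact relf_5 v hv

theorem relf_6 : ∀ v, v < 17280 → W_6 v = v := by
  intro v hv
  rcases Nat.lt_or_ge v 8333 with h | h
  · exact fixPtsF_spec W_6 8333 0 relc_6_0 v (by omega) (by omega)
  · rcases Nat.lt_or_ge v 16666 with h | h
    · exact fixPtsF_spec W_6 8333 8333 relc_6_1 v (by omega) (by omega)
    · exact fixPtsF_spec W_6 614 16666 relc_6_2 v (by omega) (by omega)

set_option maxRecDepth 1000000 in
theorem walk_6 : ∀ v, walkT ctF (D.wlen 6) (D.wordP 6) v = W_6 v := by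
  intro v
  simp only [W_6, forceL_eq]
  rfl

theorem relw_6 : ∀ v, v < 17280 → walkT ctF (D.wlen 6) (D.wordP 6) v = v := by
  intro v hv
  rw [walk_6]
  exact relf_6 v hv

theorem relf_7 : ∀ v, v < 17280 → W_7 v = v := by
  intro v hv
  rcases Nat.lt_or_ge v 8333 with h | h
  · exact fixPtsF_spec W_7 8333 0 relc_7_0 v (by omega) (by omega)
  · rcases Nat.lt_or_ge v 16666 with h | h
    · exact fixPtsF_spec W_7 8333 8333 relc_7_1 v (by omega) (by omega)
    · exact fixPtsF_spec W_7 614 16666 relc_7_2 v (by omega) (by omega)

set_option maxRecDepth 1000000 in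
theorem walk_7 : ∀ v, walkT ctF (D.wlen 7) (D.wordP 7) v = W_7 v := by
  intro v
  simp only [W_7, forceL_eq]
  rfl

theorem relw_7 : ∀ v, v < 17280 → walkT ctF (D.wlen 7) (D.wordP 7) v = v := by
  intro v hv
  rw [walk_7]
  exact relf_7 v hv

theorem relf_8 : ∀ v, v < 17280 → W_8 v = v := by
  intro v hv
  rcases Nat.lt_or_ge v 8333 with h | h
  · exact fixPtsF_spec W_8 8333 0 relc_8_0 v (by omega) (by omega)
  · rcases Nat.lt_or_ge v 16666 with h | h
    · exact fixPtsF_spec W_8 8333 8333 relc_8_1 v (by omega) (by omega)
    · exact fixPtsF_spec W_8 614 16666 relc_8_2 v (by omega) (by omega)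

set_option maxRecDepth 1000000 in
theorem walk_8 : ∀ v, walkT ctF (D.wlen 8) (D.wordP 8) v = W_8 v := by
  intro v
  simp only [W_8, forceL_eq]
  rfl

theorem relw_8 : ∀ v, v < 17280 → walkT ctF (D.wlen 8) (D.wordP 8) v = v := by
  intro v hv
  rw [walk_8]
  exact relf_8 v hv

theorem relf_9 : ∀ v, v < 17280 → W_9 v = v := by
  intro v hv
  rcases Nat.lt_or_ge v 8333 with h | h
  · exact fixPtsF_spec W_9 8333 0 relc_9_0 v (by omega) (by omega)
  · rcases Nat.lt_or_ge v 16666 with h | h
    · exact fixPtsF_spec W_9 8333 8333 relc_9_1 v (by omega) (by omega)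
    · exact fixPtsF_spec W_9 614 16666 relc_9_2 v (by omega) (by omega)

set_option maxRecDepth 1000000 in
theorem walk_9 : ∀ v, walkT ctF (D.wlen 9) (D.wordP 9) v = W_9 v := by
  intro v
  simp only [W_9, forceL_eq]
  rfl

theorem relw_9 : ∀ v, v < 17280 → walkT ctF (D.wlen 9) (D.wordP 9) v = v := by
  intro v hv
  rw [walk_9]
  exact relf_9 v hv

theorem relf_10 : ∀ v, v < 17280 → W_10 v = v := by
  intro v hv
  rcases Nat.lt_or_ge v 7692 with h | h
  · exact fixPtsF_spec W_10 7692 0 relc_10_0 v (by omega) (by omega)
  · rcases Nat.lt_or_ge v 15384 with h | h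
    · exact fixPtsF_spec W_10 7692 7692 relc_10_1 v (by omega) (by omega)
    · exact fixPtsF_spec W_10 1896 15384 relc_10_2 v (by omega) (by omega)

set_option maxRecDepth 1000000 in
theorem walk_10 : ∀ v, walkT ctF (D.wlen 10) (D.wordP 10) v = W_10 v := by
  intro v
  simp only [W_10, forceL_eq]
  rfl

theorem relw_10 : ∀ v, v < 17280 → walkT ctF (D.wlen 10) (D.wordP 10) v = v := by
  intro v hv
  rw [walk_10]
  exact relf_10 v hv

theorem relf_11 : ∀ v, v < 17280 → W_11 v = v := by
  intro v hv
  rcases Nat.lt_or_ge v 7692 with h | h
  · exact fixPtsF_spec W_11 7692 0 relc_11_0 v (by omega) (by omega)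
  · rcases Nat.lt_or_ge v 15384 with h | h
    · exact fixPtsF_spec W_11 7692 7692 relc_11_1 v (by omega) (by omega)
    · exact fixPtsF_spec W_11 1896 15384 relc_11_2 v (by omega) (by omega)

set_option maxRecDepth 1000000 in
theorem walk_11 : ∀ v, walkT ctF (D.wlen 11) (D.wordP 11) v = W_11 v := by
  intro v
  simp only [W_11, forceL_eq]
  rfl

theorem relw_11 : ∀ v, v < 17280 → walkT ctF (D.wlen 11) (D.wordP 11) v = v := by
  intro v hv
  rw [walk_11]
  exact relf_11 v hv

theorem relf_12 : ∀ v, v < 17280 → W_12 v = v := by
  intro v hv
  rcases Nat.lt_or_ge v 7692 with h | h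
  · exact fixPtsF_spec W_12 7692 0 relc_12_0 v (by omega) (by omega)
  · rcases Nat.lt_or_ge v 15384 with h | h
    · exact fixPtsF_spec W_12 7692 7692 relc_12_1 v (by omega) (by omega)
    · exact fixPtsF_spec W_12 1896 15384 relc_12_2 v (by omega) (by omega)

set_option maxRecDepth 1000000 in
theorem walk_12 : ∀ v, walkT ctF (D.wlen 12) (D.wordP 12) v = W_12 v := by
  intro v
  simp only [W_12, forceL_eq]
  rfl

theorem relw_12 : ∀ v, v < 17280 → walkT ctF (D.wlen 12) (D.wordP 12) v = v := by
  intro v hv
  rw [walk_12]
  exact relf_12 v hv

theorem relf_13 : ∀ v, v < 17280 → W_13 v = v := by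
  intro v hv
  rcases Nat.lt_or_ge v 7692 with h | h
  · exact fixPtsF_spec W_13 7692 0 relc_13_0 v (by omega) (by omega)
  · rcases Nat.lt_or_ge v 15384 with h | h
    · exact fixPtsF_spec W_13 7692 7692 relc_13_1 v (by omega) (by omega)
    · exact fixPtsF_spec W_13 1896 15384 relc_13_2 v (by omega) (by omega)

set_option maxRecDepth 1000000 in
theorem walk_13 : ∀ v, walkT ctF (D.wlen 13) (D.wordP 13) v = W_13 v := by
  intro v
  simp only [W_13, forceL_eq]
  rfl

theorem relw_13 : ∀ v, v < 17280 → walkT ctF (D.wlen 13) (D.wordP 13) v = v := by
  intro v hv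
  rw [walk_13]
  exact relf_13 v hv

theorem relf_14 : ∀ v, v < 17280 → W_14 v = v := by
  intro v hv
  rcases Nat.lt_or_ge v 7142 with h | h
  · exact fixPtsF_spec W_14 7142 0 relc_14_0 v (by omega) (by omega)
  · rcases Nat.lt_or_ge v 14284 with h | h
    · exact fixPtsF_spec W_14 7142 7142 relc_14_1 v (by omega) (by omega)
    · exact fixPtsF_spec W_14 2996 14284 relc_14_2 v (by omega) (by omega)

set_option maxRecDepth 1000000 in
theorem walk_14 : ∀ v, walkT ctF (D.wlen 14) (D.wordP 14) v = W_14 v := by
  intro v
  simp only [W_14, forceL_eq]
  rfl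

theorem relw_14 : ∀ v, v < 17280 → walkT ctF (D.wlen 14) (D.wordP 14) v = v := by
  intro v hv
  rw [walk_14]
  exact relf_14 v hv

theorem relf_15 : ∀ v, v < 17280 → W_15 v = v := by
  intro v hv
  rcases Nat.lt_or_ge v 7142 with h | h
  · exact fixPtsF_spec W_15 7142 0 relc_15_0 v (by omega) (by omega)
  · rcases Nat.lt_or_ge v 14284 with h | h
    · exact fixPtsF_spec W_15 7142 7142 relc_15_1 v (by omega) (by omega)
    · exact fixPtsF_spec W_15 2996 14284 relc_15_2 v (by omega) (by omega)

set_option maxRecDepth 1000000 in
theorem walk_15 : ∀ v, walkT ctF (D.wlen 15) (D.wordP 15) v = W_15 v := by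
  intro v
  simp only [W_15, forceL_eq]
  rfl

theorem relw_15 : ∀ v, v < 17280 → walkT ctF (D.wlen 15) (D.wordP 15) v = v := by
  intro v hv
  rw [walk_15]
  exact relf_15 v hv

theorem relf_16 : ∀ v, v < 17280 → W_16 v = v := by
  intro v hv
  rcases Nat.lt_or_ge v 7142 with h | h
  · exact fixPtsF_spec W_16 7142 0 relc_16_0 v (by omega) (by omega)
  · rcases Nat.lt_or_ge v 14284 with h | h
    · exact fixPtsF_spec W_16 7142 7142 relc_16_1 v (by omega) (by omega)
    · exact fixPtsF_spec W_16 2996 14284 relc_16_2 v (by omega) (by omega)

set_option maxRecDepth 1000000 in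
theorem walk_16 : ∀ v, walkT ctF (D.wlen 16) (D.wordP 16) v = W_16 v := by
  intro v
  simp only [W_16, forceL_eq]
  rfl

theorem relw_16 : ∀ v, v < 17280 → walkT ctF (D.wlen 16) (D.wordP 16) v = v := by
  intro v hv
  rw [walk_16]
  exact relf_16 v hv

theorem relf_17 : ∀ v, v < 17280 → W_17 v = v := by
  intro v hv
  rcases Nat.lt_or_ge v 7142 with h | h
  · exact fixPtsF_spec W_17 7142 0 relc_17_0 v (by omega) (by omega)
  · rcases Nat.lt_or_ge v 14284 with h | h
    · exact fixPtsF_spec W_17 7142 7142 relc_17_1 v (by omega) (by omega)
    · exact fixPtsF_spec W_17 2996 14284 relc_17_2 v (by omega) (by omega)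

set_option maxRecDepth 1000000 in
theorem walk_17 : ∀ v, walkT ctF (D.wlen 17) (D.wordP 17) v = W_17 v := by
  intro v
  simp only [W_17, forceL_eq]
  rfl

theorem relw_17 : ∀ v, v < 17280 → walkT ctF (D.wlen 17) (D.wordP 17) v = v := by
  intro v hv
  rw [walk_17]
  exact relf_17 v hv

theorem relf_18 : ∀ v, v < 17280 → W_18 v = v := by
  intro v hv
  rcases Nat.lt_or_ge v 6666 with h | h
  · exact fixPtsF_spec W_18 6666 0 relc_18_0 v (by omega) (by omega)
  · rcases Nat.lt_or_ge v 13332 with h | h
    · exact fixPtsF_spec W_18 6666 6666 relc_18_1 v (by omega) (by omega)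
    · exact fixPtsF_spec W_18 3948 13332 relc_18_2 v (by omega) (by omega)

set_option maxRecDepth 1000000 in
theorem walk_18 : ∀ v, walkT ctF (D.wlen 18) (D.wordP 18) v = W_18 v := by
  intro v
  simp only [W_18, forceL_eq]
  rfl

theorem relw_18 : ∀ v, v < 17280 → walkT ctF (D.wlen 18) (D.wordP 18) v = v := by
  intro v hv
  rw [walk_18]
  exact relf_18 v hv

theorem relf_19 : ∀ v, v < 17280 → W_19 v = v := by
  intro v hv
  rcases Nat.lt_or_ge v 6666 with h | h
  · exact fixPtsF_spec W_19 6666 0 relc_19_0 v (by omega) (by omega)
  · rcases Nat.lt_or_ge v 13332 with h | h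
    · exact fixPtsF_spec W_19 6666 6666 relc_19_1 v (by omega) (by omega)
    · exact fixPtsF_spec W_19 3948 13332 relc_19_2 v (by omega) (by omega)

set_option maxRecDepth 1000000 in
theorem walk_19 : ∀ v, walkT ctF (D.wlen 19) (D.wordP 19) v = W_19 v := by
  intro v
  simp only [W_19, forceL_eq]
  rfl

theorem relw_19 : ∀ v, v < 17280 → walkT ctF (D.wlen 19) (D.wordP 19) v = v := by
  intro v hv
  rw [walk_19]
  exact relf_19 v hv

theorem relf_20 : ∀ v, v < 17280 → W_20 v = v := by
  intro v hv
  rcases Nat.lt_or_ge v 6666 with h | h
  · exact fixPtsF_spec W_20 6666 0 relc_20_0 v (by omega) (by omega)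
  · rcases Nat.lt_or_ge v 13332 with h | h
    · exact fixPtsF_spec W_20 6666 6666 relc_20_1 v (by omega) (by omega)
    · exact fixPtsF_spec W_20 3948 13332 relc_20_2 v (by omega) (by omega)

set_option maxRecDepth 1000000 in
theorem walk_20 : ∀ v, walkT ctF (D.wlen 20) (D.wordP 20) v = W_20 v := by
  intro v
  simp only [W_20, forceL_eq]
  rfl

theorem relw_20 : ∀ v, v < 17280 → walkT ctF (D.wlen 20) (D.wordP 20) v = v := by
  intro v hv
  rw [walk_20]
  exact relf_20 v hv

theorem relf_21 : ∀ v, v < 17280 → W_21 v = v := by
  intro v hv
  rcases Nat.lt_or_ge v 6666 with h | h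
  · exact fixPtsF_spec W_21 6666 0 relc_21_0 v (by omega) (by omega)
  · rcases Nat.lt_or_ge v 13332 with h | h
    · exact fixPtsF_spec W_21 6666 6666 relc_21_1 v (by omega) (by omega)
    · exact fixPtsF_spec W_21 3948 13332 relc_21_2 v (by omega) (by omega)

set_option maxRecDepth 1000000 in
theorem walk_21 : ∀ v, walkT ctF (D.wlen 21) (D.wordP 21) v = W_21 v := by
  intro v
  simp only [W_21, forceL_eq]
  rfl

theorem relw_21 : ∀ v, v < 17280 → walkT ctF (D.wlen 21) (D.wordP 21) v = v := by
  intro v hv
  rw [walk_21]
  exact relf_21 v hv

theorem relf_22 : ∀ v, v < 17280 → W_22 v = v := by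
  intro v hv
  rcases Nat.lt_or_ge v 6666 with h | h
  · exact fixPtsF_spec W_22 6666 0 relc_22_0 v (by omega) (by omega)
  · rcases Nat.lt_or_ge v 13332 with h | h
    · exact fixPtsF_spec W_22 6666 6666 relc_22_1 v (by omega) (by omega)
    · exact fixPtsF_spec W_22 3948 13332 relc_22_2 v (by omega) (by omega)

set_option maxRecDepth 1000000 in
theorem walk_22 : ∀ v, walkT ctF (D.wlen 22) (D.wordP 22) v = W_22 v := by
  intro v
  simp only [W_22, forceL_eq]
  rfl

theorem relw_22 : ∀ v, v < 17280 → walkT ctF (D.wlen 22) (D.wordP 22) v = v := by
  intro v hv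
  rw [walk_22]
  exact relf_22 v hv

theorem relf_23 : ∀ v, v < 17280 → W_23 v = v := by
  intro v hv
  rcases Nat.lt_or_ge v 6666 with h | h
  · exact fixPtsF_spec W_23 6666 0 relc_23_0 v (by omega) (by omega)
  · rcases Nat.lt_or_ge v 13332 with h | h
    · exact fixPtsF_spec W_23 6666 6666 relc_23_1 v (by omega) (by omega)
    · exact fixPtsF_spec W_23 3948 13332 relc_23_2 v (by omega) (by omega)

set_option maxRecDepth 1000000 in
theorem walk_23 : ∀ v, walkT ctF (D.wlen 23) (D.wordP 23) v = W_23 v := by
  intro v
  simp only [W_23, forceL_eq]
  rfl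

theorem relw_23 : ∀ v, v < 17280 → walkT ctF (D.wlen 23) (D.wordP 23) v = v := by
  intro v hv
  rw [walk_23]
  exact relf_23 v hv

theorem relf_24 : ∀ v, v < 17280 → W_24 v = v := by
  intro v hv
  rcases Nat.lt_or_ge v 6666 with h | h
  · exact fixPtsF_spec W_24 6666 0 relc_24_0 v (by omega) (by omega)
  · rcases Nat.lt_or_ge v 13332 with h | h
    · exact fixPtsF_spec W_24 6666 6666 relc_24_1 v (by omega) (by omega)
    · exact fixPtsF_spec W_24 3948 13332 relc_24_2 v (by omega) (by omega)

set_option maxRecDepth 1000000 in
theorem walk_24 : ∀ v, walkT ctF (D.wlen 24) (D.wordP 24) v = W_24 v := by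
  intro v
  simp only [W_24, forceL_eq]
  rfl

theorem relw_24 : ∀ v, v < 17280 → walkT ctF (D.wlen 24) (D.wordP 24) v = v := by
  intro v hv
  rw [walk_24]
  exact relf_24 v hv

theorem relf_25 : ∀ v, v < 17280 → W_25 v = v := by
  intro v hv
  rcases Nat.lt_or_ge v 6666 with h | h
  · exact fixPtsF_spec W_25 6666 0 relc_25_0 v (by omega) (by omega)
  · rcases Nat.lt_or_ge v 13332 with h | h
    · exact fixPtsF_spec W_25 6666 6666 relc_25_1 v (by omega) (by omega)
    · exact fixPtsF_spec W_25 3948 13332 relc_25_2 v (by omega) (by omega)

set_option maxRecDepth 1000000 in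
theorem walk_25 : ∀ v, walkT ctF (D.wlen 25) (D.wordP 25) v = W_25 v := by
  intro v
  simp only [W_25, forceL_eq]
  rfl

theorem relw_25 : ∀ v, v < 17280 → walkT ctF (D.wlen 25) (D.wordP 25) v = v := by
  intro v hv
  rw [walk_25]
  exact relf_25 v hv

theorem relf_26 : ∀ v, v < 17280 → W_26 v = v := by
  intro v hv
  rcases Nat.lt_or_ge v 6250 with h | h
  · exact fixPtsF_spec W_26 6250 0 relc_26_0 v (by omega) (by omega)
  · rcases Nat.lt_or_ge v 12500 with h | h
    · exact fixPtsF_spec W_26 6250 6250 relc_26_1 v (by omega) (by omega)
    · exact fixPtsF_spec W_26 4780 12500 relc_26_2 v (by omega) (by omega)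

set_option maxRecDepth 1000000 in
theorem walk_26 : ∀ v, walkT ctF (D.wlen 26) (D.wordP 26) v = W_26 v := by
  intro v
  simp only [W_26, forceL_eq]
  rfl

theorem relw_26 : ∀ v, v < 17280 → walkT ctF (D.wlen 26) (D.wordP 26) v = v := by
  intro v hv
  rw [walk_26]
  exact relf_26 v hv

theorem relf_27 : ∀ v, v < 17280 → W_27 v = v := by
  intro v hv
  rcases Nat.lt_or_ge v 6250 with h | h
  · exact fixPtsF_spec W_27 6250 0 relc_27_0 v (by omega) (by omega)
  · rcases Nat.lt_or_ge v 12500 with h | h
    · exact fixPtsF_spec W_27 6250 6250 relc_27_1 v (by omega) (by omega)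
    · exact fixPtsF_spec W_27 4780 12500 relc_27_2 v (by omega) (by omega)

set_option maxRecDepth 1000000 in
theorem walk_27 : ∀ v, walkT ctF (D.wlen 27) (D.wordP 27) v = W_27 v := by
  intro v
  simp only [W_27, forceL_eq]
  rfl

theorem relw_27 : ∀ v, v < 17280 → walkT ctF (D.wlen 27) (D.wordP 27) v = v := by
  intro v hv
  rw [walk_27]
  exact relf_27 v hv

theorem relf_28 : ∀ v, v < 17280 → W_28 v = v := by
  intro v hv
  rcases Nat.lt_or_ge v 6250 with h | h
  · exact fixPtsF_spec W_28 6250 0 relc_28_0 v (by omega) (by omega)
  · rcases Nat.lt_or_ge v 12500 with h | h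
    · exact fixPtsF_spec W_28 6250 6250 relc_28_1 v (by omega) (by omega)
    · exact fixPtsF_spec W_28 4780 12500 relc_28_2 v (by omega) (by omega)

set_option maxRecDepth 1000000 in
theorem walk_28 : ∀ v, walkT ctF (D.wlen 28) (D.wordP 28) v = W_28 v := by
  intro v
  simp only [W_28, forceL_eq]
  rfl

theorem relw_28 : ∀ v, v < 17280 → walkT ctF (D.wlen 28) (D.wordP 28) v = v := by
  intro v hv
  rw [walk_28]
  exact relf_28 v hv

theorem relf_29 : ∀ v, v < 17280 → W_29 v = v := by
  intro v hv
  rcases Nat.lt_or_ge v 6250 with h | h
  · exact fixPtsF_spec W_29 6250 0 relc_29_0 v (by omega) (by omega)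
  · rcases Nat.lt_or_ge v 12500 with h | h
    · exact fixPtsF_spec W_29 6250 6250 relc_29_1 v (by omega) (by omega)
    · exact fixPtsF_spec W_29 4780 12500 relc_29_2 v (by omega) (by omega)

set_option maxRecDepth 1000000 in
theorem walk_29 : ∀ v, walkT ctF (D.wlen 29) (D.wordP 29) v = W_29 v := by
  intro v
  simp only [W_29, forceL_eq]
  rfl

theorem relw_29 : ∀ v, v < 17280 → walkT ctF (D.wlen 29) (D.wordP 29) v = v := by
  intro v hv
  rw [walk_29]
  exact relf_29 v hv

theorem relf_30 : ∀ v, v < 17280 → W_30 v = v := by
  intro v hv
  rcases Nat.lt_or_ge v 6250 with h | h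
  · exact fixPtsF_spec W_30 6250 0 relc_30_0 v (by omega) (by omega)
  · rcases Nat.lt_or_ge v 12500 with h | h
    · exact fixPtsF_spec W_30 6250 6250 relc_30_1 v (by omega) (by omega)
    · exact fixPtsF_spec W_30 4780 12500 relc_30_2 v (by omega) (by omega)

set_option maxRecDepth 1000000 in
theorem walk_30 : ∀ v, walkT ctF (D.wlen 30) (D.wordP 30) v = W_30 v := by
  intro v
  simp only [W_30, forceL_eq]
  rfl

theorem relw_30 : ∀ v, v < 17280 → walkT ctF (D.wlen 30) (D.wordP 30) v = v := by
  intro v hv
  rw [walk_30]
  exact relf_30 v hv

theorem relf_31 : ∀ v, v < 17280 → W_31 v = v := by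
  intro v hv
  rcases Nat.lt_or_ge v 6250 with h | h
  · exact fixPtsF_spec W_31 6250 0 relc_31_0 v (by omega) (by omega)
  · rcases Nat.lt_or_ge v 12500 with h | h
    · exact fixPtsF_spec W_31 6250 6250 relc_31_1 v (by omega) (by omega)
    · exact fixPtsF_spec W_31 4780 12500 relc_31_2 v (by omega) (by omega)

set_option maxRecDepth 1000000 in
theorem walk_31 : ∀ v, walkT ctF (D.wlen 31) (D.wordP 31) v = W_31 v := by
  intro v
  simp only [W_31, forceL_eq]
  rfl

theorem relw_31 : ∀ v, v < 17280 → walkT ctF (D.wlen 31) (D.wordP 31) v = v := by
  intro v hv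
  rw [walk_31]
  exact relf_31 v hv

theorem relf_32 : ∀ v, v < 17280 → W_32 v = v := by
  intro v hv
  rcases Nat.lt_or_ge v 6250 with h | h
  · exact fixPtsF_spec W_32 6250 0 relc_32_0 v (by omega) (by omega)
  · rcases Nat.lt_or_ge v 12500 with h | h
    · exact fixPtsF_spec W_32 6250 6250 relc_32_1 v (by omega) (by omega)
    · exact fixPtsF_spec W_32 4780 12500 relc_32_2 v (by omega) (by omega)

set_option maxRecDepth 1000000 in
theorem walk_32 : ∀ v, walkT ctF (D.wlen 32) (D.wordP 32) v = W_32 v := by
  intro v
  simp only [W_32, forceL_eq]
  rfl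

theorem relw_32 : ∀ v, v < 17280 → walkT ctF (D.wlen 32) (D.wordP 32) v = v := by
  intro v hv
  rw [walk_32]
  exact relf_32 v hv

theorem relf_33 : ∀ v, v < 17280 → W_33 v = v := by
  intro v hv
  rcases Nat.lt_or_ge v 6250 with h | h
  · exact fixPtsF_spec W_33 6250 0 relc_33_0 v (by omega) (by omega)
  · rcases Nat.lt_or_ge v 12500 with h | h
    · exact fixPtsF_spec W_33 6250 6250 relc_33_1 v (by omega) (by omega)
    · exact fixPtsF_spec W_33 4780 12500 relc_33_2 v (by omega) (by omega)

set_option maxRecDepth 1000000 in
theorem walk_33 : ∀ v, walkT ctF (D.wlen 33) (D.wordP 33) v = W_33 v := by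
  intro v
  simp only [W_33, forceL_eq]
  rfl

theorem relw_33 : ∀ v, v < 17280 → walkT ctF (D.wlen 33) (D.wordP 33) v = v := by
  intro v hv
  rw [walk_33]
  exact relf_33 v hv

theorem relf_34 : ∀ v, v < 17280 → W_34 v = v := by
  intro v hv
  rcases Nat.lt_or_ge v 6250 with h | h
  · exact fixPtsF_spec W_34 6250 0 relc_34_0 v (by omega) (by omega)
  · rcases Nat.lt_or_ge v 12500 with h | h
    · exact fixPtsF_spec W_34 6250 6250 relc_34_1 v (by omega) (by omega)
    · exact fixPtsF_spec W_34 4780 12500 relc_34_2 v (by omega) (by omega)

set_option maxRecDepth 1000000 in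
theorem walk_34 : ∀ v, walkT ctF (D.wlen 34) (D.wordP 34) v = W_34 v := by
  intro v
  simp only [W_34, forceL_eq]
  rfl

theorem relw_34 : ∀ v, v < 17280 → walkT ctF (D.wlen 34) (D.wordP 34) v = v := by
  intro v hv
  rw [walk_34]
  exact relf_34 v hv

theorem relf_35 : ∀ v, v < 17280 → W_35 v = v := by
  intro v hv
  rcases Nat.lt_or_ge v 6250 with h | h
  · exact fixPtsF_spec W_35 6250 0 relc_35_0 v (by omega) (by omega)
  · rcases Nat.lt_or_ge v 12500 with h | h
    · exact fixPtsF_spec W_35 6250 6250 relc_35_1 v (by omega) (by omega)
    · exact fixPtsF_spec W_35 4780 12500 relc_35_2 v (by omega) (by omega)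

set_option maxRecDepth 1000000 in
theorem walk_35 : ∀ v, walkT ctF (D.wlen 35) (D.wordP 35) v = W_35 v := by
  intro v
  simp only [W_35, forceL_eq]
  rfl

theorem relw_35 : ∀ v, v < 17280 → walkT ctF (D.wlen 35) (D.wordP 35) v = v := by
  intro v hv
  rw [walk_35]
  exact relf_35 v hv

theorem relf_36 : ∀ v, v < 17280 → W_36 v = v := by
  intro v hv
  rcases Nat.lt_or_ge v 6250 with h | h
  · exact fixPtsF_spec W_36 6250 0 relc_36_0 v (by omega) (by omega)
  · rcases Nat.lt_or_ge v 12500 with h | h
    · exact fixPtsF_spec W_36 6250 6250 relc_36_1 v (by omega) (by omega)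
    · exact fixPtsF_spec W_36 4780 12500 relc_36_2 v (by omega) (by omega)

set_option maxRecDepth 1000000 in
theorem walk_36 : ∀ v, walkT ctF (D.wlen 36) (D.wordP 36) v = W_36 v := by
  intro v
  simp only [W_36, forceL_eq]
  rfl

theorem relw_36 : ∀ v, v < 17280 → walkT ctF (D.wlen 36) (D.wordP 36) v = v := by
  intro v hv
  rw [walk_36]
  exact relf_36 v hv

theorem relf_37 : ∀ v, v < 17280 → W_37 v = v := by
  intro v hv
  rcases Nat.lt_or_ge v 6250 with h | h
  · exact fixPtsF_spec W_37 6250 0 relc_37_0 v (by omega) (by omega)
  · rcases Nat.lt_or_ge v 12500 with h | h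
    · exact fixPtsF_spec W_37 6250 6250 relc_37_1 v (by omega) (by omega)
    · exact fixPtsF_spec W_37 4780 12500 relc_37_2 v (by omega) (by omega)

set_option maxRecDepth 1000000 in
theorem walk_37 : ∀ v, walkT ctF (D.wlen 37) (D.wordP 37) v = W_37 v := by
  intro v
  simp only [W_37, forceL_eq]
  rfl

theorem relw_37 : ∀ v, v < 17280 → walkT ctF (D.wlen 37) (D.wordP 37) v = v := by
  intro v hv
  rw [walk_37]
  exact relf_37 v hv

theorem relf_38 : ∀ v, v < 17280 → W_38 v = v := by
  intro v hv
  rcases Nat.lt_or_ge v 5882 with h | h
  · exact fixPtsF_spec W_38 5882 0 relc_38_0 v (by omega) (by omega)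
  · rcases Nat.lt_or_ge v 11764 with h | h
    · exact fixPtsF_spec W_38 5882 5882 relc_38_1 v (by omega) (by omega)
    · exact fixPtsF_spec W_38 5516 11764 relc_38_2 v (by omega) (by omega)

set_option maxRecDepth 1000000 in
theorem walk_38 : ∀ v, walkT ctF (D.wlen 38) (D.wordP 38) v = W_38 v := by
  intro v
  simp only [W_38, forceL_eq]
  rfl

theorem relw_38 : ∀ v, v < 17280 → walkT ctF (D.wlen 38) (D.wordP 38) v = v := by
  intro v hv
  rw [walk_38]
  exact relf_38 v hv

theorem relf_39 : ∀ v, v < 17280 → W_39 v = v := by
  intro v hv
  rcases Nat.lt_or_ge v 5882 with h | h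
  · exact fixPtsF_spec W_39 5882 0 relc_39_0 v (by omega) (by omega)
  · rcases Nat.lt_or_ge v 11764 with h | h
    · exact fixPtsF_spec W_39 5882 5882 relc_39_1 v (by omega) (by omega)
    · exact fixPtsF_spec W_39 5516 11764 relc_39_2 v (by omega) (by omega)

set_option maxRecDepth 1000000 in
theorem walk_39 : ∀ v, walkT ctF (D.wlen 39) (D.wordP 39) v = W_39 v := by
  intro v
  simp only [W_39, forceL_eq]
  rfl

theorem relw_39 : ∀ v, v < 17280 → walkT ctF (D.wlen 39) (D.wordP 39) v = v := by
  intro v hv
  rw [walk_39]
  exact relf_39 v hv

theorem relf_40 : ∀ v, v < 17280 → W_40 v = v := by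
  intro v hv
  rcases Nat.lt_or_ge v 5882 with h | h
  · exact fixPtsF_spec W_40 5882 0 relc_40_0 v (by omega) (by omega)
  · rcases Nat.lt_or_ge v 11764 with h | h
    · exact fixPtsF_spec W_40 5882 5882 relc_40_1 v (by omega) (by omega)
    · exact fixPtsF_spec W_40 5516 11764 relc_40_2 v (by omega) (by omega)

set_option maxRecDepth 1000000 in
theorem walk_40 : ∀ v, walkT ctF (D.wlen 40) (D.wordP 40) v = W_40 v := by
  intro v
  simp only [W_40, forceL_eq]
  rfl

theorem relw_40 : ∀ v, v < 17280 → walkT ctF (D.wlen 40) (D.wordP 40) v = v := by
  intro v hv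
  rw [walk_40]
  exact relf_40 v hv

theorem relf_41 : ∀ v, v < 17280 → W_41 v = v := by
  intro v hv
  rcases Nat.lt_or_ge v 5882 with h | h
  · exact fixPtsF_spec W_41 5882 0 relc_41_0 v (by omega) (by omega)
  · rcases Nat.lt_or_ge v 11764 with h | h
    · exact fixPtsF_spec W_41 5882 5882 relc_41_1 v (by omega) (by omega)
    · exact fixPtsF_spec W_41 5516 11764 relc_41_2 v (by omega) (by omega)

set_option maxRecDepth 1000000 in
theorem walk_41 : ∀ v, walkT ctF (D.wlen 41) (D.wordP 41) v = W_41 v := by
  intro v
  simp only [W_41, forceL_eq]
  rfl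

theorem relw_41 : ∀ v, v < 17280 → walkT ctF (D.wlen 41) (D.wordP 41) v = v := by
  intro v hv
  rw [walk_41]
  exact relf_41 v hv

theorem relf_42 : ∀ v, v < 17280 → W_42 v = v := by
  intro v hv
  rcases Nat.lt_or_ge v 5882 with h | h
  · exact fixPtsF_spec W_42 5882 0 relc_42_0 v (by omega) (by omega)
  · rcases Nat.lt_or_ge v 11764 with h | h
    · exact fixPtsF_spec W_42 5882 5882 relc_42_1 v (by omega) (by omega)
    · exact fixPtsF_spec W_42 5516 11764 relc_42_2 v (by omega) (by omega)

set_option maxRecDepth 1000000 in
theorem walk_42 : ∀ v, walkT ctF (D.wlen 42) (D.wordP 42) v = W_42 v := by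
  intro v
  simp only [W_42, forceL_eq]
  rfl

theorem relw_42 : ∀ v, v < 17280 → walkT ctF (D.wlen 42) (D.wordP 42) v = v := by
  intro v hv
  rw [walk_42]
  exact relf_42 v hv

theorem relf_43 : ∀ v, v < 17280 → W_43 v = v := by
  intro v hv
  rcases Nat.lt_or_ge v 5882 with h | h
  · exact fixPtsF_spec W_43 5882 0 relc_43_0 v (by omega) (by omega)
  · rcases Nat.lt_or_ge v 11764 with h | h
    · exact fixPtsF_spec W_43 5882 5882 relc_43_1 v (by omega) (by omega)
    · exact fixPtsF_spec W_43 5516 11764 relc_43_2 v (by omega) (by omega)

set_option maxRecDepth 1000000 in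
theorem walk_43 : ∀ v, walkT ctF (D.wlen 43) (D.wordP 43) v = W_43 v := by
  intro v
  simp only [W_43, forceL_eq]
  rfl

theorem relw_43 : ∀ v, v < 17280 → walkT ctF (D.wlen 43) (D.wordP 43) v = v := by
  intro v hv
  rw [walk_43]
  exact relf_43 v hv

theorem relf_44 : ∀ v, v < 17280 → W_44 v = v := by
  intro v hv
  rcases Nat.lt_or_ge v 5882 with h | h
  · exact fixPtsF_spec W_44 5882 0 relc_44_0 v (by omega) (by omega)
  · rcases Nat.lt_or_ge v 11764 with h | h
    · exact fixPtsF_spec W_44 5882 5882 relc_44_1 v (by omega) (by omega)
    · exact fixPtsF_spec W_44 5516 11764 relc_44_2 v (by omega) (by omega)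

set_option maxRecDepth 1000000 in
theorem walk_44 : ∀ v, walkT ctF (D.wlen 44) (D.wordP 44) v = W_44 v := by
  intro v
  simp only [W_44, forceL_eq]
  rfl

theorem relw_44 : ∀ v, v < 17280 → walkT ctF (D.wlen 44) (D.wordP 44) v = v := by
  intro v hv
  rw [walk_44]
  exact relf_44 v hv

theorem relf_45 : ∀ v, v < 17280 → W_45 v = v := by
  intro v hv
  rcases Nat.lt_or_ge v 5882 with h | h
  · exact fixPtsF_spec W_45 5882 0 relc_45_0 v (by omega) (by omega)
  · rcases Nat.lt_or_ge v 11764 with h | h
    · exact fixPtsF_spec W_45 5882 5882 relc_45_1 v (by omega) (by omega)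
    · exact fixPtsF_spec W_45 5516 11764 relc_45_2 v (by omega) (by omega)

set_option maxRecDepth 1000000 in
theorem walk_45 : ∀ v, walkT ctF (D.wlen 45) (D.wordP 45) v = W_45 v := by
  intro v
  simp only [W_45, forceL_eq]
  rfl

theorem relw_45 : ∀ v, v < 17280 → walkT ctF (D.wlen 45) (D.wordP 45) v = v := by
  intro v hv
  rw [walk_45]
  exact relf_45 v hv

theorem relf_46 : ∀ v, v < 17280 → W_46 v = v := by
  intro v hv
  rcases Nat.lt_or_ge v 5882 with h | h
  · exact fixPtsF_spec W_46 5882 0 relc_46_0 v (by omega) (by omega)
  · rcases Nat.lt_or_ge v 11764 with h | h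
    · exact fixPtsF_spec W_46 5882 5882 relc_46_1 v (by omega) (by omega)
    · exact fixPtsF_spec W_46 5516 11764 relc_46_2 v (by omega) (by omega)

set_option maxRecDepth 1000000 in
theorem walk_46 : ∀ v, walkT ctF (D.wlen 46) (D.wordP 46) v = W_46 v := by
  intro v
  simp only [W_46, forceL_eq]
  rfl

theorem relw_46 : ∀ v, v < 17280 → walkT ctF (D.wlen 46) (D.wordP 46) v = v := by
  intro v hv
  rw [walk_46]
  exact relf_46 v hv

theorem relf_47 : ∀ v, v < 17280 → W_47 v = v := by
  intro v hv
  rcases Nat.lt_or_ge v 5882 with h | h
  · exact fixPtsF_spec W_47 5882 0 relc_47_0 v (by omega) (by omega)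
  · rcases Nat.lt_or_ge v 11764 with h | h
    · exact fixPtsF_spec W_47 5882 5882 relc_47_1 v (by omega) (by omega)
    · exact fixPtsF_spec W_47 5516 11764 relc_47_2 v (by omega) (by omega)

set_option maxRecDepth 1000000 in
theorem walk_47 : ∀ v, walkT ctF (D.wlen 47) (D.wordP 47) v = W_47 v := by
  intro v
  simp only [W_47, forceL_eq]
  rfl

theorem relw_47 : ∀ v, v < 17280 → walkT ctF (D.wlen 47) (D.wordP 47) v = v := by
  intro v hv
  rw [walk_47]
  exact relf_47 v hv

theorem relf_48 : ∀ v, v < 17280 → W_48 v = v := by
  intro v hv
  rcases Nat.lt_or_ge v 5882 with h | h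
  · exact fixPtsF_spec W_48 5882 0 relc_48_0 v (by omega) (by omega)
  · rcases Nat.lt_or_ge v 11764 with h | h
    · exact fixPtsF_spec W_48 5882 5882 relc_48_1 v (by omega) (by omega)
    · exact fixPtsF_spec W_48 5516 11764 relc_48_2 v (by omega) (by omega)

set_option maxRecDepth 1000000 in
theorem walk_48 : ∀ v, walkT ctF (D.wlen 48) (D.wordP 48) v = W_48 v := by
  intro v
  simp only [W_48, forceL_eq]
  rfl

theorem relw_48 : ∀ v, v < 17280 → walkT ctF (D.wlen 48) (D.wordP 48) v = v := by
  intro v hv
  rw [walk_48]
  exact relf_48 v hv

theorem relf_49 : ∀ v, v < 17280 → W_49 v = v := by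
  intro v hv
  rcases Nat.lt_or_ge v 5882 with h | h
  · exact fixPtsF_spec W_49 5882 0 relc_49_0 v (by omega) (by omega)
  · rcases Nat.lt_or_ge v 11764 with h | h
    · exact fixPtsF_spec W_49 5882 5882 relc_49_1 v (by omega) (by omega)
    · exact fixPtsF_spec W_49 5516 11764 relc_49_2 v (by omega) (by omega)

set_option maxRecDepth 1000000 in
theorem walk_49 : ∀ v, walkT ctF (D.wlen 49) (D.wordP 49) v = W_49 v := by
  intro v
  simp only [W_49, forceL_eq]
  rfl

theorem relw_49 : ∀ v, v < 17280 → walkT ctF (D.wlen 49) (D.wordP 49) v = v := by
  intro v hv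
  rw [walk_49]
  exact relf_49 v hv

theorem relf_50 : ∀ v, v < 17280 → W_50 v = v := by
  intro v hv
  rcases Nat.lt_or_ge v 5882 with h | h
  · exact fixPtsF_spec W_50 5882 0 relc_50_0 v (by omega) (by omega)
  · rcases Nat.lt_or_ge v 11764 with h | h
    · exact fixPtsF_spec W_50 5882 5882 relc_50_1 v (by omega) (by omega)
    · exact fixPtsF_spec W_50 5516 11764 relc_50_2 v (by omega) (by omega)

set_option maxRecDepth 1000000 in
theorem walk_50 : ∀ v, walkT ctF (D.wlen 50) (D.wordP 50) v = W_50 v := by
  intro v
  simp only [W_50, forceL_eq]
  rfl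

theorem relw_50 : ∀ v, v < 17280 → walkT ctF (D.wlen 50) (D.wordP 50) v = v := by
  intro v hv
  rw [walk_50]
  exact relf_50 v hv

theorem relf_51 : ∀ v, v < 17280 → W_51 v = v := by
  intro v hv
  rcases Nat.lt_or_ge v 5882 with h | h
  · exact fixPtsF_spec W_51 5882 0 relc_51_0 v (by omega) (by omega)
  · rcases Nat.lt_or_ge v 11764 with h | h
    · exact fixPtsF_spec W_51 5882 5882 relc_51_1 v (by omega) (by omega)
    · exact fixPtsF_spec W_51 5516 11764 relc_51_2 v (by omega) (by omega)

set_option maxRecDepth 1000000 in
theorem walk_51 : ∀ v, walkT ctF (D.wlen 51) (D.wordP 51) v = W_51 v := by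
  intro v
  simp only [W_51, forceL_eq]
  rfl

theorem relw_51 : ∀ v, v < 17280 → walkT ctF (D.wlen 51) (D.wordP 51) v = v := by
  intro v hv
  rw [walk_51]
  exact relf_51 v hv

theorem relf_52 : ∀ v, v < 17280 → W_52 v = v := by
  intro v hv
  rcases Nat.lt_or_ge v 5882 with h | h
  · exact fixPtsF_spec W_52 5882 0 relc_52_0 v (by omega) (by omega)
  · rcases Nat.lt_or_ge v 11764 with h | h
    · exact fixPtsF_spec W_52 5882 5882 relc_52_1 v (by omega) (by omega)
    · exact fixPtsF_spec W_52 5516 11764 relc_52_2 v (by omega) (by omega)

set_option maxRecDepth 1000000 in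
theorem walk_52 : ∀ v, walkT ctF (D.wlen 52) (D.wordP 52) v = W_52 v := by
  intro v
  simp only [W_52, forceL_eq]
  rfl

theorem relw_52 : ∀ v, v < 17280 → walkT ctF (D.wlen 52) (D.wordP 52) v = v := by
  intro v hv
  rw [walk_52]
  exact relf_52 v hv

theorem relf_53 : ∀ v, v < 17280 → W_53 v = v := by
  intro v hv
  rcases Nat.lt_or_ge v 5882 with h | h
  · exact fixPtsF_spec W_53 5882 0 relc_53_0 v (by omega) (by omega)
  · rcases Nat.lt_or_ge v 11764 with h | h
    · exact fixPtsF_spec W_53 5882 5882 relc_53_1 v (by omega) (by omega)
    · exact fixPtsF_spec W_53 5516 11764 relc_53_2 v (by omega) (by omega)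

set_option maxRecDepth 1000000 in
theorem walk_53 : ∀ v, walkT ctF (D.wlen 53) (D.wordP 53) v = W_53 v := by
  intro v
  simp only [W_53, forceL_eq]
  rfl

theorem relw_53 : ∀ v, v < 17280 → walkT ctF (D.wlen 53) (D.wordP 53) v = v := by
  intro v hv
  rw [walk_53]
  exact relf_53 v hv

theorem relf_54 : ∀ v, v < 17280 → W_54 v = v := by
  intro v hv
  rcases Nat.lt_or_ge v 5882 with h | h
  · exact fixPtsF_spec W_54 5882 0 relc_54_0 v (by omega) (by omega)
  · rcases Nat.lt_or_ge v 11764 with h | h
    · exact fixPtsF_spec W_54 5882 5882 relc_54_1 v (by omega) (by omega)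
    · exact fixPtsF_spec W_54 5516 11764 relc_54_2 v (by omega) (by omega)

set_option maxRecDepth 1000000 in
theorem walk_54 : ∀ v, walkT ctF (D.wlen 54) (D.wordP 54) v = W_54 v := by
  intro v
  simp only [W_54, forceL_eq]
  rfl

theorem relw_54 : ∀ v, v < 17280 → walkT ctF (D.wlen 54) (D.wordP 54) v = v := by
  intro v hv
  rw [walk_54]
  exact relf_54 v hv

theorem relf_55 : ∀ v, v < 17280 → W_55 v = v := by
  intro v hv
  rcases Nat.lt_or_ge v 5882 with h | h
  · exact fixPtsF_spec W_55 5882 0 relc_55_0 v (by omega) (by omega)
  · rcases Nat.lt_or_ge v 11764 with h | h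
    · exact fixPtsF_spec W_55 5882 5882 relc_55_1 v (by omega) (by omega)
    · exact fixPtsF_spec W_55 5516 11764 relc_55_2 v (by omega) (by omega)

set_option maxRecDepth 1000000 in
theorem walk_55 : ∀ v, walkT ctF (D.wlen 55) (D.wordP 55) v = W_55 v := by
  intro v
  simp only [W_55, forceL_eq]
  rfl

theorem relw_55 : ∀ v, v < 17280 → walkT ctF (D.wlen 55) (D.wordP 55) v = v := by
  intro v hv
  rw [walk_55]
  exact relf_55 v hv

theorem relf_56 : ∀ v, v < 17280 → W_56 v = v := by
  intro v hv
  rcases Nat.lt_or_ge v 5882 with h | h
  · exact fixPtsF_spec W_56 5882 0 relc_56_0 v (by omega) (by omega)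
  · rcases Nat.lt_or_ge v 11764 with h | h
    · exact fixPtsF_spec W_56 5882 5882 relc_56_1 v (by omega) (by omega)
    · exact fixPtsF_spec W_56 5516 11764 relc_56_2 v (by omega) (by omega)

set_option maxRecDepth 1000000 in
theorem walk_56 : ∀ v, walkT ctF (D.wlen 56) (D.wordP 56) v = W_56 v := by
  intro v
  simp only [W_56, forceL_eq]
  rfl

theorem relw_56 : ∀ v, v < 17280 → walkT ctF (D.wlen 56) (D.wordP 56) v = v := by
  intro v hv
  rw [walk_56]
  exact relf_56 v hv

theorem relf_57 : ∀ v, v < 17280 → W_57 v = v := by
  intro v hv
  rcases Nat.lt_or_ge v 5882 with h | h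
  · exact fixPtsF_spec W_57 5882 0 relc_57_0 v (by omega) (by omega)
  · rcases Nat.lt_or_ge v 11764 with h | h
    · exact fixPtsF_spec W_57 5882 5882 relc_57_1 v (by omega) (by omega)
    · exact fixPtsF_spec W_57 5516 11764 relc_57_2 v (by omega) (by omega)

set_option maxRecDepth 1000000 in
theorem walk_57 : ∀ v, walkT ctF (D.wlen 57) (D.wordP 57) v = W_57 v := by
  intro v
  simp only [W_57, forceL_eq]
  rfl

theorem relw_57 : ∀ v, v < 17280 → walkT ctF (D.wlen 57) (D.wordP 57) v = v := by
  intro v hv
  rw [walk_57]
  exact relf_57 v hv

theorem relf_58 : ∀ v, v < 17280 → W_58 v = v := by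
  intro v hv
  rcases Nat.lt_or_ge v 11110 with h | h
  · rcases Nat.lt_or_ge v 5555 with h | h
    · exact fixPtsF_spec W_58 5555 0 relc_58_0 v (by omega) (by omega)
    · exact fixPtsF_spec W_58 5555 5555 relc_58_1 v (by omega) (by omega)
  · rcases Nat.lt_or_ge v 16665 with h | h
    · exact fixPtsF_spec W_58 5555 11110 relc_58_2 v (by omega) (by omega)
    · exact fixPtsF_spec W_58 615 16665 relc_58_3 v (by omega) (by omega)

set_option maxRecDepth 1000000 in
theorem walk_58 : ∀ v, walkT ctF (D.wlen 58) (D.wordP 58) v = W_58 v := by
  intro v
  simp only [W_58, forceL_eq]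
  rfl

theorem relw_58 : ∀ v, v < 17280 → walkT ctF (D.wlen 58) (D.wordP 58) v = v := by
  intro v hv
  rw [walk_58]
  exact relf_58 v hv

theorem relf_59 : ∀ v, v < 17280 → W_59 v = v := by
  intro v hv
  rcases Nat.lt_or_ge v 11110 with h | h
  · rcases Nat.lt_or_ge v 5555 with h | h
    · exact fixPtsF_spec W_59 5555 0 relc_59_0 v (by omega) (by omega)
    · exact fixPtsF_spec W_59 5555 5555 relc_59_1 v (by omega) (by omega)
  · rcases Nat.lt_or_ge v 16665 with h | h
    · exact fixPtsF_spec W_59 5555 11110 relc_59_2 v (by omega) (by omega)
    · exact fixPtsF_spec W_59 615 16665 relc_59_3 v (by omega) (by omega)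

set_option maxRecDepth 1000000 in
theorem walk_59 : ∀ v, walkT ctF (D.wlen 59) (D.wordP 59) v = W_59 v := by
  intro v
  simp only [W_59, forceL_eq]
  rfl

theorem relw_59 : ∀ v, v < 17280 → walkT ctF (D.wlen 59) (D.wordP 59) v = v := by
  intro v hv
  rw [walk_59]
  exact relf_59 v hv

theorem relf_60 : ∀ v, v < 17280 → W_60 v = v := by
  intro v hv
  rcases Nat.lt_or_ge v 11110 with h | h
  · rcases Nat.lt_or_ge v 5555 with h | h
    · exact fixPtsF_spec W_60 5555 0 relc_60_0 v (by omega) (by omega)
    · exact fixPtsF_spec W_60 5555 5555 relc_60_1 v (by omega) (by omega)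
  · rcases Nat.lt_or_ge v 16665 with h | h
    · exact fixPtsF_spec W_60 5555 11110 relc_60_2 v (by omega) (by omega)
    · exact fixPtsF_spec W_60 615 16665 relc_60_3 v (by omega) (by omega)

set_option maxRecDepth 1000000 in
theorem walk_60 : ∀ v, walkT ctF (D.wlen 60) (D.wordP 60) v = W_60 v := by
  intro v
  simp only [W_60, forceL_eq]
  rfl

theorem relw_60 : ∀ v, v < 17280 → walkT ctF (D.wlen 60) (D.wordP 60) v = v := by
  intro v hv
  rw [walk_60]
  exact relf_60 v hv

theorem relf_61 : ∀ v, v < 17280 → W_61 v = v := by
  intro v hv
  rcases Nat.lt_or_ge v 11110 with h | h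
  · rcases Nat.lt_or_ge v 5555 with h | h
    · exact fixPtsF_spec W_61 5555 0 relc_61_0 v (by omega) (by omega)
    · exact fixPtsF_spec W_61 5555 5555 relc_61_1 v (by omega) (by omega)
  · rcases Nat.lt_or_ge v 16665 with h | h
    · exact fixPtsF_spec W_61 5555 11110 relc_61_2 v (by omega) (by omega)
    · exact fixPtsF_spec W_61 615 16665 relc_61_3 v (by omega) (by omega)

set_option maxRecDepth 1000000 in
theorem walk_61 : ∀ v, walkT ctF (D.wlen 61) (D.wordP 61) v = W_61 v := by
  intro v
  simp only [W_61, forceL_eq]
  rfl

theorem relw_61 : ∀ v, v < 17280 → walkT ctF (D.wlen 61) (D.wordP 61) v = v := by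
  intro v hv
  rw [walk_61]
  exact relf_61 v hv

theorem relf_62 : ∀ v, v < 17280 → W_62 v = v := by
  intro v hv
  rcases Nat.lt_or_ge v 11110 with h | h
  · rcases Nat.lt_or_ge v 5555 with h | h
    · exact fixPtsF_spec W_62 5555 0 relc_62_0 v (by omega) (by omega)
    · exact fixPtsF_spec W_62 5555 5555 relc_62_1 v (by omega) (by omega)
  · rcases Nat.lt_or_ge v 16665 with h | h
    · exact fixPtsF_spec W_62 5555 11110 relc_62_2 v (by omega) (by omega)
    · exact fixPtsF_spec W_62 615 16665 relc_62_3 v (by omega) (by omega)

set_option maxRecDepth 1000000 in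
theorem walk_62 : ∀ v, walkT ctF (D.wlen 62) (D.wordP 62) v = W_62 v := by
  intro v
  simp only [W_62, forceL_eq]
  rfl

theorem relw_62 : ∀ v, v < 17280 → walkT ctF (D.wlen 62) (D.wordP 62) v = v := by
  intro v hv
  rw [walk_62]
  exact relf_62 v hv

theorem relf_63 : ∀ v, v < 17280 → W_63 v = v := by
  intro v hv
  rcases Nat.lt_or_ge v 11110 with h | h
  · rcases Nat.lt_or_ge v 5555 with h | h
    · exact fixPtsF_spec W_63 5555 0 relc_63_0 v (by omega) (by omega)
    · exact fixPtsF_spec W_63 5555 5555 relc_63_1 v (by omega) (by omega)
  · rcases Nat.lt_or_ge v 16665 with h | h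
    · exact fixPtsF_spec W_63 5555 11110 relc_63_2 v (by omega) (by omega)
    · exact fixPtsF_spec W_63 615 16665 relc_63_3 v (by omega) (by omega)

set_option maxRecDepth 1000000 in
theorem walk_63 : ∀ v, walkT ctF (D.wlen 63) (D.wordP 63) v = W_63 v := by
  intro v
  simp only [W_63, forceL_eq]
  rfl

theorem relw_63 : ∀ v, v < 17280 → walkT ctF (D.wlen 63) (D.wordP 63) v = v := by
  intro v hv
  rw [walk_63]
  exact relf_63 v hv

theorem relf_64 : ∀ v, v < 17280 → W_64 v = v := by
  intro v hv
  rcases Nat.lt_or_ge v 11110 with h | h
  · rcases Nat.lt_or_ge v 5555 with h | h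
    · exact fixPtsF_spec W_64 5555 0 relc_64_0 v (by omega) (by omega)
    · exact fixPtsF_spec W_64 5555 5555 relc_64_1 v (by omega) (by omega)
  · rcases Nat.lt_or_ge v 16665 with h | h
    · exact fixPtsF_spec W_64 5555 11110 relc_64_2 v (by omega) (by omega)
    · exact fixPtsF_spec W_64 615 16665 relc_64_3 v (by omega) (by omega)

set_option maxRecDepth 1000000 in
theorem walk_64 : ∀ v, walkT ctF (D.wlen 64) (D.wordP 64) v = W_64 v := by
  intro v
  simp only [W_64, forceL_eq]
  rfl

theorem relw_64 : ∀ v, v < 17280 → walkT ctF (D.wlen 64) (D.wordP 64) v = v := by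
  intro v hv
  rw [walk_64]
  exact relf_64 v hv

theorem relf_65 : ∀ v, v < 17280 → W_65 v = v := by
  intro v hv
  rcases Nat.lt_or_ge v 11110 with h | h
  · rcases Nat.lt_or_ge v 5555 with h | h
    · exact fixPtsF_spec W_65 5555 0 relc_65_0 v (by omega) (by omega)
    · exact fixPtsF_spec W_65 5555 5555 relc_65_1 v (by omega) (by omega)
  · rcases Nat.lt_or_ge v 16665 with h | h
    · exact fixPtsF_spec W_65 5555 11110 relc_65_2 v (by omega) (by omega)
    · exact fixPtsF_spec W_65 615 16665 relc_65_3 v (by omega) (by omega)

set_option maxRecDepth 1000000 in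
theorem walk_65 : ∀ v, walkT ctF (D.wlen 65) (D.wordP 65) v = W_65 v := by
  intro v
  simp only [W_65, forceL_eq]
  rfl

theorem relw_65 : ∀ v, v < 17280 → walkT ctF (D.wlen 65) (D.wordP 65) v = v := by
  intro v hv
  rw [walk_65]
  exact relf_65 v hv

theorem relf_66 : ∀ v, v < 17280 → W_66 v = v := by
  intro v hv
  rcases Nat.lt_or_ge v 11110 with h | h
  · rcases Nat.lt_or_ge v 5555 with h | h
    · exact fixPtsF_spec W_66 5555 0 relc_66_0 v (by omega) (by omega)
    · exact fixPtsF_spec W_66 5555 5555 relc_66_1 v (by omega) (by omega)
  · rcases Nat.lt_or_ge v 16665 with h | h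
    · exact fixPtsF_spec W_66 5555 11110 relc_66_2 v (by omega) (by omega)
    · exact fixPtsF_spec W_66 615 16665 relc_66_3 v (by omega) (by omega)

set_option maxRecDepth 1000000 in
theorem walk_66 : ∀ v, walkT ctF (D.wlen 66) (D.wordP 66) v = W_66 v := by
  intro v
  simp only [W_66, forceL_eq]
  rfl

theorem relw_66 : ∀ v, v < 17280 → walkT ctF (D.wlen 66) (D.wordP 66) v = v := by
  intro v hv
  rw [walk_66]
  exact relf_66 v hv

theorem relf_67 : ∀ v, v < 17280 → W_67 v = v := by
  intro v hv
  rcases Nat.lt_or_ge v 11110 with h | h
  · rcases Nat.lt_or_ge v 5555 with h | h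
    · exact fixPtsF_spec W_67 5555 0 relc_67_0 v (by omega) (by omega)
    · exact fixPtsF_spec W_67 5555 5555 relc_67_1 v (by omega) (by omega)
  · rcases Nat.lt_or_ge v 16665 with h | h
    · exact fixPtsF_spec W_67 5555 11110 relc_67_2 v (by omega) (by omega)
    · exact fixPtsF_spec W_67 615 16665 relc_67_3 v (by omega) (by omega)

set_option maxRecDepth 1000000 in
theorem walk_67 : ∀ v, walkT ctF (D.wlen 67) (D.wordP 67) v = W_67 v := by
  intro v
  simp only [W_67, forceL_eq]
  rfl

theorem relw_67 : ∀ v, v < 17280 → walkT ctF (D.wlen 67) (D.wordP 67) v = v := by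
  intro v hv
  rw [walk_67]
  exact relf_67 v hv

theorem relf_68 : ∀ v, v < 17280 → W_68 v = v := by
  intro v hv
  rcases Nat.lt_or_ge v 11110 with h | h
  · rcases Nat.lt_or_ge v 5555 with h | h
    · exact fixPtsF_spec W_68 5555 0 relc_68_0 v (by omega) (by omega)
    · exact fixPtsF_spec W_68 5555 5555 relc_68_1 v (by omega) (by omega)
  · rcases Nat.lt_or_ge v 16665 with h | h
    · exact fixPtsF_spec W_68 5555 11110 relc_68_2 v (by omega) (by omega)
    · exact fixPtsF_spec W_68 615 16665 relc_68_3 v (by omega) (by omega)

set_option maxRecDepth 1000000 in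
theorem walk_68 : ∀ v, walkT ctF (D.wlen 68) (D.wordP 68) v = W_68 v := by
  intro v
  simp only [W_68, forceL_eq]
  rfl

theorem relw_68 : ∀ v, v < 17280 → walkT ctF (D.wlen 68) (D.wordP 68) v = v := by
  intro v hv
  rw [walk_68]
  exact relf_68 v hv

theorem relf_69 : ∀ v, v < 17280 → W_69 v = v := by
  intro v hv
  rcases Nat.lt_or_ge v 11110 with h | h
  · rcases Nat.lt_or_ge v 5555 with h | h
    · exact fixPtsF_spec W_69 5555 0 relc_69_0 v (by omega) (by omega)
    · exact fixPtsF_spec W_69 5555 5555 relc_69_1 v (by omega) (by omega)
  · rcases Nat.lt_or_ge v 16665 with h | h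
    · exact fixPtsF_spec W_69 5555 11110 relc_69_2 v (by omega) (by omega)
    · exact fixPtsF_spec W_69 615 16665 relc_69_3 v (by omega) (by omega)

set_option maxRecDepth 1000000 in
theorem walk_69 : ∀ v, walkT ctF (D.wlen 69) (D.wordP 69) v = W_69 v := by
  intro v
  simp only [W_69, forceL_eq]
  rfl

theorem relw_69 : ∀ v, v < 17280 → walkT ctF (D.wlen 69) (D.wordP 69) v = v := by
  intro v hv
  rw [walk_69]
  exact relf_69 v hv

theorem relf_70 : ∀ v, v < 17280 → W_70 v = v := by
  intro v hv
  rcases Nat.lt_or_ge v 10526 with h | h
  · rcases Nat.lt_or_ge v 5263 with h | h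
    · exact fixPtsF_spec W_70 5263 0 relc_70_0 v (by omega) (by omega)
    · exact fixPtsF_spec W_70 5263 5263 relc_70_1 v (by omega) (by omega)
  · rcases Nat.lt_or_ge v 15789 with h | h
    · exact fixPtsF_spec W_70 5263 10526 relc_70_2 v (by omega) (by omega)
    · exact fixPtsF_spec W_70 1491 15789 relc_70_3 v (by omega) (by omega)

set_option maxRecDepth 1000000 in
theorem walk_70 : ∀ v, walkT ctF (D.wlen 70) (D.wordP 70) v = W_70 v := by
  intro v
  simp only [W_70, forceL_eq]
  rfl

theorem relw_70 : ∀ v, v < 17280 → walkT ctF (D.wlen 70) (D.wordP 70) v = v := by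
  intro v hv
  rw [walk_70]
  exact relf_70 v hv

theorem relf_71 : ∀ v, v < 17280 → W_71 v = v := by
  intro v hv
  rcases Nat.lt_or_ge v 10526 with h | h
  · rcases Nat.lt_or_ge v 5263 with h | h
    · exact fixPtsF_spec W_71 5263 0 relc_71_0 v (by omega) (by omega)
    · exact fixPtsF_spec W_71 5263 5263 relc_71_1 v (by omega) (by omega)
  · rcases Nat.lt_or_ge v 15789 with h | h
    · exact fixPtsF_spec W_71 5263 10526 relc_71_2 v (by omega) (by omega)
    · exact fixPtsF_spec W_71 1491 15789 relc_71_3 v (by omega) (by omega)

set_option maxRecDepth 1000000 in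
theorem walk_71 : ∀ v, walkT ctF (D.wlen 71) (D.wordP 71) v = W_71 v := by
  intro v
  simp only [W_71, forceL_eq]
  rfl

theorem relw_71 : ∀ v, v < 17280 → walkT ctF (D.wlen 71) (D.wordP 71) v = v := by
  intro v hv
  rw [walk_71]
  exact relf_71 v hv

theorem relf_72 : ∀ v, v < 17280 → W_72 v = v := by
  intro v hv
  rcases Nat.lt_or_ge v 10526 with h | h
  · rcases Nat.lt_or_ge v 5263 with h | h
    · exact fixPtsF_spec W_72 5263 0 relc_72_0 v (by omega) (by omega)
    · exact fixPtsF_spec W_72 5263 5263 relc_72_1 v (by omega) (by omega)
  · rcases Nat.lt_or_ge v 15789 with h | h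
    · exact fixPtsF_spec W_72 5263 10526 relc_72_2 v (by omega) (by omega)
    · exact fixPtsF_spec W_72 1491 15789 relc_72_3 v (by omega) (by omega)

set_option maxRecDepth 1000000 in
theorem walk_72 : ∀ v, walkT ctF (D.wlen 72) (D.wordP 72) v = W_72 v := by
  intro v
  simp only [W_72, forceL_eq]
  rfl

theorem relw_72 : ∀ v, v < 17280 → walkT ctF (D.wlen 72) (D.wordP 72) v = v := by
  intro v hv
  rw [walk_72]
  exact relf_72 v hv

theorem relf_73 : ∀ v, v < 17280 → W_73 v = v := by
  intro v hv
  rcases Nat.lt_or_ge v 10526 with h | h
  · rcases Nat.lt_or_ge v 5263 with h | h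
    · exact fixPtsF_spec W_73 5263 0 relc_73_0 v (by omega) (by omega)
    · exact fixPtsF_spec W_73 5263 5263 relc_73_1 v (by omega) (by omega)
  · rcases Nat.lt_or_ge v 15789 with h | h
    · exact fixPtsF_spec W_73 5263 10526 relc_73_2 v (by omega) (by omega)
    · exact fixPtsF_spec W_73 1491 15789 relc_73_3 v (by omega) (by omega)

set_option maxRecDepth 1000000 in
theorem walk_73 : ∀ v, walkT ctF (D.wlen 73) (D.wordP 73) v = W_73 v := by
  intro v
  simp only [W_73, forceL_eq]
  rfl

theorem relw_73 : ∀ v, v < 17280 → walkT ctF (D.wlen 73) (D.wordP 73) v = v := by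
  intro v hv
  rw [walk_73]
  exact relf_73 v hv

theorem relf_74 : ∀ v, v < 17280 → W_74 v = v := by
  intro v hv
  rcases Nat.lt_or_ge v 10526 with h | h
  · rcases Nat.lt_or_ge v 5263 with h | h
    · exact fixPtsF_spec W_74 5263 0 relc_74_0 v (by omega) (by omega)
    · exact fixPtsF_spec W_74 5263 5263 relc_74_1 v (by omega) (by omega)
  · rcases Nat.lt_or_ge v 15789 with h | h
    · exact fixPtsF_spec W_74 5263 10526 relc_74_2 v (by omega) (by omega)
    · exact fixPtsF_spec W_74 1491 15789 relc_74_3 v (by omega) (by omega)

set_option maxRecDepth 1000000 in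
theorem walk_74 : ∀ v, walkT ctF (D.wlen 74) (D.wordP 74) v = W_74 v := by
  intro v
  simp only [W_74, forceL_eq]
  rfl

theorem relw_74 : ∀ v, v < 17280 → walkT ctF (D.wlen 74) (D.wordP 74) v = v := by
  intro v hv
  rw [walk_74]
  exact relf_74 v hv

theorem relf_75 : ∀ v, v < 17280 → W_75 v = v := by
  intro v hv
  rcases Nat.lt_or_ge v 10526 with h | h
  · rcases Nat.lt_or_ge v 5263 with h | h
    · exact fixPtsF_spec W_75 5263 0 relc_75_0 v (by omega) (by omega)
    · exact fixPtsF_spec W_75 5263 5263 relc_75_1 v (by omega) (by omega)
  · rcases Nat.lt_or_ge v 15789 with h | h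
    · exact fixPtsF_spec W_75 5263 10526 relc_75_2 v (by omega) (by omega)
    · exact fixPtsF_spec W_75 1491 15789 relc_75_3 v (by omega) (by omega)

set_option maxRecDepth 1000000 in
theorem walk_75 : ∀ v, walkT ctF (D.wlen 75) (D.wordP 75) v = W_75 v := by
  intro v
  simp only [W_75, forceL_eq]
  rfl

theorem relw_75 : ∀ v, v < 17280 → walkT ctF (D.wlen 75) (D.wordP 75) v = v := by
  intro v hv
  rw [walk_75]
  exact relf_75 v hv

theorem relf_76 : ∀ v, v < 17280 → W_76 v = v := by
  intro v hv
  rcases Nat.lt_or_ge v 10526 with h | h
  · rcases Nat.lt_or_ge v 5263 with h | h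
    · exact fixPtsF_spec W_76 5263 0 relc_76_0 v (by omega) (by omega)
    · exact fixPtsF_spec W_76 5263 5263 relc_76_1 v (by omega) (by omega)
  · rcases Nat.lt_or_ge v 15789 with h | h
    · exact fixPtsF_spec W_76 5263 10526 relc_76_2 v (by omega) (by omega)
    · exact fixPtsF_spec W_76 1491 15789 relc_76_3 v (by omega) (by omega)

set_option maxRecDepth 1000000 in
theorem walk_76 : ∀ v, walkT ctF (D.wlen 76) (D.wordP 76) v = W_76 v := by
  intro v
  simp only [W_76, forceL_eq]
  rfl

theorem relw_76 : ∀ v, v < 17280 → walkT ctF (D.wlen 76) (D.wordP 76) v = v := by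
  intro v hv
  rw [walk_76]
  exact relf_76 v hv

theorem relf_77 : ∀ v, v < 17280 → W_77 v = v := by
  intro v hv
  rcases Nat.lt_or_ge v 10526 with h | h
  · rcases Nat.lt_or_ge v 5263 with h | h
    · exact fixPtsF_spec W_77 5263 0 relc_77_0 v (by omega) (by omega)
    · exact fixPtsF_spec W_77 5263 5263 relc_77_1 v (by omega) (by omega)
  · rcases Nat.lt_or_ge v 15789 with h | h
    · exact fixPtsF_spec W_77 5263 10526 relc_77_2 v (by omega) (by omega)
    · exact fixPtsF_spec W_77 1491 15789 relc_77_3 v (by omega) (by omega)

set_option maxRecDepth 1000000 in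
theorem walk_77 : ∀ v, walkT ctF (D.wlen 77) (D.wordP 77) v = W_77 v := by
  intro v
  simp only [W_77, forceL_eq]
  rfl

theorem relw_77 : ∀ v, v < 17280 → walkT ctF (D.wlen 77) (D.wordP 77) v = v := by
  intro v hv
  rw [walk_77]
  exact relf_77 v hv

theorem relf_78 : ∀ v, v < 17280 → W_78 v = v := by
  intro v hv
  rcases Nat.lt_or_ge v 10526 with h | h
  · rcases Nat.lt_or_ge v 5263 with h | h
    · exact fixPtsF_spec W_78 5263 0 relc_78_0 v (by omega) (by omega)
    · exact fixPtsF_spec W_78 5263 5263 relc_78_1 v (by omega) (by omega)
  · rcases Nat.lt_or_ge v 15789 with h | h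
    · exact fixPtsF_spec W_78 5263 10526 relc_78_2 v (by omega) (by omega)
    · exact fixPtsF_spec W_78 1491 15789 relc_78_3 v (by omega) (by omega)

set_option maxRecDepth 1000000 in
theorem walk_78 : ∀ v, walkT ctF (D.wlen 78) (D.wordP 78) v = W_78 v := by
  intro v
  simp only [W_78, forceL_eq]
  rfl

theorem relw_78 : ∀ v, v < 17280 → walkT ctF (D.wlen 78) (D.wordP 78) v = v := by
  intro v hv
  rw [walk_78]
  exact relf_78 v hv

theorem relf_79 : ∀ v, v < 17280 → W_79 v = v := by
  intro v hv
  rcases Nat.lt_or_ge v 10526 with h | h
  · rcases Nat.lt_or_ge v 5263 with h | h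
    · exact fixPtsF_spec W_79 5263 0 relc_79_0 v (by omega) (by omega)
    · exact fixPtsF_spec W_79 5263 5263 relc_79_1 v (by omega) (by omega)
  · rcases Nat.lt_or_ge v 15789 with h | h
    · exact fixPtsF_spec W_79 5263 10526 relc_79_2 v (by omega) (by omega)
    · exact fixPtsF_spec W_79 1491 15789 relc_79_3 v (by omega) (by omega)

set_option maxRecDepth 1000000 in
theorem walk_79 : ∀ v, walkT ctF (D.wlen 79) (D.wordP 79) v = W_79 v := by
  intro v
  simp only [W_79, forceL_eq]
  rfl

theorem relw_79 : ∀ v, v < 17280 → walkT ctF (D.wlen 79) (D.wordP 79) v = v := by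
  intro v hv
  rw [walk_79]
  exact relf_79 v hv

theorem relf_80 : ∀ v, v < 17280 → W_80 v = v := by
  intro v hv
  rcases Nat.lt_or_ge v 10526 with h | h
  · rcases Nat.lt_or_ge v 5263 with h | h
    · exact fixPtsF_spec W_80 5263 0 relc_80_0 v (by omega) (by omega)
    · exact fixPtsF_spec W_80 5263 5263 relc_80_1 v (by omega) (by omega)
  · rcases Nat.lt_or_ge v 15789 with h | h
    · exact fixPtsF_spec W_80 5263 10526 relc_80_2 v (by omega) (by omega)
    · exact fixPtsF_spec W_80 1491 15789 relc_80_3 v (by omega) (by omega)

set_option maxRecDepth 1000000 in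
theorem walk_80 : ∀ v, walkT ctF (D.wlen 80) (D.wordP 80) v = W_80 v := by
  intro v
  simp only [W_80, forceL_eq]
  rfl

theorem relw_80 : ∀ v, v < 17280 → walkT ctF (D.wlen 80) (D.wordP 80) v = v := by
  intro v hv
  rw [walk_80]
  exact relf_80 v hv

theorem relf_81 : ∀ v, v < 17280 → W_81 v = v := by
  intro v hv
  rcases Nat.lt_or_ge v 10526 with h | h
  · rcases Nat.lt_or_ge v 5263 with h | h
    · exact fixPtsF_spec W_81 5263 0 relc_81_0 v (by omega) (by omega)
    · exact fixPtsF_spec W_81 5263 5263 relc_81_1 v (by omega) (by omega)
  · rcases Nat.lt_or_ge v 15789 with h | h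
    · exact fixPtsF_spec W_81 5263 10526 relc_81_2 v (by omega) (by omega)
    · exact fixPtsF_spec W_81 1491 15789 relc_81_3 v (by omega) (by omega)

set_option maxRecDepth 1000000 in
theorem walk_81 : ∀ v, walkT ctF (D.wlen 81) (D.wordP 81) v = W_81 v := by
  intro v
  simp only [W_81, forceL_eq]
  rfl

theorem relw_81 : ∀ v, v < 17280 → walkT ctF (D.wlen 81) (D.wordP 81) v = v := by
  intro v hv
  rw [walk_81]
  exact relf_81 v hv

theorem relf_82 : ∀ v, v < 17280 → W_82 v = v := by
  intro v hv
  rcases Nat.lt_or_ge v 10526 with h | h
  · rcases Nat.lt_or_ge v 5263 with h | h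
    · exact fixPtsF_spec W_82 5263 0 relc_82_0 v (by omega) (by omega)
    · exact fixPtsF_spec W_82 5263 5263 relc_82_1 v (by omega) (by omega)
  · rcases Nat.lt_or_ge v 15789 with h | h
    · exact fixPtsF_spec W_82 5263 10526 relc_82_2 v (by omega) (by omega)
    · exact fixPtsF_spec W_82 1491 15789 relc_82_3 v (by omega) (by omega)

set_option maxRecDepth 1000000 in
theorem walk_82 : ∀ v, walkT ctF (D.wlen 82) (D.wordP 82) v = W_82 v := by
  intro v
  simp only [W_82, forceL_eq]
  rfl

theorem relw_82 : ∀ v, v < 17280 → walkT ctF (D.wlen 82) (D.wordP 82) v = v := by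
  intro v hv
  rw [walk_82]
  exact relf_82 v hv

theorem relf_83 : ∀ v, v < 17280 → W_83 v = v := by
  intro v hv
  rcases Nat.lt_or_ge v 10526 with h | h
  · rcases Nat.lt_or_ge v 5263 with h | h
    · exact fixPtsF_spec W_83 5263 0 relc_83_0 v (by omega) (by omega)
    · exact fixPtsF_spec W_83 5263 5263 relc_83_1 v (by omega) (by omega)
  · rcases Nat.lt_or_ge v 15789 with h | h
    · exact fixPtsF_spec W_83 5263 10526 relc_83_2 v (by omega) (by omega)
    · exact fixPtsF_spec W_83 1491 15789 relc_83_3 v (by omega) (by omega)

set_option maxRecDepth 1000000 in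
theorem walk_83 : ∀ v, walkT ctF (D.wlen 83) (D.wordP 83) v = W_83 v := by
  intro v
  simp only [W_83, forceL_eq]
  rfl

theorem relw_83 : ∀ v, v < 17280 → walkT ctF (D.wlen 83) (D.wordP 83) v = v := by
  intro v hv
  rw [walk_83]
  exact relf_83 v hv

theorem relf_84 : ∀ v, v < 17280 → W_84 v = v := by
  intro v hv
  rcases Nat.lt_or_ge v 10526 with h | h
  · rcases Nat.lt_or_ge v 5263 with h | h
    · exact fixPtsF_spec W_84 5263 0 relc_84_0 v (by omega) (by omega)
    · exact fixPtsF_spec W_84 5263 5263 relc_84_1 v (by omega) (by omega)
  · rcases Nat.lt_or_ge v 15789 with h | h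
    · exact fixPtsF_spec W_84 5263 10526 relc_84_2 v (by omega) (by omega)
    · exact fixPtsF_spec W_84 1491 15789 relc_84_3 v (by omega) (by omega)

set_option maxRecDepth 1000000 in
theorem walk_84 : ∀ v, walkT ctF (D.wlen 84) (D.wordP 84) v = W_84 v := by
  intro v
  simp only [W_84, forceL_eq]
  rfl

theorem relw_84 : ∀ v, v < 17280 → walkT ctF (D.wlen 84) (D.wordP 84) v = v := by
  intro v hv
  rw [walk_84]
  exact relf_84 v hv

theorem relf_85 : ∀ v, v < 17280 → W_85 v = v := by
  intro v hv
  rcases Nat.lt_or_ge v 10526 with h | h
  · rcases Nat.lt_or_ge v 5263 with h | h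
    · exact fixPtsF_spec W_85 5263 0 relc_85_0 v (by omega) (by omega)
    · exact fixPtsF_spec W_85 5263 5263 relc_85_1 v (by omega) (by omega)
  · rcases Nat.lt_or_ge v 15789 with h | h
    · exact fixPtsF_spec W_85 5263 10526 relc_85_2 v (by omega) (by omega)
    · exact fixPtsF_spec W_85 1491 15789 relc_85_3 v (by omega) (by omega)

set_option maxRecDepth 1000000 in
theorem walk_85 : ∀ v, walkT ctF (D.wlen 85) (D.wordP 85) v = W_85 v := by
  intro v
  simp only [W_85, forceL_eq]
  rfl

theorem relw_85 : ∀ v, v < 17280 → walkT ctF (D.wlen 85) (D.wordP 85) v = v := by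
  intro v hv
  rw [walk_85]
  exact relf_85 v hv

theorem relf_86 : ∀ v, v < 17280 → W_86 v = v := by
  intro v hv
  rcases Nat.lt_or_ge v 9090 with h | h
  · rcases Nat.lt_or_ge v 4545 with h | h
    · exact fixPtsF_spec W_86 4545 0 relc_86_0 v (by omega) (by omega)
    · exact fixPtsF_spec W_86 4545 4545 relc_86_1 v (by omega) (by omega)
  · rcases Nat.lt_or_ge v 13635 with h | h
    · exact fixPtsF_spec W_86 4545 9090 relc_86_2 v (by omega) (by omega)
    · exact fixPtsF_spec W_86 3645 13635 relc_86_3 v (by omega) (by omega)

set_option maxRecDepth 1000000 in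
theorem walk_86 : ∀ v, walkT ctF (D.wlen 86) (D.wordP 86) v = W_86 v := by
  intro v
  simp only [W_86, forceL_eq]
  rfl

theorem relw_86 : ∀ v, v < 17280 → walkT ctF (D.wlen 86) (D.wordP 86) v = v := by
  intro v hv
  rw [walk_86]
  exact relf_86 v hv

theorem relf_87 : ∀ v, v < 17280 → W_87 v = v := by
  intro v hv
  rcases Nat.lt_or_ge v 9090 with h | h
  · rcases Nat.lt_or_ge v 4545 with h | h
    · exact fixPtsF_spec W_87 4545 0 relc_87_0 v (by omega) (by omega)
    · exact fixPtsF_spec W_87 4545 4545 relc_87_1 v (by omega) (by omega)
  · rcases Nat.lt_or_ge v 13635 with h | h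
    · exact fixPtsF_spec W_87 4545 9090 relc_87_2 v (by omega) (by omega)
    · exact fixPtsF_spec W_87 3645 13635 relc_87_3 v (by omega) (by omega)

set_option maxRecDepth 1000000 in
theorem walk_87 : ∀ v, walkT ctF (D.wlen 87) (D.wordP 87) v = W_87 v := by
  intro v
  simp only [W_87, forceL_eq]
  rfl

theorem relw_87 : ∀ v, v < 17280 → walkT ctF (D.wlen 87) (D.wordP 87) v = v := by
  intro v hv
  rw [walk_87]
  exact relf_87 v hv

theorem relf_88 : ∀ v, v < 17280 → W_88 v = v := by
  intro v hv
  rcases Nat.lt_or_ge v 8332 with h | h
  · rcases Nat.lt_or_ge v 4166 with h | h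
    · exact fixPtsF_spec W_88 4166 0 relc_88_0 v (by omega) (by omega)
    · exact fixPtsF_spec W_88 4166 4166 relc_88_1 v (by omega) (by omega)
  · rcases Nat.lt_or_ge v 12498 with h | h
    · exact fixPtsF_spec W_88 4166 8332 relc_88_2 v (by omega) (by omega)
    · rcases Nat.lt_or_ge v 16664 with h | h
      · exact fixPtsF_spec W_88 4166 12498 relc_88_3 v (by omega) (by omega)
      · exact fixPtsF_spec W_88 616 16664 relc_88_4 v (by omega) (by omega)

set_option maxRecDepth 1000000 in
theorem walk_88 : ∀ v, walkT ctF (D.wlen 88) (D.wordP 88) v = W_88 v := by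
  intro v
  simp only [W_88, forceL_eq]
  rfl

theorem relw_88 : ∀ v, v < 17280 → walkT ctF (D.wlen 88) (D.wordP 88) v = v := by
  intro v hv
  rw [walk_88]
  exact relf_88 v hv

theorem relf_89 : ∀ v, v < 17280 → W_89 v = v := by
  intro v hv
  rcases Nat.lt_or_ge v 8332 with h | h
  · rcases Nat.lt_or_ge v 4166 with h | h
    · exact fixPtsF_spec W_89 4166 0 relc_89_0 v (by omega) (by omega)
    · exact fixPtsF_spec W_89 4166 4166 relc_89_1 v (by omega) (by omega)
  · rcases Nat.lt_or_ge v 12498 with h | h
    · exact fixPtsF_spec W_89 4166 8332 relc_89_2 v (by omega) (by omega)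
    · rcases Nat.lt_or_ge v 16664 with h | h
      · exact fixPtsF_spec W_89 4166 12498 relc_89_3 v (by omega) (by omega)
      · exact fixPtsF_spec W_89 616 16664 relc_89_4 v (by omega) (by omega)

set_option maxRecDepth 1000000 in
theorem walk_89 : ∀ v, walkT ctF (D.wlen 89) (D.wordP 89) v = W_89 v := by
  intro v
  simp only [W_89, forceL_eq]
  rfl

theorem relw_89 : ∀ v, v < 17280 → walkT ctF (D.wlen 89) (D.wordP 89) v = v := by
  intro v hv
  rw [walk_89]
  exact relf_89 v hv

theorem relf_90 : ∀ v, v < 17280 → W_90 v = v := by
  intro v hv
  rcases Nat.lt_or_ge v 7692 with h | h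
  · rcases Nat.lt_or_ge v 3846 with h | h
    · exact fixPtsF_spec W_90 3846 0 relc_90_0 v (by omega) (by omega)
    · exact fixPtsF_spec W_90 3846 3846 relc_90_1 v (by omega) (by omega)
  · rcases Nat.lt_or_ge v 11538 with h | h
    · exact fixPtsF_spec W_90 3846 7692 relc_90_2 v (by omega) (by omega)
    · rcases Nat.lt_or_ge v 15384 with h | h
      · exact fixPtsF_spec W_90 3846 11538 relc_90_3 v (by omega) (by omega)
      · exact fixPtsF_spec W_90 1896 15384 relc_90_4 v (by omega) (by omega)

set_option maxRecDepth 1000000 in
theorem walk_90 : ∀ v, walkT ctF (D.wlen 90) (D.wordP 90) v = W_90 v := by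
  intro v
  simp only [W_90, forceL_eq]
  rfl

theorem relw_90 : ∀ v, v < 17280 → walkT ctF (D.wlen 90) (D.wordP 90) v = v := by
  intro v hv
  rw [walk_90]
  exact relf_90 v hv

theorem relf_91 : ∀ v, v < 17280 → W_91 v = v := by
  intro v hv
  rcases Nat.lt_or_ge v 7692 with h | h
  · rcases Nat.lt_or_ge v 3846 with h | h
    · exact fixPtsF_spec W_91 3846 0 relc_91_0 v (by omega) (by omega)
    · exact fixPtsF_spec W_91 3846 3846 relc_91_1 v (by omega) (by omega)
  · rcases Nat.lt_or_ge v 11538 with h | h
    · exact fixPtsF_spec W_91 3846 7692 relc_91_2 v (by omega) (by omega)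
    · rcases Nat.lt_or_ge v 15384 with h | h
      · exact fixPtsF_spec W_91 3846 11538 relc_91_3 v (by omega) (by omega)
      · exact fixPtsF_spec W_91 1896 15384 relc_91_4 v (by omega) (by omega)

set_option maxRecDepth 1000000 in
theorem walk_91 : ∀ v, walkT ctF (D.wlen 91) (D.wordP 91) v = W_91 v := by
  intro v
  simp only [W_91, forceL_eq]
  rfl

theorem relw_91 : ∀ v, v < 17280 → walkT ctF (D.wlen 91) (D.wordP 91) v = v := by
  intro v hv
  rw [walk_91]
  exact relf_91 v hv

theorem relf_92 : ∀ v, v < 17280 → W_92 v = v := by
  intro v hv
  rcases Nat.lt_or_ge v 7142 with h | h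
  · rcases Nat.lt_or_ge v 3571 with h | h
    · exact fixPtsF_spec W_92 3571 0 relc_92_0 v (by omega) (by omega)
    · exact fixPtsF_spec W_92 3571 3571 relc_92_1 v (by omega) (by omega)
  · rcases Nat.lt_or_ge v 10713 with h | h
    · exact fixPtsF_spec W_92 3571 7142 relc_92_2 v (by omega) (by omega)
    · rcases Nat.lt_or_ge v 14284 with h | h
      · exact fixPtsF_spec W_92 3571 10713 relc_92_3 v (by omega) (by omega)
      · exact fixPtsF_spec W_92 2996 14284 relc_92_4 v (by omega) (by omega)

set_option maxRecDepth 1000000 in
theorem walk_92 : ∀ v, walkT ctF (D.wlen 92) (D.wordP 92) v = W_92 v := by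
  intro v
  simp only [W_92, forceL_eq]
  rfl

theorem relw_92 : ∀ v, v < 17280 → walkT ctF (D.wlen 92) (D.wordP 92) v = v := by
  intro v hv
  rw [walk_92]
  exact relf_92 v hv

theorem relf_93 : ∀ v, v < 17280 → W_93 v = v := by
  intro v hv
  rcases Nat.lt_or_ge v 7142 with h | h
  · rcases Nat.lt_or_ge v 3571 with h | h
    · exact fixPtsF_spec W_93 3571 0 relc_93_0 v (by omega) (by omega)
    · exact fixPtsF_spec W_93 3571 3571 relc_93_1 v (by omega) (by omega)
  · rcases Nat.lt_or_ge v 10713 with h | h
    · exact fixPtsF_spec W_93 3571 7142 relc_93_2 v (by omega) (by omega)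
    · rcases Nat.lt_or_ge v 14284 with h | h
      · exact fixPtsF_spec W_93 3571 10713 relc_93_3 v (by omega) (by omega)
      · exact fixPtsF_spec W_93 2996 14284 relc_93_4 v (by omega) (by omega)

set_option maxRecDepth 1000000 in
theorem walk_93 : ∀ v, walkT ctF (D.wlen 93) (D.wordP 93) v = W_93 v := by
  intro v
  simp only [W_93, forceL_eq]
  rfl

theorem relw_93 : ∀ v, v < 17280 → walkT ctF (D.wlen 93) (D.wordP 93) v = v := by
  intro v hv
  rw [walk_93]
  exact relf_93 v hv

theorem relf_94 : ∀ v, v < 17280 → W_94 v = v := by
  intro v hv
  rcases Nat.lt_or_ge v 7142 with h | h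
  · rcases Nat.lt_or_ge v 3571 with h | h
    · exact fixPtsF_spec W_94 3571 0 relc_94_0 v (by omega) (by omega)
    · exact fixPtsF_spec W_94 3571 3571 relc_94_1 v (by omega) (by omega)
  · rcases Nat.lt_or_ge v 10713 with h | h
    · exact fixPtsF_spec W_94 3571 7142 relc_94_2 v (by omega) (by omega)
    · rcases Nat.lt_or_ge v 14284 with h | h
      · exact fixPtsF_spec W_94 3571 10713 relc_94_3 v (by omega) (by omega)
      · exact fixPtsF_spec W_94 2996 14284 relc_94_4 v (by omega) (by omega)

set_option maxRecDepth 1000000 in
theorem walk_94 : ∀ v, walkT ctF (D.wlen 94) (D.wordP 94) v = W_94 v := by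
  intro v
  simp only [W_94, forceL_eq]
  rfl

theorem relw_94 : ∀ v, v < 17280 → walkT ctF (D.wlen 94) (D.wordP 94) v = v := by
  intro v hv
  rw [walk_94]
  exact relf_94 v hv

theorem relf_95 : ∀ v, v < 17280 → W_95 v = v := by
  intro v hv
  rcases Nat.lt_or_ge v 7142 with h | h
  · rcases Nat.lt_or_ge v 3571 with h | h
    · exact fixPtsF_spec W_95 3571 0 relc_95_0 v (by omega) (by omega)
    · exact fixPtsF_spec W_95 3571 3571 relc_95_1 v (by omega) (by omega)
  · rcases Nat.lt_or_ge v 10713 with h | h
    · exact fixPtsF_spec W_95 3571 7142 relc_95_2 v (by omega) (by omega)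
    · rcases Nat.lt_or_ge v 14284 with h | h
      · exact fixPtsF_spec W_95 3571 10713 relc_95_3 v (by omega) (by omega)
      · exact fixPtsF_spec W_95 2996 14284 relc_95_4 v (by omega) (by omega)

set_option maxRecDepth 1000000 in
theorem walk_95 : ∀ v, walkT ctF (D.wlen 95) (D.wordP 95) v = W_95 v := by
  intro v
  simp only [W_95, forceL_eq]
  rfl

theorem relw_95 : ∀ v, v < 17280 → walkT ctF (D.wlen 95) (D.wordP 95) v = v := by
  intro v hv
  rw [walk_95]
  exact relf_95 v hv

theorem relf_96 : ∀ v, v < 17280 → W_96 v = v := by
  intro v hv
  rcases Nat.lt_or_ge v 9999 with h | h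
  · rcases Nat.lt_or_ge v 3333 with h | h
    · exact fixPtsF_spec W_96 3333 0 relc_96_0 v (by omega) (by omega)
    · rcases Nat.lt_or_ge v 6666 with h | h
      · exact fixPtsF_spec W_96 3333 3333 relc_96_1 v (by omega) (by omega)
      · exact fixPtsF_spec W_96 3333 6666 relc_96_2 v (by omega) (by omega)
  · rcases Nat.lt_or_ge v 13332 with h | h
    · exact fixPtsF_spec W_96 3333 9999 relc_96_3 v (by omega) (by omega)
    · rcases Nat.lt_or_ge v 16665 with h | h
      · exact fixPtsF_spec W_96 3333 13332 relc_96_4 v (by omega) (by omega)
      · exact fixPtsF_spec W_96 615 16665 relc_96_5 v (by omega) (by omega)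

set_option maxRecDepth 1000000 in
theorem walk_96 : ∀ v, walkT ctF (D.wlen 96) (D.wordP 96) v = W_96 v := by
  intro v
  simp only [W_96, forceL_eq]
  rfl

theorem relw_96 : ∀ v, v < 17280 → walkT ctF (D.wlen 96) (D.wordP 96) v = v := by
  intro v hv
  rw [walk_96]
  exact relf_96 v hv

theorem relf_97 : ∀ v, v < 17280 → W_97 v = v := by
  intro v hv
  rcases Nat.lt_or_ge v 9999 with h | h
  · rcases Nat.lt_or_ge v 3333 with h | h
    · exact fixPtsF_spec W_97 3333 0 relc_97_0 v (by omega) (by omega)
    · rcases Nat.lt_or_ge v 6666 with h | h
      · exact fixPtsF_spec W_97 3333 3333 relc_97_1 v (by omega) (by omega)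
      · exact fixPtsF_spec W_97 3333 6666 relc_97_2 v (by omega) (by omega)
  · rcases Nat.lt_or_ge v 13332 with h | h
    · exact fixPtsF_spec W_97 3333 9999 relc_97_3 v (by omega) (by omega)
    · rcases Nat.lt_or_ge v 16665 with h | h
      · exact fixPtsF_spec W_97 3333 13332 relc_97_4 v (by omega) (by omega)
      · exact fixPtsF_spec W_97 615 16665 relc_97_5 v (by omega) (by omega)

set_option maxRecDepth 1000000 in
theorem walk_97 : ∀ v, walkT ctF (D.wlen 97) (D.wordP 97) v = W_97 v := by
  intro v
  simp only [W_97, forceL_eq]
  rfl

theorem relw_97 : ∀ v, v < 17280 → walkT ctF (D.wlen 97) (D.wordP 97) v = v := by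
  intro v hv
  rw [walk_97]
  exact relf_97 v hv

theorem relf_98 : ∀ v, v < 17280 → W_98 v = v := by
  intro v hv
  rcases Nat.lt_or_ge v 9999 with h | h
  · rcases Nat.lt_or_ge v 3333 with h | h
    · exact fixPtsF_spec W_98 3333 0 relc_98_0 v (by omega) (by omega)
    · rcases Nat.lt_or_ge v 6666 with h | h
      · exact fixPtsF_spec W_98 3333 3333 relc_98_1 v (by omega) (by omega)
      · exact fixPtsF_spec W_98 3333 6666 relc_98_2 v (by omega) (by omega)
  · rcases Nat.lt_or_ge v 13332 with h | h
    · exact fixPtsF_spec W_98 3333 9999 relc_98_3 v (by omega) (by omega)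
    · rcases Nat.lt_or_ge v 16665 with h | h
      · exact fixPtsF_spec W_98 3333 13332 relc_98_4 v (by omega) (by omega)
      · exact fixPtsF_spec W_98 615 16665 relc_98_5 v (by omega) (by omega)

set_option maxRecDepth 1000000 in
theorem walk_98 : ∀ v, walkT ctF (D.wlen 98) (D.wordP 98) v = W_98 v := by
  intro v
  simp only [W_98, forceL_eq]
  rfl

theorem relw_98 : ∀ v, v < 17280 → walkT ctF (D.wlen 98) (D.wordP 98) v = v := by
  intro v hv
  rw [walk_98]
  exact relf_98 v hv

theorem relf_99 : ∀ v, v < 17280 → W_99 v = v := by
  intro v hv
  rcases Nat.lt_or_ge v 9999 with h | h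
  · rcases Nat.lt_or_ge v 3333 with h | h
    · exact fixPtsF_spec W_99 3333 0 relc_99_0 v (by omega) (by omega)
    · rcases Nat.lt_or_ge v 6666 with h | h
      · exact fixPtsF_spec W_99 3333 3333 relc_99_1 v (by omega) (by omega)
      · exact fixPtsF_spec W_99 3333 6666 relc_99_2 v (by omega) (by omega)
  · rcases Nat.lt_or_ge v 13332 with h | h
    · exact fixPtsF_spec W_99 3333 9999 relc_99_3 v (by omega) (by omega)
    · rcases Nat.lt_or_ge v 16665 with h | h
      · exact fixPtsF_spec W_99 3333 13332 relc_99_4 v (by omega) (by omega)
      · exact fixPtsF_spec W_99 615 16665 relc_99_5 v (by omega) (by omega)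

set_option maxRecDepth 1000000 in
theorem walk_99 : ∀ v, walkT ctF (D.wlen 99) (D.wordP 99) v = W_99 v := by
  intro v
  simp only [W_99, forceL_eq]
  rfl

theorem relw_99 : ∀ v, v < 17280 → walkT ctF (D.wlen 99) (D.wordP 99) v = v := by
  intro v hv
  rw [walk_99]
  exact relf_99 v hv

theorem relf_100 : ∀ v, v < 17280 → W_100 v = v := by
  intro v hv
  rcases Nat.lt_or_ge v 9999 with h | h
  · rcases Nat.lt_or_ge v 3333 with h | h
    · exact fixPtsF_spec W_100 3333 0 relc_100_0 v (by omega) (by omega)
    · rcases Nat.lt_or_ge v 6666 with h | h
      · exact fixPtsF_spec W_100 3333 3333 relc_100_1 v (by omega) (by omega)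
      · exact fixPtsF_spec W_100 3333 6666 relc_100_2 v (by omega) (by omega)
  · rcases Nat.lt_or_ge v 13332 with h | h
    · exact fixPtsF_spec W_100 3333 9999 relc_100_3 v (by omega) (by omega)
    · rcases Nat.lt_or_ge v 16665 with h | h
      · exact fixPtsF_spec W_100 3333 13332 relc_100_4 v (by omega) (by omega)
      · exact fixPtsF_spec W_100 615 16665 relc_100_5 v (by omega) (by omega)

set_option maxRecDepth 1000000 in
theorem walk_100 : ∀ v, walkT ctF (D.wlen 100) (D.wordP 100) v = W_100 v := by
  intro v
  simp only [W_100, forceL_eq]
  rfl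

theorem relw_100 : ∀ v, v < 17280 → walkT ctF (D.wlen 100) (D.wordP 100) v = v := by
  intro v hv
  rw [walk_100]
  exact relf_100 v hv

theorem relf_101 : ∀ v, v < 17280 → W_101 v = v := by
  intro v hv
  rcases Nat.lt_or_ge v 9999 with h | h
  · rcases Nat.lt_or_ge v 3333 with h | h
    · exact fixPtsF_spec W_101 3333 0 relc_101_0 v (by omega) (by omega)
    · rcases Nat.lt_or_ge v 6666 with h | h
      · exact fixPtsF_spec W_101 3333 3333 relc_101_1 v (by omega) (by omega)
      · exact fixPtsF_spec W_101 3333 6666 relc_101_2 v (by omega) (by omega)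
  · rcases Nat.lt_or_ge v 13332 with h | h
    · exact fixPtsF_spec W_101 3333 9999 relc_101_3 v (by omega) (by omega)
    · rcases Nat.lt_or_ge v 16665 with h | h
      · exact fixPtsF_spec W_101 3333 13332 relc_101_4 v (by omega) (by omega)
      · exact fixPtsF_spec W_101 615 16665 relc_101_5 v (by omega) (by omega)

set_option maxRecDepth 1000000 in
theorem walk_101 : ∀ v, walkT ctF (D.wlen 101) (D.wordP 101) v = W_101 v := by
  intro v
  simp only [W_101, forceL_eq]
  rfl

theorem relw_101 : ∀ v, v < 17280 → walkT ctF (D.wlen 101) (D.wordP 101) v = v := by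
  intro v hv
  rw [walk_101]
  exact relf_101 v hv

theorem relf_102 : ∀ v, v < 17280 → W_102 v = v := by
  intro v hv
  rcases Nat.lt_or_ge v 9375 with h | h
  · rcases Nat.lt_or_ge v 3125 with h | h
    · exact fixPtsF_spec W_102 3125 0 relc_102_0 v (by omega) (by omega)
    · rcases Nat.lt_or_ge v 6250 with h | h
      · exact fixPtsF_spec W_102 3125 3125 relc_102_1 v (by omega) (by omega)
      · exact fixPtsF_spec W_102 3125 6250 relc_102_2 v (by omega) (by omega)
  · rcases Nat.lt_or_ge v 12500 with h | h
    · exact fixPtsF_spec W_102 3125 9375 relc_102_3 v (by omega) (by omega)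
    · rcases Nat.lt_or_ge v 15625 with h | h
      · exact fixPtsF_spec W_102 3125 12500 relc_102_4 v (by omega) (by omega)
      · exact fixPtsF_spec W_102 1655 15625 relc_102_5 v (by omega) (by omega)

set_option maxRecDepth 1000000 in
theorem walk_102 : ∀ v, walkT ctF (D.wlen 102) (D.wordP 102) v = W_102 v := by
  intro v
  simp only [W_102, forceL_eq]
  rfl

theorem relw_102 : ∀ v, v < 17280 → walkT ctF (D.wlen 102) (D.wordP 102) v = v := by
  intro v hv
  rw [walk_102]
  exact relf_102 v hv

theorem relf_103 : ∀ v, v < 17280 → W_103 v = v := by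
  intro v hv
  rcases Nat.lt_or_ge v 9375 with h | h
  · rcases Nat.lt_or_ge v 3125 with h | h
    · exact fixPtsF_spec W_103 3125 0 relc_103_0 v (by omega) (by omega)
    · rcases Nat.lt_or_ge v 6250 with h | h
      · exact fixPtsF_spec W_103 3125 3125 relc_103_1 v (by omega) (by omega)
      · exact fixPtsF_spec W_103 3125 6250 relc_103_2 v (by omega) (by omega)
  · rcases Nat.lt_or_ge v 12500 with h | h
    · exact fixPtsF_spec W_103 3125 9375 relc_103_3 v (by omega) (by omega)
    · rcases Nat.lt_or_ge v 15625 with h | h
      · exact fixPtsF_spec W_103 3125 12500 relc_103_4 v (by omega) (by omega)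
      · exact fixPtsF_spec W_103 1655 15625 relc_103_5 v (by omega) (by omega)

set_option maxRecDepth 1000000 in
theorem walk_103 : ∀ v, walkT ctF (D.wlen 103) (D.wordP 103) v = W_103 v := by
  intro v
  simp only [W_103, forceL_eq]
  rfl

theorem relw_103 : ∀ v, v < 17280 → walkT ctF (D.wlen 103) (D.wordP 103) v = v := by
  intro v hv
  rw [walk_103]
  exact relf_103 v hv

theorem relf_104 : ∀ v, v < 17280 → W_104 v = v := by
  intro v hv
  rcases Nat.lt_or_ge v 9375 with h | h
  · rcases Nat.lt_or_ge v 3125 with h | h
    · exact fixPtsF_spec W_104 3125 0 relc_104_0 v (by omega) (by omega)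
    · rcases Nat.lt_or_ge v 6250 with h | h
      · exact fixPtsF_spec W_104 3125 3125 relc_104_1 v (by omega) (by omega)
      · exact fixPtsF_spec W_104 3125 6250 relc_104_2 v (by omega) (by omega)
  · rcases Nat.lt_or_ge v 12500 with h | h
    · exact fixPtsF_spec W_104 3125 9375 relc_104_3 v (by omega) (by omega)
    · rcases Nat.lt_or_ge v 15625 with h | h
      · exact fixPtsF_spec W_104 3125 12500 relc_104_4 v (by omega) (by omega)
      · exact fixPtsF_spec W_104 1655 15625 relc_104_5 v (by omega) (by omega)

set_option maxRecDepth 1000000 in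
theorem walk_104 : ∀ v, walkT ctF (D.wlen 104) (D.wordP 104) v = W_104 v := by
  intro v
  simp only [W_104, forceL_eq]
  rfl

theorem relw_104 : ∀ v, v < 17280 → walkT ctF (D.wlen 104) (D.wordP 104) v = v := by
  intro v hv
  rw [walk_104]
  exact relf_104 v hv

theorem relf_105 : ∀ v, v < 17280 → W_105 v = v := by
  intro v hv
  rcases Nat.lt_or_ge v 9375 with h | h
  · rcases Nat.lt_or_ge v 3125 with h | h
    · exact fixPtsF_spec W_105 3125 0 relc_105_0 v (by omega) (by omega)
    · rcases Nat.lt_or_ge v 6250 with h | h
      · exact fixPtsF_spec W_105 3125 3125 relc_105_1 v (by omega) (by omega)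
      · exact fixPtsF_spec W_105 3125 6250 relc_105_2 v (by omega) (by omega)
  · rcases Nat.lt_or_ge v 12500 with h | h
    · exact fixPtsF_spec W_105 3125 9375 relc_105_3 v (by omega) (by omega)
    · rcases Nat.lt_or_ge v 15625 with h | h
      · exact fixPtsF_spec W_105 3125 12500 relc_105_4 v (by omega) (by omega)
      · exact fixPtsF_spec W_105 1655 15625 relc_105_5 v (by omega) (by omega)

set_option maxRecDepth 1000000 in
theorem walk_105 : ∀ v, walkT ctF (D.wlen 105) (D.wordP 105) v = W_105 v := by
  intro v
  simp only [W_105, forceL_eq]
  rfl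

theorem relw_105 : ∀ v, v < 17280 → walkT ctF (D.wlen 105) (D.wordP 105) v = v := by
  intro v hv
  rw [walk_105]
  exact relf_105 v hv

theorem relf_106 : ∀ v, v < 17280 → W_106 v = v := by
  intro v hv
  rcases Nat.lt_or_ge v 9375 with h | h
  · rcases Nat.lt_or_ge v 3125 with h | h
    · exact fixPtsF_spec W_106 3125 0 relc_106_0 v (by omega) (by omega)
    · rcases Nat.lt_or_ge v 6250 with h | h
      · exact fixPtsF_spec W_106 3125 3125 relc_106_1 v (by omega) (by omega)
      · exact fixPtsF_spec W_106 3125 6250 relc_106_2 v (by omega) (by omega)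
  · rcases Nat.lt_or_ge v 12500 with h | h
    · exact fixPtsF_spec W_106 3125 9375 relc_106_3 v (by omega) (by omega)
    · rcases Nat.lt_or_ge v 15625 with h | h
      · exact fixPtsF_spec W_106 3125 12500 relc_106_4 v (by omega) (by omega)
      · exact fixPtsF_spec W_106 1655 15625 relc_106_5 v (by omega) (by omega)

set_option maxRecDepth 1000000 in
theorem walk_106 : ∀ v, walkT ctF (D.wlen 106) (D.wordP 106) v = W_106 v := by
  intro v
  simp only [W_106, forceL_eq]
  rfl

theorem relw_106 : ∀ v, v < 17280 → walkT ctF (D.wlen 106) (D.wordP 106) v = v := by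
  intro v hv
  rw [walk_106]
  exact relf_106 v hv

theorem relf_107 : ∀ v, v < 17280 → W_107 v = v := by
  intro v hv
  rcases Nat.lt_or_ge v 9375 with h | h
  · rcases Nat.lt_or_ge v 3125 with h | h
    · exact fixPtsF_spec W_107 3125 0 relc_107_0 v (by omega) (by omega)
    · rcases Nat.lt_or_ge v 6250 with h | h
      · exact fixPtsF_spec W_107 3125 3125 relc_107_1 v (by omega) (by omega)
      · exact fixPtsF_spec W_107 3125 6250 relc_107_2 v (by omega) (by omega)
  · rcases Nat.lt_or_ge v 12500 with h | h
    · exact fixPtsF_spec W_107 3125 9375 relc_107_3 v (by omega) (by omega)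
    · rcases Nat.lt_or_ge v 15625 with h | h
      · exact fixPtsF_spec W_107 3125 12500 relc_107_4 v (by omega) (by omega)
      · exact fixPtsF_spec W_107 1655 15625 relc_107_5 v (by omega) (by omega)

set_option maxRecDepth 1000000 in
theorem walk_107 : ∀ v, walkT ctF (D.wlen 107) (D.wordP 107) v = W_107 v := by
  intro v
  simp only [W_107, forceL_eq]
  rfl

theorem relw_107 : ∀ v, v < 17280 → walkT ctF (D.wlen 107) (D.wordP 107) v = v := by
  intro v hv
  rw [walk_107]
  exact relf_107 v hv

theorem relf_108 : ∀ v, v < 17280 → W_108 v = v := by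
  intro v hv
  rcases Nat.lt_or_ge v 9375 with h | h
  · rcases Nat.lt_or_ge v 3125 with h | h
    · exact fixPtsF_spec W_108 3125 0 relc_108_0 v (by omega) (by omega)
    · rcases Nat.lt_or_ge v 6250 with h | h
      · exact fixPtsF_spec W_108 3125 3125 relc_108_1 v (by omega) (by omega)
      · exact fixPtsF_spec W_108 3125 6250 relc_108_2 v (by omega) (by omega)
  · rcases Nat.lt_or_ge v 12500 with h | h
    · exact fixPtsF_spec W_108 3125 9375 relc_108_3 v (by omega) (by omega)
    · rcases Nat.lt_or_ge v 15625 with h | h
      · exact fixPtsF_spec W_108 3125 12500 relc_108_4 v (by omega) (by omega)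
      · exact fixPtsF_spec W_108 1655 15625 relc_108_5 v (by omega) (by omega)

set_option maxRecDepth 1000000 in
theorem walk_108 : ∀ v, walkT ctF (D.wlen 108) (D.wordP 108) v = W_108 v := by
  intro v
  simp only [W_108, forceL_eq]
  rfl

theorem relw_108 : ∀ v, v < 17280 → walkT ctF (D.wlen 108) (D.wordP 108) v = v := by
  intro v hv
  rw [walk_108]
  exact relf_108 v hv

theorem relf_109 : ∀ v, v < 17280 → W_109 v = v := by
  intro v hv
  rcases Nat.lt_or_ge v 9375 with h | h
  · rcases Nat.lt_or_ge v 3125 with h | h
    · exact fixPtsF_spec W_109 3125 0 relc_109_0 v (by omega) (by omega)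
    · rcases Nat.lt_or_ge v 6250 with h | h
      · exact fixPtsF_spec W_109 3125 3125 relc_109_1 v (by omega) (by omega)
      · exact fixPtsF_spec W_109 3125 6250 relc_109_2 v (by omega) (by omega)
  · rcases Nat.lt_or_ge v 12500 with h | h
    · exact fixPtsF_spec W_109 3125 9375 relc_109_3 v (by omega) (by omega)
    · rcases Nat.lt_or_ge v 15625 with h | h
      · exact fixPtsF_spec W_109 3125 12500 relc_109_4 v (by omega) (by omega)
      · exact fixPtsF_spec W_109 1655 15625 relc_109_5 v (by omega) (by omega)

set_option maxRecDepth 1000000 in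
theorem walk_109 : ∀ v, walkT ctF (D.wlen 109) (D.wordP 109) v = W_109 v := by
  intro v
  simp only [W_109, forceL_eq]
  rfl

theorem relw_109 : ∀ v, v < 17280 → walkT ctF (D.wlen 109) (D.wordP 109) v = v := by
  intro v hv
  rw [walk_109]
  exact relf_109 v hv

theorem relf_110 : ∀ v, v < 17280 → W_110 v = v := by
  intro v hv
  rcases Nat.lt_or_ge v 9375 with h | h
  · rcases Nat.lt_or_ge v 3125 with h | h
    · exact fixPtsF_spec W_110 3125 0 relc_110_0 v (by omega) (by omega)
    · rcases Nat.lt_or_ge v 6250 with h | h
      · exact fixPtsF_spec W_110 3125 3125 relc_110_1 v (by omega) (by omega)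
      · exact fixPtsF_spec W_110 3125 6250 relc_110_2 v (by omega) (by omega)
  · rcases Nat.lt_or_ge v 12500 with h | h
    · exact fixPtsF_spec W_110 3125 9375 relc_110_3 v (by omega) (by omega)
    · rcases Nat.lt_or_ge v 15625 with h | h
      · exact fixPtsF_spec W_110 3125 12500 relc_110_4 v (by omega) (by omega)
      · exact fixPtsF_spec W_110 1655 15625 relc_110_5 v (by omega) (by omega)

set_option maxRecDepth 1000000 in
theorem walk_110 : ∀ v, walkT ctF (D.wlen 110) (D.wordP 110) v = W_110 v := by
  intro v
  simp only [W_110, forceL_eq]
  rfl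

theorem relw_110 : ∀ v, v < 17280 → walkT ctF (D.wlen 110) (D.wordP 110) v = v := by
  intro v hv
  rw [walk_110]
  exact relf_110 v hv

theorem relf_111 : ∀ v, v < 17280 → W_111 v = v := by
  intro v hv
  rcases Nat.lt_or_ge v 9375 with h | h
  · rcases Nat.lt_or_ge v 3125 with h | h
    · exact fixPtsF_spec W_111 3125 0 relc_111_0 v (by omega) (by omega)
    · rcases Nat.lt_or_ge v 6250 with h | h
      · exact fixPtsF_spec W_111 3125 3125 relc_111_1 v (by omega) (by omega)
      · exact fixPtsF_spec W_111 3125 6250 relc_111_2 v (by omega) (by omega)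
  · rcases Nat.lt_or_ge v 12500 with h | h
    · exact fixPtsF_spec W_111 3125 9375 relc_111_3 v (by omega) (by omega)
    · rcases Nat.lt_or_ge v 15625 with h | h
      · exact fixPtsF_spec W_111 3125 12500 relc_111_4 v (by omega) (by omega)
      · exact fixPtsF_spec W_111 1655 15625 relc_111_5 v (by omega) (by omega)

set_option maxRecDepth 1000000 in
theorem walk_111 : ∀ v, walkT ctF (D.wlen 111) (D.wordP 111) v = W_111 v := by
  intro v
  simp only [W_111, forceL_eq]
  rfl

theorem relw_111 : ∀ v, v < 17280 → walkT ctF (D.wlen 111) (D.wordP 111) v = v := by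
  intro v hv
  rw [walk_111]
  exact relf_111 v hv

theorem relf_112 : ∀ v, v < 17280 → W_112 v = v := by
  intro v hv
  rcases Nat.lt_or_ge v 8823 with h | h
  · rcases Nat.lt_or_ge v 2941 with h | h
    · exact fixPtsF_spec W_112 2941 0 relc_112_0 v (by omega) (by omega)
    · rcases Nat.lt_or_ge v 5882 with h | h
      · exact fixPtsF_spec W_112 2941 2941 relc_112_1 v (by omega) (by omega)
      · exact fixPtsF_spec W_112 2941 5882 relc_112_2 v (by omega) (by omega)
  · rcases Nat.lt_or_ge v 11764 with h | h
    · exact fixPtsF_spec W_112 2941 8823 relc_112_3 v (by omega) (by omega)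
    · rcases Nat.lt_or_ge v 14705 with h | h
      · exact fixPtsF_spec W_112 2941 11764 relc_112_4 v (by omega) (by omega)
      · exact fixPtsF_spec W_112 2575 14705 relc_112_5 v (by omega) (by omega)

set_option maxRecDepth 1000000 in
theorem walk_112 : ∀ v, walkT ctF (D.wlen 112) (D.wordP 112) v = W_112 v := by
  intro v
  simp only [W_112, forceL_eq]
  rfl

theorem relw_112 : ∀ v, v < 17280 → walkT ctF (D.wlen 112) (D.wordP 112) v = v := by
  intro v hv
  rw [walk_112]
  exact relf_112 v hv

theorem relf_113 : ∀ v, v < 17280 → W_113 v = v := by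
  intro v hv
  rcases Nat.lt_or_ge v 8823 with h | h
  · rcases Nat.lt_or_ge v 2941 with h | h
    · exact fixPtsF_spec W_113 2941 0 relc_113_0 v (by omega) (by omega)
    · rcases Nat.lt_or_ge v 5882 with h | h
      · exact fixPtsF_spec W_113 2941 2941 relc_113_1 v (by omega) (by omega)
      · exact fixPtsF_spec W_113 2941 5882 relc_113_2 v (by omega) (by omega)
  · rcases Nat.lt_or_ge v 11764 with h | h
    · exact fixPtsF_spec W_113 2941 8823 relc_113_3 v (by omega) (by omega)
    · rcases Nat.lt_or_ge v 14705 with h | h
      · exact fixPtsF_spec W_113 2941 11764 relc_113_4 v (by omega) (by omega)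
      · exact fixPtsF_spec W_113 2575 14705 relc_113_5 v (by omega) (by omega)

set_option maxRecDepth 1000000 in
theorem walk_113 : ∀ v, walkT ctF (D.wlen 113) (D.wordP 113) v = W_113 v := by
  intro v
  simp only [W_113, forceL_eq]
  rfl

theorem relw_113 : ∀ v, v < 17280 → walkT ctF (D.wlen 113) (D.wordP 113) v = v := by
  intro v hv
  rw [walk_113]
  exact relf_113 v hv

theorem relf_114 : ∀ v, v < 17280 → W_114 v = v := by
  intro v hv
  rcases Nat.lt_or_ge v 8823 with h | h
  · rcases Nat.lt_or_ge v 2941 with h | h
    · exact fixPtsF_spec W_114 2941 0 relc_114_0 v (by omega) (by omega)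
    · rcases Nat.lt_or_ge v 5882 with h | h
      · exact fixPtsF_spec W_114 2941 2941 relc_114_1 v (by omega) (by omega)
      · exact fixPtsF_spec W_114 2941 5882 relc_114_2 v (by omega) (by omega)
  · rcases Nat.lt_or_ge v 11764 with h | h
    · exact fixPtsF_spec W_114 2941 8823 relc_114_3 v (by omega) (by omega)
    · rcases Nat.lt_or_ge v 14705 with h | h
      · exact fixPtsF_spec W_114 2941 11764 relc_114_4 v (by omega) (by omega)
      · exact fixPtsF_spec W_114 2575 14705 relc_114_5 v (by omega) (by omega)

set_option maxRecDepth 1000000 in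
theorem walk_114 : ∀ v, walkT ctF (D.wlen 114) (D.wordP 114) v = W_114 v := by
  intro v
  simp only [W_114, forceL_eq]
  rfl

theorem relw_114 : ∀ v, v < 17280 → walkT ctF (D.wlen 114) (D.wordP 114) v = v := by
  intro v hv
  rw [walk_114]
  exact relf_114 v hv

theorem relf_115 : ∀ v, v < 17280 → W_115 v = v := by
  intro v hv
  rcases Nat.lt_or_ge v 8823 with h | h
  · rcases Nat.lt_or_ge v 2941 with h | h
    · exact fixPtsF_spec W_115 2941 0 relc_115_0 v (by omega) (by omega)
    · rcases Nat.lt_or_ge v 5882 with h | h
      · exact fixPtsF_spec W_115 2941 2941 relc_115_1 v (by omega) (by omega)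
      · exact fixPtsF_spec W_115 2941 5882 relc_115_2 v (by omega) (by omega)
  · rcases Nat.lt_or_ge v 11764 with h | h
    · exact fixPtsF_spec W_115 2941 8823 relc_115_3 v (by omega) (by omega)
    · rcases Nat.lt_or_ge v 14705 with h | h
      · exact fixPtsF_spec W_115 2941 11764 relc_115_4 v (by omega) (by omega)
      · exact fixPtsF_spec W_115 2575 14705 relc_115_5 v (by omega) (by omega)

set_option maxRecDepth 1000000 in
theorem walk_115 : ∀ v, walkT ctF (D.wlen 115) (D.wordP 115) v = W_115 v := by
  intro v
  simp only [W_115, forceL_eq]
  rfl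

theorem relw_115 : ∀ v, v < 17280 → walkT ctF (D.wlen 115) (D.wordP 115) v = v := by
  intro v hv
  rw [walk_115]
  exact relf_115 v hv

theorem relf_116 : ∀ v, v < 17280 → W_116 v = v := by
  intro v hv
  rcases Nat.lt_or_ge v 8823 with h | h
  · rcases Nat.lt_or_ge v 2941 with h | h
    · exact fixPtsF_spec W_116 2941 0 relc_116_0 v (by omega) (by omega)
    · rcases Nat.lt_or_ge v 5882 with h | h
      · exact fixPtsF_spec W_116 2941 2941 relc_116_1 v (by omega) (by omega)
      · exact fixPtsF_spec W_116 2941 5882 relc_116_2 v (by omega) (by omega)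
  · rcases Nat.lt_or_ge v 11764 with h | h
    · exact fixPtsF_spec W_116 2941 8823 relc_116_3 v (by omega) (by omega)
    · rcases Nat.lt_or_ge v 14705 with h | h
      · exact fixPtsF_spec W_116 2941 11764 relc_116_4 v (by omega) (by omega)
      · exact fixPtsF_spec W_116 2575 14705 relc_116_5 v (by omega) (by omega)

set_option maxRecDepth 1000000 in
theorem walk_116 : ∀ v, walkT ctF (D.wlen 116) (D.wordP 116) v = W_116 v := by
  intro v
  simp only [W_116, forceL_eq]
  rfl

theorem relw_116 : ∀ v, v < 17280 → walkT ctF (D.wlen 116) (D.wordP 116) v = v := by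
  intro v hv
  rw [walk_116]
  exact relf_116 v hv

theorem relf_117 : ∀ v, v < 17280 → W_117 v = v := by
  intro v hv
  rcases Nat.lt_or_ge v 8823 with h | h
  · rcases Nat.lt_or_ge v 2941 with h | h
    · exact fixPtsF_spec W_117 2941 0 relc_117_0 v (by omega) (by omega)
    · rcases Nat.lt_or_ge v 5882 with h | h
      · exact fixPtsF_spec W_117 2941 2941 relc_117_1 v (by omega) (by omega)
      · exact fixPtsF_spec W_117 2941 5882 relc_117_2 v (by omega) (by omega)
  · rcases Nat.lt_or_ge v 11764 with h | h
    · exact fixPtsF_spec W_117 2941 8823 relc_117_3 v (by omega) (by omega)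
    · rcases Nat.lt_or_ge v 14705 with h | h
      · exact fixPtsF_spec W_117 2941 11764 relc_117_4 v (by omega) (by omega)
      · exact fixPtsF_spec W_117 2575 14705 relc_117_5 v (by omega) (by omega)

set_option maxRecDepth 1000000 in
theorem walk_117 : ∀ v, walkT ctF (D.wlen 117) (D.wordP 117) v = W_117 v := by
  intro v
  simp only [W_117, forceL_eq]
  rfl

theorem relw_117 : ∀ v, v < 17280 → walkT ctF (D.wlen 117) (D.wordP 117) v = v := by
  intro v hv
  rw [walk_117]
  exact relf_117 v hv

theorem relf_118 : ∀ v, v < 17280 → W_118 v = v := by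
  intro v hv
  rcases Nat.lt_or_ge v 8331 with h | h
  · rcases Nat.lt_or_ge v 2777 with h | h
    · exact fixPtsF_spec W_118 2777 0 relc_118_0 v (by omega) (by omega)
    · rcases Nat.lt_or_ge v 5554 with h | h
      · exact fixPtsF_spec W_118 2777 2777 relc_118_1 v (by omega) (by omega)
      · exact fixPtsF_spec W_118 2777 5554 relc_118_2 v (by omega) (by omega)
  · rcases Nat.lt_or_ge v 13885 with h | h
    · rcases Nat.lt_or_ge v 11108 with h | h
      · exact fixPtsF_spec W_118 2777 8331 relc_118_3 v (by omega) (by omega)
      · exact fixPtsF_spec W_118 2777 11108 relc_118_4 v (by omega) (by omega)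
    · rcases Nat.lt_or_ge v 16662 with h | h
      · exact fixPtsF_spec W_118 2777 13885 relc_118_5 v (by omega) (by omega)
      · exact fixPtsF_spec W_118 618 16662 relc_118_6 v (by omega) (by omega)

set_option maxRecDepth 1000000 in
theorem walk_118 : ∀ v, walkT ctF (D.wlen 118) (D.wordP 118) v = W_118 v := by
  intro v
  simp only [W_118, forceL_eq]
  rfl

theorem relw_118 : ∀ v, v < 17280 → walkT ctF (D.wlen 118) (D.wordP 118) v = v := by
  intro v hv
  rw [walk_118]
  exact relf_118 v hv

theorem relf_119 : ∀ v, v < 17280 → W_119 v = v := by
  intro v hv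
  rcases Nat.lt_or_ge v 8331 with h | h
  · rcases Nat.lt_or_ge v 2777 with h | h
    · exact fixPtsF_spec W_119 2777 0 relc_119_0 v (by omega) (by omega)
    · rcases Nat.lt_or_ge v 5554 with h | h
      · exact fixPtsF_spec W_119 2777 2777 relc_119_1 v (by omega) (by omega)
      · exact fixPtsF_spec W_119 2777 5554 relc_119_2 v (by omega) (by omega)
  · rcases Nat.lt_or_ge v 13885 with h | h
    · rcases Nat.lt_or_ge v 11108 with h | h
      · exact fixPtsF_spec W_119 2777 8331 relc_119_3 v (by omega) (by omega)
      · exact fixPtsF_spec W_119 2777 11108 relc_119_4 v (by omega) (by omega)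
    · rcases Nat.lt_or_ge v 16662 with h | h
      · exact fixPtsF_spec W_119 2777 13885 relc_119_5 v (by omega) (by omega)
      · exact fixPtsF_spec W_119 618 16662 relc_119_6 v (by omega) (by omega)

set_option maxRecDepth 1000000 in
theorem walk_119 : ∀ v, walkT ctF (D.wlen 119) (D.wordP 119) v = W_119 v := by
  intro v
  simp only [W_119, forceL_eq]
  rfl

theorem relw_119 : ∀ v, v < 17280 → walkT ctF (D.wlen 119) (D.wordP 119) v = v := by
  intro v hv
  rw [walk_119]
  exact relf_119 v hv

theorem relf_120 : ∀ v, v < 17280 → W_120 v = v := by
  intro v hv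
  rcases Nat.lt_or_ge v 8331 with h | h
  · rcases Nat.lt_or_ge v 2777 with h | h
    · exact fixPtsF_spec W_120 2777 0 relc_120_0 v (by omega) (by omega)
    · rcases Nat.lt_or_ge v 5554 with h | h
      · exact fixPtsF_spec W_120 2777 2777 relc_120_1 v (by omega) (by omega)
      · exact fixPtsF_spec W_120 2777 5554 relc_120_2 v (by omega) (by omega)
  · rcases Nat.lt_or_ge v 13885 with h | h
    · rcases Nat.lt_or_ge v 11108 with h | h
      · exact fixPtsF_spec W_120 2777 8331 relc_120_3 v (by omega) (by omega)
      · exact fixPtsF_spec W_120 2777 11108 relc_120_4 v (by omega) (by omega)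
    · rcases Nat.lt_or_ge v 16662 with h | h
      · exact fixPtsF_spec W_120 2777 13885 relc_120_5 v (by omega) (by omega)
      · exact fixPtsF_spec W_120 618 16662 relc_120_6 v (by omega) (by omega)

set_option maxRecDepth 1000000 in
theorem walk_120 : ∀ v, walkT ctF (D.wlen 120) (D.wordP 120) v = W_120 v := by
  intro v
  simp only [W_120, forceL_eq]
  rfl

theorem relw_120 : ∀ v, v < 17280 → walkT ctF (D.wlen 120) (D.wordP 120) v = v := by
  intro v hv
  rw [walk_120]
  exact relf_120 v hv

theorem relf_121 : ∀ v, v < 17280 → W_121 v = v := by
  intro v hv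
  rcases Nat.lt_or_ge v 8331 with h | h
  · rcases Nat.lt_or_ge v 2777 with h | h
    · exact fixPtsF_spec W_121 2777 0 relc_121_0 v (by omega) (by omega)
    · rcases Nat.lt_or_ge v 5554 with h | h
      · exact fixPtsF_spec W_121 2777 2777 relc_121_1 v (by omega) (by omega)
      · exact fixPtsF_spec W_121 2777 5554 relc_121_2 v (by omega) (by omega)
  · rcases Nat.lt_or_ge v 13885 with h | h
    · rcases Nat.lt_or_ge v 11108 with h | h
      · exact fixPtsF_spec W_121 2777 8331 relc_121_3 v (by omega) (by omega)
      · exact fixPtsF_spec W_121 2777 11108 relc_121_4 v (by omega) (by omega)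
    · rcases Nat.lt_or_ge v 16662 with h | h
      · exact fixPtsF_spec W_121 2777 13885 relc_121_5 v (by omega) (by omega)
      · exact fixPtsF_spec W_121 618 16662 relc_121_6 v (by omega) (by omega)

set_option maxRecDepth 1000000 in
theorem walk_121 : ∀ v, walkT ctF (D.wlen 121) (D.wordP 121) v = W_121 v := by
  intro v
  simp only [W_121, forceL_eq]
  rfl

theorem relw_121 : ∀ v, v < 17280 → walkT ctF (D.wlen 121) (D.wordP 121) v = v := by
  intro v hv
  rw [walk_121]
  exact relf_121 v hv

theorem relf_122 : ∀ v, v < 17280 → W_122 v = v := by
  intro v hv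
  rcases Nat.lt_or_ge v 8331 with h | h
  · rcases Nat.lt_or_ge v 2777 with h | h
    · exact fixPtsF_spec W_122 2777 0 relc_122_0 v (by omega) (by omega)
    · rcases Nat.lt_or_ge v 5554 with h | h
      · exact fixPtsF_spec W_122 2777 2777 relc_122_1 v (by omega) (by omega)
      · exact fixPtsF_spec W_122 2777 5554 relc_122_2 v (by omega) (by omega)
  · rcases Nat.lt_or_ge v 13885 with h | h
    · rcases Nat.lt_or_ge v 11108 with h | h
      · exact fixPtsF_spec W_122 2777 8331 relc_122_3 v (by omega) (by omega)
      · exact fixPtsF_spec W_122 2777 11108 relc_122_4 v (by omega) (by omega)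
    · rcases Nat.lt_or_ge v 16662 with h | h
      · exact fixPtsF_spec W_122 2777 13885 relc_122_5 v (by omega) (by omega)
      · exact fixPtsF_spec W_122 618 16662 relc_122_6 v (by omega) (by omega)

set_option maxRecDepth 1000000 in
theorem walk_122 : ∀ v, walkT ctF (D.wlen 122) (D.wordP 122) v = W_122 v := by
  intro v
  simp only [W_122, forceL_eq]
  rfl

theorem relw_122 : ∀ v, v < 17280 → walkT ctF (D.wlen 122) (D.wordP 122) v = v := by
  intro v hv
  rw [walk_122]
  exact relf_122 v hv

theorem relf_123 : ∀ v, v < 17280 → W_123 v = v := by
  intro v hv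
  rcases Nat.lt_or_ge v 8331 with h | h
  · rcases Nat.lt_or_ge v 2777 with h | h
    · exact fixPtsF_spec W_123 2777 0 relc_123_0 v (by omega) (by omega)
    · rcases Nat.lt_or_ge v 5554 with h | h
      · exact fixPtsF_spec W_123 2777 2777 relc_123_1 v (by omega) (by omega)
      · exact fixPtsF_spec W_123 2777 5554 relc_123_2 v (by omega) (by omega)
  · rcases Nat.lt_or_ge v 13885 with h | h
    · rcases Nat.lt_or_ge v 11108 with h | h
      · exact fixPtsF_spec W_123 2777 8331 relc_123_3 v (by omega) (by omega)
      · exact fixPtsF_spec W_123 2777 11108 relc_123_4 v (by omega) (by omega)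
    · rcases Nat.lt_or_ge v 16662 with h | h
      · exact fixPtsF_spec W_123 2777 13885 relc_123_5 v (by omega) (by omega)
      · exact fixPtsF_spec W_123 618 16662 relc_123_6 v (by omega) (by omega)

set_option maxRecDepth 1000000 in
theorem walk_123 : ∀ v, walkT ctF (D.wlen 123) (D.wordP 123) v = W_123 v := by
  intro v
  simp only [W_123, forceL_eq]
  rfl

theorem relw_123 : ∀ v, v < 17280 → walkT ctF (D.wlen 123) (D.wordP 123) v = v := by
  intro v hv
  rw [walk_123]
  exact relf_123 v hv

theorem relf_124 : ∀ v, v < 17280 → W_124 v = v := by
  intro v hv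
  rcases Nat.lt_or_ge v 8331 with h | h
  · rcases Nat.lt_or_ge v 2777 with h | h
    · exact fixPtsF_spec W_124 2777 0 relc_124_0 v (by omega) (by omega)
    · rcases Nat.lt_or_ge v 5554 with h | h
      · exact fixPtsF_spec W_124 2777 2777 relc_124_1 v (by omega) (by omega)
      · exact fixPtsF_spec W_124 2777 5554 relc_124_2 v (by omega) (by omega)
  · rcases Nat.lt_or_ge v 13885 with h | h
    · rcases Nat.lt_or_ge v 11108 with h | h
      · exact fixPtsF_spec W_124 2777 8331 relc_124_3 v (by omega) (by omega)
      · exact fixPtsF_spec W_124 2777 11108 relc_124_4 v (by omega) (by omega)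
    · rcases Nat.lt_or_ge v 16662 with h | h
      · exact fixPtsF_spec W_124 2777 13885 relc_124_5 v (by omega) (by omega)
      · exact fixPtsF_spec W_124 618 16662 relc_124_6 v (by omega) (by omega)

set_option maxRecDepth 1000000 in
theorem walk_124 : ∀ v, walkT ctF (D.wlen 124) (D.wordP 124) v = W_124 v := by
  intro v
  simp only [W_124, forceL_eq]
  rfl

theorem relw_124 : ∀ v, v < 17280 → walkT ctF (D.wlen 124) (D.wordP 124) v = v := by
  intro v hv
  rw [walk_124]
  exact relf_124 v hv

theorem relf_125 : ∀ v, v < 17280 → W_125 v = v := by
  intro v hv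
  rcases Nat.lt_or_ge v 8331 with h | h
  · rcases Nat.lt_or_ge v 2777 with h | h
    · exact fixPtsF_spec W_125 2777 0 relc_125_0 v (by omega) (by omega)
    · rcases Nat.lt_or_ge v 5554 with h | h
      · exact fixPtsF_spec W_125 2777 2777 relc_125_1 v (by omega) (by omega)
      · exact fixPtsF_spec W_125 2777 5554 relc_125_2 v (by omega) (by omega)
  · rcases Nat.lt_or_ge v 13885 with h | h
    · rcases Nat.lt_or_ge v 11108 with h | h
      · exact fixPtsF_spec W_125 2777 8331 relc_125_3 v (by omega) (by omega)
      · exact fixPtsF_spec W_125 2777 11108 relc_125_4 v (by omega) (by omega)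
    · rcases Nat.lt_or_ge v 16662 with h | h
      · exact fixPtsF_spec W_125 2777 13885 relc_125_5 v (by omega) (by omega)
      · exact fixPtsF_spec W_125 618 16662 relc_125_6 v (by omega) (by omega)

set_option maxRecDepth 1000000 in
theorem walk_125 : ∀ v, walkT ctF (D.wlen 125) (D.wordP 125) v = W_125 v := by
  intro v
  simp only [W_125, forceL_eq]
  rfl

theorem relw_125 : ∀ v, v < 17280 → walkT ctF (D.wlen 125) (D.wordP 125) v = v := by
  intro v hv
  rw [walk_125]
  exact relf_125 v hv

theorem invx_0 : ∀ v, v < 17280 → ctF 0 v < 17280 ∧ ctF 1 (ctF 0 v) = v := by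
  intro v hv
  exact invRowFI_spec ctF 17280 0 1 17280 0 inv_0_0 v (by omega) (by omega)

theorem invx_1 : ∀ v, v < 17280 → ctF 1 v < 17280 ∧ ctF 0 (ctF 1 v) = v := by
  intro v hv
  exact invRowFI_spec ctF 17280 1 0 17280 0 inv_1_0 v (by omega) (by omega)

theorem invx_2 : ∀ v, v < 17280 → ctF 2 v < 17280 ∧ ctF 3 (ctF 2 v) = v := by
  intro v hv
  exact invRowFI_spec ctF 17280 2 3 17280 0 inv_2_0 v (by omega) (by omega)

theorem invx_3 : ∀ v, v < 17280 → ctF 3 v < 17280 ∧ ctF 2 (ctF 3 v) = v := by
  intro v hv
  exact invRowFI_spec ctF 17280 3 2 17280 0 inv_3_0 v (by omega) (by omega)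

theorem hconn : ∀ v, v < 17280 → v ≠ 0 → ∃ x, x < E.D.k ∧ ctF x v < v := by
  intro v hv
  exact connF_spec ctF 4 17280 0 conn_0 v (by omega) (by omega)

theorem hE : ∀ v, v < E.M → ∀ x, x < E.D.k → edgeOKI iota E x v = true := by
  intro v hv x hx
  have hv' : v < 205580 := hv
  have hx' : x < 4 := hx
  interval_cases x
  · exact edgesx_0 v hv'
  · exact edgesx_1 v hv'
  · exact edgesx_2 v hv'
  · exact edgesx_3 v hv'

theorem hA : ∀ v, v < E.M → aliasOK E v = true := fun v hv => hA0 v hv

theorem hrows : ∀ v, v < E.M → tb RS v = true → rowOK2 E RS v E.D.k = true := fun v hv => hrows0 v hv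

theorem hT : ∀ x, x < E.D.k → ∀ v, v < 17280 → ctF x v < 17280 ∧ ctF (iota x) (ctF x v) = v := by
  intro x hx
  have hx' : x < 4 := hx
  interval_cases x
  · exact invx_0
  · exact invx_1
  · exact invx_2
  · exact invx_3

theorem hltr : ∀ j, j < E.D.nw → lettersOK E.D.k (E.D.wlen j) (E.D.wordP j) = true :=
  wordsOK_spec D D.nw words_ok

theorem hrelT : ∀ wi, wi < E.D.nrel → ∀ v, v < 17280 →
    walkT ctF (E.D.wlen wi) (E.D.wordP wi) v = v := by
  intro wi hwi
  have hwi' : wi < 126 := hwi
  interval_cases wi
  · exact relw_0
  · exact relw_1
  · exact relw_2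
  · exact relw_3
  · exact relw_4
  · exact relw_5
  · exact relw_6
  · exact relw_7
  · exact relw_8
  · exact relw_9
  · exact relw_10
  · exact relw_11
  · exact relw_12
  · exact relw_13
  · exact relw_14
  · exact relw_15
  · exact relw_16
  · exact relw_17
  · exact relw_18
  · exact relw_19
  · exact relw_20
  · exact relw_21
  · exact relw_22
  · exact relw_23
  · exact relw_24
  · exact relw_25
  · exact relw_26
  · exact relw_27
  · exact relw_28
  · exact relw_29
  · exact relw_30
  · exact relw_31
  · exact relw_32
  · exact relw_33
  · exact relw_34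
  · exact relw_35
  · exact relw_36
  · exact relw_37
  · exact relw_38
  · exact relw_39
  · exact relw_40
  · exact relw_41
  · exact relw_42
  · exact relw_43
  · exact relw_44
  · exact relw_45
  · exact relw_46
  · exact relw_47
  · exact relw_48
  · exact relw_49
  · exact relw_50
  · exact relw_51
  · exact relw_52
  · exact relw_53
  · exact relw_54
  · exact relw_55
  · exact relw_56
  · exact relw_57
  · exact relw_58
  · exact relw_59
  · exact relw_60
  · exact relw_61
  · exact relw_62
  · exact relw_63
  · exact relw_64
  · exact relw_65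
  · exact relw_66
  · exact relw_67
  · exact relw_68
  · exact relw_69
  · exact relw_70
  · exact relw_71
  · exact relw_72
  · exact relw_73
  · exact relw_74
  · exact relw_75
  · exact relw_76
  · exact relw_77
  · exact relw_78
  · exact relw_79
  · exact relw_80
  · exact relw_81
  · exact relw_82
  · exact relw_83
  · exact relw_84
  · exact relw_85
  · exact relw_86
  · exact relw_87
  · exact relw_88
  · exact relw_89
  · exact relw_90
  · exact relw_91
  · exact relw_92
  · exact relw_93
  · exact relw_94
  · exact relw_95
  · exact relw_96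
  · exact relw_97
  · exact relw_98
  · exact relw_99
  · exact relw_100
  · exact relw_101
  · exact relw_102
  · exact relw_103
  · exact relw_104
  · exact relw_105
  · exact relw_106
  · exact relw_107
  · exact relw_108
  · exact relw_109
  · exact relw_110
  · exact relw_111
  · exact relw_112
  · exact relw_113
  · exact relw_114
  · exact relw_115
  · exact relw_116
  · exact relw_117
  · exact relw_118
  · exact relw_119
  · exact relw_120
  · exact relw_121
  · exact relw_122
  · exact relw_123
  · exact relw_124
  · exact relw_125

theorem hsubT : ∀ wi, wi < E.D.nw → E.D.nrel ≤ wi →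
    walkT ctF (E.D.wlen wi) (E.D.wordP wi) 0 = 0 :=
  subAll_spec ctF D D.nw sub_ok

end Cfsg.Agent.Helper5.M12DTC
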