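import Mathlib
import Cfsg.Agent.Helper9.Out.M12Out
import Cfsg.Agent.Helper5.StemPB

/-! generated: two generators of the Mathieu group `M12`, of orders 11 and 5, and relators -/

set_option autoImplicit false

namespace Cfsg.Agent.Helper5.M12Cov

open Cfsg Cfsg.Agent.Helper9.Golay Cfsg.Agent.Helper9.OutM12 Cfsg.Agent.Helper9.OutM24
  Cfsg.Agent.Helper5.StemP

/-- the second generator, of order 5. -/
noncomputable def y12 : ↥Spor.M12 := a12 * b12 * a12 * b12 * a12 * a12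

/-- the table of the inverse of the first generator. -/
def tAi : List ℕ := [0, 12, 1, 13, 2, 14, 3, 15, 4, 16, 5, 17, 6, 18, 7, 19, 8, 20, 9, 21, 10, 22, 11, 23]

/-- the table of the second generator. -/
def tY : List ℕ := [4, 18, 9, 3, 1, 23, 2, 21, 0, 13, 11, 7, 12, 16, 19, 10, 6, 17, 8, 20, 5, 15, 22, 14]

/-- the table of the inverse of the second generator. -/
def tYi : List ℕ := [8, 4, 6, 3, 0, 20, 16, 11, 18, 2, 15, 10, 12, 9, 23, 21, 13, 17, 1, 14, 19, 7, 22, 5]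

/-- the generators. -/
noncomputable def g (i : ℕ) : ↥Spor.M12 := if i = 0 then a12 else if i = 1 then y12 else 1

/-- the orders. -/
def mm (i : ℕ) : ℕ := if i = 0 then 11 else 5

/-- the tables of the letters. -/
def LT (c : ℕ) : List ℕ := if c = 0 then o12AT else if c = 1 then tAi else if c = 2 then tY else tYi

/-- the table of a word. -/
def wordT (r : List ℕ) : List ℕ := r.foldr (fun c acc => mulT (LT c) acc) idT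

theorem eq_one_of_tbl {σ : ↥Spor.M12} {t : List ℕ} (h : IsTbl (σ : Equiv.Perm GolayPt) t)
    (ht : t = idT) : σ = 1 := by
  apply Subtype.ext
  rw [ht] at h
  exact h.eq_of_eq isTbl_one

theorem tbl_y : IsTbl (y12 : Equiv.Perm GolayPt) tY := by
  have h := ((((a12P_tbl.mul b12P_tbl).mul a12P_tbl).mul b12P_tbl).mul a12P_tbl).mul a12P_tbl
  have e : mulT (mulT (mulT (mulT (mulT o12AT o12BT) o12AT) o12BT) o12AT) o12AT = tY := by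
    decide +kernel
  rw [e] at h
  exact h

theorem a12_inv : a12⁻¹ = a12 ^ 10 := by
  apply inv_eq_of_mul_eq_one_right
  rw [← pow_succ', pow11_a12]

theorem y12_pow : y12 ^ 5 = 1 := by
  apply eq_one_of_tbl (t := powT tY 5)
  · rw [Subgroup.coe_pow]
    exact tbl_y.pow 5
  · decide +kernel

theorem y12_inv : y12⁻¹ = y12 ^ 4 := by
  apply inv_eq_of_mul_eq_one_right
  rw [← pow_succ', y12_pow]

theorem tbl_ai : IsTbl ((a12⁻¹ : ↥Spor.M12) : Equiv.Perm GolayPt) tAi := by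
  rw [a12_inv, Subgroup.coe_pow]
  have h := a12P_tbl.pow 10
  have e : powT o12AT 10 = tAi := by decide +kernel
  rw [e] at h
  exact h

theorem tbl_yi : IsTbl ((y12⁻¹ : ↥Spor.M12) : Equiv.Perm GolayPt) tYi := by
  rw [y12_inv, Subgroup.coe_pow]
  have h := tbl_y.pow 4
  have e : powT tY 4 = tYi := by decide +kernel
  rw [e] at h
  exact h

theorem lval_g0 : lval g 0 = a12 := rfl

theorem lval_g1 : lval g 1 = a12⁻¹ := rfl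

theorem lval_g2 : lval g 2 = y12 := rfl

theorem lval_g3 : lval g 3 = y12⁻¹ := rfl

theorem isTbl_lval : ∀ c, c < 2 * 2 → IsTbl ((lval g c : ↥Spor.M12) : Equiv.Perm GolayPt) (LT c) := by
  intro c hc
  interval_cases c
  · rw [lval_g0]; exact a12P_tbl
  · rw [lval_g1]; exact tbl_ai
  · rw [lval_g2]; exact tbl_y
  · rw [lval_g3]; exact tbl_yi

theorem isTbl_word : ∀ r : List ℕ, (∀ c ∈ r, c < 2 * 2) →
    IsTbl (((r.map (lval g)).prod : ↥Spor.M12) : Equiv.Perm GolayPt) (wordT r)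
  | [], _ => by
    rw [List.map_nil, List.prod_nil, Subgroup.coe_one]
    exact isTbl_one
  | c :: l, h => by
    rw [List.map_cons, List.prod_cons, Subgroup.coe_mul]
    exact (isTbl_lval c (h c List.mem_cons_self)).mul
      (isTbl_word l (fun c hc => h c (List.mem_cons_of_mem _ hc)))

/-- the central words. -/
def CC : List (List ℕ) := [[0, 3, 0, 3, 1, 1, 2, 2, 1, 1, 3], [0, 0, 2, 1, 2, 1, 2, 0, 0, 3, 3], [0, 2, 1, 1, 1, 2, 0, 2, 1, 1, 1, 2], [0, 0, 0, 3, 1, 3, 0, 0, 0, 3, 1, 3], [1, 1, 1, 2, 1, 2, 1, 2, 1, 1, 1, 2, 2], [0, 3, 0, 3, 0, 0, 0, 3, 3, 0, 0, 0, 3], [1, 1, 1, 1, 1, 2, 2, 1, 1, 1, 1, 1, 2, 2], [0, 0, 0, 0, 0, 3, 3, 0, 0, 0, 0, 0, 3, 3], [0, 0, 2, 2, 1, 2, 2, 0, 0, 2, 2, 1, 2, 2], [0, 3, 3, 1, 1, 3, 3, 0, 3, 3, 1, 1, 3, 3], [0, 0, 0, 3, 1, 1, 2, 1, 2, 1, 1, 1, 2, 1, 3], [0, 3, 0, 0, 2, 1, 1, 1, 2, 0, 3, 0, 0, 0, 3], [1,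 3, 3, 1, 3, 3, 1, 3, 3, 1, 3, 3, 1, 3, 3], [0, 2, 1, 1, 1, 2, 0, 0, 3, 0, 3, 0, 0, 0, 3], [0, 2, 2, 0, 2, 2, 0, 2, 2, 0, 2, 2, 0, 2, 2], [0, 0, 0, 3, 1, 2, 1, 1, 1, 2, 1, 2, 1, 1, 3], [0, 0, 0, 0, 0, 2, 0, 0, 0, 0, 0, 3, 3, 1, 3, 3], [0, 2, 2, 1, 1, 1, 1, 1, 3, 1, 1, 1, 1, 1, 2, 2], [0, 0, 2, 1, 1, 1, 2, 2, 1, 1, 3, 0, 0, 0, 3, 3], [0, 0, 3, 3, 0, 0, 0, 3, 1, 1, 2, 2, 1, 1, 1, 2], [0, 0, 2, 0, 0, 3, 3, 0, 0, 0, 3, 0, 0, 0, 3, 3], [1, 1, 1, 2, 1, 1, 1, 2, 2, 1, 1, 3, 1, 1, 2, 2], [0, 3, 0, 0, 0, 3, 1, 2, 1, 1, 3, 0, 0, 0, 3, 3], [0, 2, 1, 1, 1, 2, 1, 2, 2, 1, 1, 1, 2, 0, 0, 3], [0, 3, 0, 0, 2, 1, 1, 1, 2, 2, 1, 2, 1, 1, 1, 2], [0, 3, 3, 0, 0, 0, 3, 1, 1, 2, 1, 3, 0, 0, 0, 3], [1, 1, 1, 3, 3, 1, 1, 1, 3, 3, 1, 2, 1, 2, 1, 3, 3], [0, 0, 0, 2, 2, 0, 0, 0, 3, 3, 1, 2, 1, 2, 1, 3, 3], [0, 0, 0, 3, 1, 1, 2, 1, 1, 3, 0, 0, 0, 3, 1, 1, 3],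 [0, 0, 2, 1, 1, 1, 2, 0, 0, 2, 1, 1, 1, 2, 0, 0, 3], [0, 2, 2, 0, 0, 0, 2, 2, 0, 0, 0, 2, 2, 0, 3, 0, 3], [0, 2, 2, 1, 1, 1, 3, 3, 1, 1, 1, 2, 2, 0, 3, 0, 3], [0, 3, 1, 1, 1, 1, 1, 2, 2, 0, 3, 1, 1, 1, 1, 1, 2, 2], [0, 0, 0, 0, 0, 2, 1, 3, 3, 0, 0, 0, 0, 0, 2, 1, 3, 3], [0, 0, 0, 2, 2, 1, 1, 2, 2, 0, 0, 0, 2, 2, 1, 1, 2, 2], [0, 2, 2, 1, 1, 1, 1, 1, 3, 0, 2, 2, 1, 1, 1, 1, 1, 3], [0, 0, 0, 0, 0, 3, 3, 1, 2, 0, 0, 0, 0, 0, 3, 3, 1, 2], [0, 0, 3, 3, 1, 1, 1, 3, 3, 0, 0, 3, 3, 1, 1, 1, 3, 3], [0, 0, 0, 3, 1, 2, 1, 1, 3, 1, 1, 2, 2, 1, 1, 1, 1, 3], [0, 0, 3, 0, 0, 3, 0, 0, 3, 1, 1, 1, 2, 2, 1, 1, 3, 3]]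

theorem CC_lt : ∀ r ∈ CC, ∀ c ∈ r, c < 2 * 2 := by decide +kernel

theorem CC_tbl : ∀ r ∈ CC, wordT r = idT := by decide +kernel

theorem CC_rel : ∀ r ∈ CC, (r.map (lval g)).prod = 1 := fun r hr =>
  eq_one_of_tbl (isTbl_word r (CC_lt r hr)) (CC_tbl r hr)

theorem g_pow : ∀ i, i < 2 → g i ^ mm i = 1 := by
  intro i hi
  interval_cases i
  · exact pow11_a12
  · exact y12_pow

/-- a word for the involution `b12`. -/
def wb : List ℕ := [0, 2, 1, 1, 1, 2]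

theorem wb_eq : (wb.map (lval g)).prod = b12 := by
  apply Subtype.ext
  have h := isTbl_word wb (by decide)
  have e : wordT wb = o12BT := by decide +kernel
  rw [e] at h
  exact h.eq_of_eq b12P_tbl

theorem prod_lval_mem {K : Type*} [Group K] (x : ℕ → K) (d : ℕ) : ∀ r : List ℕ,
    (∀ c ∈ r, c < 2 * d) →
    (r.map (lval x)).prod ∈ Subgroup.closure {y | ∃ i, i < d ∧ y = x i} := by
  intro r hr
  apply Subgroup.list_prod_mem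
  intro y hy
  obtain ⟨c, hc, rfl⟩ := List.mem_map.mp hy
  have hi : c / 2 < d := by have := hr c hc; omega
  unfold lval
  split_ifs
  · exact Subgroup.subset_closure ⟨c / 2, hi, rfl⟩
  · exact inv_mem (Subgroup.subset_closure ⟨c / 2, hi, rfl⟩)

theorem g_closure : Subgroup.closure {y | ∃ i, i < 2 ∧ y = g i} = ⊤ := by
  rw [eq_top_iff, ← closure_ab12G, Subgroup.closure_le]
  intro x hx
  rcases hx with rfl | rfl
  · exact Subgroup.subset_closure ⟨0, by norm_num, rfl⟩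
  · rw [SetLike.mem_coe, ← wb_eq]
    exact prod_lval_mem g 2 wb (by decide)

end Cfsg.Agent.Helper5.M12Cov
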