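import Cfsg.Agent.Helper5.M12TTCDatD
import Cfsg.Agent.Helper5.M12TTCDatT
import Cfsg.Agent.Helper5.TCIB

/-! kernel checks of the coset table: M12TTC -/

set_option autoImplicit false
set_option Elab.async false

namespace Cfsg.Agent.Helper5.M12TTC
open Cfsg.Agent.Helper5.TC Cfsg.Agent.Helper5.TCI

set_option maxRecDepth 1000000 in
theorem relc_6_0 : fixPtsF W_6 8333 0 = true := by decide +kernel

set_option maxRecDepth 1000000 in
theorem relc_8_0 : fixPtsF W_8 8333 0 = true := by decide +kernel

set_option maxRecDepth 1000000 in
theorem relc_10_0 : fixPtsF W_10 7692 0 = true := by decide +kernel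

set_option maxRecDepth 1000000 in
theorem relc_12_0 : fixPtsF W_12 7692 0 = true := by decide +kernel

set_option maxRecDepth 1000000 in
theorem relc_14_0 : fixPtsF W_14 7142 0 = true := by decide +kernel

set_option maxRecDepth 1000000 in
theorem relc_16_0 : fixPtsF W_16 7142 0 = true := by decide +kernel

set_option maxRecDepth 1000000 in
theorem relc_18_0 : fixPtsF W_18 6666 0 = true := by decide +kernel

set_option maxRecDepth 1000000 in
theorem relc_20_0 : fixPtsF W_20 6666 0 = true := by decide +kernel

set_option maxRecDepth 1000000 in
theorem relc_22_0 : fixPtsF W_22 6666 0 = true := by decide +kernel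

set_option maxRecDepth 1000000 in
theorem relc_24_0 : fixPtsF W_24 6666 0 = true := by decide +kernel

set_option maxRecDepth 1000000 in
theorem relc_26_0 : fixPtsF W_26 6250 0 = true := by decide +kernel

set_option maxRecDepth 1000000 in
theorem relc_28_0 : fixPtsF W_28 6250 0 = true := by decide +kernel

set_option maxRecDepth 1000000 in
theorem relc_30_0 : fixPtsF W_30 6250 0 = true := by decide +kernel

set_option maxRecDepth 1000000 in
theorem relc_32_0 : fixPtsF W_32 6250 0 = true := by decide +kernel

set_option maxRecDepth 1000000 in
theorem relc_34_0 : fixPtsF W_34 6250 0 = true := by decide +kernel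

set_option maxRecDepth 1000000 in
theorem relc_36_0 : fixPtsF W_36 6250 0 = true := by decide +kernel

set_option maxRecDepth 1000000 in
theorem relc_86_0 : fixPtsF W_86 6060 0 = true := by decide +kernel

set_option maxRecDepth 1000000 in
theorem relc_38_0 : fixPtsF W_38 5882 0 = true := by decide +kernel

set_option maxRecDepth 1000000 in
theorem relc_40_0 : fixPtsF W_40 5882 0 = true := by decide +kernel

set_option maxRecDepth 1000000 in
theorem relc_42_0 : fixPtsF W_42 5882 0 = true := by decide +kernel

set_option maxRecDepth 1000000 in
theorem relc_44_0 : fixPtsF W_44 5882 0 = true := by decide +kernel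

set_option maxRecDepth 1000000 in
theorem relc_46_0 : fixPtsF W_46 5882 0 = true := by decide +kernel

set_option maxRecDepth 1000000 in
theorem relc_48_0 : fixPtsF W_48 5882 0 = true := by decide +kernel

set_option maxRecDepth 1000000 in
theorem relc_50_0 : fixPtsF W_50 5882 0 = true := by decide +kernel

set_option maxRecDepth 1000000 in
theorem relc_52_0 : fixPtsF W_52 5882 0 = true := by decide +kernel

set_option maxRecDepth 1000000 in
theorem relc_54_0 : fixPtsF W_54 5882 0 = true := by decide +kernel

set_option maxRecDepth 1000000 in
theorem relc_56_0 : fixPtsF W_56 5882 0 = true := by decide +kernel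

set_option maxRecDepth 1000000 in
theorem relc_58_0 : fixPtsF W_58 5555 0 = true := by decide +kernel

set_option maxRecDepth 1000000 in
theorem relc_60_0 : fixPtsF W_60 5555 0 = true := by decide +kernel

set_option maxRecDepth 1000000 in
theorem relc_62_0 : fixPtsF W_62 5555 0 = true := by decide +kernel

set_option maxRecDepth 1000000 in
theorem relc_64_0 : fixPtsF W_64 5555 0 = true := by decide +kernel

set_option maxRecDepth 1000000 in
theorem relc_66_0 : fixPtsF W_66 5555 0 = true := by decide +kernel

set_option maxRecDepth 1000000 in
theorem relc_68_0 : fixPtsF W_68 5555 0 = true := by decide +kernel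

set_option maxRecDepth 1000000 in
theorem relc_88_0 : fixPtsF W_88 5555 0 = true := by decide +kernel

set_option maxRecDepth 1000000 in
theorem relc_70_0 : fixPtsF W_70 5263 0 = true := by decide +kernel

set_option maxRecDepth 1000000 in
theorem relc_72_0 : fixPtsF W_72 5263 0 = true := by decide +kernel

set_option maxRecDepth 1000000 in
theorem relc_74_0 : fixPtsF W_74 5263 0 = true := by decide +kernel

set_option maxRecDepth 1000000 in
theorem relc_76_0 : fixPtsF W_76 5263 0 = true := by decide +kernel

set_option maxRecDepth 1000000 in
theorem relc_78_0 : fixPtsF W_78 5263 0 = true := by decide +kernel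

set_option maxRecDepth 1000000 in
theorem relc_80_0 : fixPtsF W_80 5263 0 = true := by decide +kernel

set_option maxRecDepth 1000000 in
theorem relc_82_0 : fixPtsF W_82 5263 0 = true := by decide +kernel

set_option maxRecDepth 1000000 in
theorem relc_84_0 : fixPtsF W_84 5263 0 = true := by decide +kernel

set_option maxRecDepth 1000000 in
theorem relc_90_0 : fixPtsF W_90 5128 0 = true := by decide +kernel

set_option maxRecDepth 1000000 in
theorem relc_92_0 : fixPtsF W_92 4761 0 = true := by decide +kernel

set_option maxRecDepth 1000000 in
theorem relc_94_0 : fixPtsF W_94 4761 0 = true := by decide +kernel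

set_option maxRecDepth 1000000 in
theorem relc_96_0 : fixPtsF W_96 4444 0 = true := by decide +kernel

set_option maxRecDepth 1000000 in
theorem relc_98_0 : fixPtsF W_98 4444 0 = true := by decide +kernel

set_option maxRecDepth 1000000 in
theorem relc_100_0 : fixPtsF W_100 4444 0 = true := by decide +kernel

set_option maxRecDepth 1000000 in
theorem relc_102_0 : fixPtsF W_102 4166 0 = true := by decide +kernel

set_option maxRecDepth 1000000 in
theorem relc_103_0 : fixPtsF W_103 4166 0 = true := by decide +kernel

set_option maxRecDepth 1000000 in
theorem relc_104_0 : fixPtsF W_104 4166 0 = true := by decide +kernel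

set_option maxRecDepth 1000000 in
theorem relc_105_0 : fixPtsF W_105 4166 0 = true := by decide +kernel

set_option maxRecDepth 1000000 in
theorem relc_106_0 : fixPtsF W_106 4166 0 = true := by decide +kernel

set_option maxRecDepth 1000000 in
theorem relc_107_0 : fixPtsF W_107 4166 0 = true := by decide +kernel

set_option maxRecDepth 1000000 in
theorem relc_108_0 : fixPtsF W_108 4166 0 = true := by decide +kernel

set_option maxRecDepth 1000000 in
theorem relc_109_0 : fixPtsF W_109 4166 0 = true := by decide +kernel

set_option maxRecDepth 1000000 in
theorem relc_110_0 : fixPtsF W_110 4166 0 = true := by decide +kernel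

set_option maxRecDepth 1000000 in
theorem relc_111_0 : fixPtsF W_111 4166 0 = true := by decide +kernel

set_option maxRecDepth 1000000 in
theorem relc_112_0 : fixPtsF W_112 3921 0 = true := by decide +kernel

set_option maxRecDepth 1000000 in
theorem relc_113_0 : fixPtsF W_113 3921 0 = true := by decide +kernel

set_option maxRecDepth 1000000 in
theorem relc_114_0 : fixPtsF W_114 3921 0 = true := by decide +kernel

set_option maxRecDepth 1000000 in
theorem relc_115_0 : fixPtsF W_115 3921 0 = true := by decide +kernel

set_option maxRecDepth 1000000 in
theorem relc_116_0 : fixPtsF W_116 3921 0 = true := by decide +kernel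

set_option maxRecDepth 1000000 in
theorem relc_117_0 : fixPtsF W_117 3921 0 = true := by decide +kernel

set_option maxRecDepth 1000000 in
theorem relc_118_0 : fixPtsF W_118 3703 0 = true := by decide +kernel

set_option maxRecDepth 1000000 in
theorem relc_119_0 : fixPtsF W_119 3703 0 = true := by decide +kernel

set_option maxRecDepth 1000000 in
theorem relc_120_0 : fixPtsF W_120 3703 0 = true := by decide +kernel

set_option maxRecDepth 1000000 in
theorem relc_121_0 : fixPtsF W_121 3703 0 = true := by decide +kernel

set_option maxRecDepth 1000000 in
theorem relc_122_0 : fixPtsF W_122 3703 0 = true := by decide +kernel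

set_option maxRecDepth 1000000 in
theorem relc_123_0 : fixPtsF W_123 3703 0 = true := by decide +kernel

set_option maxRecDepth 1000000 in
theorem relc_124_0 : fixPtsF W_124 3703 0 = true := by decide +kernel

set_option maxRecDepth 1000000 in
theorem relc_125_0 : fixPtsF W_125 3703 0 = true := by decide +kernel

set_option maxRecDepth 1000000 in
theorem relc_96_1 : fixPtsF W_96 4196 4444 = true := by decide +kernel

set_option maxRecDepth 1000000 in
theorem relc_98_1 : fixPtsF W_98 4196 4444 = true := by decide +kernel

set_option maxRecDepth 1000000 in
theorem relc_100_1 : fixPtsF W_100 4196 4444 = true := by decide +kernel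

set_option maxRecDepth 1000000 in
theorem relc_92_1 : fixPtsF W_92 3879 4761 = true := by decide +kernel

set_option maxRecDepth 1000000 in
theorem relc_94_1 : fixPtsF W_94 3879 4761 = true := by decide +kernel

set_option maxRecDepth 1000000 in
theorem relc_90_1 : fixPtsF W_90 3512 5128 = true := by decide +kernel

set_option maxRecDepth 1000000 in
theorem relc_70_1 : fixPtsF W_70 3377 5263 = true := by decide +kernel

set_option maxRecDepth 1000000 in
theorem relc_72_1 : fixPtsF W_72 3377 5263 = true := by decide +kernel

set_option maxRecDepth 1000000 in
theorem relc_74_1 : fixPtsF W_74 3377 5263 = true := by decide +kernel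

set_option maxRecDepth 1000000 in
theorem relc_76_1 : fixPtsF W_76 3377 5263 = true := by decide +kernel

set_option maxRecDepth 1000000 in
theorem relc_78_1 : fixPtsF W_78 3377 5263 = true := by decide +kernel

set_option maxRecDepth 1000000 in
theorem relc_80_1 : fixPtsF W_80 3377 5263 = true := by decide +kernel

set_option maxRecDepth 1000000 in
theorem relc_82_1 : fixPtsF W_82 3377 5263 = true := by decide +kernel

set_option maxRecDepth 1000000 in
theorem relc_84_1 : fixPtsF W_84 3377 5263 = true := by decide +kernel

set_option maxRecDepth 1000000 in
theorem relc_2_0 : fixPtsF W_2 8640 0 = true := by decide +kernel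

set_option maxRecDepth 1000000 in
theorem relc_60_1 : fixPtsF W_60 3085 5555 = true := by decide +kernel

set_option maxRecDepth 1000000 in
theorem relc_62_1 : fixPtsF W_62 3085 5555 = true := by decide +kernel

set_option maxRecDepth 1000000 in
theorem relc_64_1 : fixPtsF W_64 3085 5555 = true := by decide +kernel

set_option maxRecDepth 1000000 in
theorem relc_66_1 : fixPtsF W_66 3085 5555 = true := by decide +kernel

set_option maxRecDepth 1000000 in
theorem relc_68_1 : fixPtsF W_68 3085 5555 = true := by decide +kernel

set_option maxRecDepth 1000000 in
theorem relc_88_1 : fixPtsF W_88 3085 5555 = true := by decide +kernel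

set_option maxRecDepth 1000000 in
theorem relc_38_1 : fixPtsF W_38 2758 5882 = true := by decide +kernel

set_option maxRecDepth 1000000 in
theorem relc_39_1 : fixPtsF W_39 2758 5882 = true := by decide +kernel

set_option maxRecDepth 1000000 in
theorem relc_41_1 : fixPtsF W_41 2758 5882 = true := by decide +kernel

set_option maxRecDepth 1000000 in
theorem relc_43_1 : fixPtsF W_43 2758 5882 = true := by decide +kernel

set_option maxRecDepth 1000000 in
theorem relc_45_1 : fixPtsF W_45 2758 5882 = true := by decide +kernel

set_option maxRecDepth 1000000 in
theorem relc_47_1 : fixPtsF W_47 2758 5882 = true := by decide +kernel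

set_option maxRecDepth 1000000 in
theorem relc_49_1 : fixPtsF W_49 2758 5882 = true := by decide +kernel

set_option maxRecDepth 1000000 in
theorem relc_51_1 : fixPtsF W_51 2758 5882 = true := by decide +kernel

set_option maxRecDepth 1000000 in
theorem relc_53_1 : fixPtsF W_53 2758 5882 = true := by decide +kernel

set_option maxRecDepth 1000000 in
theorem relc_55_1 : fixPtsF W_55 2758 5882 = true := by decide +kernel

set_option maxRecDepth 1000000 in
theorem relc_57_1 : fixPtsF W_57 2758 5882 = true := by decide +kernel

set_option maxRecDepth 1000000 in
theorem relc_87_1 : fixPtsF W_87 2580 6060 = true := by decide +kernel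

set_option maxRecDepth 1000000 in
theorem relc_28_1 : fixPtsF W_28 2390 6250 = true := by decide +kernel

set_option maxRecDepth 1000000 in
theorem relc_30_1 : fixPtsF W_30 2390 6250 = true := by decide +kernel

set_option maxRecDepth 1000000 in
theorem relc_32_1 : fixPtsF W_32 2390 6250 = true := by decide +kernel

set_option maxRecDepth 1000000 in
theorem relc_34_1 : fixPtsF W_34 2390 6250 = true := by decide +kernel

set_option maxRecDepth 1000000 in
theorem relc_36_1 : fixPtsF W_36 2390 6250 = true := by decide +kernel

set_option maxRecDepth 1000000 in
theorem relc_118_2 : fixPtsF W_118 1234 7406 = true := by decide +kernel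

set_option maxRecDepth 1000000 in
theorem relc_119_2 : fixPtsF W_119 1234 7406 = true := by decide +kernel

set_option maxRecDepth 1000000 in
theorem relc_121_2 : fixPtsF W_121 1234 7406 = true := by decide +kernel

set_option maxRecDepth 1000000 in
theorem relc_123_2 : fixPtsF W_123 1234 7406 = true := by decide +kernel

set_option maxRecDepth 1000000 in
theorem relc_125_2 : fixPtsF W_125 1234 7406 = true := by decide +kernel

set_option maxRecDepth 1000000 in
theorem relc_18_1 : fixPtsF W_18 1974 6666 = true := by decide +kernel

set_option maxRecDepth 1000000 in
theorem relc_20_1 : fixPtsF W_20 1974 6666 = true := by decide +kernel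

set_option maxRecDepth 1000000 in
theorem relc_22_1 : fixPtsF W_22 1974 6666 = true := by decide +kernel

set_option maxRecDepth 1000000 in
theorem relc_24_1 : fixPtsF W_24 1974 6666 = true := by decide +kernel

set_option maxRecDepth 1000000 in
theorem relc_14_1 : fixPtsF W_14 1498 7142 = true := by decide +kernel

set_option maxRecDepth 1000000 in
theorem relc_16_1 : fixPtsF W_16 1498 7142 = true := by decide +kernel

set_option maxRecDepth 1000000 in
theorem relc_0_0 : fixPtsF W_0 8640 0 = true := by decide +kernel

set_option maxRecDepth 1000000 in
theorem relc_3_0 : fixPtsF W_3 8640 0 = true := by decide +kernel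

set_option maxRecDepth 1000000 in
theorem relc_112_2 : fixPtsF W_112 798 7842 = true := by decide +kernel

set_option maxRecDepth 1000000 in
theorem relc_114_2 : fixPtsF W_114 798 7842 = true := by decide +kernel

set_option maxRecDepth 1000000 in
theorem relc_116_2 : fixPtsF W_116 798 7842 = true := by decide +kernel

set_option maxRecDepth 1000000 in
theorem relc_10_1 : fixPtsF W_10 948 7692 = true := by decide +kernel

set_option maxRecDepth 1000000 in
theorem relc_12_1 : fixPtsF W_12 948 7692 = true := by decide +kernel

set_option maxRecDepth 1000000 in
theorem inv_0_0 : invRowFI ctF 8640 0 1 8640 0 = true := by decide +kernel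

set_option maxRecDepth 1000000 in
theorem inv_2_0 : invRowFI ctF 8640 2 3 8640 0 = true := by decide +kernel

set_option maxRecDepth 1000000 in
theorem conn_0 : connF ctF 4 8640 0 = true := by decide +kernel

set_option maxRecDepth 1000000 in
theorem relc_103_2 : fixPtsF W_103 308 8332 = true := by decide +kernel

set_option maxRecDepth 1000000 in
theorem relc_105_2 : fixPtsF W_105 308 8332 = true := by decide +kernel

set_option maxRecDepth 1000000 in
theorem relc_107_2 : fixPtsF W_107 308 8332 = true := by decide +kernel

set_option maxRecDepth 1000000 in
theorem relc_109_2 : fixPtsF W_109 308 8332 = true := by decide +kernel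

set_option maxRecDepth 1000000 in
theorem relc_111_2 : fixPtsF W_111 308 8332 = true := by decide +kernel

set_option maxRecDepth 1000000 in
theorem relc_7_1 : fixPtsF W_7 307 8333 = true := by decide +kernel

set_option maxRecDepth 1000000 in
theorem relc_9_1 : fixPtsF W_9 307 8333 = true := by decide +kernel

end Cfsg.Agent.Helper5.M12TTC
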