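import Cfsg.Agent.Helper5.M12TTCDatD
import Cfsg.Agent.Helper5.M12TTCDatT
import Cfsg.Agent.Helper5.TCIB

/-! kernel checks of the coset table: M12TTC -/

set_option autoImplicit false
set_option Elab.async false

namespace Cfsg.Agent.Helper5.M12TTC
open Cfsg.Agent.Helper5.TC Cfsg.Agent.Helper5.TCI

set_option maxRecDepth 1000000 in
theorem relc_7_0 : fixPtsF W_7 8333 0 = true := by decide +kernel

set_option maxRecDepth 1000000 in
theorem relc_9_0 : fixPtsF W_9 8333 0 = true := by decide +kernel

set_option maxRecDepth 1000000 in
theorem relc_11_0 : fixPtsF W_11 7692 0 = true := by decide +kernel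

set_option maxRecDepth 1000000 in
theorem relc_13_0 : fixPtsF W_13 7692 0 = true := by decide +kernel

set_option maxRecDepth 1000000 in
theorem relc_15_0 : fixPtsF W_15 7142 0 = true := by decide +kernel

set_option maxRecDepth 1000000 in
theorem relc_17_0 : fixPtsF W_17 7142 0 = true := by decide +kernel

set_option maxRecDepth 1000000 in
theorem relc_19_0 : fixPtsF W_19 6666 0 = true := by decide +kernel

set_option maxRecDepth 1000000 in
theorem relc_21_0 : fixPtsF W_21 6666 0 = true := by decide +kernel

set_option maxRecDepth 1000000 in
theorem relc_23_0 : fixPtsF W_23 6666 0 = true := by decide +kernel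

set_option maxRecDepth 1000000 in
theorem relc_25_0 : fixPtsF W_25 6666 0 = true := by decide +kernel

set_option maxRecDepth 1000000 in
theorem relc_27_0 : fixPtsF W_27 6250 0 = true := by decide +kernel

set_option maxRecDepth 1000000 in
theorem relc_29_0 : fixPtsF W_29 6250 0 = true := by decide +kernel

set_option maxRecDepth 1000000 in
theorem relc_31_0 : fixPtsF W_31 6250 0 = true := by decide +kernel

set_option maxRecDepth 1000000 in
theorem relc_33_0 : fixPtsF W_33 6250 0 = true := by decide +kernel

set_option maxRecDepth 1000000 in
theorem relc_35_0 : fixPtsF W_35 6250 0 = true := by decide +kernel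

set_option maxRecDepth 1000000 in
theorem relc_37_0 : fixPtsF W_37 6250 0 = true := by decide +kernel

set_option maxRecDepth 1000000 in
theorem relc_87_0 : fixPtsF W_87 6060 0 = true := by decide +kernel

set_option maxRecDepth 1000000 in
theorem relc_39_0 : fixPtsF W_39 5882 0 = true := by decide +kernel

set_option maxRecDepth 1000000 in
theorem relc_41_0 : fixPtsF W_41 5882 0 = true := by decide +kernel

set_option maxRecDepth 1000000 in
theorem relc_43_0 : fixPtsF W_43 5882 0 = true := by decide +kernel

set_option maxRecDepth 1000000 in
theorem relc_45_0 : fixPtsF W_45 5882 0 = true := by decide +kernel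

set_option maxRecDepth 1000000 in
theorem relc_47_0 : fixPtsF W_47 5882 0 = true := by decide +kernel

set_option maxRecDepth 1000000 in
theorem relc_49_0 : fixPtsF W_49 5882 0 = true := by decide +kernel

set_option maxRecDepth 1000000 in
theorem relc_51_0 : fixPtsF W_51 5882 0 = true := by decide +kernel

set_option maxRecDepth 1000000 in
theorem relc_53_0 : fixPtsF W_53 5882 0 = true := by decide +kernel

set_option maxRecDepth 1000000 in
theorem relc_55_0 : fixPtsF W_55 5882 0 = true := by decide +kernel

set_option maxRecDepth 1000000 in
theorem relc_57_0 : fixPtsF W_57 5882 0 = true := by decide +kernel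

set_option maxRecDepth 1000000 in
theorem relc_59_0 : fixPtsF W_59 5555 0 = true := by decide +kernel

set_option maxRecDepth 1000000 in
theorem relc_61_0 : fixPtsF W_61 5555 0 = true := by decide +kernel

set_option maxRecDepth 1000000 in
theorem relc_63_0 : fixPtsF W_63 5555 0 = true := by decide +kernel

set_option maxRecDepth 1000000 in
theorem relc_65_0 : fixPtsF W_65 5555 0 = true := by decide +kernel

set_option maxRecDepth 1000000 in
theorem relc_67_0 : fixPtsF W_67 5555 0 = true := by decide +kernel

set_option maxRecDepth 1000000 in
theorem relc_69_0 : fixPtsF W_69 5555 0 = true := by decide +kernel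

set_option maxRecDepth 1000000 in
theorem relc_89_0 : fixPtsF W_89 5555 0 = true := by decide +kernel

set_option maxRecDepth 1000000 in
theorem relc_71_0 : fixPtsF W_71 5263 0 = true := by decide +kernel

set_option maxRecDepth 1000000 in
theorem relc_73_0 : fixPtsF W_73 5263 0 = true := by decide +kernel

set_option maxRecDepth 1000000 in
theorem relc_75_0 : fixPtsF W_75 5263 0 = true := by decide +kernel

set_option maxRecDepth 1000000 in
theorem relc_77_0 : fixPtsF W_77 5263 0 = true := by decide +kernel

set_option maxRecDepth 1000000 in
theorem relc_79_0 : fixPtsF W_79 5263 0 = true := by decide +kernel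

set_option maxRecDepth 1000000 in
theorem relc_81_0 : fixPtsF W_81 5263 0 = true := by decide +kernel

set_option maxRecDepth 1000000 in
theorem relc_83_0 : fixPtsF W_83 5263 0 = true := by decide +kernel

set_option maxRecDepth 1000000 in
theorem relc_85_0 : fixPtsF W_85 5263 0 = true := by decide +kernel

set_option maxRecDepth 1000000 in
theorem relc_91_0 : fixPtsF W_91 5128 0 = true := by decide +kernel

set_option maxRecDepth 1000000 in
theorem relc_93_0 : fixPtsF W_93 4761 0 = true := by decide +kernel

set_option maxRecDepth 1000000 in
theorem relc_95_0 : fixPtsF W_95 4761 0 = true := by decide +kernel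

set_option maxRecDepth 1000000 in
theorem relc_97_0 : fixPtsF W_97 4444 0 = true := by decide +kernel

set_option maxRecDepth 1000000 in
theorem relc_99_0 : fixPtsF W_99 4444 0 = true := by decide +kernel

set_option maxRecDepth 1000000 in
theorem relc_101_0 : fixPtsF W_101 4444 0 = true := by decide +kernel

set_option maxRecDepth 1000000 in
theorem relc_102_1 : fixPtsF W_102 4166 4166 = true := by decide +kernel

set_option maxRecDepth 1000000 in
theorem relc_103_1 : fixPtsF W_103 4166 4166 = true := by decide +kernel

set_option maxRecDepth 1000000 in
theorem relc_104_1 : fixPtsF W_104 4166 4166 = true := by decide +kernel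

set_option maxRecDepth 1000000 in
theorem relc_105_1 : fixPtsF W_105 4166 4166 = true := by decide +kernel

set_option maxRecDepth 1000000 in
theorem relc_106_1 : fixPtsF W_106 4166 4166 = true := by decide +kernel

set_option maxRecDepth 1000000 in
theorem relc_107_1 : fixPtsF W_107 4166 4166 = true := by decide +kernel

set_option maxRecDepth 1000000 in
theorem relc_108_1 : fixPtsF W_108 4166 4166 = true := by decide +kernel

set_option maxRecDepth 1000000 in
theorem relc_109_1 : fixPtsF W_109 4166 4166 = true := by decide +kernel

set_option maxRecDepth 1000000 in
theorem relc_110_1 : fixPtsF W_110 4166 4166 = true := by decide +kernel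

set_option maxRecDepth 1000000 in
theorem relc_111_1 : fixPtsF W_111 4166 4166 = true := by decide +kernel

set_option maxRecDepth 1000000 in
theorem relc_112_1 : fixPtsF W_112 3921 3921 = true := by decide +kernel

set_option maxRecDepth 1000000 in
theorem relc_113_1 : fixPtsF W_113 3921 3921 = true := by decide +kernel

set_option maxRecDepth 1000000 in
theorem relc_114_1 : fixPtsF W_114 3921 3921 = true := by decide +kernel

set_option maxRecDepth 1000000 in
theorem relc_115_1 : fixPtsF W_115 3921 3921 = true := by decide +kernel

set_option maxRecDepth 1000000 in
theorem relc_116_1 : fixPtsF W_116 3921 3921 = true := by decide +kernel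

set_option maxRecDepth 1000000 in
theorem relc_117_1 : fixPtsF W_117 3921 3921 = true := by decide +kernel

set_option maxRecDepth 1000000 in
theorem relc_118_1 : fixPtsF W_118 3703 3703 = true := by decide +kernel

set_option maxRecDepth 1000000 in
theorem relc_119_1 : fixPtsF W_119 3703 3703 = true := by decide +kernel

set_option maxRecDepth 1000000 in
theorem relc_120_1 : fixPtsF W_120 3703 3703 = true := by decide +kernel

set_option maxRecDepth 1000000 in
theorem relc_121_1 : fixPtsF W_121 3703 3703 = true := by decide +kernel

set_option maxRecDepth 1000000 in
theorem relc_122_1 : fixPtsF W_122 3703 3703 = true := by decide +kernel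

set_option maxRecDepth 1000000 in
theorem relc_123_1 : fixPtsF W_123 3703 3703 = true := by decide +kernel

set_option maxRecDepth 1000000 in
theorem relc_124_1 : fixPtsF W_124 3703 3703 = true := by decide +kernel

set_option maxRecDepth 1000000 in
theorem relc_125_1 : fixPtsF W_125 3703 3703 = true := by decide +kernel

set_option maxRecDepth 1000000 in
theorem relc_97_1 : fixPtsF W_97 4196 4444 = true := by decide +kernel

set_option maxRecDepth 1000000 in
theorem relc_99_1 : fixPtsF W_99 4196 4444 = true := by decide +kernel

set_option maxRecDepth 1000000 in
theorem relc_101_1 : fixPtsF W_101 4196 4444 = true := by decide +kernel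

set_option maxRecDepth 1000000 in
theorem relc_93_1 : fixPtsF W_93 3879 4761 = true := by decide +kernel

set_option maxRecDepth 1000000 in
theorem relc_95_1 : fixPtsF W_95 3879 4761 = true := by decide +kernel

set_option maxRecDepth 1000000 in
theorem relc_91_1 : fixPtsF W_91 3512 5128 = true := by decide +kernel

set_option maxRecDepth 1000000 in
theorem relc_71_1 : fixPtsF W_71 3377 5263 = true := by decide +kernel

set_option maxRecDepth 1000000 in
theorem relc_73_1 : fixPtsF W_73 3377 5263 = true := by decide +kernel

set_option maxRecDepth 1000000 in
theorem relc_75_1 : fixPtsF W_75 3377 5263 = true := by decide +kernel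

set_option maxRecDepth 1000000 in
theorem relc_77_1 : fixPtsF W_77 3377 5263 = true := by decide +kernel

set_option maxRecDepth 1000000 in
theorem relc_79_1 : fixPtsF W_79 3377 5263 = true := by decide +kernel

set_option maxRecDepth 1000000 in
theorem relc_81_1 : fixPtsF W_81 3377 5263 = true := by decide +kernel

set_option maxRecDepth 1000000 in
theorem relc_83_1 : fixPtsF W_83 3377 5263 = true := by decide +kernel

set_option maxRecDepth 1000000 in
theorem relc_85_1 : fixPtsF W_85 3377 5263 = true := by decide +kernel

set_option maxRecDepth 1000000 in
theorem relc_58_1 : fixPtsF W_58 3085 5555 = true := by decide +kernel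

set_option maxRecDepth 1000000 in
theorem relc_59_1 : fixPtsF W_59 3085 5555 = true := by decide +kernel

set_option maxRecDepth 1000000 in
theorem relc_61_1 : fixPtsF W_61 3085 5555 = true := by decide +kernel

set_option maxRecDepth 1000000 in
theorem relc_63_1 : fixPtsF W_63 3085 5555 = true := by decide +kernel

set_option maxRecDepth 1000000 in
theorem relc_65_1 : fixPtsF W_65 3085 5555 = true := by decide +kernel

set_option maxRecDepth 1000000 in
theorem relc_67_1 : fixPtsF W_67 3085 5555 = true := by decide +kernel

set_option maxRecDepth 1000000 in
theorem relc_69_1 : fixPtsF W_69 3085 5555 = true := by decide +kernel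

set_option maxRecDepth 1000000 in
theorem relc_89_1 : fixPtsF W_89 3085 5555 = true := by decide +kernel

set_option maxRecDepth 1000000 in
theorem relc_40_1 : fixPtsF W_40 2758 5882 = true := by decide +kernel

set_option maxRecDepth 1000000 in
theorem relc_42_1 : fixPtsF W_42 2758 5882 = true := by decide +kernel

set_option maxRecDepth 1000000 in
theorem relc_44_1 : fixPtsF W_44 2758 5882 = true := by decide +kernel

set_option maxRecDepth 1000000 in
theorem relc_46_1 : fixPtsF W_46 2758 5882 = true := by decide +kernel

set_option maxRecDepth 1000000 in
theorem relc_48_1 : fixPtsF W_48 2758 5882 = true := by decide +kernel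

set_option maxRecDepth 1000000 in
theorem relc_50_1 : fixPtsF W_50 2758 5882 = true := by decide +kernel

set_option maxRecDepth 1000000 in
theorem relc_52_1 : fixPtsF W_52 2758 5882 = true := by decide +kernel

set_option maxRecDepth 1000000 in
theorem relc_54_1 : fixPtsF W_54 2758 5882 = true := by decide +kernel

set_option maxRecDepth 1000000 in
theorem relc_56_1 : fixPtsF W_56 2758 5882 = true := by decide +kernel

set_option maxRecDepth 1000000 in
theorem relc_86_1 : fixPtsF W_86 2580 6060 = true := by decide +kernel

set_option maxRecDepth 1000000 in
theorem relc_26_1 : fixPtsF W_26 2390 6250 = true := by decide +kernel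

set_option maxRecDepth 1000000 in
theorem relc_27_1 : fixPtsF W_27 2390 6250 = true := by decide +kernel

set_option maxRecDepth 1000000 in
theorem relc_29_1 : fixPtsF W_29 2390 6250 = true := by decide +kernel

set_option maxRecDepth 1000000 in
theorem relc_31_1 : fixPtsF W_31 2390 6250 = true := by decide +kernel

set_option maxRecDepth 1000000 in
theorem relc_33_1 : fixPtsF W_33 2390 6250 = true := by decide +kernel

set_option maxRecDepth 1000000 in
theorem relc_35_1 : fixPtsF W_35 2390 6250 = true := by decide +kernel

set_option maxRecDepth 1000000 in
theorem relc_37_1 : fixPtsF W_37 2390 6250 = true := by decide +kernel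

set_option maxRecDepth 1000000 in
theorem relc_120_2 : fixPtsF W_120 1234 7406 = true := by decide +kernel

set_option maxRecDepth 1000000 in
theorem relc_122_2 : fixPtsF W_122 1234 7406 = true := by decide +kernel

set_option maxRecDepth 1000000 in
theorem relc_124_2 : fixPtsF W_124 1234 7406 = true := by decide +kernel

set_option maxRecDepth 1000000 in
theorem relc_5_0 : fixPtsF W_5 8640 0 = true := by decide +kernel

set_option maxRecDepth 1000000 in
theorem relc_19_1 : fixPtsF W_19 1974 6666 = true := by decide +kernel

set_option maxRecDepth 1000000 in
theorem relc_21_1 : fixPtsF W_21 1974 6666 = true := by decide +kernel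

set_option maxRecDepth 1000000 in
theorem relc_23_1 : fixPtsF W_23 1974 6666 = true := by decide +kernel

set_option maxRecDepth 1000000 in
theorem relc_25_1 : fixPtsF W_25 1974 6666 = true := by decide +kernel

set_option maxRecDepth 1000000 in
theorem relc_15_1 : fixPtsF W_15 1498 7142 = true := by decide +kernel

set_option maxRecDepth 1000000 in
theorem relc_17_1 : fixPtsF W_17 1498 7142 = true := by decide +kernel

set_option maxRecDepth 1000000 in
theorem relc_1_0 : fixPtsF W_1 8640 0 = true := by decide +kernel

set_option maxRecDepth 1000000 in
theorem relc_4_0 : fixPtsF W_4 8640 0 = true := by decide +kernel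

set_option maxRecDepth 1000000 in
theorem relc_113_2 : fixPtsF W_113 798 7842 = true := by decide +kernel

set_option maxRecDepth 1000000 in
theorem relc_115_2 : fixPtsF W_115 798 7842 = true := by decide +kernel

set_option maxRecDepth 1000000 in
theorem relc_117_2 : fixPtsF W_117 798 7842 = true := by decide +kernel

set_option maxRecDepth 1000000 in
theorem relc_11_1 : fixPtsF W_11 948 7692 = true := by decide +kernel

set_option maxRecDepth 1000000 in
theorem relc_13_1 : fixPtsF W_13 948 7692 = true := by decide +kernel

set_option maxRecDepth 1000000 in
theorem inv_1_0 : invRowFI ctF 8640 1 0 8640 0 = true := by decide +kernel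

set_option maxRecDepth 1000000 in
theorem inv_3_0 : invRowFI ctF 8640 3 2 8640 0 = true := by decide +kernel

set_option maxRecDepth 1000000 in
theorem relc_102_2 : fixPtsF W_102 308 8332 = true := by decide +kernel

set_option maxRecDepth 1000000 in
theorem relc_104_2 : fixPtsF W_104 308 8332 = true := by decide +kernel

set_option maxRecDepth 1000000 in
theorem relc_106_2 : fixPtsF W_106 308 8332 = true := by decide +kernel

set_option maxRecDepth 1000000 in
theorem relc_108_2 : fixPtsF W_108 308 8332 = true := by decide +kernel

set_option maxRecDepth 1000000 in
theorem relc_110_2 : fixPtsF W_110 308 8332 = true := by decide +kernel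

set_option maxRecDepth 1000000 in
theorem relc_6_1 : fixPtsF W_6 307 8333 = true := by decide +kernel

set_option maxRecDepth 1000000 in
theorem relc_8_1 : fixPtsF W_8 307 8333 = true := by decide +kernel

end Cfsg.Agent.Helper5.M12TTC
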