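import Cfsg.Agent.Helper5.M12TTCChkE0
import Cfsg.Agent.Helper5.M12TTCChkR0
import Cfsg.Agent.Helper5.M12TTCChkR1
import Cfsg.Agent.Helper5.M12TTCChkA
import Cfsg.Agent.Helper5.TCIB

/-! summary of the kernel checks: M12TTC -/

set_option autoImplicit false
set_option Elab.async false

namespace Cfsg.Agent.Helper5.M12TTC
open Cfsg.Agent.Helper5.TC Cfsg.Agent.Helper5.TCI

theorem edgesx_0 : ∀ v, v < 35820 → edgeOKI iota E 0 v = true := by
  intro v hv
  rcases Nat.lt_or_ge v 20744 with h | h
  · rcases Nat.lt_or_ge v 9383 with h | h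
    · rcases Nat.lt_or_ge v 4794 with h | h
      · rcases Nat.lt_or_ge v 2561 with h | h
        · exact edgesRangeI_spec iota E 0 2561 0 edges_0_0 v (by omega) (by omega)
        · exact edgesRangeI_spec iota E 0 2233 2561 edges_0_1 v (by omega) (by omega)
      · rcases Nat.lt_or_ge v 7020 with h | h
        · exact edgesRangeI_spec iota E 0 2226 4794 edges_0_2 v (by omega) (by omega)
        · exact edgesRangeI_spec iota E 0 2363 7020 edges_0_3 v (by omega) (by omega)
    · rcases Nat.lt_or_ge v 13818 with h | h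
      · rcases Nat.lt_or_ge v 11628 with h | h
        · exact edgesRangeI_spec iota E 0 2245 9383 edges_0_4 v (by omega) (by omega)
        · exact edgesRangeI_spec iota E 0 2190 11628 edges_0_5 v (by omega) (by omega)
      · rcases Nat.lt_or_ge v 16095 with h | h
        · exact edgesRangeI_spec iota E 0 2277 13818 edges_0_6 v (by omega) (by omega)
        · rcases Nat.lt_or_ge v 18346 with h | h
          · exact edgesRangeI_spec iota E 0 2251 16095 edges_0_7 v (by omega) (by omega)
          · exact edgesRangeI_spec iota E 0 2398 18346 edges_0_8 v (by omega) (by omega)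
  · rcases Nat.lt_or_ge v 28712 with h | h
    · rcases Nat.lt_or_ge v 24860 with h | h
      · rcases Nat.lt_or_ge v 22759 with h | h
        · exact edgesRangeI_spec iota E 0 2015 20744 edges_0_9 v (by omega) (by omega)
        · exact edgesRangeI_spec iota E 0 2101 22759 edges_0_10 v (by omega) (by omega)
      · rcases Nat.lt_or_ge v 26851 with h | h
        · exact edgesRangeI_spec iota E 0 1991 24860 edges_0_11 v (by omega) (by omega)
        · exact edgesRangeI_spec iota E 0 1861 26851 edges_0_12 v (by omega) (by omega)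
    · rcases Nat.lt_or_ge v 32400 with h | h
      · rcases Nat.lt_or_ge v 30660 with h | h
        · exact edgesRangeI_spec iota E 0 1948 28712 edges_0_13 v (by omega) (by omega)
        · exact edgesRangeI_spec iota E 0 1740 30660 edges_0_14 v (by omega) (by omega)
      · rcases Nat.lt_or_ge v 34253 with h | h
        · exact edgesRangeI_spec iota E 0 1853 32400 edges_0_15 v (by omega) (by omega)
        · rcases Nat.lt_or_ge v 35153 with h | h
          · exact edgesRangeI_spec iota E 0 900 34253 edges_0_16 v (by omega) (by omega)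
          · exact edgesRangeI_spec iota E 0 667 35153 edges_0_17 v (by omega) (by omega)

theorem edgesx_1 : ∀ v, v < 35820 → edgeOKI iota E 1 v = true := by
  intro v hv
  rcases Nat.lt_or_ge v 22291 with h | h
  · rcases Nat.lt_or_ge v 10660 with h | h
    · rcases Nat.lt_or_ge v 6020 with h | h
      · rcases Nat.lt_or_ge v 3134 with h | h
        · exact edgesRangeI_spec iota E 1 3134 0 edges_1_0 v (by omega) (by omega)
        · exact edgesRangeI_spec iota E 1 2886 3134 edges_1_1 v (by omega) (by omega)
      · rcases Nat.lt_or_ge v 8301 with h | h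
        · exact edgesRangeI_spec iota E 1 2281 6020 edges_1_2 v (by omega) (by omega)
        · exact edgesRangeI_spec iota E 1 2359 8301 edges_1_3 v (by omega) (by omega)
    · rcases Nat.lt_or_ge v 15284 with h | h
      · rcases Nat.lt_or_ge v 12998 with h | h
        · exact edgesRangeI_spec iota E 1 2338 10660 edges_1_4 v (by omega) (by omega)
        · exact edgesRangeI_spec iota E 1 2286 12998 edges_1_5 v (by omega) (by omega)
      · rcases Nat.lt_or_ge v 17549 with h | h
        · exact edgesRangeI_spec iota E 1 2265 15284 edges_1_6 v (by omega) (by omega)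
        · rcases Nat.lt_or_ge v 20029 with h | h
          · exact edgesRangeI_spec iota E 1 2480 17549 edges_1_7 v (by omega) (by omega)
          · exact edgesRangeI_spec iota E 1 2262 20029 edges_1_8 v (by omega) (by omega)
  · rcases Nat.lt_or_ge v 29977 with h | h
    · rcases Nat.lt_or_ge v 26241 with h | h
      · rcases Nat.lt_or_ge v 24194 with h | h
        · exact edgesRangeI_spec iota E 1 1903 22291 edges_1_9 v (by omega) (by omega)
        · exact edgesRangeI_spec iota E 1 2047 24194 edges_1_10 v (by omega) (by omega)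
      · rcases Nat.lt_or_ge v 28089 with h | h
        · exact edgesRangeI_spec iota E 1 1848 26241 edges_1_11 v (by omega) (by omega)
        · exact edgesRangeI_spec iota E 1 1888 28089 edges_1_12 v (by omega) (by omega)
    · rcases Nat.lt_or_ge v 33859 with h | h
      · rcases Nat.lt_or_ge v 31758 with h | h
        · exact edgesRangeI_spec iota E 1 1781 29977 edges_1_13 v (by omega) (by omega)
        · exact edgesRangeI_spec iota E 1 2101 31758 edges_1_14 v (by omega) (by omega)
      · rcases Nat.lt_or_ge v 34810 with h | h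
        · exact edgesRangeI_spec iota E 1 951 33859 edges_1_15 v (by omega) (by omega)
        · rcases Nat.lt_or_ge v 35551 with h | h
          · exact edgesRangeI_spec iota E 1 741 34810 edges_1_16 v (by omega) (by omega)
          · exact edgesRangeI_spec iota E 1 269 35551 edges_1_17 v (by omega) (by omega)

theorem edgesx_2 : ∀ v, v < 35820 → edgeOKI iota E 2 v = true := by
  intro v hv
  rcases Nat.lt_or_ge v 20213 with h | h
  · rcases Nat.lt_or_ge v 10788 with h | h
    · rcases Nat.lt_or_ge v 5695 with h | h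
      · rcases Nat.lt_or_ge v 1942 with h | h
        · exact edgesRangeI_spec iota E 2 1942 0 edges_2_0 v (by omega) (by omega)
        · rcases Nat.lt_or_ge v 3905 with h | h
          · exact edgesRangeI_spec iota E 2 1963 1942 edges_2_1 v (by omega) (by omega)
          · exact edgesRangeI_spec iota E 2 1790 3905 edges_2_2 v (by omega) (by omega)
      · rcases Nat.lt_or_ge v 7245 with h | h
        · exact edgesRangeI_spec iota E 2 1550 5695 edges_2_3 v (by omega) (by omega)
        · rcases Nat.lt_or_ge v 8895 with h | h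
          · exact edgesRangeI_spec iota E 2 1650 7245 edges_2_4 v (by omega) (by omega)
          · exact edgesRangeI_spec iota E 2 1893 8895 edges_2_5 v (by omega) (by omega)
    · rcases Nat.lt_or_ge v 15416 with h | h
      · rcases Nat.lt_or_ge v 12396 with h | h
        · exact edgesRangeI_spec iota E 2 1608 10788 edges_2_6 v (by omega) (by omega)
        · rcases Nat.lt_or_ge v 13993 with h | h
          · exact edgesRangeI_spec iota E 2 1597 12396 edges_2_7 v (by omega) (by omega)
          · exact edgesRangeI_spec iota E 2 1423 13993 edges_2_8 v (by omega) (by omega)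
      · rcases Nat.lt_or_ge v 16893 with h | h
        · exact edgesRangeI_spec iota E 2 1477 15416 edges_2_9 v (by omega) (by omega)
        · rcases Nat.lt_or_ge v 18617 with h | h
          · exact edgesRangeI_spec iota E 2 1724 16893 edges_2_10 v (by omega) (by omega)
          · exact edgesRangeI_spec iota E 2 1596 18617 edges_2_11 v (by omega) (by omega)
  · rcases Nat.lt_or_ge v 29537 with h | h
    · rcases Nat.lt_or_ge v 24913 with h | h
      · rcases Nat.lt_or_ge v 21836 with h | h
        · exact edgesRangeI_spec iota E 2 1623 20213 edges_2_12 v (by omega) (by omega)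
        · rcases Nat.lt_or_ge v 23193 with h | h
          · exact edgesRangeI_spec iota E 2 1357 21836 edges_2_13 v (by omega) (by omega)
          · exact edgesRangeI_spec iota E 2 1720 23193 edges_2_14 v (by omega) (by omega)
      · rcases Nat.lt_or_ge v 26504 with h | h
        · exact edgesRangeI_spec iota E 2 1591 24913 edges_2_15 v (by omega) (by omega)
        · rcases Nat.lt_or_ge v 27981 with h | h
          · exact edgesRangeI_spec iota E 2 1477 26504 edges_2_16 v (by omega) (by omega)
          · exact edgesRangeI_spec iota E 2 1556 27981 edges_2_17 v (by omega) (by omega)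
    · rcases Nat.lt_or_ge v 34176 with h | h
      · rcases Nat.lt_or_ge v 31225 with h | h
        · exact edgesRangeI_spec iota E 2 1688 29537 edges_2_18 v (by omega) (by omega)
        · rcases Nat.lt_or_ge v 32763 with h | h
          · exact edgesRangeI_spec iota E 2 1538 31225 edges_2_19 v (by omega) (by omega)
          · exact edgesRangeI_spec iota E 2 1413 32763 edges_2_20 v (by omega) (by omega)
      · rcases Nat.lt_or_ge v 34778 with h | h
        · exact edgesRangeI_spec iota E 2 602 34176 edges_2_21 v (by omega) (by omega)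
        · rcases Nat.lt_or_ge v 35390 with h | h
          · exact edgesRangeI_spec iota E 2 612 34778 edges_2_22 v (by omega) (by omega)
          · exact edgesRangeI_spec iota E 2 430 35390 edges_2_23 v (by omega) (by omega)

theorem edgesx_3 : ∀ v, v < 35820 → edgeOKI iota E 3 v = true := by
  intro v hv
  rcases Nat.lt_or_ge v 22442 with h | h
  · rcases Nat.lt_or_ge v 12134 with h | h
    · rcases Nat.lt_or_ge v 6562 with h | h
      · rcases Nat.lt_or_ge v 2655 with h | h
        · exact edgesRangeI_spec iota E 3 2655 0 edges_3_0 v (by omega) (by omega)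
        · rcases Nat.lt_or_ge v 4707 with h | h
          · exact edgesRangeI_spec iota E 3 2052 2655 edges_3_1 v (by omega) (by omega)
          · exact edgesRangeI_spec iota E 3 1855 4707 edges_3_2 v (by omega) (by omega)
      · rcases Nat.lt_or_ge v 8225 with h | h
        · exact edgesRangeI_spec iota E 3 1663 6562 edges_3_3 v (by omega) (by omega)
        · rcases Nat.lt_or_ge v 10309 with h | h
          · exact edgesRangeI_spec iota E 3 2084 8225 edges_3_4 v (by omega) (by omega)
          · exact edgesRangeI_spec iota E 3 1825 10309 edges_3_5 v (by omega) (by omega)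
    · rcases Nat.lt_or_ge v 17124 with h | h
      · rcases Nat.lt_or_ge v 13686 with h | h
        · exact edgesRangeI_spec iota E 3 1552 12134 edges_3_6 v (by omega) (by omega)
        · rcases Nat.lt_or_ge v 15557 with h | h
          · exact edgesRangeI_spec iota E 3 1871 13686 edges_3_7 v (by omega) (by omega)
          · exact edgesRangeI_spec iota E 3 1567 15557 edges_3_8 v (by omega) (by omega)
      · rcases Nat.lt_or_ge v 18943 with h | h
        · exact edgesRangeI_spec iota E 3 1819 17124 edges_3_9 v (by omega) (by omega)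
        · rcases Nat.lt_or_ge v 20625 with h | h
          · exact edgesRangeI_spec iota E 3 1682 18943 edges_3_10 v (by omega) (by omega)
          · exact edgesRangeI_spec iota E 3 1817 20625 edges_3_11 v (by omega) (by omega)
  · rcases Nat.lt_or_ge v 31345 with h | h
    · rcases Nat.lt_or_ge v 26956 with h | h
      · rcases Nat.lt_or_ge v 23791 with h | h
        · exact edgesRangeI_spec iota E 3 1349 22442 edges_3_12 v (by omega) (by omega)
        · rcases Nat.lt_or_ge v 25394 with h | h
          · exact edgesRangeI_spec iota E 3 1603 23791 edges_3_13 v (by omega) (by omega)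
          · exact edgesRangeI_spec iota E 3 1562 25394 edges_3_14 v (by omega) (by omega)
      · rcases Nat.lt_or_ge v 28257 with h | h
        · exact edgesRangeI_spec iota E 3 1301 26956 edges_3_15 v (by omega) (by omega)
        · rcases Nat.lt_or_ge v 29663 with h | h
          · exact edgesRangeI_spec iota E 3 1406 28257 edges_3_16 v (by omega) (by omega)
          · exact edgesRangeI_spec iota E 3 1682 29663 edges_3_17 v (by omega) (by omega)
    · rcases Nat.lt_or_ge v 34804 with h | h
      · rcases Nat.lt_or_ge v 32898 with h | h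
        · exact edgesRangeI_spec iota E 3 1553 31345 edges_3_18 v (by omega) (by omega)
        · rcases Nat.lt_or_ge v 34215 with h | h
          · exact edgesRangeI_spec iota E 3 1317 32898 edges_3_19 v (by omega) (by omega)
          · exact edgesRangeI_spec iota E 3 589 34215 edges_3_20 v (by omega) (by omega)
      · rcases Nat.lt_or_ge v 35319 with h | h
        · exact edgesRangeI_spec iota E 3 515 34804 edges_3_21 v (by omega) (by omega)
        · rcases Nat.lt_or_ge v 35782 with h | h
          · exact edgesRangeI_spec iota E 3 463 35319 edges_3_22 v (by omega) (by omega)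
          · exact edgesRangeI_spec iota E 3 38 35782 edges_3_23 v (by omega) (by omega)

theorem hA0 : ∀ v, v < 35820 → aliasOK E v = true := by
  intro v hv
  rcases Nat.lt_or_ge v 19278 with h | h
  · rcases Nat.lt_or_ge v 8792 with h | h
    · rcases Nat.lt_or_ge v 4229 with h | h
      · rcases Nat.lt_or_ge v 2186 with h | h
        · exact aliasRange_spec E 2186 0 aliases_0 v (by omega) (by omega)
        · exact aliasRange_spec E 2043 2186 aliases_1 v (by omega) (by omega)
      · rcases Nat.lt_or_ge v 6553 with h | h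
        · exact aliasRange_spec E 2324 4229 aliases_2 v (by omega) (by omega)
        · exact aliasRange_spec E 2239 6553 aliases_3 v (by omega) (by omega)
    · rcases Nat.lt_or_ge v 13103 with h | h
      · rcases Nat.lt_or_ge v 10977 with h | h
        · exact aliasRange_spec E 2185 8792 aliases_4 v (by omega) (by omega)
        · exact aliasRange_spec E 2126 10977 aliases_5 v (by omega) (by omega)
      · rcases Nat.lt_or_ge v 15209 with h | h
        · exact aliasRange_spec E 2106 13103 aliases_6 v (by omega) (by omega)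
        · rcases Nat.lt_or_ge v 17309 with h | h
          · exact aliasRange_spec E 2100 15209 aliases_7 v (by omega) (by omega)
          · exact aliasRange_spec E 1969 17309 aliases_8 v (by omega) (by omega)
  · rcases Nat.lt_or_ge v 27198 with h | h
    · rcases Nat.lt_or_ge v 23376 with h | h
      · rcases Nat.lt_or_ge v 21218 with h | h
        · exact aliasRange_spec E 1940 19278 aliases_9 v (by omega) (by omega)
        · exact aliasRange_spec E 2158 21218 aliases_10 v (by omega) (by omega)
      · rcases Nat.lt_or_ge v 25301 with h | h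
        · exact aliasRange_spec E 1925 23376 aliases_11 v (by omega) (by omega)
        · exact aliasRange_spec E 1897 25301 aliases_12 v (by omega) (by omega)
    · rcases Nat.lt_or_ge v 30985 with h | h
      · rcases Nat.lt_or_ge v 29122 with h | h
        · exact aliasRange_spec E 1924 27198 aliases_13 v (by omega) (by omega)
        · exact aliasRange_spec E 1863 29122 aliases_14 v (by omega) (by omega)
      · rcases Nat.lt_or_ge v 32607 with h | h
        · exact aliasRange_spec E 1622 30985 aliases_15 v (by omega) (by omega)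
        · rcases Nat.lt_or_ge v 35788 with h | h
          · exact aliasRange_spec E 3181 32607 aliases_16 v (by omega) (by omega)
          · exact aliasRange_spec E 32 35788 aliases_17 v (by omega) (by omega)

theorem hrows0 : ∀ v, v < 35820 → tb RS v = true → rowOK2 E RS v E.D.k = true := by
  intro v hv
  rcases Nat.lt_or_ge v 18000 with h | h
  · rcases Nat.lt_or_ge v 9000 with h | h
    · rcases Nat.lt_or_ge v 4500 with h | h
      · rcases Nat.lt_or_ge v 1500 with h | h
        · exact rowsRange_spec E RS 1500 0 rows_0 v (by omega) (by omega)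
        · rcases Nat.lt_or_ge v 3000 with h | h
          · exact rowsRange_spec E RS 1500 1500 rows_1 v (by omega) (by omega)
          · exact rowsRange_spec E RS 1500 3000 rows_2 v (by omega) (by omega)
      · rcases Nat.lt_or_ge v 6000 with h | h
        · exact rowsRange_spec E RS 1500 4500 rows_3 v (by omega) (by omega)
        · rcases Nat.lt_or_ge v 7500 with h | h
          · exact rowsRange_spec E RS 1500 6000 rows_4 v (by omega) (by omega)
          · exact rowsRange_spec E RS 1500 7500 rows_5 v (by omega) (by omega)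
    · rcases Nat.lt_or_ge v 13500 with h | h
      · rcases Nat.lt_or_ge v 10500 with h | h
        · exact rowsRange_spec E RS 1500 9000 rows_6 v (by omega) (by omega)
        · rcases Nat.lt_or_ge v 12000 with h | h
          · exact rowsRange_spec E RS 1500 10500 rows_7 v (by omega) (by omega)
          · exact rowsRange_spec E RS 1500 12000 rows_8 v (by omega) (by omega)
      · rcases Nat.lt_or_ge v 15000 with h | h
        · exact rowsRange_spec E RS 1500 13500 rows_9 v (by omega) (by omega)
        · rcases Nat.lt_or_ge v 16500 with h | h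
          · exact rowsRange_spec E RS 1500 15000 rows_10 v (by omega) (by omega)
          · exact rowsRange_spec E RS 1500 16500 rows_11 v (by omega) (by omega)
  · rcases Nat.lt_or_ge v 27000 with h | h
    · rcases Nat.lt_or_ge v 22500 with h | h
      · rcases Nat.lt_or_ge v 19500 with h | h
        · exact rowsRange_spec E RS 1500 18000 rows_12 v (by omega) (by omega)
        · rcases Nat.lt_or_ge v 21000 with h | h
          · exact rowsRange_spec E RS 1500 19500 rows_13 v (by omega) (by omega)
          · exact rowsRange_spec E RS 1500 21000 rows_14 v (by omega) (by omega)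
      · rcases Nat.lt_or_ge v 24000 with h | h
        · exact rowsRange_spec E RS 1500 22500 rows_15 v (by omega) (by omega)
        · rcases Nat.lt_or_ge v 25500 with h | h
          · exact rowsRange_spec E RS 1500 24000 rows_16 v (by omega) (by omega)
          · exact rowsRange_spec E RS 1500 25500 rows_17 v (by omega) (by omega)
    · rcases Nat.lt_or_ge v 31500 with h | h
      · rcases Nat.lt_or_ge v 28500 with h | h
        · exact rowsRange_spec E RS 1500 27000 rows_18 v (by omega) (by omega)
        · rcases Nat.lt_or_ge v 30000 with h | h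
          · exact rowsRange_spec E RS 1500 28500 rows_19 v (by omega) (by omega)
          · exact rowsRange_spec E RS 1500 30000 rows_20 v (by omega) (by omega)
      · rcases Nat.lt_or_ge v 33000 with h | h
        · exact rowsRange_spec E RS 1500 31500 rows_21 v (by omega) (by omega)
        · rcases Nat.lt_or_ge v 34500 with h | h
          · exact rowsRange_spec E RS 1500 33000 rows_22 v (by omega) (by omega)
          · exact rowsRange_spec E RS 1320 34500 rows_23 v (by omega) (by omega)

theorem cb_0 : cntBits RS 0 = 0 := rfl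

theorem cb_1 : cntBits RS 20000 = 4309 := by
  have h := cntBits_step RS 0 20000
  rw [cb_0, cnt_0] at h
  exact h

theorem cb_2 : cntBits RS 35820 = 8640 := by
  have h := cntBits_step RS 20000 15820
  rw [cb_1, cnt_1] at h
  exact h

theorem set_ok : setOK 35820 8640 RS = true :=
  setOK_of_parts cb_2 set_zero set_lt

theorem relf_0 : ∀ v, v < 8640 → W_0 v = v := by
  intro v hv
  exact fixPtsF_spec W_0 8640 0 relc_0_0 v (by omega) (by omega)

set_option maxRecDepth 1000000 in
theorem walk_0 : ∀ v, walkT ctF (D.wlen 0) (D.wordP 0) v = W_0 v := by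
  intro v
  simp only [W_0, forceL_eq]
  rfl

theorem relw_0 : ∀ v, v < 8640 → walkT ctF (D.wlen 0) (D.wordP 0) v = v := by
  intro v hv
  rw [walk_0]
  exact relf_0 v hv

theorem relf_1 : ∀ v, v < 8640 → W_1 v = v := by
  intro v hv
  exact fixPtsF_spec W_1 8640 0 relc_1_0 v (by omega) (by omega)

set_option maxRecDepth 1000000 in
theorem walk_1 : ∀ v, walkT ctF (D.wlen 1) (D.wordP 1) v = W_1 v := by
  intro v
  simp only [W_1, forceL_eq]
  rfl

theorem relw_1 : ∀ v, v < 8640 → walkT ctF (D.wlen 1) (D.wordP 1) v = v := by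
  intro v hv
  rw [walk_1]
  exact relf_1 v hv

theorem relf_2 : ∀ v, v < 8640 → W_2 v = v := by
  intro v hv
  exact fixPtsF_spec W_2 8640 0 relc_2_0 v (by omega) (by omega)

set_option maxRecDepth 1000000 in
theorem walk_2 : ∀ v, walkT ctF (D.wlen 2) (D.wordP 2) v = W_2 v := by
  intro v
  simp only [W_2, forceL_eq]
  rfl

theorem relw_2 : ∀ v, v < 8640 → walkT ctF (D.wlen 2) (D.wordP 2) v = v := by
  intro v hv
  rw [walk_2]
  exact relf_2 v hv

theorem relf_3 : ∀ v, v < 8640 → W_3 v = v := by
  intro v hv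
  exact fixPtsF_spec W_3 8640 0 relc_3_0 v (by omega) (by omega)

set_option maxRecDepth 1000000 in
theorem walk_3 : ∀ v, walkT ctF (D.wlen 3) (D.wordP 3) v = W_3 v := by
  intro v
  simp only [W_3, forceL_eq]
  rfl

theorem relw_3 : ∀ v, v < 8640 → walkT ctF (D.wlen 3) (D.wordP 3) v = v := by
  intro v hv
  rw [walk_3]
  exact relf_3 v hv

theorem relf_4 : ∀ v, v < 8640 → W_4 v = v := by
  intro v hv
  exact fixPtsF_spec W_4 8640 0 relc_4_0 v (by omega) (by omega)

set_option maxRecDepth 1000000 in
theorem walk_4 : ∀ v, walkT ctF (D.wlen 4) (D.wordP 4) v = W_4 v := by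
  intro v
  simp only [W_4, forceL_eq]
  rfl

theorem relw_4 : ∀ v, v < 8640 → walkT ctF (D.wlen 4) (D.wordP 4) v = v := by
  intro v hv
  rw [walk_4]
  exact relf_4 v hv

theorem relf_5 : ∀ v, v < 8640 → W_5 v = v := by
  intro v hv
  exact fixPtsF_spec W_5 8640 0 relc_5_0 v (by omega) (by omega)

set_option maxRecDepth 1000000 in
theorem walk_5 : ∀ v, walkT ctF (D.wlen 5) (D.wordP 5) v = W_5 v := by
  intro v
  simp only [W_5, forceL_eq]
  rfl

theorem relw_5 : ∀ v, v < 8640 → walkT ctF (D.wlen 5) (D.wordP 5) v = v := by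
  intro v hv
  rw [walk_5]
  exact relf_5 v hv

theorem relf_6 : ∀ v, v < 8640 → W_6 v = v := by
  intro v hv
  rcases Nat.lt_or_ge v 8333 with h | h
  · exact fixPtsF_spec W_6 8333 0 relc_6_0 v (by omega) (by omega)
  · exact fixPtsF_spec W_6 307 8333 relc_6_1 v (by omega) (by omega)

set_option maxRecDepth 1000000 in
theorem walk_6 : ∀ v, walkT ctF (D.wlen 6) (D.wordP 6) v = W_6 v := by
  intro v
  simp only [W_6, forceL_eq]
  rfl

theorem relw_6 : ∀ v, v < 8640 → walkT ctF (D.wlen 6) (D.wordP 6) v = v := by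
  intro v hv
  rw [walk_6]
  exact relf_6 v hv

theorem relf_7 : ∀ v, v < 8640 → W_7 v = v := by
  intro v hv
  rcases Nat.lt_or_ge v 8333 with h | h
  · exact fixPtsF_spec W_7 8333 0 relc_7_0 v (by omega) (by omega)
  · exact fixPtsF_spec W_7 307 8333 relc_7_1 v (by omega) (by omega)

set_option maxRecDepth 1000000 in
theorem walk_7 : ∀ v, walkT ctF (D.wlen 7) (D.wordP 7) v = W_7 v := by
  intro v
  simp only [W_7, forceL_eq]
  rfl

theorem relw_7 : ∀ v, v < 8640 → walkT ctF (D.wlen 7) (D.wordP 7) v = v := by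
  intro v hv
  rw [walk_7]
  exact relf_7 v hv

theorem relf_8 : ∀ v, v < 8640 → W_8 v = v := by
  intro v hv
  rcases Nat.lt_or_ge v 8333 with h | h
  · exact fixPtsF_spec W_8 8333 0 relc_8_0 v (by omega) (by omega)
  · exact fixPtsF_spec W_8 307 8333 relc_8_1 v (by omega) (by omega)

set_option maxRecDepth 1000000 in
theorem walk_8 : ∀ v, walkT ctF (D.wlen 8) (D.wordP 8) v = W_8 v := by
  intro v
  simp only [W_8, forceL_eq]
  rfl

theorem relw_8 : ∀ v, v < 8640 → walkT ctF (D.wlen 8) (D.wordP 8) v = v := by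
  intro v hv
  rw [walk_8]
  exact relf_8 v hv

theorem relf_9 : ∀ v, v < 8640 → W_9 v = v := by
  intro v hv
  rcases Nat.lt_or_ge v 8333 with h | h
  · exact fixPtsF_spec W_9 8333 0 relc_9_0 v (by omega) (by omega)
  · exact fixPtsF_spec W_9 307 8333 relc_9_1 v (by omega) (by omega)

set_option maxRecDepth 1000000 in
theorem walk_9 : ∀ v, walkT ctF (D.wlen 9) (D.wordP 9) v = W_9 v := by
  intro v
  simp only [W_9, forceL_eq]
  rfl

theorem relw_9 : ∀ v, v < 8640 → walkT ctF (D.wlen 9) (D.wordP 9) v = v := by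
  intro v hv
  rw [walk_9]
  exact relf_9 v hv

theorem relf_10 : ∀ v, v < 8640 → W_10 v = v := by
  intro v hv
  rcases Nat.lt_or_ge v 7692 with h | h
  · exact fixPtsF_spec W_10 7692 0 relc_10_0 v (by omega) (by omega)
  · exact fixPtsF_spec W_10 948 7692 relc_10_1 v (by omega) (by omega)

set_option maxRecDepth 1000000 in
theorem walk_10 : ∀ v, walkT ctF (D.wlen 10) (D.wordP 10) v = W_10 v := by
  intro v
  simp only [W_10, forceL_eq]
  rfl

theorem relw_10 : ∀ v, v < 8640 → walkT ctF (D.wlen 10) (D.wordP 10) v = v := by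
  intro v hv
  rw [walk_10]
  exact relf_10 v hv

theorem relf_11 : ∀ v, v < 8640 → W_11 v = v := by
  intro v hv
  rcases Nat.lt_or_ge v 7692 with h | h
  · exact fixPtsF_spec W_11 7692 0 relc_11_0 v (by omega) (by omega)
  · exact fixPtsF_spec W_11 948 7692 relc_11_1 v (by omega) (by omega)

set_option maxRecDepth 1000000 in
theorem walk_11 : ∀ v, walkT ctF (D.wlen 11) (D.wordP 11) v = W_11 v := by
  intro v
  simp only [W_11, forceL_eq]
  rfl

theorem relw_11 : ∀ v, v < 8640 → walkT ctF (D.wlen 11) (D.wordP 11) v = v := by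
  intro v hv
  rw [walk_11]
  exact relf_11 v hv

theorem relf_12 : ∀ v, v < 8640 → W_12 v = v := by
  intro v hv
  rcases Nat.lt_or_ge v 7692 with h | h
  · exact fixPtsF_spec W_12 7692 0 relc_12_0 v (by omega) (by omega)
  · exact fixPtsF_spec W_12 948 7692 relc_12_1 v (by omega) (by omega)

set_option maxRecDepth 1000000 in
theorem walk_12 : ∀ v, walkT ctF (D.wlen 12) (D.wordP 12) v = W_12 v := by
  intro v
  simp only [W_12, forceL_eq]
  rfl

theorem relw_12 : ∀ v, v < 8640 → walkT ctF (D.wlen 12) (D.wordP 12) v = v := by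
  intro v hv
  rw [walk_12]
  exact relf_12 v hv

theorem relf_13 : ∀ v, v < 8640 → W_13 v = v := by
  intro v hv
  rcases Nat.lt_or_ge v 7692 with h | h
  · exact fixPtsF_spec W_13 7692 0 relc_13_0 v (by omega) (by omega)
  · exact fixPtsF_spec W_13 948 7692 relc_13_1 v (by omega) (by omega)

set_option maxRecDepth 1000000 in
theorem walk_13 : ∀ v, walkT ctF (D.wlen 13) (D.wordP 13) v = W_13 v := by
  intro v
  simp only [W_13, forceL_eq]
  rfl

theorem relw_13 : ∀ v, v < 8640 → walkT ctF (D.wlen 13) (D.wordP 13) v = v := by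
  intro v hv
  rw [walk_13]
  exact relf_13 v hv

theorem relf_14 : ∀ v, v < 8640 → W_14 v = v := by
  intro v hv
  rcases Nat.lt_or_ge v 7142 with h | h
  · exact fixPtsF_spec W_14 7142 0 relc_14_0 v (by omega) (by omega)
  · exact fixPtsF_spec W_14 1498 7142 relc_14_1 v (by omega) (by omega)

set_option maxRecDepth 1000000 in
theorem walk_14 : ∀ v, walkT ctF (D.wlen 14) (D.wordP 14) v = W_14 v := by
  intro v
  simp only [W_14, forceL_eq]
  rfl

theorem relw_14 : ∀ v, v < 8640 → walkT ctF (D.wlen 14) (D.wordP 14) v = v := by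
  intro v hv
  rw [walk_14]
  exact relf_14 v hv

theorem relf_15 : ∀ v, v < 8640 → W_15 v = v := by
  intro v hv
  rcases Nat.lt_or_ge v 7142 with h | h
  · exact fixPtsF_spec W_15 7142 0 relc_15_0 v (by omega) (by omega)
  · exact fixPtsF_spec W_15 1498 7142 relc_15_1 v (by omega) (by omega)

set_option maxRecDepth 1000000 in
theorem walk_15 : ∀ v, walkT ctF (D.wlen 15) (D.wordP 15) v = W_15 v := by
  intro v
  simp only [W_15, forceL_eq]
  rfl

theorem relw_15 : ∀ v, v < 8640 → walkT ctF (D.wlen 15) (D.wordP 15) v = v := by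
  intro v hv
  rw [walk_15]
  exact relf_15 v hv

theorem relf_16 : ∀ v, v < 8640 → W_16 v = v := by
  intro v hv
  rcases Nat.lt_or_ge v 7142 with h | h
  · exact fixPtsF_spec W_16 7142 0 relc_16_0 v (by omega) (by omega)
  · exact fixPtsF_spec W_16 1498 7142 relc_16_1 v (by omega) (by omega)

set_option maxRecDepth 1000000 in
theorem walk_16 : ∀ v, walkT ctF (D.wlen 16) (D.wordP 16) v = W_16 v := by
  intro v
  simp only [W_16, forceL_eq]
  rfl

theorem relw_16 : ∀ v, v < 8640 → walkT ctF (D.wlen 16) (D.wordP 16) v = v := by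
  intro v hv
  rw [walk_16]
  exact relf_16 v hv

theorem relf_17 : ∀ v, v < 8640 → W_17 v = v := by
  intro v hv
  rcases Nat.lt_or_ge v 7142 with h | h
  · exact fixPtsF_spec W_17 7142 0 relc_17_0 v (by omega) (by omega)
  · exact fixPtsF_spec W_17 1498 7142 relc_17_1 v (by omega) (by omega)

set_option maxRecDepth 1000000 in
theorem walk_17 : ∀ v, walkT ctF (D.wlen 17) (D.wordP 17) v = W_17 v := by
  intro v
  simp only [W_17, forceL_eq]
  rfl

theorem relw_17 : ∀ v, v < 8640 → walkT ctF (D.wlen 17) (D.wordP 17) v = v := by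
  intro v hv
  rw [walk_17]
  exact relf_17 v hv

theorem relf_18 : ∀ v, v < 8640 → W_18 v = v := by
  intro v hv
  rcases Nat.lt_or_ge v 6666 with h | h
  · exact fixPtsF_spec W_18 6666 0 relc_18_0 v (by omega) (by omega)
  · exact fixPtsF_spec W_18 1974 6666 relc_18_1 v (by omega) (by omega)

set_option maxRecDepth 1000000 in
theorem walk_18 : ∀ v, walkT ctF (D.wlen 18) (D.wordP 18) v = W_18 v := by
  intro v
  simp only [W_18, forceL_eq]
  rfl

theorem relw_18 : ∀ v, v < 8640 → walkT ctF (D.wlen 18) (D.wordP 18) v = v := by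
  intro v hv
  rw [walk_18]
  exact relf_18 v hv

theorem relf_19 : ∀ v, v < 8640 → W_19 v = v := by
  intro v hv
  rcases Nat.lt_or_ge v 6666 with h | h
  · exact fixPtsF_spec W_19 6666 0 relc_19_0 v (by omega) (by omega)
  · exact fixPtsF_spec W_19 1974 6666 relc_19_1 v (by omega) (by omega)

set_option maxRecDepth 1000000 in
theorem walk_19 : ∀ v, walkT ctF (D.wlen 19) (D.wordP 19) v = W_19 v := by
  intro v
  simp only [W_19, forceL_eq]
  rfl

theorem relw_19 : ∀ v, v < 8640 → walkT ctF (D.wlen 19) (D.wordP 19) v = v := by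
  intro v hv
  rw [walk_19]
  exact relf_19 v hv

theorem relf_20 : ∀ v, v < 8640 → W_20 v = v := by
  intro v hv
  rcases Nat.lt_or_ge v 6666 with h | h
  · exact fixPtsF_spec W_20 6666 0 relc_20_0 v (by omega) (by omega)
  · exact fixPtsF_spec W_20 1974 6666 relc_20_1 v (by omega) (by omega)

set_option maxRecDepth 1000000 in
theorem walk_20 : ∀ v, walkT ctF (D.wlen 20) (D.wordP 20) v = W_20 v := by
  intro v
  simp only [W_20, forceL_eq]
  rfl

theorem relw_20 : ∀ v, v < 8640 → walkT ctF (D.wlen 20) (D.wordP 20) v = v := by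
  intro v hv
  rw [walk_20]
  exact relf_20 v hv

theorem relf_21 : ∀ v, v < 8640 → W_21 v = v := by
  intro v hv
  rcases Nat.lt_or_ge v 6666 with h | h
  · exact fixPtsF_spec W_21 6666 0 relc_21_0 v (by omega) (by omega)
  · exact fixPtsF_spec W_21 1974 6666 relc_21_1 v (by omega) (by omega)

set_option maxRecDepth 1000000 in
theorem walk_21 : ∀ v, walkT ctF (D.wlen 21) (D.wordP 21) v = W_21 v := by
  intro v
  simp only [W_21, forceL_eq]
  rfl

theorem relw_21 : ∀ v, v < 8640 → walkT ctF (D.wlen 21) (D.wordP 21) v = v := by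
  intro v hv
  rw [walk_21]
  exact relf_21 v hv

theorem relf_22 : ∀ v, v < 8640 → W_22 v = v := by
  intro v hv
  rcases Nat.lt_or_ge v 6666 with h | h
  · exact fixPtsF_spec W_22 6666 0 relc_22_0 v (by omega) (by omega)
  · exact fixPtsF_spec W_22 1974 6666 relc_22_1 v (by omega) (by omega)

set_option maxRecDepth 1000000 in
theorem walk_22 : ∀ v, walkT ctF (D.wlen 22) (D.wordP 22) v = W_22 v := by
  intro v
  simp only [W_22, forceL_eq]
  rfl

theorem relw_22 : ∀ v, v < 8640 → walkT ctF (D.wlen 22) (D.wordP 22) v = v := by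
  intro v hv
  rw [walk_22]
  exact relf_22 v hv

theorem relf_23 : ∀ v, v < 8640 → W_23 v = v := by
  intro v hv
  rcases Nat.lt_or_ge v 6666 with h | h
  · exact fixPtsF_spec W_23 6666 0 relc_23_0 v (by omega) (by omega)
  · exact fixPtsF_spec W_23 1974 6666 relc_23_1 v (by omega) (by omega)

set_option maxRecDepth 1000000 in
theorem walk_23 : ∀ v, walkT ctF (D.wlen 23) (D.wordP 23) v = W_23 v := by
  intro v
  simp only [W_23, forceL_eq]
  rfl

theorem relw_23 : ∀ v, v < 8640 → walkT ctF (D.wlen 23) (D.wordP 23) v = v := by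
  intro v hv
  rw [walk_23]
  exact relf_23 v hv

theorem relf_24 : ∀ v, v < 8640 → W_24 v = v := by
  intro v hv
  rcases Nat.lt_or_ge v 6666 with h | h
  · exact fixPtsF_spec W_24 6666 0 relc_24_0 v (by omega) (by omega)
  · exact fixPtsF_spec W_24 1974 6666 relc_24_1 v (by omega) (by omega)

set_option maxRecDepth 1000000 in
theorem walk_24 : ∀ v, walkT ctF (D.wlen 24) (D.wordP 24) v = W_24 v := by
  intro v
  simp only [W_24, forceL_eq]
  rfl

theorem relw_24 : ∀ v, v < 8640 → walkT ctF (D.wlen 24) (D.wordP 24) v = v := by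
  intro v hv
  rw [walk_24]
  exact relf_24 v hv

theorem relf_25 : ∀ v, v < 8640 → W_25 v = v := by
  intro v hv
  rcases Nat.lt_or_ge v 6666 with h | h
  · exact fixPtsF_spec W_25 6666 0 relc_25_0 v (by omega) (by omega)
  · exact fixPtsF_spec W_25 1974 6666 relc_25_1 v (by omega) (by omega)

set_option maxRecDepth 1000000 in
theorem walk_25 : ∀ v, walkT ctF (D.wlen 25) (D.wordP 25) v = W_25 v := by
  intro v
  simp only [W_25, forceL_eq]
  rfl

theorem relw_25 : ∀ v, v < 8640 → walkT ctF (D.wlen 25) (D.wordP 25) v = v := by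
  intro v hv
  rw [walk_25]
  exact relf_25 v hv

theorem relf_26 : ∀ v, v < 8640 → W_26 v = v := by
  intro v hv
  rcases Nat.lt_or_ge v 6250 with h | h
  · exact fixPtsF_spec W_26 6250 0 relc_26_0 v (by omega) (by omega)
  · exact fixPtsF_spec W_26 2390 6250 relc_26_1 v (by omega) (by omega)

set_option maxRecDepth 1000000 in
theorem walk_26 : ∀ v, walkT ctF (D.wlen 26) (D.wordP 26) v = W_26 v := by
  intro v
  simp only [W_26, forceL_eq]
  rfl

theorem relw_26 : ∀ v, v < 8640 → walkT ctF (D.wlen 26) (D.wordP 26) v = v := by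
  intro v hv
  rw [walk_26]
  exact relf_26 v hv

theorem relf_27 : ∀ v, v < 8640 → W_27 v = v := by
  intro v hv
  rcases Nat.lt_or_ge v 6250 with h | h
  · exact fixPtsF_spec W_27 6250 0 relc_27_0 v (by omega) (by omega)
  · exact fixPtsF_spec W_27 2390 6250 relc_27_1 v (by omega) (by omega)

set_option maxRecDepth 1000000 in
theorem walk_27 : ∀ v, walkT ctF (D.wlen 27) (D.wordP 27) v = W_27 v := by
  intro v
  simp only [W_27, forceL_eq]
  rfl

theorem relw_27 : ∀ v, v < 8640 → walkT ctF (D.wlen 27) (D.wordP 27) v = v := by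
  intro v hv
  rw [walk_27]
  exact relf_27 v hv

theorem relf_28 : ∀ v, v < 8640 → W_28 v = v := by
  intro v hv
  rcases Nat.lt_or_ge v 6250 with h | h
  · exact fixPtsF_spec W_28 6250 0 relc_28_0 v (by omega) (by omega)
  · exact fixPtsF_spec W_28 2390 6250 relc_28_1 v (by omega) (by omega)

set_option maxRecDepth 1000000 in
theorem walk_28 : ∀ v, walkT ctF (D.wlen 28) (D.wordP 28) v = W_28 v := by
  intro v
  simp only [W_28, forceL_eq]
  rfl

theorem relw_28 : ∀ v, v < 8640 → walkT ctF (D.wlen 28) (D.wordP 28) v = v := by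
  intro v hv
  rw [walk_28]
  exact relf_28 v hv

theorem relf_29 : ∀ v, v < 8640 → W_29 v = v := by
  intro v hv
  rcases Nat.lt_or_ge v 6250 with h | h
  · exact fixPtsF_spec W_29 6250 0 relc_29_0 v (by omega) (by omega)
  · exact fixPtsF_spec W_29 2390 6250 relc_29_1 v (by omega) (by omega)

set_option maxRecDepth 1000000 in
theorem walk_29 : ∀ v, walkT ctF (D.wlen 29) (D.wordP 29) v = W_29 v := by
  intro v
  simp only [W_29, forceL_eq]
  rfl

theorem relw_29 : ∀ v, v < 8640 → walkT ctF (D.wlen 29) (D.wordP 29) v = v := by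
  intro v hv
  rw [walk_29]
  exact relf_29 v hv

theorem relf_30 : ∀ v, v < 8640 → W_30 v = v := by
  intro v hv
  rcases Nat.lt_or_ge v 6250 with h | h
  · exact fixPtsF_spec W_30 6250 0 relc_30_0 v (by omega) (by omega)
  · exact fixPtsF_spec W_30 2390 6250 relc_30_1 v (by omega) (by omega)

set_option maxRecDepth 1000000 in
theorem walk_30 : ∀ v, walkT ctF (D.wlen 30) (D.wordP 30) v = W_30 v := by
  intro v
  simp only [W_30, forceL_eq]
  rfl

theorem relw_30 : ∀ v, v < 8640 → walkT ctF (D.wlen 30) (D.wordP 30) v = v := by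
  intro v hv
  rw [walk_30]
  exact relf_30 v hv

theorem relf_31 : ∀ v, v < 8640 → W_31 v = v := by
  intro v hv
  rcases Nat.lt_or_ge v 6250 with h | h
  · exact fixPtsF_spec W_31 6250 0 relc_31_0 v (by omega) (by omega)
  · exact fixPtsF_spec W_31 2390 6250 relc_31_1 v (by omega) (by omega)

set_option maxRecDepth 1000000 in
theorem walk_31 : ∀ v, walkT ctF (D.wlen 31) (D.wordP 31) v = W_31 v := by
  intro v
  simp only [W_31, forceL_eq]
  rfl

theorem relw_31 : ∀ v, v < 8640 → walkT ctF (D.wlen 31) (D.wordP 31) v = v := by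
  intro v hv
  rw [walk_31]
  exact relf_31 v hv

theorem relf_32 : ∀ v, v < 8640 → W_32 v = v := by
  intro v hv
  rcases Nat.lt_or_ge v 6250 with h | h
  · exact fixPtsF_spec W_32 6250 0 relc_32_0 v (by omega) (by omega)
  · exact fixPtsF_spec W_32 2390 6250 relc_32_1 v (by omega) (by omega)

set_option maxRecDepth 1000000 in
theorem walk_32 : ∀ v, walkT ctF (D.wlen 32) (D.wordP 32) v = W_32 v := by
  intro v
  simp only [W_32, forceL_eq]
  rfl

theorem relw_32 : ∀ v, v < 8640 → walkT ctF (D.wlen 32) (D.wordP 32) v = v := by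
  intro v hv
  rw [walk_32]
  exact relf_32 v hv

theorem relf_33 : ∀ v, v < 8640 → W_33 v = v := by
  intro v hv
  rcases Nat.lt_or_ge v 6250 with h | h
  · exact fixPtsF_spec W_33 6250 0 relc_33_0 v (by omega) (by omega)
  · exact fixPtsF_spec W_33 2390 6250 relc_33_1 v (by omega) (by omega)

set_option maxRecDepth 1000000 in
theorem walk_33 : ∀ v, walkT ctF (D.wlen 33) (D.wordP 33) v = W_33 v := by
  intro v
  simp only [W_33, forceL_eq]
  rfl

theorem relw_33 : ∀ v, v < 8640 → walkT ctF (D.wlen 33) (D.wordP 33) v = v := by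
  intro v hv
  rw [walk_33]
  exact relf_33 v hv

theorem relf_34 : ∀ v, v < 8640 → W_34 v = v := by
  intro v hv
  rcases Nat.lt_or_ge v 6250 with h | h
  · exact fixPtsF_spec W_34 6250 0 relc_34_0 v (by omega) (by omega)
  · exact fixPtsF_spec W_34 2390 6250 relc_34_1 v (by omega) (by omega)

set_option maxRecDepth 1000000 in
theorem walk_34 : ∀ v, walkT ctF (D.wlen 34) (D.wordP 34) v = W_34 v := by
  intro v
  simp only [W_34, forceL_eq]
  rfl

theorem relw_34 : ∀ v, v < 8640 → walkT ctF (D.wlen 34) (D.wordP 34) v = v := by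
  intro v hv
  rw [walk_34]
  exact relf_34 v hv

theorem relf_35 : ∀ v, v < 8640 → W_35 v = v := by
  intro v hv
  rcases Nat.lt_or_ge v 6250 with h | h
  · exact fixPtsF_spec W_35 6250 0 relc_35_0 v (by omega) (by omega)
  · exact fixPtsF_spec W_35 2390 6250 relc_35_1 v (by omega) (by omega)

set_option maxRecDepth 1000000 in
theorem walk_35 : ∀ v, walkT ctF (D.wlen 35) (D.wordP 35) v = W_35 v := by
  intro v
  simp only [W_35, forceL_eq]
  rfl

theorem relw_35 : ∀ v, v < 8640 → walkT ctF (D.wlen 35) (D.wordP 35) v = v := by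
  intro v hv
  rw [walk_35]
  exact relf_35 v hv

theorem relf_36 : ∀ v, v < 8640 → W_36 v = v := by
  intro v hv
  rcases Nat.lt_or_ge v 6250 with h | h
  · exact fixPtsF_spec W_36 6250 0 relc_36_0 v (by omega) (by omega)
  · exact fixPtsF_spec W_36 2390 6250 relc_36_1 v (by omega) (by omega)

set_option maxRecDepth 1000000 in
theorem walk_36 : ∀ v, walkT ctF (D.wlen 36) (D.wordP 36) v = W_36 v := by
  intro v
  simp only [W_36, forceL_eq]
  rfl

theorem relw_36 : ∀ v, v < 8640 → walkT ctF (D.wlen 36) (D.wordP 36) v = v := by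
  intro v hv
  rw [walk_36]
  exact relf_36 v hv

theorem relf_37 : ∀ v, v < 8640 → W_37 v = v := by
  intro v hv
  rcases Nat.lt_or_ge v 6250 with h | h
  · exact fixPtsF_spec W_37 6250 0 relc_37_0 v (by omega) (by omega)
  · exact fixPtsF_spec W_37 2390 6250 relc_37_1 v (by omega) (by omega)

set_option maxRecDepth 1000000 in
theorem walk_37 : ∀ v, walkT ctF (D.wlen 37) (D.wordP 37) v = W_37 v := by
  intro v
  simp only [W_37, forceL_eq]
  rfl

theorem relw_37 : ∀ v, v < 8640 → walkT ctF (D.wlen 37) (D.wordP 37) v = v := by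
  intro v hv
  rw [walk_37]
  exact relf_37 v hv

theorem relf_38 : ∀ v, v < 8640 → W_38 v = v := by
  intro v hv
  rcases Nat.lt_or_ge v 5882 with h | h
  · exact fixPtsF_spec W_38 5882 0 relc_38_0 v (by omega) (by omega)
  · exact fixPtsF_spec W_38 2758 5882 relc_38_1 v (by omega) (by omega)

set_option maxRecDepth 1000000 in
theorem walk_38 : ∀ v, walkT ctF (D.wlen 38) (D.wordP 38) v = W_38 v := by
  intro v
  simp only [W_38, forceL_eq]
  rfl

theorem relw_38 : ∀ v, v < 8640 → walkT ctF (D.wlen 38) (D.wordP 38) v = v := by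
  intro v hv
  rw [walk_38]
  exact relf_38 v hv

theorem relf_39 : ∀ v, v < 8640 → W_39 v = v := by
  intro v hv
  rcases Nat.lt_or_ge v 5882 with h | h
  · exact fixPtsF_spec W_39 5882 0 relc_39_0 v (by omega) (by omega)
  · exact fixPtsF_spec W_39 2758 5882 relc_39_1 v (by omega) (by omega)

set_option maxRecDepth 1000000 in
theorem walk_39 : ∀ v, walkT ctF (D.wlen 39) (D.wordP 39) v = W_39 v := by
  intro v
  simp only [W_39, forceL_eq]
  rfl

theorem relw_39 : ∀ v, v < 8640 → walkT ctF (D.wlen 39) (D.wordP 39) v = v := by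
  intro v hv
  rw [walk_39]
  exact relf_39 v hv

theorem relf_40 : ∀ v, v < 8640 → W_40 v = v := by
  intro v hv
  rcases Nat.lt_or_ge v 5882 with h | h
  · exact fixPtsF_spec W_40 5882 0 relc_40_0 v (by omega) (by omega)
  · exact fixPtsF_spec W_40 2758 5882 relc_40_1 v (by omega) (by omega)

set_option maxRecDepth 1000000 in
theorem walk_40 : ∀ v, walkT ctF (D.wlen 40) (D.wordP 40) v = W_40 v := by
  intro v
  simp only [W_40, forceL_eq]
  rfl

theorem relw_40 : ∀ v, v < 8640 → walkT ctF (D.wlen 40) (D.wordP 40) v = v := by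
  intro v hv
  rw [walk_40]
  exact relf_40 v hv

theorem relf_41 : ∀ v, v < 8640 → W_41 v = v := by
  intro v hv
  rcases Nat.lt_or_ge v 5882 with h | h
  · exact fixPtsF_spec W_41 5882 0 relc_41_0 v (by omega) (by omega)
  · exact fixPtsF_spec W_41 2758 5882 relc_41_1 v (by omega) (by omega)

set_option maxRecDepth 1000000 in
theorem walk_41 : ∀ v, walkT ctF (D.wlen 41) (D.wordP 41) v = W_41 v := by
  intro v
  simp only [W_41, forceL_eq]
  rfl

theorem relw_41 : ∀ v, v < 8640 → walkT ctF (D.wlen 41) (D.wordP 41) v = v := by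
  intro v hv
  rw [walk_41]
  exact relf_41 v hv

theorem relf_42 : ∀ v, v < 8640 → W_42 v = v := by
  intro v hv
  rcases Nat.lt_or_ge v 5882 with h | h
  · exact fixPtsF_spec W_42 5882 0 relc_42_0 v (by omega) (by omega)
  · exact fixPtsF_spec W_42 2758 5882 relc_42_1 v (by omega) (by omega)

set_option maxRecDepth 1000000 in
theorem walk_42 : ∀ v, walkT ctF (D.wlen 42) (D.wordP 42) v = W_42 v := by
  intro v
  simp only [W_42, forceL_eq]
  rfl

theorem relw_42 : ∀ v, v < 8640 → walkT ctF (D.wlen 42) (D.wordP 42) v = v := by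
  intro v hv
  rw [walk_42]
  exact relf_42 v hv

theorem relf_43 : ∀ v, v < 8640 → W_43 v = v := by
  intro v hv
  rcases Nat.lt_or_ge v 5882 with h | h
  · exact fixPtsF_spec W_43 5882 0 relc_43_0 v (by omega) (by omega)
  · exact fixPtsF_spec W_43 2758 5882 relc_43_1 v (by omega) (by omega)

set_option maxRecDepth 1000000 in
theorem walk_43 : ∀ v, walkT ctF (D.wlen 43) (D.wordP 43) v = W_43 v := by
  intro v
  simp only [W_43, forceL_eq]
  rfl

theorem relw_43 : ∀ v, v < 8640 → walkT ctF (D.wlen 43) (D.wordP 43) v = v := by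
  intro v hv
  rw [walk_43]
  exact relf_43 v hv

theorem relf_44 : ∀ v, v < 8640 → W_44 v = v := by
  intro v hv
  rcases Nat.lt_or_ge v 5882 with h | h
  · exact fixPtsF_spec W_44 5882 0 relc_44_0 v (by omega) (by omega)
  · exact fixPtsF_spec W_44 2758 5882 relc_44_1 v (by omega) (by omega)

set_option maxRecDepth 1000000 in
theorem walk_44 : ∀ v, walkT ctF (D.wlen 44) (D.wordP 44) v = W_44 v := by
  intro v
  simp only [W_44, forceL_eq]
  rfl

theorem relw_44 : ∀ v, v < 8640 → walkT ctF (D.wlen 44) (D.wordP 44) v = v := by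
  intro v hv
  rw [walk_44]
  exact relf_44 v hv

theorem relf_45 : ∀ v, v < 8640 → W_45 v = v := by
  intro v hv
  rcases Nat.lt_or_ge v 5882 with h | h
  · exact fixPtsF_spec W_45 5882 0 relc_45_0 v (by omega) (by omega)
  · exact fixPtsF_spec W_45 2758 5882 relc_45_1 v (by omega) (by omega)

set_option maxRecDepth 1000000 in
theorem walk_45 : ∀ v, walkT ctF (D.wlen 45) (D.wordP 45) v = W_45 v := by
  intro v
  simp only [W_45, forceL_eq]
  rfl

theorem relw_45 : ∀ v, v < 8640 → walkT ctF (D.wlen 45) (D.wordP 45) v = v := by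
  intro v hv
  rw [walk_45]
  exact relf_45 v hv

theorem relf_46 : ∀ v, v < 8640 → W_46 v = v := by
  intro v hv
  rcases Nat.lt_or_ge v 5882 with h | h
  · exact fixPtsF_spec W_46 5882 0 relc_46_0 v (by omega) (by omega)
  · exact fixPtsF_spec W_46 2758 5882 relc_46_1 v (by omega) (by omega)

set_option maxRecDepth 1000000 in
theorem walk_46 : ∀ v, walkT ctF (D.wlen 46) (D.wordP 46) v = W_46 v := by
  intro v
  simp only [W_46, forceL_eq]
  rfl

theorem relw_46 : ∀ v, v < 8640 → walkT ctF (D.wlen 46) (D.wordP 46) v = v := by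
  intro v hv
  rw [walk_46]
  exact relf_46 v hv

theorem relf_47 : ∀ v, v < 8640 → W_47 v = v := by
  intro v hv
  rcases Nat.lt_or_ge v 5882 with h | h
  · exact fixPtsF_spec W_47 5882 0 relc_47_0 v (by omega) (by omega)
  · exact fixPtsF_spec W_47 2758 5882 relc_47_1 v (by omega) (by omega)

set_option maxRecDepth 1000000 in
theorem walk_47 : ∀ v, walkT ctF (D.wlen 47) (D.wordP 47) v = W_47 v := by
  intro v
  simp only [W_47, forceL_eq]
  rfl

theorem relw_47 : ∀ v, v < 8640 → walkT ctF (D.wlen 47) (D.wordP 47) v = v := by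
  intro v hv
  rw [walk_47]
  exact relf_47 v hv

theorem relf_48 : ∀ v, v < 8640 → W_48 v = v := by
  intro v hv
  rcases Nat.lt_or_ge v 5882 with h | h
  · exact fixPtsF_spec W_48 5882 0 relc_48_0 v (by omega) (by omega)
  · exact fixPtsF_spec W_48 2758 5882 relc_48_1 v (by omega) (by omega)

set_option maxRecDepth 1000000 in
theorem walk_48 : ∀ v, walkT ctF (D.wlen 48) (D.wordP 48) v = W_48 v := by
  intro v
  simp only [W_48, forceL_eq]
  rfl

theorem relw_48 : ∀ v, v < 8640 → walkT ctF (D.wlen 48) (D.wordP 48) v = v := by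
  intro v hv
  rw [walk_48]
  exact relf_48 v hv

theorem relf_49 : ∀ v, v < 8640 → W_49 v = v := by
  intro v hv
  rcases Nat.lt_or_ge v 5882 with h | h
  · exact fixPtsF_spec W_49 5882 0 relc_49_0 v (by omega) (by omega)
  · exact fixPtsF_spec W_49 2758 5882 relc_49_1 v (by omega) (by omega)

set_option maxRecDepth 1000000 in
theorem walk_49 : ∀ v, walkT ctF (D.wlen 49) (D.wordP 49) v = W_49 v := by
  intro v
  simp only [W_49, forceL_eq]
  rfl

theorem relw_49 : ∀ v, v < 8640 → walkT ctF (D.wlen 49) (D.wordP 49) v = v := by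
  intro v hv
  rw [walk_49]
  exact relf_49 v hv

theorem relf_50 : ∀ v, v < 8640 → W_50 v = v := by
  intro v hv
  rcases Nat.lt_or_ge v 5882 with h | h
  · exact fixPtsF_spec W_50 5882 0 relc_50_0 v (by omega) (by omega)
  · exact fixPtsF_spec W_50 2758 5882 relc_50_1 v (by omega) (by omega)

set_option maxRecDepth 1000000 in
theorem walk_50 : ∀ v, walkT ctF (D.wlen 50) (D.wordP 50) v = W_50 v := by
  intro v
  simp only [W_50, forceL_eq]
  rfl

theorem relw_50 : ∀ v, v < 8640 → walkT ctF (D.wlen 50) (D.wordP 50) v = v := by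
  intro v hv
  rw [walk_50]
  exact relf_50 v hv

theorem relf_51 : ∀ v, v < 8640 → W_51 v = v := by
  intro v hv
  rcases Nat.lt_or_ge v 5882 with h | h
  · exact fixPtsF_spec W_51 5882 0 relc_51_0 v (by omega) (by omega)
  · exact fixPtsF_spec W_51 2758 5882 relc_51_1 v (by omega) (by omega)

set_option maxRecDepth 1000000 in
theorem walk_51 : ∀ v, walkT ctF (D.wlen 51) (D.wordP 51) v = W_51 v := by
  intro v
  simp only [W_51, forceL_eq]
  rfl

theorem relw_51 : ∀ v, v < 8640 → walkT ctF (D.wlen 51) (D.wordP 51) v = v := by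
  intro v hv
  rw [walk_51]
  exact relf_51 v hv

theorem relf_52 : ∀ v, v < 8640 → W_52 v = v := by
  intro v hv
  rcases Nat.lt_or_ge v 5882 with h | h
  · exact fixPtsF_spec W_52 5882 0 relc_52_0 v (by omega) (by omega)
  · exact fixPtsF_spec W_52 2758 5882 relc_52_1 v (by omega) (by omega)

set_option maxRecDepth 1000000 in
theorem walk_52 : ∀ v, walkT ctF (D.wlen 52) (D.wordP 52) v = W_52 v := by
  intro v
  simp only [W_52, forceL_eq]
  rfl

theorem relw_52 : ∀ v, v < 8640 → walkT ctF (D.wlen 52) (D.wordP 52) v = v := by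
  intro v hv
  rw [walk_52]
  exact relf_52 v hv

theorem relf_53 : ∀ v, v < 8640 → W_53 v = v := by
  intro v hv
  rcases Nat.lt_or_ge v 5882 with h | h
  · exact fixPtsF_spec W_53 5882 0 relc_53_0 v (by omega) (by omega)
  · exact fixPtsF_spec W_53 2758 5882 relc_53_1 v (by omega) (by omega)

set_option maxRecDepth 1000000 in
theorem walk_53 : ∀ v, walkT ctF (D.wlen 53) (D.wordP 53) v = W_53 v := by
  intro v
  simp only [W_53, forceL_eq]
  rfl

theorem relw_53 : ∀ v, v < 8640 → walkT ctF (D.wlen 53) (D.wordP 53) v = v := by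
  intro v hv
  rw [walk_53]
  exact relf_53 v hv

theorem relf_54 : ∀ v, v < 8640 → W_54 v = v := by
  intro v hv
  rcases Nat.lt_or_ge v 5882 with h | h
  · exact fixPtsF_spec W_54 5882 0 relc_54_0 v (by omega) (by omega)
  · exact fixPtsF_spec W_54 2758 5882 relc_54_1 v (by omega) (by omega)

set_option maxRecDepth 1000000 in
theorem walk_54 : ∀ v, walkT ctF (D.wlen 54) (D.wordP 54) v = W_54 v := by
  intro v
  simp only [W_54, forceL_eq]
  rfl

theorem relw_54 : ∀ v, v < 8640 → walkT ctF (D.wlen 54) (D.wordP 54) v = v := by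
  intro v hv
  rw [walk_54]
  exact relf_54 v hv

theorem relf_55 : ∀ v, v < 8640 → W_55 v = v := by
  intro v hv
  rcases Nat.lt_or_ge v 5882 with h | h
  · exact fixPtsF_spec W_55 5882 0 relc_55_0 v (by omega) (by omega)
  · exact fixPtsF_spec W_55 2758 5882 relc_55_1 v (by omega) (by omega)

set_option maxRecDepth 1000000 in
theorem walk_55 : ∀ v, walkT ctF (D.wlen 55) (D.wordP 55) v = W_55 v := by
  intro v
  simp only [W_55, forceL_eq]
  rfl

theorem relw_55 : ∀ v, v < 8640 → walkT ctF (D.wlen 55) (D.wordP 55) v = v := by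
  intro v hv
  rw [walk_55]
  exact relf_55 v hv

theorem relf_56 : ∀ v, v < 8640 → W_56 v = v := by
  intro v hv
  rcases Nat.lt_or_ge v 5882 with h | h
  · exact fixPtsF_spec W_56 5882 0 relc_56_0 v (by omega) (by omega)
  · exact fixPtsF_spec W_56 2758 5882 relc_56_1 v (by omega) (by omega)

set_option maxRecDepth 1000000 in
theorem walk_56 : ∀ v, walkT ctF (D.wlen 56) (D.wordP 56) v = W_56 v := by
  intro v
  simp only [W_56, forceL_eq]
  rfl

theorem relw_56 : ∀ v, v < 8640 → walkT ctF (D.wlen 56) (D.wordP 56) v = v := by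
  intro v hv
  rw [walk_56]
  exact relf_56 v hv

theorem relf_57 : ∀ v, v < 8640 → W_57 v = v := by
  intro v hv
  rcases Nat.lt_or_ge v 5882 with h | h
  · exact fixPtsF_spec W_57 5882 0 relc_57_0 v (by omega) (by omega)
  · exact fixPtsF_spec W_57 2758 5882 relc_57_1 v (by omega) (by omega)

set_option maxRecDepth 1000000 in
theorem walk_57 : ∀ v, walkT ctF (D.wlen 57) (D.wordP 57) v = W_57 v := by
  intro v
  simp only [W_57, forceL_eq]
  rfl

theorem relw_57 : ∀ v, v < 8640 → walkT ctF (D.wlen 57) (D.wordP 57) v = v := by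
  intro v hv
  rw [walk_57]
  exact relf_57 v hv

theorem relf_58 : ∀ v, v < 8640 → W_58 v = v := by
  intro v hv
  rcases Nat.lt_or_ge v 5555 with h | h
  · exact fixPtsF_spec W_58 5555 0 relc_58_0 v (by omega) (by omega)
  · exact fixPtsF_spec W_58 3085 5555 relc_58_1 v (by omega) (by omega)

set_option maxRecDepth 1000000 in
theorem walk_58 : ∀ v, walkT ctF (D.wlen 58) (D.wordP 58) v = W_58 v := by
  intro v
  simp only [W_58, forceL_eq]
  rfl

theorem relw_58 : ∀ v, v < 8640 → walkT ctF (D.wlen 58) (D.wordP 58) v = v := by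
  intro v hv
  rw [walk_58]
  exact relf_58 v hv

theorem relf_59 : ∀ v, v < 8640 → W_59 v = v := by
  intro v hv
  rcases Nat.lt_or_ge v 5555 with h | h
  · exact fixPtsF_spec W_59 5555 0 relc_59_0 v (by omega) (by omega)
  · exact fixPtsF_spec W_59 3085 5555 relc_59_1 v (by omega) (by omega)

set_option maxRecDepth 1000000 in
theorem walk_59 : ∀ v, walkT ctF (D.wlen 59) (D.wordP 59) v = W_59 v := by
  intro v
  simp only [W_59, forceL_eq]
  rfl

theorem relw_59 : ∀ v, v < 8640 → walkT ctF (D.wlen 59) (D.wordP 59) v = v := by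
  intro v hv
  rw [walk_59]
  exact relf_59 v hv

theorem relf_60 : ∀ v, v < 8640 → W_60 v = v := by
  intro v hv
  rcases Nat.lt_or_ge v 5555 with h | h
  · exact fixPtsF_spec W_60 5555 0 relc_60_0 v (by omega) (by omega)
  · exact fixPtsF_spec W_60 3085 5555 relc_60_1 v (by omega) (by omega)

set_option maxRecDepth 1000000 in
theorem walk_60 : ∀ v, walkT ctF (D.wlen 60) (D.wordP 60) v = W_60 v := by
  intro v
  simp only [W_60, forceL_eq]
  rfl

theorem relw_60 : ∀ v, v < 8640 → walkT ctF (D.wlen 60) (D.wordP 60) v = v := by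
  intro v hv
  rw [walk_60]
  exact relf_60 v hv

theorem relf_61 : ∀ v, v < 8640 → W_61 v = v := by
  intro v hv
  rcases Nat.lt_or_ge v 5555 with h | h
  · exact fixPtsF_spec W_61 5555 0 relc_61_0 v (by omega) (by omega)
  · exact fixPtsF_spec W_61 3085 5555 relc_61_1 v (by omega) (by omega)

set_option maxRecDepth 1000000 in
theorem walk_61 : ∀ v, walkT ctF (D.wlen 61) (D.wordP 61) v = W_61 v := by
  intro v
  simp only [W_61, forceL_eq]
  rfl

theorem relw_61 : ∀ v, v < 8640 → walkT ctF (D.wlen 61) (D.wordP 61) v = v := by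
  intro v hv
  rw [walk_61]
  exact relf_61 v hv

theorem relf_62 : ∀ v, v < 8640 → W_62 v = v := by
  intro v hv
  rcases Nat.lt_or_ge v 5555 with h | h
  · exact fixPtsF_spec W_62 5555 0 relc_62_0 v (by omega) (by omega)
  · exact fixPtsF_spec W_62 3085 5555 relc_62_1 v (by omega) (by omega)

set_option maxRecDepth 1000000 in
theorem walk_62 : ∀ v, walkT ctF (D.wlen 62) (D.wordP 62) v = W_62 v := by
  intro v
  simp only [W_62, forceL_eq]
  rfl

theorem relw_62 : ∀ v, v < 8640 → walkT ctF (D.wlen 62) (D.wordP 62) v = v := by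
  intro v hv
  rw [walk_62]
  exact relf_62 v hv

theorem relf_63 : ∀ v, v < 8640 → W_63 v = v := by
  intro v hv
  rcases Nat.lt_or_ge v 5555 with h | h
  · exact fixPtsF_spec W_63 5555 0 relc_63_0 v (by omega) (by omega)
  · exact fixPtsF_spec W_63 3085 5555 relc_63_1 v (by omega) (by omega)

set_option maxRecDepth 1000000 in
theorem walk_63 : ∀ v, walkT ctF (D.wlen 63) (D.wordP 63) v = W_63 v := by
  intro v
  simp only [W_63, forceL_eq]
  rfl

theorem relw_63 : ∀ v, v < 8640 → walkT ctF (D.wlen 63) (D.wordP 63) v = v := by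
  intro v hv
  rw [walk_63]
  exact relf_63 v hv

theorem relf_64 : ∀ v, v < 8640 → W_64 v = v := by
  intro v hv
  rcases Nat.lt_or_ge v 5555 with h | h
  · exact fixPtsF_spec W_64 5555 0 relc_64_0 v (by omega) (by omega)
  · exact fixPtsF_spec W_64 3085 5555 relc_64_1 v (by omega) (by omega)

set_option maxRecDepth 1000000 in
theorem walk_64 : ∀ v, walkT ctF (D.wlen 64) (D.wordP 64) v = W_64 v := by
  intro v
  simp only [W_64, forceL_eq]
  rfl

theorem relw_64 : ∀ v, v < 8640 → walkT ctF (D.wlen 64) (D.wordP 64) v = v := by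
  intro v hv
  rw [walk_64]
  exact relf_64 v hv

theorem relf_65 : ∀ v, v < 8640 → W_65 v = v := by
  intro v hv
  rcases Nat.lt_or_ge v 5555 with h | h
  · exact fixPtsF_spec W_65 5555 0 relc_65_0 v (by omega) (by omega)
  · exact fixPtsF_spec W_65 3085 5555 relc_65_1 v (by omega) (by omega)

set_option maxRecDepth 1000000 in
theorem walk_65 : ∀ v, walkT ctF (D.wlen 65) (D.wordP 65) v = W_65 v := by
  intro v
  simp only [W_65, forceL_eq]
  rfl

theorem relw_65 : ∀ v, v < 8640 → walkT ctF (D.wlen 65) (D.wordP 65) v = v := by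
  intro v hv
  rw [walk_65]
  exact relf_65 v hv

theorem relf_66 : ∀ v, v < 8640 → W_66 v = v := by
  intro v hv
  rcases Nat.lt_or_ge v 5555 with h | h
  · exact fixPtsF_spec W_66 5555 0 relc_66_0 v (by omega) (by omega)
  · exact fixPtsF_spec W_66 3085 5555 relc_66_1 v (by omega) (by omega)

set_option maxRecDepth 1000000 in
theorem walk_66 : ∀ v, walkT ctF (D.wlen 66) (D.wordP 66) v = W_66 v := by
  intro v
  simp only [W_66, forceL_eq]
  rfl

theorem relw_66 : ∀ v, v < 8640 → walkT ctF (D.wlen 66) (D.wordP 66) v = v := by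
  intro v hv
  rw [walk_66]
  exact relf_66 v hv

theorem relf_67 : ∀ v, v < 8640 → W_67 v = v := by
  intro v hv
  rcases Nat.lt_or_ge v 5555 with h | h
  · exact fixPtsF_spec W_67 5555 0 relc_67_0 v (by omega) (by omega)
  · exact fixPtsF_spec W_67 3085 5555 relc_67_1 v (by omega) (by omega)

set_option maxRecDepth 1000000 in
theorem walk_67 : ∀ v, walkT ctF (D.wlen 67) (D.wordP 67) v = W_67 v := by
  intro v
  simp only [W_67, forceL_eq]
  rfl

theorem relw_67 : ∀ v, v < 8640 → walkT ctF (D.wlen 67) (D.wordP 67) v = v := by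
  intro v hv
  rw [walk_67]
  exact relf_67 v hv

theorem relf_68 : ∀ v, v < 8640 → W_68 v = v := by
  intro v hv
  rcases Nat.lt_or_ge v 5555 with h | h
  · exact fixPtsF_spec W_68 5555 0 relc_68_0 v (by omega) (by omega)
  · exact fixPtsF_spec W_68 3085 5555 relc_68_1 v (by omega) (by omega)

set_option maxRecDepth 1000000 in
theorem walk_68 : ∀ v, walkT ctF (D.wlen 68) (D.wordP 68) v = W_68 v := by
  intro v
  simp only [W_68, forceL_eq]
  rfl

theorem relw_68 : ∀ v, v < 8640 → walkT ctF (D.wlen 68) (D.wordP 68) v = v := by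
  intro v hv
  rw [walk_68]
  exact relf_68 v hv

theorem relf_69 : ∀ v, v < 8640 → W_69 v = v := by
  intro v hv
  rcases Nat.lt_or_ge v 5555 with h | h
  · exact fixPtsF_spec W_69 5555 0 relc_69_0 v (by omega) (by omega)
  · exact fixPtsF_spec W_69 3085 5555 relc_69_1 v (by omega) (by omega)

set_option maxRecDepth 1000000 in
theorem walk_69 : ∀ v, walkT ctF (D.wlen 69) (D.wordP 69) v = W_69 v := by
  intro v
  simp only [W_69, forceL_eq]
  rfl

theorem relw_69 : ∀ v, v < 8640 → walkT ctF (D.wlen 69) (D.wordP 69) v = v := by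
  intro v hv
  rw [walk_69]
  exact relf_69 v hv

theorem relf_70 : ∀ v, v < 8640 → W_70 v = v := by
  intro v hv
  rcases Nat.lt_or_ge v 5263 with h | h
  · exact fixPtsF_spec W_70 5263 0 relc_70_0 v (by omega) (by omega)
  · exact fixPtsF_spec W_70 3377 5263 relc_70_1 v (by omega) (by omega)

set_option maxRecDepth 1000000 in
theorem walk_70 : ∀ v, walkT ctF (D.wlen 70) (D.wordP 70) v = W_70 v := by
  intro v
  simp only [W_70, forceL_eq]
  rfl

theorem relw_70 : ∀ v, v < 8640 → walkT ctF (D.wlen 70) (D.wordP 70) v = v := by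
  intro v hv
  rw [walk_70]
  exact relf_70 v hv

theorem relf_71 : ∀ v, v < 8640 → W_71 v = v := by
  intro v hv
  rcases Nat.lt_or_ge v 5263 with h | h
  · exact fixPtsF_spec W_71 5263 0 relc_71_0 v (by omega) (by omega)
  · exact fixPtsF_spec W_71 3377 5263 relc_71_1 v (by omega) (by omega)

set_option maxRecDepth 1000000 in
theorem walk_71 : ∀ v, walkT ctF (D.wlen 71) (D.wordP 71) v = W_71 v := by
  intro v
  simp only [W_71, forceL_eq]
  rfl

theorem relw_71 : ∀ v, v < 8640 → walkT ctF (D.wlen 71) (D.wordP 71) v = v := by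
  intro v hv
  rw [walk_71]
  exact relf_71 v hv

theorem relf_72 : ∀ v, v < 8640 → W_72 v = v := by
  intro v hv
  rcases Nat.lt_or_ge v 5263 with h | h
  · exact fixPtsF_spec W_72 5263 0 relc_72_0 v (by omega) (by omega)
  · exact fixPtsF_spec W_72 3377 5263 relc_72_1 v (by omega) (by omega)

set_option maxRecDepth 1000000 in
theorem walk_72 : ∀ v, walkT ctF (D.wlen 72) (D.wordP 72) v = W_72 v := by
  intro v
  simp only [W_72, forceL_eq]
  rfl

theorem relw_72 : ∀ v, v < 8640 → walkT ctF (D.wlen 72) (D.wordP 72) v = v := by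
  intro v hv
  rw [walk_72]
  exact relf_72 v hv

theorem relf_73 : ∀ v, v < 8640 → W_73 v = v := by
  intro v hv
  rcases Nat.lt_or_ge v 5263 with h | h
  · exact fixPtsF_spec W_73 5263 0 relc_73_0 v (by omega) (by omega)
  · exact fixPtsF_spec W_73 3377 5263 relc_73_1 v (by omega) (by omega)

set_option maxRecDepth 1000000 in
theorem walk_73 : ∀ v, walkT ctF (D.wlen 73) (D.wordP 73) v = W_73 v := by
  intro v
  simp only [W_73, forceL_eq]
  rfl

theorem relw_73 : ∀ v, v < 8640 → walkT ctF (D.wlen 73) (D.wordP 73) v = v := by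
  intro v hv
  rw [walk_73]
  exact relf_73 v hv

theorem relf_74 : ∀ v, v < 8640 → W_74 v = v := by
  intro v hv
  rcases Nat.lt_or_ge v 5263 with h | h
  · exact fixPtsF_spec W_74 5263 0 relc_74_0 v (by omega) (by omega)
  · exact fixPtsF_spec W_74 3377 5263 relc_74_1 v (by omega) (by omega)

set_option maxRecDepth 1000000 in
theorem walk_74 : ∀ v, walkT ctF (D.wlen 74) (D.wordP 74) v = W_74 v := by
  intro v
  simp only [W_74, forceL_eq]
  rfl

theorem relw_74 : ∀ v, v < 8640 → walkT ctF (D.wlen 74) (D.wordP 74) v = v := by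
  intro v hv
  rw [walk_74]
  exact relf_74 v hv

theorem relf_75 : ∀ v, v < 8640 → W_75 v = v := by
  intro v hv
  rcases Nat.lt_or_ge v 5263 with h | h
  · exact fixPtsF_spec W_75 5263 0 relc_75_0 v (by omega) (by omega)
  · exact fixPtsF_spec W_75 3377 5263 relc_75_1 v (by omega) (by omega)

set_option maxRecDepth 1000000 in
theorem walk_75 : ∀ v, walkT ctF (D.wlen 75) (D.wordP 75) v = W_75 v := by
  intro v
  simp only [W_75, forceL_eq]
  rfl

theorem relw_75 : ∀ v, v < 8640 → walkT ctF (D.wlen 75) (D.wordP 75) v = v := by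
  intro v hv
  rw [walk_75]
  exact relf_75 v hv

theorem relf_76 : ∀ v, v < 8640 → W_76 v = v := by
  intro v hv
  rcases Nat.lt_or_ge v 5263 with h | h
  · exact fixPtsF_spec W_76 5263 0 relc_76_0 v (by omega) (by omega)
  · exact fixPtsF_spec W_76 3377 5263 relc_76_1 v (by omega) (by omega)

set_option maxRecDepth 1000000 in
theorem walk_76 : ∀ v, walkT ctF (D.wlen 76) (D.wordP 76) v = W_76 v := by
  intro v
  simp only [W_76, forceL_eq]
  rfl

theorem relw_76 : ∀ v, v < 8640 → walkT ctF (D.wlen 76) (D.wordP 76) v = v := by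
  intro v hv
  rw [walk_76]
  exact relf_76 v hv

theorem relf_77 : ∀ v, v < 8640 → W_77 v = v := by
  intro v hv
  rcases Nat.lt_or_ge v 5263 with h | h
  · exact fixPtsF_spec W_77 5263 0 relc_77_0 v (by omega) (by omega)
  · exact fixPtsF_spec W_77 3377 5263 relc_77_1 v (by omega) (by omega)

set_option maxRecDepth 1000000 in
theorem walk_77 : ∀ v, walkT ctF (D.wlen 77) (D.wordP 77) v = W_77 v := by
  intro v
  simp only [W_77, forceL_eq]
  rfl

theorem relw_77 : ∀ v, v < 8640 → walkT ctF (D.wlen 77) (D.wordP 77) v = v := by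
  intro v hv
  rw [walk_77]
  exact relf_77 v hv

theorem relf_78 : ∀ v, v < 8640 → W_78 v = v := by
  intro v hv
  rcases Nat.lt_or_ge v 5263 with h | h
  · exact fixPtsF_spec W_78 5263 0 relc_78_0 v (by omega) (by omega)
  · exact fixPtsF_spec W_78 3377 5263 relc_78_1 v (by omega) (by omega)

set_option maxRecDepth 1000000 in
theorem walk_78 : ∀ v, walkT ctF (D.wlen 78) (D.wordP 78) v = W_78 v := by
  intro v
  simp only [W_78, forceL_eq]
  rfl

theorem relw_78 : ∀ v, v < 8640 → walkT ctF (D.wlen 78) (D.wordP 78) v = v := by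
  intro v hv
  rw [walk_78]
  exact relf_78 v hv

theorem relf_79 : ∀ v, v < 8640 → W_79 v = v := by
  intro v hv
  rcases Nat.lt_or_ge v 5263 with h | h
  · exact fixPtsF_spec W_79 5263 0 relc_79_0 v (by omega) (by omega)
  · exact fixPtsF_spec W_79 3377 5263 relc_79_1 v (by omega) (by omega)

set_option maxRecDepth 1000000 in
theorem walk_79 : ∀ v, walkT ctF (D.wlen 79) (D.wordP 79) v = W_79 v := by
  intro v
  simp only [W_79, forceL_eq]
  rfl

theorem relw_79 : ∀ v, v < 8640 → walkT ctF (D.wlen 79) (D.wordP 79) v = v := by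
  intro v hv
  rw [walk_79]
  exact relf_79 v hv

theorem relf_80 : ∀ v, v < 8640 → W_80 v = v := by
  intro v hv
  rcases Nat.lt_or_ge v 5263 with h | h
  · exact fixPtsF_spec W_80 5263 0 relc_80_0 v (by omega) (by omega)
  · exact fixPtsF_spec W_80 3377 5263 relc_80_1 v (by omega) (by omega)

set_option maxRecDepth 1000000 in
theorem walk_80 : ∀ v, walkT ctF (D.wlen 80) (D.wordP 80) v = W_80 v := by
  intro v
  simp only [W_80, forceL_eq]
  rfl

theorem relw_80 : ∀ v, v < 8640 → walkT ctF (D.wlen 80) (D.wordP 80) v = v := by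
  intro v hv
  rw [walk_80]
  exact relf_80 v hv

theorem relf_81 : ∀ v, v < 8640 → W_81 v = v := by
  intro v hv
  rcases Nat.lt_or_ge v 5263 with h | h
  · exact fixPtsF_spec W_81 5263 0 relc_81_0 v (by omega) (by omega)
  · exact fixPtsF_spec W_81 3377 5263 relc_81_1 v (by omega) (by omega)

set_option maxRecDepth 1000000 in
theorem walk_81 : ∀ v, walkT ctF (D.wlen 81) (D.wordP 81) v = W_81 v := by
  intro v
  simp only [W_81, forceL_eq]
  rfl

theorem relw_81 : ∀ v, v < 8640 → walkT ctF (D.wlen 81) (D.wordP 81) v = v := by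
  intro v hv
  rw [walk_81]
  exact relf_81 v hv

theorem relf_82 : ∀ v, v < 8640 → W_82 v = v := by
  intro v hv
  rcases Nat.lt_or_ge v 5263 with h | h
  · exact fixPtsF_spec W_82 5263 0 relc_82_0 v (by omega) (by omega)
  · exact fixPtsF_spec W_82 3377 5263 relc_82_1 v (by omega) (by omega)

set_option maxRecDepth 1000000 in
theorem walk_82 : ∀ v, walkT ctF (D.wlen 82) (D.wordP 82) v = W_82 v := by
  intro v
  simp only [W_82, forceL_eq]
  rfl

theorem relw_82 : ∀ v, v < 8640 → walkT ctF (D.wlen 82) (D.wordP 82) v = v := by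
  intro v hv
  rw [walk_82]
  exact relf_82 v hv

theorem relf_83 : ∀ v, v < 8640 → W_83 v = v := by
  intro v hv
  rcases Nat.lt_or_ge v 5263 with h | h
  · exact fixPtsF_spec W_83 5263 0 relc_83_0 v (by omega) (by omega)
  · exact fixPtsF_spec W_83 3377 5263 relc_83_1 v (by omega) (by omega)

set_option maxRecDepth 1000000 in
theorem walk_83 : ∀ v, walkT ctF (D.wlen 83) (D.wordP 83) v = W_83 v := by
  intro v
  simp only [W_83, forceL_eq]
  rfl

theorem relw_83 : ∀ v, v < 8640 → walkT ctF (D.wlen 83) (D.wordP 83) v = v := by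
  intro v hv
  rw [walk_83]
  exact relf_83 v hv

theorem relf_84 : ∀ v, v < 8640 → W_84 v = v := by
  intro v hv
  rcases Nat.lt_or_ge v 5263 with h | h
  · exact fixPtsF_spec W_84 5263 0 relc_84_0 v (by omega) (by omega)
  · exact fixPtsF_spec W_84 3377 5263 relc_84_1 v (by omega) (by omega)

set_option maxRecDepth 1000000 in
theorem walk_84 : ∀ v, walkT ctF (D.wlen 84) (D.wordP 84) v = W_84 v := by
  intro v
  simp only [W_84, forceL_eq]
  rfl

theorem relw_84 : ∀ v, v < 8640 → walkT ctF (D.wlen 84) (D.wordP 84) v = v := by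
  intro v hv
  rw [walk_84]
  exact relf_84 v hv

theorem relf_85 : ∀ v, v < 8640 → W_85 v = v := by
  intro v hv
  rcases Nat.lt_or_ge v 5263 with h | h
  · exact fixPtsF_spec W_85 5263 0 relc_85_0 v (by omega) (by omega)
  · exact fixPtsF_spec W_85 3377 5263 relc_85_1 v (by omega) (by omega)

set_option maxRecDepth 1000000 in
theorem walk_85 : ∀ v, walkT ctF (D.wlen 85) (D.wordP 85) v = W_85 v := by
  intro v
  simp only [W_85, forceL_eq]
  rfl

theorem relw_85 : ∀ v, v < 8640 → walkT ctF (D.wlen 85) (D.wordP 85) v = v := by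
  intro v hv
  rw [walk_85]
  exact relf_85 v hv

theorem relf_86 : ∀ v, v < 8640 → W_86 v = v := by
  intro v hv
  rcases Nat.lt_or_ge v 6060 with h | h
  · exact fixPtsF_spec W_86 6060 0 relc_86_0 v (by omega) (by omega)
  · exact fixPtsF_spec W_86 2580 6060 relc_86_1 v (by omega) (by omega)

set_option maxRecDepth 1000000 in
theorem walk_86 : ∀ v, walkT ctF (D.wlen 86) (D.wordP 86) v = W_86 v := by
  intro v
  simp only [W_86, forceL_eq]
  rfl

theorem relw_86 : ∀ v, v < 8640 → walkT ctF (D.wlen 86) (D.wordP 86) v = v := by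
  intro v hv
  rw [walk_86]
  exact relf_86 v hv

theorem relf_87 : ∀ v, v < 8640 → W_87 v = v := by
  intro v hv
  rcases Nat.lt_or_ge v 6060 with h | h
  · exact fixPtsF_spec W_87 6060 0 relc_87_0 v (by omega) (by omega)
  · exact fixPtsF_spec W_87 2580 6060 relc_87_1 v (by omega) (by omega)

set_option maxRecDepth 1000000 in
theorem walk_87 : ∀ v, walkT ctF (D.wlen 87) (D.wordP 87) v = W_87 v := by
  intro v
  simp only [W_87, forceL_eq]
  rfl

theorem relw_87 : ∀ v, v < 8640 → walkT ctF (D.wlen 87) (D.wordP 87) v = v := by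
  intro v hv
  rw [walk_87]
  exact relf_87 v hv

theorem relf_88 : ∀ v, v < 8640 → W_88 v = v := by
  intro v hv
  rcases Nat.lt_or_ge v 5555 with h | h
  · exact fixPtsF_spec W_88 5555 0 relc_88_0 v (by omega) (by omega)
  · exact fixPtsF_spec W_88 3085 5555 relc_88_1 v (by omega) (by omega)

set_option maxRecDepth 1000000 in
theorem walk_88 : ∀ v, walkT ctF (D.wlen 88) (D.wordP 88) v = W_88 v := by
  intro v
  simp only [W_88, forceL_eq]
  rfl

theorem relw_88 : ∀ v, v < 8640 → walkT ctF (D.wlen 88) (D.wordP 88) v = v := by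
  intro v hv
  rw [walk_88]
  exact relf_88 v hv

theorem relf_89 : ∀ v, v < 8640 → W_89 v = v := by
  intro v hv
  rcases Nat.lt_or_ge v 5555 with h | h
  · exact fixPtsF_spec W_89 5555 0 relc_89_0 v (by omega) (by omega)
  · exact fixPtsF_spec W_89 3085 5555 relc_89_1 v (by omega) (by omega)

set_option maxRecDepth 1000000 in
theorem walk_89 : ∀ v, walkT ctF (D.wlen 89) (D.wordP 89) v = W_89 v := by
  intro v
  simp only [W_89, forceL_eq]
  rfl

theorem relw_89 : ∀ v, v < 8640 → walkT ctF (D.wlen 89) (D.wordP 89) v = v := by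
  intro v hv
  rw [walk_89]
  exact relf_89 v hv

theorem relf_90 : ∀ v, v < 8640 → W_90 v = v := by
  intro v hv
  rcases Nat.lt_or_ge v 5128 with h | h
  · exact fixPtsF_spec W_90 5128 0 relc_90_0 v (by omega) (by omega)
  · exact fixPtsF_spec W_90 3512 5128 relc_90_1 v (by omega) (by omega)

set_option maxRecDepth 1000000 in
theorem walk_90 : ∀ v, walkT ctF (D.wlen 90) (D.wordP 90) v = W_90 v := by
  intro v
  simp only [W_90, forceL_eq]
  rfl

theorem relw_90 : ∀ v, v < 8640 → walkT ctF (D.wlen 90) (D.wordP 90) v = v := by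
  intro v hv
  rw [walk_90]
  exact relf_90 v hv

theorem relf_91 : ∀ v, v < 8640 → W_91 v = v := by
  intro v hv
  rcases Nat.lt_or_ge v 5128 with h | h
  · exact fixPtsF_spec W_91 5128 0 relc_91_0 v (by omega) (by omega)
  · exact fixPtsF_spec W_91 3512 5128 relc_91_1 v (by omega) (by omega)

set_option maxRecDepth 1000000 in
theorem walk_91 : ∀ v, walkT ctF (D.wlen 91) (D.wordP 91) v = W_91 v := by
  intro v
  simp only [W_91, forceL_eq]
  rfl

theorem relw_91 : ∀ v, v < 8640 → walkT ctF (D.wlen 91) (D.wordP 91) v = v := by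
  intro v hv
  rw [walk_91]
  exact relf_91 v hv

theorem relf_92 : ∀ v, v < 8640 → W_92 v = v := by
  intro v hv
  rcases Nat.lt_or_ge v 4761 with h | h
  · exact fixPtsF_spec W_92 4761 0 relc_92_0 v (by omega) (by omega)
  · exact fixPtsF_spec W_92 3879 4761 relc_92_1 v (by omega) (by omega)

set_option maxRecDepth 1000000 in
theorem walk_92 : ∀ v, walkT ctF (D.wlen 92) (D.wordP 92) v = W_92 v := by
  intro v
  simp only [W_92, forceL_eq]
  rfl

theorem relw_92 : ∀ v, v < 8640 → walkT ctF (D.wlen 92) (D.wordP 92) v = v := by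
  intro v hv
  rw [walk_92]
  exact relf_92 v hv

theorem relf_93 : ∀ v, v < 8640 → W_93 v = v := by
  intro v hv
  rcases Nat.lt_or_ge v 4761 with h | h
  · exact fixPtsF_spec W_93 4761 0 relc_93_0 v (by omega) (by omega)
  · exact fixPtsF_spec W_93 3879 4761 relc_93_1 v (by omega) (by omega)

set_option maxRecDepth 1000000 in
theorem walk_93 : ∀ v, walkT ctF (D.wlen 93) (D.wordP 93) v = W_93 v := by
  intro v
  simp only [W_93, forceL_eq]
  rfl

theorem relw_93 : ∀ v, v < 8640 → walkT ctF (D.wlen 93) (D.wordP 93) v = v := by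
  intro v hv
  rw [walk_93]
  exact relf_93 v hv

theorem relf_94 : ∀ v, v < 8640 → W_94 v = v := by
  intro v hv
  rcases Nat.lt_or_ge v 4761 with h | h
  · exact fixPtsF_spec W_94 4761 0 relc_94_0 v (by omega) (by omega)
  · exact fixPtsF_spec W_94 3879 4761 relc_94_1 v (by omega) (by omega)

set_option maxRecDepth 1000000 in
theorem walk_94 : ∀ v, walkT ctF (D.wlen 94) (D.wordP 94) v = W_94 v := by
  intro v
  simp only [W_94, forceL_eq]
  rfl

theorem relw_94 : ∀ v, v < 8640 → walkT ctF (D.wlen 94) (D.wordP 94) v = v := by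
  intro v hv
  rw [walk_94]
  exact relf_94 v hv

theorem relf_95 : ∀ v, v < 8640 → W_95 v = v := by
  intro v hv
  rcases Nat.lt_or_ge v 4761 with h | h
  · exact fixPtsF_spec W_95 4761 0 relc_95_0 v (by omega) (by omega)
  · exact fixPtsF_spec W_95 3879 4761 relc_95_1 v (by omega) (by omega)

set_option maxRecDepth 1000000 in
theorem walk_95 : ∀ v, walkT ctF (D.wlen 95) (D.wordP 95) v = W_95 v := by
  intro v
  simp only [W_95, forceL_eq]
  rfl

theorem relw_95 : ∀ v, v < 8640 → walkT ctF (D.wlen 95) (D.wordP 95) v = v := by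
  intro v hv
  rw [walk_95]
  exact relf_95 v hv

theorem relf_96 : ∀ v, v < 8640 → W_96 v = v := by
  intro v hv
  rcases Nat.lt_or_ge v 4444 with h | h
  · exact fixPtsF_spec W_96 4444 0 relc_96_0 v (by omega) (by omega)
  · exact fixPtsF_spec W_96 4196 4444 relc_96_1 v (by omega) (by omega)

set_option maxRecDepth 1000000 in
theorem walk_96 : ∀ v, walkT ctF (D.wlen 96) (D.wordP 96) v = W_96 v := by
  intro v
  simp only [W_96, forceL_eq]
  rfl

theorem relw_96 : ∀ v, v < 8640 → walkT ctF (D.wlen 96) (D.wordP 96) v = v := by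
  intro v hv
  rw [walk_96]
  exact relf_96 v hv

theorem relf_97 : ∀ v, v < 8640 → W_97 v = v := by
  intro v hv
  rcases Nat.lt_or_ge v 4444 with h | h
  · exact fixPtsF_spec W_97 4444 0 relc_97_0 v (by omega) (by omega)
  · exact fixPtsF_spec W_97 4196 4444 relc_97_1 v (by omega) (by omega)

set_option maxRecDepth 1000000 in
theorem walk_97 : ∀ v, walkT ctF (D.wlen 97) (D.wordP 97) v = W_97 v := by
  intro v
  simp only [W_97, forceL_eq]
  rfl

theorem relw_97 : ∀ v, v < 8640 → walkT ctF (D.wlen 97) (D.wordP 97) v = v := by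
  intro v hv
  rw [walk_97]
  exact relf_97 v hv

theorem relf_98 : ∀ v, v < 8640 → W_98 v = v := by
  intro v hv
  rcases Nat.lt_or_ge v 4444 with h | h
  · exact fixPtsF_spec W_98 4444 0 relc_98_0 v (by omega) (by omega)
  · exact fixPtsF_spec W_98 4196 4444 relc_98_1 v (by omega) (by omega)

set_option maxRecDepth 1000000 in
theorem walk_98 : ∀ v, walkT ctF (D.wlen 98) (D.wordP 98) v = W_98 v := by
  intro v
  simp only [W_98, forceL_eq]
  rfl

theorem relw_98 : ∀ v, v < 8640 → walkT ctF (D.wlen 98) (D.wordP 98) v = v := by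
  intro v hv
  rw [walk_98]
  exact relf_98 v hv

theorem relf_99 : ∀ v, v < 8640 → W_99 v = v := by
  intro v hv
  rcases Nat.lt_or_ge v 4444 with h | h
  · exact fixPtsF_spec W_99 4444 0 relc_99_0 v (by omega) (by omega)
  · exact fixPtsF_spec W_99 4196 4444 relc_99_1 v (by omega) (by omega)

set_option maxRecDepth 1000000 in
theorem walk_99 : ∀ v, walkT ctF (D.wlen 99) (D.wordP 99) v = W_99 v := by
  intro v
  simp only [W_99, forceL_eq]
  rfl

theorem relw_99 : ∀ v, v < 8640 → walkT ctF (D.wlen 99) (D.wordP 99) v = v := by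
  intro v hv
  rw [walk_99]
  exact relf_99 v hv

theorem relf_100 : ∀ v, v < 8640 → W_100 v = v := by
  intro v hv
  rcases Nat.lt_or_ge v 4444 with h | h
  · exact fixPtsF_spec W_100 4444 0 relc_100_0 v (by omega) (by omega)
  · exact fixPtsF_spec W_100 4196 4444 relc_100_1 v (by omega) (by omega)

set_option maxRecDepth 1000000 in
theorem walk_100 : ∀ v, walkT ctF (D.wlen 100) (D.wordP 100) v = W_100 v := by
  intro v
  simp only [W_100, forceL_eq]
  rfl

theorem relw_100 : ∀ v, v < 8640 → walkT ctF (D.wlen 100) (D.wordP 100) v = v := by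
  intro v hv
  rw [walk_100]
  exact relf_100 v hv

theorem relf_101 : ∀ v, v < 8640 → W_101 v = v := by
  intro v hv
  rcases Nat.lt_or_ge v 4444 with h | h
  · exact fixPtsF_spec W_101 4444 0 relc_101_0 v (by omega) (by omega)
  · exact fixPtsF_spec W_101 4196 4444 relc_101_1 v (by omega) (by omega)

set_option maxRecDepth 1000000 in
theorem walk_101 : ∀ v, walkT ctF (D.wlen 101) (D.wordP 101) v = W_101 v := by
  intro v
  simp only [W_101, forceL_eq]
  rfl

theorem relw_101 : ∀ v, v < 8640 → walkT ctF (D.wlen 101) (D.wordP 101) v = v := by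
  intro v hv
  rw [walk_101]
  exact relf_101 v hv

theorem relf_102 : ∀ v, v < 8640 → W_102 v = v := by
  intro v hv
  rcases Nat.lt_or_ge v 4166 with h | h
  · exact fixPtsF_spec W_102 4166 0 relc_102_0 v (by omega) (by omega)
  · rcases Nat.lt_or_ge v 8332 with h | h
    · exact fixPtsF_spec W_102 4166 4166 relc_102_1 v (by omega) (by omega)
    · exact fixPtsF_spec W_102 308 8332 relc_102_2 v (by omega) (by omega)

set_option maxRecDepth 1000000 in
theorem walk_102 : ∀ v, walkT ctF (D.wlen 102) (D.wordP 102) v = W_102 v := by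
  intro v
  simp only [W_102, forceL_eq]
  rfl

theorem relw_102 : ∀ v, v < 8640 → walkT ctF (D.wlen 102) (D.wordP 102) v = v := by
  intro v hv
  rw [walk_102]
  exact relf_102 v hv

theorem relf_103 : ∀ v, v < 8640 → W_103 v = v := by
  intro v hv
  rcases Nat.lt_or_ge v 4166 with h | h
  · exact fixPtsF_spec W_103 4166 0 relc_103_0 v (by omega) (by omega)
  · rcases Nat.lt_or_ge v 8332 with h | h
    · exact fixPtsF_spec W_103 4166 4166 relc_103_1 v (by omega) (by omega)
    · exact fixPtsF_spec W_103 308 8332 relc_103_2 v (by omega) (by omega)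

set_option maxRecDepth 1000000 in
theorem walk_103 : ∀ v, walkT ctF (D.wlen 103) (D.wordP 103) v = W_103 v := by
  intro v
  simp only [W_103, forceL_eq]
  rfl

theorem relw_103 : ∀ v, v < 8640 → walkT ctF (D.wlen 103) (D.wordP 103) v = v := by
  intro v hv
  rw [walk_103]
  exact relf_103 v hv

theorem relf_104 : ∀ v, v < 8640 → W_104 v = v := by
  intro v hv
  rcases Nat.lt_or_ge v 4166 with h | h
  · exact fixPtsF_spec W_104 4166 0 relc_104_0 v (by omega) (by omega)
  · rcases Nat.lt_or_ge v 8332 with h | h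
    · exact fixPtsF_spec W_104 4166 4166 relc_104_1 v (by omega) (by omega)
    · exact fixPtsF_spec W_104 308 8332 relc_104_2 v (by omega) (by omega)

set_option maxRecDepth 1000000 in
theorem walk_104 : ∀ v, walkT ctF (D.wlen 104) (D.wordP 104) v = W_104 v := by
  intro v
  simp only [W_104, forceL_eq]
  rfl

theorem relw_104 : ∀ v, v < 8640 → walkT ctF (D.wlen 104) (D.wordP 104) v = v := by
  intro v hv
  rw [walk_104]
  exact relf_104 v hv

theorem relf_105 : ∀ v, v < 8640 → W_105 v = v := by
  intro v hv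
  rcases Nat.lt_or_ge v 4166 with h | h
  · exact fixPtsF_spec W_105 4166 0 relc_105_0 v (by omega) (by omega)
  · rcases Nat.lt_or_ge v 8332 with h | h
    · exact fixPtsF_spec W_105 4166 4166 relc_105_1 v (by omega) (by omega)
    · exact fixPtsF_spec W_105 308 8332 relc_105_2 v (by omega) (by omega)

set_option maxRecDepth 1000000 in
theorem walk_105 : ∀ v, walkT ctF (D.wlen 105) (D.wordP 105) v = W_105 v := by
  intro v
  simp only [W_105, forceL_eq]
  rfl

theorem relw_105 : ∀ v, v < 8640 → walkT ctF (D.wlen 105) (D.wordP 105) v = v := by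
  intro v hv
  rw [walk_105]
  exact relf_105 v hv

theorem relf_106 : ∀ v, v < 8640 → W_106 v = v := by
  intro v hv
  rcases Nat.lt_or_ge v 4166 with h | h
  · exact fixPtsF_spec W_106 4166 0 relc_106_0 v (by omega) (by omega)
  · rcases Nat.lt_or_ge v 8332 with h | h
    · exact fixPtsF_spec W_106 4166 4166 relc_106_1 v (by omega) (by omega)
    · exact fixPtsF_spec W_106 308 8332 relc_106_2 v (by omega) (by omega)

set_option maxRecDepth 1000000 in
theorem walk_106 : ∀ v, walkT ctF (D.wlen 106) (D.wordP 106) v = W_106 v := by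
  intro v
  simp only [W_106, forceL_eq]
  rfl

theorem relw_106 : ∀ v, v < 8640 → walkT ctF (D.wlen 106) (D.wordP 106) v = v := by
  intro v hv
  rw [walk_106]
  exact relf_106 v hv

theorem relf_107 : ∀ v, v < 8640 → W_107 v = v := by
  intro v hv
  rcases Nat.lt_or_ge v 4166 with h | h
  · exact fixPtsF_spec W_107 4166 0 relc_107_0 v (by omega) (by omega)
  · rcases Nat.lt_or_ge v 8332 with h | h
    · exact fixPtsF_spec W_107 4166 4166 relc_107_1 v (by omega) (by omega)
    · exact fixPtsF_spec W_107 308 8332 relc_107_2 v (by omega) (by omega)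

set_option maxRecDepth 1000000 in
theorem walk_107 : ∀ v, walkT ctF (D.wlen 107) (D.wordP 107) v = W_107 v := by
  intro v
  simp only [W_107, forceL_eq]
  rfl

theorem relw_107 : ∀ v, v < 8640 → walkT ctF (D.wlen 107) (D.wordP 107) v = v := by
  intro v hv
  rw [walk_107]
  exact relf_107 v hv

theorem relf_108 : ∀ v, v < 8640 → W_108 v = v := by
  intro v hv
  rcases Nat.lt_or_ge v 4166 with h | h
  · exact fixPtsF_spec W_108 4166 0 relc_108_0 v (by omega) (by omega)
  · rcases Nat.lt_or_ge v 8332 with h | h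
    · exact fixPtsF_spec W_108 4166 4166 relc_108_1 v (by omega) (by omega)
    · exact fixPtsF_spec W_108 308 8332 relc_108_2 v (by omega) (by omega)

set_option maxRecDepth 1000000 in
theorem walk_108 : ∀ v, walkT ctF (D.wlen 108) (D.wordP 108) v = W_108 v := by
  intro v
  simp only [W_108, forceL_eq]
  rfl

theorem relw_108 : ∀ v, v < 8640 → walkT ctF (D.wlen 108) (D.wordP 108) v = v := by
  intro v hv
  rw [walk_108]
  exact relf_108 v hv

theorem relf_109 : ∀ v, v < 8640 → W_109 v = v := by
  intro v hv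
  rcases Nat.lt_or_ge v 4166 with h | h
  · exact fixPtsF_spec W_109 4166 0 relc_109_0 v (by omega) (by omega)
  · rcases Nat.lt_or_ge v 8332 with h | h
    · exact fixPtsF_spec W_109 4166 4166 relc_109_1 v (by omega) (by omega)
    · exact fixPtsF_spec W_109 308 8332 relc_109_2 v (by omega) (by omega)

set_option maxRecDepth 1000000 in
theorem walk_109 : ∀ v, walkT ctF (D.wlen 109) (D.wordP 109) v = W_109 v := by
  intro v
  simp only [W_109, forceL_eq]
  rfl

theorem relw_109 : ∀ v, v < 8640 → walkT ctF (D.wlen 109) (D.wordP 109) v = v := by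
  intro v hv
  rw [walk_109]
  exact relf_109 v hv

theorem relf_110 : ∀ v, v < 8640 → W_110 v = v := by
  intro v hv
  rcases Nat.lt_or_ge v 4166 with h | h
  · exact fixPtsF_spec W_110 4166 0 relc_110_0 v (by omega) (by omega)
  · rcases Nat.lt_or_ge v 8332 with h | h
    · exact fixPtsF_spec W_110 4166 4166 relc_110_1 v (by omega) (by omega)
    · exact fixPtsF_spec W_110 308 8332 relc_110_2 v (by omega) (by omega)

set_option maxRecDepth 1000000 in
theorem walk_110 : ∀ v, walkT ctF (D.wlen 110) (D.wordP 110) v = W_110 v := by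
  intro v
  simp only [W_110, forceL_eq]
  rfl

theorem relw_110 : ∀ v, v < 8640 → walkT ctF (D.wlen 110) (D.wordP 110) v = v := by
  intro v hv
  rw [walk_110]
  exact relf_110 v hv

theorem relf_111 : ∀ v, v < 8640 → W_111 v = v := by
  intro v hv
  rcases Nat.lt_or_ge v 4166 with h | h
  · exact fixPtsF_spec W_111 4166 0 relc_111_0 v (by omega) (by omega)
  · rcases Nat.lt_or_ge v 8332 with h | h
    · exact fixPtsF_spec W_111 4166 4166 relc_111_1 v (by omega) (by omega)
    · exact fixPtsF_spec W_111 308 8332 relc_111_2 v (by omega) (by omega)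

set_option maxRecDepth 1000000 in
theorem walk_111 : ∀ v, walkT ctF (D.wlen 111) (D.wordP 111) v = W_111 v := by
  intro v
  simp only [W_111, forceL_eq]
  rfl

theorem relw_111 : ∀ v, v < 8640 → walkT ctF (D.wlen 111) (D.wordP 111) v = v := by
  intro v hv
  rw [walk_111]
  exact relf_111 v hv

theorem relf_112 : ∀ v, v < 8640 → W_112 v = v := by
  intro v hv
  rcases Nat.lt_or_ge v 3921 with h | h
  · exact fixPtsF_spec W_112 3921 0 relc_112_0 v (by omega) (by omega)
  · rcases Nat.lt_or_ge v 7842 with h | h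
    · exact fixPtsF_spec W_112 3921 3921 relc_112_1 v (by omega) (by omega)
    · exact fixPtsF_spec W_112 798 7842 relc_112_2 v (by omega) (by omega)

set_option maxRecDepth 1000000 in
theorem walk_112 : ∀ v, walkT ctF (D.wlen 112) (D.wordP 112) v = W_112 v := by
  intro v
  simp only [W_112, forceL_eq]
  rfl

theorem relw_112 : ∀ v, v < 8640 → walkT ctF (D.wlen 112) (D.wordP 112) v = v := by
  intro v hv
  rw [walk_112]
  exact relf_112 v hv

theorem relf_113 : ∀ v, v < 8640 → W_113 v = v := by
  intro v hv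
  rcases Nat.lt_or_ge v 3921 with h | h
  · exact fixPtsF_spec W_113 3921 0 relc_113_0 v (by omega) (by omega)
  · rcases Nat.lt_or_ge v 7842 with h | h
    · exact fixPtsF_spec W_113 3921 3921 relc_113_1 v (by omega) (by omega)
    · exact fixPtsF_spec W_113 798 7842 relc_113_2 v (by omega) (by omega)

set_option maxRecDepth 1000000 in
theorem walk_113 : ∀ v, walkT ctF (D.wlen 113) (D.wordP 113) v = W_113 v := by
  intro v
  simp only [W_113, forceL_eq]
  rfl

theorem relw_113 : ∀ v, v < 8640 → walkT ctF (D.wlen 113) (D.wordP 113) v = v := by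
  intro v hv
  rw [walk_113]
  exact relf_113 v hv

theorem relf_114 : ∀ v, v < 8640 → W_114 v = v := by
  intro v hv
  rcases Nat.lt_or_ge v 3921 with h | h
  · exact fixPtsF_spec W_114 3921 0 relc_114_0 v (by omega) (by omega)
  · rcases Nat.lt_or_ge v 7842 with h | h
    · exact fixPtsF_spec W_114 3921 3921 relc_114_1 v (by omega) (by omega)
    · exact fixPtsF_spec W_114 798 7842 relc_114_2 v (by omega) (by omega)

set_option maxRecDepth 1000000 in
theorem walk_114 : ∀ v, walkT ctF (D.wlen 114) (D.wordP 114) v = W_114 v := by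
  intro v
  simp only [W_114, forceL_eq]
  rfl

theorem relw_114 : ∀ v, v < 8640 → walkT ctF (D.wlen 114) (D.wordP 114) v = v := by
  intro v hv
  rw [walk_114]
  exact relf_114 v hv

theorem relf_115 : ∀ v, v < 8640 → W_115 v = v := by
  intro v hv
  rcases Nat.lt_or_ge v 3921 with h | h
  · exact fixPtsF_spec W_115 3921 0 relc_115_0 v (by omega) (by omega)
  · rcases Nat.lt_or_ge v 7842 with h | h
    · exact fixPtsF_spec W_115 3921 3921 relc_115_1 v (by omega) (by omega)
    · exact fixPtsF_spec W_115 798 7842 relc_115_2 v (by omega) (by omega)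

set_option maxRecDepth 1000000 in
theorem walk_115 : ∀ v, walkT ctF (D.wlen 115) (D.wordP 115) v = W_115 v := by
  intro v
  simp only [W_115, forceL_eq]
  rfl

theorem relw_115 : ∀ v, v < 8640 → walkT ctF (D.wlen 115) (D.wordP 115) v = v := by
  intro v hv
  rw [walk_115]
  exact relf_115 v hv

theorem relf_116 : ∀ v, v < 8640 → W_116 v = v := by
  intro v hv
  rcases Nat.lt_or_ge v 3921 with h | h
  · exact fixPtsF_spec W_116 3921 0 relc_116_0 v (by omega) (by omega)
  · rcases Nat.lt_or_ge v 7842 with h | h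
    · exact fixPtsF_spec W_116 3921 3921 relc_116_1 v (by omega) (by omega)
    · exact fixPtsF_spec W_116 798 7842 relc_116_2 v (by omega) (by omega)

set_option maxRecDepth 1000000 in
theorem walk_116 : ∀ v, walkT ctF (D.wlen 116) (D.wordP 116) v = W_116 v := by
  intro v
  simp only [W_116, forceL_eq]
  rfl

theorem relw_116 : ∀ v, v < 8640 → walkT ctF (D.wlen 116) (D.wordP 116) v = v := by
  intro v hv
  rw [walk_116]
  exact relf_116 v hv

theorem relf_117 : ∀ v, v < 8640 → W_117 v = v := by
  intro v hv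
  rcases Nat.lt_or_ge v 3921 with h | h
  · exact fixPtsF_spec W_117 3921 0 relc_117_0 v (by omega) (by omega)
  · rcases Nat.lt_or_ge v 7842 with h | h
    · exact fixPtsF_spec W_117 3921 3921 relc_117_1 v (by omega) (by omega)
    · exact fixPtsF_spec W_117 798 7842 relc_117_2 v (by omega) (by omega)

set_option maxRecDepth 1000000 in
theorem walk_117 : ∀ v, walkT ctF (D.wlen 117) (D.wordP 117) v = W_117 v := by
  intro v
  simp only [W_117, forceL_eq]
  rfl

theorem relw_117 : ∀ v, v < 8640 → walkT ctF (D.wlen 117) (D.wordP 117) v = v := by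
  intro v hv
  rw [walk_117]
  exact relf_117 v hv

theorem relf_118 : ∀ v, v < 8640 → W_118 v = v := by
  intro v hv
  rcases Nat.lt_or_ge v 3703 with h | h
  · exact fixPtsF_spec W_118 3703 0 relc_118_0 v (by omega) (by omega)
  · rcases Nat.lt_or_ge v 7406 with h | h
    · exact fixPtsF_spec W_118 3703 3703 relc_118_1 v (by omega) (by omega)
    · exact fixPtsF_spec W_118 1234 7406 relc_118_2 v (by omega) (by omega)

set_option maxRecDepth 1000000 in
theorem walk_118 : ∀ v, walkT ctF (D.wlen 118) (D.wordP 118) v = W_118 v := by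
  intro v
  simp only [W_118, forceL_eq]
  rfl

theorem relw_118 : ∀ v, v < 8640 → walkT ctF (D.wlen 118) (D.wordP 118) v = v := by
  intro v hv
  rw [walk_118]
  exact relf_118 v hv

theorem relf_119 : ∀ v, v < 8640 → W_119 v = v := by
  intro v hv
  rcases Nat.lt_or_ge v 3703 with h | h
  · exact fixPtsF_spec W_119 3703 0 relc_119_0 v (by omega) (by omega)
  · rcases Nat.lt_or_ge v 7406 with h | h
    · exact fixPtsF_spec W_119 3703 3703 relc_119_1 v (by omega) (by omega)
    · exact fixPtsF_spec W_119 1234 7406 relc_119_2 v (by omega) (by omega)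

set_option maxRecDepth 1000000 in
theorem walk_119 : ∀ v, walkT ctF (D.wlen 119) (D.wordP 119) v = W_119 v := by
  intro v
  simp only [W_119, forceL_eq]
  rfl

theorem relw_119 : ∀ v, v < 8640 → walkT ctF (D.wlen 119) (D.wordP 119) v = v := by
  intro v hv
  rw [walk_119]
  exact relf_119 v hv

theorem relf_120 : ∀ v, v < 8640 → W_120 v = v := by
  intro v hv
  rcases Nat.lt_or_ge v 3703 with h | h
  · exact fixPtsF_spec W_120 3703 0 relc_120_0 v (by omega) (by omega)
  · rcases Nat.lt_or_ge v 7406 with h | h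
    · exact fixPtsF_spec W_120 3703 3703 relc_120_1 v (by omega) (by omega)
    · exact fixPtsF_spec W_120 1234 7406 relc_120_2 v (by omega) (by omega)

set_option maxRecDepth 1000000 in
theorem walk_120 : ∀ v, walkT ctF (D.wlen 120) (D.wordP 120) v = W_120 v := by
  intro v
  simp only [W_120, forceL_eq]
  rfl

theorem relw_120 : ∀ v, v < 8640 → walkT ctF (D.wlen 120) (D.wordP 120) v = v := by
  intro v hv
  rw [walk_120]
  exact relf_120 v hv

theorem relf_121 : ∀ v, v < 8640 → W_121 v = v := by
  intro v hv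
  rcases Nat.lt_or_ge v 3703 with h | h
  · exact fixPtsF_spec W_121 3703 0 relc_121_0 v (by omega) (by omega)
  · rcases Nat.lt_or_ge v 7406 with h | h
    · exact fixPtsF_spec W_121 3703 3703 relc_121_1 v (by omega) (by omega)
    · exact fixPtsF_spec W_121 1234 7406 relc_121_2 v (by omega) (by omega)

set_option maxRecDepth 1000000 in
theorem walk_121 : ∀ v, walkT ctF (D.wlen 121) (D.wordP 121) v = W_121 v := by
  intro v
  simp only [W_121, forceL_eq]
  rfl

theorem relw_121 : ∀ v, v < 8640 → walkT ctF (D.wlen 121) (D.wordP 121) v = v := by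
  intro v hv
  rw [walk_121]
  exact relf_121 v hv

theorem relf_122 : ∀ v, v < 8640 → W_122 v = v := by
  intro v hv
  rcases Nat.lt_or_ge v 3703 with h | h
  · exact fixPtsF_spec W_122 3703 0 relc_122_0 v (by omega) (by omega)
  · rcases Nat.lt_or_ge v 7406 with h | h
    · exact fixPtsF_spec W_122 3703 3703 relc_122_1 v (by omega) (by omega)
    · exact fixPtsF_spec W_122 1234 7406 relc_122_2 v (by omega) (by omega)

set_option maxRecDepth 1000000 in
theorem walk_122 : ∀ v, walkT ctF (D.wlen 122) (D.wordP 122) v = W_122 v := by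
  intro v
  simp only [W_122, forceL_eq]
  rfl

theorem relw_122 : ∀ v, v < 8640 → walkT ctF (D.wlen 122) (D.wordP 122) v = v := by
  intro v hv
  rw [walk_122]
  exact relf_122 v hv

theorem relf_123 : ∀ v, v < 8640 → W_123 v = v := by
  intro v hv
  rcases Nat.lt_or_ge v 3703 with h | h
  · exact fixPtsF_spec W_123 3703 0 relc_123_0 v (by omega) (by omega)
  · rcases Nat.lt_or_ge v 7406 with h | h
    · exact fixPtsF_spec W_123 3703 3703 relc_123_1 v (by omega) (by omega)
    · exact fixPtsF_spec W_123 1234 7406 relc_123_2 v (by omega) (by omega)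

set_option maxRecDepth 1000000 in
theorem walk_123 : ∀ v, walkT ctF (D.wlen 123) (D.wordP 123) v = W_123 v := by
  intro v
  simp only [W_123, forceL_eq]
  rfl

theorem relw_123 : ∀ v, v < 8640 → walkT ctF (D.wlen 123) (D.wordP 123) v = v := by
  intro v hv
  rw [walk_123]
  exact relf_123 v hv

theorem relf_124 : ∀ v, v < 8640 → W_124 v = v := by
  intro v hv
  rcases Nat.lt_or_ge v 3703 with h | h
  · exact fixPtsF_spec W_124 3703 0 relc_124_0 v (by omega) (by omega)
  · rcases Nat.lt_or_ge v 7406 with h | h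
    · exact fixPtsF_spec W_124 3703 3703 relc_124_1 v (by omega) (by omega)
    · exact fixPtsF_spec W_124 1234 7406 relc_124_2 v (by omega) (by omega)

set_option maxRecDepth 1000000 in
theorem walk_124 : ∀ v, walkT ctF (D.wlen 124) (D.wordP 124) v = W_124 v := by
  intro v
  simp only [W_124, forceL_eq]
  rfl

theorem relw_124 : ∀ v, v < 8640 → walkT ctF (D.wlen 124) (D.wordP 124) v = v := by
  intro v hv
  rw [walk_124]
  exact relf_124 v hv

theorem relf_125 : ∀ v, v < 8640 → W_125 v = v := by
  intro v hv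
  rcases Nat.lt_or_ge v 3703 with h | h
  · exact fixPtsF_spec W_125 3703 0 relc_125_0 v (by omega) (by omega)
  · rcases Nat.lt_or_ge v 7406 with h | h
    · exact fixPtsF_spec W_125 3703 3703 relc_125_1 v (by omega) (by omega)
    · exact fixPtsF_spec W_125 1234 7406 relc_125_2 v (by omega) (by omega)

set_option maxRecDepth 1000000 in
theorem walk_125 : ∀ v, walkT ctF (D.wlen 125) (D.wordP 125) v = W_125 v := by
  intro v
  simp only [W_125, forceL_eq]
  rfl

theorem relw_125 : ∀ v, v < 8640 → walkT ctF (D.wlen 125) (D.wordP 125) v = v := by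
  intro v hv
  rw [walk_125]
  exact relf_125 v hv

theorem invx_0 : ∀ v, v < 8640 → ctF 0 v < 8640 ∧ ctF 1 (ctF 0 v) = v := by
  intro v hv
  exact invRowFI_spec ctF 8640 0 1 8640 0 inv_0_0 v (by omega) (by omega)

theorem invx_1 : ∀ v, v < 8640 → ctF 1 v < 8640 ∧ ctF 0 (ctF 1 v) = v := by
  intro v hv
  exact invRowFI_spec ctF 8640 1 0 8640 0 inv_1_0 v (by omega) (by omega)

theorem invx_2 : ∀ v, v < 8640 → ctF 2 v < 8640 ∧ ctF 3 (ctF 2 v) = v := by
  intro v hv
  exact invRowFI_spec ctF 8640 2 3 8640 0 inv_2_0 v (by omega) (by omega)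

theorem invx_3 : ∀ v, v < 8640 → ctF 3 v < 8640 ∧ ctF 2 (ctF 3 v) = v := by
  intro v hv
  exact invRowFI_spec ctF 8640 3 2 8640 0 inv_3_0 v (by omega) (by omega)

theorem hconn : ∀ v, v < 8640 → v ≠ 0 → ∃ x, x < E.D.k ∧ ctF x v < v := by
  intro v hv
  exact connF_spec ctF 4 8640 0 conn_0 v (by omega) (by omega)

theorem hE : ∀ v, v < E.M → ∀ x, x < E.D.k → edgeOKI iota E x v = true := by
  intro v hv x hx
  have hv' : v < 35820 := hv
  have hx' : x < 4 := hx
  interval_cases x
  · exact edgesx_0 v hv'
  · exact edgesx_1 v hv'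
  · exact edgesx_2 v hv'
  · exact edgesx_3 v hv'

theorem hA : ∀ v, v < E.M → aliasOK E v = true := fun v hv => hA0 v hv

theorem hrows : ∀ v, v < E.M → tb RS v = true → rowOK2 E RS v E.D.k = true := fun v hv => hrows0 v hv

theorem hT : ∀ x, x < E.D.k → ∀ v, v < 8640 → ctF x v < 8640 ∧ ctF (iota x) (ctF x v) = v := by
  intro x hx
  have hx' : x < 4 := hx
  interval_cases x
  · exact invx_0
  · exact invx_1
  · exact invx_2
  · exact invx_3

theorem hltr : ∀ j, j < E.D.nw → lettersOK E.D.k (E.D.wlen j) (E.D.wordP j) = true :=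
  wordsOK_spec D D.nw words_ok

theorem hrelT : ∀ wi, wi < E.D.nrel → ∀ v, v < 8640 →
    walkT ctF (E.D.wlen wi) (E.D.wordP wi) v = v := by
  intro wi hwi
  have hwi' : wi < 126 := hwi
  interval_cases wi
  · exact relw_0
  · exact relw_1
  · exact relw_2
  · exact relw_3
  · exact relw_4
  · exact relw_5
  · exact relw_6
  · exact relw_7
  · exact relw_8
  · exact relw_9
  · exact relw_10
  · exact relw_11
  · exact relw_12
  · exact relw_13
  · exact relw_14
  · exact relw_15
  · exact relw_16
  · exact relw_17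
  · exact relw_18
  · exact relw_19
  · exact relw_20
  · exact relw_21
  · exact relw_22
  · exact relw_23
  · exact relw_24
  · exact relw_25
  · exact relw_26
  · exact relw_27
  · exact relw_28
  · exact relw_29
  · exact relw_30
  · exact relw_31
  · exact relw_32
  · exact relw_33
  · exact relw_34
  · exact relw_35
  · exact relw_36
  · exact relw_37
  · exact relw_38
  · exact relw_39
  · exact relw_40
  · exact relw_41
  · exact relw_42
  · exact relw_43
  · exact relw_44
  · exact relw_45
  · exact relw_46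
  · exact relw_47
  · exact relw_48
  · exact relw_49
  · exact relw_50
  · exact relw_51
  · exact relw_52
  · exact relw_53
  · exact relw_54
  · exact relw_55
  · exact relw_56
  · exact relw_57
  · exact relw_58
  · exact relw_59
  · exact relw_60
  · exact relw_61
  · exact relw_62
  · exact relw_63
  · exact relw_64
  · exact relw_65
  · exact relw_66
  · exact relw_67
  · exact relw_68
  · exact relw_69
  · exact relw_70
  · exact relw_71
  · exact relw_72
  · exact relw_73
  · exact relw_74
  · exact relw_75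
  · exact relw_76
  · exact relw_77
  · exact relw_78
  · exact relw_79
  · exact relw_80
  · exact relw_81
  · exact relw_82
  · exact relw_83
  · exact relw_84
  · exact relw_85
  · exact relw_86
  · exact relw_87
  · exact relw_88
  · exact relw_89
  · exact relw_90
  · exact relw_91
  · exact relw_92
  · exact relw_93
  · exact relw_94
  · exact relw_95
  · exact relw_96
  · exact relw_97
  · exact relw_98
  · exact relw_99
  · exact relw_100
  · exact relw_101
  · exact relw_102
  · exact relw_103
  · exact relw_104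
  · exact relw_105
  · exact relw_106
  · exact relw_107
  · exact relw_108
  · exact relw_109
  · exact relw_110
  · exact relw_111
  · exact relw_112
  · exact relw_113
  · exact relw_114
  · exact relw_115
  · exact relw_116
  · exact relw_117
  · exact relw_118
  · exact relw_119
  · exact relw_120
  · exact relw_121
  · exact relw_122
  · exact relw_123
  · exact relw_124
  · exact relw_125

theorem hsubT : ∀ wi, wi < E.D.nw → E.D.nrel ≤ wi →
    walkT ctF (E.D.wlen wi) (E.D.wordP wi) 0 = 0 :=
  subAll_spec ctF D D.nw sub_ok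

end Cfsg.Agent.Helper5.M12TTC
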