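import Mathlib
import Cfsg.Agent.Helper5.StemPE
import Cfsg.Agent.Helper5.StemPG
import Cfsg.Agent.Helper5.M12Gen
import Cfsg.Agent.Helper5.M12DTCSum
import Cfsg.Agent.Helper5.M12TTCSum

/-! generated: the Schur multiplier of the Mathieu group `M12` is cyclic of order 2 -/

set_option autoImplicit false

namespace Cfsg.Agent.Helper5.M12Cov

open Cfsg Cfsg.Agent.Helper9.OutM12
open Cfsg.Agent.Helper5.TC Cfsg.Agent.Helper5.TCI Cfsg.Agent.Helper5.LP Cfsg.Agent.Helper5.StemP

/-- the inverse letter. -/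
def iot (x : ℕ) : ℕ :=
  (bif Nat.beq x 0 then 1 else (bif Nat.beq x 1 then 0 else (bif Nat.beq x 2 then 3 else
    (bif Nat.beq x 3 then 2 else x))))

theorem iot_ge (x : ℕ) (hx : 16 ≤ x) : iot x = x := by
  unfold iot
  have h0 : Nat.beq x 0 = false := by
    apply Bool.eq_false_iff.mpr; intro hh; have := Nat.eq_of_beq_eq_true hh; omega
  have h1 : Nat.beq x 1 = false := by
    apply Bool.eq_false_iff.mpr; intro hh; have := Nat.eq_of_beq_eq_true hh; omega
  have h2 : Nat.beq x 2 = false := by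
    apply Bool.eq_false_iff.mpr; intro hh; have := Nat.eq_of_beq_eq_true hh; omega
  have h3 : Nat.beq x 3 = false := by
    apply Bool.eq_false_iff.mpr; intro hh; have := Nat.eq_of_beq_eq_true hh; omega
  simp only [h0, h1, h2, h3, cond_false]

theorem iot_iot : ∀ x, iot (iot x) = x := by
  intro x
  rcases Nat.lt_or_ge x 16 with h | h
  · interval_cases x <;> rfl
  · rw [iot_ge x h, iot_ge x h]

theorem iot_lt : ∀ x, x < 2 * 2 → iot x < 2 * 2 := by
  intro x hx
  interval_cases x <;> decide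

theorem iot_lt16 : ∀ x, x < 16 → iot x < 16 := by
  intro x hx
  interval_cases x <;> decide

/-- the relators of the covering presentation for the prime 2. -/
abbrev RD : List (List ℕ) := coverRels 2 mm CC CC 4

/-- the relators of the covering presentation for the prime 3. -/
abbrev RT : List (List ℕ) := coverRels 2 mm CC CC 3

set_option maxRecDepth 1000000 in
theorem wordsD : ∀ i (hi : i < (RD ++ letterWords 1).length),
    unpack (M12DTC.E.D.wlen i) (M12DTC.E.D.wordP i) = ((RD ++ letterWords 1)[i]).reverse :=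
  wordsMatchB_spec0 _ _ _ (by decide +kernel)

set_option maxRecDepth 1000000 in
theorem idxD : (para (2 * 2) RD 1).index = 17280 :=
  lp_indexI (ι := iot) iot_iot iot_lt iot_lt16 (by decide +kernel) (letterWords 1) M12DTC.E rfl rfl rfl
    (by decide +kernel) wordsD M12DTC.rev_ok M12DTC.hE M12DTC.hA M12DTC.set_ok M12DTC.hrows
    (by norm_num) M12DTC.hT M12DTC.hltr M12DTC.hrelT M12DTC.hsubT M12DTC.hconn

set_option maxRecDepth 1000000 in
theorem wordsT : ∀ i (hi : i < (RT ++ letterWords 1).length),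
    unpack (M12TTC.E.D.wlen i) (M12TTC.E.D.wordP i) = ((RT ++ letterWords 1)[i]).reverse :=
  wordsMatchB_spec0 _ _ _ (by decide +kernel)

set_option maxRecDepth 1000000 in
theorem idxT : (para (2 * 2) RT 1).index = 8640 :=
  lp_indexI (ι := iot) iot_iot iot_lt iot_lt16 (by decide +kernel) (letterWords 1) M12TTC.E rfl rfl rfl
    (by decide +kernel) wordsT M12TTC.rev_ok M12TTC.hE M12TTC.hA M12TTC.set_ok M12TTC.hrows
    (by norm_num) M12TTC.hT M12TTC.hltr M12TTC.hrelT M12TTC.hsubT M12TTC.hconn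

set_option maxRecDepth 1000000 in
theorem finD : Finite (CovG 2 mm CC CC 4) ∧ Nat.card (CovG 2 mm CC CC 4) ∣ 17280 * 11 :=
  card_dvd_base (m0 := 11) (by decide +kernel) (by norm_num) (by norm_num) idxD

set_option maxRecDepth 1000000 in
theorem finT : Finite (CovG 2 mm CC CC 3) ∧ Nat.card (CovG 2 mm CC CC 3) ∣ 8640 * 11 :=
  card_dvd_base (m0 := 11) (by decide +kernel) (by norm_num) (by norm_num) idxT

instance : Finite (CovG 2 mm CC CC 4) := finD.1

instance : Finite (CovG 2 mm CC CC 3) := finT.1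

theorem CC2_lt : ∀ r ∈ CC ++ CC, ∀ c ∈ r, c < 2 * 2 := by
  intro r hr
  rcases List.mem_append.mp hr with h | h <;> exact CC_lt r h

theorem CC2_rel : ∀ r ∈ CC ++ CC, (r.map (lval g)).prod = 1 := by
  intro r hr
  rcases List.mem_append.mp hr with h | h <;> exact CC_rel r h

theorem lettersD : LettersLt (2 * 2) RD := coverRels_lt 2 mm CC CC 4 CC2_lt

theorem tableD : TableOKI (2 * 2) 17280 iot M12DTC.ctF := tableOKI_of_cert rfl M12DTC.hT

theorem relsFixD : RelsFix RD 17280 M12DTC.ctF :=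
  relsFix_of_cert (letterWords 1) rfl wordsD M12DTC.hrelT

/-- the central words generating the kernel. -/
def ws : List (List ℕ) := [[1, 1, 1, 2, 1, 2, 1, 2, 1, 1, 1, 2, 2]]

theorem ws_flatten : ws.flatten = [1, 1, 1, 2, 1, 2, 1, 2, 1, 1, 1, 2, 2] := by decide

theorem z_ord : ∀ p : ℕ, p.Prime → p ∣ 2 → ev (2 * 2) RD ws.flatten ^ (2 / p) ≠ 1 := by
  intro p hp hp2
  have hA := actsOn_tableHomI iot_iot iot_lt lettersD tableD relsFixD
  have hp2' : p = 2 := (Nat.prime_dvd_prime_iff_eq hp Nat.prime_two).mp hp2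
  subst hp2'
  rw [ev_pow, ws_flatten]
  exact ne_one_of_move hA _ (by decide) 0 (by norm_num) (by decide +kernel)

theorem mm_cop2 : ∀ i, i < 2 → g i ^ mm i = 1 ∧ (mm i).Coprime (2 ^ 6) := by
  intro i hi
  refine ⟨g_pow i hi, ?_⟩
  interval_cases i <;> decide

theorem mm_cop3 : ∀ i, i < 2 → g i ^ mm i = 1 ∧ (mm i).Coprime (3 ^ 3) := by
  intro i hi
  refine ⟨g_pow i hi, ?_⟩
  interval_cases i <;> decide

theorem bound (Γ : Type) [Group Γ] [Finite Γ] (σ : Γ →* ↥Spor.M12)
    (hσ : Cfsg.IsStemExtension σ) : Nat.card σ.ker ∣ 2 := by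
  have hc := hσ.2.1
  have : Finite (LPG (2 * 2) (coverRels 2 mm CC CC (2 ^ 2))) := finD.1
  have : Finite (LPG (2 * 2) (coverRels 2 mm CC CC (3 ^ 1))) := finT.1
  have h2 : Nat.card (qmap σ hc 1485).ker ∣ 2 :=
    card_qmap_ker_dvd_of_pow σ hσ hc 2 Nat.prime_two 6 2 1485 (by rw [card_M12]; norm_num)
      2 mm CC CC CC2_lt g g_closure mm_cop2 CC2_rel 2
      (by rw [card_M12]; exact finD.2) (by decide)
  have h3 : Nat.card (qmap σ hc 3520).ker ∣ 1 :=
    card_qmap_ker_dvd_of_pow σ hσ hc 3 Nat.prime_three 3 1 3520 (by rw [card_M12]; norm_num)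
      2 mm CC CC CC2_lt g g_closure mm_cop3 CC2_rel 1
      (by rw [card_M12]; exact finT.2) (by decide)
  have h3' : (qmap σ hc 3520).ker = ⊥ :=
    Subgroup.eq_bot_of_card_eq _ (Nat.eq_one_of_dvd_one h3)
  have h4 : ∀ z ∈ σ.ker, z ^ 3520 = 1 := pow_eq_one_of_qmap_ker σ hc 3520 h3'
  have h5 : ∀ z ∈ σ.ker, z ^ 1485 = 1 → z = 1 := by
    intro z hz hz1
    have h55 : z ^ Nat.gcd 3520 1485 = 1 := pow_gcd_eq_one.mpr ⟨h4 z hz, hz1⟩
    have e55 : Nat.gcd 3520 1485 = 55 := by decide
    rw [e55] at h55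
    refine eq_one_of_pow_eq_one σ hσ 55 ?_ z hz h55
    intro q hq hq55
    rw [card_M12]
    have hle : q ≤ 55 := Nat.le_of_dvd (by norm_num) hq55
    interval_cases q <;>
      first | exact absurd hq (by decide) | exact absurd hq55 (by decide) | decide
  rw [← card_qmap_ker σ hc 1485 h5]
  exact h2

theorem main : Cfsg.HasCyclicSchurMultiplier ↥Spor.M12 2 :=
  hasCyclic_of_coverRels 2 (by decide +kernel) bound 2 mm CC CC 4 CC2_lt g g_closure g_pow CC2_rel
    (by rw [card_M12]; exact finD.2) ws (by decide) z_ord 55 (by decide) (by decide)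

end Cfsg.Agent.Helper5.M12Cov
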