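import Cfsg.Agent.Helper5.M12DTCDatD
import Cfsg.Agent.Helper5.TCIB

/-! kernel checks of edges, aliases, rows: M12DTC -/

set_option autoImplicit false
set_option Elab.async false

namespace Cfsg.Agent.Helper5.M12DTC
open Cfsg.Agent.Helper5.TC Cfsg.Agent.Helper5.TCI

set_option maxRecDepth 1000000 in
theorem cnt_0 : cntFrom RS 20000 0 0 = 4938 := by decide +kernel

set_option maxRecDepth 1000000 in
theorem cnt_2 : cntFrom RS 20000 40000 0 = 2160 := by decide +kernel

set_option maxRecDepth 1000000 in
theorem cnt_4 : cntFrom RS 20000 80000 0 = 821 := by decide +kernel

set_option maxRecDepth 1000000 in
theorem cnt_6 : cntFrom RS 20000 120000 0 = 1127 := by decide +kernel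

set_option maxRecDepth 1000000 in
theorem cnt_8 : cntFrom RS 20000 160000 0 = 495 := by decide +kernel

set_option maxRecDepth 1000000 in
theorem edges_0_5 : edgesRangeI iota E 0 2562 13065 = true := by decide +kernel

set_option maxRecDepth 1000000 in
theorem edges_3_9 : edgesRangeI iota E 3 1973 20356 = true := by decide +kernel

set_option maxRecDepth 1000000 in
theorem aliases_51 : aliasRange E 1920 104490 = true := by decide +kernel

set_option maxRecDepth 1000000 in
theorem edges_2_90 : edgesRangeI iota E 2 2285 178949 = true := by decide +kernel

set_option maxRecDepth 1000000 in
theorem edges_2_87 : edgesRangeI iota E 2 2161 172213 = true := by decide +kernel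

set_option maxRecDepth 1000000 in
theorem edges_1_65 : edgesRangeI iota E 1 2699 178411 = true := by decide +kernel

set_option maxRecDepth 1000000 in
theorem edges_2_32 : edgesRangeI iota E 2 1992 59546 = true := by decide +kernel

set_option maxRecDepth 1000000 in
theorem edges_2_94 : edgesRangeI iota E 2 2300 188695 = true := by decide +kernel

set_option maxRecDepth 1000000 in
theorem edges_0_19 : edgesRangeI iota E 0 2325 49858 = true := by decide +kernel

set_option maxRecDepth 1000000 in
theorem edges_1_14 : edgesRangeI iota E 1 2361 38411 = true := by decide +kernel

set_option maxRecDepth 1000000 in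
theorem edges_1_43 : edgesRangeI iota E 1 2606 120136 = true := by decide +kernel

set_option maxRecDepth 1000000 in
theorem edges_2_36 : edgesRangeI iota E 2 2269 67397 = true := by decide +kernel

set_option maxRecDepth 1000000 in
theorem edges_2_83 : edgesRangeI iota E 2 2251 163575 = true := by decide +kernel

set_option maxRecDepth 1000000 in
theorem edges_2_21 : edgesRangeI iota E 2 1660 37806 = true := by decide +kernel

set_option maxRecDepth 1000000 in
theorem edges_3_28 : edgesRangeI iota E 3 2463 63853 = true := by decide +kernel

set_option maxRecDepth 1000000 in
theorem edges_1_27 : edgesRangeI iota E 1 2298 74321 = true := by decide +kernel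

set_option maxRecDepth 1000000 in
theorem edges_2_7 : edgesRangeI iota E 2 1780 12906 = true := by decide +kernel

set_option maxRecDepth 1000000 in
theorem edges_2_89 : edgesRangeI iota E 2 2240 176709 = true := by decide +kernel

set_option maxRecDepth 1000000 in
theorem edges_3_75 : edgesRangeI iota E 3 2134 175184 = true := by decide +kernel

set_option maxRecDepth 1000000 in
theorem edges_2_88 : edgesRangeI iota E 2 2335 174374 = true := by decide +kernel

set_option maxRecDepth 1000000 in
theorem edges_3_43 : edgesRangeI iota E 3 2428 101445 = true := by decide +kernel

set_option maxRecDepth 1000000 in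
theorem edges_0_34 : edgesRangeI iota E 0 2965 88188 = true := by decide +kernel

set_option maxRecDepth 1000000 in
theorem edges_3_5 : edgesRangeI iota E 3 2089 11763 = true := by decide +kernel

set_option maxRecDepth 1000000 in
theorem edges_0_47 : edgesRangeI iota E 0 2340 123333 = true := by decide +kernel

set_option maxRecDepth 1000000 in
theorem edges_2_30 : edgesRangeI iota E 2 2287 55534 = true := by decide +kernel

set_option maxRecDepth 1000000 in
theorem edges_2_86 : edgesRangeI iota E 2 2228 169985 = true := by decide +kernel

set_option maxRecDepth 1000000 in
theorem edges_0_16 : edgesRangeI iota E 0 2608 41520 = true := by decide +kernel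

set_option maxRecDepth 1000000 in
theorem edges_0_60 : edgesRangeI iota E 0 2520 156856 = true := by decide +kernel

set_option maxRecDepth 1000000 in
theorem edges_1_55 : edgesRangeI iota E 1 2333 152436 = true := by decide +kernel

set_option maxRecDepth 1000000 in
theorem edges_3_33 : edgesRangeI iota E 3 2206 75140 = true := by decide +kernel

set_option maxRecDepth 1000000 in
theorem edges_3_84 : edgesRangeI iota E 3 2447 198216 = true := by decide +kernel

set_option maxRecDepth 1000000 in
theorem edges_2_6 : edgesRangeI iota E 2 1587 11319 = true := by decide +kernel

set_option maxRecDepth 1000000 in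
theorem edges_2_100 : edgesRangeI iota E 2 2153 203024 = true := by decide +kernel

set_option maxRecDepth 1000000 in
theorem edges_1_47 : edgesRangeI iota E 1 2882 130581 = true := by decide +kernel

set_option maxRecDepth 1000000 in
theorem edges_3_24 : edgesRangeI iota E 3 2654 54633 = true := by decide +kernel

set_option maxRecDepth 1000000 in
theorem edges_1_4 : edgesRangeI iota E 1 2639 11498 = true := by decide +kernel

set_option maxRecDepth 1000000 in
theorem edges_1_69 : edgesRangeI iota E 1 2389 189853 = true := by decide +kernel

set_option maxRecDepth 1000000 in
theorem edges_2_37 : edgesRangeI iota E 2 1921 69666 = true := by decide +kernel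

set_option maxRecDepth 1000000 in
theorem edges_3_57 : edgesRangeI iota E 3 2930 133000 = true := by decide +kernel

set_option maxRecDepth 1000000 in
theorem edges_0_64 : edgesRangeI iota E 0 2740 167500 = true := by decide +kernel

set_option maxRecDepth 1000000 in
theorem edges_2_77 : edgesRangeI iota E 2 1836 151160 = true := by decide +kernel

set_option maxRecDepth 1000000 in
theorem edges_3_29 : edgesRangeI iota E 3 2455 66316 = true := by decide +kernel

set_option maxRecDepth 1000000 in
theorem edges_1_44 : edgesRangeI iota E 1 2389 122742 = true := by decide +kernel

set_option maxRecDepth 1000000 in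
theorem edges_3_46 : edgesRangeI iota E 3 1977 108890 = true := by decide +kernel

set_option maxRecDepth 1000000 in
theorem edges_3_79 : edgesRangeI iota E 3 2474 185185 = true := by decide +kernel

set_option maxRecDepth 1000000 in
theorem edges_2_24 : edgesRangeI iota E 2 1781 42896 = true := by decide +kernel

set_option maxRecDepth 1000000 in
theorem edges_2_78 : edgesRangeI iota E 2 1822 152996 = true := by decide +kernel

set_option maxRecDepth 1000000 in
theorem edges_2_98 : edgesRangeI iota E 2 2298 198340 = true := by decide +kernel

set_option maxRecDepth 1000000 in
theorem edges_3_1 : edgesRangeI iota E 3 2443 2925 = true := by decide +kernel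

set_option maxRecDepth 1000000 in
theorem edges_3_50 : edgesRangeI iota E 3 2447 116722 = true := by decide +kernel

set_option maxRecDepth 1000000 in
theorem edges_0_63 : edgesRangeI iota E 0 2903 164597 = true := by decide +kernel

set_option maxRecDepth 1000000 in
theorem edges_2_63 : edgesRangeI iota E 2 2167 121890 = true := by decide +kernel

set_option maxRecDepth 1000000 in
theorem edges_2_39 : edgesRangeI iota E 2 1813 73147 = true := by decide +kernel

set_option maxRecDepth 1000000 in
theorem edges_2_75 : edgesRangeI iota E 2 2050 147292 = true := by decide +kernel

set_option maxRecDepth 1000000 in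
theorem edges_3_82 : edgesRangeI iota E 3 2316 192626 = true := by decide +kernel

set_option maxRecDepth 1000000 in
theorem edges_0_18 : edgesRangeI iota E 0 2629 47229 = true := by decide +kernel

set_option maxRecDepth 1000000 in
theorem edges_0_48 : edgesRangeI iota E 0 2551 125673 = true := by decide +kernel

set_option maxRecDepth 1000000 in
theorem edges_1_9 : edgesRangeI iota E 1 2663 24593 = true := by decide +kernel

set_option maxRecDepth 1000000 in
theorem edges_3_61 : edgesRangeI iota E 3 2203 142694 = true := by decide +kernel

set_option maxRecDepth 1000000 in
theorem edges_0_54 : edgesRangeI iota E 0 2717 141602 = true := by decide +kernel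

set_option maxRecDepth 1000000 in
theorem edges_0_74 : edgesRangeI iota E 0 2758 193697 = true := by decide +kernel

set_option maxRecDepth 1000000 in
theorem edges_1_70 : edgesRangeI iota E 1 2874 192242 = true := by decide +kernel

set_option maxRecDepth 1000000 in
theorem edges_0_42 : edgesRangeI iota E 0 2567 110596 = true := by decide +kernel

set_option maxRecDepth 1000000 in
theorem edges_2_0 : edgesRangeI iota E 2 2160 0 = true := by decide +kernel

set_option maxRecDepth 1000000 in
theorem edges_2_41 : edgesRangeI iota E 2 1986 76806 = true := by decide +kernel

set_option maxRecDepth 1000000 in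
theorem edges_3_20 : edgesRangeI iota E 3 2675 44580 = true := by decide +kernel

set_option maxRecDepth 1000000 in
theorem edges_3_71 : edgesRangeI iota E 3 2224 165898 = true := by decide +kernel

set_option maxRecDepth 1000000 in
theorem edges_0_3 : edgesRangeI iota E 0 2431 8146 = true := by decide +kernel

set_option maxRecDepth 1000000 in
theorem edges_0_22 : edgesRangeI iota E 0 2279 57254 = true := by decide +kernel

set_option maxRecDepth 1000000 in
theorem edges_1_53 : edgesRangeI iota E 1 2682 147526 = true := by decide +kernel

set_option maxRecDepth 1000000 in
theorem edges_2_42 : edgesRangeI iota E 2 1880 78792 = true := by decide +kernel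

set_option maxRecDepth 1000000 in
theorem edges_1_10 : edgesRangeI iota E 1 2888 27256 = true := by decide +kernel

set_option maxRecDepth 1000000 in
theorem edges_3_53 : edgesRangeI iota E 3 2203 123213 = true := by decide +kernel

set_option maxRecDepth 1000000 in
theorem edges_0_9 : edgesRangeI iota E 0 2695 23101 = true := by decide +kernel

set_option maxRecDepth 1000000 in
theorem edges_0_51 : edgesRangeI iota E 0 3131 133428 = true := by decide +kernel

set_option maxRecDepth 1000000 in
theorem edges_1_54 : edgesRangeI iota E 1 2228 150208 = true := by decide +kernel

set_option maxRecDepth 1000000 in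
theorem edges_3_70 : edgesRangeI iota E 3 2487 163411 = true := by decide +kernel

set_option maxRecDepth 1000000 in
theorem edges_1_42 : edgesRangeI iota E 1 3023 117113 = true := by decide +kernel

set_option maxRecDepth 1000000 in
theorem edges_2_18 : edgesRangeI iota E 2 1712 32525 = true := by decide +kernel

set_option maxRecDepth 1000000 in
theorem edges_2_26 : edgesRangeI iota E 2 2947 46779 = true := by decide +kernel

set_option maxRecDepth 1000000 in
theorem edges_3_21 : edgesRangeI iota E 3 3231 47255 = true := by decide +kernel

set_option maxRecDepth 1000000 in
theorem edges_3_67 : edgesRangeI iota E 3 2707 156080 = true := by decide +kernel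

set_option maxRecDepth 1000000 in
theorem edges_0_6 : edgesRangeI iota E 0 2352 15627 = true := by decide +kernel

set_option maxRecDepth 1000000 in
theorem edges_2_61 : edgesRangeI iota E 2 2227 117767 = true := by decide +kernel

set_option maxRecDepth 1000000 in
theorem edges_1_31 : edgesRangeI iota E 1 2937 85561 = true := by decide +kernel

set_option maxRecDepth 1000000 in
theorem edges_2_15 : edgesRangeI iota E 2 2104 26773 = true := by decide +kernel

set_option maxRecDepth 1000000 in
theorem edges_2_64 : edgesRangeI iota E 2 1928 124057 = true := by decide +kernel

set_option maxRecDepth 1000000 in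
theorem edges_3_52 : edgesRangeI iota E 3 1929 121284 = true := by decide +kernel

set_option maxRecDepth 1000000 in
theorem edges_3_38 : edgesRangeI iota E 3 2559 87486 = true := by decide +kernel

set_option maxRecDepth 1000000 in
theorem edges_0_33 : edgesRangeI iota E 0 3121 85067 = true := by decide +kernel

set_option maxRecDepth 1000000 in
theorem edges_1_34 : edgesRangeI iota E 1 2939 95250 = true := by decide +kernel

set_option maxRecDepth 1000000 in
theorem edges_2_33 : edgesRangeI iota E 2 1855 61538 = true := by decide +kernel

set_option maxRecDepth 1000000 in
theorem edges_2_66 : edgesRangeI iota E 2 2306 128277 = true := by decide +kernel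

set_option maxRecDepth 1000000 in
theorem edges_3_10 : edgesRangeI iota E 3 2020 22329 = true := by decide +kernel

set_option maxRecDepth 1000000 in
theorem aliases_47 : aliasRange E 1879 96775 = true := by decide +kernel

set_option maxRecDepth 1000000 in
theorem edges_2_23 : edgesRangeI iota E 2 1650 41246 = true := by decide +kernel

set_option maxRecDepth 1000000 in
theorem edges_2_92 : edgesRangeI iota E 2 2497 183758 = true := by decide +kernel

set_option maxRecDepth 1000000 in
theorem edges_3_42 : edgesRangeI iota E 3 2645 98800 = true := by decide +kernel

set_option maxRecDepth 1000000 in
theorem edges_3_86 : edgesRangeI iota E 3 1592 203708 = true := by decide +kernel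

set_option maxRecDepth 1000000 in
theorem aliases_5 : aliasRange E 2232 11505 = true := by decide +kernel

set_option maxRecDepth 1000000 in
theorem aliases_17 : aliasRange E 2082 37366 = true := by decide +kernel

set_option maxRecDepth 1000000 in
theorem aliases_31 : aliasRange E 2006 65748 = true := by decide +kernel

set_option maxRecDepth 1000000 in
theorem aliases_40 : aliasRange E 1894 83406 = true := by decide +kernel

set_option maxRecDepth 1000000 in
theorem aliases_52 : aliasRange E 2036 106410 = true := by decide +kernel

set_option maxRecDepth 1000000 in
theorem aliases_62 : aliasRange E 1900 126031 = true := by decide +kernel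

set_option maxRecDepth 1000000 in
theorem aliases_74 : aliasRange E 1825 148711 = true := by decide +kernel

set_option maxRecDepth 1000000 in
theorem aliases_89 : aliasRange E 1695 176758 = true := by decide +kernel

set_option maxRecDepth 1000000 in
theorem aliases_95 : aliasRange E 1855 187463 = true := by decide +kernel

set_option maxRecDepth 1000000 in
theorem aliases_101 : aliasRange E 1811 198705 = true := by decide +kernel

set_option maxRecDepth 1000000 in
theorem edges_0_10 : edgesRangeI iota E 0 2499 25796 = true := by decide +kernel

set_option maxRecDepth 1000000 in
theorem edges_0_26 : edgesRangeI iota E 0 2237 67184 = true := by decide +kernel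

set_option maxRecDepth 1000000 in
theorem edges_2_16 : edgesRangeI iota E 2 1830 28877 = true := by decide +kernel

set_option maxRecDepth 1000000 in
theorem edges_2_35 : edgesRangeI iota E 2 2061 65336 = true := by decide +kernel

set_option maxRecDepth 1000000 in
theorem edges_2_44 : edgesRangeI iota E 2 2544 82582 = true := by decide +kernel

set_option maxRecDepth 1000000 in
theorem edges_2_73 : edgesRangeI iota E 2 2161 142980 = true := by decide +kernel

set_option maxRecDepth 1000000 in
theorem edges_3_13 : edgesRangeI iota E 3 2380 28907 = true := by decide +kernel

set_option maxRecDepth 1000000 in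
theorem aliases_2 : aliasRange E 2299 4454 = true := by decide +kernel

set_option maxRecDepth 1000000 in
theorem aliases_11 : aliasRange E 2133 24886 = true := by decide +kernel

set_option maxRecDepth 1000000 in
theorem aliases_16 : aliasRange E 2161 35205 = true := by decide +kernel

set_option maxRecDepth 1000000 in
theorem aliases_20 : aliasRange E 1972 43707 = true := by decide +kernel

set_option maxRecDepth 1000000 in
theorem aliases_29 : aliasRange E 1994 61746 = true := by decide +kernel

set_option maxRecDepth 1000000 in
theorem aliases_42 : aliasRange E 1877 87200 = true := by decide +kernel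

set_option maxRecDepth 1000000 in
theorem aliases_69 : aliasRange E 1877 139283 = true := by decide +kernel

set_option maxRecDepth 1000000 in
theorem aliases_72 : aliasRange E 1891 144958 = true := by decide +kernel

set_option maxRecDepth 1000000 in
theorem aliases_85 : aliasRange E 1878 169540 = true := by decide +kernel

set_option maxRecDepth 1000000 in
theorem aliases_87 : aliasRange E 1700 173238 = true := by decide +kernel

set_option maxRecDepth 1000000 in
theorem edges_0_40 : edgesRangeI iota E 0 2679 105063 = true := by decide +kernel

set_option maxRecDepth 1000000 in
theorem edges_1_8 : edgesRangeI iota E 1 2200 22393 = true := by decide +kernel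

set_option maxRecDepth 1000000 in
theorem edges_1_57 : edgesRangeI iota E 1 2663 157331 = true := by decide +kernel

set_option maxRecDepth 1000000 in
theorem edges_2_4 : edgesRangeI iota E 2 1561 8124 = true := by decide +kernel

set_option maxRecDepth 1000000 in
theorem edges_3_55 : edgesRangeI iota E 3 2410 128077 = true := by decide +kernel

set_option maxRecDepth 1000000 in
theorem edges_3_83 : edgesRangeI iota E 3 3274 194942 = true := by decide +kernel

set_option maxRecDepth 1000000 in
theorem aliases_33 : aliasRange E 1911 69727 = true := by decide +kernel

set_option maxRecDepth 1000000 in
theorem aliases_46 : aliasRange E 1941 94834 = true := by decide +kernel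

set_option maxRecDepth 1000000 in
theorem aliases_54 : aliasRange E 1945 110427 = true := by decide +kernel

set_option maxRecDepth 1000000 in
theorem aliases_57 : aliasRange E 1994 116355 = true := by decide +kernel

set_option maxRecDepth 1000000 in
theorem aliases_61 : aliasRange E 1879 124152 = true := by decide +kernel

set_option maxRecDepth 1000000 in
theorem aliases_65 : aliasRange E 1960 131615 = true := by decide +kernel

set_option maxRecDepth 1000000 in
theorem aliases_102 : aliasRange E 1763 200516 = true := by decide +kernel

set_option maxRecDepth 1000000 in
theorem edges_0_13 : edgesRangeI iota E 0 2286 33933 = true := by decide +kernel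

set_option maxRecDepth 1000000 in
theorem edges_0_27 : edgesRangeI iota E 0 2702 69421 = true := by decide +kernel

set_option maxRecDepth 1000000 in
theorem edges_0_56 : edgesRangeI iota E 0 2560 146687 = true := by decide +kernel

set_option maxRecDepth 1000000 in
theorem edges_1_45 : edgesRangeI iota E 1 2880 125131 = true := by decide +kernel

set_option maxRecDepth 1000000 in
theorem edges_1_51 : edgesRangeI iota E 1 2618 142120 = true := by decide +kernel

set_option maxRecDepth 1000000 in
theorem edges_1_64 : edgesRangeI iota E 1 2498 175913 = true := by decide +kernel

set_option maxRecDepth 1000000 in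
theorem edges_2_3 : edgesRangeI iota E 2 2029 6095 = true := by decide +kernel

set_option maxRecDepth 1000000 in
theorem edges_2_19 : edgesRangeI iota E 2 1678 34237 = true := by decide +kernel

set_option maxRecDepth 1000000 in
theorem edges_2_58 : edgesRangeI iota E 2 1657 112466 = true := by decide +kernel

set_option maxRecDepth 1000000 in
theorem edges_3_7 : edgesRangeI iota E 3 2237 16329 = true := by decide +kernel

set_option maxRecDepth 1000000 in
theorem edges_3_37 : edgesRangeI iota E 3 3187 84299 = true := by decide +kernel

set_option maxRecDepth 1000000 in
theorem aliases_4 : aliasRange E 2347 9158 = true := by decide +kernel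

set_option maxRecDepth 1000000 in
theorem aliases_24 : aliasRange E 2140 51577 = true := by decide +kernel

set_option maxRecDepth 1000000 in
theorem aliases_30 : aliasRange E 2008 63740 = true := by decide +kernel

set_option maxRecDepth 1000000 in
theorem aliases_34 : aliasRange E 1999 71638 = true := by decide +kernel

set_option maxRecDepth 1000000 in
theorem aliases_38 : aliasRange E 1999 79476 = true := by decide +kernel

set_option maxRecDepth 1000000 in
theorem aliases_50 : aliasRange E 1919 102571 = true := by decide +kernel

set_option maxRecDepth 1000000 in
theorem aliases_59 : aliasRange E 2031 120298 = true := by decide +kernel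

set_option maxRecDepth 1000000 in
theorem aliases_90 : aliasRange E 1782 178453 = true := by decide +kernel

set_option maxRecDepth 1000000 in
theorem aliases_94 : aliasRange E 1834 185629 = true := by decide +kernel

set_option maxRecDepth 1000000 in
theorem edges_0_12 : edgesRangeI iota E 0 2833 31100 = true := by decide +kernel

set_option maxRecDepth 1000000 in
theorem edges_0_20 : edgesRangeI iota E 0 2831 52183 = true := by decide +kernel

set_option maxRecDepth 1000000 in
theorem edges_0_23 : edgesRangeI iota E 0 2628 59533 = true := by decide +kernel

set_option maxRecDepth 1000000 in
theorem edges_0_25 : edgesRangeI iota E 0 2441 64743 = true := by decide +kernel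

set_option maxRecDepth 1000000 in
theorem edges_0_31 : edgesRangeI iota E 0 2853 79797 = true := by decide +kernel

set_option maxRecDepth 1000000 in
theorem edges_0_43 : edgesRangeI iota E 0 2324 113163 = true := by decide +kernel

set_option maxRecDepth 1000000 in
theorem edges_0_49 : edgesRangeI iota E 0 2708 128224 = true := by decide +kernel

set_option maxRecDepth 1000000 in
theorem edges_0_57 : edgesRangeI iota E 0 2418 149247 = true := by decide +kernel

set_option maxRecDepth 1000000 in
theorem edges_0_61 : edgesRangeI iota E 0 2408 159376 = true := by decide +kernel

set_option maxRecDepth 1000000 in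
theorem edges_0_65 : edgesRangeI iota E 0 2616 170240 = true := by decide +kernel

set_option maxRecDepth 1000000 in
theorem edges_0_68 : edgesRangeI iota E 0 2758 177902 = true := by decide +kernel

set_option maxRecDepth 1000000 in
theorem edges_0_72 : edgesRangeI iota E 0 2787 188541 = true := by decide +kernel

set_option maxRecDepth 1000000 in
theorem edges_0_76 : edgesRangeI iota E 0 2501 199284 = true := by decide +kernel

set_option maxRecDepth 1000000 in
theorem edges_1_1 : edgesRangeI iota E 1 3129 2733 = true := by decide +kernel

set_option maxRecDepth 1000000 in
theorem edges_1_6 : edgesRangeI iota E 1 2729 16923 = true := by decide +kernel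

set_option maxRecDepth 1000000 in
theorem edges_1_11 : edgesRangeI iota E 1 2865 30144 = true := by decide +kernel

set_option maxRecDepth 1000000 in
theorem edges_1_13 : edgesRangeI iota E 1 2966 35445 = true := by decide +kernel

set_option maxRecDepth 1000000 in
theorem edges_1_17 : edgesRangeI iota E 1 4197 45651 = true := by decide +kernel

set_option maxRecDepth 1000000 in
theorem edges_1_22 : edgesRangeI iota E 1 2528 60742 = true := by decide +kernel

set_option maxRecDepth 1000000 in
theorem edges_1_26 : edgesRangeI iota E 1 2540 71781 = true := by decide +kernel

set_option maxRecDepth 1000000 in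
theorem edges_1_30 : edgesRangeI iota E 1 3327 82234 = true := by decide +kernel

set_option maxRecDepth 1000000 in
theorem edges_1_36 : edgesRangeI iota E 1 2902 101174 = true := by decide +kernel

set_option maxRecDepth 1000000 in
theorem edges_1_38 : edgesRangeI iota E 1 2830 106999 = true := by decide +kernel

set_option maxRecDepth 1000000 in
theorem edges_1_46 : edgesRangeI iota E 1 2570 128011 = true := by decide +kernel

set_option maxRecDepth 1000000 in
theorem edges_1_59 : edgesRangeI iota E 1 2533 162223 = true := by decide +kernel

set_option maxRecDepth 1000000 in
theorem edges_1_62 : edgesRangeI iota E 1 2728 170371 = true := by decide +kernel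

set_option maxRecDepth 1000000 in
theorem edges_1_73 : edgesRangeI iota E 1 2972 201593 = true := by decide +kernel

set_option maxRecDepth 1000000 in
theorem edges_2_11 : edgesRangeI iota E 2 1709 20136 = true := by decide +kernel

set_option maxRecDepth 1000000 in
theorem edges_2_28 : edgesRangeI iota E 2 1809 51771 = true := by decide +kernel

set_option maxRecDepth 1000000 in
theorem edges_2_34 : edgesRangeI iota E 2 1943 63393 = true := by decide +kernel

set_option maxRecDepth 1000000 in
theorem edges_2_49 : edgesRangeI iota E 2 2707 92922 = true := by decide +kernel

set_option maxRecDepth 1000000 in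
theorem edges_2_54 : edgesRangeI iota E 2 2307 104757 = true := by decide +kernel

set_option maxRecDepth 1000000 in
theorem edges_2_62 : edgesRangeI iota E 2 1896 119994 = true := by decide +kernel

set_option maxRecDepth 1000000 in
theorem edges_2_69 : edgesRangeI iota E 2 2355 134955 = true := by decide +kernel

set_option maxRecDepth 1000000 in
theorem edges_2_72 : edgesRangeI iota E 2 1812 141168 = true := by decide +kernel

set_option maxRecDepth 1000000 in
theorem edges_2_79 : edgesRangeI iota E 2 2245 154818 = true := by decide +kernel

set_option maxRecDepth 1000000 in
theorem edges_2_85 : edgesRangeI iota E 2 2260 167725 = true := by decide +kernel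

set_option maxRecDepth 1000000 in
theorem edges_2_93 : edgesRangeI iota E 2 2440 186255 = true := by decide +kernel

set_option maxRecDepth 1000000 in
theorem edges_3_2 : edgesRangeI iota E 3 2578 5368 = true := by decide +kernel

set_option maxRecDepth 1000000 in
theorem edges_3_8 : edgesRangeI iota E 3 1790 18566 = true := by decide +kernel

set_option maxRecDepth 1000000 in
theorem edges_3_12 : edgesRangeI iota E 3 2357 26550 = true := by decide +kernel

set_option maxRecDepth 1000000 in
theorem edges_3_23 : edgesRangeI iota E 3 2009 52624 = true := by decide +kernel

set_option maxRecDepth 1000000 in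
theorem edges_3_31 : edgesRangeI iota E 3 1907 71006 = true := by decide +kernel

set_option maxRecDepth 1000000 in
theorem edges_3_40 : edgesRangeI iota E 3 3013 93409 = true := by decide +kernel

set_option maxRecDepth 1000000 in
theorem edges_3_49 : edgesRangeI iota E 3 1962 114760 = true := by decide +kernel

set_option maxRecDepth 1000000 in
theorem edges_3_59 : edgesRangeI iota E 3 2023 138414 = true := by decide +kernel

set_option maxRecDepth 1000000 in
theorem edges_3_73 : edgesRangeI iota E 3 2282 170308 = true := by decide +kernel

set_option maxRecDepth 1000000 in
theorem edges_3_80 : edgesRangeI iota E 3 2821 187659 = true := by decide +kernel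

set_option maxRecDepth 1000000 in
theorem aliases_0 : aliasRange E 2340 0 = true := by decide +kernel

set_option maxRecDepth 1000000 in
theorem aliases_9 : aliasRange E 2232 20496 = true := by decide +kernel

set_option maxRecDepth 1000000 in
theorem aliases_15 : aliasRange E 2084 33121 = true := by decide +kernel

set_option maxRecDepth 1000000 in
theorem aliases_23 : aliasRange E 1982 49595 = true := by decide +kernel

set_option maxRecDepth 1000000 in
theorem aliases_28 : aliasRange E 1934 59812 = true := by decide +kernel

set_option maxRecDepth 1000000 in
theorem aliases_44 : aliasRange E 1892 91012 = true := by decide +kernel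

set_option maxRecDepth 1000000 in
theorem aliases_55 : aliasRange E 1971 112372 = true := by decide +kernel

set_option maxRecDepth 1000000 in
theorem aliases_67 : aliasRange E 1936 135560 = true := by decide +kernel

set_option maxRecDepth 1000000 in
theorem aliases_73 : aliasRange E 1862 146849 = true := by decide +kernel

set_option maxRecDepth 1000000 in
theorem aliases_76 : aliasRange E 1846 152519 = true := by decide +kernel

set_option maxRecDepth 1000000 in
theorem aliases_79 : aliasRange E 1873 158101 = true := by decide +kernel

set_option maxRecDepth 1000000 in
theorem aliases_81 : aliasRange E 1880 161796 = true := by decide +kernel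

set_option maxRecDepth 1000000 in
theorem aliases_88 : aliasRange E 1820 174938 = true := by decide +kernel

set_option maxRecDepth 1000000 in
theorem aliases_96 : aliasRange E 1876 189318 = true := by decide +kernel

set_option maxRecDepth 1000000 in
theorem aliases_99 : aliasRange E 1884 194849 = true := by decide +kernel

set_option maxRecDepth 1000000 in
theorem edges_1_74 : edgesRangeI iota E 1 1015 204565 = true := by decide +kernel

set_option maxRecDepth 1000000 in
theorem edges_2_101 : edgesRangeI iota E 2 403 205177 = true := by decide +kernel

set_option maxRecDepth 1000000 in
theorem rows_2 : rowsRange E RS 1500 3000 = true := by decide +kernel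

set_option maxRecDepth 1000000 in
theorem rows_4 : rowsRange E RS 1500 6000 = true := by decide +kernel

set_option maxRecDepth 1000000 in
theorem rows_6 : rowsRange E RS 1500 9000 = true := by decide +kernel

set_option maxRecDepth 1000000 in
theorem rows_8 : rowsRange E RS 1500 12000 = true := by decide +kernel

set_option maxRecDepth 1000000 in
theorem rows_10 : rowsRange E RS 1500 15000 = true := by decide +kernel

set_option maxRecDepth 1000000 in
theorem rows_12 : rowsRange E RS 1500 18000 = true := by decide +kernel

set_option maxRecDepth 1000000 in
theorem rows_14 : rowsRange E RS 1500 21000 = true := by decide +kernel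

set_option maxRecDepth 1000000 in
theorem rows_16 : rowsRange E RS 1500 24000 = true := by decide +kernel

set_option maxRecDepth 1000000 in
theorem rows_18 : rowsRange E RS 1500 27000 = true := by decide +kernel

set_option maxRecDepth 1000000 in
theorem rows_20 : rowsRange E RS 1500 30000 = true := by decide +kernel

set_option maxRecDepth 1000000 in
theorem rows_22 : rowsRange E RS 1500 33000 = true := by decide +kernel

set_option maxRecDepth 1000000 in
theorem rows_24 : rowsRange E RS 1500 36000 = true := by decide +kernel

set_option maxRecDepth 1000000 in
theorem rows_26 : rowsRange E RS 1500 39000 = true := by decide +kernel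

set_option maxRecDepth 1000000 in
theorem rows_28 : rowsRange E RS 1500 42000 = true := by decide +kernel

set_option maxRecDepth 1000000 in
theorem rows_30 : rowsRange E RS 1500 45000 = true := by decide +kernel

set_option maxRecDepth 1000000 in
theorem rows_32 : rowsRange E RS 1500 48000 = true := by decide +kernel

set_option maxRecDepth 1000000 in
theorem rows_34 : rowsRange E RS 1500 51000 = true := by decide +kernel

set_option maxRecDepth 1000000 in
theorem rows_36 : rowsRange E RS 1500 54000 = true := by decide +kernel

set_option maxRecDepth 1000000 in
theorem rows_38 : rowsRange E RS 1500 57000 = true := by decide +kernel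

set_option maxRecDepth 1000000 in
theorem rows_40 : rowsRange E RS 1500 60000 = true := by decide +kernel

set_option maxRecDepth 1000000 in
theorem rows_42 : rowsRange E RS 1500 63000 = true := by decide +kernel

set_option maxRecDepth 1000000 in
theorem rows_44 : rowsRange E RS 1500 66000 = true := by decide +kernel

set_option maxRecDepth 1000000 in
theorem rows_46 : rowsRange E RS 1500 69000 = true := by decide +kernel

set_option maxRecDepth 1000000 in
theorem rows_48 : rowsRange E RS 1500 72000 = true := by decide +kernel

set_option maxRecDepth 1000000 in
theorem rows_50 : rowsRange E RS 1500 75000 = true := by decide +kernel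

set_option maxRecDepth 1000000 in
theorem rows_52 : rowsRange E RS 1500 78000 = true := by decide +kernel

set_option maxRecDepth 1000000 in
theorem rows_54 : rowsRange E RS 1500 81000 = true := by decide +kernel

set_option maxRecDepth 1000000 in
theorem rows_56 : rowsRange E RS 1500 84000 = true := by decide +kernel

set_option maxRecDepth 1000000 in
theorem rows_58 : rowsRange E RS 1500 87000 = true := by decide +kernel

set_option maxRecDepth 1000000 in
theorem rows_60 : rowsRange E RS 1500 90000 = true := by decide +kernel

set_option maxRecDepth 1000000 in
theorem rows_62 : rowsRange E RS 1500 93000 = true := by decide +kernel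

set_option maxRecDepth 1000000 in
theorem rows_64 : rowsRange E RS 1500 96000 = true := by decide +kernel

set_option maxRecDepth 1000000 in
theorem rows_66 : rowsRange E RS 1500 99000 = true := by decide +kernel

set_option maxRecDepth 1000000 in
theorem rows_68 : rowsRange E RS 1500 102000 = true := by decide +kernel

set_option maxRecDepth 1000000 in
theorem rows_70 : rowsRange E RS 1500 105000 = true := by decide +kernel

set_option maxRecDepth 1000000 in
theorem rows_72 : rowsRange E RS 1500 108000 = true := by decide +kernel

set_option maxRecDepth 1000000 in
theorem rows_74 : rowsRange E RS 1500 111000 = true := by decide +kernel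

set_option maxRecDepth 1000000 in
theorem rows_76 : rowsRange E RS 1500 114000 = true := by decide +kernel

set_option maxRecDepth 1000000 in
theorem rows_78 : rowsRange E RS 1500 117000 = true := by decide +kernel

set_option maxRecDepth 1000000 in
theorem rows_80 : rowsRange E RS 1500 120000 = true := by decide +kernel

set_option maxRecDepth 1000000 in
theorem rows_82 : rowsRange E RS 1500 123000 = true := by decide +kernel

set_option maxRecDepth 1000000 in
theorem rows_84 : rowsRange E RS 1500 126000 = true := by decide +kernel

set_option maxRecDepth 1000000 in
theorem rows_86 : rowsRange E RS 1500 129000 = true := by decide +kernel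

set_option maxRecDepth 1000000 in
theorem rows_88 : rowsRange E RS 1500 132000 = true := by decide +kernel

set_option maxRecDepth 1000000 in
theorem rows_90 : rowsRange E RS 1500 135000 = true := by decide +kernel

set_option maxRecDepth 1000000 in
theorem rows_92 : rowsRange E RS 1500 138000 = true := by decide +kernel

set_option maxRecDepth 1000000 in
theorem rows_94 : rowsRange E RS 1500 141000 = true := by decide +kernel

set_option maxRecDepth 1000000 in
theorem rows_96 : rowsRange E RS 1500 144000 = true := by decide +kernel

set_option maxRecDepth 1000000 in
theorem rows_98 : rowsRange E RS 1500 147000 = true := by decide +kernel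

set_option maxRecDepth 1000000 in
theorem rows_100 : rowsRange E RS 1500 150000 = true := by decide +kernel

set_option maxRecDepth 1000000 in
theorem rows_102 : rowsRange E RS 1500 153000 = true := by decide +kernel

set_option maxRecDepth 1000000 in
theorem rows_104 : rowsRange E RS 1500 156000 = true := by decide +kernel

set_option maxRecDepth 1000000 in
theorem rows_106 : rowsRange E RS 1500 159000 = true := by decide +kernel

set_option maxRecDepth 1000000 in
theorem rows_108 : rowsRange E RS 1500 162000 = true := by decide +kernel

set_option maxRecDepth 1000000 in
theorem rows_110 : rowsRange E RS 1500 165000 = true := by decide +kernel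

set_option maxRecDepth 1000000 in
theorem rows_112 : rowsRange E RS 1500 168000 = true := by decide +kernel

set_option maxRecDepth 1000000 in
theorem rows_114 : rowsRange E RS 1500 171000 = true := by decide +kernel

set_option maxRecDepth 1000000 in
theorem rows_116 : rowsRange E RS 1500 174000 = true := by decide +kernel

set_option maxRecDepth 1000000 in
theorem rows_118 : rowsRange E RS 1500 177000 = true := by decide +kernel

set_option maxRecDepth 1000000 in
theorem rows_120 : rowsRange E RS 1500 180000 = true := by decide +kernel

set_option maxRecDepth 1000000 in
theorem rows_122 : rowsRange E RS 1500 183000 = true := by decide +kernel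

set_option maxRecDepth 1000000 in
theorem rows_124 : rowsRange E RS 1500 186000 = true := by decide +kernel

set_option maxRecDepth 1000000 in
theorem rows_126 : rowsRange E RS 1500 189000 = true := by decide +kernel

set_option maxRecDepth 1000000 in
theorem rows_128 : rowsRange E RS 1500 192000 = true := by decide +kernel

set_option maxRecDepth 1000000 in
theorem rows_130 : rowsRange E RS 1500 195000 = true := by decide +kernel

set_option maxRecDepth 1000000 in
theorem rows_132 : rowsRange E RS 1500 198000 = true := by decide +kernel

set_option maxRecDepth 1000000 in
theorem rows_134 : rowsRange E RS 1500 201000 = true := by decide +kernel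

set_option maxRecDepth 1000000 in
theorem rows_136 : rowsRange E RS 1500 204000 = true := by decide +kernel

set_option maxRecDepth 1000000 in
theorem aliases_104 : aliasRange E 1380 204200 = true := by decide +kernel

set_option maxRecDepth 1000000 in
theorem cnt_10 : cntFrom RS 5580 200000 0 = 509 := by decide +kernel

end Cfsg.Agent.Helper5.M12DTC
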