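import Mathlib
import Cfsg.Agent.Helper9.Out.M22Out
import Cfsg.Agent.Helper5.StemPB

/-! generated: two generators of the Mathieu group `M22`, of orders 11 and 5, and relators -/

set_option autoImplicit false

namespace Cfsg.Agent.Helper5.M22Cov

open Cfsg Cfsg.Agent.Helper9.Golay Cfsg.Agent.Helper9.OutM22 Cfsg.Agent.Helper9.OutM24
  Cfsg.Agent.Helper5.StemP

/-- the second generator, of order 5. -/
noncomputable def y22 : ↥Spor.M22 := b22 * a22 * a22 * b22 * a22 * b22 * a22 * a22 * b22 * a22 * b22 * a22⁻¹ * a22⁻¹ * b22 * a22⁻¹ * a22⁻¹ * b22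

/-- the table of the inverse of the first generator. -/
def tAi : List ℕ := [0, 12, 1, 13, 2, 14, 3, 15, 4, 16, 5, 17, 6, 18, 7, 19, 8, 20, 9, 21, 10, 22, 11, 23]

/-- the table of the second generator. -/
def tY : List ℕ := [0, 7, 11, 1, 5, 17, 12, 16, 13, 9, 20, 15, 2, 14, 10, 6, 18, 22, 3, 4, 8, 21, 19, 23]

/-- the table of the inverse of the second generator. -/
def tYi : List ℕ := [0, 3, 12, 18, 19, 4, 15, 1, 20, 9, 14, 2, 6, 8, 13, 11, 7, 5, 16, 22, 10, 21, 17, 23]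

/-- the generators. -/
noncomputable def g (i : ℕ) : ↥Spor.M22 := if i = 0 then a22 else if i = 1 then y22 else 1

/-- the orders. -/
def mm (i : ℕ) : ℕ := if i = 0 then 11 else 5

/-- the tables of the letters. -/
def LT (c : ℕ) : List ℕ := if c = 0 then o22AT else if c = 1 then tAi else if c = 2 then tY else tYi

/-- the table of a word. -/
def wordT (r : List ℕ) : List ℕ := r.foldr (fun c acc => mulT (LT c) acc) idT

theorem eq_one_of_tbl {σ : ↥Spor.M22} {t : List ℕ} (h : IsTbl (σ : Equiv.Perm GolayPt) t)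
    (ht : t = idT) : σ = 1 := by
  apply Subtype.ext
  rw [ht] at h
  exact h.eq_of_eq isTbl_one

theorem a22_inv : a22⁻¹ = a22 ^ 10 := by
  apply inv_eq_of_mul_eq_one_right
  rw [← pow_succ', pow11_a22]

theorem tbl_ai : IsTbl ((a22⁻¹ : ↥Spor.M22) : Equiv.Perm GolayPt) tAi := by
  rw [a22_inv, Subgroup.coe_pow]
  have h := a22P_tbl.pow 10
  have e : powT o22AT 10 = tAi := by decide +kernel
  rw [e] at h
  exact h

theorem tbl_y : IsTbl (y22 : Equiv.Perm GolayPt) tY := by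
  have h := (((((((((((((((((b22P_tbl).mul a22P_tbl).mul a22P_tbl).mul b22P_tbl).mul a22P_tbl).mul b22P_tbl).mul a22P_tbl).mul a22P_tbl).mul b22P_tbl).mul a22P_tbl).mul b22P_tbl).mul tbl_ai).mul tbl_ai).mul b22P_tbl).mul tbl_ai).mul tbl_ai).mul b22P_tbl)
  have e : mulT (mulT (mulT (mulT (mulT (mulT (mulT (mulT (mulT (mulT (mulT (mulT (mulT (mulT (mulT (mulT (o22BT) o22AT) o22AT) o22BT) o22AT) o22BT) o22AT) o22AT) o22BT) o22AT) o22BT) tAi) tAi) o22BT) tAi) tAi) o22BT = tY := by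
    decide +kernel
  rw [e] at h
  exact h

theorem y22_pow : y22 ^ 5 = 1 := by
  apply eq_one_of_tbl (t := powT tY 5)
  · rw [Subgroup.coe_pow]
    exact tbl_y.pow 5
  · decide +kernel

theorem y22_inv : y22⁻¹ = y22 ^ 4 := by
  apply inv_eq_of_mul_eq_one_right
  rw [← pow_succ', y22_pow]

theorem tbl_yi : IsTbl ((y22⁻¹ : ↥Spor.M22) : Equiv.Perm GolayPt) tYi := by
  rw [y22_inv, Subgroup.coe_pow]
  have h := tbl_y.pow 4
  have e : powT tY 4 = tYi := by decide +kernel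
  rw [e] at h
  exact h

theorem lval_g0 : lval g 0 = a22 := rfl

theorem lval_g1 : lval g 1 = a22⁻¹ := rfl

theorem lval_g2 : lval g 2 = y22 := rfl

theorem lval_g3 : lval g 3 = y22⁻¹ := rfl

theorem isTbl_lval : ∀ c, c < 2 * 2 → IsTbl ((lval g c : ↥Spor.M22) : Equiv.Perm GolayPt) (LT c) := by
  intro c hc
  interval_cases c
  · rw [lval_g0]; exact a22P_tbl
  · rw [lval_g1]; exact tbl_ai
  · rw [lval_g2]; exact tbl_y
  · rw [lval_g3]; exact tbl_yi

theorem isTbl_word : ∀ r : List ℕ, (∀ c ∈ r, c < 2 * 2) →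
    IsTbl (((r.map (lval g)).prod : ↥Spor.M22) : Equiv.Perm GolayPt) (wordT r)
  | [], _ => by
    rw [List.map_nil, List.prod_nil, Subgroup.coe_one]
    exact isTbl_one
  | c :: l, h => by
    rw [List.map_cons, List.prod_cons, Subgroup.coe_mul]
    exact (isTbl_lval c (h c List.mem_cons_self)).mul
      (isTbl_word l (fun c hc => h c (List.mem_cons_of_mem _ hc)))

/-- the central words. -/
def CC : List (List ℕ) := [[0, 3, 0, 0, 3, 0], [1, 2, 1, 2, 1, 2, 1, 2], [2, 1, 1, 3, 0, 0, 2, 1, 1, 3, 0, 0, 2, 1, 1, 3, 0, 0], [0, 0, 0, 3, 0, 3, 0, 0, 0, 0, 3, 0, 3, 0, 0, 0, 0, 3, 0, 3, 0, 0, 0, 0, 3, 0, 3, 0, 0, 0, 0, 3, 0, 3, 0], [2, 0, 0, 3, 1, 1, 3, 1, 3, 0, 2, 2, 2, 0, 0, 3, 1, 1, 3, 1, 3, 0, 2, 2, 2, 0, 0, 3, 1, 1, 3, 1, 3, 0, 2, 2, 2, 0, 0, 3, 1, 1, 3, 1, 3, 0, 2, 2, 2, 0, 0, 3, 1, 1, 3, 1, 3, 0, 2, 2], [2, 0, 0, 3, 1, 1, 3, 1, 3, 0, 2, 2, 0, 3, 3, 1, 2, 0, 2, 0, 0, 2, 1, 1, 3, 1, 1, 1]]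

/-- the word of an element of order 5 normalising the first generator. -/
def uw : List ℕ := [2, 0, 0, 3, 1, 1, 3, 1, 3, 0, 2, 2]

theorem CC_lt : ∀ r ∈ CC, ∀ c ∈ r, c < 2 * 2 := by decide +kernel

theorem CC_tbl : ∀ r ∈ CC, wordT r = idT := by decide +kernel

theorem CC_rel : ∀ r ∈ CC, (r.map (lval g)).prod = 1 := fun r hr =>
  eq_one_of_tbl (isTbl_word r (CC_lt r hr)) (CC_tbl r hr)

theorem g_pow : ∀ i, i < 2 → g i ^ mm i = 1 := by
  intro i hi
  interval_cases i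
  · exact pow11_a22
  · exact y22_pow

/-- a word for the involution `b22`. -/
def wb : List ℕ := [3, 1, 2, 0, 2, 2, 0, 2, 2, 0, 2, 0, 2, 1, 2, 2]

theorem wb_eq : (wb.map (lval g)).prod = b22 := by
  apply Subtype.ext
  have h := isTbl_word wb (by decide)
  have e : wordT wb = o22BT := by decide +kernel
  rw [e] at h
  exact h.eq_of_eq b22P_tbl

theorem prod_lval_mem {K : Type*} [Group K] (x : ℕ → K) (d : ℕ) : ∀ r : List ℕ,
    (∀ c ∈ r, c < 2 * d) →
    (r.map (lval x)).prod ∈ Subgroup.closure {y | ∃ i, i < d ∧ y = x i} := by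
  intro r hr
  apply Subgroup.list_prod_mem
  intro y hy
  obtain ⟨c, hc, rfl⟩ := List.mem_map.mp hy
  have hi : c / 2 < d := by have := hr c hc; omega
  unfold lval
  split_ifs
  · exact Subgroup.subset_closure ⟨c / 2, hi, rfl⟩
  · exact inv_mem (Subgroup.subset_closure ⟨c / 2, hi, rfl⟩)

theorem g_closure : Subgroup.closure {y | ∃ i, i < 2 ∧ y = g i} = ⊤ := by
  rw [eq_top_iff, ← closure_ab22G, Subgroup.closure_le]
  intro x hx
  rcases hx with rfl | rfl
  · exact Subgroup.subset_closure ⟨0, by norm_num, rfl⟩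
  · rw [SetLike.mem_coe, ← wb_eq]
    exact prod_lval_mem g 2 wb (by decide)

/-- the value of the word `uw` has order 5. -/
theorem uw_ne : wordT uw ≠ idT := by decide +kernel

theorem uw_pow5 : wordT (uw ++ uw ++ uw ++ uw ++ uw) = idT := by decide +kernel

end Cfsg.Agent.Helper5.M22Cov
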