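import Mathlib
import Cfsg.Agent.Helper5.M22Gen
import Cfsg.Agent.Helper5.LTCH
import Cfsg.Agent.Helper5.LTCF
import Cfsg.Agent.Helper5.StemPI

/-!
# The covering groups of `M22`: the subgroup of order 55
-/

set_option autoImplicit false

namespace Cfsg.Agent.Helper5.M22Cov

open Cfsg Cfsg.Agent.Helper9.Golay Cfsg.Agent.Helper9.OutM22 Cfsg.Agent.Helper9.OutM24
  Cfsg.Agent.Helper5.StemP Cfsg.Agent.Helper5.LP Cfsg.Agent.Helper5.LTC

theorem CC2_lt : ∀ r ∈ CC ++ CC, ∀ c ∈ r, c < 2 * 2 := by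
  intro r hr
  rcases List.mem_append.mp hr with h | h <;> exact CC_lt r h

theorem CC2_rel : ∀ r ∈ CC ++ CC, (r.map (lval g)).prod = 1 := by
  intro r hr
  rcases List.mem_append.mp hr with h | h <;> exact CC_rel r h

instance finM22 : Finite ↥Spor.M22 :=
  Nat.finite_of_card_ne_zero (by rw [card_M22]; norm_num)

/-- the word of the fifth power of `uw`. -/
def zuw : List ℕ := uw ++ uw ++ uw ++ uw ++ uw

/-- the conjugation relator. -/
def cw : List ℕ := uw ++ [0] ++ winv uw ++ [1, 1, 1]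

theorem zuw_mem : zuw ∈ CC := by decide +kernel

theorem cw_mem : cw ∈ CC := by decide +kernel

theorem zuw_get : CC.getD 4 [] = zuw := by decide +kernel

theorem uw_lt : ∀ c ∈ uw, c < 2 * 2 := by decide +kernel

/-- the value of `uw` in `M22`. -/
noncomputable def uval : ↥Spor.M22 := (uw.map (lval g)).prod

theorem order_uval : orderOf uval = 5 := by
  have : Fact (Nat.Prime 5) := ⟨by norm_num⟩
  apply orderOf_eq_prime
  · have h := isTbl_word (uw ++ uw ++ uw ++ uw ++ uw) (by decide +kernel)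
    have e1 : (((uw ++ uw ++ uw ++ uw ++ uw).map (lval g)).prod : ↥Spor.M22) = uval ^ 5 := by
      simp only [List.map_append, List.prod_append, uval, pow_succ, pow_zero, one_mul]
    rw [e1, uw_pow5] at h
    exact eq_one_of_tbl h rfl
  · intro h1
    have h := isTbl_word uw uw_lt
    change IsTbl ((uval : ↥Spor.M22) : Equiv.Perm GolayPt) _ at h
    apply ne_one_of_tbl h uw_ne
    rw [h1]
    rfl

section prime
variable (e : ℕ)

/-- the covering homomorphism. -/
noncomputable def piE : CovG 2 mm CC CC e →* ↥Spor.M22 :=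
  coverHomU 2 mm CC CC e CC2_lt g g_pow CC2_rel

theorem piE_surj : Function.Surjective (piE e) :=
  coverHomU_surjective 2 mm CC CC e CC2_lt g g_pow CC2_rel g_closure

/-- the lift of the element of order 11. -/
noncomputable def xE : CovG 2 mm CC CC e := ev (2 * 2) (coverRels 2 mm CC CC e) [0]

/-- the lift of the element of order 5. -/
noncomputable def uE : CovG 2 mm CC CC e := ev (2 * 2) (coverRels 2 mm CC CC e) uw

/-- the lifted subgroup of order 55. -/
noncomputable def kE : Subgroup (CovG 2 mm CC CC e) :=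
  Subgroup.closure ({xE e, uE e ^ e} : Set (CovG 2 mm CC CC e))

theorem xE_pow : xE e ^ 11 = 1 := cgen_pow 2 mm CC CC e (i := 0) (by norm_num)

theorem xE_inv : ev (2 * 2) (coverRels 2 mm CC CC e) [1] = (xE e)⁻¹ :=
  ev_odd 2 mm CC CC e (i := 0) (by norm_num)

theorem zu_pow : (uE e ^ 5) ^ e = 1 := by
  have h := zC_pow 2 mm CC CC e (fun r hr => hr) 4
  unfold zC at h
  rw [zuw_get] at h
  unfold zuw at h
  rw [ev_append, ev_append, ev_append, ev_append] at h
  have e1 : uE e ^ 5 = uE e * uE e * uE e * uE e * uE e := by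
    simp only [pow_succ, pow_zero, one_mul]
  rw [e1]
  exact h

variable {e}

theorem conj_eq (he : Nat.Coprime 11 e) : uE e * xE e * (uE e)⁻¹ = xE e ^ 3 := by
  have hc := cover_center 2 mm CC CC e cw_mem (CC_lt cw cw_mem)
  have hce : ev (2 * 2) (coverRels 2 mm CC CC e) cw ^ e = 1 := by
    rw [ev_pow]
    exact ev_rel (mem_coverRels_T 2 mm CC CC e cw_mem)
  have h1 : ev (2 * 2) (coverRels 2 mm CC CC e) cw =
      uE e * xE e * (uE e)⁻¹ * ((xE e)⁻¹ * ((xE e)⁻¹ * (xE e)⁻¹)) := by
    have h111 : ev (2 * 2) (coverRels 2 mm CC CC e) [1, 1, 1] =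
        (xE e)⁻¹ * ((xE e)⁻¹ * (xE e)⁻¹) := by
      show ev (2 * 2) (coverRels 2 mm CC CC e) ([1] ++ ([1] ++ [1])) = _
      rw [ev_append, ev_append, xE_inv]
    unfold cw
    rw [ev_append, ev_append, ev_append, ev_winv 2 mm CC CC e uw_lt, h111]
    rfl
  have h2 : uE e * xE e * (uE e)⁻¹ = ev (2 * 2) (coverRels 2 mm CC CC e) cw * xE e ^ 3 := by
    rw [h1]
    group
  have h3 := central_eq_one hc h2 (xE_pow e) hce he
  rw [h2, h3, one_mul]

theorem kE_fin (he : Nat.Coprime 11 e) :
    Finite (kE e) ∧ Nat.card (kE e) ≤ 11 * 5 := by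
  apply closure_pair_card_le (xE e) (uE e ^ e) 11 5 (3 ^ e) (by norm_num) (by norm_num)
    (xE_pow e)
  · rw [← pow_mul, Nat.mul_comm e 5, pow_mul]
    exact zu_pow e
  · exact conj_pow_eq (conj_eq he) e

theorem piE_x : piE e (xE e) = a22 := by
  unfold piE xE
  rw [coverHomU_ev 2 mm CC CC e CC2_lt g g_pow CC2_rel [0] (by decide)]
  simp [lval_g0]

theorem piE_u : piE e (uE e) = uval := by
  unfold piE uE
  rw [coverHomU_ev 2 mm CC CC e CC2_lt g g_pow CC2_rel uw uw_lt]
  rfl

theorem kE_inj (he : Nat.Coprime 11 e) (he5 : Nat.Coprime 5 e) :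
    ∀ l, phi (zC 2 mm CC CC e) l ∈ kE e → phi (zC 2 mm CC CC e) l = 1 := by
  intro l hl
  haveI := (kE_fin he).1
  have hge : 11 * 5 ≤ Nat.card ((kE e).map (piE e)) := by
    apply le_card_of_orders ((kE e).map (piE e)) (p := a22) (q := uval ^ e)
    · rw [← piE_x (e := e)]
      exact Subgroup.mem_map_of_mem _ (Subgroup.subset_closure (by simp))
    · rw [← piE_u (e := e), ← map_pow]
      exact Subgroup.mem_map_of_mem _ (Subgroup.subset_closure (by simp))
    · exact order_a22
    · rw [Nat.Coprime.orderOf_pow (by rw [order_uval]; exact he5), order_uval]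
    · decide
  apply eq_one_of_map_card (kE e) (piE e) (11 * 5) (kE_fin he).2 hge _ hl
  have hker : ∀ i, zC 2 mm CC CC e i ∈ (piE e).ker := by
    intro i
    unfold zC
    by_cases hi : i < CC.length
    · rw [List.getD_eq_getElem CC [] hi]
      exact coverHomU_ker 2 mm CC CC e CC2_lt g g_pow CC2_rel (List.getElem_mem hi)
    · rw [List.getD_eq_default CC [] (by omega), ev_nil]
      exact Subgroup.one_mem _
  exact MonoidHom.mem_ker.mp (phi_mem _ hker l)

end prime

end Cfsg.Agent.Helper5.M22Cov
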