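import Cfsg.Agent.Helper5.M22LDJu0
import Cfsg.Agent.Helper5.M22LDJu1
import Cfsg.Agent.Helper5.M22LDJu2
import Cfsg.Agent.Helper5.M22LDJu3
import Cfsg.Agent.Helper5.M22LDJu4
import Cfsg.Agent.Helper5.M22LDJu5
import Cfsg.Agent.Helper5.M22LDJu6
import Cfsg.Agent.Helper5.M22LDJu7
import Cfsg.Agent.Helper5.M22LDJu8
import Cfsg.Agent.Helper5.M22LDJu9
import Cfsg.Agent.Helper5.M22LDJu10
import Cfsg.Agent.Helper5.M22LDJu11
import Cfsg.Agent.Helper5.M22LDJu12
import Cfsg.Agent.Helper5.M22LDJu13
import Cfsg.Agent.Helper5.M22LDJu14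
import Cfsg.Agent.Helper5.M22LDJu15
import Cfsg.Agent.Helper5.M22LDJu16
import Cfsg.Agent.Helper5.M22LDJu17
import Cfsg.Agent.Helper5.M22LDJu18
import Cfsg.Agent.Helper5.M22LDJu19
import Cfsg.Agent.Helper5.M22LDJu20
import Cfsg.Agent.Helper5.M22LDJu21
import Cfsg.Agent.Helper5.M22LDJu22
import Cfsg.Agent.Helper5.M22LDTb0
import Cfsg.Agent.Helper5.M22LDTb1
import Cfsg.Agent.Helper5.M22LDTb2
import Cfsg.Agent.Helper5.M22LDTb3

/-! generated labelled Todd-Coxeter certificate, summary: M22LD -/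

set_option autoImplicit false
set_option maxRecDepth 1000000

namespace Cfsg.Agent.Helper5.M22LD
open Cfsg.Agent.Helper5.LTC

theorem upto_0 : ∀ j, j < 0 → ∃ r, checkFact cert j r = true := fun j hj => absurd hj (by omega)

theorem upto_1 : ∀ j, j < 2000 → ∃ r, checkFact cert j r = true :=
  upto_step cert upto_0 ju_0 2000 len_0 chk_0

theorem upto_2 : ∀ j, j < 4000 → ∃ r, checkFact cert j r = true :=
  upto_step cert upto_1 ju_1 2000 len_1 chk_1

theorem upto_3 : ∀ j, j < 6000 → ∃ r, checkFact cert j r = true :=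
  upto_step cert upto_2 ju_2 2000 len_2 chk_2

theorem upto_4 : ∀ j, j < 8000 → ∃ r, checkFact cert j r = true :=
  upto_step cert upto_3 ju_3 2000 len_3 chk_3

theorem upto_5 : ∀ j, j < 10000 → ∃ r, checkFact cert j r = true :=
  upto_step cert upto_4 ju_4 2000 len_4 chk_4

theorem upto_6 : ∀ j, j < 12000 → ∃ r, checkFact cert j r = true :=
  upto_step cert upto_5 ju_5 2000 len_5 chk_5

theorem upto_7 : ∀ j, j < 14000 → ∃ r, checkFact cert j r = true :=
  upto_step cert upto_6 ju_6 2000 len_6 chk_6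

theorem upto_8 : ∀ j, j < 16000 → ∃ r, checkFact cert j r = true :=
  upto_step cert upto_7 ju_7 2000 len_7 chk_7

theorem upto_9 : ∀ j, j < 18000 → ∃ r, checkFact cert j r = true :=
  upto_step cert upto_8 ju_8 2000 len_8 chk_8

theorem upto_10 : ∀ j, j < 20000 → ∃ r, checkFact cert j r = true :=
  upto_step cert upto_9 ju_9 2000 len_9 chk_9

theorem upto_11 : ∀ j, j < 22000 → ∃ r, checkFact cert j r = true :=
  upto_step cert upto_10 ju_10 2000 len_10 chk_10

theorem upto_12 : ∀ j, j < 24000 → ∃ r, checkFact cert j r = true :=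
  upto_step cert upto_11 ju_11 2000 len_11 chk_11

theorem upto_13 : ∀ j, j < 26000 → ∃ r, checkFact cert j r = true :=
  upto_step cert upto_12 ju_12 2000 len_12 chk_12

theorem upto_14 : ∀ j, j < 28000 → ∃ r, checkFact cert j r = true :=
  upto_step cert upto_13 ju_13 2000 len_13 chk_13

theorem upto_15 : ∀ j, j < 30000 → ∃ r, checkFact cert j r = true :=
  upto_step cert upto_14 ju_14 2000 len_14 chk_14

theorem upto_16 : ∀ j, j < 32000 → ∃ r, checkFact cert j r = true :=
  upto_step cert upto_15 ju_15 2000 len_15 chk_15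

theorem upto_17 : ∀ j, j < 34000 → ∃ r, checkFact cert j r = true :=
  upto_step cert upto_16 ju_16 2000 len_16 chk_16

theorem upto_18 : ∀ j, j < 36000 → ∃ r, checkFact cert j r = true :=
  upto_step cert upto_17 ju_17 2000 len_17 chk_17

theorem upto_19 : ∀ j, j < 38000 → ∃ r, checkFact cert j r = true :=
  upto_step cert upto_18 ju_18 2000 len_18 chk_18

theorem upto_20 : ∀ j, j < 40000 → ∃ r, checkFact cert j r = true :=
  upto_step cert upto_19 ju_19 2000 len_19 chk_19

theorem upto_21 : ∀ j, j < 42000 → ∃ r, checkFact cert j r = true :=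
  upto_step cert upto_20 ju_20 2000 len_20 chk_20

theorem upto_22 : ∀ j, j < 44000 → ∃ r, checkFact cert j r = true :=
  upto_step cert upto_21 ju_21 2000 len_21 chk_21

theorem upto_23 : ∀ j, j < 44521 → ∃ r, checkFact cert j r = true :=
  upto_step cert upto_22 ju_22 521 len_22 chk_22

theorem hchk : ∀ j, j < cert.nf → ∃ r, checkFact cert j r = true := upto_23

theorem rowsto_0 : ∀ n, n < 0 → ∀ x, x < cert.k → tabEntryOK cert tab n x = true :=
  fun n hn => absurd hn (by omega)

theorem rowsto_1 : ∀ n, n < 2016 → ∀ x, x < cert.k → tabEntryOK cert tab n x = true :=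
  rows_step cert tab rowsto_0 2016 rows_0

theorem rowsto_2 : ∀ n, n < 4032 → ∀ x, x < cert.k → tabEntryOK cert tab n x = true :=
  rows_step cert tab rowsto_1 2016 rows_1

theorem rowsto_3 : ∀ n, n < 6048 → ∀ x, x < cert.k → tabEntryOK cert tab n x = true :=
  rows_step cert tab rowsto_2 2016 rows_2

theorem rowsto_4 : ∀ n, n < 8064 → ∀ x, x < cert.k → tabEntryOK cert tab n x = true :=
  rows_step cert tab rowsto_3 2016 rows_3

theorem hT : ∀ n, n < tab.N → ∀ x, x < cert.k → tabEntryOK cert tab n x = true := rowsto_4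

theorem hjs : ∀ j ∈ js, relFactOK cert j = true := by decide +kernel

theorem h0 : ordOK cert js cs0 4 4 = true := by decide +kernel

theorem hgs : ∀ i, i < 6 → genOK cert js (css.getD i []) i 4 (as_.getD i 0) = true := by decide +kernel

end Cfsg.Agent.Helper5.M22LD
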