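import Cfsg.Agent.Helper5.M22MDDat

/-! generated permutation model of a central extension, checks: M22MD -/

set_option autoImplicit false
set_option Elab.async false
set_option maxRecDepth 1000000

namespace Cfsg.Agent.Helper5.M22MD
open Cfsg.Agent.Helper5.TC Cfsg.Agent.Helper5.TCI Cfsg.Agent.Helper5.LP

theorem relc_22_18750 : fixPtsF W_22 6250 18750 = true := by decide +kernel

theorem relc_13_0 : fixPtsF W_13 32256 0 = true := by decide +kernel

theorem relc_20_20833 : fixPtsF W_20 11423 20833 = true := by decide +kernel

theorem relc_9_0 : fixPtsF W_9 32256 0 = true := by decide +kernel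

theorem inv_0 : invRowFI mT 32256 0 1 32256 0 = true := by decide +kernel

theorem inv_3 : invRowFI mT 32256 3 2 32256 0 = true := by decide +kernel

theorem relc_4_0 : fixPtsF W_4 32256 0 = true := by decide +kernel

end Cfsg.Agent.Helper5.M22MD
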