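import Cfsg.Agent.Helper5.M22MDDat

/-! generated permutation model of a central extension, checks: M22MD -/

set_option autoImplicit false
set_option Elab.async false
set_option maxRecDepth 1000000

namespace Cfsg.Agent.Helper5.M22MD
open Cfsg.Agent.Helper5.TC Cfsg.Agent.Helper5.TCI Cfsg.Agent.Helper5.LP

theorem relc_14_0 : fixPtsF W_14 24590 0 = true := by decide +kernel

theorem relc_21_10714 : fixPtsF W_21 10714 10714 = true := by decide +kernel

theorem relc_23_26784 : fixPtsF W_23 5472 26784 = true := by decide +kernel

theorem relc_2_0 : fixPtsF W_2 32256 0 = true := by decide +kernel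

theorem inv_2 : invRowFI mT 32256 2 3 32256 0 = true := by decide +kernel

theorem relc_1_0 : fixPtsF W_1 32256 0 = true := by decide +kernel

end Cfsg.Agent.Helper5.M22MD
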