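import Cfsg.Agent.Helper5.M22MDDat

/-! generated permutation model of a central extension, checks: M22MD -/

set_option autoImplicit false
set_option Elab.async false
set_option maxRecDepth 1000000

namespace Cfsg.Agent.Helper5.M22MD
open Cfsg.Agent.Helper5.TC Cfsg.Agent.Helper5.TCI Cfsg.Agent.Helper5.LP

theorem relc_15_0 : fixPtsF W_15 24590 0 = true := by decide +kernel

theorem relc_21_21428 : fixPtsF W_21 10714 21428 = true := by decide +kernel

theorem relc_14_24590 : fixPtsF W_14 7666 24590 = true := by decide +kernel

theorem relc_15_24590 : fixPtsF W_15 7666 24590 = true := by decide +kernel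

end Cfsg.Agent.Helper5.M22MD
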