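import Cfsg.Agent.Helper5.M22MTDat

/-! generated permutation model of a central extension, checks: M22MT -/

set_option autoImplicit false
set_option Elab.async false
set_option maxRecDepth 1000000

namespace Cfsg.Agent.Helper5.M22MT
open Cfsg.Agent.Helper5.TC Cfsg.Agent.Helper5.TCI Cfsg.Agent.Helper5.LP

theorem relc_21_0 : fixPtsF W_21 9523 0 = true := by decide +kernel

theorem relc_12_0 : fixPtsF W_12 24192 0 = true := by decide +kernel

theorem relc_22_22220 : fixPtsF W_22 1972 22220 = true := by decide +kernel

theorem relc_6_0 : fixPtsF W_6 24192 0 = true := by decide +kernel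

theorem relc_3_0 : fixPtsF W_3 24192 0 = true := by decide +kernel

end Cfsg.Agent.Helper5.M22MT
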