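import Cfsg.Agent.Helper5.M22MTDat

/-! generated permutation model of a central extension, checks: M22MT -/

set_option autoImplicit false
set_option Elab.async false
set_option maxRecDepth 1000000

namespace Cfsg.Agent.Helper5.M22MT
open Cfsg.Agent.Helper5.TC Cfsg.Agent.Helper5.TCI Cfsg.Agent.Helper5.LP

theorem relc_22_5555 : fixPtsF W_22 5555 5555 = true := by decide +kernel

theorem relc_14_0 : fixPtsF W_14 24192 0 = true := by decide +kernel

theorem relc_2_0 : fixPtsF W_2 24192 0 = true := by decide +kernel

end Cfsg.Agent.Helper5.M22MT
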