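import Cfsg.Agent.Helper5.M22MTCk0
import Cfsg.Agent.Helper5.M22MTCk1
import Cfsg.Agent.Helper5.M22MTCk2
import Cfsg.Agent.Helper5.M22MTCk3
import Cfsg.Agent.Helper5.M22MTCk4
import Cfsg.Agent.Helper5.M22MTCk5
import Cfsg.Agent.Helper5.M22MTCk6
import Cfsg.Agent.Helper5.M22MTCk7

/-! generated permutation model of a central extension, summary: M22MT -/

set_option autoImplicit false
set_option maxRecDepth 1000000

namespace Cfsg.Agent.Helper5.M22MT
open Cfsg.Agent.Helper5.TC Cfsg.Agent.Helper5.TCI Cfsg.Agent.Helper5.LP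

theorem relf_0 : ∀ v, v < 24192 → W_0 v = v := by
  intro v hv
  exact fixPtsF_spec W_0 24192 0 relc_0_0 v (by omega) (by omega)

theorem actw_0 : ∀ v, actL mT RL_0 v = W_0 v := by
  intro v
  simp (config := { maxSteps := 10000000 }) only [RL_0, actL, W_0, forceL_eq]
  rfl

theorem relf_1 : ∀ v, v < 24192 → W_1 v = v := by
  intro v hv
  exact fixPtsF_spec W_1 24192 0 relc_1_0 v (by omega) (by omega)

theorem actw_1 : ∀ v, actL mT RL_1 v = W_1 v := by
  intro v
  simp (config := { maxSteps := 10000000 }) only [RL_1, actL, W_1, forceL_eq]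
  rfl

theorem relf_2 : ∀ v, v < 24192 → W_2 v = v := by
  intro v hv
  exact fixPtsF_spec W_2 24192 0 relc_2_0 v (by omega) (by omega)

theorem actw_2 : ∀ v, actL mT RL_2 v = W_2 v := by
  intro v
  simp (config := { maxSteps := 10000000 }) only [RL_2, actL, W_2, forceL_eq]
  rfl

theorem relf_3 : ∀ v, v < 24192 → W_3 v = v := by
  intro v hv
  exact fixPtsF_spec W_3 24192 0 relc_3_0 v (by omega) (by omega)

theorem actw_3 : ∀ v, actL mT RL_3 v = W_3 v := by
  intro v
  simp (config := { maxSteps := 10000000 }) only [RL_3, actL, W_3, forceL_eq]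
  rfl

theorem relf_4 : ∀ v, v < 24192 → W_4 v = v := by
  intro v hv
  exact fixPtsF_spec W_4 24192 0 relc_4_0 v (by omega) (by omega)

theorem actw_4 : ∀ v, actL mT RL_4 v = W_4 v := by
  intro v
  simp (config := { maxSteps := 10000000 }) only [RL_4, actL, W_4, forceL_eq]
  rfl

theorem relf_5 : ∀ v, v < 24192 → W_5 v = v := by
  intro v hv
  exact fixPtsF_spec W_5 24192 0 relc_5_0 v (by omega) (by omega)

theorem actw_5 : ∀ v, actL mT RL_5 v = W_5 v := by
  intro v
  simp (config := { maxSteps := 10000000 }) only [RL_5, actL, W_5, forceL_eq]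
  rfl

theorem relf_6 : ∀ v, v < 24192 → W_6 v = v := by
  intro v hv
  exact fixPtsF_spec W_6 24192 0 relc_6_0 v (by omega) (by omega)

theorem actw_6 : ∀ v, actL mT RL_6 v = W_6 v := by
  intro v
  simp (config := { maxSteps := 10000000 }) only [RL_6, actL, W_6, forceL_eq]
  rfl

theorem relf_7 : ∀ v, v < 24192 → W_7 v = v := by
  intro v hv
  exact fixPtsF_spec W_7 24192 0 relc_7_0 v (by omega) (by omega)

theorem actw_7 : ∀ v, actL mT RL_7 v = W_7 v := by
  intro v
  simp (config := { maxSteps := 10000000 }) only [RL_7, actL, W_7, forceL_eq]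
  rfl

theorem relf_8 : ∀ v, v < 24192 → W_8 v = v := by
  intro v hv
  exact fixPtsF_spec W_8 24192 0 relc_8_0 v (by omega) (by omega)

theorem actw_8 : ∀ v, actL mT RL_8 v = W_8 v := by
  intro v
  simp (config := { maxSteps := 10000000 }) only [RL_8, actL, W_8, forceL_eq]
  rfl

theorem relf_9 : ∀ v, v < 24192 → W_9 v = v := by
  intro v hv
  exact fixPtsF_spec W_9 24192 0 relc_9_0 v (by omega) (by omega)

theorem actw_9 : ∀ v, actL mT RL_9 v = W_9 v := by
  intro v
  simp (config := { maxSteps := 10000000 }) only [RL_9, actL, W_9, forceL_eq]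
  rfl

theorem relf_10 : ∀ v, v < 24192 → W_10 v = v := by
  intro v hv
  exact fixPtsF_spec W_10 24192 0 relc_10_0 v (by omega) (by omega)

theorem actw_10 : ∀ v, actL mT RL_10 v = W_10 v := by
  intro v
  simp (config := { maxSteps := 10000000 }) only [RL_10, actL, W_10, forceL_eq]
  rfl

theorem relf_11 : ∀ v, v < 24192 → W_11 v = v := by
  intro v hv
  exact fixPtsF_spec W_11 24192 0 relc_11_0 v (by omega) (by omega)

theorem actw_11 : ∀ v, actL mT RL_11 v = W_11 v := by
  intro v
  simp (config := { maxSteps := 10000000 }) only [RL_11, actL, W_11, forceL_eq]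
  rfl

theorem relf_12 : ∀ v, v < 24192 → W_12 v = v := by
  intro v hv
  exact fixPtsF_spec W_12 24192 0 relc_12_0 v (by omega) (by omega)

theorem actw_12 : ∀ v, actL mT RL_12 v = W_12 v := by
  intro v
  simp (config := { maxSteps := 10000000 }) only [RL_12, actL, W_12, forceL_eq]
  rfl

theorem relf_13 : ∀ v, v < 24192 → W_13 v = v := by
  intro v hv
  exact fixPtsF_spec W_13 24192 0 relc_13_0 v (by omega) (by omega)

theorem actw_13 : ∀ v, actL mT RL_13 v = W_13 v := by
  intro v
  simp (config := { maxSteps := 10000000 }) only [RL_13, actL, W_13, forceL_eq]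
  rfl

theorem relf_14 : ∀ v, v < 24192 → W_14 v = v := by
  intro v hv
  exact fixPtsF_spec W_14 24192 0 relc_14_0 v (by omega) (by omega)

theorem actw_14 : ∀ v, actL mT RL_14 v = W_14 v := by
  intro v
  simp (config := { maxSteps := 10000000 }) only [RL_14, actL, W_14, forceL_eq]
  rfl

theorem relf_15 : ∀ v, v < 24192 → W_15 v = v := by
  intro v hv
  exact fixPtsF_spec W_15 24192 0 relc_15_0 v (by omega) (by omega)

theorem actw_15 : ∀ v, actL mT RL_15 v = W_15 v := by
  intro v
  simp (config := { maxSteps := 10000000 }) only [RL_15, actL, W_15, forceL_eq]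
  rfl

theorem relf_16 : ∀ v, v < 24192 → W_16 v = v := by
  intro v hv
  exact fixPtsF_spec W_16 24192 0 relc_16_0 v (by omega) (by omega)

theorem actw_16 : ∀ v, actL mT RL_16 v = W_16 v := by
  intro v
  simp (config := { maxSteps := 10000000 }) only [RL_16, actL, W_16, forceL_eq]
  rfl

theorem relf_17 : ∀ v, v < 24192 → W_17 v = v := by
  intro v hv
  exact fixPtsF_spec W_17 24192 0 relc_17_0 v (by omega) (by omega)

theorem actw_17 : ∀ v, actL mT RL_17 v = W_17 v := by
  intro v
  simp (config := { maxSteps := 10000000 }) only [RL_17, actL, W_17, forceL_eq]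
  rfl

theorem relf_18 : ∀ v, v < 24192 → W_18 v = v := by
  intro v hv
  exact fixPtsF_spec W_18 24192 0 relc_18_0 v (by omega) (by omega)

theorem actw_18 : ∀ v, actL mT RL_18 v = W_18 v := by
  intro v
  simp (config := { maxSteps := 10000000 }) only [RL_18, actL, W_18, forceL_eq]
  rfl

theorem relf_19 : ∀ v, v < 24192 → W_19 v = v := by
  intro v hv
  exact fixPtsF_spec W_19 24192 0 relc_19_0 v (by omega) (by omega)

theorem actw_19 : ∀ v, actL mT RL_19 v = W_19 v := by
  intro v
  simp (config := { maxSteps := 10000000 }) only [RL_19, actL, W_19, forceL_eq]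
  rfl

theorem relf_20 : ∀ v, v < 24192 → W_20 v = v := by
  intro v hv
  by_cases h0 : v < 18518
  · exact fixPtsF_spec W_20 18518 0 relc_20_0 v (by omega) (by omega)
  exact fixPtsF_spec W_20 5674 18518 relc_20_18518 v (by omega) (by omega)

theorem actw_20 : ∀ v, actL mT RL_20 v = W_20 v := by
  intro v
  simp (config := { maxSteps := 10000000 }) only [RL_20, actL, W_20, forceL_eq]
  rfl

theorem relf_21 : ∀ v, v < 24192 → W_21 v = v := by
  intro v hv
  by_cases h0 : v < 9523
  · exact fixPtsF_spec W_21 9523 0 relc_21_0 v (by omega) (by omega)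
  by_cases h9523 : v < 19046
  · exact fixPtsF_spec W_21 9523 9523 relc_21_9523 v (by omega) (by omega)
  exact fixPtsF_spec W_21 5146 19046 relc_21_19046 v (by omega) (by omega)

theorem actw_21 : ∀ v, actL mT RL_21 v = W_21 v := by
  intro v
  simp (config := { maxSteps := 10000000 }) only [RL_21, actL, W_21, forceL_eq]
  rfl

theorem relf_22 : ∀ v, v < 24192 → W_22 v = v := by
  intro v hv
  by_cases h0 : v < 5555
  · exact fixPtsF_spec W_22 5555 0 relc_22_0 v (by omega) (by omega)
  by_cases h5555 : v < 11110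
  · exact fixPtsF_spec W_22 5555 5555 relc_22_5555 v (by omega) (by omega)
  by_cases h11110 : v < 16665
  · exact fixPtsF_spec W_22 5555 11110 relc_22_11110 v (by omega) (by omega)
  by_cases h16665 : v < 22220
  · exact fixPtsF_spec W_22 5555 16665 relc_22_16665 v (by omega) (by omega)
  exact fixPtsF_spec W_22 1972 22220 relc_22_22220 v (by omega) (by omega)

theorem actw_22 : ∀ v, actL mT RL_22 v = W_22 v := by
  intro v
  simp (config := { maxSteps := 10000000 }) only [RL_22, actL, W_22, forceL_eq]
  rfl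

theorem relf_23 : ∀ v, v < 24192 → W_23 v = v := by
  intro v hv
  by_cases h0 : v < 11904
  · exact fixPtsF_spec W_23 11904 0 relc_23_0 v (by omega) (by omega)
  by_cases h11904 : v < 23808
  · exact fixPtsF_spec W_23 11904 11904 relc_23_11904 v (by omega) (by omega)
  exact fixPtsF_spec W_23 384 23808 relc_23_23808 v (by omega) (by omega)

theorem actw_23 : ∀ v, actL mT RL_23 v = W_23 v := by
  intro v
  simp (config := { maxSteps := 10000000 }) only [RL_23, actL, W_23, forceL_eq]
  rfl

theorem relsFix : RelsFix RL 24192 mT := by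
  intro l hl v hv
  unfold RL at hl
  rcases List.mem_cons.mp hl with rfl | hl
  · rw [actw_0]; exact relf_0 v hv
  rcases List.mem_cons.mp hl with rfl | hl
  · rw [actw_1]; exact relf_1 v hv
  rcases List.mem_cons.mp hl with rfl | hl
  · rw [actw_2]; exact relf_2 v hv
  rcases List.mem_cons.mp hl with rfl | hl
  · rw [actw_3]; exact relf_3 v hv
  rcases List.mem_cons.mp hl with rfl | hl
  · rw [actw_4]; exact relf_4 v hv
  rcases List.mem_cons.mp hl with rfl | hl
  · rw [actw_5]; exact relf_5 v hv
  rcases List.mem_cons.mp hl with rfl | hl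
  · rw [actw_6]; exact relf_6 v hv
  rcases List.mem_cons.mp hl with rfl | hl
  · rw [actw_7]; exact relf_7 v hv
  rcases List.mem_cons.mp hl with rfl | hl
  · rw [actw_8]; exact relf_8 v hv
  rcases List.mem_cons.mp hl with rfl | hl
  · rw [actw_9]; exact relf_9 v hv
  rcases List.mem_cons.mp hl with rfl | hl
  · rw [actw_10]; exact relf_10 v hv
  rcases List.mem_cons.mp hl with rfl | hl
  · rw [actw_11]; exact relf_11 v hv
  rcases List.mem_cons.mp hl with rfl | hl
  · rw [actw_12]; exact relf_12 v hv
  rcases List.mem_cons.mp hl with rfl | hl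
  · rw [actw_13]; exact relf_13 v hv
  rcases List.mem_cons.mp hl with rfl | hl
  · rw [actw_14]; exact relf_14 v hv
  rcases List.mem_cons.mp hl with rfl | hl
  · rw [actw_15]; exact relf_15 v hv
  rcases List.mem_cons.mp hl with rfl | hl
  · rw [actw_16]; exact relf_16 v hv
  rcases List.mem_cons.mp hl with rfl | hl
  · rw [actw_17]; exact relf_17 v hv
  rcases List.mem_cons.mp hl with rfl | hl
  · rw [actw_18]; exact relf_18 v hv
  rcases List.mem_cons.mp hl with rfl | hl
  · rw [actw_19]; exact relf_19 v hv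
  rcases List.mem_cons.mp hl with rfl | hl
  · rw [actw_20]; exact relf_20 v hv
  rcases List.mem_cons.mp hl with rfl | hl
  · rw [actw_21]; exact relf_21 v hv
  rcases List.mem_cons.mp hl with rfl | hl
  · rw [actw_22]; exact relf_22 v hv
  rcases List.mem_cons.mp hl with rfl | hl
  · rw [actw_23]; exact relf_23 v hv
  exact absurd hl (by simp)

theorem tableOK : TableOKI (2 * 2) 24192 StemP.linv mT := by
  intro x hx v hv
  have hx4 : x < 4 := hx
  interval_cases x
  · exact invRowFI_spec mT 24192 0 1 24192 0 inv_0 v (by omega) (by omega)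
  · exact invRowFI_spec mT 24192 1 0 24192 0 inv_1 v (by omega) (by omega)
  · exact invRowFI_spec mT 24192 2 3 24192 0 inv_2 v (by omega) (by omega)
  · exact invRowFI_spec mT 24192 3 2 24192 0 inv_3 v (by omega) (by omega)

end Cfsg.Agent.Helper5.M22MT
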