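import Mathlib
import Cfsg.Agent.Helper5.M22CovA
import Cfsg.Agent.Helper5.M22LDSum
import Cfsg.Agent.Helper5.M22LTSum
import Cfsg.Agent.Helper5.M22MDSum
import Cfsg.Agent.Helper5.M22MTSum
import Cfsg.Agent.Helper5.LTCM
import Cfsg.Agent.Helper5.LPE

/-!
# The covering groups of `M22` and its Schur multiplier
-/

set_option autoImplicit false

namespace Cfsg.Agent.Helper5.M22Cov

open Cfsg Cfsg.Agent.Helper9.Golay Cfsg.Agent.Helper9.OutM22 Cfsg.Agent.Helper9.OutM24
  Cfsg.Agent.Helper5.StemP Cfsg.Agent.Helper5.LP Cfsg.Agent.Helper5.LTC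

/-! ### the prime 2 -/

theorem words_lt_D : ∀ wi, ∀ c ∈ M22LD.cert.W wi, c < 2 * 2 := by
  intro wi c hc
  have h : ∀ w ∈ M22LD.words, ∀ c ∈ w, c < 4 := by decide +kernel
  change c ∈ M22LD.words.getD wi [] at hc
  by_cases hwi : wi < M22LD.words.length
  · rw [List.getD_eq_getElem _ _ hwi] at hc
    exact h _ (List.getElem_mem hwi) c hc
  · rw [List.getD_eq_default _ _ (by omega)] at hc
    simp at hc

set_option maxRecDepth 1000000 in
theorem wordOK_D : ∀ wi, wi < M22LD.cert.nrel →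
    wordOK (coverRels 2 mm CC CC 8) CC (M22LD.cert.W wi) (M22LD.cert.δ wi)
      (M22LD.origs.getD wi 0) = true := by decide +kernel

theorem subW0_D : M22LD.cert.W 65 = [0] := by decide +kernel

theorem subW1_D : M22LD.cert.W 66 = (List.replicate 8 uw).flatten := by decide +kernel

theorem hsubs_D : ∀ wi, M22LD.cert.nrel ≤ wi → wi < M22LD.cert.nw →
    ev (2 * 2) (coverRels 2 mm CC CC 8) (M22LD.cert.W wi) ∈ kE 8 := by
  intro wi h1 h2
  have h1' : 65 ≤ wi := h1
  have h2' : wi < 67 := h2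
  interval_cases wi
  · rw [subW0_D]
    exact Subgroup.subset_closure (by left; rfl)
  · rw [subW1_D, ← ev_pow]
    exact Subgroup.subset_closure (by right; rfl)

theorem card_le_D : Finite (CovG 2 mm CC CC 8) ∧
    Nat.card (CovG 2 mm CC CC 8) ≤ 443520 * 4 := by
  have hfin := kE_fin (e := 8) (by decide)
  have := hfin.1
  have h := covG_card_le 2 mm CC CC 8 M22LD.cert rfl rfl rfl (by norm_num) (fun r hr => hr) CC_lt
    (by decide) words_lt_D (fun wi => M22LD.origs.getD wi 0) wordOK_D (kE 8) hsubs_D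
    (kE_inj (by decide) (by decide)) M22LD.hchk M22LD.tab (by decide +kernel) (by decide)
    M22LD.hT M22LD.js M22LD.hjs 4 4 (by norm_num) (by norm_num) M22LD.cs0 M22LD.h0
    (fun i => M22LD.as_.getD i 0) (fun i => M22LD.css.getD i []) M22LD.hgs
  refine ⟨h.1, h.2.trans ?_⟩
  have hN : M22LD.tab.N = 8064 := rfl
  rw [hN]
  calc Nat.card (kE 8) * 8064 * 4 ≤ 11 * 5 * 8064 * 4 :=
        Nat.mul_le_mul_right _ (Nat.mul_le_mul_right _ hfin.2)
    _ = 443520 * 4 := by norm_num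

instance fin_D : Finite (CovG 2 mm CC CC 8) := card_le_D.1

theorem letters_D : LettersLt (2 * 2) (coverRels 2 mm CC CC 8) :=
  coverRels_lt 2 mm CC CC 8 CC2_lt

set_option maxRecDepth 1000000 in
theorem RL_D : coverRels 2 mm CC CC 8 = M22MD.RL := by decide +kernel

theorem relsFix_D : RelsFix (coverRels 2 mm CC CC 8) 32256 M22MD.mT := by
  rw [RL_D]
  exact M22MD.relsFix

set_option maxRecDepth 1000000 in
theorem move_D : actL M22MD.mT (List.replicate 2 zuw).flatten 0 ≠ 0 := by decide +kernel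

theorem zuw_lt : ∀ c ∈ zuw, c < 2 * 2 := CC_lt zuw zuw_mem

theorem z0_ne_D : ev (2 * 2) (coverRels 2 mm CC CC 8) zuw ^ 2 ^ (2 - 1) ≠ 1 := by
  have hA := actsOn_tableHomI linv_linv (fun x hx => linv_lt hx) letters_D M22MD.tableOK
    relsFix_D
  have e1 : 2 ^ (2 - 1) = 2 := by norm_num
  rw [e1, ev_pow]
  refine ne_one_of_move hA _ ?_ 0 (by norm_num) move_D
  intro c hc
  obtain ⟨l, hl, hcl⟩ := List.mem_flatten.mp hc
  rw [List.eq_of_mem_replicate hl] at hcl
  exact zuw_lt c hcl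

theorem cgen_pow55_D : ∀ x ∈ {x : CovG 2 mm CC CC 8 | ∃ i, i < 2 ∧ x = cgen 2 mm CC CC 8 i},
    x ^ 55 = 1 := by
  rintro x ⟨i, hi, rfl⟩
  interval_cases i
  · have h := cgen_pow 2 mm CC CC 8 (i := 0) (by norm_num)
    have e1 : mm 0 = 11 := rfl
    rw [e1] at h
    rw [show 55 = 11 * 5 from rfl, pow_mul, h, one_pow]
  · have h := cgen_pow 2 mm CC CC 8 (i := 1) (by norm_num)
    have e1 : mm 1 = 5 := rfl
    rw [e1] at h
    rw [show 55 = 5 * 11 from rfl, pow_mul, h, one_pow]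

theorem stem_D : (Cfsg.IsStemExtension (piE 8) ∧
    Nonempty ((piE 8).ker ≃* Multiplicative (ZMod (2 ^ 2)))) ∧
    Nat.card (CovG 2 mm CC CC 8) = Nat.card ↥Spor.M22 * 2 ^ 2 := by
  refine stem_cyclic_le (piE 8) (piE_surj 8) 2 2 3 (by norm_num) (by norm_num)
    (by rw [card_M22]; exact card_le_D.2)
    (ev (2 * 2) (coverRels 2 mm CC CC 8) zuw)
    (cover_center 2 mm CC CC 8 zuw_mem zuw_lt)
    (coverHomU_ker 2 mm CC CC 8 CC2_lt g g_pow CC2_rel zuw_mem) ?_ z0_ne_D
    _ (closure_cgen 2 mm CC CC 8) 55 cgen_pow55_D (by decide)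
  rw [ev_pow]
  exact ev_rel (mem_coverRels_T 2 mm CC CC 8 zuw_mem)

/-! ### the prime 3 -/

theorem words_lt_T : ∀ wi, ∀ c ∈ M22LT.cert.W wi, c < 2 * 2 := by
  intro wi c hc
  have h : ∀ w ∈ M22LT.words, ∀ c ∈ w, c < 4 := by decide +kernel
  change c ∈ M22LT.words.getD wi [] at hc
  by_cases hwi : wi < M22LT.words.length
  · rw [List.getD_eq_getElem _ _ hwi] at hc
    exact h _ (List.getElem_mem hwi) c hc
  · rw [List.getD_eq_default _ _ (by omega)] at hc
    simp at hc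

set_option maxRecDepth 1000000 in
theorem wordOK_T : ∀ wi, wi < M22LT.cert.nrel →
    wordOK (coverRels 2 mm CC CC 9) CC (M22LT.cert.W wi) (M22LT.cert.δ wi)
      (M22LT.origs.getD wi 0) = true := by decide +kernel

theorem subW0_T : M22LT.cert.W 65 = [0] := by decide +kernel

theorem subW1_T : M22LT.cert.W 66 = (List.replicate 9 uw).flatten := by decide +kernel

theorem hsubs_T : ∀ wi, M22LT.cert.nrel ≤ wi → wi < M22LT.cert.nw →
    ev (2 * 2) (coverRels 2 mm CC CC 9) (M22LT.cert.W wi) ∈ kE 9 := by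
  intro wi h1 h2
  have h1' : 65 ≤ wi := h1
  have h2' : wi < 67 := h2
  interval_cases wi
  · rw [subW0_T]
    exact Subgroup.subset_closure (by left; rfl)
  · rw [subW1_T, ← ev_pow]
    exact Subgroup.subset_closure (by right; rfl)

theorem card_le_T : Finite (CovG 2 mm CC CC 9) ∧
    Nat.card (CovG 2 mm CC CC 9) ≤ 443520 * 3 := by
  have hfin := kE_fin (e := 9) (by decide)
  have := hfin.1
  have h := covG_card_le 2 mm CC CC 9 M22LT.cert rfl rfl rfl (by norm_num) (fun r hr => hr) CC_lt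
    (by decide) words_lt_T (fun wi => M22LT.origs.getD wi 0) wordOK_T (kE 9) hsubs_T
    (kE_inj (by decide) (by decide)) M22LT.hchk M22LT.tab (by decide +kernel) (by decide)
    M22LT.hT M22LT.js M22LT.hjs 4 3 (by norm_num) (by norm_num) M22LT.cs0 M22LT.h0
    (fun i => M22LT.as_.getD i 0) (fun i => M22LT.css.getD i []) M22LT.hgs
  refine ⟨h.1, h.2.trans ?_⟩
  have hN : M22LT.tab.N = 8064 := rfl
  rw [hN]
  calc Nat.card (kE 9) * 8064 * 3 ≤ 11 * 5 * 8064 * 3 :=
        Nat.mul_le_mul_right _ (Nat.mul_le_mul_right _ hfin.2)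
    _ = 443520 * 3 := by norm_num

instance fin_T : Finite (CovG 2 mm CC CC 9) := card_le_T.1

theorem letters_T : LettersLt (2 * 2) (coverRels 2 mm CC CC 9) :=
  coverRels_lt 2 mm CC CC 9 CC2_lt

set_option maxRecDepth 1000000 in
theorem RL_T : coverRels 2 mm CC CC 9 = M22MT.RL := by decide +kernel

theorem relsFix_T : RelsFix (coverRels 2 mm CC CC 9) 24192 M22MT.mT := by
  rw [RL_T]
  exact M22MT.relsFix

set_option maxRecDepth 1000000 in
theorem move_T : actL M22MT.mT (List.replicate 1 zuw).flatten 0 ≠ 0 := by decide +kernel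

theorem z0_ne_T : ev (2 * 2) (coverRels 2 mm CC CC 9) zuw ^ 3 ^ (1 - 1) ≠ 1 := by
  have hA := actsOn_tableHomI linv_linv (fun x hx => linv_lt hx) letters_T M22MT.tableOK
    relsFix_T
  have e1 : 3 ^ (1 - 1) = 1 := by norm_num
  rw [e1, ev_pow]
  refine ne_one_of_move hA _ ?_ 0 (by norm_num) move_T
  intro c hc
  obtain ⟨l, hl, hcl⟩ := List.mem_flatten.mp hc
  rw [List.eq_of_mem_replicate hl] at hcl
  exact zuw_lt c hcl

theorem cgen_pow55_T : ∀ x ∈ {x : CovG 2 mm CC CC 9 | ∃ i, i < 2 ∧ x = cgen 2 mm CC CC 9 i},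
    x ^ 55 = 1 := by
  rintro x ⟨i, hi, rfl⟩
  interval_cases i
  · have h := cgen_pow 2 mm CC CC 9 (i := 0) (by norm_num)
    have e1 : mm 0 = 11 := rfl
    rw [e1] at h
    rw [show 55 = 11 * 5 from rfl, pow_mul, h, one_pow]
  · have h := cgen_pow 2 mm CC CC 9 (i := 1) (by norm_num)
    have e1 : mm 1 = 5 := rfl
    rw [e1] at h
    rw [show 55 = 5 * 11 from rfl, pow_mul, h, one_pow]

theorem stem_T : (Cfsg.IsStemExtension (piE 9) ∧
    Nonempty ((piE 9).ker ≃* Multiplicative (ZMod (3 ^ 1)))) ∧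
    Nat.card (CovG 2 mm CC CC 9) = Nat.card ↥Spor.M22 * 3 ^ 1 := by
  refine stem_cyclic_le (piE 9) (piE_surj 9) 3 1 2 (by norm_num) (by norm_num)
    (by rw [card_M22]; exact card_le_T.2)
    (ev (2 * 2) (coverRels 2 mm CC CC 9) zuw)
    (cover_center 2 mm CC CC 9 zuw_mem zuw_lt)
    (coverHomU_ker 2 mm CC CC 9 CC2_lt g g_pow CC2_rel zuw_mem) ?_ z0_ne_T
    _ (closure_cgen 2 mm CC CC 9) 55 cgen_pow55_T (by decide)
  rw [ev_pow]
  exact ev_rel (mem_coverRels_T 2 mm CC CC 9 zuw_mem)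

end Cfsg.Agent.Helper5.M22Cov
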