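import Mathlib
import Cfsg.Agent.Helper5.M22CovB

/-!
# The Schur multiplier of `M22` is cyclic of order 12
-/

set_option autoImplicit false

namespace Cfsg.Agent.Helper5.M22Cov

open Cfsg Cfsg.Agent.Helper9.Golay Cfsg.Agent.Helper9.OutM22 Cfsg.Agent.Helper9.OutM24
  Cfsg.Agent.Helper5.StemP Cfsg.Agent.Helper5.LP Cfsg.Agent.Helper5.LTC

theorem mm_cop2 : ∀ i, i < 2 → g i ^ mm i = 1 ∧ (mm i).Coprime (2 ^ 7) := by
  intro i hi
  refine ⟨g_pow i hi, ?_⟩
  interval_cases i <;> decide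

theorem mm_cop3 : ∀ i, i < 2 → g i ^ mm i = 1 ∧ (mm i).Coprime (3 ^ 2) := by
  intro i hi
  refine ⟨g_pow i hi, ?_⟩
  interval_cases i <;> decide

theorem card_D : Nat.card (CovG 2 mm CC CC 8) = Nat.card ↥Spor.M22 * 4 := stem_D.2

theorem card_T : Nat.card (CovG 2 mm CC CC 9) = Nat.card ↥Spor.M22 * 3 := stem_T.2

theorem bound (Γ : Type) [Group Γ] [Finite Γ] (σ : Γ →* ↥Spor.M22)
    (hσ : Cfsg.IsStemExtension σ) : Nat.card σ.ker ≤ 3 * 4 := by
  have hc := hσ.2.1
  have : Finite (LPG (2 * 2) (coverRels 2 mm CC CC (2 ^ 3))) := card_le_D.1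
  have : Finite (LPG (2 * 2) (coverRels 2 mm CC CC (3 ^ 2))) := card_le_T.1
  have h2 : Nat.card (qmap σ hc 3465).ker ∣ 4 :=
    card_qmap_ker_dvd_of_pow σ hσ hc 2 Nat.prime_two 7 3 3465 (by rw [card_M22]; norm_num)
      2 mm CC CC CC2_lt g g_closure mm_cop2 CC2_rel 4
      (by
        show Nat.card (CovG 2 mm CC CC 8) ∣ _
        rw [card_D]) (by decide)
  have h3 : Nat.card (qmap σ hc 49280).ker ∣ 3 :=
    card_qmap_ker_dvd_of_pow σ hσ hc 3 Nat.prime_three 2 2 49280 (by rw [card_M22]; norm_num)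
      2 mm CC CC CC2_lt g g_closure mm_cop3 CC2_rel 3
      (by
        show Nat.card (CovG 2 mm CC CC 9) ∣ _
        rw [card_T]) (by decide)
  have h5 : ∀ z ∈ σ.ker, z ^ Nat.gcd 3465 49280 = 1 → z = 1 := by
    intro z hz hz1
    have e385 : Nat.gcd 3465 49280 = 5 * (7 * 11) := by decide
    rw [e385] at hz1
    refine eq_one_of_pow_eq_one σ hσ (5 * (7 * 11)) ?_ z hz hz1
    intro q hq hqd
    rw [card_M22]
    rcases (Nat.Prime.dvd_mul hq).mp hqd with h | h
    · rw [(Nat.prime_dvd_prime_iff_eq hq (by norm_num)).mp h]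
      decide
    · rcases (Nat.Prime.dvd_mul hq).mp h with h | h
      · rw [(Nat.prime_dvd_prime_iff_eq hq (by norm_num)).mp h]
        decide
      · rw [(Nat.prime_dvd_prime_iff_eq hq (by norm_num)).mp h]
        decide
  have h6 := card_ker_le_mul σ hc 3465 49280 h5
  calc Nat.card σ.ker ≤ Nat.card (qmap σ hc 3465).ker * Nat.card (qmap σ hc 49280).ker := h6
    _ ≤ 4 * 3 := Nat.mul_le_mul (Nat.le_of_dvd (by norm_num) h2) (Nat.le_of_dvd (by norm_num) h3)
    _ = 3 * 4 := by norm_num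

theorem main : Cfsg.HasCyclicSchurMultiplier ↥Spor.M22 12 := by
  have c3 : Nat.card (Multiplicative (ZMod 3)) = 3 := by
    change Nat.card (ZMod 3) = 3
    rw [Nat.card_zmod]
  have c4 : Nat.card (Multiplicative (ZMod 4)) = 4 := by
    change Nat.card (ZMod 4) = 4
    rw [Nat.card_zmod]
  have hprod : Cfsg.HasSchurMultiplier ↥Spor.M22
      (Multiplicative (ZMod 3) × Multiplicative (ZMod 4)) := by
    apply hasSchurMultiplier_prod
    · rw [c3, c4]; decide
    · exact ⟨CovG 2 mm CC CC 9, inferInstance, card_le_T.1, piE 9, stem_T.1.1, stem_T.1.2⟩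
    · exact ⟨CovG 2 mm CC CC 8, inferInstance, card_le_D.1, piE 8, stem_D.1.1, stem_D.1.2⟩
    · intro Γ _ _ σ hσ
      rw [c3, c4]
      exact bound Γ σ hσ
  have e1 : Multiplicative (ZMod 12) ≃* Multiplicative (ZMod 3 × ZMod 4) :=
    AddEquiv.toMultiplicative
      (ZMod.chineseRemainder (show Nat.Coprime 3 4 by decide)).toAddEquiv
  have e2 : Multiplicative (ZMod 3 × ZMod 4) ≃* Multiplicative (ZMod 3) × Multiplicative (ZMod 4) :=
    MulEquiv.prodMultiplicative _ _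
  exact hasSchurMultiplier_congr_right (e1.trans e2).symm hprod

end Cfsg.Agent.Helper5.M22Cov
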