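import Cfsg.Agent.Helper5.M22MDDat

/-! generated permutation model of a central extension, checks: M22MD -/

set_option autoImplicit false
set_option Elab.async false
set_option maxRecDepth 1000000

namespace Cfsg.Agent.Helper5.M22MD
open Cfsg.Agent.Helper5.TC Cfsg.Agent.Helper5.TCI Cfsg.Agent.Helper5.LP

theorem relc_22_0 : fixPtsF W_22 6250 0 = true := by decide +kernel

theorem relc_23_0 : fixPtsF W_23 13392 0 = true := by decide +kernel

theorem relc_18_0 : fixPtsF W_18 32256 0 = true := by decide +kernel

theorem inv_1 : invRowFI mT 32256 1 0 32256 0 = true := by decide +kernel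

theorem relc_0_0 : fixPtsF W_0 32256 0 = true := by decide +kernel

theorem relc_21_32142 : fixPtsF W_21 114 32142 = true := by decide +kernel

end Cfsg.Agent.Helper5.M22MD
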