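import Mathlib
import Cfsg.Agent.Helper9.Out.M23Out
import Cfsg.Agent.Helper5.StemPB

/-! generated: three generators of the Mathieu group `M23`, of orders 23, 11 and 5, and relators -/

set_option autoImplicit false

namespace Cfsg.Agent.Helper5.M23Cov

open Cfsg Cfsg.Agent.Helper9.Golay Cfsg.Agent.Helper9.OutM23 Cfsg.Agent.Helper9.OutM24
  Cfsg.Agent.Helper5.StemP

/-- the table of the inverse of the first generator. -/
def tAi : List ℕ := [22, 0, 1, 2, 3, 4, 5, 6, 7, 8, 9, 10, 11, 12, 13, 14, 15, 16, 17, 18, 19, 20, 21, 23]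

/-- the table of the inverse of the second generator. -/
def tNi : List ℕ := [0, 12, 1, 13, 2, 14, 3, 15, 4, 16, 5, 17, 6, 18, 7, 19, 8, 20, 9, 21, 10, 22, 11, 23]

/-- the table of the third generator. -/
def tD : List ℕ := [0, 18, 6, 3, 2, 21, 1, 5, 16, 12, 7, 19, 8, 9, 17, 15, 13, 11, 4, 22, 10, 20, 14, 23]

/-- the table of the inverse of the third generator. -/
def tDi : List ℕ := [0, 6, 4, 3, 18, 7, 2, 10, 12, 13, 20, 17, 9, 16, 22, 15, 8, 14, 1, 11, 21, 5, 19, 23]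

theorem eq_one_of_tbl {σ : ↥Spor.M23} {t : List ℕ} (h : IsTbl (σ : Equiv.Perm GolayPt) t)
    (ht : t = idT) : σ = 1 := by
  apply Subtype.ext
  rw [ht] at h
  exact h.eq_of_eq isTbl_one

theorem a23_inv : a23⁻¹ = a23 ^ 22 := by
  apply inv_eq_of_mul_eq_one_right
  rw [← pow_succ', pow23_a23]

theorem tbl_ai : IsTbl ((a23⁻¹ : ↥Spor.M23) : Equiv.Perm GolayPt) tAi := by
  rw [a23_inv, Subgroup.coe_pow]
  have h := aP_tbl.pow 22
  have e : powT o24AT 22 = tAi := by decide +kernel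
  rw [e] at h
  exact h

theorem n23_pow : n23 ^ 11 = 1 := by
  apply eq_one_of_tbl (t := powT o24NT 11)
  · rw [Subgroup.coe_pow]
    exact nP_tbl.pow 11
  · decide +kernel

theorem n23_inv : n23⁻¹ = n23 ^ 10 := by
  apply inv_eq_of_mul_eq_one_right
  rw [← pow_succ', n23_pow]

theorem tbl_ni : IsTbl ((n23⁻¹ : ↥Spor.M23) : Equiv.Perm GolayPt) tNi := by
  rw [n23_inv, Subgroup.coe_pow]
  have h := nP_tbl.pow 10
  have e : powT o24NT 10 = tNi := by decide +kernel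
  rw [e] at h
  exact h

/-- the third generator, of order 5. -/
noncomputable def d23 : ↥Spor.M23 := b23 * n23 * n23 * a23 * b23 * a23⁻¹ * b23 * n23 * a23 * n23 * b23 * n23⁻¹

theorem tbl_d : IsTbl (d23 : Equiv.Perm GolayPt) tD := by
  have h := (((((((((((b23P_tbl).mul nP_tbl).mul nP_tbl).mul aP_tbl).mul b23P_tbl).mul tbl_ai).mul b23P_tbl).mul nP_tbl).mul aP_tbl).mul nP_tbl).mul b23P_tbl).mul tbl_ni
  have e : mulT (mulT (mulT (mulT (mulT (mulT (mulT (mulT (mulT (mulT (mulT (o23BT) o24NT) o24NT) o24AT) o23BT) tAi) o23BT) o24NT) o24AT) o24NT) o23BT) tNi = tD := by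
    decide +kernel
  rw [e] at h
  exact h

theorem d23_pow : d23 ^ 5 = 1 := by
  apply eq_one_of_tbl (t := powT tD 5)
  · rw [Subgroup.coe_pow]
    exact tbl_d.pow 5
  · decide +kernel

theorem d23_inv : d23⁻¹ = d23 ^ 4 := by
  apply inv_eq_of_mul_eq_one_right
  rw [← pow_succ', d23_pow]

theorem tbl_di : IsTbl ((d23⁻¹ : ↥Spor.M23) : Equiv.Perm GolayPt) tDi := by
  rw [d23_inv, Subgroup.coe_pow]
  have h := tbl_d.pow 4
  have e : powT tD 4 = tDi := by decide +kernel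
  rw [e] at h
  exact h

/-- the generators. -/
noncomputable def g (i : ℕ) : ↥Spor.M23 :=
  if i = 0 then a23 else if i = 1 then n23 else if i = 2 then d23 else 1

/-- the orders. -/
def mm (i : ℕ) : ℕ := if i = 0 then 23 else if i = 1 then 11 else 5

/-- the tables of the letters. -/
def LT (c : ℕ) : List ℕ :=
  if c = 0 then o24AT else if c = 1 then tAi else if c = 2 then o24NT else if c = 3 then tNi
  else if c = 4 then tD else tDi

/-- the table of a word. -/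
def wordT (r : List ℕ) : List ℕ := r.foldr (fun c acc => mulT (LT c) acc) idT

theorem lval_g0 : lval g 0 = a23 := rfl

theorem lval_g1 : lval g 1 = a23⁻¹ := rfl

theorem lval_g2 : lval g 2 = n23 := rfl

theorem lval_g3 : lval g 3 = n23⁻¹ := rfl

theorem lval_g4 : lval g 4 = d23 := rfl

theorem lval_g5 : lval g 5 = d23⁻¹ := rfl

theorem isTbl_lval : ∀ c, c < 2 * 3 →
    IsTbl ((lval g c : ↥Spor.M23) : Equiv.Perm GolayPt) (LT c) := by
  intro c hc
  interval_cases c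
  · rw [lval_g0]; exact aP_tbl
  · rw [lval_g1]; exact tbl_ai
  · rw [lval_g2]; exact nP_tbl
  · rw [lval_g3]; exact tbl_ni
  · rw [lval_g4]; exact tbl_d
  · rw [lval_g5]; exact tbl_di

theorem isTbl_word : ∀ r : List ℕ, (∀ c ∈ r, c < 2 * 3) →
    IsTbl (((r.map (lval g)).prod : ↥Spor.M23) : Equiv.Perm GolayPt) (wordT r)
  | [], _ => by
    rw [List.map_nil, List.prod_nil, Subgroup.coe_one]
    exact isTbl_one
  | c :: l, h => by
    rw [List.map_cons, List.prod_cons, Subgroup.coe_mul]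
    exact (isTbl_lval c (h c List.mem_cons_self)).mul
      (isTbl_word l (fun c hc => h c (List.mem_cons_of_mem _ hc)))

/-- the central words. -/
def CC : List (List ℕ) := [[2, 0, 3, 1, 1], [4, 2, 5, 3, 3, 3], [1, 1, 1, 1, 1, 1, 1, 1, 4, 1, 1, 1, 1, 1, 1, 1, 4, 4, 1, 1, 5, 1, 5], [0, 0, 4, 4, 1, 1, 1, 5, 0, 0, 0, 0, 0, 0, 0, 0, 0, 0, 0, 5, 1, 4, 2, 2], [1, 1, 1, 1, 1, 1, 4, 1, 1, 1, 1, 1, 4, 4, 1, 5, 1, 1, 1, 5, 3, 3, 3, 3], [0, 0, 4, 0, 0, 0, 0, 0, 0, 0, 0, 4, 0, 0, 0, 0, 5, 5, 1, 1, 1, 1, 5, 3, 3, 3, 3], [0, 0, 5, 5, 0, 0, 0, 0, 0, 0, 0, 0, 0, 5, 5, 0, 0, 0, 5, 5, 0, 0, 0, 0, 5, 5, 2, 2], [1, 1, 1, 1, 1, 4, 4, 1, 5, 1, 1, 1, 5, 1, 1, 1, 1, 1, 1, 1, 1, 1, 4, 3, 3, 3, 3, 3]]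

theorem CC_lt : ∀ r ∈ CC, ∀ c ∈ r, c < 2 * 3 := by decide +kernel

theorem CC_tbl : ∀ r ∈ CC, wordT r = idT := by decide +kernel

theorem CC_rel : ∀ r ∈ CC, (r.map (lval g)).prod = 1 := fun r hr =>
  eq_one_of_tbl (isTbl_word r (CC_lt r hr)) (CC_tbl r hr)

theorem g_pow : ∀ i, i < 3 → g i ^ mm i = 1 := by
  intro i hi
  interval_cases i
  · exact pow23_a23
  · exact n23_pow
  · exact d23_pow

/-- a word for the involution `b23`. -/
def wb : List ℕ := [4, 1, 1, 5, 2, 0, 5, 0, 0, 4, 4, 1]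

theorem wb_eq : (wb.map (lval g)).prod = b23 := by
  apply Subtype.ext
  have h := isTbl_word wb (by decide)
  have e : wordT wb = o23BT := by decide +kernel
  rw [e] at h
  exact h.eq_of_eq b23P_tbl

theorem prod_lval_mem {K : Type*} [Group K] (x : ℕ → K) (d : ℕ) : ∀ r : List ℕ,
    (∀ c ∈ r, c < 2 * d) →
    (r.map (lval x)).prod ∈ Subgroup.closure {y | ∃ i, i < d ∧ y = x i} := by
  intro r hr
  apply Subgroup.list_prod_mem
  intro y hy
  obtain ⟨c, hc, rfl⟩ := List.mem_map.mp hy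
  have hi : c / 2 < d := by have := hr c hc; omega
  unfold lval
  split_ifs
  · exact Subgroup.subset_closure ⟨c / 2, hi, rfl⟩
  · exact inv_mem (Subgroup.subset_closure ⟨c / 2, hi, rfl⟩)

theorem g_closure : Subgroup.closure {y | ∃ i, i < 3 ∧ y = g i} = ⊤ := by
  rw [eq_top_iff, ← closure_ab23G, Subgroup.closure_le]
  intro x hx
  rcases hx with rfl | rfl
  · exact Subgroup.subset_closure ⟨0, by norm_num, rfl⟩
  · rw [SetLike.mem_coe, ← wb_eq]
    exact prod_lval_mem g 3 wb (by decide)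

/-- the second generator is not trivial. -/
theorem n_ne : o24NT ≠ idT := by decide +kernel

end Cfsg.Agent.Helper5.M23Cov
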