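import Mathlib
import Cfsg.Agent.Helper5.M23Gen
import Cfsg.Agent.Helper5.LTCH
import Cfsg.Agent.Helper5.LTCF
import Cfsg.Agent.Helper5.StemPI

/-!
# The covering groups of `M23`: the subgroup of order 253
-/

set_option autoImplicit false

namespace Cfsg.Agent.Helper5.M23Cov

open Cfsg Cfsg.Agent.Helper9.Golay Cfsg.Agent.Helper9.OutM23 Cfsg.Agent.Helper9.OutM24
  Cfsg.Agent.Helper5.StemP Cfsg.Agent.Helper5.LP Cfsg.Agent.Helper5.LTC

theorem CC2_lt : ∀ r ∈ CC ++ CC, ∀ c ∈ r, c < 2 * 3 := by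
  intro r hr
  rcases List.mem_append.mp hr with h | h <;> exact CC_lt r h

theorem CC2_rel : ∀ r ∈ CC ++ CC, (r.map (lval g)).prod = 1 := by
  intro r hr
  rcases List.mem_append.mp hr with h | h <;> exact CC_rel r h

instance finM23 : Finite ↥Spor.M23 :=
  Nat.finite_of_card_ne_zero (by rw [card_M23]; norm_num)

/-- the conjugation relator. -/
def cw : List ℕ := [2, 0, 3, 1, 1]

theorem cw_mem : cw ∈ CC := by decide +kernel

theorem order_n23 : orderOf n23 = 11 := by
  have : Fact (Nat.Prime 11) := ⟨by norm_num⟩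
  apply orderOf_eq_prime n23_pow
  intro h1
  have h := nP_tbl
  apply ne_one_of_tbl h n_ne
  have h2 := congrArg Subtype.val h1
  exact h2

section prime
variable (e : ℕ)

/-- the covering homomorphism. -/
noncomputable def piE : CovG 3 mm CC CC e →* ↥Spor.M23 :=
  coverHomU 3 mm CC CC e CC2_lt g g_pow CC2_rel

theorem piE_surj : Function.Surjective (piE e) :=
  coverHomU_surjective 3 mm CC CC e CC2_lt g g_pow CC2_rel g_closure

/-- the lift of the element of order 23. -/
noncomputable def xE : CovG 3 mm CC CC e := ev (2 * 3) (coverRels 3 mm CC CC e) [0]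

/-- the lift of the element of order 11. -/
noncomputable def uE : CovG 3 mm CC CC e := ev (2 * 3) (coverRels 3 mm CC CC e) [2]

/-- the lifted subgroup of order 253. -/
noncomputable def kE : Subgroup (CovG 3 mm CC CC e) :=
  Subgroup.closure ({xE e, uE e} : Set (CovG 3 mm CC CC e))

theorem xE_pow : xE e ^ 23 = 1 := cgen_pow 3 mm CC CC e (i := 0) (by norm_num)

theorem uE_pow : uE e ^ 11 = 1 := cgen_pow 3 mm CC CC e (i := 1) (by norm_num)

theorem xE_inv : ev (2 * 3) (coverRels 3 mm CC CC e) [1] = (xE e)⁻¹ :=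
  ev_odd 3 mm CC CC e (i := 0) (by norm_num)

theorem uE_inv : ev (2 * 3) (coverRels 3 mm CC CC e) [3] = (uE e)⁻¹ :=
  ev_odd 3 mm CC CC e (i := 1) (by norm_num)

variable {e}

theorem conj_eq (he : Nat.Coprime 23 e) : uE e * xE e * (uE e)⁻¹ = xE e ^ 2 := by
  have hc := cover_center 3 mm CC CC e cw_mem (CC_lt cw cw_mem)
  have hce : ev (2 * 3) (coverRels 3 mm CC CC e) cw ^ e = 1 := by
    rw [ev_pow]
    exact ev_rel (mem_coverRels_T 3 mm CC CC e cw_mem)
  have h1 : ev (2 * 3) (coverRels 3 mm CC CC e) cw =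
      uE e * (xE e * ((uE e)⁻¹ * ((xE e)⁻¹ * (xE e)⁻¹))) := by
    show ev (2 * 3) (coverRels 3 mm CC CC e) ([2] ++ ([0] ++ ([3] ++ ([1] ++ [1])))) = _
    rw [ev_append, ev_append, ev_append, ev_append, xE_inv, uE_inv]
    rfl
  have h2 : uE e * xE e * (uE e)⁻¹ = ev (2 * 3) (coverRels 3 mm CC CC e) cw * xE e ^ 2 := by
    rw [h1]
    group
  have h3 := central_eq_one hc h2 (xE_pow e) hce he
  rw [h2, h3, one_mul]

theorem kE_fin (he : Nat.Coprime 23 e) :
    Finite (kE e) ∧ Nat.card (kE e) ≤ 23 * 11 :=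
  closure_pair_card_le (xE e) (uE e) 23 11 2 (by norm_num) (by norm_num)
    (xE_pow e) (uE_pow e) (conj_eq he)

theorem piE_x : piE e (xE e) = a23 := by
  unfold piE xE
  rw [coverHomU_ev 3 mm CC CC e CC2_lt g g_pow CC2_rel [0] (by decide)]
  simp [lval_g0]

theorem piE_u : piE e (uE e) = n23 := by
  unfold piE uE
  rw [coverHomU_ev 3 mm CC CC e CC2_lt g g_pow CC2_rel [2] (by decide)]
  simp [lval_g2]

theorem kE_inj (he : Nat.Coprime 23 e) :
    ∀ l, phi (zC 3 mm CC CC e) l ∈ kE e → phi (zC 3 mm CC CC e) l = 1 := by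
  intro l hl
  have := (kE_fin he).1
  have hge : 23 * 11 ≤ Nat.card ((kE e).map (piE e)) := by
    apply le_card_of_orders ((kE e).map (piE e)) (p := a23) (q := n23)
    · rw [← piE_x (e := e)]
      exact Subgroup.mem_map_of_mem _ (Subgroup.subset_closure (by simp))
    · rw [← piE_u (e := e)]
      exact Subgroup.mem_map_of_mem _ (Subgroup.subset_closure (by simp))
    · exact order_a23
    · exact order_n23
    · decide
  apply eq_one_of_map_card (kE e) (piE e) (23 * 11) (kE_fin he).2 hge _ hl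
  have hker : ∀ i, zC 3 mm CC CC e i ∈ (piE e).ker := by
    intro i
    unfold zC
    by_cases hi : i < CC.length
    · rw [List.getD_eq_getElem CC [] hi]
      exact coverHomU_ker 3 mm CC CC e CC2_lt g g_pow CC2_rel (List.getElem_mem hi)
    · rw [List.getD_eq_default CC [] (by omega), ev_nil]
      exact Subgroup.one_mem _
  exact MonoidHom.mem_ker.mp (phi_mem _ hker l)

end prime

end Cfsg.Agent.Helper5.M23Cov
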