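import Cfsg.Agent.Helper5.M23LSJu0
import Cfsg.Agent.Helper5.M23LSJu1
import Cfsg.Agent.Helper5.M23LSJu2
import Cfsg.Agent.Helper5.M23LSJu3
import Cfsg.Agent.Helper5.M23LSJu4
import Cfsg.Agent.Helper5.M23LSJu5
import Cfsg.Agent.Helper5.M23LSJu6
import Cfsg.Agent.Helper5.M23LSJu7
import Cfsg.Agent.Helper5.M23LSJu8
import Cfsg.Agent.Helper5.M23LSJu9
import Cfsg.Agent.Helper5.M23LSJu10
import Cfsg.Agent.Helper5.M23LSJu11
import Cfsg.Agent.Helper5.M23LSJu12
import Cfsg.Agent.Helper5.M23LSJu13
import Cfsg.Agent.Helper5.M23LSJu14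
import Cfsg.Agent.Helper5.M23LSJu15
import Cfsg.Agent.Helper5.M23LSJu16
import Cfsg.Agent.Helper5.M23LSJu17
import Cfsg.Agent.Helper5.M23LSJu18
import Cfsg.Agent.Helper5.M23LSJu19
import Cfsg.Agent.Helper5.M23LSJu20
import Cfsg.Agent.Helper5.M23LSJu21
import Cfsg.Agent.Helper5.M23LSJu22
import Cfsg.Agent.Helper5.M23LSJu23
import Cfsg.Agent.Helper5.M23LSJu24
import Cfsg.Agent.Helper5.M23LSJu25
import Cfsg.Agent.Helper5.M23LSJu26
import Cfsg.Agent.Helper5.M23LSJu27
import Cfsg.Agent.Helper5.M23LSJu28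
import Cfsg.Agent.Helper5.M23LSJu29
import Cfsg.Agent.Helper5.M23LSJu30
import Cfsg.Agent.Helper5.M23LSJu31
import Cfsg.Agent.Helper5.M23LSJu32
import Cfsg.Agent.Helper5.M23LSJu33
import Cfsg.Agent.Helper5.M23LSJu34
import Cfsg.Agent.Helper5.M23LSJu35
import Cfsg.Agent.Helper5.M23LSJu36
import Cfsg.Agent.Helper5.M23LSJu37
import Cfsg.Agent.Helper5.M23LSJu38
import Cfsg.Agent.Helper5.M23LSJu39
import Cfsg.Agent.Helper5.M23LSJu40
import Cfsg.Agent.Helper5.M23LSJu41
import Cfsg.Agent.Helper5.M23LSJu42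
import Cfsg.Agent.Helper5.M23LSJu43
import Cfsg.Agent.Helper5.M23LSJu44
import Cfsg.Agent.Helper5.M23LSJu45
import Cfsg.Agent.Helper5.M23LSJu46
import Cfsg.Agent.Helper5.M23LSJu47
import Cfsg.Agent.Helper5.M23LSJu48
import Cfsg.Agent.Helper5.M23LSJu49
import Cfsg.Agent.Helper5.M23LSJu50
import Cfsg.Agent.Helper5.M23LSJu51
import Cfsg.Agent.Helper5.M23LSJu52
import Cfsg.Agent.Helper5.M23LSJu53
import Cfsg.Agent.Helper5.M23LSJu54
import Cfsg.Agent.Helper5.M23LSJu55
import Cfsg.Agent.Helper5.M23LSJu56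
import Cfsg.Agent.Helper5.M23LSJu57
import Cfsg.Agent.Helper5.M23LSJu58
import Cfsg.Agent.Helper5.M23LSTb0
import Cfsg.Agent.Helper5.M23LSTb1
import Cfsg.Agent.Helper5.M23LSTb2
import Cfsg.Agent.Helper5.M23LSTb3
import Cfsg.Agent.Helper5.M23LSTb4
import Cfsg.Agent.Helper5.M23LSTb5
import Cfsg.Agent.Helper5.M23LSTb6
import Cfsg.Agent.Helper5.M23LSTb7
import Cfsg.Agent.Helper5.M23LSTb8
import Cfsg.Agent.Helper5.M23LSTb9
import Cfsg.Agent.Helper5.M23LSTb10
import Cfsg.Agent.Helper5.M23LSTb11
import Cfsg.Agent.Helper5.M23LSTb12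
import Cfsg.Agent.Helper5.M23LSTb13
import Cfsg.Agent.Helper5.M23LSTb14
import Cfsg.Agent.Helper5.M23LSTb15
import Cfsg.Agent.Helper5.M23LSTb16
import Cfsg.Agent.Helper5.M23LSTb17
import Cfsg.Agent.Helper5.M23LSTb18
import Cfsg.Agent.Helper5.M23LSTb19

/-! generated labelled Todd-Coxeter certificate, summary: M23LS -/

set_option autoImplicit false
set_option maxRecDepth 1000000

namespace Cfsg.Agent.Helper5.M23LS
open Cfsg.Agent.Helper5.LTC

theorem upto_0 : ∀ j, j < 0 → ∃ r, checkFact cert j r = true := fun j hj => absurd hj (by omega)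

theorem upto_1 : ∀ j, j < 6000 → ∃ r, checkFact cert j r = true :=
  upto_step cert upto_0 ju_0 6000 len_0 chk_0

theorem upto_2 : ∀ j, j < 12000 → ∃ r, checkFact cert j r = true :=
  upto_step cert upto_1 ju_1 6000 len_1 chk_1

theorem upto_3 : ∀ j, j < 18000 → ∃ r, checkFact cert j r = true :=
  upto_step cert upto_2 ju_2 6000 len_2 chk_2

theorem upto_4 : ∀ j, j < 24000 → ∃ r, checkFact cert j r = true :=
  upto_step cert upto_3 ju_3 6000 len_3 chk_3

theorem upto_5 : ∀ j, j < 30000 → ∃ r, checkFact cert j r = true :=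
  upto_step cert upto_4 ju_4 6000 len_4 chk_4

theorem upto_6 : ∀ j, j < 36000 → ∃ r, checkFact cert j r = true :=
  upto_step cert upto_5 ju_5 6000 len_5 chk_5

theorem upto_7 : ∀ j, j < 42000 → ∃ r, checkFact cert j r = true :=
  upto_step cert upto_6 ju_6 6000 len_6 chk_6

theorem upto_8 : ∀ j, j < 48000 → ∃ r, checkFact cert j r = true :=
  upto_step cert upto_7 ju_7 6000 len_7 chk_7

theorem upto_9 : ∀ j, j < 54000 → ∃ r, checkFact cert j r = true :=
  upto_step cert upto_8 ju_8 6000 len_8 chk_8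

theorem upto_10 : ∀ j, j < 60000 → ∃ r, checkFact cert j r = true :=
  upto_step cert upto_9 ju_9 6000 len_9 chk_9

theorem upto_11 : ∀ j, j < 66000 → ∃ r, checkFact cert j r = true :=
  upto_step cert upto_10 ju_10 6000 len_10 chk_10

theorem upto_12 : ∀ j, j < 72000 → ∃ r, checkFact cert j r = true :=
  upto_step cert upto_11 ju_11 6000 len_11 chk_11

theorem upto_13 : ∀ j, j < 78000 → ∃ r, checkFact cert j r = true :=
  upto_step cert upto_12 ju_12 6000 len_12 chk_12

theorem upto_14 : ∀ j, j < 84000 → ∃ r, checkFact cert j r = true :=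
  upto_step cert upto_13 ju_13 6000 len_13 chk_13

theorem upto_15 : ∀ j, j < 90000 → ∃ r, checkFact cert j r = true :=
  upto_step cert upto_14 ju_14 6000 len_14 chk_14

theorem upto_16 : ∀ j, j < 96000 → ∃ r, checkFact cert j r = true :=
  upto_step cert upto_15 ju_15 6000 len_15 chk_15

theorem upto_17 : ∀ j, j < 102000 → ∃ r, checkFact cert j r = true :=
  upto_step cert upto_16 ju_16 6000 len_16 chk_16

theorem upto_18 : ∀ j, j < 108000 → ∃ r, checkFact cert j r = true :=
  upto_step cert upto_17 ju_17 6000 len_17 chk_17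

theorem upto_19 : ∀ j, j < 114000 → ∃ r, checkFact cert j r = true :=
  upto_step cert upto_18 ju_18 6000 len_18 chk_18

theorem upto_20 : ∀ j, j < 120000 → ∃ r, checkFact cert j r = true :=
  upto_step cert upto_19 ju_19 6000 len_19 chk_19

theorem upto_21 : ∀ j, j < 126000 → ∃ r, checkFact cert j r = true :=
  upto_step cert upto_20 ju_20 6000 len_20 chk_20

theorem upto_22 : ∀ j, j < 132000 → ∃ r, checkFact cert j r = true :=
  upto_step cert upto_21 ju_21 6000 len_21 chk_21

theorem upto_23 : ∀ j, j < 138000 → ∃ r, checkFact cert j r = true :=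
  upto_step cert upto_22 ju_22 6000 len_22 chk_22

theorem upto_24 : ∀ j, j < 144000 → ∃ r, checkFact cert j r = true :=
  upto_step cert upto_23 ju_23 6000 len_23 chk_23

theorem upto_25 : ∀ j, j < 150000 → ∃ r, checkFact cert j r = true :=
  upto_step cert upto_24 ju_24 6000 len_24 chk_24

theorem upto_26 : ∀ j, j < 156000 → ∃ r, checkFact cert j r = true :=
  upto_step cert upto_25 ju_25 6000 len_25 chk_25

theorem upto_27 : ∀ j, j < 162000 → ∃ r, checkFact cert j r = true :=
  upto_step cert upto_26 ju_26 6000 len_26 chk_26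

theorem upto_28 : ∀ j, j < 168000 → ∃ r, checkFact cert j r = true :=
  upto_step cert upto_27 ju_27 6000 len_27 chk_27

theorem upto_29 : ∀ j, j < 174000 → ∃ r, checkFact cert j r = true :=
  upto_step cert upto_28 ju_28 6000 len_28 chk_28

theorem upto_30 : ∀ j, j < 180000 → ∃ r, checkFact cert j r = true :=
  upto_step cert upto_29 ju_29 6000 len_29 chk_29

theorem upto_31 : ∀ j, j < 186000 → ∃ r, checkFact cert j r = true :=
  upto_step cert upto_30 ju_30 6000 len_30 chk_30

theorem upto_32 : ∀ j, j < 192000 → ∃ r, checkFact cert j r = true :=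
  upto_step cert upto_31 ju_31 6000 len_31 chk_31

theorem upto_33 : ∀ j, j < 198000 → ∃ r, checkFact cert j r = true :=
  upto_step cert upto_32 ju_32 6000 len_32 chk_32

theorem upto_34 : ∀ j, j < 204000 → ∃ r, checkFact cert j r = true :=
  upto_step cert upto_33 ju_33 6000 len_33 chk_33

theorem upto_35 : ∀ j, j < 210000 → ∃ r, checkFact cert j r = true :=
  upto_step cert upto_34 ju_34 6000 len_34 chk_34

theorem upto_36 : ∀ j, j < 216000 → ∃ r, checkFact cert j r = true :=
  upto_step cert upto_35 ju_35 6000 len_35 chk_35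

theorem upto_37 : ∀ j, j < 222000 → ∃ r, checkFact cert j r = true :=
  upto_step cert upto_36 ju_36 6000 len_36 chk_36

theorem upto_38 : ∀ j, j < 228000 → ∃ r, checkFact cert j r = true :=
  upto_step cert upto_37 ju_37 6000 len_37 chk_37

theorem upto_39 : ∀ j, j < 234000 → ∃ r, checkFact cert j r = true :=
  upto_step cert upto_38 ju_38 6000 len_38 chk_38

theorem upto_40 : ∀ j, j < 240000 → ∃ r, checkFact cert j r = true :=
  upto_step cert upto_39 ju_39 6000 len_39 chk_39

theorem upto_41 : ∀ j, j < 246000 → ∃ r, checkFact cert j r = true :=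
  upto_step cert upto_40 ju_40 6000 len_40 chk_40

theorem upto_42 : ∀ j, j < 252000 → ∃ r, checkFact cert j r = true :=
  upto_step cert upto_41 ju_41 6000 len_41 chk_41

theorem upto_43 : ∀ j, j < 258000 → ∃ r, checkFact cert j r = true :=
  upto_step cert upto_42 ju_42 6000 len_42 chk_42

theorem upto_44 : ∀ j, j < 264000 → ∃ r, checkFact cert j r = true :=
  upto_step cert upto_43 ju_43 6000 len_43 chk_43

theorem upto_45 : ∀ j, j < 270000 → ∃ r, checkFact cert j r = true :=
  upto_step cert upto_44 ju_44 6000 len_44 chk_44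

theorem upto_46 : ∀ j, j < 276000 → ∃ r, checkFact cert j r = true :=
  upto_step cert upto_45 ju_45 6000 len_45 chk_45

theorem upto_47 : ∀ j, j < 282000 → ∃ r, checkFact cert j r = true :=
  upto_step cert upto_46 ju_46 6000 len_46 chk_46

theorem upto_48 : ∀ j, j < 288000 → ∃ r, checkFact cert j r = true :=
  upto_step cert upto_47 ju_47 6000 len_47 chk_47

theorem upto_49 : ∀ j, j < 294000 → ∃ r, checkFact cert j r = true :=
  upto_step cert upto_48 ju_48 6000 len_48 chk_48

theorem upto_50 : ∀ j, j < 300000 → ∃ r, checkFact cert j r = true :=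
  upto_step cert upto_49 ju_49 6000 len_49 chk_49

theorem upto_51 : ∀ j, j < 306000 → ∃ r, checkFact cert j r = true :=
  upto_step cert upto_50 ju_50 6000 len_50 chk_50

theorem upto_52 : ∀ j, j < 312000 → ∃ r, checkFact cert j r = true :=
  upto_step cert upto_51 ju_51 6000 len_51 chk_51

theorem upto_53 : ∀ j, j < 318000 → ∃ r, checkFact cert j r = true :=
  upto_step cert upto_52 ju_52 6000 len_52 chk_52

theorem upto_54 : ∀ j, j < 324000 → ∃ r, checkFact cert j r = true :=
  upto_step cert upto_53 ju_53 6000 len_53 chk_53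

theorem upto_55 : ∀ j, j < 330000 → ∃ r, checkFact cert j r = true :=
  upto_step cert upto_54 ju_54 6000 len_54 chk_54

theorem upto_56 : ∀ j, j < 336000 → ∃ r, checkFact cert j r = true :=
  upto_step cert upto_55 ju_55 6000 len_55 chk_55

theorem upto_57 : ∀ j, j < 342000 → ∃ r, checkFact cert j r = true :=
  upto_step cert upto_56 ju_56 6000 len_56 chk_56

theorem upto_58 : ∀ j, j < 348000 → ∃ r, checkFact cert j r = true :=
  upto_step cert upto_57 ju_57 6000 len_57 chk_57

theorem upto_59 : ∀ j, j < 348217 → ∃ r, checkFact cert j r = true :=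
  upto_step cert upto_58 ju_58 217 len_58 chk_58

theorem hchk : ∀ j, j < cert.nf → ∃ r, checkFact cert j r = true := upto_59

theorem rowsto_0 : ∀ n, n < 0 → ∀ x, x < cert.k → tabEntryOK cert tab n x = true :=
  fun n hn => absurd hn (by omega)

theorem rowsto_1 : ∀ n, n < 2016 → ∀ x, x < cert.k → tabEntryOK cert tab n x = true :=
  rows_step cert tab rowsto_0 2016 rows_0

theorem rowsto_2 : ∀ n, n < 4032 → ∀ x, x < cert.k → tabEntryOK cert tab n x = true :=
  rows_step cert tab rowsto_1 2016 rows_1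

theorem rowsto_3 : ∀ n, n < 6048 → ∀ x, x < cert.k → tabEntryOK cert tab n x = true :=
  rows_step cert tab rowsto_2 2016 rows_2

theorem rowsto_4 : ∀ n, n < 8064 → ∀ x, x < cert.k → tabEntryOK cert tab n x = true :=
  rows_step cert tab rowsto_3 2016 rows_3

theorem rowsto_5 : ∀ n, n < 10080 → ∀ x, x < cert.k → tabEntryOK cert tab n x = true :=
  rows_step cert tab rowsto_4 2016 rows_4

theorem rowsto_6 : ∀ n, n < 12096 → ∀ x, x < cert.k → tabEntryOK cert tab n x = true :=
  rows_step cert tab rowsto_5 2016 rows_5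

theorem rowsto_7 : ∀ n, n < 14112 → ∀ x, x < cert.k → tabEntryOK cert tab n x = true :=
  rows_step cert tab rowsto_6 2016 rows_6

theorem rowsto_8 : ∀ n, n < 16128 → ∀ x, x < cert.k → tabEntryOK cert tab n x = true :=
  rows_step cert tab rowsto_7 2016 rows_7

theorem rowsto_9 : ∀ n, n < 18144 → ∀ x, x < cert.k → tabEntryOK cert tab n x = true :=
  rows_step cert tab rowsto_8 2016 rows_8

theorem rowsto_10 : ∀ n, n < 20160 → ∀ x, x < cert.k → tabEntryOK cert tab n x = true :=
  rows_step cert tab rowsto_9 2016 rows_9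

theorem rowsto_11 : ∀ n, n < 22176 → ∀ x, x < cert.k → tabEntryOK cert tab n x = true :=
  rows_step cert tab rowsto_10 2016 rows_10

theorem rowsto_12 : ∀ n, n < 24192 → ∀ x, x < cert.k → tabEntryOK cert tab n x = true :=
  rows_step cert tab rowsto_11 2016 rows_11

theorem rowsto_13 : ∀ n, n < 26208 → ∀ x, x < cert.k → tabEntryOK cert tab n x = true :=
  rows_step cert tab rowsto_12 2016 rows_12

theorem rowsto_14 : ∀ n, n < 28224 → ∀ x, x < cert.k → tabEntryOK cert tab n x = true :=
  rows_step cert tab rowsto_13 2016 rows_13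

theorem rowsto_15 : ∀ n, n < 30240 → ∀ x, x < cert.k → tabEntryOK cert tab n x = true :=
  rows_step cert tab rowsto_14 2016 rows_14

theorem rowsto_16 : ∀ n, n < 32256 → ∀ x, x < cert.k → tabEntryOK cert tab n x = true :=
  rows_step cert tab rowsto_15 2016 rows_15

theorem rowsto_17 : ∀ n, n < 34272 → ∀ x, x < cert.k → tabEntryOK cert tab n x = true :=
  rows_step cert tab rowsto_16 2016 rows_16

theorem rowsto_18 : ∀ n, n < 36288 → ∀ x, x < cert.k → tabEntryOK cert tab n x = true :=
  rows_step cert tab rowsto_17 2016 rows_17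

theorem rowsto_19 : ∀ n, n < 38304 → ∀ x, x < cert.k → tabEntryOK cert tab n x = true :=
  rows_step cert tab rowsto_18 2016 rows_18

theorem rowsto_20 : ∀ n, n < 40320 → ∀ x, x < cert.k → tabEntryOK cert tab n x = true :=
  rows_step cert tab rowsto_19 2016 rows_19

theorem hT : ∀ n, n < tab.N → ∀ x, x < cert.k → tabEntryOK cert tab n x = true := rowsto_20

theorem hjs : ∀ j ∈ js, relFactOK cert j = true := by decide +kernel

theorem h0 : ordOK cert js cs0 0 1 = true := by decide +kernel

theorem hgs : ∀ i, i < 8 → genOK cert js (css.getD i []) i 0 (as_.getD i 0) = true := by decide +kernel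

end Cfsg.Agent.Helper5.M23LS
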