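import Mathlib
import Cfsg.Agent.Helper5.M23CovA
import Cfsg.Agent.Helper5.M23LSSum

/-!
# The covering group of `M23` of exponent 6 has the order of `M23`
-/

set_option autoImplicit false

namespace Cfsg.Agent.Helper5.M23Cov

open Cfsg Cfsg.Agent.Helper9.Golay Cfsg.Agent.Helper9.OutM23 Cfsg.Agent.Helper9.OutM24
  Cfsg.Agent.Helper5.StemP Cfsg.Agent.Helper5.LP Cfsg.Agent.Helper5.LTC

theorem words_lt_S : ∀ wi, ∀ c ∈ M23LS.cert.W wi, c < 2 * 3 := by
  intro wi c hc
  have h : ∀ w ∈ M23LS.words, ∀ c ∈ w, c < 6 := by decide +kernel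
  change c ∈ M23LS.words.getD wi [] at hc
  by_cases hwi : wi < M23LS.words.length
  · rw [List.getD_eq_getElem _ _ hwi] at hc
    exact h _ (List.getElem_mem hwi) c hc
  · rw [List.getD_eq_default _ _ (by omega)] at hc
    simp at hc

set_option maxRecDepth 1000000 in
theorem wordOK_S : ∀ wi, wi < M23LS.cert.nrel →
    wordOK (coverRels 3 mm CC CC 6) CC (M23LS.cert.W wi) (M23LS.cert.δ wi)
      (M23LS.origs.getD wi 0) = true := by decide +kernel

theorem subW0_S : M23LS.cert.W 175 = [0] := by decide +kernel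

theorem subW1_S : M23LS.cert.W 176 = [2] := by decide +kernel

theorem hsubs_S : ∀ wi, M23LS.cert.nrel ≤ wi → wi < M23LS.cert.nw →
    ev (2 * 3) (coverRels 3 mm CC CC 6) (M23LS.cert.W wi) ∈ kE 6 := by
  intro wi h1 h2
  have h1' : 175 ≤ wi := h1
  have h2' : wi < 177 := h2
  interval_cases wi
  · rw [subW0_S]
    exact Subgroup.subset_closure (by left; rfl)
  · rw [subW1_S]
    exact Subgroup.subset_closure (by right; rfl)

theorem card_le_S : Finite (CovG 3 mm CC CC 6) ∧
    Nat.card (CovG 3 mm CC CC 6) ≤ 10200960 := by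
  have hfin := kE_fin (e := 6) (by decide)
  have := hfin.1
  have h := covG_card_le 3 mm CC CC 6 M23LS.cert rfl rfl rfl (by norm_num) (fun r hr => hr) CC_lt
    (by decide) words_lt_S (fun wi => M23LS.origs.getD wi 0) wordOK_S (kE 6) hsubs_S
    (kE_inj (by decide)) M23LS.hchk M23LS.tab (by decide +kernel) (by decide)
    M23LS.hT M23LS.js M23LS.hjs 0 1 (by norm_num) (by norm_num) M23LS.cs0 M23LS.h0
    (fun i => M23LS.as_.getD i 0) (fun i => M23LS.css.getD i []) M23LS.hgs
  refine ⟨h.1, h.2.trans ?_⟩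
  have hN : M23LS.tab.N = 40320 := rfl
  rw [hN]
  calc Nat.card (kE 6) * 40320 * 1 ≤ 23 * 11 * 40320 * 1 :=
        Nat.mul_le_mul_right _ (Nat.mul_le_mul_right _ hfin.2)
    _ = 10200960 := by norm_num

instance fin_S : Finite (CovG 3 mm CC CC 6) := card_le_S.1

theorem card_ker_S : Nat.card (piE 6).ker = 1 := by
  have h1 := card_eq_card_mul_ker (piE 6) (piE_surj 6)
  have h2 := card_le_S.2
  rw [← card_M23] at h2
  have hpos : 0 < Nat.card ↥Spor.M23 := Nat.card_pos
  have hk : 0 < Nat.card (piE 6).ker := Nat.card_pos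
  have h3 : Nat.card (piE 6).ker ≤ 1 := by
    by_contra hcon
    rw [not_le] at hcon
    have : Nat.card ↥Spor.M23 * 2 ≤ Nat.card ↥Spor.M23 * Nat.card (piE 6).ker :=
      Nat.mul_le_mul_left _ hcon
    omega
  omega

theorem ker_S : (piE 6).ker = ⊥ := (Subgroup.eq_bot_iff_card _).mpr card_ker_S

theorem card_S : Nat.card (CovG 3 mm CC CC 6) = Nat.card ↥Spor.M23 := by
  rw [card_eq_card_mul_ker (piE 6) (piE_surj 6), card_ker_S, mul_one]

end Cfsg.Agent.Helper5.M23Cov
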