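import Mathlib
import Cfsg.Agent.Helper5.M23CovB
import Cfsg.Agent.Helper5.StemPL
import Cfsg.Agent.Helper3.Schur

/-!
# The Schur multiplier of `M23` is trivial
-/

set_option autoImplicit false

namespace Cfsg.Agent.Helper5.M23Cov

open Cfsg Cfsg.Agent.Helper9.Golay Cfsg.Agent.Helper9.OutM23 Cfsg.Agent.Helper9.OutM24
  Cfsg.Agent.Helper5.StemP Cfsg.Agent.Helper5.LP Cfsg.Agent.Helper5.LTC

theorem mm_cop2 : ∀ i, i < 3 → g i ^ mm i = 1 ∧ (mm i).Coprime (2 ^ 7) := by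
  intro i hi
  refine ⟨g_pow i hi, ?_⟩
  interval_cases i <;> decide

theorem mm_cop3 : ∀ i, i < 3 → g i ^ mm i = 1 ∧ (mm i).Coprime (3 ^ 2) := by
  intro i hi
  refine ⟨g_pow i hi, ?_⟩
  interval_cases i <;> decide

theorem bound (Γ : Type) [Group Γ] [Finite Γ] (σ : Γ →* ↥Spor.M23)
    (hσ : Cfsg.IsStemExtension σ) : Nat.card σ.ker ≤ 1 := by
  have hc := hσ.2.1
  have : Finite (LPG (2 * 3) (coverRels 3 mm CC CC 6)) := card_le_S.1
  have hcard : Nat.card (LPG (2 * 3) (coverRels 3 mm CC CC 6)) ∣ Nat.card ↥Spor.M23 * 1 := by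
    show Nat.card (CovG 3 mm CC CC 6) ∣ _
    rw [card_S, mul_one]
  have h2 : Nat.card (qmap σ hc 79695).ker ∣ 1 :=
    card_qmap_ker_dvd_of_pow_dvd σ hσ hc 2 Nat.prime_two 7 1 79695 6 (by norm_num)
      (by rw [card_M23]; norm_num)
      3 mm CC CC CC2_lt g g_closure mm_cop2 CC2_rel 1 hcard (by decide)
  have h3 : Nat.card (qmap σ hc 1133440).ker ∣ 1 :=
    card_qmap_ker_dvd_of_pow_dvd σ hσ hc 3 Nat.prime_three 2 1 1133440 6 (by norm_num)
      (by rw [card_M23]; norm_num)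
      3 mm CC CC CC2_lt g g_closure mm_cop3 CC2_rel 1 hcard (by decide)
  have h5 : ∀ z ∈ σ.ker, z ^ Nat.gcd 79695 1133440 = 1 → z = 1 := by
    intro z hz hz1
    have e8855 : Nat.gcd 79695 1133440 = 5 * (7 * (11 * 23)) := by decide
    rw [e8855] at hz1
    refine eq_one_of_pow_eq_one σ hσ (5 * (7 * (11 * 23))) ?_ z hz hz1
    intro q hq hqd
    rw [card_M23]
    rcases (Nat.Prime.dvd_mul hq).mp hqd with h | h
    · rw [(Nat.prime_dvd_prime_iff_eq hq (by norm_num)).mp h]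
      decide
    · rcases (Nat.Prime.dvd_mul hq).mp h with h | h
      · rw [(Nat.prime_dvd_prime_iff_eq hq (by norm_num)).mp h]
        decide
      · rcases (Nat.Prime.dvd_mul hq).mp h with h | h
        · rw [(Nat.prime_dvd_prime_iff_eq hq (by norm_num)).mp h]
          decide
        · rw [(Nat.prime_dvd_prime_iff_eq hq (by norm_num)).mp h]
          decide
  have h6 := card_ker_le_mul σ hc 79695 1133440 h5
  calc Nat.card σ.ker ≤ Nat.card (qmap σ hc 79695).ker * Nat.card (qmap σ hc 1133440).ker := h6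
    _ ≤ 1 * 1 := Nat.mul_le_mul (Nat.le_of_dvd (by norm_num) h2) (Nat.le_of_dvd (by norm_num) h3)
    _ = 1 := by norm_num

theorem main : Cfsg.HasCyclicSchurMultiplier ↥Spor.M23 1 := by
  apply Cfsg.Agent.Helper3.hasCyclicSchurMultiplier_one_of
  intro Γ _ _ σ hσ
  have h := bound Γ σ hσ
  rw [Subgroup.eq_bot_iff_card]
  have hpos : 0 < Nat.card σ.ker := Nat.card_pos
  omega

end Cfsg.Agent.Helper5.M23Cov
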