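import Mathlib
import Cfsg.Agent.Helper5.M23Gen

/-! generated: four generators of the Mathieu group `M24`, of orders 23, 11, 5 and 23, and
relators; the first three generate the subgroup `M23` -/

set_option autoImplicit false

namespace Cfsg.Agent.Helper5.M24Cov

open Cfsg Cfsg.Agent.Helper9.Golay Cfsg.Agent.Helper9.OutM23 Cfsg.Agent.Helper9.OutM24
  Cfsg.Agent.Helper5.StemP Cfsg.Agent.Helper5.M23Cov

/-- the inclusion of `M23` in `M24`. -/
noncomputable def incl : ↥Spor.M23 →* ↥M24 := Subgroup.inclusion M23_le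

theorem incl_coe (y : ↥Spor.M23) : ((incl y : ↥M24) : Equiv.Perm GolayPt) = y := rfl

theorem incl_injective : Function.Injective incl := Subgroup.inclusion_injective M23_le

/-- the table of the projective inversion. -/
def tG : List ℕ := [23, 22, 11, 15, 17, 9, 19, 13, 20, 5, 16, 2, 21, 7, 18, 3, 10, 4, 14, 6, 8, 12, 1, 0]

theorem tG_eq : tblOf (stepFun 1) = tG := by decide +kernel

theorem tbl_g : IsTbl (stepPerm 1) tG := by
  have h := isTbl_step 1
  rwa [tG_eq] at h

/-- the table of the fourth generator. -/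
def tS : List ℕ := [0, 23, 21, 10, 14, 16, 8, 18, 12, 19, 4, 15, 1, 20, 6, 17, 2, 9, 3, 13, 5, 7, 11, 22]

/-- the table of the inverse of the fourth generator. -/
def tSi : List ℕ := [0, 12, 16, 18, 10, 20, 14, 21, 6, 17, 3, 22, 8, 19, 4, 11, 5, 15, 7, 9, 13, 2, 23, 1]

/-- the fourth generator, of order 23, fixing the point 0. -/
noncomputable def s24 : ↥M24 :=
  ⟨stepPerm 1 * stepPerm 0 * stepPerm 1,
    M24.mul_mem (M24.mul_mem (stepPerm_mem 1) (stepPerm_mem 0)) (stepPerm_mem 1)⟩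

theorem tbl_s : IsTbl (s24 : Equiv.Perm GolayPt) tS := by
  have h := (tbl_g.mul aP_tbl).mul tbl_g
  have e : mulT (mulT tG o24AT) tG = tS := by decide +kernel
  rw [e] at h
  exact h

theorem eq_one_of_tbl24 {σ : ↥M24} {t : List ℕ} (h : IsTbl (σ : Equiv.Perm GolayPt) t)
    (ht : t = idT) : σ = 1 := by
  apply Subtype.ext
  rw [ht] at h
  exact h.eq_of_eq isTbl_one

theorem s24_pow : s24 ^ 23 = 1 := by
  apply eq_one_of_tbl24 (t := powT tS 23)
  · rw [Subgroup.coe_pow]
    exact tbl_s.pow 23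
  · decide +kernel

theorem s24_inv : s24⁻¹ = s24 ^ 22 := by
  apply inv_eq_of_mul_eq_one_right
  rw [← pow_succ', s24_pow]

theorem tbl_si : IsTbl ((s24⁻¹ : ↥M24) : Equiv.Perm GolayPt) tSi := by
  rw [s24_inv, Subgroup.coe_pow]
  have h := tbl_s.pow 22
  have e : powT tS 22 = tSi := by decide +kernel
  rw [e] at h
  exact h

/-- the generators. -/
noncomputable def g24 (i : ℕ) : ↥M24 := if i = 3 then s24 else incl (g i)

/-- the orders. -/
def mm24 (i : ℕ) : ℕ := if i = 3 then 23 else mm i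

/-- the tables of the letters. -/
def LT24 (c : ℕ) : List ℕ := if c = 6 then tS else if c = 7 then tSi else LT c

/-- the table of a word. -/
def wordT24 (r : List ℕ) : List ℕ := r.foldr (fun c acc => mulT (LT24 c) acc) idT

theorem lval_g24_lt {c : ℕ} (hc : c < 6) : lval g24 c = incl (lval g c) := by
  have h3 : c / 2 ≠ 3 := by omega
  unfold lval g24
  rw [if_neg h3]
  split_ifs
  · rfl
  · rw [map_inv]

theorem lval_g24_6 : lval g24 6 = s24 := rfl

theorem lval_g24_7 : lval g24 7 = s24⁻¹ := rfl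

theorem isTbl_lval24 : ∀ c, c < 2 * 4 →
    IsTbl ((lval g24 c : ↥M24) : Equiv.Perm GolayPt) (LT24 c) := by
  intro c hc
  by_cases h6 : c < 6
  · rw [lval_g24_lt h6, incl_coe]
    have e : LT24 c = LT c := by
      unfold LT24
      rw [if_neg (by omega), if_neg (by omega)]
    rw [e]
    exact isTbl_lval c h6
  · have : c = 6 ∨ c = 7 := by omega
    rcases this with rfl | rfl
    · rw [lval_g24_6]; exact tbl_s
    · rw [lval_g24_7]; exact tbl_si

theorem isTbl_word24 : ∀ r : List ℕ, (∀ c ∈ r, c < 2 * 4) →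
    IsTbl (((r.map (lval g24)).prod : ↥M24) : Equiv.Perm GolayPt) (wordT24 r)
  | [], _ => by
    rw [List.map_nil, List.prod_nil, Subgroup.coe_one]
    exact isTbl_one
  | c :: l, h => by
    rw [List.map_cons, List.prod_cons, Subgroup.coe_mul]
    exact (isTbl_lval24 c (h c List.mem_cons_self)).mul
      (isTbl_word24 l (fun c hc => h c (List.mem_cons_of_mem _ hc)))

/-- the new central words. -/
def EX : List (List ℕ) := [[0, 6, 0, 0, 6, 0], [0, 6, 0, 2, 0, 6, 0, 2], [0, 6, 0, 4, 0, 6, 0, 5], [0, 6, 0, 0, 0, 3, 3, 5, 0, 4, 1, 0, 6, 0, 5, 1, 4, 4, 0, 0, 3, 5], [0, 6, 0, 0, 0, 6, 0, 0, 0, 6, 0, 0]]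

/-- the central words: the new ones, and those of `M23`. -/
def CC24 : List (List ℕ) := EX ++ CC

theorem CC24_lt : ∀ r ∈ CC24, ∀ c ∈ r, c < 2 * 4 := by decide +kernel

theorem CC24_tbl : ∀ r ∈ CC24, wordT24 r = idT := by decide +kernel

theorem CC24_rel : ∀ r ∈ CC24, (r.map (lval g24)).prod = 1 := fun r hr =>
  eq_one_of_tbl24 (isTbl_word24 r (CC24_lt r hr)) (CC24_tbl r hr)

theorem g24_pow : ∀ i, i < 4 → g24 i ^ mm24 i = 1 := by
  intro i hi
  by_cases h3 : i = 3
  · subst h3
    exact s24_pow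
  · unfold g24 mm24
    rw [if_neg h3, if_neg h3, ← map_pow, g_pow i (by omega), map_one]

/-- a word for the involution `bG`. -/
def wb24 : List ℕ := [5, 2, 0, 5, 7, 2, 4, 1, 5, 1, 5, 1]

theorem wb24_eq : (wb24.map (lval g24)).prod = bG := by
  apply Subtype.ext
  have h := isTbl_word24 wb24 (by decide)
  have e : wordT24 wb24 = o24BT := by decide +kernel
  rw [e] at h
  exact h.eq_of_eq bP_tbl

theorem g24_closure : Subgroup.closure {y | ∃ i, i < 4 ∧ y = g24 i} = ⊤ := by
  rw [eq_top_iff, ← closure_abG, Subgroup.closure_le]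
  intro x hx
  rcases hx with rfl | rfl
  · exact Subgroup.subset_closure ⟨0, by norm_num, rfl⟩
  · rw [SetLike.mem_coe, ← wb24_eq]
    exact prod_lval_mem g24 4 wb24 (by decide)

end Cfsg.Agent.Helper5.M24Cov
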