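import Mathlib
import Cfsg.Agent.Helper5.M24Gen
import Cfsg.Agent.Helper5.M23CovB
import Cfsg.Agent.Helper5.LTCI

/-!
# The covering group of `M24` of exponent 6: the image of the covering group of `M23`
-/

set_option autoImplicit false

namespace Cfsg.Agent.Helper5.M24Cov

open Cfsg Cfsg.Agent.Helper9.Golay Cfsg.Agent.Helper9.OutM23 Cfsg.Agent.Helper9.OutM24
  Cfsg.Agent.Helper5.StemP Cfsg.Agent.Helper5.LP Cfsg.Agent.Helper5.LTC Cfsg.Agent.Helper5.M23Cov

theorem CC24_2_lt : ∀ r ∈ CC24 ++ CC24, ∀ c ∈ r, c < 2 * 4 := by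
  intro r hr
  rcases List.mem_append.mp hr with h | h <;> exact CC24_lt r h

theorem CC24_2_rel : ∀ r ∈ CC24 ++ CC24, (r.map (lval g24)).prod = 1 := by
  intro r hr
  rcases List.mem_append.mp hr with h | h <;> exact CC24_rel r h

instance finM24 : Finite ↥M24 :=
  Nat.finite_of_card_ne_zero (by rw [card_M24]; norm_num)

/-- the covering homomorphism. -/
noncomputable def piF : CovG 4 mm24 CC24 CC24 6 →* ↥M24 :=
  coverHomU 4 mm24 CC24 CC24 6 CC24_2_lt g24 g24_pow CC24_2_rel

theorem piF_surj : Function.Surjective piF :=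
  coverHomU_surjective 4 mm24 CC24 CC24 6 CC24_2_lt g24 g24_pow CC24_2_rel g24_closure

theorem CC_sub : ∀ r ∈ CC, r ∈ CC24 := fun _ hr => List.mem_append_right _ hr

theorem CC_lt8 : ∀ r ∈ CC, ∀ c ∈ r, c < 2 * 4 := fun r hr c hc => by
  have := CC_lt r hr c hc
  omega

theorem ev24_eq (l : List ℕ) (hl : ∀ c ∈ l, c < 2 * 3) :
    (l.map (lval (cgen 4 mm24 CC24 CC24 6))).prod =
      ev (2 * 4) (coverRels 4 mm24 CC24 CC24 6) l :=
  (ev_eq_prod 4 mm24 CC24 CC24 6 l (fun c hc => by have := hl c hc; omega)).symm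

theorem rels_hold : ∀ l ∈ coverRels 3 mm CC CC 6,
    (l.map (lval (cgen 4 mm24 CC24 CC24 6))).prod = 1 := by
  apply coverRels_hold
  · intro i hi
    have h := cgen_pow 4 mm24 CC24 CC24 6 (i := i) (by omega)
    have e : mm24 i = mm i := by
      unfold mm24
      rw [if_neg (by omega)]
    rwa [e] at h
  · intro r hr
    rw [ev24_eq r (CC_lt r hr)]
    exact cover_center 4 mm24 CC24 CC24 6 (CC_sub r hr) (CC_lt8 r hr)
  · intro r hr
    rw [ev24_eq r (CC_lt r hr), ev_pow]
    exact ev_rel (mem_coverRels_T 4 mm24 CC24 CC24 6 (CC_sub r hr))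

/-- the natural map from the covering group of `M23`. -/
noncomputable def phiF : CovG 3 mm CC CC 6 →* CovG 4 mm24 CC24 CC24 6 :=
  lift (lval (cgen 4 mm24 CC24 CC24 6)) (coverRels_lt 3 mm CC CC 6 CC2_lt) rels_hold

theorem phiF_ev (l : List ℕ) (hl : ∀ c ∈ l, c < 2 * 3) :
    phiF (ev (2 * 3) (coverRels 3 mm CC CC 6) l) =
      ev (2 * 4) (coverRels 4 mm24 CC24 CC24 6) l := by
  unfold phiF
  rw [lift_ev _ _ _ l hl, ev24_eq l hl]

/-- the image of the covering group of `M23`. -/
noncomputable def kF : Subgroup (CovG 4 mm24 CC24 CC24 6) := phiF.range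

instance kF_fin : Finite kF :=
  Finite.of_surjective phiF.rangeRestrict phiF.rangeRestrict_surjective

theorem kF_card : Nat.card kF ≤ 10200960 :=
  (Nat.card_le_card_of_surjective phiF.rangeRestrict phiF.rangeRestrict_surjective).trans
    card_le_S.2

theorem comp_eq : piF.comp phiF = incl.comp (piE 6) := by
  apply covG_hom_ext
  intro c hc
  have hl : ∀ c' ∈ [c], c' < 2 * 3 := by
    intro c' hc'
    rw [List.mem_singleton] at hc'
    omega
  have hl8 : ∀ c' ∈ [c], c' < 2 * 4 := fun c' hc' => by have := hl c' hc'; omega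
  rw [MonoidHom.comp_apply, MonoidHom.comp_apply, phiF_ev [c] hl]
  unfold piF piE
  rw [coverHomU_ev 4 mm24 CC24 CC24 6 CC24_2_lt g24 g24_pow CC24_2_rel [c] hl8,
    coverHomU_ev 3 mm CC CC 6 CC2_lt g g_pow CC2_rel [c] hl]
  simp only [List.map_cons, List.map_nil, List.prod_cons, List.prod_nil, mul_one]
  exact lval_g24_lt (by omega)

theorem kF_map_card : 10200960 ≤ Nat.card (kF.map piF) := by
  rw [← card_M23]
  let f : ↥Spor.M23 → ↥(kF.map piF) := fun y =>
    ⟨incl y, by
      obtain ⟨w, rfl⟩ := piE_surj 6 y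
      refine Subgroup.mem_map.mpr ⟨phiF w, ⟨w, rfl⟩, ?_⟩
      have := congrArg (fun h : CovG 3 mm CC CC 6 →* ↥M24 => h w) comp_eq
      exact this⟩
  have hf : Function.Injective f := by
    intro a b hab
    have := congrArg Subtype.val hab
    exact incl_injective this
  exact Nat.card_le_card_of_injective f hf

theorem kF_inj : ∀ l, phi (zC 4 mm24 CC24 CC24 6) l ∈ kF →
    phi (zC 4 mm24 CC24 CC24 6) l = 1 := by
  intro l hl
  apply eq_one_of_map_card kF piF 10200960 kF_card kF_map_card _ hl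
  have hker : ∀ i, zC 4 mm24 CC24 CC24 6 i ∈ piF.ker := by
    intro i
    unfold zC
    by_cases hi : i < CC24.length
    · rw [List.getD_eq_getElem CC24 [] hi]
      exact coverHomU_ker 4 mm24 CC24 CC24 6 CC24_2_lt g24 g24_pow CC24_2_rel
        (List.getElem_mem hi)
    · rw [List.getD_eq_default CC24 [] (by omega), ev_nil]
      exact Subgroup.one_mem _
  exact MonoidHom.mem_ker.mp (phi_mem _ hker l)

/-- the words of `M23` are trivial in the covering group of `M24`. -/
theorem ev_CC_eq_one : ∀ r ∈ CC, ev (2 * 4) (coverRels 4 mm24 CC24 CC24 6) r = 1 := by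
  intro r hr
  rw [← phiF_ev r (CC_lt r hr)]
  have h1 : ev (2 * 3) (coverRels 3 mm CC CC 6) r ∈ (piE 6).ker :=
    coverHomU_ker 3 mm CC CC 6 CC2_lt g g_pow CC2_rel hr
  rw [ker_S, Subgroup.mem_bot] at h1
  rw [h1, map_one]

theorem EX_length : EX.length = 5 := by decide

theorem zC_tail : ∀ i, 5 ≤ i → zC 4 mm24 CC24 CC24 6 i = 1 := by
  intro i hi
  unfold zC
  have h5 : EX.length ≤ i := by rw [EX_length]; exact hi
  have e : CC24.getD i [] = CC.getD (i - EX.length) [] := by
    unfold CC24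
    exact List.getD_append_right _ _ _ _ h5
  rw [e]
  by_cases hlt : i - EX.length < CC.length
  · rw [List.getD_eq_getElem CC [] hlt]
    exact ev_CC_eq_one _ (List.getElem_mem hlt)
  · rw [List.getD_eq_default CC [] (by omega), ev_nil]

end Cfsg.Agent.Helper5.M24Cov
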