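import Mathlib
import Cfsg.Agent.Helper5.M24CovA
import Cfsg.Agent.Helper5.M24LSSum

/-!
# The covering group of `M24` of exponent 6 has the order of `M24`
-/

set_option autoImplicit false

namespace Cfsg.Agent.Helper5.M24Cov

open Cfsg Cfsg.Agent.Helper9.Golay Cfsg.Agent.Helper9.OutM23 Cfsg.Agent.Helper9.OutM24
  Cfsg.Agent.Helper5.StemP Cfsg.Agent.Helper5.LP Cfsg.Agent.Helper5.LTC Cfsg.Agent.Helper5.M23Cov

theorem words_lt_F : ∀ wi, ∀ c ∈ M24LS.cert.W wi, c < 2 * 4 := by
  intro wi c hc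
  have h : ∀ w ∈ M24LS.words, ∀ c ∈ w, c < 8 := by decide +kernel
  change c ∈ M24LS.words.getD wi [] at hc
  by_cases hwi : wi < M24LS.words.length
  · rw [List.getD_eq_getElem _ _ hwi] at hc
    exact h _ (List.getElem_mem hwi) c hc
  · rw [List.getD_eq_default _ _ (by omega)] at hc
    simp at hc

set_option maxRecDepth 1000000 in
theorem wordOK_F : ∀ wi, wi < M24LS.cert.nrel →
    wordOK2 (coverRels 4 mm24 CC24 CC24 6) CC24 5 (M24LS.cert.W wi) (M24LS.cert.δ wi)
      (M24LS.origs.getD wi 0) = true := by decide +kernel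

theorem subW0_F : M24LS.cert.W 219 = [0] := by decide +kernel

theorem subW1_F : M24LS.cert.W 220 = [2] := by decide +kernel

theorem subW2_F : M24LS.cert.W 221 = [4] := by decide +kernel

theorem letter_mem_kF (c : ℕ) (hc : c < 2 * 3) :
    ev (2 * 4) (coverRels 4 mm24 CC24 CC24 6) [c] ∈ kF := by
  refine ⟨ev (2 * 3) (coverRels 3 mm CC CC 6) [c], ?_⟩
  apply phiF_ev
  intro c' hc'
  rw [List.mem_singleton] at hc'
  omega

theorem hsubs_F : ∀ wi, M24LS.cert.nrel ≤ wi → wi < M24LS.cert.nw →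
    ev (2 * 4) (coverRels 4 mm24 CC24 CC24 6) (M24LS.cert.W wi) ∈ kF := by
  intro wi h1 h2
  have h1' : 219 ≤ wi := h1
  have h2' : wi < 222 := h2
  interval_cases wi
  · rw [subW0_F]
    exact letter_mem_kF 0 (by norm_num)
  · rw [subW1_F]
    exact letter_mem_kF 2 (by norm_num)
  · rw [subW2_F]
    exact letter_mem_kF 4 (by norm_num)

theorem card_le_F : Finite (CovG 4 mm24 CC24 CC24 6) ∧
    Nat.card (CovG 4 mm24 CC24 CC24 6) ≤ 244823040 := by
  have h := covG_card_le_tail 4 mm24 CC24 CC24 6 M24LS.cert rfl rfl rfl (by norm_num)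
    (fun r hr => hr) CC24_lt 5 (by norm_num) zC_tail
    words_lt_F (fun wi => M24LS.origs.getD wi 0) wordOK_F kF hsubs_F
    kF_inj M24LS.hchk M24LS.tab (by decide +kernel) (by decide)
    M24LS.hT M24LS.js M24LS.hjs 0 1 (by norm_num) (by norm_num) M24LS.cs0 M24LS.h0
    (fun i => M24LS.as_.getD i 0) (fun i => M24LS.css.getD i []) M24LS.hgs
  refine ⟨h.1, h.2.trans ?_⟩
  have hN : M24LS.tab.N = 24 := rfl
  rw [hN]
  calc Nat.card kF * 24 * 1 ≤ 10200960 * 24 * 1 :=
        Nat.mul_le_mul_right _ (Nat.mul_le_mul_right _ kF_card)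
    _ = 244823040 := by norm_num

instance fin_F : Finite (CovG 4 mm24 CC24 CC24 6) := card_le_F.1

theorem card_ker_F : Nat.card piF.ker = 1 := by
  have h1 := card_eq_card_mul_ker piF piF_surj
  have h2 := card_le_F.2
  rw [← card_M24] at h2
  have hpos : 0 < Nat.card ↥M24 := Nat.card_pos
  have hk : 0 < Nat.card piF.ker := Nat.card_pos
  have h3 : Nat.card piF.ker ≤ 1 := by
    by_contra hcon
    rw [not_le] at hcon
    have : Nat.card ↥M24 * 2 ≤ Nat.card ↥M24 * Nat.card piF.ker :=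
      Nat.mul_le_mul_left _ hcon
    omega
  omega

theorem card_F : Nat.card (CovG 4 mm24 CC24 CC24 6) = Nat.card ↥M24 := by
  rw [card_eq_card_mul_ker piF piF_surj, card_ker_F, mul_one]

end Cfsg.Agent.Helper5.M24Cov
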