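import Mathlib
import Cfsg.Agent.Helper5.M24CovB
import Cfsg.Agent.Helper5.StemPL
import Cfsg.Agent.Helper3.Schur

/-!
# The Schur multiplier of `M24` is trivial
-/

set_option autoImplicit false

namespace Cfsg.Agent.Helper5.M24Cov

open Cfsg Cfsg.Agent.Helper9.Golay Cfsg.Agent.Helper9.OutM23 Cfsg.Agent.Helper9.OutM24
  Cfsg.Agent.Helper5.StemP Cfsg.Agent.Helper5.LP Cfsg.Agent.Helper5.LTC Cfsg.Agent.Helper5.M23Cov

theorem mm24_cop : ∀ i, i < 4 → (mm24 i).Coprime 2 ∧ (mm24 i).Coprime 3 := by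
  intro i hi
  interval_cases i <;> decide

theorem mm24_cop2 : ∀ i, i < 4 → g24 i ^ mm24 i = 1 ∧ (mm24 i).Coprime (2 ^ 10) := by
  intro i hi
  exact ⟨g24_pow i hi, Nat.Coprime.pow_right 10 (mm24_cop i hi).1⟩

theorem mm24_cop3 : ∀ i, i < 4 → g24 i ^ mm24 i = 1 ∧ (mm24 i).Coprime (3 ^ 3) := by
  intro i hi
  exact ⟨g24_pow i hi, Nat.Coprime.pow_right 3 (mm24_cop i hi).2⟩

theorem bound (Γ : Type) [Group Γ] [Finite Γ] (σ : Γ →* ↥M24)
    (hσ : Cfsg.IsStemExtension σ) : Nat.card σ.ker ≤ 1 := by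
  have hc := hσ.2.1
  have : Finite (LPG (2 * 4) (coverRels 4 mm24 CC24 CC24 6)) := card_le_F.1
  have hcard : Nat.card (LPG (2 * 4) (coverRels 4 mm24 CC24 CC24 6)) ∣ Nat.card ↥M24 * 1 := by
    show Nat.card (CovG 4 mm24 CC24 CC24 6) ∣ _
    rw [card_F, mul_one]
  have h2 : Nat.card (qmap σ hc 239085).ker ∣ 1 :=
    card_qmap_ker_dvd_of_pow_dvd σ hσ hc 2 Nat.prime_two 10 1 239085 6 (by norm_num)
      (by rw [card_M24]; norm_num)
      4 mm24 CC24 CC24 CC24_2_lt g24 g24_closure mm24_cop2 CC24_2_rel 1 hcard (by decide)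
  have h3 : Nat.card (qmap σ hc 9067520).ker ∣ 1 :=
    card_qmap_ker_dvd_of_pow_dvd σ hσ hc 3 Nat.prime_three 3 1 9067520 6 (by norm_num)
      (by rw [card_M24]; norm_num)
      4 mm24 CC24 CC24 CC24_2_lt g24 g24_closure mm24_cop3 CC24_2_rel 1 hcard (by decide)
  have h5 : ∀ z ∈ σ.ker, z ^ Nat.gcd 239085 9067520 = 1 → z = 1 := by
    intro z hz hz1
    have e8855 : Nat.gcd 239085 9067520 = 5 * (7 * (11 * 23)) := by decide
    rw [e8855] at hz1
    refine eq_one_of_pow_eq_one σ hσ (5 * (7 * (11 * 23))) ?_ z hz hz1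
    intro q hq hqd
    rw [card_M24]
    rcases (Nat.Prime.dvd_mul hq).mp hqd with h | h
    · rw [(Nat.prime_dvd_prime_iff_eq hq (by norm_num)).mp h]
      decide
    · rcases (Nat.Prime.dvd_mul hq).mp h with h | h
      · rw [(Nat.prime_dvd_prime_iff_eq hq (by norm_num)).mp h]
        decide
      · rcases (Nat.Prime.dvd_mul hq).mp h with h | h
        · rw [(Nat.prime_dvd_prime_iff_eq hq (by norm_num)).mp h]
          decide
        · rw [(Nat.prime_dvd_prime_iff_eq hq (by norm_num)).mp h]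
          decide
  have h6 := card_ker_le_mul σ hc 239085 9067520 h5
  calc Nat.card σ.ker ≤ Nat.card (qmap σ hc 239085).ker * Nat.card (qmap σ hc 9067520).ker := h6
    _ ≤ 1 * 1 := Nat.mul_le_mul (Nat.le_of_dvd (by norm_num) h2) (Nat.le_of_dvd (by norm_num) h3)
    _ = 1 := by norm_num

theorem main : Cfsg.HasCyclicSchurMultiplier ↥M24 1 := by
  apply Cfsg.Agent.Helper3.hasCyclicSchurMultiplier_one_of
  intro Γ _ _ σ hσ
  have h := bound Γ σ hσ
  rw [Subgroup.eq_bot_iff_card]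
  have hpos : 0 < Nat.card σ.ker := Nat.card_pos
  omega

end Cfsg.Agent.Helper5.M24Cov
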