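import Mathlib
import Cfsg.Agent.Helper5.MCThree
import Cfsg.Agent.Helper4.MCPearl
import Cfsg.Agent.Helper3.MCC1
import Cfsg.Agent.Helper1.MCB2
import Cfsg.Agent.Helper6.MCB3
import Cfsg.Agent.Helper6.MCDepthFinal

/-!
# Blackburn project, PIECE T3: 3-groups of maximal class of order `≥ 3^5` with a uniform element
have all subgroups 2-generated. Exact stub of `notes/helper4_MC_stubs4.lean.txt`.
-/

set_option autoImplicit false

namespace Cfsg.Agent.Helper5.MC

open scoped commutatorElement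
open Cfsg.Agent.Helper8.HP (agemo)
open Cfsg.Agent.Helper4.MC

theorem three_group_two_gen {G : Type*} [Group G] [Finite G] {n : ℕ} [Fact (Nat.Prime 3)]
    (hG : IsMC 3 n G) (hn : 5 ≤ n) (hs : ∃ s : G, IsUniform 3 s) (H : Subgroup G) :
    ∃ T : Finset G, T.card ≤ 2 ∧ Subgroup.closure (T : Set G) = H := by
  obtain ⟨s, hs⟩ := hs
  have hP : PowerStr 3 n G := Cfsg.Agent.Helper4.MC.powerStr_of_uniform hG (by omega) hs
  have hA : ∀ i, 2 ≤ i → agemo 3 (gam G i) ≤ gam G (i + 3 - 1) :=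
    Cfsg.Agent.Helper3.MC.agemo_gam_le_of_mul_pow hG (s := s)
      (fun x hx => Cfsg.Agent.Helper1.MC.IsUniform.mul_pow hG hs hx)
  exact two_gens_three hG hn hP hA
    (fun s h => Cfsg.Agent.Helper6.MC.isUniform_of_not_mem_twoStep hG (by omega) h)
    (fun s hs M hM h =>
      Cfsg.Agent.Helper6.MC.exists_eq_gam_of_uniform_normalizes hG (by omega) hs M hM h)
    (fun H hH => Cfsg.Agent.Helper6.MC.relIndex_agemo_le_of_le_lev_one hG (by omega) hP H hH) H

end Cfsg.Agent.Helper5.MC
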