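import Mathlib
import Cfsg.Agent.Helper5.MajoranaA

set_option autoImplicit false

/-!
Two commuting Majorana involutions with distinct (unique) axial vectors generate an algebra of type
2A or 2B.
-/

namespace Cfsg.Agent.Helper5.Majorana

open Cfsg.Axial

variable {V : Type*} [AddCommGroup V] [Module ℝ V]

theorem commuting_pair (mul : V →ₗ[ℝ] V →ₗ[ℝ] V) (B : LinearMap.BilinForm ℝ V)
    (hV : IsMajoranaAmbient mul B) (μ₀ μ₁ : V ≃ₗ[ℝ] V) (a b : V)
    (h₀ : IsMajoranaPair mul B μ₀ a) (h₁ : IsMajoranaPair mul B μ₁ b)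
    (hu₀ : ∀ a' : V, IsMajoranaPair mul B μ₀ a' → a' = a)
    (hu₁ : ∀ a' : V, IsMajoranaPair mul B μ₁ a' → a' = b)
    (hn₀ : B a a = 1) (hn₁ : B b b = 1) (hc : μ₀ * μ₁ = μ₁ * μ₀) (hne : a ≠ b) :
    (B a b = 0 ∧ mul a b = 0) ∨
      (B a b = 1 / 8 ∧
        mul (a + b - (8 : ℝ) • mul a b) (a + b - (8 : ℝ) • mul a b) = a + b - (8 : ℝ) • mul a b ∧
        mul a (a + b - (8 : ℝ) • mul a b) =
          (1 / 8 : ℝ) • (a + (a + b - (8 : ℝ) • mul a b) - b) ∧
        mul b (a + b - (8 : ℝ) • mul a b) =
          (1 / 8 : ℝ) • (b + (a + b - (8 : ℝ) • mul a b) - a)) := by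
  obtain ⟨hcomm, hsymm, hpos, hassoc, -⟩ := hV
  have hfix1 : μ₀ b = b := hu₁ _ (pair_map mul B μ₀ μ₁ h₀.1 hc h₁)
  have hfix0 : μ₁ a = a := hu₀ _ (pair_map mul B μ₁ μ₀ h₁.1 hc.symm h₀)
  obtain ⟨l, u, v, hb, hu, hv⟩ := decomp mul B h₀ hfix1
  obtain ⟨l', u', v', ha, hu', hv'⟩ := decomp mul B h₁ hfix0
  have hida : mul a a = a := h₀.2.2.1.1.2.1
  have hidb : mul b b = b := h₁.2.2.1.1.2.1
  have ha0 : a ≠ 0 := h₀.2.2.1.1.1
  have hl : B a b = l := by
    obtain ⟨o1, o2⟩ := orth mul B hassoc hida hu hv
    have := congrArg (B a) hb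
    rw [map_add, map_add, map_smul, o1, o2, hn₀, smul_eq_mul, mul_one, add_zero, add_zero] at this
    exact this
  have hl' : B b a = l' := by
    obtain ⟨o1, o2⟩ := orth mul B hassoc hidb hu' hv'
    have := congrArg (B b) ha
    rw [map_add, map_add, map_smul, o1, o2, hn₁, smul_eq_mul, mul_one, add_zero, add_zero] at this
    exact this
  have hll : l' = l := by rw [← hl', hsymm, hl]
  rw [hll] at ha
  -- basic products
  have hua : mul u a = 0 := by rw [hcomm, hu]
  have hva : mul v a = (1 / 4 : ℝ) • v := by rw [hcomm, hv]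
  have hab : mul a b = l • a + (1 / 4 : ℝ) • v := by
    have := congrArg (mul a) hb
    rw [map_add, map_add, map_smul, hida, hu, hv, add_zero] at this
    exact this
  have hba : mul b a = l • b + (1 / 4 : ℝ) • v' := by
    have := congrArg (mul b) ha
    rw [map_add, map_add, map_smul, hidb, hu', hv', add_zero] at this
    exact this
  obtain ⟨F1, F2, r, r0, hvv, hr0⟩ := fusion mul B h₀ hu hu hv hv
  have hub : mul u b = mul u u + mul u v := by
    have := congrArg (mul u) hb
    rw [map_add, map_add, map_smul, hua, smul_zero, zero_add] at this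
    exact this
  have hvb : mul v b = (l / 4) • v + mul u v + (r • a + r0) := by
    have := congrArg (mul v) hb
    rw [map_add, map_add, map_smul, hva, hcomm v u, hvv, smul_smul] at this
    rw [this]
    congr 2
    congr 1
    ring
  have hbb : b = l • (l • a + (1 / 4 : ℝ) • v) + (mul u u + mul u v) +
      ((l / 4) • v + mul u v + (r • a + r0)) := by
    have := congrArg (fun x => mul x b) hb
    simp only [map_add, map_smul, LinearMap.add_apply, LinearMap.smul_apply] at this
    rw [hidb, hab, hub, hvb] at this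
    exact this
  -- first decomposition
  obtain ⟨A1, A2, A3⟩ := indep3 (mul a) (x1 := (l * l + r - l) • a) (x0 := mul u u + r0 - u)
    (xq := (l / 2 - 1) • v + (2 : ℝ) • mul u v)
    (by rw [map_smul, hida])
    (by rw [map_sub, map_add, F1, hr0, hu]; simp)
    (by rw [map_add, map_smul, map_smul, hv, F2]; module)
    (by linear_combination (norm := module) hb - hbb)
  -- second decomposition
  have hw : mul b (l • a + (1 / 4 : ℝ) • v - l • b) =
      (1 / 4 : ℝ) • (l • a + (1 / 4 : ℝ) • v - l • b) := by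
    have e : l • a + (1 / 4 : ℝ) • v - l • b = (1 / 4 : ℝ) • v' := by
      have h1 : mul a b = mul b a := hcomm a b
      rw [hab, hba] at h1
      linear_combination (norm := module) h1
    rw [e, map_smul, hv']
  have hw2 : mul b (l • a + (1 / 4 : ℝ) • v - l • b) =
      l • (l • a + (1 / 4 : ℝ) • v) + (1 / 4 : ℝ) • ((l / 4) • v + mul u v + (r • a + r0)) - l • b := by
    rw [map_sub, map_add, map_smul, map_smul, map_smul, hcomm b a, hab, hcomm b v, hvb, hidb]
  obtain ⟨-, B2, B3⟩ := indep3 (mul a) (x1 := (l * l + r - l) • a) (x0 := r0 - (3 * l) • u)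
    (xq := mul u v - (7 * l / 4 + 1 / 4) • v)
    (by rw [map_smul, hida])
    (by rw [map_sub, map_smul, hr0, hu]; simp)
    (by rw [map_sub, map_smul, hv, F2]; module)
    (by
      have h3 := hw.symm.trans hw2
      linear_combination (norm := module) (-4 : ℝ) • h3 + (3 * l) • hb)
  have hkey : (4 * l - 1 / 2) • v = 0 := by
    linear_combination (norm := module) A3 - (2 : ℝ) • B3
  have hr : l * l + r - l = 0 := by
    rcases smul_eq_zero.mp A1 with h | h
    · exact h
    · exact absurd h ha0
  rcases smul_eq_zero.mp hkey with hl8 | hv0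
  · -- type 2A
    right
    have hl8' : l = 1 / 8 := by linarith
    subst hl8'
    have hr' : r = 7 / 64 := by linarith
    subst hr'
    have hA2 : a + b - (8 : ℝ) • mul a b = b - (2 : ℝ) • v := by
      rw [hab]
      module
    have hbv : mul b v = (1 / 8 / 4 : ℝ) • v + mul u v + ((7 / 64 : ℝ) • a + r0) := by
      rw [hcomm b v, hvb]
    refine ⟨hl, ?_, ?_, ?_⟩
    · rw [hA2]
      simp only [map_sub, map_smul, LinearMap.sub_apply, LinearMap.smul_apply]
      rw [hidb, hbv, hvb, hvv]
      linear_combination (norm := module) (-4 : ℝ) • B3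
    · rw [hA2, map_sub, map_smul, hab, hv]
      module
    · rw [hA2, map_sub, map_smul, hidb, hbv]
      linear_combination (norm := module) (-2 : ℝ) • B3 - (2 : ℝ) • B2 + (3 / 4 : ℝ) • hb
  · -- type 2B
    left
    subst hv0
    have hvv0 : r • a + r0 = 0 := by
      rw [← hvv, map_zero]
    obtain ⟨C1, -, -⟩ := indep3 (mul a) (x1 := r • a) (x0 := r0) (xq := 0)
      (by rw [map_smul, hida]) hr0 (by rw [map_zero, smul_zero])
      (by rw [add_zero]; exact hvv0)
    have hr0' : r = 0 := by
      rcases smul_eq_zero.mp C1 with h | h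
      · exact h
      · exact absurd h ha0
    subst hr0'
    have hl01 : l * (l - 1) = 0 := by linarith
    rcases mul_eq_zero.mp hl01 with h | h
    · subst h
      refine ⟨hl, ?_⟩
      rw [hab]
      simp
    · exfalso
      have hl1 : l = 1 := by linarith
      subst hl1
      apply hne
      by_contra hne'
      have hd : a - b ≠ 0 := sub_ne_zero.mpr hne'
      have := hpos (a - b) hd
      rw [map_sub, map_sub, LinearMap.sub_apply, LinearMap.sub_apply, hn₀, hn₁, hl, hsymm b a, hl]
        at this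
      norm_num at this

end Cfsg.Agent.Helper5.Majorana
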