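import Mathlib
import Cfsg.Prelude.Def_BaumannBlocks
import Cfsg.Prelude.Def_PLocal
import Cfsg.Agent.Helper5.MaxAbelian

/-!
Helper lemmas (helper5): minimal centrally large subgroups.
-/

set_option autoImplicit false

namespace Cfsg.Agent.Helper5

open scoped Pointwise commutatorElement

variable {P : Type*} [Group P]

theorem commutatorElement_mul_central {G : Type*} [Group G] (a b z w : G) (hzb : Commute z b)
    (hwa : Commute w a) (hzw : Commute z w) : ⁅a * z, b * w⁆ = ⁅a, b⁆ := by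
  rw [commutatorElement_def, commutatorElement_def]
  calc a * z * (b * w) * (a * z)⁻¹ * (b * w)⁻¹
      = a * (z * (b * w)) * z⁻¹ * a⁻¹ * w⁻¹ * b⁻¹ := by group
    _ = a * ((b * w) * z) * z⁻¹ * a⁻¹ * w⁻¹ * b⁻¹ := by rw [(hzb.mul_right hzw).eq]
    _ = a * b * (w * a⁻¹) * w⁻¹ * b⁻¹ := by group
    _ = a * b * (a⁻¹ * w) * w⁻¹ * b⁻¹ := by rw [(hwa.inv_right).eq]
    _ = a * b * a⁻¹ * b⁻¹ := by group

/-- If `Q` is minimal centrally large and `R` is centrally large then `Q = (Q ∩ R) C(Q)`. -/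
theorem IsMinimalCentrallyLarge.inf_sup_eq [Finite P] {Q R : Subgroup P}
    (hQ : Cfsg.IsMinimalCentrallyLarge Q) (hR : Cfsg.IsCentrallyLarge R) :
    (Q ⊓ R) ⊔ Subgroup.centralizer (Q : Set P) = Q ∧
      ((Q : Subgroup P) : Set P) = ((Q ⊓ R : Subgroup P) : Set P) * ((Subgroup.centralizer (Q : Set P) : Subgroup P) : Set P) := by
  obtain ⟨hQ1, hQ2⟩ := IsCentrallyLarge.isCentralizerLarge hQ.1
  obtain ⟨hR1, hR2⟩ := IsCentrallyLarge.isCentralizerLarge hR
  obtain ⟨-, -, hI, hCI⟩ := chermak_delgado Q R hQ1 hR1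
  obtain ⟨hCQ, hQcc⟩ := IsCentralizerLarge.centralizer hQ1
  obtain ⟨hT1, hT2, -, -⟩ := chermak_delgado (Q ⊓ R) _ hI hCQ
  have hTQ : (Q ⊓ R) ⊔ Subgroup.centralizer (Q : Set P) ≤ Q := sup_le inf_le_left hQ2
  have hCT : Subgroup.centralizer (((Q ⊓ R) ⊔ Subgroup.centralizer (Q : Set P) : Subgroup P) : Set P) ≤
      (Q ⊓ R) ⊔ Subgroup.centralizer (Q : Set P) := by
    rw [centralizer_sup_eq, ← hQcc]
    rintro x ⟨hx1, hx2⟩
    have hx1' : x ∈ ((Subgroup.centralizer ((Q ⊓ R : Subgroup P) : Set P) : Subgroup P) : Set P) := hx1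
    rw [hCI] at hx1'
    obtain ⟨c, hc, d, hd, rfl⟩ := hx1'
    have hdQ : d ∈ Q := by
      have : d = c⁻¹ * (c * d) := by group
      rw [this]
      exact Q.mul_mem (Q.inv_mem (hQ2 hc)) hx2
    have hdR : d ∈ R := hR2 hd
    rw [sup_comm]
    exact Subgroup.mul_mem _ (Subgroup.mem_sup_left hc) (Subgroup.mem_sup_right ⟨hdQ, hdR⟩)
  have hTcl : Cfsg.IsCentrallyLarge ((Q ⊓ R) ⊔ Subgroup.centralizer (Q : Set P)) :=
    (isCentrallyLarge_iff_of_isCentralizerLarge hT2).mpr hCT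
  have hTeq := hQ.2 _ hTQ hTcl
  refine ⟨hTeq, ?_⟩
  rw [← hT1, hTeq]

theorem commutator_eq_of_eq_mul_centralizer {Q H : Subgroup P} (hHQ : H ≤ Q)
    (hset : ((Q : Subgroup P) : Set P) = (H : Set P) * ((Subgroup.centralizer (Q : Set P) : Subgroup P) : Set P)) :
    ⁅Q, Q⁆ = ⁅H, H⁆ := by
  apply le_antisymm
  · rw [Subgroup.commutator_le]
    intro g₁ hg₁ g₂ hg₂
    have hg₁' : g₁ ∈ ((Q : Subgroup P) : Set P) := hg₁
    have hg₂' : g₂ ∈ ((Q : Subgroup P) : Set P) := hg₂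
    rw [hset] at hg₁' hg₂'
    obtain ⟨a, ha, z, hz, rfl⟩ := hg₁'
    obtain ⟨b, hb, w, hw, rfl⟩ := hg₂'
    have hzb : Commute z b := ((Subgroup.mem_centralizer_iff.mp hz) b (hHQ hb)).symm
    have hwa : Commute w a := ((Subgroup.mem_centralizer_iff.mp hw) a (hHQ ha)).symm
    have hwQ : w ∈ Q := by
      rw [← SetLike.mem_coe, hset]
      exact ⟨1, H.one_mem, w, hw, one_mul w⟩
    have hzw : Commute z w := ((Subgroup.mem_centralizer_iff.mp hz) w hwQ).symm
    rw [commutatorElement_mul_central a b z w hzb hwa hzw]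
    exact Subgroup.commutator_mem_commutator ha hb
  · exact Subgroup.commutator_mono hHQ hHQ

theorem mcl_arith {q r zq zr n w : ℕ} (hw : 0 < w) (hzq : 0 < zq) (hzr : 0 < zr) (hq : 0 < q)
    (h1 : q * w = n * zq) (h2 : r * w = n * zr) (h3 : q * zq = r * zr) : q = r ∧ zq = zr := by
  have e1 : q * zr = r * zq := by
    have : (q * zr) * w = (r * zq) * w := by
      calc (q * zr) * w = (q * w) * zr := by ring
        _ = (n * zq) * zr := by rw [h1]
        _ = (n * zr) * zq := by ring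
        _ = (r * w) * zq := by rw [h2]
        _ = (r * zq) * w := by ring
    exact Nat.eq_of_mul_eq_mul_right hw this
  have e2 : q * q = r * r := by
    have : (q * q) * (zq * zr) = (r * r) * (zq * zr) := by
      calc (q * q) * (zq * zr) = (q * zr) * (q * zq) := by ring
        _ = (r * zq) * (r * zr) := by rw [e1, h3]
        _ = (r * r) * (zq * zr) := by ring
    exact Nat.eq_of_mul_eq_mul_right (Nat.mul_pos hzq hzr) this
  have e3 : q = r := Nat.mul_self_inj.mp e2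
  refine ⟨e3, ?_⟩
  rw [e3] at h3
  exact Nat.eq_of_mul_eq_mul_left (e3 ▸ hq) h3

theorem inf_inf_centralizer_le {Q R : Subgroup P}
    (eR : (R ⊓ Q) ⊔ Subgroup.centralizer (R : Set P) = R) :
    (Q ⊓ R) ⊓ Subgroup.centralizer (Q : Set P) ≤ (R ⊓ Q) ⊓ Subgroup.centralizer (R : Set P) := by
  rintro x ⟨⟨hxQ, hxR⟩, hxC⟩
  refine ⟨⟨hxR, hxQ⟩, ?_⟩
  have h1 : Subgroup.centralizer (R : Set P) =
      Subgroup.centralizer ((R ⊓ Q : Subgroup P) : Set P) ⊓
        Subgroup.centralizer ((Subgroup.centralizer (R : Set P) : Subgroup P) : Set P) := by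
    conv_lhs => rw [← eR]
    rw [centralizer_sup_eq]
  rw [h1]
  exact ⟨Subgroup.centralizer_le (inf_le_right : R ⊓ Q ≤ Q) hxC, le_centralizer_centralizer R hxR⟩

/-- Minimal centrally large subgroups have the same order and centres of the same order. -/
theorem IsMinimalCentrallyLarge.card_eq [Finite P] {Q R : Subgroup P}
    (hQ : Cfsg.IsMinimalCentrallyLarge Q) (hR : Cfsg.IsMinimalCentrallyLarge R) :
    Nat.card ↥Q = Nat.card ↥R ∧
      Nat.card ↥(Subgroup.centralizer (Q : Set P)) = Nat.card ↥(Subgroup.centralizer (R : Set P)) := by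
  obtain ⟨hQ1, hQ2⟩ := IsCentrallyLarge.isCentralizerLarge hQ.1
  obtain ⟨hR1, hR2⟩ := IsCentrallyLarge.isCentralizerLarge hR.1
  obtain ⟨eQ, sQ⟩ := IsMinimalCentrallyLarge.inf_sup_eq hQ hR.1
  obtain ⟨eR, sR⟩ := IsMinimalCentrallyLarge.inf_sup_eq hR hQ.1
  have cQ := card_mul_set_mul_card_inf (Q ⊓ R) (Subgroup.centralizer (Q : Set P))
  have cR := card_mul_set_mul_card_inf (R ⊓ Q) (Subgroup.centralizer (R : Set P))
  rw [← sQ] at cQ
  rw [← sR] at cR
  have hW : (Q ⊓ R) ⊓ Subgroup.centralizer (Q : Set P) = (R ⊓ Q) ⊓ Subgroup.centralizer (R : Set P) :=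
    le_antisymm (inf_inf_centralizer_le eR) (inf_inf_centralizer_le eQ)
  rw [← hW, inf_comm R Q] at cR
  have cQ' : Nat.card ↥Q * Nat.card ↥((Q ⊓ R) ⊓ Subgroup.centralizer (Q : Set P)) =
      Nat.card ↥(Q ⊓ R) * Nat.card ↥(Subgroup.centralizer (Q : Set P)) := cQ
  have cR' : Nat.card ↥R * Nat.card ↥((Q ⊓ R) ⊓ Subgroup.centralizer (Q : Set P)) =
      Nat.card ↥(Q ⊓ R) * Nat.card ↥(Subgroup.centralizer (R : Set P)) := cR
  have h3 : Nat.card ↥Q * Nat.card ↥(Subgroup.centralizer (Q : Set P)) =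
      Nat.card ↥R * Nat.card ↥(Subgroup.centralizer (R : Set P)) := by
    have a1 : Nat.card ↥Q * Nat.card ↥(Subgroup.centralizer (Q : Set P)) = Cfsg.maxCentralizerProduct P := hQ1
    have a2 : Nat.card ↥R * Nat.card ↥(Subgroup.centralizer (R : Set P)) = Cfsg.maxCentralizerProduct P := hR1
    rw [a1, a2]
  exact mcl_arith Nat.card_pos Nat.card_pos Nat.card_pos Nat.card_pos cQ' cR' h3

/-- If some minimal centrally large subgroup is abelian then the minimal centrally large subgroups are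
exactly the abelian subgroups of largest order. -/
theorem IsMinimalCentrallyLarge.iff_maxAbelian [Finite P] {Q : Subgroup P}
    (hQ : Cfsg.IsMinimalCentrallyLarge Q) (hQc : IsMulCommutative ↥Q) (X : Subgroup P) :
    Cfsg.IsMinimalCentrallyLarge X ↔ X ∈ Cfsg.maxAbelianSubgroups P := by
  obtain ⟨hQ1, hQ2⟩ := IsCentrallyLarge.isCentralizerLarge hQ.1
  have hCQ : Subgroup.centralizer (Q : Set P) = Q := le_antisymm hQ2 (Subgroup.le_centralizer Q)
  have hf : Nat.card ↥Q * Nat.card ↥Q = Cfsg.maxCentralizerProduct P := by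
    have a1 : Nat.card ↥Q * Nat.card ↥(Subgroup.centralizer (Q : Set P)) = Cfsg.maxCentralizerProduct P := hQ1
    rw [hCQ] at a1
    exact a1
  constructor
  · intro hX
    obtain ⟨e1, e2⟩ := IsMinimalCentrallyLarge.card_eq hX hQ
    rw [hCQ] at e2
    obtain ⟨hX1, hX2⟩ := IsCentrallyLarge.isCentralizerLarge hX.1
    have hCX : Subgroup.centralizer (X : Set P) = X :=
      Subgroup.eq_of_le_of_card_ge hX2 (by rw [e1, e2])
    have hXc : IsMulCommutative ↥X := by
      apply IsMulCommutative.of_setLike_mul_comm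
      intro a ha b hb
      rw [← hCX] at hb
      exact (Subgroup.mem_centralizer_iff.mp hb) a ha
    refine ⟨hXc, ?_⟩
    intro B hB
    have h1 : Nat.card ↥B * Nat.card ↥B ≤ cdMeasure B :=
      Nat.mul_le_mul_left _ (Subgroup.card_le_of_le (Subgroup.le_centralizer B))
    have h2 := cdMeasure_le_max B
    rw [← hf, ← e1] at h2
    exact Nat.mul_self_le_mul_self_iff.mp (le_trans h1 h2)
  · intro hX
    have hCX := centralizer_eq_of_mem_maxAbelianSubgroups hX
    obtain ⟨hXc, hXmax⟩ := hX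
    have h1 : Nat.card ↥Q ≤ Nat.card ↥X := hXmax Q hQc
    have h2 := cdMeasure_le_max X
    have h3 : cdMeasure X = Nat.card ↥X * Nat.card ↥X := by
      unfold cdMeasure
      rw [hCX]
    have hX1 : Cfsg.IsCentralizerLarge X := by
      rw [isCentralizerLarge_iff]
      apply le_antisymm h2
      rw [h3, ← hf]
      exact Nat.mul_le_mul h1 h1
    have hXcl : Cfsg.IsCentrallyLarge X :=
      (isCentrallyLarge_iff_of_isCentralizerLarge hX1).mpr (le_of_eq hCX)
    refine ⟨hXcl, ?_⟩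
    intro X' hX'X hX'
    obtain ⟨-, hX'2⟩ := IsCentrallyLarge.isCentralizerLarge hX'
    apply le_antisymm hX'X
    calc X = Subgroup.centralizer (X : Set P) := hCX.symm
      _ ≤ Subgroup.centralizer (X' : Set P) := Subgroup.centralizer_le hX'X
      _ ≤ X' := hX'2

end Cfsg.Agent.Helper5
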