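import Mathlib
import Cfsg.Prelude.Def_LocalEven
import Cfsg.Agent.Helper5.SL2Borel

/-!
Helper lemmas (helper5): the natural module of `SL₂(F)` realised inside a group; normalised coordinates
in which a given Sylow `p`-subgroup is the group of upper unitriangular matrices.
-/

set_option autoImplicit false
set_option linter.unusedSimpArgs false

namespace Cfsg.Agent.Helper5.NSL

open Matrix Cfsg.Agent.Helper5.SLB

variable {G : Type*} [Group G] {F : Type*} [Field F]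

/-- Normalised coordinates for a natural `SL₂(F)`-module `V` for `L`, in which `T` is the unipotent group. -/
structure Nat2 (V L T : Subgroup G) (ρ : L →* Matrix.SpecialLinearGroup (Fin 2) F)
    (φ : G → Fin 2 → F) : Prop where
  norm : ∀ l ∈ L, ∀ v ∈ V, l * v * l⁻¹ ∈ V
  TL : T ≤ L
  add : ∀ v ∈ V, ∀ w ∈ V, φ (v * w) = φ v + φ w
  inj : ∀ v ∈ V, ∀ w ∈ V, φ v = φ w → v = w
  surj : ∀ x : Fin 2 → F, ∃ v ∈ V, φ v = x
  act : ∀ (l : L), ∀ v ∈ V, φ ((l : G) * v * (l : G)⁻¹) =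
    ((ρ l : Matrix.SpecialLinearGroup (Fin 2) F) : Matrix (Fin 2) (Fin 2) F).mulVec (φ v)
  rho_inj : Function.Injective ρ
  rho_surj : Function.Surjective ρ
  memT : ∀ l : L, (l : G) ∈ T ↔ ρ l ∈ unip F

theorem exists_nat2 [Finite G] {p : ℕ} [Fact p.Prime] [Fintype F] (n : ℕ)
    (hF : Fintype.card F = p ^ n) (V L : Subgroup G) (hnat : Cfsg.IsNaturalSL2Module F V L)
    (hf : L ⊓ Subgroup.centralizer (V : Set G) = ⊥) (S : Sylow p ↥L) (T : Subgroup G)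
    (hT : T = ((S : Subgroup ↥L).map L.subtype)) :
    ∃ (ρ : L →* Matrix.SpecialLinearGroup (Fin 2) F) (φ : G → Fin 2 → F), Nat2 V L T ρ φ := by
  classical
  obtain ⟨hN, ρ, ψ, hsurj, hker, hact⟩ := hnat
  have hinj : Function.Injective ρ := by
    rw [← MonoidHom.ker_eq_bot_iff, hker, Subgroup.subgroupOf_eq_bot, disjoint_iff, inf_comm, hf]
  haveI : CharP F p := charP_of_card_eq_prime_pow hF
  let P : Sylow p (Matrix.SpecialLinearGroup (Fin 2) F) := S.mapSurjective hsurj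
  obtain ⟨g, hg⟩ := MulAction.exists_smul_eq (Matrix.SpecialLinearGroup (Fin 2) F) (unipSylow (F := F) p) P
  have hP : ∀ x : Matrix.SpecialLinearGroup (Fin 2) F, x ∈ P ↔ g⁻¹ * x * g ∈ unip F := by
    intro x
    rw [← hg]
    change x ∈ ((g • unipSylow (F := F) p : Sylow p _) : Subgroup _) ↔ _
    rw [Sylow.coe_subgroup_smul, Subgroup.mem_pointwise_smul_iff_inv_smul_mem, coe_unipSylow,
      ← map_inv, MulAut.smul_def, MulAut.conj_apply, inv_inv]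
  let ρ' : L →* Matrix.SpecialLinearGroup (Fin 2) F := (MulAut.conj g⁻¹).toMonoidHom.comp ρ
  have hρ' : ∀ l, ρ' l = g⁻¹ * ρ l * g := by
    intro l
    simp [ρ', MulAut.conj_apply]
  let ψ' : Additive V ≃+ (Fin 2 → F) := ψ.trans (Matrix.SpecialLinearGroup.toLin' g⁻¹).toAddEquiv
  have hψ' : ∀ x, ψ' x = ((g⁻¹ : Matrix.SpecialLinearGroup (Fin 2) F) : Matrix (Fin 2) (Fin 2) F).mulVec (ψ x) := by
    intro x
    rfl
  let φ : G → Fin 2 → F := fun x => if h : x ∈ V then ψ' (Additive.ofMul ⟨x, h⟩) else 0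
  have hφ : ∀ x (h : x ∈ V), φ x = ψ' (Additive.ofMul ⟨x, h⟩) := fun x h => dif_pos h
  refine ⟨ρ', φ, ?_⟩
  constructor
  · intro l hl v hv
    obtain ⟨w, hw, -⟩ := hact ⟨l, hl⟩ ⟨v, hv⟩
    rw [← hw]
    exact w.2
  · rw [hT]
    intro x hx
    obtain ⟨y, -, rfl⟩ := hx
    exact y.2
  · intro v hv w hw
    rw [hφ _ hv, hφ _ hw, hφ _ (V.mul_mem hv hw), ← map_add]
    rfl
  · intro v hv w hw h
    rw [hφ _ hv, hφ _ hw] at h
    have h1 := ψ'.injective h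
    exact congrArg Subtype.val (Additive.ofMul.injective h1)
  · intro x
    obtain ⟨y, hy⟩ := ψ'.surjective x
    refine ⟨(Additive.toMul y : V), (Additive.toMul y).2, ?_⟩
    rw [hφ _ (Additive.toMul y).2]
    exact hy
  · intro l v hv
    obtain ⟨w, hw, hw2⟩ := hact l ⟨v, hv⟩
    have hmem : (l : G) * v * (l : G)⁻¹ ∈ V := hw ▸ w.2
    rw [hφ _ hmem, hφ _ hv, hψ', hψ']
    have h1 : (⟨(l : G) * v * (l : G)⁻¹, hmem⟩ : V) = w := Subtype.ext hw.symm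
    rw [h1, hw2, hρ']
    simp only [Matrix.SpecialLinearGroup.coe_mul, Matrix.mulVec_mulVec]
    congr 1
    rw [mul_assoc, mul_assoc, ← Matrix.SpecialLinearGroup.coe_mul g, mul_inv_cancel,
      Matrix.SpecialLinearGroup.coe_one, mul_one]
  · intro a b hab
    have h1 : g⁻¹ * ρ a * g = g⁻¹ * ρ b * g := by rw [← hρ', ← hρ', hab]
    exact hinj (mul_left_cancel (mul_right_cancel h1))
  · intro y
    obtain ⟨l, hl⟩ := hsurj (g * y * g⁻¹)
    refine ⟨l, ?_⟩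
    rw [hρ', hl]
    group
  · intro l
    rw [hρ', ← hP, hT]
    constructor
    · rintro ⟨y, hy, hyl⟩
      have h2 : y = l := Subtype.ext hyl
      rw [← h2]
      exact ⟨y, hy, rfl⟩
    · rintro ⟨y, hy, hyl⟩
      have h2 : y = l := hinj hyl
      rw [← h2]
      exact ⟨y, hy, rfl⟩

/-- The diagonal matrix `diag(d, d⁻¹)`. -/
def dMat (d : F) (hd : d ≠ 0) : Matrix.SpecialLinearGroup (Fin 2) F :=
  ⟨!![d, 0; 0, d⁻¹], by rw [Matrix.det_fin_two_of]; field_simp; ring⟩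

theorem dMat_00 (d : F) (hd : d ≠ 0) :
    ((dMat d hd : Matrix.SpecialLinearGroup (Fin 2) F) : Matrix (Fin 2) (Fin 2) F) 0 0 = d := rfl
theorem dMat_01 (d : F) (hd : d ≠ 0) :
    ((dMat d hd : Matrix.SpecialLinearGroup (Fin 2) F) : Matrix (Fin 2) (Fin 2) F) 0 1 = 0 := rfl
theorem dMat_10 (d : F) (hd : d ≠ 0) :
    ((dMat d hd : Matrix.SpecialLinearGroup (Fin 2) F) : Matrix (Fin 2) (Fin 2) F) 1 0 = 0 := rfl
theorem dMat_11 (d : F) (hd : d ≠ 0) :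
    ((dMat d hd : Matrix.SpecialLinearGroup (Fin 2) F) : Matrix (Fin 2) (Fin 2) F) 1 1 = d⁻¹ := rfl

theorem dMat_mem_borel (d : F) (hd : d ≠ 0) : dMat d hd ∈ borel F := by
  rw [mem_borel, dMat_10]

/-- An element of `SL₂(F)` with a nonzero fixed vector has order dividing the characteristic. -/
theorem pow_char_eq_one {p : ℕ} [Fact p.Prime] [CharP F p] (M : Matrix.SpecialLinearGroup (Fin 2) F)
    (x₀ x₁ : F) (hx : x₀ ≠ 0 ∨ x₁ ≠ 0)
    (h0 : (M : Matrix (Fin 2) (Fin 2) F) 0 0 * x₀ + (M : Matrix (Fin 2) (Fin 2) F) 0 1 * x₁ = x₀)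
    (h1 : (M : Matrix (Fin 2) (Fin 2) F) 1 0 * x₀ + (M : Matrix (Fin 2) (Fin 2) F) 1 1 * x₁ = x₁) :
    M ^ p = 1 := by
  have hdet := det_eq M
  set a := (M : Matrix (Fin 2) (Fin 2) F) 0 0 with ha
  set b := (M : Matrix (Fin 2) (Fin 2) F) 0 1 with hb
  set c := (M : Matrix (Fin 2) (Fin 2) F) 1 0 with hc
  set d := (M : Matrix (Fin 2) (Fin 2) F) 1 1 with hd
  have htr : a + d = 2 := by
    have h2 : (2 - a - d) * x₀ = 0 := by
      linear_combination (-x₀) * hdet + (d - 1) * h0 - b * h1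
    have h3 : (2 - a - d) * x₁ = 0 := by
      linear_combination (-x₁) * hdet + (a - 1) * h1 - c * h0
    have h4 : 2 - a - d = 0 := by
      rcases hx with hx | hx
      · exact (mul_eq_zero.mp h2).resolve_right hx
      · exact (mul_eq_zero.mp h3).resolve_right hx
    linear_combination -h4
  have e1 : (a - 1) * (a - 1) + b * c = 0 := by
    have hd' : d = 2 - a := by linear_combination htr
    rw [hd'] at hdet
    linear_combination -hdet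
  have e2 : (a - 1) * b + b * (d - 1) = 0 := by linear_combination b * htr
  have e3 : c * (a - 1) + (d - 1) * c = 0 := by linear_combination c * htr
  have e4 : c * b + (d - 1) * (d - 1) = 0 := by
    have ha' : a = 2 - d := by linear_combination htr
    rw [ha'] at hdet
    linear_combination -hdet
  have hNN : ((M : Matrix (Fin 2) (Fin 2) F) - 1) * ((M : Matrix (Fin 2) (Fin 2) F) - 1) = 0 := by
    ext i j
    rw [Matrix.mul_apply, Fin.sum_univ_two]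
    fin_cases i <;> fin_cases j
    · simp only [Fin.zero_eta, Fin.isValue, Matrix.sub_apply, Matrix.one_apply_eq, Matrix.zero_apply,
        Matrix.one_apply_ne (zero_ne_one (α := Fin 2)), Matrix.one_apply_ne (one_ne_zero (α := Fin 2)), sub_zero]
      exact e1
    · simp only [Fin.zero_eta, Fin.mk_one, Fin.isValue, Matrix.sub_apply, Matrix.one_apply_eq, Matrix.zero_apply,
        Matrix.one_apply_ne (zero_ne_one (α := Fin 2)), Matrix.one_apply_ne (one_ne_zero (α := Fin 2)), sub_zero]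
      exact e2
    · simp only [Fin.zero_eta, Fin.mk_one, Fin.isValue, Matrix.sub_apply, Matrix.one_apply_eq, Matrix.zero_apply,
        Matrix.one_apply_ne (zero_ne_one (α := Fin 2)), Matrix.one_apply_ne (one_ne_zero (α := Fin 2)), sub_zero]
      exact e3
    · simp only [Fin.zero_eta, Fin.mk_one, Fin.isValue, Matrix.sub_apply, Matrix.one_apply_eq, Matrix.zero_apply,
        Matrix.one_apply_ne (zero_ne_one (α := Fin 2)), Matrix.one_apply_ne (one_ne_zero (α := Fin 2)), sub_zero]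
      exact e4
  have hp2 : 2 ≤ p := (Fact.out : p.Prime).two_le
  have hNp : ((M : Matrix (Fin 2) (Fin 2) F) - 1) ^ p = 0 := by
    obtain ⟨k, rfl⟩ := Nat.exists_eq_add_of_le hp2
    rw [pow_add, pow_two, hNN, zero_mul]
  have hMp : (M : Matrix (Fin 2) (Fin 2) F) ^ p = 1 := by
    have h5 : (M : Matrix (Fin 2) (Fin 2) F) = 1 + ((M : Matrix (Fin 2) (Fin 2) F) - 1) := by abel
    rw [h5, add_pow_char_of_commute p (Commute.one_left _), one_pow, hNp, add_zero]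
  apply Subtype.ext
  rw [Matrix.SpecialLinearGroup.coe_pow, hMp, Matrix.SpecialLinearGroup.coe_one]

namespace Nat2

variable {V L T : Subgroup G} {ρ : L →* Matrix.SpecialLinearGroup (Fin 2) F} {φ : G → Fin 2 → F}

theorem map_one (h : Nat2 V L T ρ φ) : φ 1 = 0 := by
  have h1 := h.add 1 V.one_mem 1 V.one_mem
  rw [mul_one] at h1
  exact left_eq_add.mp h1

theorem map_inv (h : Nat2 V L T ρ φ) {v : G} (hv : v ∈ V) : φ v⁻¹ = - φ v := by
  have h1 := h.add v hv v⁻¹ (V.inv_mem hv)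
  rw [mul_inv_cancel, h.map_one] at h1
  exact (neg_eq_of_add_eq_zero_right h1.symm).symm

theorem ext (h : Nat2 V L T ρ φ) {v w : G} (hv : v ∈ V) (hw : w ∈ V) (h0 : φ v 0 = φ w 0)
    (h1 : φ v 1 = φ w 1) : v = w := by
  apply h.inj v hv w hw
  funext i
  fin_cases i
  · exact h0
  · exact h1

theorem eq_one (h : Nat2 V L T ρ φ) {v : G} (hv : v ∈ V) (h0 : φ v 0 = 0) (h1 : φ v 1 = 0) : v = 1 := by
  apply h.ext hv V.one_mem
  · rw [h0, h.map_one]; rfl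
  · rw [h1, h.map_one]; rfl

theorem exists_vec (h : Nat2 V L T ρ φ) (x₀ x₁ : F) : ∃ v ∈ V, φ v 0 = x₀ ∧ φ v 1 = x₁ := by
  obtain ⟨v, hv, hx⟩ := h.surj ![x₀, x₁]
  exact ⟨v, hv, by rw [hx]; rfl, by rw [hx]; rfl⟩

theorem comm (h : Nat2 V L T ρ φ) {v w : G} (hv : v ∈ V) (hw : w ∈ V) : v * w = w * v := by
  apply h.inj _ (V.mul_mem hv hw) _ (V.mul_mem hw hv)
  rw [h.add v hv w hw, h.add w hw v hv, add_comm]

theorem add0 (h : Nat2 V L T ρ φ) {v w : G} (hv : v ∈ V) (hw : w ∈ V) : φ (v * w) 0 = φ v 0 + φ w 0 := by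
  rw [h.add v hv w hw]; rfl

theorem add1 (h : Nat2 V L T ρ φ) {v w : G} (hv : v ∈ V) (hw : w ∈ V) : φ (v * w) 1 = φ v 1 + φ w 1 := by
  rw [h.add v hv w hw]; rfl

theorem inv0 (h : Nat2 V L T ρ φ) {v : G} (hv : v ∈ V) : φ v⁻¹ 0 = - φ v 0 := by
  rw [h.map_inv hv]; rfl

theorem inv1 (h : Nat2 V L T ρ φ) {v : G} (hv : v ∈ V) : φ v⁻¹ 1 = - φ v 1 := by
  rw [h.map_inv hv]; rfl

theorem act0 (h : Nat2 V L T ρ φ) {l v : G} (hl : l ∈ L) (hv : v ∈ V) :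
    φ (l * v * l⁻¹) 0 = ((ρ ⟨l, hl⟩ : Matrix.SpecialLinearGroup (Fin 2) F) : Matrix (Fin 2) (Fin 2) F) 0 0 * φ v 0 +
      ((ρ ⟨l, hl⟩ : Matrix.SpecialLinearGroup (Fin 2) F) : Matrix (Fin 2) (Fin 2) F) 0 1 * φ v 1 := by
  have h1 := h.act ⟨l, hl⟩ v hv
  simp only [] at h1
  rw [h1, Matrix.mulVec, dotProduct, Fin.sum_univ_two]

theorem act1 (h : Nat2 V L T ρ φ) {l v : G} (hl : l ∈ L) (hv : v ∈ V) :
    φ (l * v * l⁻¹) 1 = ((ρ ⟨l, hl⟩ : Matrix.SpecialLinearGroup (Fin 2) F) : Matrix (Fin 2) (Fin 2) F) 1 0 * φ v 0 +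
      ((ρ ⟨l, hl⟩ : Matrix.SpecialLinearGroup (Fin 2) F) : Matrix (Fin 2) (Fin 2) F) 1 1 * φ v 1 := by
  have h1 := h.act ⟨l, hl⟩ v hv
  simp only [] at h1
  rw [h1, Matrix.mulVec, dotProduct, Fin.sum_univ_two]

theorem exists_rho_eq (h : Nat2 V L T ρ φ) (M : Matrix.SpecialLinearGroup (Fin 2) F) :
    ∃ l, ∃ hl : l ∈ L, ρ ⟨l, hl⟩ = M := by
  obtain ⟨l, hl⟩ := h.rho_surj M
  exact ⟨l.1, l.2, hl⟩

theorem exists_of_mem_T (h : Nat2 V L T ρ φ) {t : G} (ht : t ∈ T) : ∃ a : F, ρ ⟨t, h.TL ht⟩ = uMat a := by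
  have h1 := (h.memT ⟨t, h.TL ht⟩).mp ht
  obtain ⟨a, ha⟩ := h1
  exact ⟨a, ha.symm⟩

theorem exists_mem_T (h : Nat2 V L T ρ φ) (a : F) : ∃ t, ∃ ht : t ∈ T, ρ ⟨t, h.TL ht⟩ = uMat a := by
  obtain ⟨l, hl, hla⟩ := h.exists_rho_eq (uMat a)
  have h1 : l ∈ T := (h.memT ⟨l, hl⟩).mpr (by rw [hla]; exact uMat_mem a)
  exact ⟨l, h1, hla⟩

theorem actT0 (h : Nat2 V L T ρ φ) {t v : G} {a : F} (ht : t ∈ T) (ha : ρ ⟨t, h.TL ht⟩ = uMat a)
    (hv : v ∈ V) : φ (t * v * t⁻¹) 0 = φ v 0 + a * φ v 1 := by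
  rw [h.act0 (h.TL ht) hv, ha, uMat_00, uMat_01, one_mul]

theorem actT1 (h : Nat2 V L T ρ φ) {t v : G} {a : F} (ht : t ∈ T) (ha : ρ ⟨t, h.TL ht⟩ = uMat a)
    (hv : v ∈ V) : φ (t * v * t⁻¹) 1 = φ v 1 := by
  rw [h.act1 (h.TL ht) hv, ha, uMat_10, uMat_11, one_mul, zero_mul, zero_add]

theorem mem_V0 (h : Nat2 V L T ρ φ) {v : G} :
    v ∈ V ⊓ Subgroup.centralizer (T : Set G) ↔ v ∈ V ∧ φ v 1 = 0 := by
  rw [Subgroup.mem_inf, Subgroup.mem_centralizer_iff]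
  constructor
  · rintro ⟨hv, hc⟩
    refine ⟨hv, ?_⟩
    obtain ⟨t, ht, hta⟩ := h.exists_mem_T 1
    have h1 := hc t ht
    have h2 : t * v * t⁻¹ = v := by rw [h1, mul_inv_cancel_right]
    have h3 := h.actT0 ht hta hv
    rw [h2, one_mul] at h3
    exact (left_eq_add.mp h3)
  · rintro ⟨hv, h1⟩
    refine ⟨hv, ?_⟩
    intro t ht
    obtain ⟨a, ha⟩ := h.exists_of_mem_T ht
    have h2 : t * v * t⁻¹ = v := by
      apply h.ext (h.norm t (h.TL ht) v hv) hv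
      · rw [h.actT0 ht ha hv, h1, mul_zero, add_zero]
      · rw [h.actT1 ht ha hv]
    calc t * v = (t * v * t⁻¹) * t := by group
      _ = v * t := by rw [h2]

theorem comm_mem (h : Nat2 V L T ρ φ) {t v : G} (ht : t ∈ T) (hv : v ∈ V) :
    v * t * v⁻¹ * t⁻¹ ∈ V := by
  have h1 : v * t * v⁻¹ * t⁻¹ = v * (t * v⁻¹ * t⁻¹) := by group
  rw [h1]
  exact V.mul_mem hv (h.norm t (h.TL ht) _ (V.inv_mem hv))

theorem comm0 (h : Nat2 V L T ρ φ) {t v : G} {a : F} (ht : t ∈ T) (ha : ρ ⟨t, h.TL ht⟩ = uMat a)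
    (hv : v ∈ V) : φ (v * t * v⁻¹ * t⁻¹) 0 = - (a * φ v 1) := by
  have h1 : v * t * v⁻¹ * t⁻¹ = v * (t * v⁻¹ * t⁻¹) := by group
  rw [h1, h.add0 hv (h.norm t (h.TL ht) _ (V.inv_mem hv)), h.actT0 ht ha (V.inv_mem hv), h.inv0 hv,
    h.inv1 hv]
  ring

theorem comm1 (h : Nat2 V L T ρ φ) {t v : G} {a : F} (ht : t ∈ T) (ha : ρ ⟨t, h.TL ht⟩ = uMat a)
    (hv : v ∈ V) : φ (v * t * v⁻¹ * t⁻¹) 1 = 0 := by
  have h1 : v * t * v⁻¹ * t⁻¹ = v * (t * v⁻¹ * t⁻¹) := by group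
  rw [h1, h.add1 hv (h.norm t (h.TL ht) _ (V.inv_mem hv)), h.actT1 ht ha (V.inv_mem hv), h.inv1 hv]
  ring

theorem card_V (h : Nat2 V L T ρ φ) [Fintype F] : Nat.card V = Fintype.card F ^ 2 := by
  have e : V ≃ (Fin 2 → F) := Equiv.ofBijective (fun v => φ v.1)
    ⟨fun v w hvw => Subtype.ext (h.inj _ v.2 _ w.2 hvw), fun x => by
      obtain ⟨v, hv, hx⟩ := h.surj x
      exact ⟨⟨v, hv⟩, hx⟩⟩
  rw [Nat.card_congr e, Nat.card_eq_fintype_card, Fintype.card_fun, Fintype.card_fin]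

theorem card_V0 (h : Nat2 V L T ρ φ) [Fintype F] :
    Nat.card ↥(V ⊓ Subgroup.centralizer (T : Set G)) = Fintype.card F := by
  have e : ↥(V ⊓ Subgroup.centralizer (T : Set G)) ≃ F := Equiv.ofBijective (fun v => φ v.1 0)
    ⟨fun v w hvw => by
      have hv := h.mem_V0.mp v.2
      have hw := h.mem_V0.mp w.2
      exact Subtype.ext (h.ext hv.1 hw.1 hvw (by rw [hv.2, hw.2])), fun x => by
      obtain ⟨v, hv, hx0, hx1⟩ := h.exists_vec x 0
      exact ⟨⟨v, h.mem_V0.mpr ⟨hv, hx1⟩⟩, hx0⟩⟩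
  rw [Nat.card_congr e, Nat.card_eq_fintype_card]

theorem commutator_le (h : Nat2 V L T ρ φ) : ⁅V, T⁆ ≤ V ⊓ Subgroup.centralizer (T : Set G) := by
  rw [Subgroup.commutator_le]
  intro v hv t ht
  obtain ⟨a, ha⟩ := h.exists_of_mem_T ht
  rw [commutatorElement_def]
  exact h.mem_V0.mpr ⟨h.comm_mem ht hv, h.comm1 ht ha hv⟩

theorem mem_cent_singleton (h : Nat2 V L T ρ φ) {l v : G} :
    v ∈ V ⊓ Subgroup.centralizer ({l} : Set G) ↔ v ∈ V ∧ l * v * l⁻¹ = v := by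
  rw [Subgroup.mem_inf, Subgroup.mem_centralizer_iff]
  constructor
  · rintro ⟨hv, hc⟩
    refine ⟨hv, ?_⟩
    rw [hc l rfl, mul_inv_cancel_right]
  · rintro ⟨hv, h2⟩
    refine ⟨hv, ?_⟩
    intro t ht
    rw [Set.mem_singleton_iff] at ht
    subst ht
    calc t * v = (t * v * t⁻¹) * t := by group
      _ = v * t := by rw [h2]

theorem ne_zero_of_ne_one (h : Nat2 V L T ρ φ) {s : G} {a : F} (hs : s ∈ T) (ha : ρ ⟨s, h.TL hs⟩ = uMat a)
    (hs1 : s ≠ 1) : a ≠ 0 := by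
  rintro rfl
  rw [uMat_zero] at ha
  have h1 : (⟨s, h.TL hs⟩ : L) = 1 := h.rho_inj (by rw [ha, _root_.map_one])
  exact hs1 (congrArg Subtype.val h1)

theorem mem_normalizer_of_borel (h : Nat2 V L T ρ φ) {l : G} (hl : l ∈ L)
    (hb : ρ ⟨l, hl⟩ ∈ borel F) : l ∈ Subgroup.normalizer (T : Set G) := by
  have hn := borel_le_normalizer_unip hb
  rw [Subgroup.mem_normalizer_iff] at hn ⊢
  intro x
  constructor
  · intro hx
    have hxL := h.TL hx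
    have h1 := (hn (ρ ⟨x, hxL⟩)).mp ((h.memT ⟨x, hxL⟩).mp hx)
    have h2 : l * x * l⁻¹ ∈ L := L.mul_mem (L.mul_mem hl hxL) (L.inv_mem hl)
    have h3 : ρ ⟨l * x * l⁻¹, h2⟩ = ρ ⟨l, hl⟩ * ρ ⟨x, hxL⟩ * (ρ ⟨l, hl⟩)⁻¹ := by
      rw [← _root_.map_inv, ← _root_.map_mul, ← _root_.map_mul]
      rfl
    exact (h.memT ⟨l * x * l⁻¹, h2⟩).mpr (by rw [h3]; exact h1)
  · intro hx
    have h2 := h.TL hx
    have hxL : x ∈ L := by
      have h4 : x = l⁻¹ * (l * x * l⁻¹) * l := by group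
      rw [h4]
      exact L.mul_mem (L.mul_mem (L.inv_mem hl) h2) hl
    have h3 : ρ ⟨l * x * l⁻¹, h2⟩ = ρ ⟨l, hl⟩ * ρ ⟨x, hxL⟩ * (ρ ⟨l, hl⟩)⁻¹ := by
      rw [← _root_.map_inv, ← _root_.map_mul, ← _root_.map_mul]
      rfl
    have h5 := (h.memT ⟨l * x * l⁻¹, h2⟩).mp hx
    rw [h3] at h5
    exact (h.memT ⟨x, hxL⟩).mpr ((hn (ρ ⟨x, hxL⟩)).mpr h5)

theorem rho_10_ne_zero (h : Nat2 V L T ρ φ) {l : G} (hl : l ∈ L)
    (hn : l ∉ Subgroup.normalizer (T : Set G)) :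
    ((ρ ⟨l, hl⟩ : Matrix.SpecialLinearGroup (Fin 2) F) : Matrix (Fin 2) (Fin 2) F) 1 0 ≠ 0 := by
  intro h0
  exact hn (h.mem_normalizer_of_borel hl ((mem_borel _).mpr h0))

theorem exists_diag (h : Nat2 V L T ρ φ) (d : F) (hd : d ≠ 0) :
    ∃ l, ∃ hl : l ∈ L, l ∈ Subgroup.normalizer (T : Set G) ∧ ρ ⟨l, hl⟩ = dMat d hd := by
  obtain ⟨l, hl, hld⟩ := h.exists_rho_eq (dMat d hd)
  exact ⟨l, hl, h.mem_normalizer_of_borel hl (by rw [hld]; exact dMat_mem_borel d hd), hld⟩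

theorem actD0 (h : Nat2 V L T ρ φ) {l v : G} {d : F} {hd : d ≠ 0} (hl : l ∈ L)
    (hld : ρ ⟨l, hl⟩ = dMat d hd) (hv : v ∈ V) : φ (l * v * l⁻¹) 0 = d * φ v 0 := by
  rw [h.act0 hl hv, hld, dMat_00, dMat_01, zero_mul, add_zero]

theorem actD1 (h : Nat2 V L T ρ φ) {l v : G} {d : F} {hd : d ≠ 0} (hl : l ∈ L)
    (hld : ρ ⟨l, hl⟩ = dMat d hd) (hv : v ∈ V) : φ (l * v * l⁻¹) 1 = d⁻¹ * φ v 1 := by
  rw [h.act1 hl hv, hld, dMat_10, dMat_11, zero_mul, zero_add]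

theorem mem_V0_conj (h : Nat2 V L T ρ φ) {g v : G} (hg : g ∈ L) :
    v ∈ V ⊓ Subgroup.centralizer ((T.map (MulAut.conj g).toMonoidHom : Subgroup G) : Set G) ↔
      v ∈ V ∧ ((ρ ⟨g, hg⟩ : Matrix.SpecialLinearGroup (Fin 2) F) : Matrix (Fin 2) (Fin 2) F) 0 0 * φ v 1 =
        ((ρ ⟨g, hg⟩ : Matrix.SpecialLinearGroup (Fin 2) F) : Matrix (Fin 2) (Fin 2) F) 1 0 * φ v 0 := by
  have hgi : g⁻¹ ∈ L := L.inv_mem hg
  have hρi : ρ ⟨g⁻¹, hgi⟩ = (ρ ⟨g, hg⟩)⁻¹ := by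
    rw [← _root_.map_inv]
    rfl
  have key : ∀ v ∈ V, (v ∈ Subgroup.centralizer ((T.map (MulAut.conj g).toMonoidHom : Subgroup G) : Set G) ↔
      g⁻¹ * v * g⁻¹⁻¹ ∈ V ⊓ Subgroup.centralizer (T : Set G)) := by
    intro v hv
    rw [Subgroup.mem_inf, Subgroup.mem_centralizer_iff, Subgroup.mem_centralizer_iff]
    constructor
    · intro hc
      refine ⟨h.norm _ hgi v hv, ?_⟩
      intro t ht
      have h1 := hc (g * t * g⁻¹) ⟨t, ht, rfl⟩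
      rw [inv_inv]
      calc t * (g⁻¹ * v * g) = g⁻¹ * ((g * t * g⁻¹) * v) * g := by group
        _ = g⁻¹ * (v * (g * t * g⁻¹)) * g := by rw [h1]
        _ = g⁻¹ * v * g * t := by group
    · rintro ⟨-, hc⟩ x ⟨t, ht, rfl⟩
      have h1 := hc t ht
      rw [inv_inv] at h1
      change g * t * g⁻¹ * v = v * (g * t * g⁻¹)
      calc g * t * g⁻¹ * v = g * (t * (g⁻¹ * v * g)) * g⁻¹ := by group
        _ = g * ((g⁻¹ * v * g) * t) * g⁻¹ := by rw [h1]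
        _ = v * (g * t * g⁻¹) := by group
  rw [Subgroup.mem_inf]
  constructor
  · rintro ⟨hv, hc⟩
    refine ⟨hv, ?_⟩
    have h1 := (h.mem_V0.mp ((key v hv).mp hc)).2
    rw [h.act1 hgi hv, hρi, inv_apply_10, inv_apply_11] at h1
    linear_combination h1
  · rintro ⟨hv, h1⟩
    refine ⟨hv, (key v hv).mpr (h.mem_V0.mpr ⟨h.norm _ hgi v hv, ?_⟩)⟩
    rw [h.act1 hgi hv, hρi, inv_apply_10, inv_apply_11]
    linear_combination h1

end Nat2

end Cfsg.Agent.Helper5.NSL
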