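import Mathlib
import Cfsg.Agent.Helper5.Misc

/-!
Helper lemmas (helper5): the norm (relative trace) of a `T`-fixed element of an abelian subgroup `V` under a
group `R ≥ T` normalizing `V`.
-/

set_option autoImplicit false

namespace Cfsg.Agent.Helper5

open scoped IsMulCommutative

variable {G : Type*} [Group G]

/-- Conjugation by an element of the normalizer, as an endomorphism of `V`. -/
def conjEnd (V : Subgroup G) (r : G) (hr : r ∈ Subgroup.normalizer (V : Set G)) : ↥V →* ↥V where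
  toFun v := ⟨r * v * r⁻¹, (Subgroup.mem_normalizer_iff.mp hr v).mp v.2⟩
  map_one' := by ext; simp
  map_mul' a b := by ext; simp

theorem exists_norm [Finite G] (V R R₀ T : Subgroup G) [IsMulCommutative ↥V]
    (hRV : R ≤ Subgroup.normalizer (V : Set G))
    (hfac : ∀ r ∈ R, ∃ r₀ ∈ R₀, ∃ t ∈ T, r = r₀ * t)
    (u : G) (huV : u ∈ V) (huT : u ∈ Subgroup.centralizer (T : Set G)) :
    ∃ z ∈ V, z ∈ Subgroup.centralizer (R : Set G) ∧ ∃ w ∈ ⁅V, R₀⁆, z = u ^ (T.relIndex R) * w := by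
  classical
  have : Fintype (↥R ⧸ T.subgroupOf R) := Fintype.ofFinite _
  set u' : ↥V := ⟨u, huV⟩ with hu'
  let cj : ↥R → (↥V →* ↥V) := fun r => conjEnd V r (hRV r.2)
  have hcj_coe : ∀ (r : ↥R) (v : ↥V), ((cj r v : ↥V) : G) = (r : G) * v * (r : G)⁻¹ := fun r v => rfl
  have hcj_mul : ∀ (r s : ↥R) (v : ↥V), cj (r * s) v = cj r (cj s v) := by
    intro r s v
    apply Subtype.ext
    rw [hcj_coe, hcj_coe, hcj_coe, Subgroup.coe_mul]
    group
  have hcj_T : ∀ t : ↥R, (t : G) ∈ T → cj t u' = u' := by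
    intro t ht
    apply Subtype.ext
    rw [hcj_coe]
    have := (Subgroup.mem_centralizer_iff.mp huT) (t : G) ht
    show (t : G) * u * (t : G)⁻¹ = u
    rw [this, mul_inv_cancel_right]
  let f : ↥R ⧸ T.subgroupOf R → ↥V := fun q => cj q.out u'
  have hf : ∀ r : ↥R, f (QuotientGroup.mk r) = cj r u' := by
    intro r
    obtain ⟨t, ht⟩ := QuotientGroup.mk_out_eq_mul (T.subgroupOf R) r
    show cj (QuotientGroup.mk r : ↥R ⧸ T.subgroupOf R).out u' = _
    rw [ht, hcj_mul, hcj_T _ (Subgroup.mem_subgroupOf.mp t.2)]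
  set z : ↥V := ∏ q, f q with hz
  have hz_inv : ∀ r : ↥R, cj r z = z := by
    intro r
    rw [hz, map_prod]
    have h1 : ∀ q, cj r (f q) = f (r • q) := by
      intro q
      induction q using QuotientGroup.induction_on with
      | H s =>
        rw [hf, ← hcj_mul, ← hf]
        rfl
    simp_rw [h1]
    exact Equiv.prod_comp (MulAction.toPerm r) f
  refine ⟨(z : G), z.2, ?_, ?_⟩
  · rw [Subgroup.mem_centralizer_iff]
    intro r hr
    have := congrArg Subtype.val (hz_inv ⟨r, hr⟩)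
    rw [hcj_coe] at this
    calc r * (z : G) = (r * (z : G) * r⁻¹) * r := by group
      _ = (z : G) * r := by rw [show ((⟨r, hr⟩ : ↥R) : G) = r from rfl] at this; rw [this]
  · have hfac' : ∀ q : ↥R ⧸ T.subgroupOf R, ((u'⁻¹ * f q : ↥V) : G) ∈ ⁅V, R₀⁆ := by
      intro q
      obtain ⟨r₀, hr₀, t, ht, hrt⟩ := hfac (q.out : G) q.out.2
      have h1 : ((f q : ↥V) : G) = r₀ * u * r₀⁻¹ := by
        show (q.out : G) * u * (q.out : G)⁻¹ = _
        rw [hrt]
        have := (Subgroup.mem_centralizer_iff.mp huT) t ht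
        calc r₀ * t * u * (r₀ * t)⁻¹ = r₀ * (t * u * t⁻¹) * r₀⁻¹ := by group
          _ = r₀ * u * r₀⁻¹ := by rw [this, mul_inv_cancel_right]
      rw [Subgroup.coe_mul, Subgroup.coe_inv, h1]
      have := Subgroup.commutator_mem_commutator (Subgroup.inv_mem V huV) hr₀
      rw [commutatorElement_def, inv_inv] at this
      have e : u⁻¹ * (r₀ * u * r₀⁻¹) = u⁻¹ * r₀ * u * r₀⁻¹ := by group
      rw [e]; exact this
    have hsplit : z = u' ^ (Fintype.card (↥R ⧸ T.subgroupOf R)) * ∏ q, (u'⁻¹ * f q) := by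
      rw [hz, ← Finset.card_univ, ← Finset.prod_const, ← Finset.prod_mul_distrib]
      apply Finset.prod_congr rfl
      intro q _
      rw [mul_inv_cancel_left]
    have hcard : Fintype.card (↥R ⧸ T.subgroupOf R) = T.relIndex R := by
      rw [Subgroup.relIndex, Subgroup.index, Nat.card_eq_fintype_card]
    refine ⟨((∏ q, (u'⁻¹ * f q) : ↥V) : G), ?_, ?_⟩
    · have : (∏ q, (u'⁻¹ * f q) : ↥V) ∈ (⁅V, R₀⁆).subgroupOf V :=
        Subgroup.prod_mem _ (fun q _ => Subgroup.mem_subgroupOf.mpr (hfac' q))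
      exact Subgroup.mem_subgroupOf.mp this
    · rw [← hcard]
      have := congrArg Subtype.val hsplit
      rw [Subgroup.coe_mul, Subgroup.coe_pow] at this
      exact this

theorem mem_sup_of_norm [Finite G] {p : ℕ} (V R R₀ T : Subgroup G) [IsMulCommutative ↥V]
    (hRV : R ≤ Subgroup.normalizer (V : Set G))
    (hfac : ∀ r ∈ R, ∃ r₀ ∈ R₀, ∃ t ∈ T, r = r₀ * t) (hidx : (T.relIndex R).Coprime p)
    (u : G) (huV : u ∈ V) (huT : u ∈ Subgroup.centralizer (T : Set G)) (hup : u ^ p = 1) :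
    u ∈ (V ⊓ Subgroup.centralizer (R : Set G)) ⊔ ⁅V, R₀⁆ := by
  obtain ⟨z, hzV, hzC, w, hw, hzw⟩ := exists_norm V R R₀ T hRV hfac u huV huT
  apply mem_of_pow_mem_of_coprime _ u (T.relIndex R) p hidx
  · have : u ^ (T.relIndex R) = z * w⁻¹ := by rw [hzw, mul_inv_cancel_right]
    rw [this]
    exact Subgroup.mul_mem _ (Subgroup.mem_sup_left ⟨hzV, hzC⟩)
      (Subgroup.mem_sup_right (Subgroup.inv_mem _ hw))
  · rw [hup]; exact Subgroup.one_mem _

end Cfsg.Agent.Helper5
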