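import Mathlib

/-!
# Classes of subgroups of prime order

Two general statements: the classes of subgroups of prime order `p` of a finite group are read off
a Sylow `p`-subgroup, and the statement is carried along an isomorphism.
-/

set_option autoImplicit false

namespace Cfsg.Agent.Helper5.O73C

/-- conjugation and the image under an isomorphism. -/
theorem map_conj_map {G P : Type*} [Group G] [Group P] (φ : G ≃* P) (H : Subgroup G) (g : G) :
    ((H.map φ.toMonoidHom).map (MulAut.conj (φ g)).toMonoidHom) =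
      (H.map (MulAut.conj g).toMonoidHom).map φ.toMonoidHom := by
  rw [Subgroup.map_map, Subgroup.map_map]
  congr 1
  ext x
  simp [MulAut.conj_apply]

/-- the statement on the classes of subgroups of a given order is carried along an
isomorphism. -/
theorem classes_transport {G P : Type*} [Group G] [Group P] (φ : G ≃* P) (n c : ℕ)
    (h : ∃ Y : Fin n → Subgroup G, (∀ i, Nat.card (Y i) = c) ∧
      (∀ i j, (∃ g : G, (Y i).map (MulAut.conj g).toMonoidHom = Y j) → i = j) ∧
      (∀ X : Subgroup G, Nat.card X = c →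
        ∃ i, ∃ g : G, X.map (MulAut.conj g).toMonoidHom = Y i)) :
    ∃ Y : Fin n → Subgroup P, (∀ i, Nat.card (Y i) = c) ∧
      (∀ i j, (∃ g : P, (Y i).map (MulAut.conj g).toMonoidHom = Y j) → i = j) ∧
      (∀ X : Subgroup P, Nat.card X = c →
        ∃ i, ∃ g : P, X.map (MulAut.conj g).toMonoidHom = Y i) := by
  obtain ⟨Y, h1, h2, h3⟩ := h
  refine ⟨fun i => (Y i).map φ.toMonoidHom, ?_, ?_, ?_⟩
  · intro i
    rw [Subgroup.card_map_of_injective φ.injective]
    exact h1 i
  · rintro i j ⟨g', hg'⟩
    apply h2 i j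
    refine ⟨φ.symm g', ?_⟩
    have e : g' = φ (φ.symm g') := (φ.apply_symm_apply g').symm
    rw [e] at hg'
    simp only at hg'
    rw [map_conj_map] at hg'
    exact Subgroup.map_injective φ.injective hg'
  · intro X' hX'
    have hX : Nat.card (X'.map φ.symm.toMonoidHom) = c := by
      rw [Subgroup.card_map_of_injective φ.symm.injective]
      exact hX'
    obtain ⟨i, g, hg⟩ := h3 _ hX
    refine ⟨i, φ g, ?_⟩
    have e : X' = (X'.map φ.symm.toMonoidHom).map φ.toMonoidHom := by
      rw [Subgroup.map_map]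
      have : φ.toMonoidHom.comp φ.symm.toMonoidHom = MonoidHom.id P := by
        ext x
        simp
      rw [this, Subgroup.map_id]
    rw [e]
    simp only
    rw [map_conj_map, hg]

/-- the classes of subgroups of prime order are read off a Sylow subgroup. -/
theorem classes_of_sylow {G : Type*} [Group G] [Finite G] (p : ℕ) [Fact p.Prime] (S : Subgroup G)
    (hS : Nat.card S = p ^ (Nat.card G).factorization p) (n : ℕ) (r : Fin n → G)
    (hr : ∀ i, orderOf (r i) = p)
    (hdist : ∀ i j g, g * r i * g⁻¹ ∈ Subgroup.zpowers (r j) → i = j)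
    (hS3 : ∀ y ∈ S, orderOf y = p →
      ∃ i g, Subgroup.zpowers (g * y * g⁻¹) = Subgroup.zpowers (r i)) :
    ∃ Y : Fin n → Subgroup G, (∀ i, Nat.card (Y i) = p) ∧
      (∀ i j, (∃ g : G, (Y i).map (MulAut.conj g).toMonoidHom = Y j) → i = j) ∧
      (∀ X : Subgroup G, Nat.card X = p →
        ∃ i, ∃ g : G, X.map (MulAut.conj g).toMonoidHom = Y i) := by
  have hp : p.Prime := Fact.out
  have hmap : ∀ (g x : G), (Subgroup.zpowers x).map (MulAut.conj g).toMonoidHom =
      Subgroup.zpowers (g * x * g⁻¹) := by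
    intro g x
    rw [MonoidHom.map_zpowers]
    rfl
  refine ⟨fun i => Subgroup.zpowers (r i), ?_, ?_, ?_⟩
  · intro i
    rw [Nat.card_zpowers, hr i]
  · rintro i j ⟨g, hg⟩
    apply hdist i j g
    simp only at hg
    rw [hmap] at hg
    rw [← hg]
    exact Subgroup.mem_zpowers _
  · intro X hX
    -- a generator of `X`
    have hX1 : 1 < Nat.card X := by rw [hX]; exact hp.one_lt
    have hne : X ≠ ⊥ := (Subgroup.one_lt_card_iff_ne_bot X).mp hX1
    obtain ⟨⟨x, hxX⟩, hx1⟩ := (Subgroup.ne_bot_iff_exists_ne_one).mp hne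
    have hx1' : x ≠ 1 := by
      intro h
      apply hx1
      exact Subtype.ext h
    have hord : orderOf x = p := by
      have hdvd : orderOf (⟨x, hxX⟩ : X) ∣ Nat.card X := orderOf_dvd_natCard _
      rw [hX, Subgroup.orderOf_mk] at hdvd
      rcases (Nat.dvd_prime hp).mp hdvd with h | h
      · exact absurd (orderOf_eq_one_iff.mp h) hx1'
      · exact h
    have hXz : Subgroup.zpowers x = X := by
      apply Subgroup.eq_of_le_of_card_ge
      · rw [Subgroup.zpowers_le]
        exact hxX
      · rw [Nat.card_zpowers, hord, hX]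
    -- conjugate into the Sylow subgroup
    let P : Sylow p G := Sylow.ofCard S hS
    have hz : IsPGroup p (Subgroup.zpowers x) := by
      apply IsPGroup.of_card (n := 1)
      rw [Nat.card_zpowers, hord, pow_one]
    obtain ⟨Q, hQ⟩ := hz.exists_le_sylow
    obtain ⟨h, hh⟩ := MulAction.exists_smul_eq G Q P
    have hxQ : x ∈ (Q : Subgroup G) := hQ (Subgroup.mem_zpowers x)
    have h1 : h * x * h⁻¹ ∈ ((h • Q : Sylow p G) : Subgroup G) := by
      rw [Sylow.coe_subgroup_smul]
      exact Subgroup.smul_mem_pointwise_smul x (MulAut.conj h) _ hxQ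
    rw [hh] at h1
    have h2 : h * x * h⁻¹ ∈ S := h1
    have hord2 : orderOf (h * x * h⁻¹) = p := by
      have h3 := MulEquiv.orderOf_eq (MulAut.conj h) x
      rw [MulAut.conj_apply] at h3
      rw [h3, hord]
    obtain ⟨i, g, hg⟩ := hS3 _ h2 hord2
    refine ⟨i, g * h, ?_⟩
    rw [← hXz]
    simp only
    rw [hmap, ← hg]
    congr 1
    group

end Cfsg.Agent.Helper5.O73C
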