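import Mathlib
import Cfsg.Agent.Helper5.O73LPD
import Cfsg.Agent.Helper5.O73CDat
import Cfsg.Agent.Helper5.LPT

/-!
# Checkers for a Sylow 3-subgroup of `Ω₇(3)`

The 19683 elements of the subgroup as a tree of words with the images of the base points, the
closure under left multiplication, the right multiplication, the cubes, the fusion of the elements
of order 3, and the table of the action on 3159 points.
-/

set_option autoImplicit false

namespace Cfsg.Agent.Helper5.O73C

open Cfsg.Agent.Helper5.LP Cfsg.Agent.Helper5.TC Cfsg.Agent.Helper5.TCI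
open Cfsg.Agent.Helper5.O73LP (R8)

/-- a field of `w` bits of a numeral. -/
def lk1 (w D n : ℕ) : ℕ := Nat.mod (Nat.shiftRight D (Nat.mul w n)) (Nat.pow 2 w)

/-- the numbers `lo + k` with `k < n` satisfy `p`. -/
def allR (p : ℕ → Bool) (lo n : ℕ) : Bool :=
  Nat.rec (motive := fun _ => Bool) true (fun k ih => p (Nat.add lo k) && ih) n

theorem allR_spec (p : ℕ → Bool) (lo : ℕ) : ∀ n, allR p lo n = true → ∀ k, k < n → p (lo + k) = true
  | 0, _, k, hk => absurd hk (Nat.not_lt_zero k)
  | n + 1, h, k, hk => by
    have h' : (p (Nat.add lo n) && allR p lo n) = true := h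
    rw [Bool.and_eq_true] at h'
    rcases Nat.lt_succ_iff_lt_or_eq.mp hk with c | c
    · exact allR_spec p lo n h'.2 k c
    · rw [c]
      exact h'.1

theorem allR_spec' (p : ℕ → Bool) (lo n : ℕ) (h : allR p lo n = true) (j : ℕ) (h1 : lo ≤ j)
    (h2 : j < lo + n) : p j = true := by
  have h3 := allR_spec p lo n h (j - lo) (by omega)
  rwa [Nat.add_sub_of_le h1] at h3

/-- the action of a word, by the recursor of lists. -/
def actR (T : ℕ → ℕ → ℕ) (l : List ℕ) (v : ℕ) : ℕ :=
  List.rec (motive := fun _ => ℕ) v (fun c _ ih => T c ih) l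

theorem actR_eq (T : ℕ → ℕ → ℕ) : ∀ (l : List ℕ) (v : ℕ), actR T l v = actL T l v
  | [], _ => rfl
  | c :: l, v => by
    show T c (actR T l v) = T c (actL T l v)
    rw [actR_eq T l v]

/-- all members of a list satisfy `p`, by the recursor of lists. -/
def allL {α : Type} (p : α → Bool) (l : List α) : Bool :=
  List.rec (motive := fun _ => Bool) true (fun a _ ih => p a && ih) l

theorem allL_spec {α : Type} (p : α → Bool) : ∀ l : List α, allL p l = true → ∀ a ∈ l, p a = true
  | [], _, a, ha => by simp at ha
  | b :: l, h, a, ha => by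
    have h' : (p b && allL p l) = true := h
    rw [Bool.and_eq_true] at h'
    rcases List.mem_cons.mp ha with c | c
    · rw [c]
      exact h'.1
    · exact allL_spec p l h'.2 a c

/-- the action of the seven generators on the 364 points. -/
def tabS (x v : ℕ) : ℕ := lk1 9 (sTabD x) v

/-- the action of the eight letters on the 3159 points. -/
def tabH (c v : ℕ) : ℕ := lk1 12 (hTabD c) v

/-- the parent of an element in the tree. -/
def sPar (k : ℕ) : ℕ := lk1 15 sParD k

/-- the letter of an element in the tree. -/
def sLet (k : ℕ) : ℕ := lk1 3 sLetD k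

/-- the image of the base point number `b` under the element number `k`. -/
def sImg (b k : ℕ) : ℕ := lk1 9 (sImgD b) k

/-- the left multiplication by the generator `x`. -/
def sL (x k : ℕ) : ℕ := lk1 15 (sLD x) k

/-- the right multiplication by the generator `x`. -/
def sR (x k : ℕ) : ℕ := lk1 15 (sRD x) k

/-- the parent in the conjugation forest. -/
def sP3 (k : ℕ) : ℕ := lk1 15 sP3D k

/-- the letter in the conjugation forest. -/
def sX3 (k : ℕ) : ℕ := lk1 4 sX3D k

/-- the base point number `b`. -/
def cB (b : ℕ) : ℕ :=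
  match b with
  | 0 => 269
  | 1 => 327
  | 2 => 120
  | 3 => 79
  | 4 => 1
  | _ => 0

/-- the tables of the generators agree with their words. -/
def sTabP (x v : ℕ) : Bool := Nat.beq (tabS x v) (actR FiXBTC.ctF (sW x) v)

/-- the check of the root of the tree. -/
def sTree0P (b : ℕ) : Bool := Nat.beq (sImg b 0) (cB b)

/-- the check of the tree of the elements. -/
def sTreeP (j : ℕ) : Bool :=
  forceL (sPar (Nat.succ j)) (fun p => forceL (sLet (Nat.succ j)) (fun x =>
    Nat.blt p (Nat.succ j) && Nat.blt x 7 &&
      allR (fun b => Nat.beq (sImg b (Nat.succ j)) (tabS x (sImg b p))) 0 6))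

/-- the check of the closure under left multiplication by the generator `x`. -/
def sClosP (x k : ℕ) : Bool :=
  forceL (sL x k) (fun m =>
    Nat.blt m 19683 && allR (fun b => Nat.beq (tabS x (sImg b k)) (sImg b m)) 0 6)

/-- the check of the right multiplication by the generator `x`. -/
def sRightP (x j : ℕ) : Bool :=
  Nat.beq (sR x (Nat.succ j)) (sL (sLet (Nat.succ j)) (sR x (sPar (Nat.succ j))))

/-- the product of two elements, with fuel. -/
def mulF (f k j : ℕ) : ℕ :=
  Nat.rec (motive := fun _ => ℕ → ℕ) (fun _ => j)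
    (fun _ ih => fun k => forceL k (fun k =>
      bif Nat.beq k 0 then j else sL (sLet k) (ih (sPar k)))) f k

/-- the cube of an element. -/
def cubeS (k : ℕ) : ℕ := mulF 19683 k (mulF 19683 k k)

/-- the word of a representative or of its inverse. -/
def rWc (code : ℕ) : List ℕ :=
  bif Nat.beq (Nat.mod code 2) 0 then rW (Nat.div code 2) else (rW (Nat.div code 2)).reverse

/-- the check of a root: the conjugate of the representative is the element. -/
def rootP (t : ℕ × ℕ × List ℕ) : Bool :=
  Nat.blt t.1 19683 && Nat.blt t.2.1 14 && allL (fun c => Nat.blt c 8) t.2.2 &&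
    allR (fun b =>
      Nat.beq (actR FiXBTC.ctF (t.2.2 ++ (rWc t.2.1 ++ t.2.2.reverse)) (cB b)) (sImg b t.1)) 0 6

/-- the elements flagged as roots are in the list of roots. -/
def rootFlagP (k : ℕ) : Bool :=
  !(Nat.beq (sX3 k) 7) || rootsL.any (fun t => Nat.beq t.1 k)

/-- the element is joined to a root by verified links of the conjugation forest. -/
def reachR (f k : ℕ) : Bool :=
  Nat.rec (motive := fun _ => ℕ → Bool) (fun _ => false)
    (fun _ ih => fun k => forceL k (fun k => forceL (sX3 k) (fun x => forceL (sP3 k) (fun p =>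
      bif Nat.beq x 7 then true
      else
        Nat.blt x 7 && Nat.blt p 19683 && Nat.beq (sL x p) (sR x k) && ih p)))) f k

/-- the elements with trivial cube are joined to a root. -/
def k3P (j : ℕ) : Bool := !(Nat.beq (cubeS (Nat.succ j)) 0) || reachR 12 (Nat.succ j)

theorem mulF_succ (f k j : ℕ) :
    mulF (f + 1) k j = bif Nat.beq k 0 then j else sL (sLet k) (mulF f (sPar k) j) := rfl

theorem reachR_succ (f k : ℕ) :
    reachR (f + 1) k = bif Nat.beq (sX3 k) 7 then true
      else
        Nat.blt (sX3 k) 7 && Nat.blt (sP3 k) 19683 &&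
          Nat.beq (sL (sX3 k) (sP3 k)) (sR (sX3 k) k) && reachR f (sP3 k) := rfl

theorem sTreeP_eq (j : ℕ) : sTreeP j =
    (Nat.blt (sPar (Nat.succ j)) (Nat.succ j) && Nat.blt (sLet (Nat.succ j)) 7 &&
      allR (fun b => Nat.beq (sImg b (Nat.succ j))
        (tabS (sLet (Nat.succ j)) (sImg b (sPar (Nat.succ j))))) 0 6) := rfl

theorem sClosP_eq (x k : ℕ) : sClosP x k =
    (Nat.blt (sL x k) 19683 &&
      allR (fun b => Nat.beq (tabS x (sImg b k)) (sImg b (sL x k))) 0 6) := rfl

/-- the elements other than the first one move a base point. -/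
def neOneP (j : ℕ) : Bool :=
  !(allR (fun b => Nat.beq (sImg b (Nat.succ j)) (cB b)) 0 6)

/-- the cubes of the generators and of the representatives. -/
def cube3P (x : ℕ) : Bool :=
  allR (fun b =>
    Nat.beq (actR FiXBTC.ctF (sW x ++ (sW x ++ sW x)) (cB b)) (cB b) &&
    Nat.beq (actR FiXBTC.ctF (rW x ++ (rW x ++ rW x)) (cB b)) (cB b)) 0 6

/-- the number of the points below `n` moved by a word. -/
def movCnt (T : ℕ → ℕ → ℕ) (w : List ℕ) (n : ℕ) : ℕ :=
  Nat.rec (motive := fun _ => ℕ) 0
    (fun k ih => bif Nat.beq (actR T w k) k then ih else Nat.succ ih) n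

/-- the check of the table on 3159 points. -/
def hTableP (x v : ℕ) : Bool := Nat.blt (tabH x v) 3159 && Nat.beq (tabH x (tabH x v)) v

/-- the relators fix the points of the table on 3159 points. -/
def hRelsP (v : ℕ) : Bool := allL (fun l => Nat.beq (actR tabH l v) v) R8

end Cfsg.Agent.Helper5.O73C
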