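import Mathlib
import Cfsg.Agent.Helper5.O73CDef

/-!
# The numbers of points moved by the seven representatives
-/

set_option autoImplicit false

namespace Cfsg.Agent.Helper5.O73C

/-- the numbers of points moved by the representatives, of the 364 points. -/
def mv1 (i : ℕ) : ℕ :=
  match i with
  | 0 => 333
  | 1 => 360
  | 2 => 315
  | 3 => 360
  | 4 => 351
  | 5 => 351
  | _ => 324

/-- the numbers of points moved by the representatives, of the 3159 points. -/
def mv2 (i : ℕ) : ℕ :=
  match i with
  | 0 => 3078
  | 1 => 3132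
  | 2 => 3159
  | 3 => 3159
  | 4 => 3159
  | 5 => 3132
  | _ => 3159

theorem mv_inj : ∀ i, i < 7 → ∀ j, j < 7 → mv1 i = mv1 j → mv2 i = mv2 j → i = j := by decide

theorem mv1_pos : ∀ i, i < 7 → mv1 i ≠ 0 := by decide

end Cfsg.Agent.Helper5.O73C
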