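import Mathlib
import Cfsg.Agent.Helper5.O73CDef
import Cfsg.Agent.Helper5.O73CMv

/-!
# Checks for a Sylow 3-subgroup of `Ω₇(3)`, part A

The checks are run one after the other, to keep the memory of the file small.
-/

set_option autoImplicit false
set_option Elab.async false

namespace Cfsg.Agent.Helper5.O73C

open Cfsg.Agent.Helper5.LP Cfsg.Agent.Helper5.TC Cfsg.Agent.Helper5.TCI
open Cfsg.Agent.Helper5.O73LP (R8)

set_option maxRecDepth 100000 in
theorem sTab_chk : allR (fun x => allR (sTabP x) 0 364) 0 7 = true := by decide +kernel

theorem sTree0_chk : allR sTree0P 0 6 = true := by decide +kernel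

set_option maxRecDepth 100000 in
theorem sTree_chk_0 : allR (sTreeP) 0 4921 = true := by decide +kernel

set_option maxRecDepth 100000 in
theorem sTree_chk_1 : allR (sTreeP) 4921 4921 = true := by decide +kernel

set_option maxRecDepth 100000 in
theorem sTree_chk_2 : allR (sTreeP) 9842 4921 = true := by decide +kernel

set_option maxRecDepth 100000 in
theorem sTree_chk_3 : allR (sTreeP) 14763 4919 = true := by decide +kernel

theorem sTree_spec : ∀ j, j < 19682 → sTreeP j = true := by
  intro j hj
  rcases Nat.lt_or_ge j 4921 with c | c
  · exact allR_spec' _ _ _ sTree_chk_0 j (by omega) (by omega)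
  rcases Nat.lt_or_ge j 9842 with c | c
  · exact allR_spec' _ _ _ sTree_chk_1 j (by omega) (by omega)
  rcases Nat.lt_or_ge j 14763 with c | c
  · exact allR_spec' _ _ _ sTree_chk_2 j (by omega) (by omega)
  exact allR_spec' _ _ _ sTree_chk_3 j (by omega) (by omega)

set_option maxRecDepth 100000 in
theorem neOne_chk_0 : allR (neOneP) 0 9841 = true := by decide +kernel

set_option maxRecDepth 100000 in
theorem neOne_chk_1 : allR (neOneP) 9841 9841 = true := by decide +kernel

theorem neOne_spec : ∀ j, j < 19682 → neOneP j = true := by
  intro j hj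
  rcases Nat.lt_or_ge j 9841 with c | c
  · exact allR_spec' _ _ _ neOne_chk_0 j (by omega) (by omega)
  exact allR_spec' _ _ _ neOne_chk_1 j (by omega) (by omega)

set_option maxRecDepth 100000 in
theorem cube3_chk : allR cube3P 0 7 = true := by decide +kernel

set_option maxRecDepth 100000 in
theorem roots_chk : allL rootP rootsL = true := by decide +kernel

set_option maxRecDepth 100000 in
theorem rootFlag_chk_0 : allR (rootFlagP) 0 9842 = true := by decide +kernel

set_option maxRecDepth 100000 in
theorem rootFlag_chk_1 : allR (rootFlagP) 9842 9841 = true := by decide +kernel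

theorem rootFlag_spec : ∀ j, j < 19683 → rootFlagP j = true := by
  intro j hj
  rcases Nat.lt_or_ge j 9842 with c | c
  · exact allR_spec' _ _ _ rootFlag_chk_0 j (by omega) (by omega)
  exact allR_spec' _ _ _ rootFlag_chk_1 j (by omega) (by omega)

set_option maxRecDepth 100000 in
theorem mov1_chk : allR (fun i => Nat.beq (movCnt FiXBTC.ctF (rW i) 364) (mv1 i)) 0 7 = true := by
  decide +kernel

set_option maxRecDepth 1000000 in
theorem chainS_ok : chainOK tabS 7 364 [] levelSs = true := chainOK_of_F (by decide +kernel)

theorem chainS_prod : chainProd levelSs = 19683 := by decide +kernel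

theorem chainBase_G : chainBase Cfsg.Agent.Helper5.O73LP.levels [] = cBase := by decide +kernel

theorem sW_lt : ∀ x, ∀ c ∈ sW x, c < 8 := by
  intro x
  unfold sW
  split <;> decide

theorem rW_lt : ∀ x, ∀ c ∈ rW x, c < 8 := by
  intro x
  unfold rW
  split <;> decide

end Cfsg.Agent.Helper5.O73C
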