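import Mathlib
import Cfsg.Agent.Helper5.O73CDef
import Cfsg.Agent.Helper5.O73CMv

/-!
# Checks for a Sylow 3-subgroup of `Ω₇(3)`, part B2

The checks are run one after the other, to keep the memory of the file small.
-/

set_option autoImplicit false
set_option Elab.async false

namespace Cfsg.Agent.Helper5.O73C

open Cfsg.Agent.Helper5.LP Cfsg.Agent.Helper5.TC Cfsg.Agent.Helper5.TCI
open Cfsg.Agent.Helper5.O73LP (R8)

set_option maxRecDepth 100000 in
theorem sClos_chk2_0 : allR (sClosP 2) 0 4921 = true := by decide +kernel

set_option maxRecDepth 100000 in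
theorem sClos_chk2_1 : allR (sClosP 2) 4921 4921 = true := by decide +kernel

set_option maxRecDepth 100000 in
theorem sClos_chk2_2 : allR (sClosP 2) 9842 4921 = true := by decide +kernel

set_option maxRecDepth 100000 in
theorem sClos_chk2_3 : allR (sClosP 2) 14763 4920 = true := by decide +kernel

theorem sClos_spec2 : ∀ j, j < 19683 → (sClosP 2) j = true := by
  intro j hj
  rcases Nat.lt_or_ge j 4921 with c | c
  · exact allR_spec' _ _ _ sClos_chk2_0 j (by omega) (by omega)
  rcases Nat.lt_or_ge j 9842 with c | c
  · exact allR_spec' _ _ _ sClos_chk2_1 j (by omega) (by omega)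
  rcases Nat.lt_or_ge j 14763 with c | c
  · exact allR_spec' _ _ _ sClos_chk2_2 j (by omega) (by omega)
  exact allR_spec' _ _ _ sClos_chk2_3 j (by omega) (by omega)

set_option maxRecDepth 100000 in
theorem sClos_chk3_0 : allR (sClosP 3) 0 4921 = true := by decide +kernel

set_option maxRecDepth 100000 in
theorem sClos_chk3_1 : allR (sClosP 3) 4921 4921 = true := by decide +kernel

set_option maxRecDepth 100000 in
theorem sClos_chk3_2 : allR (sClosP 3) 9842 4921 = true := by decide +kernel

set_option maxRecDepth 100000 in
theorem sClos_chk3_3 : allR (sClosP 3) 14763 4920 = true := by decide +kernel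

theorem sClos_spec3 : ∀ j, j < 19683 → (sClosP 3) j = true := by
  intro j hj
  rcases Nat.lt_or_ge j 4921 with c | c
  · exact allR_spec' _ _ _ sClos_chk3_0 j (by omega) (by omega)
  rcases Nat.lt_or_ge j 9842 with c | c
  · exact allR_spec' _ _ _ sClos_chk3_1 j (by omega) (by omega)
  rcases Nat.lt_or_ge j 14763 with c | c
  · exact allR_spec' _ _ _ sClos_chk3_2 j (by omega) (by omega)
  exact allR_spec' _ _ _ sClos_chk3_3 j (by omega) (by omega)

end Cfsg.Agent.Helper5.O73C
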