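import Mathlib
import Cfsg.Agent.Helper5.O73CDef
import Cfsg.Agent.Helper5.O73CMv

/-!
# Checks for a Sylow 3-subgroup of `Ω₇(3)`, part C2

The checks are run one after the other, to keep the memory of the file small.
-/

set_option autoImplicit false
set_option Elab.async false

namespace Cfsg.Agent.Helper5.O73C

open Cfsg.Agent.Helper5.LP Cfsg.Agent.Helper5.TC Cfsg.Agent.Helper5.TCI
open Cfsg.Agent.Helper5.O73LP (R8)

set_option maxRecDepth 100000 in
theorem sClos_chk6_0 : allR (sClosP 6) 0 4921 = true := by decide +kernel

set_option maxRecDepth 100000 in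
theorem sClos_chk6_1 : allR (sClosP 6) 4921 4921 = true := by decide +kernel

set_option maxRecDepth 100000 in
theorem sClos_chk6_2 : allR (sClosP 6) 9842 4921 = true := by decide +kernel

set_option maxRecDepth 100000 in
theorem sClos_chk6_3 : allR (sClosP 6) 14763 4920 = true := by decide +kernel

theorem sClos_spec6 : ∀ j, j < 19683 → (sClosP 6) j = true := by
  intro j hj
  rcases Nat.lt_or_ge j 4921 with c | c
  · exact allR_spec' _ _ _ sClos_chk6_0 j (by omega) (by omega)
  rcases Nat.lt_or_ge j 9842 with c | c
  · exact allR_spec' _ _ _ sClos_chk6_1 j (by omega) (by omega)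
  rcases Nat.lt_or_ge j 14763 with c | c
  · exact allR_spec' _ _ _ sClos_chk6_2 j (by omega) (by omega)
  exact allR_spec' _ _ _ sClos_chk6_3 j (by omega) (by omega)

theorem sRight0_chk0 : Nat.beq (sR 0 0) (sL 0 0) = true := by decide +kernel

set_option maxRecDepth 100000 in
theorem sRight_chk0_0 : allR (sRightP 0) 0 4921 = true := by decide +kernel

set_option maxRecDepth 100000 in
theorem sRight_chk0_1 : allR (sRightP 0) 4921 4921 = true := by decide +kernel

set_option maxRecDepth 100000 in
theorem sRight_chk0_2 : allR (sRightP 0) 9842 4921 = true := by decide +kernel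

set_option maxRecDepth 100000 in
theorem sRight_chk0_3 : allR (sRightP 0) 14763 4919 = true := by decide +kernel

theorem sRight_spec0 : ∀ j, j < 19682 → (sRightP 0) j = true := by
  intro j hj
  rcases Nat.lt_or_ge j 4921 with c | c
  · exact allR_spec' _ _ _ sRight_chk0_0 j (by omega) (by omega)
  rcases Nat.lt_or_ge j 9842 with c | c
  · exact allR_spec' _ _ _ sRight_chk0_1 j (by omega) (by omega)
  rcases Nat.lt_or_ge j 14763 with c | c
  · exact allR_spec' _ _ _ sRight_chk0_2 j (by omega) (by omega)
  exact allR_spec' _ _ _ sRight_chk0_3 j (by omega) (by omega)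

theorem sRight0_chk1 : Nat.beq (sR 1 0) (sL 1 0) = true := by decide +kernel

set_option maxRecDepth 100000 in
theorem sRight_chk1_0 : allR (sRightP 1) 0 4921 = true := by decide +kernel

set_option maxRecDepth 100000 in
theorem sRight_chk1_1 : allR (sRightP 1) 4921 4921 = true := by decide +kernel

set_option maxRecDepth 100000 in
theorem sRight_chk1_2 : allR (sRightP 1) 9842 4921 = true := by decide +kernel

set_option maxRecDepth 100000 in
theorem sRight_chk1_3 : allR (sRightP 1) 14763 4919 = true := by decide +kernel

theorem sRight_spec1 : ∀ j, j < 19682 → (sRightP 1) j = true := by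
  intro j hj
  rcases Nat.lt_or_ge j 4921 with c | c
  · exact allR_spec' _ _ _ sRight_chk1_0 j (by omega) (by omega)
  rcases Nat.lt_or_ge j 9842 with c | c
  · exact allR_spec' _ _ _ sRight_chk1_1 j (by omega) (by omega)
  rcases Nat.lt_or_ge j 14763 with c | c
  · exact allR_spec' _ _ _ sRight_chk1_2 j (by omega) (by omega)
  exact allR_spec' _ _ _ sRight_chk1_3 j (by omega) (by omega)

end Cfsg.Agent.Helper5.O73C
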