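import Mathlib
import Cfsg.Agent.Helper5.O73CDef
import Cfsg.Agent.Helper5.O73CMv

/-!
# Checks for a Sylow 3-subgroup of `Ω₇(3)`, part D

The checks are run one after the other, to keep the memory of the file small.
-/

set_option autoImplicit false
set_option Elab.async false

namespace Cfsg.Agent.Helper5.O73C

open Cfsg.Agent.Helper5.LP Cfsg.Agent.Helper5.TC Cfsg.Agent.Helper5.TCI
open Cfsg.Agent.Helper5.O73LP (R8)

set_option maxRecDepth 100000 in
theorem k3_chk_0 : allR (k3P) 0 2461 = true := by decide +kernel

set_option maxRecDepth 100000 in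
theorem k3_chk_1 : allR (k3P) 2461 2461 = true := by decide +kernel

set_option maxRecDepth 100000 in
theorem k3_chk_2 : allR (k3P) 4922 2461 = true := by decide +kernel

set_option maxRecDepth 100000 in
theorem k3_chk_3 : allR (k3P) 7383 2461 = true := by decide +kernel

set_option maxRecDepth 100000 in
theorem k3_chk_4 : allR (k3P) 9844 2461 = true := by decide +kernel

set_option maxRecDepth 100000 in
theorem k3_chk_5 : allR (k3P) 12305 2461 = true := by decide +kernel

set_option maxRecDepth 100000 in
theorem k3_chk_6 : allR (k3P) 14766 2461 = true := by decide +kernel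

set_option maxRecDepth 100000 in
theorem k3_chk_7 : allR (k3P) 17227 2455 = true := by decide +kernel

theorem k3_spec : ∀ j, j < 19682 → k3P j = true := by
  intro j hj
  rcases Nat.lt_or_ge j 2461 with c | c
  · exact allR_spec' _ _ _ k3_chk_0 j (by omega) (by omega)
  rcases Nat.lt_or_ge j 4922 with c | c
  · exact allR_spec' _ _ _ k3_chk_1 j (by omega) (by omega)
  rcases Nat.lt_or_ge j 7383 with c | c
  · exact allR_spec' _ _ _ k3_chk_2 j (by omega) (by omega)
  rcases Nat.lt_or_ge j 9844 with c | c
  · exact allR_spec' _ _ _ k3_chk_3 j (by omega) (by omega)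
  rcases Nat.lt_or_ge j 12305 with c | c
  · exact allR_spec' _ _ _ k3_chk_4 j (by omega) (by omega)
  rcases Nat.lt_or_ge j 14766 with c | c
  · exact allR_spec' _ _ _ k3_chk_5 j (by omega) (by omega)
  rcases Nat.lt_or_ge j 17227 with c | c
  · exact allR_spec' _ _ _ k3_chk_6 j (by omega) (by omega)
  exact allR_spec' _ _ _ k3_chk_7 j (by omega) (by omega)

end Cfsg.Agent.Helper5.O73C
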