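import Mathlib
import Cfsg.Agent.Helper5.O73CDef
import Cfsg.Agent.Helper5.O73CMv

/-!
# Checks for a Sylow 3-subgroup of `Ω₇(3)`, part E

The checks are run one after the other, to keep the memory of the file small.
-/

set_option autoImplicit false
set_option Elab.async false

namespace Cfsg.Agent.Helper5.O73C

open Cfsg.Agent.Helper5.LP Cfsg.Agent.Helper5.TC Cfsg.Agent.Helper5.TCI
open Cfsg.Agent.Helper5.O73LP (R8)

set_option maxRecDepth 100000 in
theorem hTable_chk0_0 : allR (hTableP 0) 0 3159 = true := by decide +kernel

theorem hTable_spec0 : ∀ j, j < 3159 → (hTableP 0) j = true := by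
  intro j hj
  exact allR_spec' _ _ _ hTable_chk0_0 j (by omega) (by omega)

set_option maxRecDepth 100000 in
theorem hTable_chk1_0 : allR (hTableP 1) 0 3159 = true := by decide +kernel

theorem hTable_spec1 : ∀ j, j < 3159 → (hTableP 1) j = true := by
  intro j hj
  exact allR_spec' _ _ _ hTable_chk1_0 j (by omega) (by omega)

set_option maxRecDepth 100000 in
theorem hTable_chk2_0 : allR (hTableP 2) 0 3159 = true := by decide +kernel

theorem hTable_spec2 : ∀ j, j < 3159 → (hTableP 2) j = true := by
  intro j hj
  exact allR_spec' _ _ _ hTable_chk2_0 j (by omega) (by omega)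

set_option maxRecDepth 100000 in
theorem hTable_chk3_0 : allR (hTableP 3) 0 3159 = true := by decide +kernel

theorem hTable_spec3 : ∀ j, j < 3159 → (hTableP 3) j = true := by
  intro j hj
  exact allR_spec' _ _ _ hTable_chk3_0 j (by omega) (by omega)

set_option maxRecDepth 100000 in
theorem hTable_chk4_0 : allR (hTableP 4) 0 3159 = true := by decide +kernel

theorem hTable_spec4 : ∀ j, j < 3159 → (hTableP 4) j = true := by
  intro j hj
  exact allR_spec' _ _ _ hTable_chk4_0 j (by omega) (by omega)

set_option maxRecDepth 100000 in
theorem hTable_chk5_0 : allR (hTableP 5) 0 3159 = true := by decide +kernel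

theorem hTable_spec5 : ∀ j, j < 3159 → (hTableP 5) j = true := by
  intro j hj
  exact allR_spec' _ _ _ hTable_chk5_0 j (by omega) (by omega)

set_option maxRecDepth 100000 in
theorem hTable_chk6_0 : allR (hTableP 6) 0 3159 = true := by decide +kernel

theorem hTable_spec6 : ∀ j, j < 3159 → (hTableP 6) j = true := by
  intro j hj
  exact allR_spec' _ _ _ hTable_chk6_0 j (by omega) (by omega)

set_option maxRecDepth 100000 in
theorem hTable_chk7_0 : allR (hTableP 7) 0 3159 = true := by decide +kernel

theorem hTable_spec7 : ∀ j, j < 3159 → (hTableP 7) j = true := by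
  intro j hj
  exact allR_spec' _ _ _ hTable_chk7_0 j (by omega) (by omega)

set_option maxRecDepth 100000 in
theorem hRels_chk_0 : allR (hRelsP) 0 527 = true := by decide +kernel

set_option maxRecDepth 100000 in
theorem hRels_chk_1 : allR (hRelsP) 527 527 = true := by decide +kernel

set_option maxRecDepth 100000 in
theorem hRels_chk_2 : allR (hRelsP) 1054 527 = true := by decide +kernel

set_option maxRecDepth 100000 in
theorem hRels_chk_3 : allR (hRelsP) 1581 527 = true := by decide +kernel

set_option maxRecDepth 100000 in
theorem hRels_chk_4 : allR (hRelsP) 2108 527 = true := by decide +kernel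

set_option maxRecDepth 100000 in
theorem hRels_chk_5 : allR (hRelsP) 2635 524 = true := by decide +kernel

theorem hRels_spec : ∀ j, j < 3159 → hRelsP j = true := by
  intro j hj
  rcases Nat.lt_or_ge j 527 with c | c
  · exact allR_spec' _ _ _ hRels_chk_0 j (by omega) (by omega)
  rcases Nat.lt_or_ge j 1054 with c | c
  · exact allR_spec' _ _ _ hRels_chk_1 j (by omega) (by omega)
  rcases Nat.lt_or_ge j 1581 with c | c
  · exact allR_spec' _ _ _ hRels_chk_2 j (by omega) (by omega)
  rcases Nat.lt_or_ge j 2108 with c | c
  · exact allR_spec' _ _ _ hRels_chk_3 j (by omega) (by omega)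
  rcases Nat.lt_or_ge j 2635 with c | c
  · exact allR_spec' _ _ _ hRels_chk_4 j (by omega) (by omega)
  exact allR_spec' _ _ _ hRels_chk_5 j (by omega) (by omega)

end Cfsg.Agent.Helper5.O73C
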