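import Mathlib
import Cfsg.Agent.Helper5.O73CDef
import Cfsg.Agent.Helper5.O73CMv

/-!
# Checks for a Sylow 3-subgroup of `Ω₇(3)`, part E2

The checks are run one after the other, to keep the memory of the file small.
-/

set_option autoImplicit false
set_option Elab.async false

namespace Cfsg.Agent.Helper5.O73C

open Cfsg.Agent.Helper5.LP Cfsg.Agent.Helper5.TC Cfsg.Agent.Helper5.TCI
open Cfsg.Agent.Helper5.O73LP (R8)

set_option maxRecDepth 100000 in
theorem mov2_chk0 : Nat.beq (movCnt tabH (rW 0) 3159) (mv2 0) = true := by decide +kernel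

set_option maxRecDepth 100000 in
theorem mov2_chk1 : Nat.beq (movCnt tabH (rW 1) 3159) (mv2 1) = true := by decide +kernel

set_option maxRecDepth 100000 in
theorem mov2_chk2 : Nat.beq (movCnt tabH (rW 2) 3159) (mv2 2) = true := by decide +kernel

set_option maxRecDepth 100000 in
theorem mov2_chk3 : Nat.beq (movCnt tabH (rW 3) 3159) (mv2 3) = true := by decide +kernel

set_option maxRecDepth 100000 in
theorem mov2_chk4 : Nat.beq (movCnt tabH (rW 4) 3159) (mv2 4) = true := by decide +kernel

set_option maxRecDepth 100000 in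
theorem mov2_chk5 : Nat.beq (movCnt tabH (rW 5) 3159) (mv2 5) = true := by decide +kernel

set_option maxRecDepth 100000 in
theorem mov2_chk6 : Nat.beq (movCnt tabH (rW 6) 3159) (mv2 6) = true := by decide +kernel

theorem mov2_val : ∀ i, i < 7 → movCnt tabH (rW i) 3159 = mv2 i := by
  intro i hi
  interval_cases i
  · exact Nat.eq_of_beq_eq_true mov2_chk0
  · exact Nat.eq_of_beq_eq_true mov2_chk1
  · exact Nat.eq_of_beq_eq_true mov2_chk2
  · exact Nat.eq_of_beq_eq_true mov2_chk3
  · exact Nat.eq_of_beq_eq_true mov2_chk4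
  · exact Nat.eq_of_beq_eq_true mov2_chk5
  · exact Nat.eq_of_beq_eq_true mov2_chk6

end Cfsg.Agent.Helper5.O73C
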