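import Mathlib
import Cfsg.Agent.Helper5.O73CChkA
import Cfsg.Agent.Helper5.O73CChkB
import Cfsg.Agent.Helper5.O73CChkB2
import Cfsg.Agent.Helper5.O73CChkC
import Cfsg.Agent.Helper5.O73CChkC2
import Cfsg.Agent.Helper5.O73CChkC3
import Cfsg.Agent.Helper5.O73CChkD
import Cfsg.Agent.Helper5.O73CChkE
import Cfsg.Agent.Helper5.O73CChkE2
import Cfsg.Agent.Helper5.O73CA

/-!
# The classes of subgroups of order 3 of `Ω₇(3)`

A Sylow 3-subgroup of the presented group `LPG 8 R8` with its 19683 elements; every element of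
order 3 of it is conjugate to one of seven representatives or to its inverse; the seven
representatives are separated by the numbers of points they move in two permutation
representations.
-/

set_option autoImplicit false

namespace Cfsg.Agent.Helper5.O73C

open Cfsg.Agent.Helper5.LP Cfsg.Agent.Helper5.TC Cfsg.Agent.Helper5.TCI
open Cfsg.Agent.Helper5.O73LP (R8 lettersA)

/-- the group. -/
abbrev G0 : Type := LPG 8 R8

theorem hT1 : TableOK 8 364 FiXBTC.ctF :=
  tableOK_of_cert FiXBTC.iota (fun _ => rfl) rfl FiXBTC.hT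

theorem hR1 : RelsFix R8 364 FiXBTC.ctF :=
  relsFix_of_cert (letterWords 7) rfl O73LP.wordsB FiXBTC.hrelT

/-- the permutation representation on 364 points. -/
noncomputable def rho1 : G0 →* Equiv.Perm (Fin 364) := tableHom lettersA hT1 hR1

/-- the value of a word in the eight generators. -/
noncomputable def eW (w : List ℕ) : G0 := ev 8 R8 w

theorem eW_nil : eW [] = 1 := ev_nil

theorem eW_append (w w' : List ℕ) : eW (w ++ w') = eW w * eW w' := ev_append w w'

theorem eW_reverse (w : List ℕ) : eW w.reverse = (eW w)⁻¹ := ev_reverse (by decide) w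

theorem actsOn1 : ActsOn rho1 eW 8 FiXBTC.ctF :=
  ⟨fun l hl v => tableHom_ev lettersA hT1 hR1 l hl v⟩

instance finG0 : Finite G0 := O73LP.ubB.1

theorem card_G0 : Nat.card G0 = 4585351680 := O73LP.simple_card.2

theorem card_G0_le : Nat.card G0 ≤ chainProd O73LP.levels := by
  rw [O73LP.chain_prod, card_G0]

theorem cB_mem : ∀ v ∈ cBase, ∃ b, b < 6 ∧ v = cB b := by decide

theorem cB_lt : ∀ b, b < 6 → cB b < 364 := by decide

/-- two words with the same action on the base points have the same value. -/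
theorem eW_eq_of_base (w w' : List ℕ) (hw : ∀ c ∈ w, c < 8) (hw' : ∀ c ∈ w', c < 8)
    (h : ∀ b, b < 6 → actL FiXBTC.ctF w (cB b) = actL FiXBTC.ctF w' (cB b)) : eW w = eW w' := by
  have h1 : (eW w')⁻¹ * eW w = 1 := by
    apply eq_one_of_fix_base actsOn1 O73LP.levels O73LP.chain_ok card_G0_le
    intro v hv hvN
    rw [chainBase_G] at hv
    obtain ⟨b, hb, rfl⟩ := cB_mem v hv
    rw [map_mul, Equiv.Perm.mul_apply, map_inv, Equiv.Perm.inv_eq_iff_eq]
    apply Fin.ext
    rw [actsOn1.act w hw, actsOn1.act w' hw']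
    exact h b hb
  rw [inv_mul_eq_one] at h1
  exact h1.symm

theorem allR_intro (p : ℕ → Bool) (lo : ℕ) : ∀ n, (∀ k, k < n → p (lo + k) = true) →
    allR p lo n = true
  | 0, _ => rfl
  | n + 1, h => by
    show (p (Nat.add lo n) && allR p lo n) = true
    rw [Bool.and_eq_true]
    exact ⟨h n (Nat.lt_succ_self n), allR_intro p lo n (fun k hk => h k (Nat.lt_succ_of_lt hk))⟩

/-! ### the tree of the elements -/

theorem sTree_base : ∀ b, b < 6 → sImg b 0 = cB b := by
  intro b hb
  exact Nat.eq_of_beq_eq_true (allR_spec' sTree0P 0 6 sTree0_chk b (by omega) (by omega))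

theorem sTree_step : ∀ k, 0 < k → k < 19683 → sPar k < k ∧ sLet k < 7 ∧
    ∀ b, b < 6 → sImg b k = tabS (sLet k) (sImg b (sPar k)) := by
  intro k hk0 hk
  obtain ⟨j, rfl⟩ : ∃ j, k = Nat.succ j := ⟨k - 1, by omega⟩
  have h := sTree_spec j (by omega)
  rw [sTreeP_eq, Bool.and_eq_true, Bool.and_eq_true, Nat.blt_eq, Nat.blt_eq] at h
  refine ⟨h.1.1, h.1.2, ?_⟩
  intro b hb
  exact Nat.eq_of_beq_eq_true (allR_spec' _ 0 6 h.2 b (by omega) (by omega))

theorem tabS_eq (x : ℕ) (hx : x < 7) (v : ℕ) (hv : v < 364) :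
    tabS x v = actL FiXBTC.ctF (sW x) v := by
  have h := allR_spec' _ 0 7 sTab_chk x (by omega) (by omega)
  have h2 := allR_spec' _ 0 364 h v (by omega) (by omega)
  unfold sTabP at h2
  rw [actR_eq] at h2
  exact Nat.eq_of_beq_eq_true h2

theorem sClos_spec : ∀ x, x < 7 → ∀ k, k < 19683 → sL x k < 19683 ∧
    ∀ b, b < 6 → tabS x (sImg b k) = sImg b (sL x k) := by
  intro x hx k hk
  have h : sClosP x k = true := by
    interval_cases x
    · exact sClos_spec0 k hk
    · exact sClos_spec1 k hk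
    · exact sClos_spec2 k hk
    · exact sClos_spec3 k hk
    · exact sClos_spec4 k hk
    · exact sClos_spec5 k hk
    · exact sClos_spec6 k hk
  rw [sClosP_eq, Bool.and_eq_true, Nat.blt_eq] at h
  refine ⟨h.1, ?_⟩
  intro b hb
  exact Nat.eq_of_beq_eq_true (allR_spec' _ 0 6 h.2 b (by omega) (by omega))

/-- the word of an element, with fuel. -/
def sWordF : ℕ → ℕ → List ℕ
  | 0, _ => []
  | f + 1, k => bif Nat.beq k 0 then [] else sW (sLet k) ++ sWordF f (sPar k)

/-- the word of an element. -/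
def sWord (k : ℕ) : List ℕ := sWordF 19683 k

theorem sWordF_zero (f : ℕ) : sWordF f 0 = [] := by
  cases f <;> rfl

theorem sWordF_succ (f k : ℕ) (hk : 0 < k) :
    sWordF (f + 1) k = sW (sLet k) ++ sWordF f (sPar k) := by
  have h : Nat.beq k 0 = false := by
    cases k with
    | zero => omega
    | succ n => rfl
  show (bif Nat.beq k 0 then [] else sW (sLet k) ++ sWordF f (sPar k)) = _
  rw [h]
  rfl

theorem sWordF_lt : ∀ f k, ∀ c ∈ sWordF f k, c < 8
  | 0, _, c, hc => by
    simp [sWordF] at hc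
  | f + 1, k, c, hc => by
    rcases Nat.eq_zero_or_pos k with rfl | hk
    · rw [sWordF_zero] at hc
      simp at hc
    · rw [sWordF_succ f k hk, List.mem_append] at hc
      rcases hc with hc | hc
      · exact sW_lt _ c hc
      · exact sWordF_lt f _ c hc

theorem sWord_lt (k : ℕ) : ∀ c ∈ sWord k, c < 8 := sWordF_lt 19683 k

theorem sWordF_img : ∀ f k, k ≤ f → k < 19683 → ∀ b, b < 6 →
    actL FiXBTC.ctF (sWordF f k) (cB b) = sImg b k
  | 0, k, hkf, _, b, hb => by
    obtain rfl : k = 0 := by omega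
    rw [sTree_base b hb]
    rfl
  | f + 1, k, hkf, hk, b, hb => by
    rcases Nat.eq_zero_or_pos k with rfl | hk0
    · rw [sWordF_zero, sTree_base b hb]
      rfl
    · obtain ⟨h1, h2, h3⟩ := sTree_step k hk0 hk
      have ih := sWordF_img f (sPar k) (by omega) (by omega) b hb
      have hlt : sImg b (sPar k) < 364 := by
        rw [← ih]
        exact actL_lt hT1 _ (sWordF_lt f _) _ (cB_lt b hb)
      rw [sWordF_succ f k hk0, actL_append, ih, h3 b hb, tabS_eq _ h2 _ hlt]

theorem sWord_img (k : ℕ) (hk : k < 19683) (b : ℕ) (hb : b < 6) :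
    actL FiXBTC.ctF (sWord k) (cB b) = sImg b k :=
  sWordF_img 19683 k (by omega) hk b hb

theorem sImg_lt (k : ℕ) (hk : k < 19683) (b : ℕ) (hb : b < 6) : sImg b k < 364 := by
  rw [← sWord_img k hk b hb]
  exact actL_lt hT1 _ (sWord_lt k) _ (cB_lt b hb)

/-- the elements. -/
noncomputable def eS (k : ℕ) : G0 := eW (sWord k)

/-- the generators. -/
noncomputable def gS (x : ℕ) : G0 := eW (sW x)

theorem eS_zero : eS 0 = 1 := by
  unfold eS sWord
  rw [sWordF_zero]
  rfl

theorem mem_append_lt {w w' : List ℕ} (hw : ∀ c ∈ w, c < 8) (hw' : ∀ c ∈ w', c < 8) :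
    ∀ c ∈ w ++ w', c < 8 := by
  intro c hc
  rw [List.mem_append] at hc
  rcases hc with hc | hc
  · exact hw c hc
  · exact hw' c hc

theorem eS_mul (x : ℕ) (hx : x < 7) (k : ℕ) (hk : k < 19683) :
    gS x * eS k = eS (sL x k) := by
  obtain ⟨h1, h2⟩ := sClos_spec x hx k hk
  unfold eS gS
  rw [← eW_append]
  apply eW_eq_of_base
  · exact mem_append_lt (sW_lt x) (sWord_lt k)
  · exact sWord_lt _
  · intro b hb
    rw [actL_append, sWord_img k hk b hb, sWord_img _ h1 b hb,
      ← tabS_eq x hx _ (sImg_lt k hk b hb)]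
    exact h2 b hb

theorem eS_step (k : ℕ) (hk0 : 0 < k) (hk : k < 19683) :
    eS k = gS (sLet k) * eS (sPar k) := by
  obtain ⟨h1, h2, h3⟩ := sTree_step k hk0 hk
  have hp : sPar k < 19683 := by omega
  unfold eS gS
  rw [← eW_append]
  apply eW_eq_of_base
  · exact sWord_lt _
  · exact mem_append_lt (sW_lt _) (sWord_lt _)
  · intro b hb
    rw [actL_append, sWord_img k hk b hb, sWord_img _ hp b hb,
      ← tabS_eq _ h2 _ (sImg_lt _ hp b hb)]
    exact h3 b hb

/-! ### the Sylow 3-subgroup -/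

theorem cube3_spec (x : ℕ) (hx : x < 7) (b : ℕ) (hb : b < 6) :
    actL FiXBTC.ctF (sW x ++ (sW x ++ sW x)) (cB b) = cB b ∧
      actL FiXBTC.ctF (rW x ++ (rW x ++ rW x)) (cB b) = cB b := by
  have h := allR_spec' _ 0 7 cube3_chk x (by omega) (by omega)
  unfold cube3P at h
  have h2 := allR_spec' _ 0 6 h b (by omega) (by omega)
  rw [Bool.and_eq_true, actR_eq, actR_eq] at h2
  exact ⟨Nat.eq_of_beq_eq_true h2.1, Nat.eq_of_beq_eq_true h2.2⟩

theorem gS_cube (x : ℕ) (hx : x < 7) : gS x * (gS x * gS x) = 1 := by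
  unfold gS
  rw [← eW_append, ← eW_append, ← eW_nil]
  apply eW_eq_of_base
  · exact mem_append_lt (sW_lt x) (mem_append_lt (sW_lt x) (sW_lt x))
  · intro c hc
    simp at hc
  · intro b hb
    exact (cube3_spec x hx b hb).1

theorem gS_inv (x : ℕ) (hx : x < 7) : (gS x)⁻¹ = gS x * gS x :=
  inv_eq_of_mul_eq_one_right (gS_cube x hx)

/-- the Sylow 3-subgroup. -/
def SS : Subgroup G0 := Subgroup.closure {y : G0 | ∃ x, x < 7 ∧ y = gS x}

/-- every element of the subgroup is one of the 19683 elements. -/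
theorem mem_SS (y : G0) (hy : y ∈ SS) : ∃ k, k < 19683 ∧ y = eS k := by
  unfold SS at hy
  induction hy using Subgroup.closure_induction_left with
  | one => exact ⟨0, by norm_num, eS_zero.symm⟩
  | mul_left x hx y _ ih =>
    obtain ⟨k, hk, rfl⟩ := ih
    obtain ⟨a, ha, rfl⟩ := hx
    exact ⟨sL a k, (sClos_spec a ha k hk).1, eS_mul a ha k hk⟩
  | inv_mul_cancel x hx y _ ih =>
    obtain ⟨k, hk, rfl⟩ := ih
    obtain ⟨a, ha, rfl⟩ := hx
    have h1 := (sClos_spec a ha k hk).1
    refine ⟨sL a (sL a k), (sClos_spec a ha _ h1).1, ?_⟩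
    rw [gS_inv a ha, mul_assoc, eS_mul a ha k hk, eS_mul a ha _ h1]

theorem card_SS_le : Nat.card SS ≤ 19683 := by
  classical
  have hex : ∀ y : SS, ∃ k : Fin 19683, (y : G0) = eS k.val := by
    intro y
    obtain ⟨k, hk, e⟩ := mem_SS y.val y.property
    exact ⟨⟨k, hk⟩, e⟩
  choose f hf using hex
  have hinj : Function.Injective f := by
    intro y z hyz
    apply Subtype.ext
    rw [hf y, hf z, hyz]
  have := Nat.card_le_card_of_injective f hinj
  rwa [Nat.card_fin] at this

theorem gS_mem (x : ℕ) (hx : x < 7) : gS x ∈ SS := Subgroup.subset_closure ⟨x, hx, rfl⟩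

/-- the seven generators in the subgroup. -/
noncomputable def gU (x : ℕ) : SS := if h : x < 7 then ⟨gS x, gS_mem x h⟩ else 1

theorem gU_coe {x : ℕ} (hx : x < 7) : ((gU x : SS) : G0) = gS x := by
  unfold gU
  rw [dif_pos hx]

theorem rho_tabS (x : ℕ) (hx : x < 7) (v : Fin 364) : (rho1 (gS x) v).val = tabS x v.val := by
  rw [tabS_eq x hx _ v.isLt]
  exact actsOn1.act (sW x) (sW_lt x) v

theorem rhoS_word : ∀ l : List ℕ, (∀ c ∈ l, c < 7) → ∀ v : Fin 364,
    ((rho1.comp SS.subtype) ((l.map gU).prod) v).val = actL tabS l v.val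
  | [], _, v => by
    rw [List.map_nil, List.prod_nil, map_one]
    rfl
  | c :: l, h, v => by
    rw [List.map_cons, List.prod_cons, map_mul, Equiv.Perm.mul_apply]
    have h1 := rhoS_word l (fun c hc => h c (List.mem_cons_of_mem _ hc)) v
    have hc := h c List.mem_cons_self
    have h2 : (rho1.comp SS.subtype) (gU c) = rho1 (gS c) := by
      show rho1 ((gU c : SS) : G0) = _
      rw [gU_coe hc]
    rw [h2, rho_tabS c hc, h1]
    rfl

instance finSS : Finite SS := inferInstance

theorem card_SS_ge : 19683 ≤ Nat.card SS := by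
  have hA : ActsOn (rho1.comp SS.subtype) (fun l => (l.map gU).prod) 7 tabS :=
    ⟨fun l hl v => rhoS_word l hl v⟩
  have h1 := card_ge_of_chain hA levelSs chainS_ok
  rwa [chainS_prod] at h1

theorem card_SS : Nat.card SS = 19683 := le_antisymm card_SS_le card_SS_ge

/-! ### the right multiplication -/

theorem sRight_spec : ∀ x, x < 7 → sR x 0 = sL x 0 ∧
    ∀ j, j < 19682 → sR x (j + 1) = sL (sLet (j + 1)) (sR x (sPar (j + 1))) := by
  intro x hx
  interval_cases x
  · exact ⟨Nat.eq_of_beq_eq_true sRight0_chk0,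
      fun j hj => Nat.eq_of_beq_eq_true (sRight_spec0 j hj)⟩
  · exact ⟨Nat.eq_of_beq_eq_true sRight0_chk1,
      fun j hj => Nat.eq_of_beq_eq_true (sRight_spec1 j hj)⟩
  · exact ⟨Nat.eq_of_beq_eq_true sRight0_chk2,
      fun j hj => Nat.eq_of_beq_eq_true (sRight_spec2 j hj)⟩
  · exact ⟨Nat.eq_of_beq_eq_true sRight0_chk3,
      fun j hj => Nat.eq_of_beq_eq_true (sRight_spec3 j hj)⟩
  · exact ⟨Nat.eq_of_beq_eq_true sRight0_chk4,
      fun j hj => Nat.eq_of_beq_eq_true (sRight_spec4 j hj)⟩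
  · exact ⟨Nat.eq_of_beq_eq_true sRight0_chk5,
      fun j hj => Nat.eq_of_beq_eq_true (sRight_spec5 j hj)⟩
  · exact ⟨Nat.eq_of_beq_eq_true sRight0_chk6,
      fun j hj => Nat.eq_of_beq_eq_true (sRight_spec6 j hj)⟩

theorem eS_mul_right (x : ℕ) (hx : x < 7) : ∀ k, k < 19683 →
    sR x k < 19683 ∧ eS k * gS x = eS (sR x k) := by
  intro k
  induction k using Nat.strong_induction_on with
  | _ k ih =>
    intro hk
    obtain ⟨hr0, hr⟩ := sRight_spec x hx
    rcases Nat.eq_zero_or_pos k with rfl | hk0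
    · rw [hr0, eS_zero, one_mul]
      refine ⟨(sClos_spec x hx 0 (by norm_num)).1, ?_⟩
      rw [← eS_mul x hx 0 (by norm_num), eS_zero, mul_one]
    · obtain ⟨h1, h2, -⟩ := sTree_step k hk0 hk
      obtain ⟨j, rfl⟩ : ∃ j, k = j + 1 := ⟨k - 1, by omega⟩
      obtain ⟨ih1, ih2⟩ := ih (sPar (j + 1)) h1 (by omega)
      rw [hr j (by omega)]
      refine ⟨(sClos_spec _ h2 _ ih1).1, ?_⟩
      rw [eS_step (j + 1) hk0 hk, mul_assoc, ih2, eS_mul _ h2 _ ih1]

/-! ### products and cubes -/

theorem mulF_zero (k j : ℕ) : mulF 0 k j = j := rfl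

theorem eS_mulF : ∀ f k j, k ≤ f → k < 19683 → j < 19683 →
    mulF f k j < 19683 ∧ eS (mulF f k j) = eS k * eS j
  | 0, k, j, hkf, _, hj => by
    obtain rfl : k = 0 := by omega
    rw [mulF_zero, eS_zero, one_mul]
    exact ⟨hj, rfl⟩
  | f + 1, k, j, hkf, hk, hj => by
    rcases Nat.eq_zero_or_pos k with rfl | hk0
    · have e : mulF (f + 1) 0 j = j := rfl
      rw [e, eS_zero, one_mul]
      exact ⟨hj, rfl⟩
    · obtain ⟨h1, h2, -⟩ := sTree_step k hk0 hk
      have hb : Nat.beq k 0 = false := by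
        cases k with
        | zero => omega
        | succ n => rfl
      have e : mulF (f + 1) k j = sL (sLet k) (mulF f (sPar k) j) := by
        rw [mulF_succ, hb]
        rfl
      obtain ⟨ih1, ih2⟩ := eS_mulF f (sPar k) j (by omega) (by omega) hj
      rw [e]
      refine ⟨(sClos_spec _ h2 _ ih1).1, ?_⟩
      rw [← eS_mul _ h2 _ ih1, ih2, eS_step k hk0 hk, mul_assoc]

theorem eS_cube (k : ℕ) (hk : k < 19683) :
    cubeS k < 19683 ∧ eS (cubeS k) = eS k * (eS k * eS k) := by
  obtain ⟨h1, h2⟩ := eS_mulF 19683 k k (by omega) hk hk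
  obtain ⟨h3, h4⟩ := eS_mulF 19683 k (mulF 19683 k k) (by omega) hk h1
  unfold cubeS
  exact ⟨h3, by rw [h4, h2]⟩

theorem eS_ne_one (c : ℕ) (hc0 : 0 < c) (hc : c < 19683) : eS c ≠ 1 := by
  intro h
  obtain ⟨j, rfl⟩ : ∃ j, c = Nat.succ j := ⟨c - 1, by omega⟩
  have h1 := neOne_spec j (by omega)
  unfold neOneP at h1
  have h2 : allR (fun b => Nat.beq (sImg b (Nat.succ j)) (cB b)) 0 6 = true := by
    apply allR_intro
    intro b hb
    rw [Nat.zero_add]
    have h3 := actsOn1.act (sWord (Nat.succ j)) (sWord_lt _) ⟨cB b, cB_lt b hb⟩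
    have h4 : eW (sWord (Nat.succ j)) = 1 := h
    rw [h4, map_one] at h3
    have h5 : actL FiXBTC.ctF (sWord (Nat.succ j)) (cB b) = cB b := h3.symm
    rw [sWord_img _ hc b hb] at h5
    rw [h5]
    exact Nat.beq_refl _
  rw [h2] at h1
  simp at h1

/-! ### the fusion of the elements of order 3 -/

/-- the representatives. -/
noncomputable def rG (i : ℕ) : G0 := eW (rW i)

/-- the element number `k` is conjugate to a representative or to its inverse. -/
def Claim (k : ℕ) : Prop :=
  ∃ i, i < 7 ∧ ∃ g : G0, g * rG i * g⁻¹ = eS k ∨ g * (rG i)⁻¹ * g⁻¹ = eS k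

theorem rWc_lt (code : ℕ) : ∀ c ∈ rWc code, c < 8 := by
  intro c hc
  unfold rWc at hc
  cases h : Nat.beq (Nat.mod code 2) 0
  · rw [h] at hc
    exact rW_lt _ c (List.mem_reverse.mp hc)
  · rw [h] at hc
    exact rW_lt _ c hc

theorem eW_rWc (code : ℕ) : eW (rWc code) = rG (code / 2) ∨ eW (rWc code) = (rG (code / 2))⁻¹ := by
  unfold rWc
  cases h : Nat.beq (Nat.mod code 2) 0
  · right
    exact eW_reverse _
  · left
    rfl

theorem claim_root (k : ℕ) (hx : sX3 k = 7) (hk : k < 19683) : Claim k := by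
  have h := rootFlag_spec k hk
  unfold rootFlagP at h
  rw [hx] at h
  have h1 : rootsL.any (fun t => Nat.beq t.1 k) = true := by
    simpa using h
  obtain ⟨t, ht, htk⟩ := List.any_eq_true.mp h1
  have htk' : t.1 = k := Nat.eq_of_beq_eq_true htk
  have h2 := allL_spec rootP rootsL roots_chk t ht
  unfold rootP at h2
  rw [Bool.and_eq_true, Bool.and_eq_true, Bool.and_eq_true, Nat.blt_eq, Nat.blt_eq] at h2
  obtain ⟨⟨⟨_, hcode⟩, hlet⟩, himg⟩ := h2
  have hg : ∀ c ∈ t.2.2, c < 8 := by
    intro c hc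
    have := allL_spec _ _ hlet c hc
    rwa [Nat.blt_eq] at this
  have hgr : ∀ c ∈ t.2.2.reverse, c < 8 := fun c hc => hg c (List.mem_reverse.mp hc)
  have e : eW (t.2.2 ++ (rWc t.2.1 ++ t.2.2.reverse)) = eS k := by
    unfold eS
    apply eW_eq_of_base
    · exact mem_append_lt hg (mem_append_lt (rWc_lt _) hgr)
    · exact sWord_lt k
    · intro b hb
      have h3 := allR_spec' _ 0 6 himg b (by omega) (by omega)
      rw [actR_eq] at h3
      rw [Nat.eq_of_beq_eq_true h3, htk', sWord_img k hk b hb]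
  rw [eW_append, eW_append, eW_reverse, ← mul_assoc] at e
  refine ⟨t.2.1 / 2, by omega, eW t.2.2, ?_⟩
  rcases eW_rWc t.2.1 with h4 | h4
  · left
    rw [← h4]
    exact e
  · right
    rw [← h4]
    exact e

theorem claim_link (k : ℕ) (hk : k < 19683) (hx : sX3 k < 7) (hp : sP3 k < 19683)
    (hl : sL (sX3 k) (sP3 k) = sR (sX3 k) k) (hc : Claim (sP3 k)) : Claim k := by
  obtain ⟨i, hi, g, hg⟩ := hc
  have h1 := eS_mul (sX3 k) hx (sP3 k) hp
  have h2 := (eS_mul_right (sX3 k) hx k hk).2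
  rw [hl, ← h2] at h1
  have h3 : eS k = gS (sX3 k) * eS (sP3 k) * (gS (sX3 k))⁻¹ := by
    rw [h1]
    group
  refine ⟨i, hi, gS (sX3 k) * g, ?_⟩
  rcases hg with hg | hg
  · left
    rw [h3, ← hg]
    group
  · right
    rw [h3, ← hg]
    group

theorem reachR_zero (k : ℕ) : reachR 0 k = false := rfl

theorem claim_of_reach : ∀ f k, k < 19683 → reachR f k = true → Claim k
  | 0, k, _, h => by
    rw [reachR_zero] at h
    exact absurd h (by simp)
  | f + 1, k, hk, h => by
    rw [reachR_succ] at h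
    cases hx : Nat.beq (sX3 k) 7
    · rw [hx, cond_false, Bool.and_eq_true, Bool.and_eq_true, Bool.and_eq_true, Nat.blt_eq,
        Nat.blt_eq] at h
      obtain ⟨⟨⟨h1, h2⟩, h3⟩, h4⟩ := h
      exact claim_link k hk h1 h2 (Nat.eq_of_beq_eq_true h3) (claim_of_reach f _ h2 h4)
    · exact claim_root k (Nat.eq_of_beq_eq_true hx) hk

/-- the elements of order 3 of the Sylow subgroup. -/
theorem claim_of_order (y : G0) (hy : y ∈ SS) (ho : orderOf y = 3) :
    ∃ k, k < 19683 ∧ y = eS k ∧ Claim k := by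
  obtain ⟨k, hk, rfl⟩ := mem_SS y hy
  refine ⟨k, hk, rfl, ?_⟩
  have hk0 : 0 < k := by
    rcases Nat.eq_zero_or_pos k with rfl | h
    · rw [eS_zero, orderOf_one] at ho
      omega
    · exact h
  obtain ⟨hc1, hc2⟩ := eS_cube k hk
  have h3 : eS k * (eS k * eS k) = 1 := by
    rw [← pow_three, ← ho]
    exact pow_orderOf_eq_one (eS k)
  rw [h3] at hc2
  have hc0 : cubeS k = 0 := by
    by_contra hne
    exact eS_ne_one _ (Nat.pos_of_ne_zero hne) hc1 hc2
  obtain ⟨j, rfl⟩ : ∃ j, k = Nat.succ j := ⟨k - 1, by omega⟩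
  have h4 := k3_spec j (by omega)
  unfold k3P at h4
  rw [hc0] at h4
  have h5 : reachR 12 (Nat.succ j) = true := by
    simpa using h4
  exact claim_of_reach 12 _ hk h5

/-! ### the representatives -/

theorem rG_cube (i : ℕ) (hi : i < 7) : rG i * (rG i * rG i) = 1 := by
  unfold rG
  rw [← eW_append, ← eW_append, ← eW_nil]
  apply eW_eq_of_base
  · exact mem_append_lt (rW_lt i) (mem_append_lt (rW_lt i) (rW_lt i))
  · intro c hc
    simp at hc
  · intro b hb
    exact (cube3_spec i hi b hb).2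

/-! ### the second permutation representation -/

theorem hT2 : TableOK 8 3159 tabH := by
  intro x hx v hv
  have h : hTableP x v = true := by
    interval_cases x
    · exact hTable_spec0 v hv
    · exact hTable_spec1 v hv
    · exact hTable_spec2 v hv
    · exact hTable_spec3 v hv
    · exact hTable_spec4 v hv
    · exact hTable_spec5 v hv
    · exact hTable_spec6 v hv
    · exact hTable_spec7 v hv
  unfold hTableP at h
  rw [Bool.and_eq_true, Nat.blt_eq] at h
  exact ⟨h.1, Nat.eq_of_beq_eq_true h.2⟩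

theorem hR2 : RelsFix R8 3159 tabH := by
  intro l hl v hv
  have h := hRels_spec v hv
  unfold hRelsP at h
  have h2 := allL_spec _ R8 h l hl
  rw [actR_eq] at h2
  exact Nat.eq_of_beq_eq_true h2

/-- the permutation representation on 3159 points. -/
noncomputable def rho2 : G0 →* Equiv.Perm (Fin 3159) := tableHom lettersA hT2 hR2

theorem actsOn2 : ActsOn rho2 eW 8 tabH :=
  ⟨fun l hl v => tableHom_ev lettersA hT2 hR2 l hl v⟩

/-! ### the numbers of moved points -/

theorem movCnt_succ (T : ℕ → ℕ → ℕ) (w : List ℕ) (n : ℕ) :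
    movCnt T w (n + 1) = bif Nat.beq (actR T w n) n then movCnt T w n
      else Nat.succ (movCnt T w n) := rfl

theorem movCnt_eq_sum (T : ℕ → ℕ → ℕ) (w : List ℕ) : ∀ n,
    movCnt T w n = ∑ v ∈ Finset.range n, if actL T w v = v then 0 else 1
  | 0 => rfl
  | n + 1 => by
    rw [movCnt_succ, Finset.sum_range_succ, ← movCnt_eq_sum T w n, actR_eq]
    by_cases h : actL T w n = n
    · rw [if_pos h, h, Nat.beq_refl]
      rfl
    · rw [if_neg h]
      have hb : Nat.beq (actL T w n) n = false := by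
        rw [Bool.eq_false_iff]
        intro hh
        exact h (Nat.eq_of_beq_eq_true hh)
      rw [hb]
      rfl

theorem support_card_eq {G : Type*} [Group G] {N k : ℕ} {T : ℕ → ℕ → ℕ}
    {ρ : G →* Equiv.Perm (Fin N)} {e : List ℕ → G} (hA : ActsOn ρ e k T) (w : List ℕ)
    (hw : ∀ c ∈ w, c < k) : (ρ (e w)).support.card = movCnt T w N := by
  classical
  rw [movCnt_eq_sum, ← Fin.sum_univ_eq_sum_range (fun v => if actL T w v = v then 0 else 1) N]
  have h1 : (ρ (e w)).support = Finset.univ.filter (fun v : Fin N => ¬ actL T w v.val = v.val) := by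
    ext v
    rw [Equiv.Perm.mem_support, Finset.mem_filter]
    have h2 := hA.act w hw v
    constructor
    · intro h
      refine ⟨Finset.mem_univ _, ?_⟩
      intro h3
      apply h
      apply Fin.ext
      rw [h2, h3]
    · rintro ⟨-, h⟩ h3
      apply h
      rw [← h2, h3]
  rw [h1, Finset.card_filter]
  apply Finset.sum_congr rfl
  intro v _
  by_cases h : actL T w v.val = v.val
  · rw [if_pos h, if_neg (not_not.mpr h)]
  · rw [if_neg h, if_pos h]

theorem mov1_spec (i : ℕ) (hi : i < 7) : (rho1 (rG i)).support.card = mv1 i := by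
  unfold rG
  rw [support_card_eq actsOn1 (rW i) (rW_lt i)]
  exact Nat.eq_of_beq_eq_true (allR_spec' _ 0 7 mov1_chk i (by omega) (by omega))

theorem mov2_spec (i : ℕ) (hi : i < 7) : (rho2 (rG i)).support.card = mv2 i := by
  unfold rG
  rw [support_card_eq actsOn2 (rW i) (rW_lt i)]
  exact mov2_val i hi

theorem rG_ne_one (i : ℕ) (hi : i < 7) : rG i ≠ 1 := by
  intro h
  have h1 := mov1_spec i hi
  rw [h, map_one, Equiv.Perm.support_one, Finset.card_empty] at h1
  exact mv1_pos i hi h1.symm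

theorem rG_order (i : ℕ) (hi : i < 7) : orderOf (rG i) = 3 := by
  have : Fact (Nat.Prime 3) := ⟨Nat.prime_three⟩
  apply orderOf_eq_prime
  · rw [pow_three]
    exact rG_cube i hi
  · exact rG_ne_one i hi

theorem mem_zpowers_three {G : Type*} [Group G] (x y : G) (hx : x * (x * x) = 1)
    (hy : y ∈ Subgroup.zpowers x) : y = 1 ∨ y = x ∨ y = x⁻¹ := by
  obtain ⟨n, rfl⟩ := Subgroup.mem_zpowers_iff.mp hy
  have h3 : x ^ (3 : ℤ) = 1 := by
    rw [show (3 : ℤ) = ((3 : ℕ) : ℤ) from rfl, zpow_natCast, pow_three]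
    exact hx
  have hn : x ^ n = x ^ (n % 3) := by
    conv_lhs => rw [← Int.emod_add_mul_ediv n 3]
    rw [zpow_add, zpow_mul, h3, one_zpow, mul_one]
  rw [hn]
  have h0 : 0 ≤ n % 3 := Int.emod_nonneg n (by norm_num)
  have h1 : n % 3 < 3 := Int.emod_lt_of_pos n (by norm_num)
  have hc : n % 3 = 0 ∨ n % 3 = 1 ∨ n % 3 = 2 := by omega
  rcases hc with h | h | h
  · left
    rw [h, zpow_zero]
  · right; left
    rw [h, zpow_one]
  · right; right
    rw [h]
    apply eq_inv_of_mul_eq_one_left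
    rw [show (2 : ℤ) = ((2 : ℕ) : ℤ) from rfl, zpow_natCast, pow_two, mul_assoc]
    exact hx

theorem support_card_conj {G : Type*} [Group G] {N : ℕ} (ρ : G →* Equiv.Perm (Fin N)) (g x : G) :
    (ρ (g * x * g⁻¹)).support.card = (ρ x).support.card := by
  rw [map_mul, map_mul, map_inv]
  exact Equiv.Perm.card_support_conj

theorem support_card_inv {G : Type*} [Group G] {N : ℕ} (ρ : G →* Equiv.Perm (Fin N)) (x : G) :
    (ρ x⁻¹).support.card = (ρ x).support.card := by
  rw [map_inv, Equiv.Perm.support_inv]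

theorem rG_dist (i : ℕ) (hi : i < 7) (j : ℕ) (hj : j < 7) (g : G0)
    (h : g * rG i * g⁻¹ ∈ Subgroup.zpowers (rG j)) : i = j := by
  have key : ∀ {N : ℕ} (ρ : G0 →* Equiv.Perm (Fin N)),
      (ρ (rG i)).support.card = (ρ (rG j)).support.card := by
    intro N ρ
    rcases mem_zpowers_three _ _ (rG_cube j hj) h with h1 | h1 | h1
    · exfalso
      apply rG_ne_one i hi
      have : rG i = g⁻¹ * (g * rG i * g⁻¹) * g := by group
      rw [this, h1]
      group
    · rw [← support_card_conj ρ g (rG i), h1]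
    · rw [← support_card_conj ρ g (rG i), h1, support_card_inv]
  apply mv_inj i hi j hj
  · rw [← mov1_spec i hi, ← mov1_spec j hj]
    exact key rho1
  · rw [← mov2_spec i hi, ← mov2_spec j hj]
    exact key rho2

/-! ### the classes -/

theorem card_G0_factorization : (Nat.card G0).factorization 3 = 9 := by
  rw [card_G0, show 4585351680 = 3 ^ 9 * 232960 from by norm_num,
    Nat.factorization_mul (by norm_num) (by norm_num), Finsupp.add_apply,
    Nat.Prime.factorization_pow Nat.prime_three, Finsupp.single_eq_same,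
    Nat.factorization_eq_zero_of_not_dvd (by norm_num : ¬ 3 ∣ 232960)]

/-- **the seven classes of subgroups of order 3** of the presented group. -/
theorem classes_G0 : ∃ Y : Fin 7 → Subgroup G0, (∀ i, Nat.card (Y i) = 3) ∧
    (∀ i j, (∃ g : G0, (Y i).map (MulAut.conj g).toMonoidHom = Y j) → i = j) ∧
    (∀ X : Subgroup G0, Nat.card X = 3 →
      ∃ i, ∃ g : G0, X.map (MulAut.conj g).toMonoidHom = Y i) := by
  have : Fact (Nat.Prime 3) := ⟨Nat.prime_three⟩
  apply classes_of_sylow 3 SS (by rw [card_SS, card_G0_factorization]; norm_num) 7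
    (fun i => rG i.val) (fun i => rG_order i.val i.isLt)
  · intro i j g h
    exact Fin.ext (rG_dist i.val i.isLt j.val j.isLt g h)
  · intro y hy ho
    obtain ⟨k, hk, rfl, i, hi, g, hg⟩ := claim_of_order y hy ho
    refine ⟨⟨i, hi⟩, g⁻¹, ?_⟩
    rcases hg with hg | hg
    · rw [← hg]
      congr 1
      group
    · rw [← hg, ← Subgroup.zpowers_inv]
      congr 1
      group

end Cfsg.Agent.Helper5.O73C
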