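import Mathlib
import Cfsg.Prelude.Def_Classical
import Cfsg.Agent.Helper5.O73LPD

/-!
# Matrices for the eight generators of `O₇(3)`

Eight explicit `7 × 7` matrices over the integers modulo 3 (each is minus a reflection of the
quadratic form `x₀² + x₁y₁ + x₂y₂ + x₃y₃`), which preserve the form and satisfy the relators of the
sub-presentation on `b, …, i` of the presentation of `Fi₂₂`.
-/

set_option autoImplicit false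

namespace Cfsg.Agent.Helper5.O73

open Cfsg.Agent.Helper5.LP Cfsg.Agent.Helper5.TC Cfsg.Agent.Helper5.TCI
open Cfsg.Agent.Helper5.O73LP (R8)

/-- the field with three elements. -/
abbrev F3 : Type := ZMod 3

/-- the Gram matrix of the polar form of `x₀² + x₁y₁ + x₂y₂ + x₃y₃`. -/
def S : Matrix (Fin 7) (Fin 7) F3 :=
  !![2, 0, 0, 0, 0, 0, 0; 0, 0, 0, 0, 1, 0, 0; 0, 0, 0, 0, 0, 1, 0; 0, 0, 0, 0, 0, 0, 1; 0, 1, 0, 0, 0, 0, 0; 0, 0, 1, 0, 0, 0, 0; 0, 0, 0, 1, 0, 0, 0]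

/-- the image of the generator number 0: minus a reflection. -/
def M0 : Matrix (Fin 7) (Fin 7) F3 :=
  !![2, 0, 0, 0, 0, 0, 0; 0, 2, 0, 0, 0, 0, 0; 0, 0, 2, 2, 0, 2, 1; 0, 0, 0, 0, 0, 1, 2; 0, 0, 0, 0, 2, 0, 0; 0, 0, 0, 0, 0, 2, 0; 0, 0, 0, 2, 0, 2, 0]

/-- the image of the generator number 1: minus a reflection. -/
def M1 : Matrix (Fin 7) (Fin 7) F3 :=
  !![2, 0, 0, 0, 0, 0, 0; 0, 2, 0, 0, 0, 0, 0; 0, 0, 1, 2, 0, 2, 2; 0, 0, 2, 1, 0, 2, 2; 0, 0, 0, 0, 2, 0, 0; 0, 0, 2, 2, 0, 1, 2; 0, 0, 2, 2, 0, 2, 1]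

/-- the image of the generator number 2: minus a reflection. -/
def M2 : Matrix (Fin 7) (Fin 7) F3 :=
  !![0, 0, 0, 2, 0, 1, 2; 0, 2, 0, 0, 0, 0, 0; 2, 0, 2, 1, 0, 2, 1; 1, 0, 0, 1, 0, 1, 2; 0, 0, 0, 0, 2, 0, 0; 0, 0, 0, 0, 0, 2, 0; 1, 0, 0, 2, 0, 1, 1]

/-- the image of the generator number 3: minus a reflection. -/
def M3 : Matrix (Fin 7) (Fin 7) F3 :=
  !![0, 1, 0, 0, 1, 0, 0; 2, 1, 0, 0, 2, 0, 0; 0, 0, 2, 0, 0, 0, 0; 0, 0, 0, 2, 0, 0, 0; 2, 2, 0, 0, 1, 0, 0; 0, 0, 0, 0, 0, 2, 0; 0, 0, 0, 0, 0, 0, 2]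

/-- the image of the generator number 4: minus a reflection. -/
def M4 : Matrix (Fin 7) (Fin 7) F3 :=
  !![0, 0, 0, 2, 1, 2, 2; 2, 2, 0, 1, 2, 1, 1; 1, 0, 2, 2, 1, 2, 2; 1, 0, 0, 1, 1, 2, 2; 0, 0, 0, 0, 2, 0, 0; 0, 0, 0, 0, 0, 2, 0; 1, 0, 0, 2, 1, 2, 1]

/-- the image of the generator number 5: minus a reflection. -/
def M5 : Matrix (Fin 7) (Fin 7) F3 :=
  !![0, 0, 1, 2, 1, 2, 1; 2, 2, 2, 1, 2, 1, 2; 1, 0, 0, 2, 1, 2, 1; 2, 0, 2, 0, 2, 1, 2; 0, 0, 0, 0, 2, 0, 0; 2, 0, 2, 1, 2, 0, 2; 1, 0, 1, 2, 1, 2, 0]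

/-- the image of the generator number 6: minus a reflection. -/
def M6 : Matrix (Fin 7) (Fin 7) F3 :=
  !![0, 0, 0, 1, 0, 1, 1; 0, 2, 0, 0, 0, 0, 0; 2, 0, 2, 2, 0, 2, 2; 2, 0, 0, 1, 0, 2, 2; 0, 0, 0, 0, 2, 0, 0; 0, 0, 0, 0, 0, 2, 0; 2, 0, 0, 2, 0, 2, 1]

/-- the image of the generator number 7: minus a reflection. -/
def M7 : Matrix (Fin 7) (Fin 7) F3 :=
  !![0, 0, 0, 1, 1, 1, 1; 2, 2, 0, 2, 2, 2, 2; 2, 0, 2, 2, 2, 2, 2; 2, 0, 0, 1, 2, 2, 2; 0, 0, 0, 0, 2, 0, 0; 0, 0, 0, 0, 0, 2, 0; 2, 0, 0, 2, 2, 2, 1]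

/-- the matrix of a letter. -/
def MM : ℕ → Matrix (Fin 7) (Fin 7) F3
  | 0 => M0
  | 1 => M1
  | 2 => M2
  | 3 => M3
  | 4 => M4
  | 5 => M5
  | 6 => M6
  | 7 => M7
  | _ => 1

set_option maxRecDepth 100000 in
theorem MM_sq_lt : ∀ c, c < 8 → MM c * MM c = 1 := by decide +kernel

theorem MM_ge (c : ℕ) (hc : 8 ≤ c) : MM c = 1 := by
  match c, hc with
  | c + 8, _ => rfl

theorem MM_sq (c : ℕ) : MM c * MM c = 1 := by
  rcases Nat.lt_or_ge c 8 with h | h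
  · exact MM_sq_lt c h
  · rw [MM_ge c h, mul_one]

set_option maxRecDepth 100000 in
theorem MM_pres_lt : ∀ c, c < 8 → (MM c).transpose * S * MM c = S := by decide +kernel

theorem MM_pres (c : ℕ) : (MM c).transpose * S * MM c = S := by
  rcases Nat.lt_or_ge c 8 with h | h
  · exact MM_pres_lt c h
  · rw [MM_ge c h, Matrix.transpose_one, one_mul, mul_one]

set_option maxRecDepth 100000 in
theorem MM_rels : ∀ l ∈ R8, (l.map MM).prod = 1 := by decide +kernel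

set_option maxRecDepth 100000 in
theorem MM_ne : MM 0 ≠ 1 := by decide +kernel

end Cfsg.Agent.Helper5.O73
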