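import Mathlib
import Cfsg.Prelude.Def_Classical
import Cfsg.Agent.Helper5.O73MatA

/-!
# The homomorphism from the presented `O₇(3)` to the isometry group

The eight matrices of `O73MatA` give a homomorphism from the group presented on `b, …, i` to the
isometry group of `Cfsg.quadFormOdd 3 (ZMod 3)`, which does not kill the first generator.
-/

set_option autoImplicit false

namespace Cfsg.Agent.Helper5.O73

open Cfsg.Agent.Helper5.LP Cfsg.Agent.Helper5.TC Cfsg.Agent.Helper5.TCI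
open Cfsg.Agent.Helper5.O73LP (R8 lettersA)

/-- the index type of the form. -/
abbrev I7 : Type := Unit ⊕ (Fin 3 ⊕ Fin 3)

/-- the numbering of the coordinates: `x₀; x₁, x₂, x₃; y₁, y₂, y₃`. -/
def e7f : Fin 7 → I7
  | 0 => .inl ()
  | 1 => .inr (.inl 0)
  | 2 => .inr (.inl 1)
  | 3 => .inr (.inl 2)
  | 4 => .inr (.inr 0)
  | 5 => .inr (.inr 1)
  | 6 => .inr (.inr 2)

/-- the inverse numbering. -/
def e7g : I7 → Fin 7
  | .inl _ => 0
  | .inr (.inl i) => ⟨i.val + 1, by omega⟩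
  | .inr (.inr i) => ⟨i.val + 4, by omega⟩

/-- the numbering of the coordinates as an equivalence. -/
def e7 : Fin 7 ≃ I7 := ⟨e7f, e7g, by decide, by decide⟩

/-- the quadratic form in numbered coordinates. -/
def Q7 (u : Fin 7 → F3) : F3 := u 0 ^ 2 + u 1 * u 4 + u 2 * u 5 + u 3 * u 6

theorem quadFormOdd_eq (v : I7 → F3) : Cfsg.quadFormOdd 3 F3 v = Q7 (v ∘ e7) := by
  simp only [Cfsg.quadFormOdd, Q7, Fin.sum_univ_three, Function.comp]
  have h0 : e7 0 = .inl () := rfl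
  have h1 : e7 1 = .inr (.inl 0) := rfl
  have h2 : e7 2 = .inr (.inl 1) := rfl
  have h3 : e7 3 = .inr (.inl 2) := rfl
  have h4 : e7 4 = .inr (.inr 0) := rfl
  have h5 : e7 5 = .inr (.inr 1) := rfl
  have h6 : e7 6 = .inr (.inr 2) := rfl
  rw [h0, h1, h2, h3, h4, h5, h6]
  ring

theorem Q7_eq (u : Fin 7 → F3) : Q7 u = 2 * (u ⬝ᵥ S.mulVec u) := by
  have h3 : (3 : F3) = 0 := by decide
  simp [Q7, S, Matrix.mulVec, dotProduct, Fin.sum_univ_succ]
  linear_combination (-(u 0 ^ 2 + u 1 * u 4 + u 2 * u 5 + u 3 * u 6)) * h3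

theorem form_mulVec (M : Matrix (Fin 7) (Fin 7) F3) (u : Fin 7 → F3) :
    M.mulVec u ⬝ᵥ S.mulVec (M.mulVec u) = u ⬝ᵥ (M.transpose * S * M).mulVec u := by
  rw [← Matrix.mulVec_mulVec, ← Matrix.mulVec_mulVec, Matrix.mulVec_transpose,
    dotProduct_comm u, ← Matrix.dotProduct_mulVec, dotProduct_comm]

theorem Q7_mulVec (c : ℕ) (u : Fin 7 → F3) : Q7 ((MM c).mulVec u) = Q7 u := by
  rw [Q7_eq, Q7_eq, form_mulVec, MM_pres]

/-- the matrices as units. -/
def UU (c : ℕ) : (Matrix (Fin 7) (Fin 7) F3)ˣ := ⟨MM c, MM c, MM_sq c, MM_sq c⟩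

theorem UU_rels : ∀ l ∈ R8, (l.map UU).prod = 1 := by
  intro l hl
  apply Units.ext
  rw [Units.val_one, ← Units.coeHom_apply, map_list_prod, List.map_map]
  exact MM_rels l hl

/-- transport of invertible matrices along the numbering of the coordinates. -/
def reGL : (Matrix (Fin 7) (Fin 7) F3)ˣ ≃* Matrix.GeneralLinearGroup I7 F3 :=
  Units.mapEquiv (Matrix.reindexAlgEquiv F3 F3 e7).toMulEquiv

theorem reGL_val (g : (Matrix (Fin 7) (Fin 7) F3)ˣ) :
    ((reGL g : Matrix.GeneralLinearGroup I7 F3) : Matrix I7 I7 F3)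
      = (g : Matrix (Fin 7) (Fin 7) F3).submatrix e7.symm e7.symm := rfl

theorem reGL_mulVec (g : (Matrix (Fin 7) (Fin 7) F3)ˣ) (v : I7 → F3) :
    ((reGL g : Matrix.GeneralLinearGroup I7 F3) : Matrix I7 I7 F3).mulVec v
      = ((g : Matrix (Fin 7) (Fin 7) F3).mulVec (v ∘ e7)) ∘ e7.symm := by
  rw [reGL_val, Matrix.submatrix_mulVec_equiv]
  rfl

theorem reGL_UU_mem (c : ℕ) : reGL (UU c) ∈ Cfsg.isometryGroup F3 (Cfsg.quadFormOdd 3 F3) := by
  intro u _
  show Cfsg.quadFormOdd 3 F3 (((reGL (UU c) : Matrix.GeneralLinearGroup I7 F3) :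
    Matrix I7 I7 F3).mulVec u) = Cfsg.quadFormOdd 3 F3 u
  rw [reGL_mulVec, quadFormOdd_eq, quadFormOdd_eq]
  have h : (((UU c : (Matrix (Fin 7) (Fin 7) F3)ˣ) : Matrix (Fin 7) (Fin 7) F3).mulVec (u ∘ e7)
      ∘ e7.symm) ∘ e7 = (MM c).mulVec (u ∘ e7) := by
    funext i
    simp only [Function.comp, Equiv.symm_apply_apply]
    rfl
  rw [h, Q7_mulVec]

/-- the homomorphism to the general linear group. -/
def phi0 : LPG 8 R8 →* Matrix.GeneralLinearGroup I7 F3 :=
  reGL.toMonoidHom.comp (lift UU lettersA UU_rels)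

theorem phi0_ev (c : ℕ) (hc : c < 8) : phi0 (ev 8 R8 [c]) = reGL (UU c) := by
  show reGL (lift UU lettersA UU_rels (ev 8 R8 [c])) = _
  rw [lift_ev UU lettersA UU_rels [c] (by simpa using hc)]
  simp

theorem phi0_mem (x : LPG 8 R8) : phi0 x ∈ Cfsg.isometryGroup F3 (Cfsg.quadFormOdd 3 F3) := by
  have h : (⊤ : Subgroup (LPG 8 R8))
      ≤ (Cfsg.isometryGroup F3 (Cfsg.quadFormOdd 3 F3)).comap phi0 := by
    rw [← closure_gens, Subgroup.closure_le]
    rintro _ ⟨c, hc, rfl⟩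
    show phi0 (ev 8 R8 [c]) ∈ Cfsg.isometryGroup F3 (Cfsg.quadFormOdd 3 F3)
    rw [phi0_ev c hc]
    exact reGL_UU_mem c
  exact h (Subgroup.mem_top x)

/-- the homomorphism to the isometry group. -/
def phi : LPG 8 R8 →* Cfsg.isometryGroup F3 (Cfsg.quadFormOdd 3 F3) :=
  phi0.codRestrict _ phi0_mem

theorem phi_ne : phi (ev 8 R8 [0]) ≠ 1 := by
  intro h
  have h1 : phi0 (ev 8 R8 [0]) = 1 := congrArg Subtype.val h
  rw [phi0_ev 0 (by norm_num)] at h1
  have h2 : UU 0 = 1 := by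
    apply reGL.injective
    rw [h1, map_one]
  exact MM_ne (congrArg Units.val h2)

end Cfsg.Agent.Helper5.O73
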