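import Mathlib
import Cfsg.Prelude.Def_Spor_Fi22
import Cfsg.Prelude.Def_Classical
import Cfsg.Agent.Helper5.O73MatB
import Cfsg.Agent.Helper5.Fi22vIso
import Cfsg.Agent.Helper5.LPL
import Cfsg.Agent.Helper5.LPM
import Cfsg.Agent.S0292

/-!
# The subgroup `⟨b, …, i⟩` of the presented `Fi₂₂` is `PΩ₇(3)`

The group presented on `b, …, i` is simple of order 4585351680 (`O73LPD`), it maps to the isometry
group of `x₀² + x₁y₁ + x₂y₂ + x₃y₃` over the integers modulo 3 (`O73MatB`), hence to `PΩ₇(3)`, and
the orders agree.  By the index of the parabolic subgroup of `Fi₂₂` the presented group embeds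
into the presented `Fi₂₂`.
-/

set_option autoImplicit false

namespace Cfsg.Agent.Helper5.O73

open Cfsg.Agent.Helper5.LP Cfsg.Agent.Helper5.TC Cfsg.Agent.Helper5.TCI Cfsg.Spor
open Cfsg.Agent.Helper5.O73LP (R8 lettersA)
open scoped commutatorElement

/-- a simple group whose order is not a prime is perfect. -/
theorem commutator_eq_top_of_simple {G : Type*} [Group G] [IsSimpleGroup G]
    (hnp : ¬ (Nat.card G).Prime) : commutator G = ⊤ := by
  rcases (inferInstance : (commutator G).Normal).eq_bot_or_eq_top with h | h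
  · exfalso
    have hc : ∀ a b : G, a * b = b * a := by
      intro a b
      have h1 : ⁅a, b⁆ ∈ commutator G := by
        rw [commutator_def]
        exact Subgroup.commutator_mem_commutator (Subgroup.mem_top a) (Subgroup.mem_top b)
      rw [h, Subgroup.mem_bot, commutatorElement_eq_one_iff_mul_comm] at h1
      exact h1
    let _ : CommGroup G := { (inferInstance : Group G) with mul_comm := hc }
    exact hnp IsSimpleGroup.prime_card
  · exact h

theorem not_prime_card : ¬ (Nat.card (LPG 8 R8)).Prime := by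
  rw [O73LP.simple_card.2]
  norm_num

theorem phi_injective : Function.Injective phi := by
  have := O73LP.simple_card.1
  rw [← MonoidHom.ker_eq_bot_iff]
  rcases (inferInstance : (phi.ker).Normal).eq_bot_or_eq_top with h | h
  · exact h
  · exfalso
    apply phi_ne
    have : ev 8 R8 [0] ∈ phi.ker := by rw [h]; exact Subgroup.mem_top _
    exact this

theorem phi_mem_omega (x : LPG 8 R8) : phi x ∈ Cfsg.Omega F3 (Cfsg.quadFormOdd 3 F3) := by
  have := O73LP.simple_card.1
  have hx : x ∈ commutator (LPG 8 R8) := by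
    rw [commutator_eq_top_of_simple not_prime_card]; exact Subgroup.mem_top x
  have h1 : (commutator (LPG 8 R8)).map phi ≤ Cfsg.Omega F3 (Cfsg.quadFormOdd 3 F3) := by
    rw [commutator_def, Subgroup.map_commutator]
    show _ ≤ commutator _
    rw [commutator_def]
    exact Subgroup.commutator_mono le_top le_top
  exact h1 (Subgroup.mem_map_of_mem phi hx)

/-- the homomorphism to `Ω₇(3)`. -/
def phiO : LPG 8 R8 →* Cfsg.Omega F3 (Cfsg.quadFormOdd 3 F3) :=
  phi.codRestrict _ phi_mem_omega

theorem phiO_injective : Function.Injective phiO := by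
  intro x y h
  exact phi_injective (congrArg Subtype.val h)

/-- the homomorphism to `PΩ₇(3)`. -/
def psi : LPG 8 R8 →* Cfsg.POmega F3 (Cfsg.quadFormOdd 3 F3) :=
  (QuotientGroup.mk' _).comp phiO

theorem psi_injective : Function.Injective psi := by
  have := O73LP.simple_card.1
  rw [← MonoidHom.ker_eq_bot_iff]
  rcases (inferInstance : (psi.ker).Normal).eq_bot_or_eq_top with h | h
  · exact h
  · exfalso
    have hcen : ∀ x : LPG 8 R8,
        phiO x ∈ Subgroup.center (Cfsg.Omega F3 (Cfsg.quadFormOdd 3 F3)) := by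
      intro x
      have hx : x ∈ psi.ker := by rw [h]; exact Subgroup.mem_top x
      have h2 : (QuotientGroup.mk' (Subgroup.center (Cfsg.Omega F3 (Cfsg.quadFormOdd 3 F3))))
          (phiO x) = 1 := hx
      rwa [QuotientGroup.mk'_apply, QuotientGroup.eq_one_iff] at h2
    have hc : ∀ a b : LPG 8 R8, a * b = b * a := by
      intro a b
      apply phiO_injective
      rw [map_mul, map_mul]
      exact ((Subgroup.mem_center_iff.mp (hcen a)) (phiO b)).symm
    let _ : CommGroup (LPG 8 R8) := { (inferInstance : Group (LPG 8 R8)) with mul_comm := hc }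
    exact not_prime_card IsSimpleGroup.prime_card

theorem card_pomega : Nat.card (Cfsg.POmega F3 (Cfsg.quadFormOdd 3 F3)) = 4585351680 := by
  have h := Cfsg.Agent.S0292.result (F := F3) (q := 3) (by simp [F3]) (by decide) 3 le_rfl
  have h2 : (3 : ℕ) ^ (3 ^ 2) * ∏ i ∈ Finset.range 3, (3 ^ (2 * (i + 1)) - 1)
      = 2 * 4585351680 := by
    simp [Finset.prod_range_succ]
  rw [h2] at h
  exact Nat.eq_of_mul_eq_mul_left (by norm_num) h

/-- **The group presented on `b, …, i` is `PΩ₇(3)`.** -/
noncomputable def lpEquiv : LPG 8 R8 ≃* Cfsg.POmega F3 (Cfsg.quadFormOdd 3 F3) :=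
  MulEquiv.ofBijective psi (psi_injective.bijective_of_nat_card_le (by
    rw [card_pomega, O73LP.simple_card.2]))

/-! ### transfer to the subgroup of the presented `Fi₂₂` -/

open Cfsg.Agent.Helper5.Fi22vLP (R9)

theorem sub8 : ∀ l ∈ R8, l ∈ R9 := by decide +kernel

/-- the homomorphism from the sub-presentation on `b, …, i`. -/
noncomputable def sigma : LPG 8 R8 →* LPG 9 R9 := subHom 9 R9 lettersA sub8

theorem card_para : Nat.card (para 9 R9 8) = 4585351680 := by
  have h := Subgroup.card_mul_index (para 9 R9 8)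
  rw [Fi22vLP.idxA, Fi22vLP.simple_card.2] at h
  exact Nat.eq_of_mul_eq_mul_right (by norm_num : 0 < 14080) (h.trans (by norm_num))

theorem sigma_inj : Function.Injective sigma := by
  have := O73LP.ubB.1
  exact subHom_injective lettersA sub8
    (by rw [card_para, O73LP.simple_card.2])

/-- the subgroup of `Fi22` generated by the images of `b, …, i`. -/
def Hs : Subgroup Fi22 :=
  (Subgroup.closure ({Fi22.b, Fi22.c, Fi22.d, Fi22.e, Fi22.f, Fi22.g, Fi22.h,
    Fi22.i} : Set (FreeGroup Fi22.Gen))).map
    (PresentedGroup.mk (coxRelators Fi22.edges ∪ {r | r ∈ Fi22.extra}))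

theorem of_mem_Hs (c : ℕ) (hc : c < 8) :
    (PresentedGroup.of (Fi22vLP.gen c) : Fi22) ∈ Hs := by
  refine ⟨FreeGroup.of (Fi22vLP.gen c), Subgroup.subset_closure ?_, rfl⟩
  interval_cases c <;> simp [Fi22vLP.gen]

theorem hs_transfer : ∃ f : LPG 8 R8 →* Fi22, Function.Injective f ∧ f.range = Hs := by
  obtain ⟨e, he⟩ := cox_equiv_spec Fi22.edges Fi22.extra 9 R9 Fi22vLP.idx Fi22vLP.gen
    (by intro x; cases x <;> rfl)
    (by intro x; cases x <;> decide) (by intro c hc; interval_cases c <;> rfl)
    (by intro x; cases x <;> decide) Fi22vLP.lettersA (by decide +kernel) (by decide +kernel)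
    (by decide +kernel) (by decide +kernel)
  have hes : ∀ x : Fi22.Gen, e.symm (ev 9 R9 [Fi22vLP.idx x]) = PresentedGroup.of x := by
    intro x
    rw [← he x, e.symm_apply_apply]
  have hf : ∀ c, c < 8 → (e.symm.toMonoidHom.comp sigma) (ev 8 R8 [c]) =
      PresentedGroup.of (Fi22vLP.gen c) := by
    intro c hc
    show e.symm (subHom 9 R9 lettersA sub8 (ev 8 R8 [c])) = _
    rw [subHom_ev lettersA sub8 [c] (by simpa using hc), ← hes (Fi22vLP.gen c)]
    have : Fi22vLP.idx (Fi22vLP.gen c) = c := by interval_cases c <;> rfl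
    rw [this]
  have hmem : ∀ x : Fi22.Gen, Fi22vLP.idx x < 8 →
      (PresentedGroup.of x : Fi22) ∈ (e.symm.toMonoidHom.comp sigma).range := by
    intro x hx
    refine ⟨ev 8 R8 [Fi22vLP.idx x], ?_⟩
    rw [hf _ hx]
    congr 1
    cases x <;> rfl
  refine ⟨e.symm.toMonoidHom.comp sigma, ?_, ?_⟩
  · exact e.symm.injective.comp sigma_inj
  · apply le_antisymm
    · rw [MonoidHom.range_eq_map, ← closure_gens (k := 8) (R := R8), MonoidHom.map_closure,
        Subgroup.closure_le]
      rintro _ ⟨_, ⟨c, hc, rfl⟩, rfl⟩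
      rw [hf c hc]
      exact of_mem_Hs c hc
    · unfold Hs
      rw [Subgroup.map_le_iff_le_comap, Subgroup.closure_le]
      intro w hw
      simp only [Set.mem_insert_iff, Set.mem_singleton_iff] at hw
      rcases hw with rfl | rfl | rfl | rfl | rfl | rfl | rfl | rfl
      · exact hmem .b (by decide)
      · exact hmem .c (by decide)
      · exact hmem .d (by decide)
      · exact hmem .e (by decide)
      · exact hmem .f (by decide)
      · exact hmem .g (by decide)
      · exact hmem .h (by decide)
      · exact hmem .i (by decide)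

/-- **The subgroup `⟨b, …, i⟩` of `Fi22` is `PΩ₇(3)`.** -/
theorem hs_equiv : Nonempty (Hs ≃* Cfsg.POmega F3 (Cfsg.quadFormOdd 3 F3)) := by
  obtain ⟨f, hinj, hr⟩ := hs_transfer
  have e1 : LPG 8 R8 ≃* f.range := MonoidHom.ofInjective hinj
  have e2 : f.range ≃* Hs := MulEquiv.subgroupCongr hr
  exact ⟨(e1.trans e2).symm.trans lpEquiv⟩

end Cfsg.Agent.Helper5.O73
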