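import Mathlib
import Cfsg.Prelude.Def_Spor_ON
import Cfsg.Prelude.Def_Sporadic
import Cfsg.Agent.Helper5.LPJ
import Cfsg.Agent.Helper5.ONLPD

/-!
# The presented group ON is simple of order 460815505920
-/

set_option autoImplicit false

namespace Cfsg.Agent.Helper5.ONLP

open Cfsg.Agent.Helper5.LP Cfsg.Spor

/-- numbering of the generators. -/
def idx : ON.Gen → ℕ
  | .a => 0
  | .b => 1
  | .c => 2
  | .d => 3
  | .f => 4
  | .e => 5
  | .g => 6

/-- the generator (or its inverse) with a given number. -/
def gen : ℕ → ON.Gen × Bool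
  | 0 => (.a, true)
  | 1 => (.b, true)
  | 2 => (.c, true)
  | 3 => (.d, true)
  | 4 => (.f, true)
  | 5 => (.e, true)
  | 6 => (.g, true)
  | _ => (.g, false)

theorem spor_equiv : Nonempty (ON ≃* LPG 8 R8) :=
  cox_equivI ON.edges ON.extra 8 R8 iot idx gen iot_iot iot_lt (by intro x; cases x <;> rfl)
    (by intro x; cases x <;> decide) (by intro x; cases x <;> decide)
    (by intro c hc; interval_cases c <;> rfl) lettersA (by decide +kernel) (by decide +kernel)
    (by decide +kernel) (by decide +kernel)

/-- **The presented group is simple of order 460815505920.** -/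
theorem spor_is : Cfsg.IsON ON :=
  cox_simple_card ON.edges ON.extra 8 R8 spor_equiv simple_card

end Cfsg.Agent.Helper5.ONLP
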