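import Cfsg.Agent.Helper5.ONXATCDatD
import Cfsg.Agent.Helper5.TCIB

/-! kernel checks of edges, aliases, rows: ONXATC -/

set_option autoImplicit false
set_option Elab.async false

namespace Cfsg.Agent.Helper5.ONXATC
open Cfsg.Agent.Helper5.TC Cfsg.Agent.Helper5.TCI

set_option maxRecDepth 1000000 in
theorem cnt_1 : cntFrom RS 20000 20000 0 = 11856 := by decide +kernel

set_option maxRecDepth 1000000 in
theorem cnt_9 : cntFrom RS 20000 180000 0 = 19315 := by decide +kernel

set_option maxRecDepth 1000000 in
theorem edges_6_23 : edgesRangeI iota E 6 2884 63262 = true := by decide +kernel

set_option maxRecDepth 1000000 in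
theorem edges_2_75 : edgesRangeI iota E 2 1465 188695 = true := by decide +kernel

set_option maxRecDepth 1000000 in
theorem edges_6_64 : edgesRangeI iota E 6 2331 159437 = true := by decide +kernel

set_option maxRecDepth 1000000 in
theorem aliases_38 : aliasRange E 2572 111586 = true := by decide +kernel

set_option maxRecDepth 1000000 in
theorem edges_6_22 : edgesRangeI iota E 6 3203 60059 = true := by decide +kernel

set_option maxRecDepth 1000000 in
theorem edges_6_63 : edgesRangeI iota E 6 2462 156975 = true := by decide +kernel

set_option maxRecDepth 1000000 in
theorem edges_7_73 : edgesRangeI iota E 7 1613 186024 = true := by decide +kernel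

set_option maxRecDepth 1000000 in
theorem edges_5_43 : edgesRangeI iota E 5 3415 156249 = true := by decide +kernel

set_option maxRecDepth 1000000 in
theorem edges_6_88 : edgesRangeI iota E 6 1040 197458 = true := by decide +kernel

set_option maxRecDepth 1000000 in
theorem edges_2_91 : edgesRangeI iota E 2 1122 210006 = true := by decide +kernel

set_option maxRecDepth 1000000 in
theorem edges_2_7 : edgesRangeI iota E 2 3003 20403 = true := by decide +kernel

set_option maxRecDepth 1000000 in
theorem edges_3_82 : edgesRangeI iota E 3 1136 210682 = true := by decide +kernel

set_option maxRecDepth 1000000 in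
theorem edges_1_65 : edgesRangeI iota E 1 1733 185153 = true := by decide +kernel

set_option maxRecDepth 1000000 in
theorem edges_3_28 : edgesRangeI iota E 3 2942 92806 = true := by decide +kernel

set_option maxRecDepth 1000000 in
theorem edges_6_25 : edgesRangeI iota E 6 2983 68481 = true := by decide +kernel

set_option maxRecDepth 1000000 in
theorem edges_0_64 : edgesRangeI iota E 0 2800 159315 = true := by decide +kernel

set_option maxRecDepth 1000000 in
theorem edges_1_43 : edgesRangeI iota E 1 2756 128290 = true := by decide +kernel

set_option maxRecDepth 1000000 in
theorem edges_3_61 : edgesRangeI iota E 3 1611 180038 = true := by decide +kernel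

set_option maxRecDepth 1000000 in
theorem edges_4_63 : edgesRangeI iota E 4 2016 180680 = true := by decide +kernel

set_option maxRecDepth 1000000 in
theorem edges_5_65 : edgesRangeI iota E 5 1624 206167 = true := by decide +kernel

set_option maxRecDepth 1000000 in
theorem edges_6_77 : edgesRangeI iota E 6 1249 184590 = true := by decide +kernel

set_option maxRecDepth 1000000 in
theorem edges_7_64 : edgesRangeI iota E 7 2614 167034 = true := by decide +kernel

set_option maxRecDepth 1000000 in
theorem edges_0_51 : edgesRangeI iota E 0 2496 125978 = true := by decide +kernel

set_option maxRecDepth 1000000 in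
theorem edges_1_48 : edgesRangeI iota E 1 2772 141504 = true := by decide +kernel

set_option maxRecDepth 1000000 in
theorem edges_2_79 : edgesRangeI iota E 2 1371 194591 = true := by decide +kernel

set_option maxRecDepth 1000000 in
theorem edges_4_1 : edgesRangeI iota E 4 2935 2929 = true := by decide +kernel

set_option maxRecDepth 1000000 in
theorem edges_4_72 : edgesRangeI iota E 4 1809 197455 = true := by decide +kernel

set_option maxRecDepth 1000000 in
theorem edges_7_37 : edgesRangeI iota E 7 2407 99854 = true := by decide +kernel

set_option maxRecDepth 1000000 in
theorem aliases_22 : aliasRange E 2421 69700 = true := by decide +kernel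

set_option maxRecDepth 1000000 in
theorem edges_0_21 : edgesRangeI iota E 0 2194 51853 = true := by decide +kernel

set_option maxRecDepth 1000000 in
theorem edges_1_7 : edgesRangeI iota E 1 3267 20969 = true := by decide +kernel

set_option maxRecDepth 1000000 in
theorem edges_3_44 : edgesRangeI iota E 3 2629 135278 = true := by decide +kernel

set_option maxRecDepth 1000000 in
theorem edges_4_55 : edgesRangeI iota E 4 3281 157826 = true := by decide +kernel

set_option maxRecDepth 1000000 in
theorem edges_6_92 : edgesRangeI iota E 6 1020 201690 = true := by decide +kernel

set_option maxRecDepth 1000000 in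
theorem aliases_21 : aliasRange E 2947 66753 = true := by decide +kernel

set_option maxRecDepth 1000000 in
theorem aliases_50 : aliasRange E 2178 141459 = true := by decide +kernel

set_option maxRecDepth 1000000 in
theorem edges_0_24 : edgesRangeI iota E 0 2657 58960 = true := by decide +kernel

set_option maxRecDepth 1000000 in
theorem edges_0_84 : edgesRangeI iota E 0 1709 201200 = true := by decide +kernel

set_option maxRecDepth 1000000 in
theorem edges_2_1 : edgesRangeI iota E 2 2992 2843 = true := by decide +kernel

set_option maxRecDepth 1000000 in
theorem edges_2_55 : edgesRangeI iota E 2 2249 145015 = true := by decide +kernel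

set_option maxRecDepth 1000000 in
theorem edges_3_18 : edgesRangeI iota E 3 3797 59189 = true := by decide +kernel

set_option maxRecDepth 1000000 in
theorem edges_4_27 : edgesRangeI iota E 4 3072 79483 = true := by decide +kernel

set_option maxRecDepth 1000000 in
theorem edges_4_59 : edgesRangeI iota E 4 2863 170074 = true := by decide +kernel

set_option maxRecDepth 1000000 in
theorem edges_4_77 : edgesRangeI iota E 4 1723 206123 = true := by decide +kernel

set_option maxRecDepth 1000000 in
theorem edges_5_64 : edgesRangeI iota E 5 1710 204457 = true := by decide +kernel

set_option maxRecDepth 1000000 in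
theorem edges_6_44 : edgesRangeI iota E 6 2223 114969 = true := by decide +kernel

set_option maxRecDepth 1000000 in
theorem edges_7_11 : edgesRangeI iota E 7 2749 30150 = true := by decide +kernel

set_option maxRecDepth 1000000 in
theorem edges_7_51 : edgesRangeI iota E 7 2420 133767 = true := by decide +kernel

set_option maxRecDepth 1000000 in
theorem aliases_54 : aliasRange E 2011 150512 = true := by decide +kernel

set_option maxRecDepth 1000000 in
theorem edges_0_4 : edgesRangeI iota E 0 2375 10118 = true := by decide +kernel

set_option maxRecDepth 1000000 in
theorem edges_0_47 : edgesRangeI iota E 0 2478 116219 = true := by decide +kernel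

set_option maxRecDepth 1000000 in
theorem edges_0_81 : edgesRangeI iota E 0 1771 195941 = true := by decide +kernel

set_option maxRecDepth 1000000 in
theorem edges_1_11 : edgesRangeI iota E 1 3040 33062 = true := by decide +kernel

set_option maxRecDepth 1000000 in
theorem edges_1_72 : edgesRangeI iota E 1 1500 196841 = true := by decide +kernel

set_option maxRecDepth 1000000 in
theorem edges_2_35 : edgesRangeI iota E 2 2291 97571 = true := by decide +kernel

set_option maxRecDepth 1000000 in
theorem edges_2_82 : edgesRangeI iota E 2 1315 198670 = true := by decide +kernel

set_option maxRecDepth 1000000 in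
theorem edges_3_43 : edgesRangeI iota E 3 2568 132710 = true := by decide +kernel

set_option maxRecDepth 1000000 in
theorem edges_4_3 : edgesRangeI iota E 4 2793 8977 = true := by decide +kernel

set_option maxRecDepth 1000000 in
theorem edges_4_79 : edgesRangeI iota E 4 1651 209512 = true := by decide +kernel

set_option maxRecDepth 1000000 in
theorem edges_6_2 : edgesRangeI iota E 6 2947 5941 = true := by decide +kernel

set_option maxRecDepth 1000000 in
theorem edges_6_50 : edgesRangeI iota E 6 2424 128131 = true := by decide +kernel

set_option maxRecDepth 1000000 in
theorem edges_7_40 : edgesRangeI iota E 7 2351 106831 = true := by decide +kernel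

set_option maxRecDepth 1000000 in
theorem edges_7_89 : edgesRangeI iota E 7 1327 210066 = true := by decide +kernel

set_option maxRecDepth 1000000 in
theorem aliases_27 : aliasRange E 2483 81942 = true := by decide +kernel

set_option maxRecDepth 1000000 in
theorem edges_0_25 : edgesRangeI iota E 0 2670 61617 = true := by decide +kernel

set_option maxRecDepth 1000000 in
theorem edges_0_37 : edgesRangeI iota E 0 2573 92599 = true := by decide +kernel

set_option maxRecDepth 1000000 in
theorem edges_0_56 : edgesRangeI iota E 0 2377 138516 = true := by decide +kernel

set_option maxRecDepth 1000000 in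
theorem edges_0_85 : edgesRangeI iota E 0 1709 202909 = true := by decide +kernel

set_option maxRecDepth 1000000 in
theorem edges_1_18 : edgesRangeI iota E 1 3280 54591 = true := by decide +kernel

set_option maxRecDepth 1000000 in
theorem edges_1_38 : edgesRangeI iota E 1 2716 114908 = true := by decide +kernel

set_option maxRecDepth 1000000 in
theorem edges_1_59 : edgesRangeI iota E 1 2565 172674 = true := by decide +kernel

set_option maxRecDepth 1000000 in
theorem edges_1_79 : edgesRangeI iota E 1 1429 207488 = true := by decide +kernel

set_option maxRecDepth 1000000 in
theorem edges_2_21 : edgesRangeI iota E 2 3139 58735 = true := by decide +kernel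

set_option maxRecDepth 1000000 in
theorem edges_2_40 : edgesRangeI iota E 2 2540 109179 = true := by decide +kernel

set_option maxRecDepth 1000000 in
theorem edges_2_66 : edgesRangeI iota E 2 2505 172348 = true := by decide +kernel

set_option maxRecDepth 1000000 in
theorem edges_3_2 : edgesRangeI iota E 3 3535 7088 = true := by decide +kernel

set_option maxRecDepth 1000000 in
theorem edges_3_22 : edgesRangeI iota E 3 3075 72895 = true := by decide +kernel

set_option maxRecDepth 1000000 in
theorem edges_3_40 : edgesRangeI iota E 3 2809 124527 = true := by decide +kernel

set_option maxRecDepth 1000000 in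
theorem edges_3_56 : edgesRangeI iota E 3 2596 168056 = true := by decide +kernel

set_option maxRecDepth 1000000 in
theorem edges_4_10 : edgesRangeI iota E 4 3057 29027 = true := by decide +kernel

set_option maxRecDepth 1000000 in
theorem edges_4_28 : edgesRangeI iota E 4 2891 82555 = true := by decide +kernel

set_option maxRecDepth 1000000 in
theorem edges_4_69 : edgesRangeI iota E 4 1872 192004 = true := by decide +kernel

set_option maxRecDepth 1000000 in
theorem edges_5_6 : edgesRangeI iota E 5 3852 24340 = true := by decide +kernel

set_option maxRecDepth 1000000 in
theorem edges_5_17 : edgesRangeI iota E 5 4129 68832 = true := by decide +kernel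

set_option maxRecDepth 1000000 in
theorem edges_5_29 : edgesRangeI iota E 5 3297 112843 = true := by decide +kernel

set_option maxRecDepth 1000000 in
theorem edges_5_45 : edgesRangeI iota E 5 3056 163127 = true := by decide +kernel

set_option maxRecDepth 1000000 in
theorem edges_5_63 : edgesRangeI iota E 5 1623 202834 = true := by decide +kernel

set_option maxRecDepth 1000000 in
theorem edges_6_21 : edgesRangeI iota E 6 2623 57436 = true := by decide +kernel

set_option maxRecDepth 1000000 in
theorem edges_6_68 : edgesRangeI iota E 6 2260 168950 = true := by decide +kernel

set_option maxRecDepth 1000000 in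
theorem edges_7_2 : edgesRangeI iota E 7 2806 5837 = true := by decide +kernel

set_option maxRecDepth 1000000 in
theorem edges_7_18 : edgesRangeI iota E 7 2709 48828 = true := by decide +kernel

set_option maxRecDepth 1000000 in
theorem edges_7_48 : edgesRangeI iota E 7 2418 126291 = true := by decide +kernel

set_option maxRecDepth 1000000 in
theorem edges_7_83 : edgesRangeI iota E 7 1455 201459 = true := by decide +kernel

set_option maxRecDepth 1000000 in
theorem aliases_14 : aliasRange E 3094 45045 = true := by decide +kernel

set_option maxRecDepth 1000000 in
theorem aliases_34 : aliasRange E 2732 100902 = true := by decide +kernel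

set_option maxRecDepth 1000000 in
theorem aliases_57 : aliasRange E 2018 156521 = true := by decide +kernel

set_option maxRecDepth 1000000 in
theorem rows_0 : rowsRange E RS 1500 0 = true := by decide +kernel

set_option maxRecDepth 1000000 in
theorem rows_4 : rowsRange E RS 1500 6000 = true := by decide +kernel

set_option maxRecDepth 1000000 in
theorem rows_12 : rowsRange E RS 1500 18000 = true := by decide +kernel

set_option maxRecDepth 1000000 in
theorem rows_20 : rowsRange E RS 1500 30000 = true := by decide +kernel

set_option maxRecDepth 1000000 in
theorem rows_28 : rowsRange E RS 1500 42000 = true := by decide +kernel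

set_option maxRecDepth 1000000 in
theorem rows_36 : rowsRange E RS 1500 54000 = true := by decide +kernel

set_option maxRecDepth 1000000 in
theorem rows_44 : rowsRange E RS 1500 66000 = true := by decide +kernel

set_option maxRecDepth 1000000 in
theorem rows_52 : rowsRange E RS 1500 78000 = true := by decide +kernel

set_option maxRecDepth 1000000 in
theorem rows_60 : rowsRange E RS 1500 90000 = true := by decide +kernel

set_option maxRecDepth 1000000 in
theorem rows_68 : rowsRange E RS 1500 102000 = true := by decide +kernel

set_option maxRecDepth 1000000 in
theorem rows_76 : rowsRange E RS 1500 114000 = true := by decide +kernel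

set_option maxRecDepth 1000000 in
theorem rows_84 : rowsRange E RS 1500 126000 = true := by decide +kernel

set_option maxRecDepth 1000000 in
theorem rows_92 : rowsRange E RS 1500 138000 = true := by decide +kernel

set_option maxRecDepth 1000000 in
theorem rows_100 : rowsRange E RS 1500 150000 = true := by decide +kernel

set_option maxRecDepth 1000000 in
theorem rows_108 : rowsRange E RS 1500 162000 = true := by decide +kernel

set_option maxRecDepth 1000000 in
theorem rows_116 : rowsRange E RS 1500 174000 = true := by decide +kernel

set_option maxRecDepth 1000000 in
theorem rows_124 : rowsRange E RS 1500 186000 = true := by decide +kernel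

set_option maxRecDepth 1000000 in
theorem rows_132 : rowsRange E RS 1500 198000 = true := by decide +kernel

set_option maxRecDepth 1000000 in
theorem rows_140 : rowsRange E RS 1500 210000 = true := by decide +kernel

set_option maxRecDepth 1000000 in
theorem edges_0_92 : edgesRangeI iota E 0 151 214584 = true := by decide +kernel

end Cfsg.Agent.Helper5.ONXATC
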