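import Cfsg.Agent.Helper5.ONXATCDatD
import Cfsg.Agent.Helper5.TCIB

/-! kernel checks of edges, aliases, rows: ONXATC -/

set_option autoImplicit false
set_option Elab.async false

namespace Cfsg.Agent.Helper5.ONXATC
open Cfsg.Agent.Helper5.TC Cfsg.Agent.Helper5.TCI

set_option maxRecDepth 1000000 in
theorem cnt_2 : cntFrom RS 20000 40000 0 = 11216 := by decide +kernel

set_option maxRecDepth 1000000 in
theorem edges_3_37 : edgesRangeI iota E 3 2528 116620 = true := by decide +kernel

set_option maxRecDepth 1000000 in
theorem edges_5_7 : edgesRangeI iota E 5 4084 28192 = true := by decide +kernel

set_option maxRecDepth 1000000 in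
theorem edges_6_82 : edgesRangeI iota E 6 1167 190651 = true := by decide +kernel

set_option maxRecDepth 1000000 in
theorem edges_5_59 : edgesRangeI iota E 5 1690 195978 = true := by decide +kernel

set_option maxRecDepth 1000000 in
theorem edges_7_82 : edgesRangeI iota E 7 1460 199999 = true := by decide +kernel

set_option maxRecDepth 1000000 in
theorem edges_3_9 : edgesRangeI iota E 3 3354 30200 = true := by decide +kernel

set_option maxRecDepth 1000000 in
theorem edges_6_53 : edgesRangeI iota E 6 2116 135031 = true := by decide +kernel

set_option maxRecDepth 1000000 in
theorem edges_7_66 : edgesRangeI iota E 7 2549 172244 = true := by decide +kernel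

set_option maxRecDepth 1000000 in
theorem edges_3_14 : edgesRangeI iota E 3 2952 46710 = true := by decide +kernel

set_option maxRecDepth 1000000 in
theorem edges_6_78 : edgesRangeI iota E 6 1228 185839 = true := by decide +kernel

set_option maxRecDepth 1000000 in
theorem edges_2_6 : edgesRangeI iota E 2 2793 17610 = true := by decide +kernel

set_option maxRecDepth 1000000 in
theorem edges_6_51 : edgesRangeI iota E 6 2182 130555 = true := by decide +kernel

set_option maxRecDepth 1000000 in
theorem edges_2_51 : edgesRangeI iota E 2 2171 135916 = true := by decide +kernel

set_option maxRecDepth 1000000 in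
theorem edges_7_86 : edgesRangeI iota E 7 1478 205811 = true := by decide +kernel

set_option maxRecDepth 1000000 in
theorem edges_2_11 : edgesRangeI iota E 2 2804 31680 = true := by decide +kernel

set_option maxRecDepth 1000000 in
theorem edges_3_81 : edgesRangeI iota E 3 1255 209427 = true := by decide +kernel

set_option maxRecDepth 1000000 in
theorem aliases_42 : aliasRange E 2596 122008 = true := by decide +kernel

set_option maxRecDepth 1000000 in
theorem edges_1_24 : edgesRangeI iota E 1 3301 73907 = true := by decide +kernel

set_option maxRecDepth 1000000 in
theorem edges_2_94 : edgesRangeI iota E 2 1046 213343 = true := by decide +kernel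

set_option maxRecDepth 1000000 in
theorem edges_4_37 : edgesRangeI iota E 4 2520 107662 = true := by decide +kernel

set_option maxRecDepth 1000000 in
theorem edges_5_41 : edgesRangeI iota E 5 3362 149392 = true := by decide +kernel

set_option maxRecDepth 1000000 in
theorem edges_6_67 : edgesRangeI iota E 6 2373 166577 = true := by decide +kernel

set_option maxRecDepth 1000000 in
theorem edges_7_31 : edgesRangeI iota E 7 2587 84360 = true := by decide +kernel

set_option maxRecDepth 1000000 in
theorem edges_0_35 : edgesRangeI iota E 0 2572 87630 = true := by decide +kernel

set_option maxRecDepth 1000000 in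
theorem edges_1_36 : edgesRangeI iota E 1 2783 109325 = true := by decide +kernel

set_option maxRecDepth 1000000 in
theorem edges_2_2 : edgesRangeI iota E 2 3060 5835 = true := by decide +kernel

set_option maxRecDepth 1000000 in
theorem edges_3_69 : edgesRangeI iota E 3 1546 192819 = true := by decide +kernel

set_option maxRecDepth 1000000 in
theorem edges_4_40 : edgesRangeI iota E 4 2629 115373 = true := by decide +kernel

set_option maxRecDepth 1000000 in
theorem edges_7_13 : edgesRangeI iota E 7 3107 35505 = true := by decide +kernel

set_option maxRecDepth 1000000 in
theorem aliases_0 : aliasRange E 3505 0 = true := by decide +kernel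

set_option maxRecDepth 1000000 in
theorem aliases_64 : aliasRange E 2199 170862 = true := by decide +kernel

set_option maxRecDepth 1000000 in
theorem edges_0_72 : edgesRangeI iota E 0 1849 179686 = true := by decide +kernel

set_option maxRecDepth 1000000 in
theorem edges_3_4 : edgesRangeI iota E 3 3171 13932 = true := by decide +kernel

set_option maxRecDepth 1000000 in
theorem edges_4_42 : edgesRangeI iota E 4 2576 120613 = true := by decide +kernel

set_option maxRecDepth 1000000 in
theorem edges_6_6 : edgesRangeI iota E 6 2678 17010 = true := by decide +kernel

set_option maxRecDepth 1000000 in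
theorem edges_7_79 : edgesRangeI iota E 7 1566 195451 = true := by decide +kernel

set_option maxRecDepth 1000000 in
theorem aliases_47 : aliasRange E 2508 133953 = true := by decide +kernel

set_option maxRecDepth 1000000 in
theorem edges_0_11 : edgesRangeI iota E 0 2428 27081 = true := by decide +kernel

set_option maxRecDepth 1000000 in
theorem edges_0_62 : edgesRangeI iota E 0 2810 153726 = true := by decide +kernel

set_option maxRecDepth 1000000 in
theorem edges_1_35 : edgesRangeI iota E 1 2716 106609 = true := by decide +kernel

set_option maxRecDepth 1000000 in
theorem edges_2_28 : edgesRangeI iota E 2 3220 78566 = true := by decide +kernel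

set_option maxRecDepth 1000000 in
theorem edges_2_70 : edgesRangeI iota E 2 1690 180930 = true := by decide +kernel

set_option maxRecDepth 1000000 in
theorem edges_4_4 : edgesRangeI iota E 4 2913 11770 = true := by decide +kernel

set_option maxRecDepth 1000000 in
theorem edges_4_39 : edgesRangeI iota E 4 2601 112772 = true := by decide +kernel

set_option maxRecDepth 1000000 in
theorem edges_4_65 : edgesRangeI iota E 4 1962 184636 = true := by decide +kernel

set_option maxRecDepth 1000000 in
theorem edges_5_40 : edgesRangeI iota E 5 3069 146323 = true := by decide +kernel

set_option maxRecDepth 1000000 in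
theorem edges_6_26 : edgesRangeI iota E 6 2424 71464 = true := by decide +kernel

set_option maxRecDepth 1000000 in
theorem edges_6_75 : edgesRangeI iota E 6 1319 182052 = true := by decide +kernel

set_option maxRecDepth 1000000 in
theorem edges_7_36 : edgesRangeI iota E 7 2416 97438 = true := by decide +kernel

set_option maxRecDepth 1000000 in
theorem edges_7_85 : edgesRangeI iota E 7 1453 204358 = true := by decide +kernel

set_option maxRecDepth 1000000 in
theorem aliases_63 : aliasRange E 2120 168742 = true := by decide +kernel

set_option maxRecDepth 1000000 in
theorem edges_0_22 : edgesRangeI iota E 0 2543 54047 = true := by decide +kernel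

set_option maxRecDepth 1000000 in
theorem edges_0_73 : edgesRangeI iota E 0 1865 181535 = true := by decide +kernel

set_option maxRecDepth 1000000 in
theorem edges_1_3 : edgesRangeI iota E 1 2852 9074 = true := by decide +kernel

set_option maxRecDepth 1000000 in
theorem edges_1_61 : edgesRangeI iota E 1 1819 177882 = true := by decide +kernel

set_option maxRecDepth 1000000 in
theorem edges_2_17 : edgesRangeI iota E 2 2345 48316 = true := by decide +kernel

set_option maxRecDepth 1000000 in
theorem edges_2_54 : edgesRangeI iota E 2 2308 142707 = true := by decide +kernel

set_option maxRecDepth 1000000 in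
theorem edges_3_16 : edgesRangeI iota E 3 3183 52723 = true := by decide +kernel

set_option maxRecDepth 1000000 in
theorem edges_3_66 : edgesRangeI iota E 3 1564 188119 = true := by decide +kernel

set_option maxRecDepth 1000000 in
theorem edges_4_47 : edgesRangeI iota E 4 2693 134898 = true := by decide +kernel

set_option maxRecDepth 1000000 in
theorem edges_5_38 : edgesRangeI iota E 5 3158 140130 = true := by decide +kernel

set_option maxRecDepth 1000000 in
theorem edges_6_34 : edgesRangeI iota E 6 2511 92866 = true := by decide +kernel

set_option maxRecDepth 1000000 in
theorem edges_6_105 : edgesRangeI iota E 6 804 213774 = true := by decide +kernel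

set_option maxRecDepth 1000000 in
theorem edges_7_69 : edgesRangeI iota E 7 1649 179338 = true := by decide +kernel

set_option maxRecDepth 1000000 in
theorem aliases_7 : aliasRange E 3348 22433 = true := by decide +kernel

set_option maxRecDepth 1000000 in
theorem edges_0_13 : edgesRangeI iota E 0 2501 32088 = true := by decide +kernel

set_option maxRecDepth 1000000 in
theorem edges_0_33 : edgesRangeI iota E 0 2476 82609 = true := by decide +kernel

set_option maxRecDepth 1000000 in
theorem edges_0_49 : edgesRangeI iota E 0 2309 120930 = true := by decide +kernel

set_option maxRecDepth 1000000 in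
theorem edges_0_70 : edgesRangeI iota E 0 2641 175063 = true := by decide +kernel

set_option maxRecDepth 1000000 in
theorem edges_1_14 : edgesRangeI iota E 1 2978 42611 = true := by decide +kernel

set_option maxRecDepth 1000000 in
theorem edges_1_30 : edgesRangeI iota E 1 2789 93339 = true := by decide +kernel

set_option maxRecDepth 1000000 in
theorem edges_1_53 : edgesRangeI iota E 1 3193 155296 = true := by decide +kernel

set_option maxRecDepth 1000000 in
theorem edges_1_73 : edgesRangeI iota E 1 1569 198341 = true := by decide +kernel

set_option maxRecDepth 1000000 in
theorem edges_2_14 : edgesRangeI iota E 2 2539 40329 = true := by decide +kernel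

set_option maxRecDepth 1000000 in
theorem edges_2_30 : edgesRangeI iota E 2 2491 84443 = true := by decide +kernel

set_option maxRecDepth 1000000 in
theorem edges_2_59 : edgesRangeI iota E 2 2688 154791 = true := by decide +kernel

set_option maxRecDepth 1000000 in
theorem edges_2_85 : edgesRangeI iota E 2 1252 202669 = true := by decide +kernel

set_option maxRecDepth 1000000 in
theorem edges_3_12 : edgesRangeI iota E 3 3114 40114 = true := by decide +kernel

set_option maxRecDepth 1000000 in
theorem edges_3_33 : edgesRangeI iota E 3 2728 105889 = true := by decide +kernel

set_option maxRecDepth 1000000 in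
theorem edges_3_51 : edgesRangeI iota E 3 2908 153759 = true := by decide +kernel

set_option maxRecDepth 1000000 in
theorem edges_3_83 : edgesRangeI iota E 3 1217 211818 = true := by decide +kernel

set_option maxRecDepth 1000000 in
theorem edges_4_24 : edgesRangeI iota E 4 3124 70228 = true := by decide +kernel

set_option maxRecDepth 1000000 in
theorem edges_4_50 : edgesRangeI iota E 4 2788 143237 = true := by decide +kernel

set_option maxRecDepth 1000000 in
theorem edges_5_1 : edgesRangeI iota E 5 4197 4065 = true := by decide +kernel

set_option maxRecDepth 1000000 in
theorem edges_5_14 : edgesRangeI iota E 5 4032 56386 = true := by decide +kernel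

set_option maxRecDepth 1000000 in
theorem edges_5_24 : edgesRangeI iota E 5 3336 97350 = true := by decide +kernel

set_option maxRecDepth 1000000 in
theorem edges_5_39 : edgesRangeI iota E 5 3035 143288 = true := by decide +kernel

set_option maxRecDepth 1000000 in
theorem edges_5_55 : edgesRangeI iota E 5 1882 188550 = true := by decide +kernel

set_option maxRecDepth 1000000 in
theorem edges_6_11 : edgesRangeI iota E 6 2673 30680 = true := by decide +kernel

set_option maxRecDepth 1000000 in
theorem edges_6_56 : edgesRangeI iota E 6 2264 141170 = true := by decide +kernel

set_option maxRecDepth 1000000 in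
theorem edges_6_89 : edgesRangeI iota E 6 1089 198498 = true := by decide +kernel

set_option maxRecDepth 1000000 in
theorem edges_7_10 : edgesRangeI iota E 7 2733 27417 = true := by decide +kernel

set_option maxRecDepth 1000000 in
theorem edges_7_35 : edgesRangeI iota E 7 2395 95043 = true := by decide +kernel

set_option maxRecDepth 1000000 in
theorem edges_7_62 : edgesRangeI iota E 7 2762 161755 = true := by decide +kernel

set_option maxRecDepth 1000000 in
theorem aliases_8 : aliasRange E 3653 25781 = true := by decide +kernel

set_option maxRecDepth 1000000 in
theorem aliases_29 : aliasRange E 2627 87106 = true := by decide +kernel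

set_option maxRecDepth 1000000 in
theorem aliases_49 : aliasRange E 2418 139041 = true := by decide +kernel

set_option maxRecDepth 1000000 in
theorem aliases_71 : aliasRange E 7766 203506 = true := by decide +kernel

set_option maxRecDepth 1000000 in
theorem rows_9 : rowsRange E RS 1500 13500 = true := by decide +kernel

set_option maxRecDepth 1000000 in
theorem rows_17 : rowsRange E RS 1500 25500 = true := by decide +kernel

set_option maxRecDepth 1000000 in
theorem rows_25 : rowsRange E RS 1500 37500 = true := by decide +kernel

set_option maxRecDepth 1000000 in
theorem rows_33 : rowsRange E RS 1500 49500 = true := by decide +kernel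

set_option maxRecDepth 1000000 in
theorem rows_41 : rowsRange E RS 1500 61500 = true := by decide +kernel

set_option maxRecDepth 1000000 in
theorem rows_49 : rowsRange E RS 1500 73500 = true := by decide +kernel

set_option maxRecDepth 1000000 in
theorem rows_57 : rowsRange E RS 1500 85500 = true := by decide +kernel

set_option maxRecDepth 1000000 in
theorem rows_65 : rowsRange E RS 1500 97500 = true := by decide +kernel

set_option maxRecDepth 1000000 in
theorem rows_73 : rowsRange E RS 1500 109500 = true := by decide +kernel

set_option maxRecDepth 1000000 in
theorem rows_81 : rowsRange E RS 1500 121500 = true := by decide +kernel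

set_option maxRecDepth 1000000 in
theorem rows_89 : rowsRange E RS 1500 133500 = true := by decide +kernel

set_option maxRecDepth 1000000 in
theorem rows_97 : rowsRange E RS 1500 145500 = true := by decide +kernel

set_option maxRecDepth 1000000 in
theorem rows_105 : rowsRange E RS 1500 157500 = true := by decide +kernel

set_option maxRecDepth 1000000 in
theorem rows_113 : rowsRange E RS 1500 169500 = true := by decide +kernel

set_option maxRecDepth 1000000 in
theorem rows_121 : rowsRange E RS 1500 181500 = true := by decide +kernel

set_option maxRecDepth 1000000 in
theorem rows_129 : rowsRange E RS 1500 193500 = true := by decide +kernel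

set_option maxRecDepth 1000000 in
theorem rows_137 : rowsRange E RS 1500 205500 = true := by decide +kernel

set_option maxRecDepth 1000000 in
theorem aliases_72 : aliasRange E 3463 211272 = true := by decide +kernel

set_option maxRecDepth 1000000 in
theorem edges_1_84 : edgesRangeI iota E 1 489 214246 = true := by decide +kernel

end Cfsg.Agent.Helper5.ONXATC
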