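import Cfsg.Agent.Helper5.ONXATCDatD
import Cfsg.Agent.Helper5.TCIB

/-! kernel checks of edges, aliases, rows: ONXATC -/

set_option autoImplicit false
set_option Elab.async false

namespace Cfsg.Agent.Helper5.ONXATC
open Cfsg.Agent.Helper5.TC Cfsg.Agent.Helper5.TCI

set_option maxRecDepth 1000000 in
theorem cnt_3 : cntFrom RS 20000 60000 0 = 9852 := by decide +kernel

set_option maxRecDepth 1000000 in
theorem edges_3_50 : edgesRangeI iota E 3 2959 150800 = true := by decide +kernel

set_option maxRecDepth 1000000 in
theorem edges_6_0 : edgesRangeI iota E 6 2999 0 = true := by decide +kernel

set_option maxRecDepth 1000000 in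
theorem edges_1_2 : edgesRangeI iota E 1 3029 6045 = true := by decide +kernel

set_option maxRecDepth 1000000 in
theorem edges_3_72 : edgesRangeI iota E 3 1483 197209 = true := by decide +kernel

set_option maxRecDepth 1000000 in
theorem edges_6_102 : edgesRangeI iota E 6 902 211229 = true := by decide +kernel

set_option maxRecDepth 1000000 in
theorem edges_2_46 : edgesRangeI iota E 2 2826 123270 = true := by decide +kernel

set_option maxRecDepth 1000000 in
theorem edges_6_40 : edgesRangeI iota E 6 2283 106225 = true := by decide +kernel

set_option maxRecDepth 1000000 in
theorem edges_6_83 : edgesRangeI iota E 6 1197 191818 = true := by decide +kernel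

set_option maxRecDepth 1000000 in
theorem edges_1_55 : edgesRangeI iota E 1 2896 161564 = true := by decide +kernel

set_option maxRecDepth 1000000 in
theorem edges_5_62 : edgesRangeI iota E 5 1760 201074 = true := by decide +kernel

set_option maxRecDepth 1000000 in
theorem edges_7_76 : edgesRangeI iota E 7 1529 190827 = true := by decide +kernel

set_option maxRecDepth 1000000 in
theorem edges_6_62 : edgesRangeI iota E 6 2323 154652 = true := by decide +kernel

set_option maxRecDepth 1000000 in
theorem edges_3_5 : edgesRangeI iota E 3 3333 17103 = true := by decide +kernel

set_option maxRecDepth 1000000 in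
theorem aliases_17 : aliasRange E 2460 54906 = true := by decide +kernel

set_option maxRecDepth 1000000 in
theorem edges_2_38 : edgesRangeI iota E 2 2185 104606 = true := by decide +kernel

set_option maxRecDepth 1000000 in
theorem edges_3_84 : edgesRangeI iota E 3 1132 213035 = true := by decide +kernel

set_option maxRecDepth 1000000 in
theorem edges_0_20 : edgesRangeI iota E 0 2337 49516 = true := by decide +kernel

set_option maxRecDepth 1000000 in
theorem edges_0_77 : edgesRangeI iota E 0 1791 188784 = true := by decide +kernel

set_option maxRecDepth 1000000 in
theorem edges_1_44 : edgesRangeI iota E 1 2614 131046 = true := by decide +kernel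

set_option maxRecDepth 1000000 in
theorem edges_3_63 : edgesRangeI iota E 3 1628 183252 = true := by decide +kernel

set_option maxRecDepth 1000000 in
theorem edges_4_74 : edgesRangeI iota E 4 1704 200998 = true := by decide +kernel

set_option maxRecDepth 1000000 in
theorem edges_5_66 : edgesRangeI iota E 5 1546 207791 = true := by decide +kernel

set_option maxRecDepth 1000000 in
theorem edges_6_101 : edgesRangeI iota E 6 937 210292 = true := by decide +kernel

set_option maxRecDepth 1000000 in
theorem edges_7_81 : edgesRangeI iota E 7 1480 198519 = true := by decide +kernel

set_option maxRecDepth 1000000 in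
theorem edges_1_40 : edgesRangeI iota E 1 2458 120120 = true := by decide +kernel

set_option maxRecDepth 1000000 in
theorem edges_2_73 : edgesRangeI iota E 2 1510 185798 = true := by decide +kernel

set_option maxRecDepth 1000000 in
theorem edges_3_76 : edgesRangeI iota E 3 1405 202810 = true := by decide +kernel

set_option maxRecDepth 1000000 in
theorem edges_4_51 : edgesRangeI iota E 4 2538 146025 = true := by decide +kernel

set_option maxRecDepth 1000000 in
theorem edges_7_15 : edgesRangeI iota E 7 2532 41149 = true := by decide +kernel

set_option maxRecDepth 1000000 in
theorem aliases_6 : aliasRange E 2858 19575 = true := by decide +kernel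

set_option maxRecDepth 1000000 in
theorem edges_0_2 : edgesRangeI iota E 0 2555 5052 = true := by decide +kernel

set_option maxRecDepth 1000000 in
theorem edges_0_23 : edgesRangeI iota E 0 2370 56590 = true := by decide +kernel

set_option maxRecDepth 1000000 in
theorem edges_1_27 : edgesRangeI iota E 1 3061 84149 = true := by decide +kernel

set_option maxRecDepth 1000000 in
theorem edges_3_74 : edgesRangeI iota E 3 1373 200063 = true := by decide +kernel

set_option maxRecDepth 1000000 in
theorem edges_4_57 : edgesRangeI iota E 4 2919 164139 = true := by decide +kernel

set_option maxRecDepth 1000000 in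
theorem edges_7_20 : edgesRangeI iota E 7 2836 54089 = true := by decide +kernel

set_option maxRecDepth 1000000 in
theorem aliases_23 : aliasRange E 2820 72121 = true := by decide +kernel

set_option maxRecDepth 1000000 in
theorem aliases_52 : aliasRange E 2589 145810 = true := by decide +kernel

set_option maxRecDepth 1000000 in
theorem edges_0_66 : edgesRangeI iota E 0 2579 165019 = true := by decide +kernel

set_option maxRecDepth 1000000 in
theorem edges_1_37 : edgesRangeI iota E 1 2800 112108 = true := by decide +kernel

set_option maxRecDepth 1000000 in
theorem edges_2_39 : edgesRangeI iota E 2 2388 106791 = true := by decide +kernel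

set_option maxRecDepth 1000000 in
theorem edges_2_71 : edgesRangeI iota E 2 1632 182620 = true := by decide +kernel

set_option maxRecDepth 1000000 in
theorem edges_4_8 : edgesRangeI iota E 4 2579 23603 = true := by decide +kernel

set_option maxRecDepth 1000000 in
theorem edges_4_44 : edgesRangeI iota E 4 2860 126345 = true := by decide +kernel

set_option maxRecDepth 1000000 in
theorem edges_4_68 : edgesRangeI iota E 4 1780 190224 = true := by decide +kernel

set_option maxRecDepth 1000000 in
theorem edges_5_47 : edgesRangeI iota E 5 3173 169690 = true := by decide +kernel

set_option maxRecDepth 1000000 in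
theorem edges_6_27 : edgesRangeI iota E 6 2515 73888 = true := by decide +kernel

set_option maxRecDepth 1000000 in
theorem edges_7_3 : edgesRangeI iota E 7 2712 8643 = true := by decide +kernel

set_option maxRecDepth 1000000 in
theorem edges_7_42 : edgesRangeI iota E 7 2339 111751 = true := by decide +kernel

set_option maxRecDepth 1000000 in
theorem edges_7_91 : edgesRangeI iota E 7 1253 212740 = true := by decide +kernel

set_option maxRecDepth 1000000 in
theorem aliases_65 : aliasRange E 2171 173061 = true := by decide +kernel

set_option maxRecDepth 1000000 in
theorem edges_0_38 : edgesRangeI iota E 0 2395 95172 = true := by decide +kernel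

set_option maxRecDepth 1000000 in
theorem edges_0_75 : edgesRangeI iota E 0 1821 185215 = true := by decide +kernel

set_option maxRecDepth 1000000 in
theorem edges_1_4 : edgesRangeI iota E 1 2953 11926 = true := by decide +kernel

set_option maxRecDepth 1000000 in
theorem edges_1_62 : edgesRangeI iota E 1 1796 179701 = true := by decide +kernel

set_option maxRecDepth 1000000 in
theorem edges_2_33 : edgesRangeI iota E 2 2753 92439 = true := by decide +kernel

set_option maxRecDepth 1000000 in
theorem edges_2_56 : edgesRangeI iota E 2 2341 147264 = true := by decide +kernel

set_option maxRecDepth 1000000 in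
theorem edges_3_29 : edgesRangeI iota E 3 2657 95748 = true := by decide +kernel

set_option maxRecDepth 1000000 in
theorem edges_3_70 : edgesRangeI iota E 3 1433 194365 = true := by decide +kernel

set_option maxRecDepth 1000000 in
theorem edges_4_52 : edgesRangeI iota E 4 2794 148563 = true := by decide +kernel

set_option maxRecDepth 1000000 in
theorem edges_5_56 : edgesRangeI iota E 5 1866 190432 = true := by decide +kernel

set_option maxRecDepth 1000000 in
theorem edges_6_38 : edgesRangeI iota E 6 2266 101905 = true := by decide +kernel

set_option maxRecDepth 1000000 in
theorem edges_7_24 : edgesRangeI iota E 7 2533 65328 = true := by decide +kernel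

set_option maxRecDepth 1000000 in
theorem edges_7_74 : edgesRangeI iota E 7 1613 187637 = true := by decide +kernel

set_option maxRecDepth 1000000 in
theorem aliases_13 : aliasRange E 3105 41940 = true := by decide +kernel

set_option maxRecDepth 1000000 in
theorem edges_0_16 : edgesRangeI iota E 0 2415 39775 = true := by decide +kernel

set_option maxRecDepth 1000000 in
theorem edges_0_34 : edgesRangeI iota E 0 2545 85085 = true := by decide +kernel

set_option maxRecDepth 1000000 in
theorem edges_0_52 : edgesRangeI iota E 0 2598 128474 = true := by decide +kernel

set_option maxRecDepth 1000000 in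
theorem edges_0_74 : edgesRangeI iota E 0 1815 183400 = true := by decide +kernel

set_option maxRecDepth 1000000 in
theorem edges_1_15 : edgesRangeI iota E 1 3117 45589 = true := by decide +kernel

set_option maxRecDepth 1000000 in
theorem edges_1_32 : edgesRangeI iota E 1 2762 98896 = true := by decide +kernel

set_option maxRecDepth 1000000 in
theorem edges_1_54 : edgesRangeI iota E 1 3075 158489 = true := by decide +kernel

set_option maxRecDepth 1000000 in
theorem edges_1_74 : edgesRangeI iota E 1 1539 199910 = true := by decide +kernel

set_option maxRecDepth 1000000 in
theorem edges_2_18 : edgesRangeI iota E 2 2799 50661 = true := by decide +kernel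

set_option maxRecDepth 1000000 in
theorem edges_2_32 : edgesRangeI iota E 2 2914 89525 = true := by decide +kernel

set_option maxRecDepth 1000000 in
theorem edges_2_60 : edgesRangeI iota E 2 2631 157479 = true := by decide +kernel

set_option maxRecDepth 1000000 in
theorem edges_2_86 : edgesRangeI iota E 2 1304 203921 = true := by decide +kernel

set_option maxRecDepth 1000000 in
theorem edges_3_15 : edgesRangeI iota E 3 3061 49662 = true := by decide +kernel

set_option maxRecDepth 1000000 in
theorem edges_3_34 : edgesRangeI iota E 3 2777 108617 = true := by decide +kernel

set_option maxRecDepth 1000000 in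
theorem edges_3_53 : edgesRangeI iota E 3 2916 159610 = true := by decide +kernel

set_option maxRecDepth 1000000 in
theorem edges_4_0 : edgesRangeI iota E 4 2929 0 = true := by decide +kernel

set_option maxRecDepth 1000000 in
theorem edges_4_25 : edgesRangeI iota E 4 2733 73352 = true := by decide +kernel

set_option maxRecDepth 1000000 in
theorem edges_4_56 : edgesRangeI iota E 4 3032 161107 = true := by decide +kernel

set_option maxRecDepth 1000000 in
theorem edges_5_4 : edgesRangeI iota E 5 3989 16380 = true := by decide +kernel

set_option maxRecDepth 1000000 in
theorem edges_5_15 : edgesRangeI iota E 5 4568 60418 = true := by decide +kernel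

set_option maxRecDepth 1000000 in
theorem edges_5_25 : edgesRangeI iota E 5 3281 100686 = true := by decide +kernel

set_option maxRecDepth 1000000 in
theorem edges_5_42 : edgesRangeI iota E 5 3495 152754 = true := by decide +kernel

set_option maxRecDepth 1000000 in
theorem edges_5_57 : edgesRangeI iota E 5 1857 192298 = true := by decide +kernel

set_option maxRecDepth 1000000 in
theorem edges_6_16 : edgesRangeI iota E 6 2709 44367 = true := by decide +kernel

set_option maxRecDepth 1000000 in
theorem edges_6_59 : edgesRangeI iota E 6 2153 147535 = true := by decide +kernel

set_option maxRecDepth 1000000 in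
theorem edges_6_97 : edgesRangeI iota E 6 967 206706 = true := by decide +kernel

set_option maxRecDepth 1000000 in
theorem edges_7_12 : edgesRangeI iota E 7 2606 32899 = true := by decide +kernel

set_option maxRecDepth 1000000 in
theorem edges_7_43 : edgesRangeI iota E 7 2528 114090 = true := by decide +kernel

set_option maxRecDepth 1000000 in
theorem edges_7_67 : edgesRangeI iota E 7 2599 174793 = true := by decide +kernel

set_option maxRecDepth 1000000 in
theorem aliases_11 : aliasRange E 2554 36417 = true := by decide +kernel

set_option maxRecDepth 1000000 in
theorem aliases_30 : aliasRange E 2868 89733 = true := by decide +kernel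

set_option maxRecDepth 1000000 in
theorem aliases_51 : aliasRange E 2173 143637 = true := by decide +kernel

set_option maxRecDepth 1000000 in
theorem cnt_10 : cntFrom RS 14735 200000 0 = 14622 := by decide +kernel

set_option maxRecDepth 1000000 in
theorem rows_3 : rowsRange E RS 1500 4500 = true := by decide +kernel

set_option maxRecDepth 1000000 in
theorem rows_11 : rowsRange E RS 1500 16500 = true := by decide +kernel

set_option maxRecDepth 1000000 in
theorem rows_19 : rowsRange E RS 1500 28500 = true := by decide +kernel

set_option maxRecDepth 1000000 in
theorem rows_27 : rowsRange E RS 1500 40500 = true := by decide +kernel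

set_option maxRecDepth 1000000 in
theorem rows_35 : rowsRange E RS 1500 52500 = true := by decide +kernel

set_option maxRecDepth 1000000 in
theorem rows_43 : rowsRange E RS 1500 64500 = true := by decide +kernel

set_option maxRecDepth 1000000 in
theorem rows_51 : rowsRange E RS 1500 76500 = true := by decide +kernel

set_option maxRecDepth 1000000 in
theorem rows_59 : rowsRange E RS 1500 88500 = true := by decide +kernel

set_option maxRecDepth 1000000 in
theorem rows_67 : rowsRange E RS 1500 100500 = true := by decide +kernel

set_option maxRecDepth 1000000 in
theorem rows_75 : rowsRange E RS 1500 112500 = true := by decide +kernel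

set_option maxRecDepth 1000000 in
theorem rows_83 : rowsRange E RS 1500 124500 = true := by decide +kernel

set_option maxRecDepth 1000000 in
theorem rows_91 : rowsRange E RS 1500 136500 = true := by decide +kernel

set_option maxRecDepth 1000000 in
theorem rows_99 : rowsRange E RS 1500 148500 = true := by decide +kernel

set_option maxRecDepth 1000000 in
theorem rows_107 : rowsRange E RS 1500 160500 = true := by decide +kernel

set_option maxRecDepth 1000000 in
theorem rows_115 : rowsRange E RS 1500 172500 = true := by decide +kernel

set_option maxRecDepth 1000000 in
theorem rows_123 : rowsRange E RS 1500 184500 = true := by decide +kernel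

set_option maxRecDepth 1000000 in
theorem rows_131 : rowsRange E RS 1500 196500 = true := by decide +kernel

set_option maxRecDepth 1000000 in
theorem rows_139 : rowsRange E RS 1500 208500 = true := by decide +kernel

set_option maxRecDepth 1000000 in
theorem rows_143 : rowsRange E RS 235 214500 = true := by decide +kernel

end Cfsg.Agent.Helper5.ONXATC
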