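import Cfsg.Agent.Helper5.ONXATCDatD
import Cfsg.Agent.Helper5.TCIB

/-! kernel checks of edges, aliases, rows: ONXATC -/

set_option autoImplicit false
set_option Elab.async false

namespace Cfsg.Agent.Helper5.ONXATC
open Cfsg.Agent.Helper5.TC Cfsg.Agent.Helper5.TCI

set_option maxRecDepth 1000000 in
theorem cnt_4 : cntFrom RS 20000 80000 0 = 8831 := by decide +kernel

set_option maxRecDepth 1000000 in
theorem edges_3_59 : edgesRangeI iota E 3 2569 175701 = true := by decide +kernel

set_option maxRecDepth 1000000 in
theorem edges_1_76 : edgesRangeI iota E 1 1528 202917 = true := by decide +kernel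

set_option maxRecDepth 1000000 in
theorem edges_6_31 : edgesRangeI iota E 6 2373 84944 = true := by decide +kernel

set_option maxRecDepth 1000000 in
theorem edges_2_81 : edgesRangeI iota E 2 1268 197402 = true := by decide +kernel

set_option maxRecDepth 1000000 in
theorem edges_6_74 : edgesRangeI iota E 6 1369 180683 = true := by decide +kernel

set_option maxRecDepth 1000000 in
theorem edges_2_0 : edgesRangeI iota E 2 2843 0 = true := by decide +kernel

set_option maxRecDepth 1000000 in
theorem edges_6_30 : edgesRangeI iota E 6 2358 82586 = true := by decide +kernel

set_option maxRecDepth 1000000 in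
theorem edges_6_76 : edgesRangeI iota E 6 1219 183371 = true := by decide +kernel

set_option maxRecDepth 1000000 in
theorem aliases_56 : aliasRange E 1940 154581 = true := by decide +kernel

set_option maxRecDepth 1000000 in
theorem edges_6_32 : edgesRangeI iota E 6 2741 87317 = true := by decide +kernel

set_option maxRecDepth 1000000 in
theorem aliases_25 : aliasRange E 2282 77355 = true := by decide +kernel

set_option maxRecDepth 1000000 in
theorem edges_7_26 : edgesRangeI iota E 7 2745 70696 = true := by decide +kernel

set_option maxRecDepth 1000000 in
theorem edges_3_42 : edgesRangeI iota E 3 2582 130128 = true := by decide +kernel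

set_option maxRecDepth 1000000 in
theorem aliases_41 : aliasRange E 2895 119113 = true := by decide +kernel

set_option maxRecDepth 1000000 in
theorem edges_2_68 : edgesRangeI iota E 2 1965 177336 = true := by decide +kernel

set_option maxRecDepth 1000000 in
theorem edges_4_78 : edgesRangeI iota E 4 1666 207846 = true := by decide +kernel

set_option maxRecDepth 1000000 in
theorem edges_0_40 : edgesRangeI iota E 0 2499 99935 = true := by decide +kernel

set_option maxRecDepth 1000000 in
theorem edges_0_78 : edgesRangeI iota E 0 1762 190575 = true := by decide +kernel

set_option maxRecDepth 1000000 in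
theorem edges_2_65 : edgesRangeI iota E 2 2395 169953 = true := by decide +kernel

set_option maxRecDepth 1000000 in
theorem edges_4_2 : edgesRangeI iota E 4 3113 5864 = true := by decide +kernel

set_option maxRecDepth 1000000 in
theorem edges_4_81 : edgesRangeI iota E 4 1583 212771 = true := by decide +kernel

set_option maxRecDepth 1000000 in
theorem edges_6_3 : edgesRangeI iota E 6 2713 8888 = true := by decide +kernel

set_option maxRecDepth 1000000 in
theorem edges_7_0 : edgesRangeI iota E 7 2938 0 = true := by decide +kernel

set_option maxRecDepth 1000000 in
theorem edges_0_1 : edgesRangeI iota E 0 2597 2455 = true := by decide +kernel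

set_option maxRecDepth 1000000 in
theorem edges_0_54 : edgesRangeI iota E 0 2563 133524 = true := by decide +kernel

set_option maxRecDepth 1000000 in
theorem edges_1_50 : edgesRangeI iota E 1 2523 146935 = true := by decide +kernel

set_option maxRecDepth 1000000 in
theorem edges_3_20 : edgesRangeI iota E 3 3296 66386 = true := by decide +kernel

set_option maxRecDepth 1000000 in
theorem edges_4_5 : edgesRangeI iota E 4 2971 14683 = true := by decide +kernel

set_option maxRecDepth 1000000 in
theorem edges_5_9 : edgesRangeI iota E 5 4052 36449 = true := by decide +kernel

set_option maxRecDepth 1000000 in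
theorem edges_7_38 : edgesRangeI iota E 7 2273 102261 = true := by decide +kernel

set_option maxRecDepth 1000000 in
theorem aliases_24 : aliasRange E 2414 74941 = true := by decide +kernel

set_option maxRecDepth 1000000 in
theorem edges_0_43 : edgesRangeI iota E 0 2231 106890 = true := by decide +kernel

set_option maxRecDepth 1000000 in
theorem edges_1_31 : edgesRangeI iota E 1 2768 96128 = true := by decide +kernel

set_option maxRecDepth 1000000 in
theorem edges_4_21 : edgesRangeI iota E 4 3133 61206 = true := by decide +kernel

set_option maxRecDepth 1000000 in
theorem edges_4_58 : edgesRangeI iota E 4 3016 167058 = true := by decide +kernel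

set_option maxRecDepth 1000000 in
theorem edges_7_22 : edgesRangeI iota E 7 3043 59499 = true := by decide +kernel

set_option maxRecDepth 1000000 in
theorem aliases_33 : aliasRange E 2775 98127 = true := by decide +kernel

set_option maxRecDepth 1000000 in
theorem aliases_62 : aliasRange E 2153 166589 = true := by decide +kernel

set_option maxRecDepth 1000000 in
theorem edges_0_79 : edgesRangeI iota E 0 1811 192337 = true := by decide +kernel

set_option maxRecDepth 1000000 in
theorem edges_1_57 : edgesRangeI iota E 1 2869 167160 = true := by decide +kernel

set_option maxRecDepth 1000000 in
theorem edges_2_45 : edgesRangeI iota E 2 2409 120861 = true := by decide +kernel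

set_option maxRecDepth 1000000 in
theorem edges_2_83 : edgesRangeI iota E 2 1323 199985 = true := by decide +kernel

set_option maxRecDepth 1000000 in
theorem edges_4_9 : edgesRangeI iota E 4 2845 26182 = true := by decide +kernel

set_option maxRecDepth 1000000 in
theorem edges_4_45 : edgesRangeI iota E 4 2794 129205 = true := by decide +kernel

set_option maxRecDepth 1000000 in
theorem edges_4_70 : edgesRangeI iota E 4 1764 193876 = true := by decide +kernel

set_option maxRecDepth 1000000 in
theorem edges_5_52 : edgesRangeI iota E 5 1949 182897 = true := by decide +kernel

set_option maxRecDepth 1000000 in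
theorem edges_6_28 : edgesRangeI iota E 6 3147 76403 = true := by decide +kernel

set_option maxRecDepth 1000000 in
theorem edges_7_7 : edgesRangeI iota E 7 2843 19425 = true := by decide +kernel

set_option maxRecDepth 1000000 in
theorem edges_7_47 : edgesRangeI iota E 7 2652 123639 = true := by decide +kernel

set_option maxRecDepth 1000000 in
theorem aliases_10 : aliasRange E 3380 33037 = true := by decide +kernel

set_option maxRecDepth 1000000 in
theorem aliases_66 : aliasRange E 2197 175232 = true := by decide +kernel

set_option maxRecDepth 1000000 in
theorem edges_0_41 : edgesRangeI iota E 0 2229 102434 = true := by decide +kernel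

set_option maxRecDepth 1000000 in
theorem edges_0_80 : edgesRangeI iota E 0 1793 194148 = true := by decide +kernel

set_option maxRecDepth 1000000 in
theorem edges_1_5 : edgesRangeI iota E 1 3040 14879 = true := by decide +kernel

set_option maxRecDepth 1000000 in
theorem edges_1_68 : edgesRangeI iota E 1 1623 190254 = true := by decide +kernel

set_option maxRecDepth 1000000 in
theorem edges_2_34 : edgesRangeI iota E 2 2379 95192 = true := by decide +kernel

set_option maxRecDepth 1000000 in
theorem edges_2_62 : edgesRangeI iota E 2 2450 162547 = true := by decide +kernel

set_option maxRecDepth 1000000 in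
theorem edges_3_38 : edgesRangeI iota E 3 2666 119148 = true := by decide +kernel

set_option maxRecDepth 1000000 in
theorem edges_3_71 : edgesRangeI iota E 3 1411 195798 = true := by decide +kernel

set_option maxRecDepth 1000000 in
theorem edges_4_53 : edgesRangeI iota E 4 3401 151357 = true := by decide +kernel

set_option maxRecDepth 1000000 in
theorem edges_6_1 : edgesRangeI iota E 6 2942 2999 = true := by decide +kernel

set_option maxRecDepth 1000000 in
theorem edges_6_43 : edgesRangeI iota E 6 2346 112623 = true := by decide +kernel

set_option maxRecDepth 1000000 in
theorem edges_7_39 : edgesRangeI iota E 7 2297 104534 = true := by decide +kernel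

set_option maxRecDepth 1000000 in
theorem edges_7_75 : edgesRangeI iota E 7 1577 189250 = true := by decide +kernel

set_option maxRecDepth 1000000 in
theorem aliases_20 : aliasRange E 3118 63635 = true := by decide +kernel

set_option maxRecDepth 1000000 in
theorem edges_0_18 : edgesRangeI iota E 0 2438 44638 = true := by decide +kernel

set_option maxRecDepth 1000000 in
theorem edges_0_36 : edgesRangeI iota E 0 2397 90202 = true := by decide +kernel

set_option maxRecDepth 1000000 in
theorem edges_0_53 : edgesRangeI iota E 0 2452 131072 = true := by decide +kernel

set_option maxRecDepth 1000000 in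
theorem edges_0_76 : edgesRangeI iota E 0 1748 187036 = true := by decide +kernel

set_option maxRecDepth 1000000 in
theorem edges_1_16 : edgesRangeI iota E 1 2944 48706 = true := by decide +kernel

set_option maxRecDepth 1000000 in
theorem edges_1_34 : edgesRangeI iota E 1 2341 104268 = true := by decide +kernel

set_option maxRecDepth 1000000 in
theorem edges_1_58 : edgesRangeI iota E 1 2645 170029 = true := by decide +kernel

set_option maxRecDepth 1000000 in
theorem edges_1_75 : edgesRangeI iota E 1 1468 201449 = true := by decide +kernel

set_option maxRecDepth 1000000 in
theorem edges_2_20 : edgesRangeI iota E 2 2360 56375 = true := by decide +kernel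

set_option maxRecDepth 1000000 in
theorem edges_2_37 : edgesRangeI iota E 2 2326 102280 = true := by decide +kernel

set_option maxRecDepth 1000000 in
theorem edges_2_61 : edgesRangeI iota E 2 2437 160110 = true := by decide +kernel

set_option maxRecDepth 1000000 in
theorem edges_2_92 : edgesRangeI iota E 2 1150 211128 = true := by decide +kernel

set_option maxRecDepth 1000000 in
theorem edges_3_17 : edgesRangeI iota E 3 3283 55906 = true := by decide +kernel

set_option maxRecDepth 1000000 in
theorem edges_3_35 : edgesRangeI iota E 3 2691 111394 = true := by decide +kernel

set_option maxRecDepth 1000000 in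
theorem edges_3_54 : edgesRangeI iota E 3 2858 162526 = true := by decide +kernel

set_option maxRecDepth 1000000 in
theorem edges_4_6 : edgesRangeI iota E 4 2923 17654 = true := by decide +kernel

set_option maxRecDepth 1000000 in
theorem edges_4_26 : edgesRangeI iota E 4 3398 76085 = true := by decide +kernel

set_option maxRecDepth 1000000 in
theorem edges_4_67 : edgesRangeI iota E 4 1856 188368 = true := by decide +kernel

set_option maxRecDepth 1000000 in
theorem edges_5_5 : edgesRangeI iota E 5 3971 20369 = true := by decide +kernel

set_option maxRecDepth 1000000 in
theorem edges_5_16 : edgesRangeI iota E 5 3846 64986 = true := by decide +kernel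

set_option maxRecDepth 1000000 in
theorem edges_5_28 : edgesRangeI iota E 5 3026 109817 = true := by decide +kernel

set_option maxRecDepth 1000000 in
theorem edges_5_44 : edgesRangeI iota E 5 3463 159664 = true := by decide +kernel

set_option maxRecDepth 1000000 in
theorem edges_5_61 : edgesRangeI iota E 5 1684 199390 = true := by decide +kernel

set_option maxRecDepth 1000000 in
theorem edges_6_17 : edgesRangeI iota E 6 2530 47076 = true := by decide +kernel

set_option maxRecDepth 1000000 in
theorem edges_6_60 : edgesRangeI iota E 6 2372 149688 = true := by decide +kernel

set_option maxRecDepth 1000000 in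
theorem edges_6_99 : edgesRangeI iota E 6 868 208584 = true := by decide +kernel

set_option maxRecDepth 1000000 in
theorem edges_7_16 : edgesRangeI iota E 7 2630 43681 = true := by decide +kernel

set_option maxRecDepth 1000000 in
theorem edges_7_46 : edgesRangeI iota E 7 2286 121353 = true := by decide +kernel

set_option maxRecDepth 1000000 in
theorem edges_7_80 : edgesRangeI iota E 7 1502 197017 = true := by decide +kernel

set_option maxRecDepth 1000000 in
theorem aliases_12 : aliasRange E 2969 38971 = true := by decide +kernel

set_option maxRecDepth 1000000 in
theorem aliases_32 : aliasRange E 2768 95359 = true := by decide +kernel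

set_option maxRecDepth 1000000 in
theorem aliases_53 : aliasRange E 2113 148399 = true := by decide +kernel

set_option maxRecDepth 1000000 in
theorem edges_5_70 : edgesRangeI iota E 5 1072 213663 = true := by decide +kernel

set_option maxRecDepth 1000000 in
theorem rows_2 : rowsRange E RS 1500 3000 = true := by decide +kernel

set_option maxRecDepth 1000000 in
theorem rows_10 : rowsRange E RS 1500 15000 = true := by decide +kernel

set_option maxRecDepth 1000000 in
theorem rows_18 : rowsRange E RS 1500 27000 = true := by decide +kernel

set_option maxRecDepth 1000000 in
theorem rows_26 : rowsRange E RS 1500 39000 = true := by decide +kernel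

set_option maxRecDepth 1000000 in
theorem rows_34 : rowsRange E RS 1500 51000 = true := by decide +kernel

set_option maxRecDepth 1000000 in
theorem rows_42 : rowsRange E RS 1500 63000 = true := by decide +kernel

set_option maxRecDepth 1000000 in
theorem rows_50 : rowsRange E RS 1500 75000 = true := by decide +kernel

set_option maxRecDepth 1000000 in
theorem rows_58 : rowsRange E RS 1500 87000 = true := by decide +kernel

set_option maxRecDepth 1000000 in
theorem rows_66 : rowsRange E RS 1500 99000 = true := by decide +kernel

set_option maxRecDepth 1000000 in
theorem rows_74 : rowsRange E RS 1500 111000 = true := by decide +kernel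

set_option maxRecDepth 1000000 in
theorem rows_82 : rowsRange E RS 1500 123000 = true := by decide +kernel

set_option maxRecDepth 1000000 in
theorem rows_90 : rowsRange E RS 1500 135000 = true := by decide +kernel

set_option maxRecDepth 1000000 in
theorem rows_98 : rowsRange E RS 1500 147000 = true := by decide +kernel

set_option maxRecDepth 1000000 in
theorem rows_106 : rowsRange E RS 1500 159000 = true := by decide +kernel

set_option maxRecDepth 1000000 in
theorem rows_114 : rowsRange E RS 1500 171000 = true := by decide +kernel

set_option maxRecDepth 1000000 in
theorem rows_122 : rowsRange E RS 1500 183000 = true := by decide +kernel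

set_option maxRecDepth 1000000 in
theorem rows_130 : rowsRange E RS 1500 195000 = true := by decide +kernel

set_option maxRecDepth 1000000 in
theorem rows_138 : rowsRange E RS 1500 207000 = true := by decide +kernel

set_option maxRecDepth 1000000 in
theorem edges_4_82 : edgesRangeI iota E 4 381 214354 = true := by decide +kernel

end Cfsg.Agent.Helper5.ONXATC
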