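import Cfsg.Agent.Helper5.ONXATCDatD
import Cfsg.Agent.Helper5.TCIB

/-! kernel checks of edges, aliases, rows: ONXATC -/

set_option autoImplicit false
set_option Elab.async false

namespace Cfsg.Agent.Helper5.ONXATC
open Cfsg.Agent.Helper5.TC Cfsg.Agent.Helper5.TCI

set_option maxRecDepth 1000000 in
theorem cnt_5 : cntFrom RS 20000 100000 0 = 9579 := by decide +kernel

set_option maxRecDepth 1000000 in
theorem edges_6_42 : edgesRangeI iota E 6 2024 110599 = true := by decide +kernel

set_option maxRecDepth 1000000 in
theorem edges_3_1 : edgesRangeI iota E 3 3616 3472 = true := by decide +kernel

set_option maxRecDepth 1000000 in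
theorem edges_6_41 : edgesRangeI iota E 6 2091 108508 = true := by decide +kernel

set_option maxRecDepth 1000000 in
theorem edges_3_58 : edgesRangeI iota E 3 2602 173099 = true := by decide +kernel

set_option maxRecDepth 1000000 in
theorem edges_6_93 : edgesRangeI iota E 6 1018 202710 = true := by decide +kernel

set_option maxRecDepth 1000000 in
theorem edges_2_36 : edgesRangeI iota E 2 2418 99862 = true := by decide +kernel

set_option maxRecDepth 1000000 in
theorem edges_6_39 : edgesRangeI iota E 6 2054 104171 = true := by decide +kernel

set_option maxRecDepth 1000000 in
theorem edges_6_79 : edgesRangeI iota E 6 1195 187067 = true := by decide +kernel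

set_option maxRecDepth 1000000 in
theorem edges_1_1 : edgesRangeI iota E 1 3017 3028 = true := by decide +kernel

set_option maxRecDepth 1000000 in
theorem edges_5_51 : edgesRangeI iota E 5 2029 180868 = true := by decide +kernel

set_option maxRecDepth 1000000 in
theorem edges_6_95 : edgesRangeI iota E 6 1022 204717 = true := by decide +kernel

set_option maxRecDepth 1000000 in
theorem edges_3_7 : edgesRangeI iota E 3 2893 23920 = true := by decide +kernel

set_option maxRecDepth 1000000 in
theorem edges_2_15 : edgesRangeI iota E 2 2956 42868 = true := by decide +kernel

set_option maxRecDepth 1000000 in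
theorem edges_6_46 : edgesRangeI iota E 6 2141 119233 = true := by decide +kernel

set_option maxRecDepth 1000000 in
theorem edges_1_71 : edgesRangeI iota E 1 1655 195186 = true := by decide +kernel

set_option maxRecDepth 1000000 in
theorem edges_3_52 : edgesRangeI iota E 3 2943 156667 = true := by decide +kernel

set_option maxRecDepth 1000000 in
theorem edges_6_85 : edgesRangeI iota E 6 1119 194174 = true := by decide +kernel

set_option maxRecDepth 1000000 in
theorem edges_1_10 : edgesRangeI iota E 1 3118 29944 = true := by decide +kernel

set_option maxRecDepth 1000000 in
theorem edges_2_84 : edgesRangeI iota E 2 1361 201308 = true := by decide +kernel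

set_option maxRecDepth 1000000 in
theorem edges_4_16 : edgesRangeI iota E 4 2763 46869 = true := by decide +kernel

set_option maxRecDepth 1000000 in
theorem edges_5_10 : edgesRangeI iota E 5 4029 40501 = true := by decide +kernel

set_option maxRecDepth 1000000 in
theorem edges_6_12 : edgesRangeI iota E 6 2627 33353 = true := by decide +kernel

set_option maxRecDepth 1000000 in
theorem edges_7_14 : edgesRangeI iota E 7 2537 38612 = true := by decide +kernel

set_option maxRecDepth 1000000 in
theorem edges_0_5 : edgesRangeI iota E 0 2478 12493 = true := by decide +kernel

set_option maxRecDepth 1000000 in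
theorem edges_0_86 : edgesRangeI iota E 0 1711 204618 = true := by decide +kernel

set_option maxRecDepth 1000000 in
theorem edges_1_56 : edgesRangeI iota E 1 2700 164460 = true := by decide +kernel

set_option maxRecDepth 1000000 in
theorem edges_3_21 : edgesRangeI iota E 3 3213 69682 = true := by decide +kernel

set_option maxRecDepth 1000000 in
theorem edges_4_7 : edgesRangeI iota E 4 3026 20577 = true := by decide +kernel

set_option maxRecDepth 1000000 in
theorem edges_5_60 : edgesRangeI iota E 5 1722 197668 = true := by decide +kernel

set_option maxRecDepth 1000000 in
theorem edges_7_44 : edgesRangeI iota E 7 2384 116618 = true := by decide +kernel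

set_option maxRecDepth 1000000 in
theorem aliases_28 : aliasRange E 2681 84425 = true := by decide +kernel

set_option maxRecDepth 1000000 in
theorem edges_0_50 : edgesRangeI iota E 0 2739 123239 = true := by decide +kernel

set_option maxRecDepth 1000000 in
theorem edges_1_67 : edgesRangeI iota E 1 1702 188552 = true := by decide +kernel

set_option maxRecDepth 1000000 in
theorem edges_4_22 : edgesRangeI iota E 4 2868 64339 = true := by decide +kernel

set_option maxRecDepth 1000000 in
theorem edges_4_64 : edgesRangeI iota E 4 1940 182696 = true := by decide +kernel

set_option maxRecDepth 1000000 in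
theorem edges_7_53 : edgesRangeI iota E 7 2280 138461 = true := by decide +kernel

set_option maxRecDepth 1000000 in
theorem aliases_36 : aliasRange E 2612 106780 = true := by decide +kernel

set_option maxRecDepth 1000000 in
theorem edges_0_6 : edgesRangeI iota E 0 2503 14971 = true := by decide +kernel

set_option maxRecDepth 1000000 in
theorem edges_0_29 : edgesRangeI iota E 0 2484 71934 = true := by decide +kernel

set_option maxRecDepth 1000000 in
theorem edges_0_89 : edgesRangeI iota E 0 1660 209646 = true := by decide +kernel

set_option maxRecDepth 1000000 in
theorem edges_2_3 : edgesRangeI iota E 2 2739 8895 = true := by decide +kernel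

set_option maxRecDepth 1000000 in
theorem edges_2_57 : edgesRangeI iota E 2 2561 149605 = true := by decide +kernel

set_option maxRecDepth 1000000 in
theorem edges_3_19 : edgesRangeI iota E 3 3400 62986 = true := by decide +kernel

set_option maxRecDepth 1000000 in
theorem edges_4_29 : edgesRangeI iota E 4 2882 85446 = true := by decide +kernel

set_option maxRecDepth 1000000 in
theorem edges_4_60 : edgesRangeI iota E 4 2911 172937 = true := by decide +kernel

set_option maxRecDepth 1000000 in
theorem edges_4_80 : edgesRangeI iota E 4 1608 211163 = true := by decide +kernel

set_option maxRecDepth 1000000 in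
theorem edges_5_67 : edgesRangeI iota E 5 1504 209337 = true := by decide +kernel

set_option maxRecDepth 1000000 in
theorem edges_6_54 : edgesRangeI iota E 6 1968 137147 = true := by decide +kernel

set_option maxRecDepth 1000000 in
theorem edges_7_28 : edgesRangeI iota E 7 2877 75895 = true := by decide +kernel

set_option maxRecDepth 1000000 in
theorem edges_7_58 : edgesRangeI iota E 7 2883 150686 = true := by decide +kernel

set_option maxRecDepth 1000000 in
theorem aliases_55 : aliasRange E 2058 152523 = true := by decide +kernel

set_option maxRecDepth 1000000 in
theorem edges_0_8 : edgesRangeI iota E 0 2490 19952 = true := by decide +kernel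

set_option maxRecDepth 1000000 in
theorem edges_0_58 : edgesRangeI iota E 0 2465 143499 = true := by decide +kernel

set_option maxRecDepth 1000000 in
theorem edges_0_88 : edgesRangeI iota E 0 1656 207990 = true := by decide +kernel

set_option maxRecDepth 1000000 in
theorem edges_1_20 : edgesRangeI iota E 1 3377 60930 = true := by decide +kernel

set_option maxRecDepth 1000000 in
theorem edges_2_4 : edgesRangeI iota E 2 2887 11634 = true := by decide +kernel

set_option maxRecDepth 1000000 in
theorem edges_2_42 : edgesRangeI iota E 2 2457 114092 = true := by decide +kernel

set_option maxRecDepth 1000000 in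
theorem edges_2_88 : edgesRangeI iota E 2 1197 206547 = true := by decide +kernel

set_option maxRecDepth 1000000 in
theorem edges_3_55 : edgesRangeI iota E 3 2672 165384 = true := by decide +kernel

set_option maxRecDepth 1000000 in
theorem edges_4_18 : edgesRangeI iota E 4 2931 52391 = true := by decide +kernel

set_option maxRecDepth 1000000 in
theorem edges_5_18 : edgesRangeI iota E 5 3966 72961 = true := by decide +kernel

set_option maxRecDepth 1000000 in
theorem edges_6_14 : edgesRangeI iota E 6 2445 39288 = true := by decide +kernel

set_option maxRecDepth 1000000 in
theorem edges_6_69 : edgesRangeI iota E 6 2243 171210 = true := by decide +kernel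

set_option maxRecDepth 1000000 in
theorem edges_7_45 : edgesRangeI iota E 7 2351 119002 = true := by decide +kernel

set_option maxRecDepth 1000000 in
theorem aliases_1 : aliasRange E 3150 3505 = true := by decide +kernel

set_option maxRecDepth 1000000 in
theorem edges_0_0 : edgesRangeI iota E 0 2455 0 = true := by decide +kernel

set_option maxRecDepth 1000000 in
theorem edges_0_28 : edgesRangeI iota E 0 2643 69291 = true := by decide +kernel

set_option maxRecDepth 1000000 in
theorem edges_0_42 : edgesRangeI iota E 0 2227 104663 = true := by decide +kernel

set_option maxRecDepth 1000000 in
theorem edges_0_59 : edgesRangeI iota E 0 2396 145964 = true := by decide +kernel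

set_option maxRecDepth 1000000 in
theorem edges_1_8 : edgesRangeI iota E 1 2604 24236 = true := by decide +kernel

set_option maxRecDepth 1000000 in
theorem edges_1_26 : edgesRangeI iota E 1 3453 80696 = true := by decide +kernel

set_option maxRecDepth 1000000 in
theorem edges_1_46 : edgesRangeI iota E 1 2620 136343 = true := by decide +kernel

set_option maxRecDepth 1000000 in
theorem edges_1_64 : edgesRangeI iota E 1 1751 183402 = true := by decide +kernel

set_option maxRecDepth 1000000 in
theorem edges_2_10 : edgesRangeI iota E 2 2974 28706 = true := by decide +kernel

set_option maxRecDepth 1000000 in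
theorem edges_2_25 : edgesRangeI iota E 2 2718 70348 = true := by decide +kernel

set_option maxRecDepth 1000000 in
theorem edges_2_47 : edgesRangeI iota E 2 2395 126096 = true := by decide +kernel

set_option maxRecDepth 1000000 in
theorem edges_2_72 : edgesRangeI iota E 2 1546 184252 = true := by decide +kernel

set_option maxRecDepth 1000000 in
theorem edges_3_6 : edgesRangeI iota E 3 3484 20436 = true := by decide +kernel

set_option maxRecDepth 1000000 in
theorem edges_3_24 : edgesRangeI iota E 3 3415 79724 = true := by decide +kernel

set_option maxRecDepth 1000000 in
theorem edges_3_45 : edgesRangeI iota E 3 2417 137907 = true := by decide +kernel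

set_option maxRecDepth 1000000 in
theorem edges_3_75 : edgesRangeI iota E 3 1374 201436 = true := by decide +kernel

set_option maxRecDepth 1000000 in
theorem edges_4_15 : edgesRangeI iota E 4 2897 43972 = true := by decide +kernel

set_option maxRecDepth 1000000 in
theorem edges_4_35 : edgesRangeI iota E 4 2693 102459 = true := by decide +kernel

set_option maxRecDepth 1000000 in
theorem edges_4_73 : edgesRangeI iota E 4 1734 199264 = true := by decide +kernel

set_option maxRecDepth 1000000 in
theorem edges_5_11 : edgesRangeI iota E 5 3877 44530 = true := by decide +kernel

set_option maxRecDepth 1000000 in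
theorem edges_5_20 : edgesRangeI iota E 5 4174 81278 = true := by decide +kernel

set_option maxRecDepth 1000000 in
theorem edges_5_34 : edgesRangeI iota E 5 3169 128291 = true := by decide +kernel

set_option maxRecDepth 1000000 in
theorem edges_5_50 : edgesRangeI iota E 5 2008 178860 = true := by decide +kernel

set_option maxRecDepth 1000000 in
theorem edges_6_8 : edgesRangeI iota E 6 2577 22682 = true := by decide +kernel

set_option maxRecDepth 1000000 in
theorem edges_6_47 : edgesRangeI iota E 6 1913 121374 = true := by decide +kernel

set_option maxRecDepth 1000000 in
theorem edges_6_84 : edgesRangeI iota E 6 1159 193015 = true := by decide +kernel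

set_option maxRecDepth 1000000 in
theorem edges_7_5 : edgesRangeI iota E 7 2773 13918 = true := by decide +kernel

set_option maxRecDepth 1000000 in
theorem edges_7_27 : edgesRangeI iota E 7 2454 73441 = true := by decide +kernel

set_option maxRecDepth 1000000 in
theorem edges_7_56 : edgesRangeI iota E 7 2331 145828 = true := by decide +kernel

set_option maxRecDepth 1000000 in
theorem edges_7_88 : edgesRangeI iota E 7 1372 208694 = true := by decide +kernel

set_option maxRecDepth 1000000 in
theorem aliases_16 : aliasRange E 3116 51790 = true := by decide +kernel

set_option maxRecDepth 1000000 in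
theorem aliases_37 : aliasRange E 2194 109392 = true := by decide +kernel

set_option maxRecDepth 1000000 in
theorem aliases_67 : aliasRange E 5120 177429 = true := by decide +kernel

set_option maxRecDepth 1000000 in
theorem rows_6 : rowsRange E RS 1500 9000 = true := by decide +kernel

set_option maxRecDepth 1000000 in
theorem rows_14 : rowsRange E RS 1500 21000 = true := by decide +kernel

set_option maxRecDepth 1000000 in
theorem rows_22 : rowsRange E RS 1500 33000 = true := by decide +kernel

set_option maxRecDepth 1000000 in
theorem rows_30 : rowsRange E RS 1500 45000 = true := by decide +kernel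

set_option maxRecDepth 1000000 in
theorem rows_38 : rowsRange E RS 1500 57000 = true := by decide +kernel

set_option maxRecDepth 1000000 in
theorem rows_46 : rowsRange E RS 1500 69000 = true := by decide +kernel

set_option maxRecDepth 1000000 in
theorem rows_54 : rowsRange E RS 1500 81000 = true := by decide +kernel

set_option maxRecDepth 1000000 in
theorem rows_62 : rowsRange E RS 1500 93000 = true := by decide +kernel

set_option maxRecDepth 1000000 in
theorem rows_70 : rowsRange E RS 1500 105000 = true := by decide +kernel

set_option maxRecDepth 1000000 in
theorem rows_78 : rowsRange E RS 1500 117000 = true := by decide +kernel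

set_option maxRecDepth 1000000 in
theorem rows_86 : rowsRange E RS 1500 129000 = true := by decide +kernel

set_option maxRecDepth 1000000 in
theorem rows_94 : rowsRange E RS 1500 141000 = true := by decide +kernel

set_option maxRecDepth 1000000 in
theorem rows_102 : rowsRange E RS 1500 153000 = true := by decide +kernel

set_option maxRecDepth 1000000 in
theorem rows_110 : rowsRange E RS 1500 165000 = true := by decide +kernel

set_option maxRecDepth 1000000 in
theorem rows_118 : rowsRange E RS 1500 177000 = true := by decide +kernel

set_option maxRecDepth 1000000 in
theorem rows_126 : rowsRange E RS 1500 189000 = true := by decide +kernel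

set_option maxRecDepth 1000000 in
theorem rows_134 : rowsRange E RS 1500 201000 = true := by decide +kernel

set_option maxRecDepth 1000000 in
theorem rows_142 : rowsRange E RS 1500 213000 = true := by decide +kernel

end Cfsg.Agent.Helper5.ONXATC
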