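import Cfsg.Agent.Helper5.ONXATCDatD
import Cfsg.Agent.Helper5.TCIB

/-! kernel checks of edges, aliases, rows: ONXATC -/

set_option autoImplicit false
set_option Elab.async false

namespace Cfsg.Agent.Helper5.ONXATC
open Cfsg.Agent.Helper5.TC Cfsg.Agent.Helper5.TCI

set_option maxRecDepth 1000000 in
theorem cnt_6 : cntFrom RS 20000 120000 0 = 9697 := by decide +kernel

set_option maxRecDepth 1000000 in
theorem edges_6_91 : edgesRangeI iota E 6 1042 200648 = true := by decide +kernel

set_option maxRecDepth 1000000 in
theorem edges_6_103 : edgesRangeI iota E 6 796 212131 = true := by decide +kernel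

set_option maxRecDepth 1000000 in
theorem edges_6_70 : edgesRangeI iota E 6 2306 173453 = true := by decide +kernel

set_option maxRecDepth 1000000 in
theorem edges_3_73 : edgesRangeI iota E 3 1371 198692 = true := by decide +kernel

set_option maxRecDepth 1000000 in
theorem edges_7_17 : edgesRangeI iota E 7 2517 46311 = true := by decide +kernel

set_option maxRecDepth 1000000 in
theorem edges_2_49 : edgesRangeI iota E 2 2503 131069 = true := by decide +kernel

set_option maxRecDepth 1000000 in
theorem edges_6_45 : edgesRangeI iota E 6 2041 117192 = true := by decide +kernel

set_option maxRecDepth 1000000 in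
theorem edges_6_94 : edgesRangeI iota E 6 989 203728 = true := by decide +kernel

set_option maxRecDepth 1000000 in
theorem edges_1_66 : edgesRangeI iota E 1 1666 186886 = true := by decide +kernel

set_option maxRecDepth 1000000 in
theorem edges_6_35 : edgesRangeI iota E 6 2249 95377 = true := by decide +kernel

set_option maxRecDepth 1000000 in
theorem edges_1_47 : edgesRangeI iota E 1 2541 138963 = true := by decide +kernel

set_option maxRecDepth 1000000 in
theorem edges_3_48 : edgesRangeI iota E 3 2505 145676 = true := by decide +kernel

set_option maxRecDepth 1000000 in
theorem edges_2_19 : edgesRangeI iota E 2 2915 53460 = true := by decide +kernel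

set_option maxRecDepth 1000000 in
theorem edges_7_55 : edgesRangeI iota E 7 2497 143331 = true := by decide +kernel

set_option maxRecDepth 1000000 in
theorem edges_1_78 : edgesRangeI iota E 1 1510 205978 = true := by decide +kernel

set_option maxRecDepth 1000000 in
theorem edges_3_60 : edgesRangeI iota E 3 1768 178270 = true := by decide +kernel

set_option maxRecDepth 1000000 in
theorem edges_6_96 : edgesRangeI iota E 6 967 205739 = true := by decide +kernel

set_option maxRecDepth 1000000 in
theorem edges_1_22 : edgesRangeI iota E 1 3201 67538 = true := by decide +kernel

set_option maxRecDepth 1000000 in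
theorem edges_2_89 : edgesRangeI iota E 2 1168 207744 = true := by decide +kernel

set_option maxRecDepth 1000000 in
theorem edges_4_17 : edgesRangeI iota E 4 2759 49632 = true := by decide +kernel

set_option maxRecDepth 1000000 in
theorem edges_5_22 : edgesRangeI iota E 5 4208 89722 = true := by decide +kernel

set_option maxRecDepth 1000000 in
theorem edges_6_19 : edgesRangeI iota E 6 2547 52209 = true := by decide +kernel

set_option maxRecDepth 1000000 in
theorem edges_7_21 : edgesRangeI iota E 7 2574 56925 = true := by decide +kernel

set_option maxRecDepth 1000000 in
theorem edges_0_19 : edgesRangeI iota E 0 2440 47076 = true := by decide +kernel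

set_option maxRecDepth 1000000 in
theorem edges_0_91 : edgesRangeI iota E 0 1612 212972 = true := by decide +kernel

set_option maxRecDepth 1000000 in
theorem edges_1_63 : edgesRangeI iota E 1 1905 181497 = true := by decide +kernel

set_option maxRecDepth 1000000 in
theorem edges_3_30 : edgesRangeI iota E 3 2426 98405 = true := by decide +kernel

set_option maxRecDepth 1000000 in
theorem edges_4_11 : edgesRangeI iota E 4 2876 32084 = true := by decide +kernel

set_option maxRecDepth 1000000 in
theorem edges_6_15 : edgesRangeI iota E 6 2634 41733 = true := by decide +kernel

set_option maxRecDepth 1000000 in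
theorem edges_7_57 : edgesRangeI iota E 7 2527 148159 = true := by decide +kernel

set_option maxRecDepth 1000000 in
theorem aliases_45 : aliasRange E 2234 129513 = true := by decide +kernel

set_option maxRecDepth 1000000 in
theorem edges_0_63 : edgesRangeI iota E 0 2779 156536 = true := by decide +kernel

set_option maxRecDepth 1000000 in
theorem edges_2_64 : edgesRangeI iota E 2 2720 167233 = true := by decide +kernel

set_option maxRecDepth 1000000 in
theorem edges_4_23 : edgesRangeI iota E 4 3021 67207 = true := by decide +kernel

set_option maxRecDepth 1000000 in
theorem edges_5_48 : edgesRangeI iota E 5 3204 172863 = true := by decide +kernel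

set_option maxRecDepth 1000000 in
theorem edges_7_54 : edgesRangeI iota E 7 2590 140741 = true := by decide +kernel

set_option maxRecDepth 1000000 in
theorem aliases_40 : aliasRange E 2664 116449 = true := by decide +kernel

set_option maxRecDepth 1000000 in
theorem edges_0_7 : edgesRangeI iota E 0 2478 17474 = true := by decide +kernel

set_option maxRecDepth 1000000 in
theorem edges_0_31 : edgesRangeI iota E 0 2801 76967 = true := by decide +kernel

set_option maxRecDepth 1000000 in
theorem edges_1_17 : edgesRangeI iota E 1 2941 51650 = true := by decide +kernel

set_option maxRecDepth 1000000 in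
theorem edges_2_24 : edgesRangeI iota E 2 2830 67518 = true := by decide +kernel

set_option maxRecDepth 1000000 in
theorem edges_2_63 : edgesRangeI iota E 2 2236 164997 = true := by decide +kernel

set_option maxRecDepth 1000000 in
theorem edges_3_31 : edgesRangeI iota E 3 2508 100831 = true := by decide +kernel

set_option maxRecDepth 1000000 in
theorem edges_4_31 : edgesRangeI iota E 4 3121 91190 = true := by decide +kernel

set_option maxRecDepth 1000000 in
theorem edges_4_61 : edgesRangeI iota E 4 2755 175848 = true := by decide +kernel

set_option maxRecDepth 1000000 in
theorem edges_5_2 : edgesRangeI iota E 5 3872 8262 = true := by decide +kernel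

set_option maxRecDepth 1000000 in
theorem edges_6_4 : edgesRangeI iota E 6 2722 11601 = true := by decide +kernel

set_option maxRecDepth 1000000 in
theorem edges_6_61 : edgesRangeI iota E 6 2592 152060 = true := by decide +kernel

set_option maxRecDepth 1000000 in
theorem edges_7_30 : edgesRangeI iota E 7 2655 81705 = true := by decide +kernel

set_option maxRecDepth 1000000 in
theorem edges_7_71 : edgesRangeI iota E 7 1684 182696 = true := by decide +kernel

set_option maxRecDepth 1000000 in
theorem aliases_60 : aliasRange E 1932 162513 = true := by decide +kernel

set_option maxRecDepth 1000000 in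
theorem edges_0_14 : edgesRangeI iota E 0 2559 34589 = true := by decide +kernel

set_option maxRecDepth 1000000 in
theorem edges_0_65 : edgesRangeI iota E 0 2904 162115 = true := by decide +kernel

set_option maxRecDepth 1000000 in
theorem edges_0_90 : edgesRangeI iota E 0 1666 211306 = true := by decide +kernel

set_option maxRecDepth 1000000 in
theorem edges_1_33 : edgesRangeI iota E 1 2610 101658 = true := by decide +kernel

set_option maxRecDepth 1000000 in
theorem edges_2_9 : edgesRangeI iota E 2 2689 26017 = true := by decide +kernel

set_option maxRecDepth 1000000 in
theorem edges_2_44 : edgesRangeI iota E 2 2170 118691 = true := by decide +kernel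

set_option maxRecDepth 1000000 in
theorem edges_3_0 : edgesRangeI iota E 3 3472 0 = true := by decide +kernel

set_option maxRecDepth 1000000 in
theorem edges_3_64 : edgesRangeI iota E 3 1576 184880 = true := by decide +kernel

set_option maxRecDepth 1000000 in
theorem edges_4_34 : edgesRangeI iota E 4 2760 99699 = true := by decide +kernel

set_option maxRecDepth 1000000 in
theorem edges_5_33 : edgesRangeI iota E 5 3009 125282 = true := by decide +kernel

set_option maxRecDepth 1000000 in
theorem edges_6_18 : edgesRangeI iota E 6 2603 49606 = true := by decide +kernel

set_option maxRecDepth 1000000 in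
theorem edges_6_80 : edgesRangeI iota E 6 1196 188262 = true := by decide +kernel

set_option maxRecDepth 1000000 in
theorem edges_7_60 : edgesRangeI iota E 7 2675 156309 = true := by decide +kernel

set_option maxRecDepth 1000000 in
theorem aliases_2 : aliasRange E 3046 6655 = true := by decide +kernel

set_option maxRecDepth 1000000 in
theorem edges_0_3 : edgesRangeI iota E 0 2511 7607 = true := by decide +kernel

set_option maxRecDepth 1000000 in
theorem edges_0_30 : edgesRangeI iota E 0 2549 74418 = true := by decide +kernel

set_option maxRecDepth 1000000 in
theorem edges_0_45 : edgesRangeI iota E 0 2342 111452 = true := by decide +kernel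

set_option maxRecDepth 1000000 in
theorem edges_0_61 : edgesRangeI iota E 0 2721 151005 = true := by decide +kernel

set_option maxRecDepth 1000000 in
theorem edges_1_9 : edgesRangeI iota E 1 3104 26840 = true := by decide +kernel

set_option maxRecDepth 1000000 in
theorem edges_1_28 : edgesRangeI iota E 1 3060 87210 = true := by decide +kernel

set_option maxRecDepth 1000000 in
theorem edges_1_49 : edgesRangeI iota E 1 2659 144276 = true := by decide +kernel

set_option maxRecDepth 1000000 in
theorem edges_1_69 : edgesRangeI iota E 1 1674 191877 = true := by decide +kernel

set_option maxRecDepth 1000000 in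
theorem edges_2_12 : edgesRangeI iota E 2 3094 34484 = true := by decide +kernel

set_option maxRecDepth 1000000 in
theorem edges_2_27 : edgesRangeI iota E 2 3107 75459 = true := by decide +kernel

set_option maxRecDepth 1000000 in
theorem edges_2_48 : edgesRangeI iota E 2 2578 128491 = true := by decide +kernel

set_option maxRecDepth 1000000 in
theorem edges_2_76 : edgesRangeI iota E 2 1421 190160 = true := by decide +kernel

set_option maxRecDepth 1000000 in
theorem edges_3_8 : edgesRangeI iota E 3 3387 26813 = true := by decide +kernel

set_option maxRecDepth 1000000 in
theorem edges_3_27 : edgesRangeI iota E 3 3230 89576 = true := by decide +kernel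

set_option maxRecDepth 1000000 in
theorem edges_3_47 : edgesRangeI iota E 3 2657 143019 = true := by decide +kernel

set_option maxRecDepth 1000000 in
theorem edges_3_78 : edgesRangeI iota E 3 1317 205502 = true := by decide +kernel

set_option maxRecDepth 1000000 in
theorem edges_4_19 : edgesRangeI iota E 4 2832 55322 = true := by decide +kernel

set_option maxRecDepth 1000000 in
theorem edges_4_38 : edgesRangeI iota E 4 2590 110182 = true := by decide +kernel

set_option maxRecDepth 1000000 in
theorem edges_4_75 : edgesRangeI iota E 4 1704 202702 = true := by decide +kernel

set_option maxRecDepth 1000000 in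
theorem edges_5_12 : edgesRangeI iota E 5 4004 48407 = true := by decide +kernel

set_option maxRecDepth 1000000 in
theorem edges_5_21 : edgesRangeI iota E 5 4270 85452 = true := by decide +kernel

set_option maxRecDepth 1000000 in
theorem edges_5_36 : edgesRangeI iota E 5 2864 134437 = true := by decide +kernel

set_option maxRecDepth 1000000 in
theorem edges_5_53 : edgesRangeI iota E 5 1933 184846 = true := by decide +kernel

set_option maxRecDepth 1000000 in
theorem edges_6_9 : edgesRangeI iota E 6 2469 25259 = true := by decide +kernel

set_option maxRecDepth 1000000 in
theorem edges_6_52 : edgesRangeI iota E 6 2294 132737 = true := by decide +kernel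

set_option maxRecDepth 1000000 in
theorem edges_6_86 : edgesRangeI iota E 6 1156 195293 = true := by decide +kernel

set_option maxRecDepth 1000000 in
theorem edges_7_6 : edgesRangeI iota E 7 2734 16691 = true := by decide +kernel

set_option maxRecDepth 1000000 in
theorem edges_7_29 : edgesRangeI iota E 7 2933 78772 = true := by decide +kernel

set_option maxRecDepth 1000000 in
theorem edges_7_59 : edgesRangeI iota E 7 2740 153569 = true := by decide +kernel

set_option maxRecDepth 1000000 in
theorem aliases_4 : aliasRange E 3220 13024 = true := by decide +kernel

set_option maxRecDepth 1000000 in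
theorem aliases_18 : aliasRange E 3449 57366 = true := by decide +kernel

set_option maxRecDepth 1000000 in
theorem aliases_39 : aliasRange E 2291 114158 = true := by decide +kernel

set_option maxRecDepth 1000000 in
theorem aliases_68 : aliasRange E 6607 182549 = true := by decide +kernel

set_option maxRecDepth 1000000 in
theorem rows_7 : rowsRange E RS 1500 10500 = true := by decide +kernel

set_option maxRecDepth 1000000 in
theorem rows_15 : rowsRange E RS 1500 22500 = true := by decide +kernel

set_option maxRecDepth 1000000 in
theorem rows_23 : rowsRange E RS 1500 34500 = true := by decide +kernel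

set_option maxRecDepth 1000000 in
theorem rows_31 : rowsRange E RS 1500 46500 = true := by decide +kernel

set_option maxRecDepth 1000000 in
theorem rows_39 : rowsRange E RS 1500 58500 = true := by decide +kernel

set_option maxRecDepth 1000000 in
theorem rows_47 : rowsRange E RS 1500 70500 = true := by decide +kernel

set_option maxRecDepth 1000000 in
theorem rows_55 : rowsRange E RS 1500 82500 = true := by decide +kernel

set_option maxRecDepth 1000000 in
theorem rows_63 : rowsRange E RS 1500 94500 = true := by decide +kernel

set_option maxRecDepth 1000000 in
theorem rows_71 : rowsRange E RS 1500 106500 = true := by decide +kernel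

set_option maxRecDepth 1000000 in
theorem rows_79 : rowsRange E RS 1500 118500 = true := by decide +kernel

set_option maxRecDepth 1000000 in
theorem rows_87 : rowsRange E RS 1500 130500 = true := by decide +kernel

set_option maxRecDepth 1000000 in
theorem rows_95 : rowsRange E RS 1500 142500 = true := by decide +kernel

set_option maxRecDepth 1000000 in
theorem rows_103 : rowsRange E RS 1500 154500 = true := by decide +kernel

set_option maxRecDepth 1000000 in
theorem rows_111 : rowsRange E RS 1500 166500 = true := by decide +kernel

set_option maxRecDepth 1000000 in
theorem rows_119 : rowsRange E RS 1500 178500 = true := by decide +kernel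

set_option maxRecDepth 1000000 in
theorem rows_127 : rowsRange E RS 1500 190500 = true := by decide +kernel

set_option maxRecDepth 1000000 in
theorem rows_135 : rowsRange E RS 1500 202500 = true := by decide +kernel

set_option maxRecDepth 1000000 in
theorem edges_7_92 : edgesRangeI iota E 7 742 213993 = true := by decide +kernel

set_option maxRecDepth 1000000 in
theorem edges_6_106 : edgesRangeI iota E 6 157 214578 = true := by decide +kernel

end Cfsg.Agent.Helper5.ONXATC
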