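import Cfsg.Agent.Helper5.ONXATCDatD
import Cfsg.Agent.Helper5.TCIB

/-! kernel checks of edges, aliases, rows: ONXATC -/

set_option autoImplicit false
set_option Elab.async false

namespace Cfsg.Agent.Helper5.ONXATC
open Cfsg.Agent.Helper5.TC Cfsg.Agent.Helper5.TCI

set_option maxRecDepth 1000000 in
theorem cnt_7 : cntFrom RS 20000 140000 0 = 6721 := by decide +kernel

set_option maxRecDepth 1000000 in
theorem edges_6_98 : edgesRangeI iota E 6 911 207673 = true := by decide +kernel

set_option maxRecDepth 1000000 in
theorem edges_6_104 : edgesRangeI iota E 6 847 212927 = true := by decide +kernel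

set_option maxRecDepth 1000000 in
theorem edges_6_72 : edgesRangeI iota E 6 1377 177960 = true := by decide +kernel

set_option maxRecDepth 1000000 in
theorem edges_5_26 : edgesRangeI iota E 5 2993 103967 = true := by decide +kernel

set_option maxRecDepth 1000000 in
theorem edges_7_25 : edgesRangeI iota E 7 2835 67861 = true := by decide +kernel

set_option maxRecDepth 1000000 in
theorem edges_2_74 : edgesRangeI iota E 2 1387 187308 = true := by decide +kernel

set_option maxRecDepth 1000000 in
theorem edges_6_49 : edgesRangeI iota E 6 2238 125893 = true := by decide +kernel

set_option maxRecDepth 1000000 in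
theorem edges_6_100 : edgesRangeI iota E 6 840 209452 = true := by decide +kernel

set_option maxRecDepth 1000000 in
theorem edges_2_53 : edgesRangeI iota E 2 2418 140289 = true := by decide +kernel

set_option maxRecDepth 1000000 in
theorem edges_6_36 : edgesRangeI iota E 6 2120 97626 = true := by decide +kernel

set_option maxRecDepth 1000000 in
theorem edges_1_83 : edgesRangeI iota E 1 1234 213012 = true := by decide +kernel

set_option maxRecDepth 1000000 in
theorem edges_5_32 : edgesRangeI iota E 5 3174 122108 = true := by decide +kernel

set_option maxRecDepth 1000000 in
theorem edges_2_31 : edgesRangeI iota E 2 2591 86934 = true := by decide +kernel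

set_option maxRecDepth 1000000 in
theorem edges_7_70 : edgesRangeI iota E 7 1709 180987 = true := by decide +kernel

set_option maxRecDepth 1000000 in
theorem edges_2_8 : edgesRangeI iota E 2 2611 23406 = true := by decide +kernel

set_option maxRecDepth 1000000 in
theorem edges_3_68 : edgesRangeI iota E 3 1569 191250 = true := by decide +kernel

set_option maxRecDepth 1000000 in
theorem edges_7_65 : edgesRangeI iota E 7 2596 169648 = true := by decide +kernel

set_option maxRecDepth 1000000 in
theorem edges_1_23 : edgesRangeI iota E 1 3168 70739 = true := by decide +kernel

set_option maxRecDepth 1000000 in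
theorem edges_2_93 : edgesRangeI iota E 2 1065 212278 = true := by decide +kernel

set_option maxRecDepth 1000000 in
theorem edges_4_36 : edgesRangeI iota E 4 2510 105152 = true := by decide +kernel

set_option maxRecDepth 1000000 in
theorem edges_5_31 : edgesRangeI iota E 5 2999 119109 = true := by decide +kernel

set_option maxRecDepth 1000000 in
theorem edges_6_65 : edgesRangeI iota E 6 2461 161768 = true := by decide +kernel

set_option maxRecDepth 1000000 in
theorem edges_7_23 : edgesRangeI iota E 7 2786 62542 = true := by decide +kernel

set_option maxRecDepth 1000000 in
theorem edges_0_27 : edgesRangeI iota E 0 2462 66829 = true := by decide +kernel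

set_option maxRecDepth 1000000 in
theorem edges_1_25 : edgesRangeI iota E 1 3488 77208 = true := by decide +kernel

set_option maxRecDepth 1000000 in
theorem edges_1_80 : edgesRangeI iota E 1 1397 208917 = true := by decide +kernel

set_option maxRecDepth 1000000 in
theorem edges_3_39 : edgesRangeI iota E 3 2713 121814 = true := by decide +kernel

set_option maxRecDepth 1000000 in
theorem edges_4_32 : edgesRangeI iota E 4 2713 94311 = true := by decide +kernel

set_option maxRecDepth 1000000 in
theorem edges_7_1 : edgesRangeI iota E 7 2899 2938 = true := by decide +kernel

set_option maxRecDepth 1000000 in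
theorem edges_7_78 : edgesRangeI iota E 7 1495 193956 = true := by decide +kernel

set_option maxRecDepth 1000000 in
theorem aliases_59 : aliasRange E 2027 160486 = true := by decide +kernel

set_option maxRecDepth 1000000 in
theorem edges_0_67 : edgesRangeI iota E 0 2596 167598 = true := by decide +kernel

set_option maxRecDepth 1000000 in
theorem edges_2_78 : edgesRangeI iota E 2 1487 193104 = true := by decide +kernel

set_option maxRecDepth 1000000 in
theorem edges_4_41 : edgesRangeI iota E 4 2611 118002 = true := by decide +kernel

set_option maxRecDepth 1000000 in
theorem edges_5_68 : edgesRangeI iota E 5 1441 210841 = true := by decide +kernel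

set_option maxRecDepth 1000000 in
theorem edges_7_63 : edgesRangeI iota E 7 2517 164517 = true := by decide +kernel

set_option maxRecDepth 1000000 in
theorem aliases_44 : aliasRange E 2540 126973 = true := by decide +kernel

set_option maxRecDepth 1000000 in
theorem edges_0_9 : edgesRangeI iota E 0 2415 22442 = true := by decide +kernel

set_option maxRecDepth 1000000 in
theorem edges_0_46 : edgesRangeI iota E 0 2425 113794 = true := by decide +kernel

set_option maxRecDepth 1000000 in
theorem edges_1_21 : edgesRangeI iota E 1 3231 64307 = true := by decide +kernel

set_option maxRecDepth 1000000 in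
theorem edges_2_26 : edgesRangeI iota E 2 2393 73066 = true := by decide +kernel

set_option maxRecDepth 1000000 in
theorem edges_2_69 : edgesRangeI iota E 2 1629 179301 = true := by decide +kernel

set_option maxRecDepth 1000000 in
theorem edges_3_36 : edgesRangeI iota E 3 2535 114085 = true := by decide +kernel

set_option maxRecDepth 1000000 in
theorem edges_4_33 : edgesRangeI iota E 4 2675 97024 = true := by decide +kernel

set_option maxRecDepth 1000000 in
theorem edges_4_62 : edgesRangeI iota E 4 2077 178603 = true := by decide +kernel

set_option maxRecDepth 1000000 in
theorem edges_5_27 : edgesRangeI iota E 5 2857 106960 = true := by decide +kernel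

set_option maxRecDepth 1000000 in
theorem edges_6_13 : edgesRangeI iota E 6 3308 35980 = true := by decide +kernel

set_option maxRecDepth 1000000 in
theorem edges_6_66 : edgesRangeI iota E 6 2348 164229 = true := by decide +kernel

set_option maxRecDepth 1000000 in
theorem edges_7_34 : edgesRangeI iota E 7 2690 92353 = true := by decide +kernel

set_option maxRecDepth 1000000 in
theorem edges_7_77 : edgesRangeI iota E 7 1600 192356 = true := by decide +kernel

set_option maxRecDepth 1000000 in
theorem aliases_61 : aliasRange E 2144 164445 = true := by decide +kernel

set_option maxRecDepth 1000000 in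
theorem edges_0_15 : edgesRangeI iota E 0 2627 37148 = true := by decide +kernel

set_option maxRecDepth 1000000 in
theorem edges_0_71 : edgesRangeI iota E 0 1982 177704 = true := by decide +kernel

set_option maxRecDepth 1000000 in
theorem edges_1_0 : edgesRangeI iota E 1 3028 0 = true := by decide +kernel

set_option maxRecDepth 1000000 in
theorem edges_1_39 : edgesRangeI iota E 1 2496 117624 = true := by decide +kernel

set_option maxRecDepth 1000000 in
theorem edges_2_16 : edgesRangeI iota E 2 2492 45824 = true := by decide +kernel

set_option maxRecDepth 1000000 in
theorem edges_2_52 : edgesRangeI iota E 2 2202 138087 = true := by decide +kernel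

set_option maxRecDepth 1000000 in
theorem edges_3_13 : edgesRangeI iota E 3 3482 43228 = true := by decide +kernel

set_option maxRecDepth 1000000 in
theorem edges_3_65 : edgesRangeI iota E 3 1663 186456 = true := by decide +kernel

set_option maxRecDepth 1000000 in
theorem edges_4_43 : edgesRangeI iota E 4 3156 123189 = true := by decide +kernel

set_option maxRecDepth 1000000 in
theorem edges_5_35 : edgesRangeI iota E 5 2977 131460 = true := by decide +kernel

set_option maxRecDepth 1000000 in
theorem edges_6_24 : edgesRangeI iota E 6 2335 66146 = true := by decide +kernel

set_option maxRecDepth 1000000 in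
theorem edges_6_90 : edgesRangeI iota E 6 1061 199587 = true := by decide +kernel

set_option maxRecDepth 1000000 in
theorem edges_7_68 : edgesRangeI iota E 7 1946 177392 = true := by decide +kernel

set_option maxRecDepth 1000000 in
theorem aliases_3 : aliasRange E 3323 9701 = true := by decide +kernel

set_option maxRecDepth 1000000 in
theorem edges_0_12 : edgesRangeI iota E 0 2579 29509 = true := by decide +kernel

set_option maxRecDepth 1000000 in
theorem edges_0_32 : edgesRangeI iota E 0 2841 79768 = true := by decide +kernel

set_option maxRecDepth 1000000 in
theorem edges_0_48 : edgesRangeI iota E 0 2233 118697 = true := by decide +kernel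

set_option maxRecDepth 1000000 in
theorem edges_0_69 : edgesRangeI iota E 0 2352 172711 = true := by decide +kernel

set_option maxRecDepth 1000000 in
theorem edges_1_13 : edgesRangeI iota E 1 3014 39597 = true := by decide +kernel

set_option maxRecDepth 1000000 in
theorem edges_1_29 : edgesRangeI iota E 1 3069 90270 = true := by decide +kernel

set_option maxRecDepth 1000000 in
theorem edges_1_51 : edgesRangeI iota E 1 2934 149458 = true := by decide +kernel

set_option maxRecDepth 1000000 in
theorem edges_1_70 : edgesRangeI iota E 1 1635 193551 = true := by decide +kernel

set_option maxRecDepth 1000000 in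
theorem edges_2_13 : edgesRangeI iota E 2 2751 37578 = true := by decide +kernel

set_option maxRecDepth 1000000 in
theorem edges_2_29 : edgesRangeI iota E 2 2657 81786 = true := by decide +kernel

set_option maxRecDepth 1000000 in
theorem edges_2_58 : edgesRangeI iota E 2 2625 152166 = true := by decide +kernel

set_option maxRecDepth 1000000 in
theorem edges_2_80 : edgesRangeI iota E 2 1440 195962 = true := by decide +kernel

set_option maxRecDepth 1000000 in
theorem edges_3_11 : edgesRangeI iota E 3 3602 36512 = true := by decide +kernel

set_option maxRecDepth 1000000 in
theorem edges_3_32 : edgesRangeI iota E 3 2550 103339 = true := by decide +kernel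

set_option maxRecDepth 1000000 in
theorem edges_3_49 : edgesRangeI iota E 3 2619 148181 = true := by decide +kernel

set_option maxRecDepth 1000000 in
theorem edges_3_80 : edgesRangeI iota E 3 1260 208167 = true := by decide +kernel

set_option maxRecDepth 1000000 in
theorem edges_4_20 : edgesRangeI iota E 4 3052 58154 = true := by decide +kernel

set_option maxRecDepth 1000000 in
theorem edges_4_49 : edgesRangeI iota E 4 3035 140202 = true := by decide +kernel

set_option maxRecDepth 1000000 in
theorem edges_5_0 : edgesRangeI iota E 5 4065 0 = true := by decide +kernel

set_option maxRecDepth 1000000 in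
theorem edges_5_13 : edgesRangeI iota E 5 3975 52411 = true := by decide +kernel

set_option maxRecDepth 1000000 in
theorem edges_5_23 : edgesRangeI iota E 5 3420 93930 = true := by decide +kernel

set_option maxRecDepth 1000000 in
theorem edges_5_37 : edgesRangeI iota E 5 2829 137301 = true := by decide +kernel

set_option maxRecDepth 1000000 in
theorem edges_5_54 : edgesRangeI iota E 5 1771 186779 = true := by decide +kernel

set_option maxRecDepth 1000000 in
theorem edges_6_10 : edgesRangeI iota E 6 2952 27728 = true := by decide +kernel

set_option maxRecDepth 1000000 in
theorem edges_6_55 : edgesRangeI iota E 6 2055 139115 = true := by decide +kernel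

set_option maxRecDepth 1000000 in
theorem edges_6_87 : edgesRangeI iota E 6 1009 196449 = true := by decide +kernel

set_option maxRecDepth 1000000 in
theorem edges_7_9 : edgesRangeI iota E 7 2532 24885 = true := by decide +kernel

set_option maxRecDepth 1000000 in
theorem edges_7_32 : edgesRangeI iota E 7 2755 86947 = true := by decide +kernel

set_option maxRecDepth 1000000 in
theorem edges_7_61 : edgesRangeI iota E 7 2771 158984 = true := by decide +kernel

set_option maxRecDepth 1000000 in
theorem aliases_5 : aliasRange E 3331 16244 = true := by decide +kernel

set_option maxRecDepth 1000000 in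
theorem aliases_26 : aliasRange E 2305 79637 = true := by decide +kernel

set_option maxRecDepth 1000000 in
theorem aliases_43 : aliasRange E 2369 124604 = true := by decide +kernel

set_option maxRecDepth 1000000 in
theorem aliases_69 : aliasRange E 6913 189156 = true := by decide +kernel

set_option maxRecDepth 1000000 in
theorem rows_8 : rowsRange E RS 1500 12000 = true := by decide +kernel

set_option maxRecDepth 1000000 in
theorem rows_16 : rowsRange E RS 1500 24000 = true := by decide +kernel

set_option maxRecDepth 1000000 in
theorem rows_24 : rowsRange E RS 1500 36000 = true := by decide +kernel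

set_option maxRecDepth 1000000 in
theorem rows_32 : rowsRange E RS 1500 48000 = true := by decide +kernel

set_option maxRecDepth 1000000 in
theorem rows_40 : rowsRange E RS 1500 60000 = true := by decide +kernel

set_option maxRecDepth 1000000 in
theorem rows_48 : rowsRange E RS 1500 72000 = true := by decide +kernel

set_option maxRecDepth 1000000 in
theorem rows_56 : rowsRange E RS 1500 84000 = true := by decide +kernel

set_option maxRecDepth 1000000 in
theorem rows_64 : rowsRange E RS 1500 96000 = true := by decide +kernel

set_option maxRecDepth 1000000 in
theorem rows_72 : rowsRange E RS 1500 108000 = true := by decide +kernel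

set_option maxRecDepth 1000000 in
theorem rows_80 : rowsRange E RS 1500 120000 = true := by decide +kernel

set_option maxRecDepth 1000000 in
theorem rows_88 : rowsRange E RS 1500 132000 = true := by decide +kernel

set_option maxRecDepth 1000000 in
theorem rows_96 : rowsRange E RS 1500 144000 = true := by decide +kernel

set_option maxRecDepth 1000000 in
theorem rows_104 : rowsRange E RS 1500 156000 = true := by decide +kernel

set_option maxRecDepth 1000000 in
theorem rows_112 : rowsRange E RS 1500 168000 = true := by decide +kernel

set_option maxRecDepth 1000000 in
theorem rows_120 : rowsRange E RS 1500 180000 = true := by decide +kernel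

set_option maxRecDepth 1000000 in
theorem rows_128 : rowsRange E RS 1500 192000 = true := by decide +kernel

set_option maxRecDepth 1000000 in
theorem rows_136 : rowsRange E RS 1500 204000 = true := by decide +kernel

set_option maxRecDepth 1000000 in
theorem edges_3_85 : edgesRangeI iota E 3 568 214167 = true := by decide +kernel

set_option maxRecDepth 1000000 in
theorem edges_2_95 : edgesRangeI iota E 2 346 214389 = true := by decide +kernel

end Cfsg.Agent.Helper5.ONXATC
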