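import Cfsg.Agent.Helper5.ONXATCDatD
import Cfsg.Agent.Helper5.ONXATCDatT
import Cfsg.Agent.Helper5.TCIB

/-! kernel checks of the coset table: ONXATC -/

set_option autoImplicit false
set_option Elab.async false

namespace Cfsg.Agent.Helper5.ONXATC
open Cfsg.Agent.Helper5.TC Cfsg.Agent.Helper5.TCI

set_option maxRecDepth 1000000 in
theorem relc_0_0 : fixPtsF W_0 100000 0 = true := by decide +kernel

set_option maxRecDepth 1000000 in
theorem relc_4_0 : fixPtsF W_4 50000 0 = true := by decide +kernel

set_option maxRecDepth 1000000 in
theorem relc_13_0 : fixPtsF W_13 50000 0 = true := by decide +kernel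

set_option maxRecDepth 1000000 in
theorem relc_1_2 : fixPtsF W_1 33333 66666 = true := by decide +kernel

set_option maxRecDepth 1000000 in
theorem relc_22_0 : fixPtsF W_22 20000 0 = true := by decide +kernel

set_option maxRecDepth 1000000 in
theorem relc_23_4 : fixPtsF W_23 20000 80000 = true := by decide +kernel

set_option maxRecDepth 1000000 in
theorem relc_26_2 : fixPtsF W_26 18181 36362 = true := by decide +kernel

set_option maxRecDepth 1000000 in
theorem relc_12_0 : fixPtsF W_12 12500 0 = true := by decide +kernel

set_option maxRecDepth 1000000 in
theorem relc_25_1 : fixPtsF W_25 10000 10000 = true := by decide +kernel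

set_option maxRecDepth 1000000 in
theorem relc_25_11 : fixPtsF W_25 10000 110000 = true := by decide +kernel

set_option maxRecDepth 1000000 in
theorem relc_16_2 : fixPtsF W_16 22760 100000 = true := by decide +kernel

set_option maxRecDepth 1000000 in
theorem inv_4_0 : invRowFI ctF 122760 4 4 50000 0 = true := by decide +kernel

set_option maxRecDepth 1000000 in
theorem relc_11_1 : fixPtsF W_11 22760 100000 = true := by decide +kernel

set_option maxRecDepth 1000000 in
theorem conn_1 : connF ctF 8 50000 50000 = true := by decide +kernel

set_option maxRecDepth 1000000 in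
theorem relc_23_6 : fixPtsF W_23 2760 120000 = true := by decide +kernel

end Cfsg.Agent.Helper5.ONXATC
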