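import Cfsg.Agent.Helper5.ONXATCDatD
import Cfsg.Agent.Helper5.ONXATCDatT
import Cfsg.Agent.Helper5.TCIB

/-! kernel checks of the coset table: ONXATC -/

set_option autoImplicit false
set_option Elab.async false

namespace Cfsg.Agent.Helper5.ONXATC
open Cfsg.Agent.Helper5.TC Cfsg.Agent.Helper5.TCI

set_option maxRecDepth 1000000 in
theorem relc_6_0 : fixPtsF W_6 100000 0 = true := by decide +kernel

set_option maxRecDepth 1000000 in
theorem relc_4_1 : fixPtsF W_4 50000 50000 = true := by decide +kernel

set_option maxRecDepth 1000000 in
theorem relc_13_1 : fixPtsF W_13 50000 50000 = true := by decide +kernel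

set_option maxRecDepth 1000000 in
theorem relc_7_0 : fixPtsF W_7 33333 0 = true := by decide +kernel

set_option maxRecDepth 1000000 in
theorem relc_22_1 : fixPtsF W_22 20000 20000 = true := by decide +kernel

set_option maxRecDepth 1000000 in
theorem relc_23_5 : fixPtsF W_23 20000 100000 = true := by decide +kernel

set_option maxRecDepth 1000000 in
theorem relc_26_3 : fixPtsF W_26 18181 54543 = true := by decide +kernel

set_option maxRecDepth 1000000 in
theorem relc_12_1 : fixPtsF W_12 12500 12500 = true := by decide +kernel

set_option maxRecDepth 1000000 in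
theorem relc_25_2 : fixPtsF W_25 10000 20000 = true := by decide +kernel

set_option maxRecDepth 1000000 in
theorem relc_1_3 : fixPtsF W_1 22761 99999 = true := by decide +kernel

set_option maxRecDepth 1000000 in
theorem relc_9_2 : fixPtsF W_9 22760 100000 = true := by decide +kernel

set_option maxRecDepth 1000000 in
theorem inv_2_0 : invRowFI ctF 122760 2 2 50000 0 = true := by decide +kernel

set_option maxRecDepth 1000000 in
theorem inv_7_0 : invRowFI ctF 122760 7 6 50000 0 = true := by decide +kernel

set_option maxRecDepth 1000000 in
theorem inv_1_2 : invRowFI ctF 122760 1 1 22760 100000 = true := by decide +kernel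

set_option maxRecDepth 1000000 in
theorem inv_6_2 : invRowFI ctF 122760 6 7 22760 100000 = true := by decide +kernel

end Cfsg.Agent.Helper5.ONXATC
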