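import Cfsg.Agent.Helper5.ONXATCDatD
import Cfsg.Agent.Helper5.ONXATCDatT
import Cfsg.Agent.Helper5.TCIB

/-! kernel checks of the coset table: ONXATC -/

set_option autoImplicit false
set_option Elab.async false

namespace Cfsg.Agent.Helper5.ONXATC
open Cfsg.Agent.Helper5.TC Cfsg.Agent.Helper5.TCI

set_option maxRecDepth 1000000 in
theorem relc_11_0 : fixPtsF W_11 100000 0 = true := by decide +kernel

set_option maxRecDepth 1000000 in
theorem relc_5_0 : fixPtsF W_5 50000 0 = true := by decide +kernel

set_option maxRecDepth 1000000 in
theorem relc_14_0 : fixPtsF W_14 50000 0 = true := by decide +kernel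

set_option maxRecDepth 1000000 in
theorem relc_7_1 : fixPtsF W_7 33333 33333 = true := by decide +kernel

set_option maxRecDepth 1000000 in
theorem relc_22_2 : fixPtsF W_22 20000 40000 = true := by decide +kernel

set_option maxRecDepth 1000000 in
theorem relc_24_0 : fixPtsF W_24 20000 0 = true := by decide +kernel

set_option maxRecDepth 1000000 in
theorem relc_26_4 : fixPtsF W_26 18181 72724 = true := by decide +kernel

set_option maxRecDepth 1000000 in
theorem relc_12_2 : fixPtsF W_12 12500 25000 = true := by decide +kernel

set_option maxRecDepth 1000000 in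
theorem relc_25_3 : fixPtsF W_25 10000 30000 = true := by decide +kernel

set_option maxRecDepth 1000000 in
theorem relc_7_3 : fixPtsF W_7 22761 99999 = true := by decide +kernel

set_option maxRecDepth 1000000 in
theorem relc_10_2 : fixPtsF W_10 22760 100000 = true := by decide +kernel

set_option maxRecDepth 1000000 in
theorem inv_2_1 : invRowFI ctF 122760 2 2 50000 50000 = true := by decide +kernel

set_option maxRecDepth 1000000 in
theorem inv_7_1 : invRowFI ctF 122760 7 6 50000 50000 = true := by decide +kernel

set_option maxRecDepth 1000000 in
theorem inv_2_2 : invRowFI ctF 122760 2 2 22760 100000 = true := by decide +kernel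

set_option maxRecDepth 1000000 in
theorem inv_7_2 : invRowFI ctF 122760 7 6 22760 100000 = true := by decide +kernel

end Cfsg.Agent.Helper5.ONXATC
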