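import Cfsg.Agent.Helper5.ONXATCDatD
import Cfsg.Agent.Helper5.ONXATCDatT
import Cfsg.Agent.Helper5.TCIB

/-! kernel checks of the coset table: ONXATC -/

set_option autoImplicit false
set_option Elab.async false

namespace Cfsg.Agent.Helper5.ONXATC
open Cfsg.Agent.Helper5.TC Cfsg.Agent.Helper5.TCI

set_option maxRecDepth 1000000 in
theorem relc_15_0 : fixPtsF W_15 100000 0 = true := by decide +kernel

set_option maxRecDepth 1000000 in
theorem relc_5_1 : fixPtsF W_5 50000 50000 = true := by decide +kernel

set_option maxRecDepth 1000000 in
theorem relc_14_1 : fixPtsF W_14 50000 50000 = true := by decide +kernel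

set_option maxRecDepth 1000000 in
theorem relc_7_2 : fixPtsF W_7 33333 66666 = true := by decide +kernel

set_option maxRecDepth 1000000 in
theorem relc_22_3 : fixPtsF W_22 20000 60000 = true := by decide +kernel

set_option maxRecDepth 1000000 in
theorem relc_24_1 : fixPtsF W_24 20000 20000 = true := by decide +kernel

set_option maxRecDepth 1000000 in
theorem relc_26_5 : fixPtsF W_26 18181 90905 = true := by decide +kernel

set_option maxRecDepth 1000000 in
theorem relc_12_3 : fixPtsF W_12 12500 37500 = true := by decide +kernel

set_option maxRecDepth 1000000 in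
theorem relc_25_4 : fixPtsF W_25 10000 40000 = true := by decide +kernel

set_option maxRecDepth 1000000 in
theorem relc_17_3 : fixPtsF W_17 22761 99999 = true := by decide +kernel

set_option maxRecDepth 1000000 in
theorem relc_13_2 : fixPtsF W_13 22760 100000 = true := by decide +kernel

set_option maxRecDepth 1000000 in
theorem inv_3_0 : invRowFI ctF 122760 3 3 50000 0 = true := by decide +kernel

set_option maxRecDepth 1000000 in
theorem relc_0_1 : fixPtsF W_0 22760 100000 = true := by decide +kernel

set_option maxRecDepth 1000000 in
theorem relc_20_1 : fixPtsF W_20 22760 100000 = true := by decide +kernel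

set_option maxRecDepth 1000000 in
theorem relc_25_12 : fixPtsF W_25 2760 120000 = true := by decide +kernel

end Cfsg.Agent.Helper5.ONXATC
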