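import Cfsg.Agent.Helper5.ONXATCDatD
import Cfsg.Agent.Helper5.ONXATCDatT
import Cfsg.Agent.Helper5.TCIB

/-! kernel checks of the coset table: ONXATC -/

set_option autoImplicit false
set_option Elab.async false

namespace Cfsg.Agent.Helper5.ONXATC
open Cfsg.Agent.Helper5.TC Cfsg.Agent.Helper5.TCI

set_option maxRecDepth 1000000 in
theorem relc_18_0 : fixPtsF W_18 100000 0 = true := by decide +kernel

set_option maxRecDepth 1000000 in
theorem relc_8_0 : fixPtsF W_8 50000 0 = true := by decide +kernel

set_option maxRecDepth 1000000 in
theorem relc_16_0 : fixPtsF W_16 50000 0 = true := by decide +kernel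

set_option maxRecDepth 1000000 in
theorem relc_17_0 : fixPtsF W_17 33333 0 = true := by decide +kernel

set_option maxRecDepth 1000000 in
theorem relc_22_4 : fixPtsF W_22 20000 80000 = true := by decide +kernel

set_option maxRecDepth 1000000 in
theorem relc_24_2 : fixPtsF W_24 20000 40000 = true := by decide +kernel

set_option maxRecDepth 1000000 in
theorem relc_27_0 : fixPtsF W_27 18181 0 = true := by decide +kernel

set_option maxRecDepth 1000000 in
theorem relc_12_4 : fixPtsF W_12 12500 50000 = true := by decide +kernel

set_option maxRecDepth 1000000 in
theorem relc_25_5 : fixPtsF W_25 10000 50000 = true := by decide +kernel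

set_option maxRecDepth 1000000 in
theorem relc_19_3 : fixPtsF W_19 22761 99999 = true := by decide +kernel

set_option maxRecDepth 1000000 in
theorem relc_14_2 : fixPtsF W_14 22760 100000 = true := by decide +kernel

set_option maxRecDepth 1000000 in
theorem inv_3_1 : invRowFI ctF 122760 3 3 50000 50000 = true := by decide +kernel

set_option maxRecDepth 1000000 in
theorem relc_6_1 : fixPtsF W_6 22760 100000 = true := by decide +kernel

set_option maxRecDepth 1000000 in
theorem relc_28_1 : fixPtsF W_28 22760 100000 = true := by decide +kernel

set_option maxRecDepth 1000000 in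
theorem conn_2 : connF ctF 8 22760 100000 = true := by decide +kernel

end Cfsg.Agent.Helper5.ONXATC
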