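import Cfsg.Agent.Helper5.ONXATCDatD
import Cfsg.Agent.Helper5.ONXATCDatT
import Cfsg.Agent.Helper5.TCIB

/-! kernel checks of the coset table: ONXATC -/

set_option autoImplicit false
set_option Elab.async false

namespace Cfsg.Agent.Helper5.ONXATC
open Cfsg.Agent.Helper5.TC Cfsg.Agent.Helper5.TCI

set_option maxRecDepth 1000000 in
theorem relc_20_0 : fixPtsF W_20 100000 0 = true := by decide +kernel

set_option maxRecDepth 1000000 in
theorem relc_8_1 : fixPtsF W_8 50000 50000 = true := by decide +kernel

set_option maxRecDepth 1000000 in
theorem relc_16_1 : fixPtsF W_16 50000 50000 = true := by decide +kernel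

set_option maxRecDepth 1000000 in
theorem relc_17_1 : fixPtsF W_17 33333 33333 = true := by decide +kernel

set_option maxRecDepth 1000000 in
theorem relc_22_5 : fixPtsF W_22 20000 100000 = true := by decide +kernel

set_option maxRecDepth 1000000 in
theorem relc_24_3 : fixPtsF W_24 20000 60000 = true := by decide +kernel

set_option maxRecDepth 1000000 in
theorem relc_27_1 : fixPtsF W_27 18181 18181 = true := by decide +kernel

set_option maxRecDepth 1000000 in
theorem relc_12_5 : fixPtsF W_12 12500 62500 = true := by decide +kernel

set_option maxRecDepth 1000000 in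
theorem relc_25_6 : fixPtsF W_25 10000 60000 = true := by decide +kernel

set_option maxRecDepth 1000000 in
theorem relc_12_9 : fixPtsF W_12 10260 112500 = true := by decide +kernel

set_option maxRecDepth 1000000 in
theorem relc_8_2 : fixPtsF W_8 22760 100000 = true := by decide +kernel

set_option maxRecDepth 1000000 in
theorem inv_1_1 : invRowFI ctF 122760 1 1 50000 50000 = true := by decide +kernel

set_option maxRecDepth 1000000 in
theorem inv_6_1 : invRowFI ctF 122760 6 7 50000 50000 = true := by decide +kernel

set_option maxRecDepth 1000000 in
theorem inv_0_2 : invRowFI ctF 122760 0 0 22760 100000 = true := by decide +kernel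

set_option maxRecDepth 1000000 in
theorem inv_5_2 : invRowFI ctF 122760 5 5 22760 100000 = true := by decide +kernel

end Cfsg.Agent.Helper5.ONXATC
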