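import Cfsg.Agent.Helper5.ONXATCDatD
import Cfsg.Agent.Helper5.ONXATCDatT
import Cfsg.Agent.Helper5.TCIB

/-! kernel checks of the coset table: ONXATC -/

set_option autoImplicit false
set_option Elab.async false

namespace Cfsg.Agent.Helper5.ONXATC
open Cfsg.Agent.Helper5.TC Cfsg.Agent.Helper5.TCI

set_option maxRecDepth 1000000 in
theorem relc_28_0 : fixPtsF W_28 100000 0 = true := by decide +kernel

set_option maxRecDepth 1000000 in
theorem relc_9_0 : fixPtsF W_9 50000 0 = true := by decide +kernel

set_option maxRecDepth 1000000 in
theorem relc_21_0 : fixPtsF W_21 50000 0 = true := by decide +kernel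

set_option maxRecDepth 1000000 in
theorem relc_17_2 : fixPtsF W_17 33333 66666 = true := by decide +kernel

set_option maxRecDepth 1000000 in
theorem relc_23_0 : fixPtsF W_23 20000 0 = true := by decide +kernel

set_option maxRecDepth 1000000 in
theorem relc_24_4 : fixPtsF W_24 20000 80000 = true := by decide +kernel

set_option maxRecDepth 1000000 in
theorem relc_27_2 : fixPtsF W_27 18181 36362 = true := by decide +kernel

set_option maxRecDepth 1000000 in
theorem relc_12_6 : fixPtsF W_12 12500 75000 = true := by decide +kernel

set_option maxRecDepth 1000000 in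
theorem relc_25_7 : fixPtsF W_25 10000 70000 = true := by decide +kernel

set_option maxRecDepth 1000000 in
theorem relc_26_6 : fixPtsF W_26 13674 109086 = true := by decide +kernel

set_option maxRecDepth 1000000 in
theorem relc_4_2 : fixPtsF W_4 22760 100000 = true := by decide +kernel

set_option maxRecDepth 1000000 in
theorem inv_0_1 : invRowFI ctF 122760 0 0 50000 50000 = true := by decide +kernel

set_option maxRecDepth 1000000 in
theorem inv_5_1 : invRowFI ctF 122760 5 5 50000 50000 = true := by decide +kernel

set_option maxRecDepth 1000000 in
theorem relc_29_1 : fixPtsF W_29 22760 100000 = true := by decide +kernel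

set_option maxRecDepth 1000000 in
theorem relc_24_6 : fixPtsF W_24 2760 120000 = true := by decide +kernel

end Cfsg.Agent.Helper5.ONXATC
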