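import Cfsg.Agent.Helper5.ONXATCDatD
import Cfsg.Agent.Helper5.ONXATCDatT
import Cfsg.Agent.Helper5.TCIB

/-! kernel checks of the coset table: ONXATC -/

set_option autoImplicit false
set_option Elab.async false

namespace Cfsg.Agent.Helper5.ONXATC
open Cfsg.Agent.Helper5.TC Cfsg.Agent.Helper5.TCI

set_option maxRecDepth 1000000 in
theorem relc_2_1 : fixPtsF W_2 50000 50000 = true := by decide +kernel

set_option maxRecDepth 1000000 in
theorem relc_3_1 : fixPtsF W_3 50000 50000 = true := by decide +kernel

set_option maxRecDepth 1000000 in
theorem relc_10_1 : fixPtsF W_10 50000 50000 = true := by decide +kernel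

set_option maxRecDepth 1000000 in
theorem relc_1_1 : fixPtsF W_1 33333 33333 = true := by decide +kernel

set_option maxRecDepth 1000000 in
theorem relc_19_2 : fixPtsF W_19 33333 66666 = true := by decide +kernel

set_option maxRecDepth 1000000 in
theorem relc_23_3 : fixPtsF W_23 20000 60000 = true := by decide +kernel

set_option maxRecDepth 1000000 in
theorem relc_26_1 : fixPtsF W_26 18181 18181 = true := by decide +kernel

set_option maxRecDepth 1000000 in
theorem relc_27_5 : fixPtsF W_27 18181 90905 = true := by decide +kernel

set_option maxRecDepth 1000000 in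
theorem relc_25_0 : fixPtsF W_25 10000 0 = true := by decide +kernel

set_option maxRecDepth 1000000 in
theorem relc_25_9 : fixPtsF W_25 10000 90000 = true := by decide +kernel

set_option maxRecDepth 1000000 in
theorem relc_2_2 : fixPtsF W_2 22760 100000 = true := by decide +kernel

set_option maxRecDepth 1000000 in
theorem relc_21_2 : fixPtsF W_21 22760 100000 = true := by decide +kernel

set_option maxRecDepth 1000000 in
theorem inv_5_0 : invRowFI ctF 122760 5 5 50000 0 = true := by decide +kernel

set_option maxRecDepth 1000000 in
theorem relc_18_1 : fixPtsF W_18 22760 100000 = true := by decide +kernel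

set_option maxRecDepth 1000000 in
theorem inv_4_2 : invRowFI ctF 122760 4 4 22760 100000 = true := by decide +kernel

end Cfsg.Agent.Helper5.ONXATC
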