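import Cfsg.Agent.Helper5.ONXATCChkE0
import Cfsg.Agent.Helper5.ONXATCChkE1
import Cfsg.Agent.Helper5.ONXATCChkE2
import Cfsg.Agent.Helper5.ONXATCChkE3
import Cfsg.Agent.Helper5.ONXATCChkE4
import Cfsg.Agent.Helper5.ONXATCChkE5
import Cfsg.Agent.Helper5.ONXATCChkE6
import Cfsg.Agent.Helper5.ONXATCChkE7
import Cfsg.Agent.Helper5.ONXATCChkR0
import Cfsg.Agent.Helper5.ONXATCChkR1
import Cfsg.Agent.Helper5.ONXATCChkR2
import Cfsg.Agent.Helper5.ONXATCChkR3
import Cfsg.Agent.Helper5.ONXATCChkR4
import Cfsg.Agent.Helper5.ONXATCChkR5
import Cfsg.Agent.Helper5.ONXATCChkR6
import Cfsg.Agent.Helper5.ONXATCChkR7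
import Cfsg.Agent.Helper5.ONXATCChkR8
import Cfsg.Agent.Helper5.ONXATCChkR9
import Cfsg.Agent.Helper5.ONXATCChkA
import Cfsg.Agent.Helper5.TCIB

/-! summary of the kernel checks: ONXATC -/

set_option autoImplicit false
set_option Elab.async false

namespace Cfsg.Agent.Helper5.ONXATC
open Cfsg.Agent.Helper5.TC Cfsg.Agent.Helper5.TCI

theorem edgesx_0 : ∀ v, v < 214735 → edgeOKI iota E 0 v = true := by
  intro v hv
  rcases Nat.lt_or_ge v 113794 with h | h
  · rcases Nat.lt_or_ge v 56590 with h | h
    · rcases Nat.lt_or_ge v 27081 with h | h
      · rcases Nat.lt_or_ge v 12493 with h | h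
        · rcases Nat.lt_or_ge v 5052 with h | h
          · rcases Nat.lt_or_ge v 2455 with h | h
            · exact edgesRangeI_spec iota E 0 2455 0 edges_0_0 v (by omega) (by omega)
            · exact edgesRangeI_spec iota E 0 2597 2455 edges_0_1 v (by omega) (by omega)
          · rcases Nat.lt_or_ge v 7607 with h | h
            · exact edgesRangeI_spec iota E 0 2555 5052 edges_0_2 v (by omega) (by omega)
            · rcases Nat.lt_or_ge v 10118 with h | h
              · exact edgesRangeI_spec iota E 0 2511 7607 edges_0_3 v (by omega) (by omega)
              · exact edgesRangeI_spec iota E 0 2375 10118 edges_0_4 v (by omega) (by omega)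
        · rcases Nat.lt_or_ge v 19952 with h | h
          · rcases Nat.lt_or_ge v 14971 with h | h
            · exact edgesRangeI_spec iota E 0 2478 12493 edges_0_5 v (by omega) (by omega)
            · rcases Nat.lt_or_ge v 17474 with h | h
              · exact edgesRangeI_spec iota E 0 2503 14971 edges_0_6 v (by omega) (by omega)
              · exact edgesRangeI_spec iota E 0 2478 17474 edges_0_7 v (by omega) (by omega)
          · rcases Nat.lt_or_ge v 22442 with h | h
            · exact edgesRangeI_spec iota E 0 2490 19952 edges_0_8 v (by omega) (by omega)
            · rcases Nat.lt_or_ge v 24857 with h | h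
              · exact edgesRangeI_spec iota E 0 2415 22442 edges_0_9 v (by omega) (by omega)
              · exact edgesRangeI_spec iota E 0 2224 24857 edges_0_10 v (by omega) (by omega)
      · rcases Nat.lt_or_ge v 42190 with h | h
        · rcases Nat.lt_or_ge v 34589 with h | h
          · rcases Nat.lt_or_ge v 29509 with h | h
            · exact edgesRangeI_spec iota E 0 2428 27081 edges_0_11 v (by omega) (by omega)
            · rcases Nat.lt_or_ge v 32088 with h | h
              · exact edgesRangeI_spec iota E 0 2579 29509 edges_0_12 v (by omega) (by omega)
              · exact edgesRangeI_spec iota E 0 2501 32088 edges_0_13 v (by omega) (by omega)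
          · rcases Nat.lt_or_ge v 37148 with h | h
            · exact edgesRangeI_spec iota E 0 2559 34589 edges_0_14 v (by omega) (by omega)
            · rcases Nat.lt_or_ge v 39775 with h | h
              · exact edgesRangeI_spec iota E 0 2627 37148 edges_0_15 v (by omega) (by omega)
              · exact edgesRangeI_spec iota E 0 2415 39775 edges_0_16 v (by omega) (by omega)
        · rcases Nat.lt_or_ge v 49516 with h | h
          · rcases Nat.lt_or_ge v 44638 with h | h
            · exact edgesRangeI_spec iota E 0 2448 42190 edges_0_17 v (by omega) (by omega)
            · rcases Nat.lt_or_ge v 47076 with h | h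
              · exact edgesRangeI_spec iota E 0 2438 44638 edges_0_18 v (by omega) (by omega)
              · exact edgesRangeI_spec iota E 0 2440 47076 edges_0_19 v (by omega) (by omega)
          · rcases Nat.lt_or_ge v 51853 with h | h
            · exact edgesRangeI_spec iota E 0 2337 49516 edges_0_20 v (by omega) (by omega)
            · rcases Nat.lt_or_ge v 54047 with h | h
              · exact edgesRangeI_spec iota E 0 2194 51853 edges_0_21 v (by omega) (by omega)
              · exact edgesRangeI_spec iota E 0 2543 54047 edges_0_22 v (by omega) (by omega)
    · rcases Nat.lt_or_ge v 85085 with h | h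
      · rcases Nat.lt_or_ge v 69291 with h | h
        · rcases Nat.lt_or_ge v 61617 with h | h
          · rcases Nat.lt_or_ge v 58960 with h | h
            · exact edgesRangeI_spec iota E 0 2370 56590 edges_0_23 v (by omega) (by omega)
            · exact edgesRangeI_spec iota E 0 2657 58960 edges_0_24 v (by omega) (by omega)
          · rcases Nat.lt_or_ge v 64287 with h | h
            · exact edgesRangeI_spec iota E 0 2670 61617 edges_0_25 v (by omega) (by omega)
            · rcases Nat.lt_or_ge v 66829 with h | h
              · exact edgesRangeI_spec iota E 0 2542 64287 edges_0_26 v (by omega) (by omega)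
              · exact edgesRangeI_spec iota E 0 2462 66829 edges_0_27 v (by omega) (by omega)
        · rcases Nat.lt_or_ge v 76967 with h | h
          · rcases Nat.lt_or_ge v 71934 with h | h
            · exact edgesRangeI_spec iota E 0 2643 69291 edges_0_28 v (by omega) (by omega)
            · rcases Nat.lt_or_ge v 74418 with h | h
              · exact edgesRangeI_spec iota E 0 2484 71934 edges_0_29 v (by omega) (by omega)
              · exact edgesRangeI_spec iota E 0 2549 74418 edges_0_30 v (by omega) (by omega)
          · rcases Nat.lt_or_ge v 79768 with h | h
            · exact edgesRangeI_spec iota E 0 2801 76967 edges_0_31 v (by omega) (by omega)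
            · rcases Nat.lt_or_ge v 82609 with h | h
              · exact edgesRangeI_spec iota E 0 2841 79768 edges_0_32 v (by omega) (by omega)
              · exact edgesRangeI_spec iota E 0 2476 82609 edges_0_33 v (by omega) (by omega)
      · rcases Nat.lt_or_ge v 99935 with h | h
        · rcases Nat.lt_or_ge v 92599 with h | h
          · rcases Nat.lt_or_ge v 87630 with h | h
            · exact edgesRangeI_spec iota E 0 2545 85085 edges_0_34 v (by omega) (by omega)
            · rcases Nat.lt_or_ge v 90202 with h | h
              · exact edgesRangeI_spec iota E 0 2572 87630 edges_0_35 v (by omega) (by omega)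
              · exact edgesRangeI_spec iota E 0 2397 90202 edges_0_36 v (by omega) (by omega)
          · rcases Nat.lt_or_ge v 95172 with h | h
            · exact edgesRangeI_spec iota E 0 2573 92599 edges_0_37 v (by omega) (by omega)
            · rcases Nat.lt_or_ge v 97567 with h | h
              · exact edgesRangeI_spec iota E 0 2395 95172 edges_0_38 v (by omega) (by omega)
              · exact edgesRangeI_spec iota E 0 2368 97567 edges_0_39 v (by omega) (by omega)
        · rcases Nat.lt_or_ge v 106890 with h | h
          · rcases Nat.lt_or_ge v 102434 with h | h
            · exact edgesRangeI_spec iota E 0 2499 99935 edges_0_40 v (by omega) (by omega)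
            · rcases Nat.lt_or_ge v 104663 with h | h
              · exact edgesRangeI_spec iota E 0 2229 102434 edges_0_41 v (by omega) (by omega)
              · exact edgesRangeI_spec iota E 0 2227 104663 edges_0_42 v (by omega) (by omega)
          · rcases Nat.lt_or_ge v 109121 with h | h
            · exact edgesRangeI_spec iota E 0 2231 106890 edges_0_43 v (by omega) (by omega)
            · rcases Nat.lt_or_ge v 111452 with h | h
              · exact edgesRangeI_spec iota E 0 2331 109121 edges_0_44 v (by omega) (by omega)
              · exact edgesRangeI_spec iota E 0 2342 111452 edges_0_45 v (by omega) (by omega)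
  · rcases Nat.lt_or_ge v 172711 with h | h
    · rcases Nat.lt_or_ge v 140893 with h | h
      · rcases Nat.lt_or_ge v 125978 with h | h
        · rcases Nat.lt_or_ge v 118697 with h | h
          · rcases Nat.lt_or_ge v 116219 with h | h
            · exact edgesRangeI_spec iota E 0 2425 113794 edges_0_46 v (by omega) (by omega)
            · exact edgesRangeI_spec iota E 0 2478 116219 edges_0_47 v (by omega) (by omega)
          · rcases Nat.lt_or_ge v 120930 with h | h
            · exact edgesRangeI_spec iota E 0 2233 118697 edges_0_48 v (by omega) (by omega)
            · rcases Nat.lt_or_ge v 123239 with h | h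
              · exact edgesRangeI_spec iota E 0 2309 120930 edges_0_49 v (by omega) (by omega)
              · exact edgesRangeI_spec iota E 0 2739 123239 edges_0_50 v (by omega) (by omega)
        · rcases Nat.lt_or_ge v 133524 with h | h
          · rcases Nat.lt_or_ge v 128474 with h | h
            · exact edgesRangeI_spec iota E 0 2496 125978 edges_0_51 v (by omega) (by omega)
            · rcases Nat.lt_or_ge v 131072 with h | h
              · exact edgesRangeI_spec iota E 0 2598 128474 edges_0_52 v (by omega) (by omega)
              · exact edgesRangeI_spec iota E 0 2452 131072 edges_0_53 v (by omega) (by omega)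
          · rcases Nat.lt_or_ge v 136087 with h | h
            · exact edgesRangeI_spec iota E 0 2563 133524 edges_0_54 v (by omega) (by omega)
            · rcases Nat.lt_or_ge v 138516 with h | h
              · exact edgesRangeI_spec iota E 0 2429 136087 edges_0_55 v (by omega) (by omega)
              · exact edgesRangeI_spec iota E 0 2377 138516 edges_0_56 v (by omega) (by omega)
      · rcases Nat.lt_or_ge v 156536 with h | h
        · rcases Nat.lt_or_ge v 148360 with h | h
          · rcases Nat.lt_or_ge v 143499 with h | h
            · exact edgesRangeI_spec iota E 0 2606 140893 edges_0_57 v (by omega) (by omega)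
            · rcases Nat.lt_or_ge v 145964 with h | h
              · exact edgesRangeI_spec iota E 0 2465 143499 edges_0_58 v (by omega) (by omega)
              · exact edgesRangeI_spec iota E 0 2396 145964 edges_0_59 v (by omega) (by omega)
          · rcases Nat.lt_or_ge v 151005 with h | h
            · exact edgesRangeI_spec iota E 0 2645 148360 edges_0_60 v (by omega) (by omega)
            · rcases Nat.lt_or_ge v 153726 with h | h
              · exact edgesRangeI_spec iota E 0 2721 151005 edges_0_61 v (by omega) (by omega)
              · exact edgesRangeI_spec iota E 0 2810 153726 edges_0_62 v (by omega) (by omega)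
        · rcases Nat.lt_or_ge v 165019 with h | h
          · rcases Nat.lt_or_ge v 159315 with h | h
            · exact edgesRangeI_spec iota E 0 2779 156536 edges_0_63 v (by omega) (by omega)
            · rcases Nat.lt_or_ge v 162115 with h | h
              · exact edgesRangeI_spec iota E 0 2800 159315 edges_0_64 v (by omega) (by omega)
              · exact edgesRangeI_spec iota E 0 2904 162115 edges_0_65 v (by omega) (by omega)
          · rcases Nat.lt_or_ge v 167598 with h | h
            · exact edgesRangeI_spec iota E 0 2579 165019 edges_0_66 v (by omega) (by omega)
            · rcases Nat.lt_or_ge v 170194 with h | h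
              · exact edgesRangeI_spec iota E 0 2596 167598 edges_0_67 v (by omega) (by omega)
              · exact edgesRangeI_spec iota E 0 2517 170194 edges_0_68 v (by omega) (by omega)
    · rcases Nat.lt_or_ge v 195941 with h | h
      · rcases Nat.lt_or_ge v 185215 with h | h
        · rcases Nat.lt_or_ge v 179686 with h | h
          · rcases Nat.lt_or_ge v 175063 with h | h
            · exact edgesRangeI_spec iota E 0 2352 172711 edges_0_69 v (by omega) (by omega)
            · rcases Nat.lt_or_ge v 177704 with h | h
              · exact edgesRangeI_spec iota E 0 2641 175063 edges_0_70 v (by omega) (by omega)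
              · exact edgesRangeI_spec iota E 0 1982 177704 edges_0_71 v (by omega) (by omega)
          · rcases Nat.lt_or_ge v 181535 with h | h
            · exact edgesRangeI_spec iota E 0 1849 179686 edges_0_72 v (by omega) (by omega)
            · rcases Nat.lt_or_ge v 183400 with h | h
              · exact edgesRangeI_spec iota E 0 1865 181535 edges_0_73 v (by omega) (by omega)
              · exact edgesRangeI_spec iota E 0 1815 183400 edges_0_74 v (by omega) (by omega)
        · rcases Nat.lt_or_ge v 190575 with h | h
          · rcases Nat.lt_or_ge v 187036 with h | h
            · exact edgesRangeI_spec iota E 0 1821 185215 edges_0_75 v (by omega) (by omega)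
            · rcases Nat.lt_or_ge v 188784 with h | h
              · exact edgesRangeI_spec iota E 0 1748 187036 edges_0_76 v (by omega) (by omega)
              · exact edgesRangeI_spec iota E 0 1791 188784 edges_0_77 v (by omega) (by omega)
          · rcases Nat.lt_or_ge v 192337 with h | h
            · exact edgesRangeI_spec iota E 0 1762 190575 edges_0_78 v (by omega) (by omega)
            · rcases Nat.lt_or_ge v 194148 with h | h
              · exact edgesRangeI_spec iota E 0 1811 192337 edges_0_79 v (by omega) (by omega)
              · exact edgesRangeI_spec iota E 0 1793 194148 edges_0_80 v (by omega) (by omega)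
      · rcases Nat.lt_or_ge v 206329 with h | h
        · rcases Nat.lt_or_ge v 201200 with h | h
          · rcases Nat.lt_or_ge v 197712 with h | h
            · exact edgesRangeI_spec iota E 0 1771 195941 edges_0_81 v (by omega) (by omega)
            · rcases Nat.lt_or_ge v 199485 with h | h
              · exact edgesRangeI_spec iota E 0 1773 197712 edges_0_82 v (by omega) (by omega)
              · exact edgesRangeI_spec iota E 0 1715 199485 edges_0_83 v (by omega) (by omega)
          · rcases Nat.lt_or_ge v 202909 with h | h
            · exact edgesRangeI_spec iota E 0 1709 201200 edges_0_84 v (by omega) (by omega)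
            · rcases Nat.lt_or_ge v 204618 with h | h
              · exact edgesRangeI_spec iota E 0 1709 202909 edges_0_85 v (by omega) (by omega)
              · exact edgesRangeI_spec iota E 0 1711 204618 edges_0_86 v (by omega) (by omega)
        · rcases Nat.lt_or_ge v 211306 with h | h
          · rcases Nat.lt_or_ge v 207990 with h | h
            · exact edgesRangeI_spec iota E 0 1661 206329 edges_0_87 v (by omega) (by omega)
            · rcases Nat.lt_or_ge v 209646 with h | h
              · exact edgesRangeI_spec iota E 0 1656 207990 edges_0_88 v (by omega) (by omega)
              · exact edgesRangeI_spec iota E 0 1660 209646 edges_0_89 v (by omega) (by omega)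
          · rcases Nat.lt_or_ge v 212972 with h | h
            · exact edgesRangeI_spec iota E 0 1666 211306 edges_0_90 v (by omega) (by omega)
            · rcases Nat.lt_or_ge v 214584 with h | h
              · exact edgesRangeI_spec iota E 0 1612 212972 edges_0_91 v (by omega) (by omega)
              · exact edgesRangeI_spec iota E 0 151 214584 edges_0_92 v (by omega) (by omega)

theorem edgesx_1 : ∀ v, v < 214735 → edgeOKI iota E 1 v = true := by
  intro v hv
  rcases Nat.lt_or_ge v 125465 with h | h
  · rcases Nat.lt_or_ge v 64307 with h | h
    · rcases Nat.lt_or_ge v 29944 with h | h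
      · rcases Nat.lt_or_ge v 14879 with h | h
        · rcases Nat.lt_or_ge v 6045 with h | h
          · rcases Nat.lt_or_ge v 3028 with h | h
            · exact edgesRangeI_spec iota E 1 3028 0 edges_1_0 v (by omega) (by omega)
            · exact edgesRangeI_spec iota E 1 3017 3028 edges_1_1 v (by omega) (by omega)
          · rcases Nat.lt_or_ge v 9074 with h | h
            · exact edgesRangeI_spec iota E 1 3029 6045 edges_1_2 v (by omega) (by omega)
            · rcases Nat.lt_or_ge v 11926 with h | h
              · exact edgesRangeI_spec iota E 1 2852 9074 edges_1_3 v (by omega) (by omega)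
              · exact edgesRangeI_spec iota E 1 2953 11926 edges_1_4 v (by omega) (by omega)
        · rcases Nat.lt_or_ge v 20969 with h | h
          · rcases Nat.lt_or_ge v 17919 with h | h
            · exact edgesRangeI_spec iota E 1 3040 14879 edges_1_5 v (by omega) (by omega)
            · exact edgesRangeI_spec iota E 1 3050 17919 edges_1_6 v (by omega) (by omega)
          · rcases Nat.lt_or_ge v 24236 with h | h
            · exact edgesRangeI_spec iota E 1 3267 20969 edges_1_7 v (by omega) (by omega)
            · rcases Nat.lt_or_ge v 26840 with h | h
              · exact edgesRangeI_spec iota E 1 2604 24236 edges_1_8 v (by omega) (by omega)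
              · exact edgesRangeI_spec iota E 1 3104 26840 edges_1_9 v (by omega) (by omega)
      · rcases Nat.lt_or_ge v 45589 with h | h
        · rcases Nat.lt_or_ge v 36102 with h | h
          · rcases Nat.lt_or_ge v 33062 with h | h
            · exact edgesRangeI_spec iota E 1 3118 29944 edges_1_10 v (by omega) (by omega)
            · exact edgesRangeI_spec iota E 1 3040 33062 edges_1_11 v (by omega) (by omega)
          · rcases Nat.lt_or_ge v 39597 with h | h
            · exact edgesRangeI_spec iota E 1 3495 36102 edges_1_12 v (by omega) (by omega)
            · rcases Nat.lt_or_ge v 42611 with h | h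
              · exact edgesRangeI_spec iota E 1 3014 39597 edges_1_13 v (by omega) (by omega)
              · exact edgesRangeI_spec iota E 1 2978 42611 edges_1_14 v (by omega) (by omega)
        · rcases Nat.lt_or_ge v 54591 with h | h
          · rcases Nat.lt_or_ge v 48706 with h | h
            · exact edgesRangeI_spec iota E 1 3117 45589 edges_1_15 v (by omega) (by omega)
            · rcases Nat.lt_or_ge v 51650 with h | h
              · exact edgesRangeI_spec iota E 1 2944 48706 edges_1_16 v (by omega) (by omega)
              · exact edgesRangeI_spec iota E 1 2941 51650 edges_1_17 v (by omega) (by omega)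
          · rcases Nat.lt_or_ge v 57871 with h | h
            · exact edgesRangeI_spec iota E 1 3280 54591 edges_1_18 v (by omega) (by omega)
            · rcases Nat.lt_or_ge v 60930 with h | h
              · exact edgesRangeI_spec iota E 1 3059 57871 edges_1_19 v (by omega) (by omega)
              · exact edgesRangeI_spec iota E 1 3377 60930 edges_1_20 v (by omega) (by omega)
    · rcases Nat.lt_or_ge v 96128 with h | h
      · rcases Nat.lt_or_ge v 80696 with h | h
        · rcases Nat.lt_or_ge v 70739 with h | h
          · rcases Nat.lt_or_ge v 67538 with h | h
            · exact edgesRangeI_spec iota E 1 3231 64307 edges_1_21 v (by omega) (by omega)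
            · exact edgesRangeI_spec iota E 1 3201 67538 edges_1_22 v (by omega) (by omega)
          · rcases Nat.lt_or_ge v 73907 with h | h
            · exact edgesRangeI_spec iota E 1 3168 70739 edges_1_23 v (by omega) (by omega)
            · rcases Nat.lt_or_ge v 77208 with h | h
              · exact edgesRangeI_spec iota E 1 3301 73907 edges_1_24 v (by omega) (by omega)
              · exact edgesRangeI_spec iota E 1 3488 77208 edges_1_25 v (by omega) (by omega)
        · rcases Nat.lt_or_ge v 87210 with h | h
          · rcases Nat.lt_or_ge v 84149 with h | h
            · exact edgesRangeI_spec iota E 1 3453 80696 edges_1_26 v (by omega) (by omega)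
            · exact edgesRangeI_spec iota E 1 3061 84149 edges_1_27 v (by omega) (by omega)
          · rcases Nat.lt_or_ge v 90270 with h | h
            · exact edgesRangeI_spec iota E 1 3060 87210 edges_1_28 v (by omega) (by omega)
            · rcases Nat.lt_or_ge v 93339 with h | h
              · exact edgesRangeI_spec iota E 1 3069 90270 edges_1_29 v (by omega) (by omega)
              · exact edgesRangeI_spec iota E 1 2789 93339 edges_1_30 v (by omega) (by omega)
      · rcases Nat.lt_or_ge v 109325 with h | h
        · rcases Nat.lt_or_ge v 101658 with h | h
          · rcases Nat.lt_or_ge v 98896 with h | h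
            · exact edgesRangeI_spec iota E 1 2768 96128 edges_1_31 v (by omega) (by omega)
            · exact edgesRangeI_spec iota E 1 2762 98896 edges_1_32 v (by omega) (by omega)
          · rcases Nat.lt_or_ge v 104268 with h | h
            · exact edgesRangeI_spec iota E 1 2610 101658 edges_1_33 v (by omega) (by omega)
            · rcases Nat.lt_or_ge v 106609 with h | h
              · exact edgesRangeI_spec iota E 1 2341 104268 edges_1_34 v (by omega) (by omega)
              · exact edgesRangeI_spec iota E 1 2716 106609 edges_1_35 v (by omega) (by omega)
        · rcases Nat.lt_or_ge v 117624 with h | h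
          · rcases Nat.lt_or_ge v 112108 with h | h
            · exact edgesRangeI_spec iota E 1 2783 109325 edges_1_36 v (by omega) (by omega)
            · rcases Nat.lt_or_ge v 114908 with h | h
              · exact edgesRangeI_spec iota E 1 2800 112108 edges_1_37 v (by omega) (by omega)
              · exact edgesRangeI_spec iota E 1 2716 114908 edges_1_38 v (by omega) (by omega)
          · rcases Nat.lt_or_ge v 120120 with h | h
            · exact edgesRangeI_spec iota E 1 2496 117624 edges_1_39 v (by omega) (by omega)
            · rcases Nat.lt_or_ge v 122578 with h | h
              · exact edgesRangeI_spec iota E 1 2458 120120 edges_1_40 v (by omega) (by omega)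
              · exact edgesRangeI_spec iota E 1 2887 122578 edges_1_41 v (by omega) (by omega)
  · rcases Nat.lt_or_ge v 181497 with h | h
    · rcases Nat.lt_or_ge v 152392 with h | h
      · rcases Nat.lt_or_ge v 138963 with h | h
        · rcases Nat.lt_or_ge v 131046 with h | h
          · rcases Nat.lt_or_ge v 128290 with h | h
            · exact edgesRangeI_spec iota E 1 2825 125465 edges_1_42 v (by omega) (by omega)
            · exact edgesRangeI_spec iota E 1 2756 128290 edges_1_43 v (by omega) (by omega)
          · rcases Nat.lt_or_ge v 133660 with h | h
            · exact edgesRangeI_spec iota E 1 2614 131046 edges_1_44 v (by omega) (by omega)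
            · rcases Nat.lt_or_ge v 136343 with h | h
              · exact edgesRangeI_spec iota E 1 2683 133660 edges_1_45 v (by omega) (by omega)
              · exact edgesRangeI_spec iota E 1 2620 136343 edges_1_46 v (by omega) (by omega)
        · rcases Nat.lt_or_ge v 144276 with h | h
          · rcases Nat.lt_or_ge v 141504 with h | h
            · exact edgesRangeI_spec iota E 1 2541 138963 edges_1_47 v (by omega) (by omega)
            · exact edgesRangeI_spec iota E 1 2772 141504 edges_1_48 v (by omega) (by omega)
          · rcases Nat.lt_or_ge v 146935 with h | h
            · exact edgesRangeI_spec iota E 1 2659 144276 edges_1_49 v (by omega) (by omega)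
            · rcases Nat.lt_or_ge v 149458 with h | h
              · exact edgesRangeI_spec iota E 1 2523 146935 edges_1_50 v (by omega) (by omega)
              · exact edgesRangeI_spec iota E 1 2934 149458 edges_1_51 v (by omega) (by omega)
      · rcases Nat.lt_or_ge v 167160 with h | h
        · rcases Nat.lt_or_ge v 158489 with h | h
          · rcases Nat.lt_or_ge v 155296 with h | h
            · exact edgesRangeI_spec iota E 1 2904 152392 edges_1_52 v (by omega) (by omega)
            · exact edgesRangeI_spec iota E 1 3193 155296 edges_1_53 v (by omega) (by omega)
          · rcases Nat.lt_or_ge v 161564 with h | h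
            · exact edgesRangeI_spec iota E 1 3075 158489 edges_1_54 v (by omega) (by omega)
            · rcases Nat.lt_or_ge v 164460 with h | h
              · exact edgesRangeI_spec iota E 1 2896 161564 edges_1_55 v (by omega) (by omega)
              · exact edgesRangeI_spec iota E 1 2700 164460 edges_1_56 v (by omega) (by omega)
        · rcases Nat.lt_or_ge v 175239 with h | h
          · rcases Nat.lt_or_ge v 170029 with h | h
            · exact edgesRangeI_spec iota E 1 2869 167160 edges_1_57 v (by omega) (by omega)
            · rcases Nat.lt_or_ge v 172674 with h | h
              · exact edgesRangeI_spec iota E 1 2645 170029 edges_1_58 v (by omega) (by omega)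
              · exact edgesRangeI_spec iota E 1 2565 172674 edges_1_59 v (by omega) (by omega)
          · rcases Nat.lt_or_ge v 177882 with h | h
            · exact edgesRangeI_spec iota E 1 2643 175239 edges_1_60 v (by omega) (by omega)
            · rcases Nat.lt_or_ge v 179701 with h | h
              · exact edgesRangeI_spec iota E 1 1819 177882 edges_1_61 v (by omega) (by omega)
              · exact edgesRangeI_spec iota E 1 1796 179701 edges_1_62 v (by omega) (by omega)
    · rcases Nat.lt_or_ge v 199910 with h | h
      · rcases Nat.lt_or_ge v 190254 with h | h
        · rcases Nat.lt_or_ge v 185153 with h | h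
          · rcases Nat.lt_or_ge v 183402 with h | h
            · exact edgesRangeI_spec iota E 1 1905 181497 edges_1_63 v (by omega) (by omega)
            · exact edgesRangeI_spec iota E 1 1751 183402 edges_1_64 v (by omega) (by omega)
          · rcases Nat.lt_or_ge v 186886 with h | h
            · exact edgesRangeI_spec iota E 1 1733 185153 edges_1_65 v (by omega) (by omega)
            · rcases Nat.lt_or_ge v 188552 with h | h
              · exact edgesRangeI_spec iota E 1 1666 186886 edges_1_66 v (by omega) (by omega)
              · exact edgesRangeI_spec iota E 1 1702 188552 edges_1_67 v (by omega) (by omega)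
        · rcases Nat.lt_or_ge v 195186 with h | h
          · rcases Nat.lt_or_ge v 191877 with h | h
            · exact edgesRangeI_spec iota E 1 1623 190254 edges_1_68 v (by omega) (by omega)
            · rcases Nat.lt_or_ge v 193551 with h | h
              · exact edgesRangeI_spec iota E 1 1674 191877 edges_1_69 v (by omega) (by omega)
              · exact edgesRangeI_spec iota E 1 1635 193551 edges_1_70 v (by omega) (by omega)
          · rcases Nat.lt_or_ge v 196841 with h | h
            · exact edgesRangeI_spec iota E 1 1655 195186 edges_1_71 v (by omega) (by omega)
            · rcases Nat.lt_or_ge v 198341 with h | h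
              · exact edgesRangeI_spec iota E 1 1500 196841 edges_1_72 v (by omega) (by omega)
              · exact edgesRangeI_spec iota E 1 1569 198341 edges_1_73 v (by omega) (by omega)
      · rcases Nat.lt_or_ge v 207488 with h | h
        · rcases Nat.lt_or_ge v 202917 with h | h
          · rcases Nat.lt_or_ge v 201449 with h | h
            · exact edgesRangeI_spec iota E 1 1539 199910 edges_1_74 v (by omega) (by omega)
            · exact edgesRangeI_spec iota E 1 1468 201449 edges_1_75 v (by omega) (by omega)
          · rcases Nat.lt_or_ge v 204445 with h | h
            · exact edgesRangeI_spec iota E 1 1528 202917 edges_1_76 v (by omega) (by omega)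
            · rcases Nat.lt_or_ge v 205978 with h | h
              · exact edgesRangeI_spec iota E 1 1533 204445 edges_1_77 v (by omega) (by omega)
              · exact edgesRangeI_spec iota E 1 1510 205978 edges_1_78 v (by omega) (by omega)
        · rcases Nat.lt_or_ge v 211673 with h | h
          · rcases Nat.lt_or_ge v 208917 with h | h
            · exact edgesRangeI_spec iota E 1 1429 207488 edges_1_79 v (by omega) (by omega)
            · rcases Nat.lt_or_ge v 210314 with h | h
              · exact edgesRangeI_spec iota E 1 1397 208917 edges_1_80 v (by omega) (by omega)
              · exact edgesRangeI_spec iota E 1 1359 210314 edges_1_81 v (by omega) (by omega)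
          · rcases Nat.lt_or_ge v 213012 with h | h
            · exact edgesRangeI_spec iota E 1 1339 211673 edges_1_82 v (by omega) (by omega)
            · rcases Nat.lt_or_ge v 214246 with h | h
              · exact edgesRangeI_spec iota E 1 1234 213012 edges_1_83 v (by omega) (by omega)
              · exact edgesRangeI_spec iota E 1 489 214246 edges_1_84 v (by omega) (by omega)

theorem edgesx_2 : ∀ v, v < 214735 → edgeOKI iota E 2 v = true := by
  intro v hv
  rcases Nat.lt_or_ge v 128491 with h | h
  · rcases Nat.lt_or_ge v 67518 with h | h
    · rcases Nat.lt_or_ge v 34484 with h | h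
      · rcases Nat.lt_or_ge v 17610 with h | h
        · rcases Nat.lt_or_ge v 8895 with h | h
          · rcases Nat.lt_or_ge v 2843 with h | h
            · exact edgesRangeI_spec iota E 2 2843 0 edges_2_0 v (by omega) (by omega)
            · rcases Nat.lt_or_ge v 5835 with h | h
              · exact edgesRangeI_spec iota E 2 2992 2843 edges_2_1 v (by omega) (by omega)
              · exact edgesRangeI_spec iota E 2 3060 5835 edges_2_2 v (by omega) (by omega)
          · rcases Nat.lt_or_ge v 11634 with h | h
            · exact edgesRangeI_spec iota E 2 2739 8895 edges_2_3 v (by omega) (by omega)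
            · rcases Nat.lt_or_ge v 14521 with h | h
              · exact edgesRangeI_spec iota E 2 2887 11634 edges_2_4 v (by omega) (by omega)
              · exact edgesRangeI_spec iota E 2 3089 14521 edges_2_5 v (by omega) (by omega)
        · rcases Nat.lt_or_ge v 26017 with h | h
          · rcases Nat.lt_or_ge v 20403 with h | h
            · exact edgesRangeI_spec iota E 2 2793 17610 edges_2_6 v (by omega) (by omega)
            · rcases Nat.lt_or_ge v 23406 with h | h
              · exact edgesRangeI_spec iota E 2 3003 20403 edges_2_7 v (by omega) (by omega)
              · exact edgesRangeI_spec iota E 2 2611 23406 edges_2_8 v (by omega) (by omega)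
          · rcases Nat.lt_or_ge v 28706 with h | h
            · exact edgesRangeI_spec iota E 2 2689 26017 edges_2_9 v (by omega) (by omega)
            · rcases Nat.lt_or_ge v 31680 with h | h
              · exact edgesRangeI_spec iota E 2 2974 28706 edges_2_10 v (by omega) (by omega)
              · exact edgesRangeI_spec iota E 2 2804 31680 edges_2_11 v (by omega) (by omega)
      · rcases Nat.lt_or_ge v 50661 with h | h
        · rcases Nat.lt_or_ge v 42868 with h | h
          · rcases Nat.lt_or_ge v 37578 with h | h
            · exact edgesRangeI_spec iota E 2 3094 34484 edges_2_12 v (by omega) (by omega)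
            · rcases Nat.lt_or_ge v 40329 with h | h
              · exact edgesRangeI_spec iota E 2 2751 37578 edges_2_13 v (by omega) (by omega)
              · exact edgesRangeI_spec iota E 2 2539 40329 edges_2_14 v (by omega) (by omega)
          · rcases Nat.lt_or_ge v 45824 with h | h
            · exact edgesRangeI_spec iota E 2 2956 42868 edges_2_15 v (by omega) (by omega)
            · rcases Nat.lt_or_ge v 48316 with h | h
              · exact edgesRangeI_spec iota E 2 2492 45824 edges_2_16 v (by omega) (by omega)
              · exact edgesRangeI_spec iota E 2 2345 48316 edges_2_17 v (by omega) (by omega)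
        · rcases Nat.lt_or_ge v 58735 with h | h
          · rcases Nat.lt_or_ge v 53460 with h | h
            · exact edgesRangeI_spec iota E 2 2799 50661 edges_2_18 v (by omega) (by omega)
            · rcases Nat.lt_or_ge v 56375 with h | h
              · exact edgesRangeI_spec iota E 2 2915 53460 edges_2_19 v (by omega) (by omega)
              · exact edgesRangeI_spec iota E 2 2360 56375 edges_2_20 v (by omega) (by omega)
          · rcases Nat.lt_or_ge v 61874 with h | h
            · exact edgesRangeI_spec iota E 2 3139 58735 edges_2_21 v (by omega) (by omega)
            · rcases Nat.lt_or_ge v 64742 with h | h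
              · exact edgesRangeI_spec iota E 2 2868 61874 edges_2_22 v (by omega) (by omega)
              · exact edgesRangeI_spec iota E 2 2776 64742 edges_2_23 v (by omega) (by omega)
    · rcases Nat.lt_or_ge v 99862 with h | h
      · rcases Nat.lt_or_ge v 84443 with h | h
        · rcases Nat.lt_or_ge v 75459 with h | h
          · rcases Nat.lt_or_ge v 70348 with h | h
            · exact edgesRangeI_spec iota E 2 2830 67518 edges_2_24 v (by omega) (by omega)
            · rcases Nat.lt_or_ge v 73066 with h | h
              · exact edgesRangeI_spec iota E 2 2718 70348 edges_2_25 v (by omega) (by omega)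
              · exact edgesRangeI_spec iota E 2 2393 73066 edges_2_26 v (by omega) (by omega)
          · rcases Nat.lt_or_ge v 78566 with h | h
            · exact edgesRangeI_spec iota E 2 3107 75459 edges_2_27 v (by omega) (by omega)
            · rcases Nat.lt_or_ge v 81786 with h | h
              · exact edgesRangeI_spec iota E 2 3220 78566 edges_2_28 v (by omega) (by omega)
              · exact edgesRangeI_spec iota E 2 2657 81786 edges_2_29 v (by omega) (by omega)
        · rcases Nat.lt_or_ge v 92439 with h | h
          · rcases Nat.lt_or_ge v 86934 with h | h
            · exact edgesRangeI_spec iota E 2 2491 84443 edges_2_30 v (by omega) (by omega)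
            · rcases Nat.lt_or_ge v 89525 with h | h
              · exact edgesRangeI_spec iota E 2 2591 86934 edges_2_31 v (by omega) (by omega)
              · exact edgesRangeI_spec iota E 2 2914 89525 edges_2_32 v (by omega) (by omega)
          · rcases Nat.lt_or_ge v 95192 with h | h
            · exact edgesRangeI_spec iota E 2 2753 92439 edges_2_33 v (by omega) (by omega)
            · rcases Nat.lt_or_ge v 97571 with h | h
              · exact edgesRangeI_spec iota E 2 2379 95192 edges_2_34 v (by omega) (by omega)
              · exact edgesRangeI_spec iota E 2 2291 97571 edges_2_35 v (by omega) (by omega)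
      · rcases Nat.lt_or_ge v 114092 with h | h
        · rcases Nat.lt_or_ge v 106791 with h | h
          · rcases Nat.lt_or_ge v 102280 with h | h
            · exact edgesRangeI_spec iota E 2 2418 99862 edges_2_36 v (by omega) (by omega)
            · rcases Nat.lt_or_ge v 104606 with h | h
              · exact edgesRangeI_spec iota E 2 2326 102280 edges_2_37 v (by omega) (by omega)
              · exact edgesRangeI_spec iota E 2 2185 104606 edges_2_38 v (by omega) (by omega)
          · rcases Nat.lt_or_ge v 109179 with h | h
            · exact edgesRangeI_spec iota E 2 2388 106791 edges_2_39 v (by omega) (by omega)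
            · rcases Nat.lt_or_ge v 111719 with h | h
              · exact edgesRangeI_spec iota E 2 2540 109179 edges_2_40 v (by omega) (by omega)
              · exact edgesRangeI_spec iota E 2 2373 111719 edges_2_41 v (by omega) (by omega)
        · rcases Nat.lt_or_ge v 120861 with h | h
          · rcases Nat.lt_or_ge v 116549 with h | h
            · exact edgesRangeI_spec iota E 2 2457 114092 edges_2_42 v (by omega) (by omega)
            · rcases Nat.lt_or_ge v 118691 with h | h
              · exact edgesRangeI_spec iota E 2 2142 116549 edges_2_43 v (by omega) (by omega)
              · exact edgesRangeI_spec iota E 2 2170 118691 edges_2_44 v (by omega) (by omega)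
          · rcases Nat.lt_or_ge v 123270 with h | h
            · exact edgesRangeI_spec iota E 2 2409 120861 edges_2_45 v (by omega) (by omega)
            · rcases Nat.lt_or_ge v 126096 with h | h
              · exact edgesRangeI_spec iota E 2 2826 123270 edges_2_46 v (by omega) (by omega)
              · exact edgesRangeI_spec iota E 2 2395 126096 edges_2_47 v (by omega) (by omega)
  · rcases Nat.lt_or_ge v 184252 with h | h
    · rcases Nat.lt_or_ge v 157479 with h | h
      · rcases Nat.lt_or_ge v 142707 with h | h
        · rcases Nat.lt_or_ge v 135916 with h | h
          · rcases Nat.lt_or_ge v 131069 with h | h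
            · exact edgesRangeI_spec iota E 2 2578 128491 edges_2_48 v (by omega) (by omega)
            · rcases Nat.lt_or_ge v 133572 with h | h
              · exact edgesRangeI_spec iota E 2 2503 131069 edges_2_49 v (by omega) (by omega)
              · exact edgesRangeI_spec iota E 2 2344 133572 edges_2_50 v (by omega) (by omega)
          · rcases Nat.lt_or_ge v 138087 with h | h
            · exact edgesRangeI_spec iota E 2 2171 135916 edges_2_51 v (by omega) (by omega)
            · rcases Nat.lt_or_ge v 140289 with h | h
              · exact edgesRangeI_spec iota E 2 2202 138087 edges_2_52 v (by omega) (by omega)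
              · exact edgesRangeI_spec iota E 2 2418 140289 edges_2_53 v (by omega) (by omega)
        · rcases Nat.lt_or_ge v 149605 with h | h
          · rcases Nat.lt_or_ge v 145015 with h | h
            · exact edgesRangeI_spec iota E 2 2308 142707 edges_2_54 v (by omega) (by omega)
            · rcases Nat.lt_or_ge v 147264 with h | h
              · exact edgesRangeI_spec iota E 2 2249 145015 edges_2_55 v (by omega) (by omega)
              · exact edgesRangeI_spec iota E 2 2341 147264 edges_2_56 v (by omega) (by omega)
          · rcases Nat.lt_or_ge v 152166 with h | h
            · exact edgesRangeI_spec iota E 2 2561 149605 edges_2_57 v (by omega) (by omega)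
            · rcases Nat.lt_or_ge v 154791 with h | h
              · exact edgesRangeI_spec iota E 2 2625 152166 edges_2_58 v (by omega) (by omega)
              · exact edgesRangeI_spec iota E 2 2688 154791 edges_2_59 v (by omega) (by omega)
      · rcases Nat.lt_or_ge v 172348 with h | h
        · rcases Nat.lt_or_ge v 164997 with h | h
          · rcases Nat.lt_or_ge v 160110 with h | h
            · exact edgesRangeI_spec iota E 2 2631 157479 edges_2_60 v (by omega) (by omega)
            · rcases Nat.lt_or_ge v 162547 with h | h
              · exact edgesRangeI_spec iota E 2 2437 160110 edges_2_61 v (by omega) (by omega)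
              · exact edgesRangeI_spec iota E 2 2450 162547 edges_2_62 v (by omega) (by omega)
          · rcases Nat.lt_or_ge v 167233 with h | h
            · exact edgesRangeI_spec iota E 2 2236 164997 edges_2_63 v (by omega) (by omega)
            · rcases Nat.lt_or_ge v 169953 with h | h
              · exact edgesRangeI_spec iota E 2 2720 167233 edges_2_64 v (by omega) (by omega)
              · exact edgesRangeI_spec iota E 2 2395 169953 edges_2_65 v (by omega) (by omega)
        · rcases Nat.lt_or_ge v 179301 with h | h
          · rcases Nat.lt_or_ge v 174853 with h | h
            · exact edgesRangeI_spec iota E 2 2505 172348 edges_2_66 v (by omega) (by omega)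
            · rcases Nat.lt_or_ge v 177336 with h | h
              · exact edgesRangeI_spec iota E 2 2483 174853 edges_2_67 v (by omega) (by omega)
              · exact edgesRangeI_spec iota E 2 1965 177336 edges_2_68 v (by omega) (by omega)
          · rcases Nat.lt_or_ge v 180930 with h | h
            · exact edgesRangeI_spec iota E 2 1629 179301 edges_2_69 v (by omega) (by omega)
            · rcases Nat.lt_or_ge v 182620 with h | h
              · exact edgesRangeI_spec iota E 2 1690 180930 edges_2_70 v (by omega) (by omega)
              · exact edgesRangeI_spec iota E 2 1632 182620 edges_2_71 v (by omega) (by omega)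
    · rcases Nat.lt_or_ge v 201308 with h | h
      · rcases Nat.lt_or_ge v 193104 with h | h
        · rcases Nat.lt_or_ge v 188695 with h | h
          · rcases Nat.lt_or_ge v 185798 with h | h
            · exact edgesRangeI_spec iota E 2 1546 184252 edges_2_72 v (by omega) (by omega)
            · rcases Nat.lt_or_ge v 187308 with h | h
              · exact edgesRangeI_spec iota E 2 1510 185798 edges_2_73 v (by omega) (by omega)
              · exact edgesRangeI_spec iota E 2 1387 187308 edges_2_74 v (by omega) (by omega)
          · rcases Nat.lt_or_ge v 190160 with h | h
            · exact edgesRangeI_spec iota E 2 1465 188695 edges_2_75 v (by omega) (by omega)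
            · rcases Nat.lt_or_ge v 191581 with h | h
              · exact edgesRangeI_spec iota E 2 1421 190160 edges_2_76 v (by omega) (by omega)
              · exact edgesRangeI_spec iota E 2 1523 191581 edges_2_77 v (by omega) (by omega)
        · rcases Nat.lt_or_ge v 197402 with h | h
          · rcases Nat.lt_or_ge v 194591 with h | h
            · exact edgesRangeI_spec iota E 2 1487 193104 edges_2_78 v (by omega) (by omega)
            · rcases Nat.lt_or_ge v 195962 with h | h
              · exact edgesRangeI_spec iota E 2 1371 194591 edges_2_79 v (by omega) (by omega)
              · exact edgesRangeI_spec iota E 2 1440 195962 edges_2_80 v (by omega) (by omega)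
          · rcases Nat.lt_or_ge v 198670 with h | h
            · exact edgesRangeI_spec iota E 2 1268 197402 edges_2_81 v (by omega) (by omega)
            · rcases Nat.lt_or_ge v 199985 with h | h
              · exact edgesRangeI_spec iota E 2 1315 198670 edges_2_82 v (by omega) (by omega)
              · exact edgesRangeI_spec iota E 2 1323 199985 edges_2_83 v (by omega) (by omega)
      · rcases Nat.lt_or_ge v 208912 with h | h
        · rcases Nat.lt_or_ge v 205225 with h | h
          · rcases Nat.lt_or_ge v 202669 with h | h
            · exact edgesRangeI_spec iota E 2 1361 201308 edges_2_84 v (by omega) (by omega)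
            · rcases Nat.lt_or_ge v 203921 with h | h
              · exact edgesRangeI_spec iota E 2 1252 202669 edges_2_85 v (by omega) (by omega)
              · exact edgesRangeI_spec iota E 2 1304 203921 edges_2_86 v (by omega) (by omega)
          · rcases Nat.lt_or_ge v 206547 with h | h
            · exact edgesRangeI_spec iota E 2 1322 205225 edges_2_87 v (by omega) (by omega)
            · rcases Nat.lt_or_ge v 207744 with h | h
              · exact edgesRangeI_spec iota E 2 1197 206547 edges_2_88 v (by omega) (by omega)
              · exact edgesRangeI_spec iota E 2 1168 207744 edges_2_89 v (by omega) (by omega)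
        · rcases Nat.lt_or_ge v 212278 with h | h
          · rcases Nat.lt_or_ge v 210006 with h | h
            · exact edgesRangeI_spec iota E 2 1094 208912 edges_2_90 v (by omega) (by omega)
            · rcases Nat.lt_or_ge v 211128 with h | h
              · exact edgesRangeI_spec iota E 2 1122 210006 edges_2_91 v (by omega) (by omega)
              · exact edgesRangeI_spec iota E 2 1150 211128 edges_2_92 v (by omega) (by omega)
          · rcases Nat.lt_or_ge v 213343 with h | h
            · exact edgesRangeI_spec iota E 2 1065 212278 edges_2_93 v (by omega) (by omega)
            · rcases Nat.lt_or_ge v 214389 with h | h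
              · exact edgesRangeI_spec iota E 2 1046 213343 edges_2_94 v (by omega) (by omega)
              · exact edgesRangeI_spec iota E 2 346 214389 edges_2_95 v (by omega) (by omega)

theorem edgesx_3 : ∀ v, v < 214735 → edgeOKI iota E 3 v = true := by
  intro v hv
  rcases Nat.lt_or_ge v 132710 with h | h
  · rcases Nat.lt_or_ge v 69682 with h | h
    · rcases Nat.lt_or_ge v 33554 with h | h
      · rcases Nat.lt_or_ge v 17103 with h | h
        · rcases Nat.lt_or_ge v 7088 with h | h
          · rcases Nat.lt_or_ge v 3472 with h | h
            · exact edgesRangeI_spec iota E 3 3472 0 edges_3_0 v (by omega) (by omega)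
            · exact edgesRangeI_spec iota E 3 3616 3472 edges_3_1 v (by omega) (by omega)
          · rcases Nat.lt_or_ge v 10623 with h | h
            · exact edgesRangeI_spec iota E 3 3535 7088 edges_3_2 v (by omega) (by omega)
            · rcases Nat.lt_or_ge v 13932 with h | h
              · exact edgesRangeI_spec iota E 3 3309 10623 edges_3_3 v (by omega) (by omega)
              · exact edgesRangeI_spec iota E 3 3171 13932 edges_3_4 v (by omega) (by omega)
        · rcases Nat.lt_or_ge v 23920 with h | h
          · rcases Nat.lt_or_ge v 20436 with h | h
            · exact edgesRangeI_spec iota E 3 3333 17103 edges_3_5 v (by omega) (by omega)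
            · exact edgesRangeI_spec iota E 3 3484 20436 edges_3_6 v (by omega) (by omega)
          · rcases Nat.lt_or_ge v 26813 with h | h
            · exact edgesRangeI_spec iota E 3 2893 23920 edges_3_7 v (by omega) (by omega)
            · rcases Nat.lt_or_ge v 30200 with h | h
              · exact edgesRangeI_spec iota E 3 3387 26813 edges_3_8 v (by omega) (by omega)
              · exact edgesRangeI_spec iota E 3 3354 30200 edges_3_9 v (by omega) (by omega)
      · rcases Nat.lt_or_ge v 49662 with h | h
        · rcases Nat.lt_or_ge v 40114 with h | h
          · rcases Nat.lt_or_ge v 36512 with h | h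
            · exact edgesRangeI_spec iota E 3 2958 33554 edges_3_10 v (by omega) (by omega)
            · exact edgesRangeI_spec iota E 3 3602 36512 edges_3_11 v (by omega) (by omega)
          · rcases Nat.lt_or_ge v 43228 with h | h
            · exact edgesRangeI_spec iota E 3 3114 40114 edges_3_12 v (by omega) (by omega)
            · rcases Nat.lt_or_ge v 46710 with h | h
              · exact edgesRangeI_spec iota E 3 3482 43228 edges_3_13 v (by omega) (by omega)
              · exact edgesRangeI_spec iota E 3 2952 46710 edges_3_14 v (by omega) (by omega)
        · rcases Nat.lt_or_ge v 59189 with h | h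
          · rcases Nat.lt_or_ge v 52723 with h | h
            · exact edgesRangeI_spec iota E 3 3061 49662 edges_3_15 v (by omega) (by omega)
            · rcases Nat.lt_or_ge v 55906 with h | h
              · exact edgesRangeI_spec iota E 3 3183 52723 edges_3_16 v (by omega) (by omega)
              · exact edgesRangeI_spec iota E 3 3283 55906 edges_3_17 v (by omega) (by omega)
          · rcases Nat.lt_or_ge v 62986 with h | h
            · exact edgesRangeI_spec iota E 3 3797 59189 edges_3_18 v (by omega) (by omega)
            · rcases Nat.lt_or_ge v 66386 with h | h
              · exact edgesRangeI_spec iota E 3 3400 62986 edges_3_19 v (by omega) (by omega)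
              · exact edgesRangeI_spec iota E 3 3296 66386 edges_3_20 v (by omega) (by omega)
    · rcases Nat.lt_or_ge v 103339 with h | h
      · rcases Nat.lt_or_ge v 86171 with h | h
        · rcases Nat.lt_or_ge v 75970 with h | h
          · rcases Nat.lt_or_ge v 72895 with h | h
            · exact edgesRangeI_spec iota E 3 3213 69682 edges_3_21 v (by omega) (by omega)
            · exact edgesRangeI_spec iota E 3 3075 72895 edges_3_22 v (by omega) (by omega)
          · rcases Nat.lt_or_ge v 79724 with h | h
            · exact edgesRangeI_spec iota E 3 3754 75970 edges_3_23 v (by omega) (by omega)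
            · rcases Nat.lt_or_ge v 83139 with h | h
              · exact edgesRangeI_spec iota E 3 3415 79724 edges_3_24 v (by omega) (by omega)
              · exact edgesRangeI_spec iota E 3 3032 83139 edges_3_25 v (by omega) (by omega)
        · rcases Nat.lt_or_ge v 95748 with h | h
          · rcases Nat.lt_or_ge v 89576 with h | h
            · exact edgesRangeI_spec iota E 3 3405 86171 edges_3_26 v (by omega) (by omega)
            · rcases Nat.lt_or_ge v 92806 with h | h
              · exact edgesRangeI_spec iota E 3 3230 89576 edges_3_27 v (by omega) (by omega)
              · exact edgesRangeI_spec iota E 3 2942 92806 edges_3_28 v (by omega) (by omega)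
          · rcases Nat.lt_or_ge v 98405 with h | h
            · exact edgesRangeI_spec iota E 3 2657 95748 edges_3_29 v (by omega) (by omega)
            · rcases Nat.lt_or_ge v 100831 with h | h
              · exact edgesRangeI_spec iota E 3 2426 98405 edges_3_30 v (by omega) (by omega)
              · exact edgesRangeI_spec iota E 3 2508 100831 edges_3_31 v (by omega) (by omega)
      · rcases Nat.lt_or_ge v 116620 with h | h
        · rcases Nat.lt_or_ge v 108617 with h | h
          · rcases Nat.lt_or_ge v 105889 with h | h
            · exact edgesRangeI_spec iota E 3 2550 103339 edges_3_32 v (by omega) (by omega)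
            · exact edgesRangeI_spec iota E 3 2728 105889 edges_3_33 v (by omega) (by omega)
          · rcases Nat.lt_or_ge v 111394 with h | h
            · exact edgesRangeI_spec iota E 3 2777 108617 edges_3_34 v (by omega) (by omega)
            · rcases Nat.lt_or_ge v 114085 with h | h
              · exact edgesRangeI_spec iota E 3 2691 111394 edges_3_35 v (by omega) (by omega)
              · exact edgesRangeI_spec iota E 3 2535 114085 edges_3_36 v (by omega) (by omega)
        · rcases Nat.lt_or_ge v 124527 with h | h
          · rcases Nat.lt_or_ge v 119148 with h | h
            · exact edgesRangeI_spec iota E 3 2528 116620 edges_3_37 v (by omega) (by omega)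
            · rcases Nat.lt_or_ge v 121814 with h | h
              · exact edgesRangeI_spec iota E 3 2666 119148 edges_3_38 v (by omega) (by omega)
              · exact edgesRangeI_spec iota E 3 2713 121814 edges_3_39 v (by omega) (by omega)
          · rcases Nat.lt_or_ge v 127336 with h | h
            · exact edgesRangeI_spec iota E 3 2809 124527 edges_3_40 v (by omega) (by omega)
            · rcases Nat.lt_or_ge v 130128 with h | h
              · exact edgesRangeI_spec iota E 3 2792 127336 edges_3_41 v (by omega) (by omega)
              · exact edgesRangeI_spec iota E 3 2582 130128 edges_3_42 v (by omega) (by omega)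
  · rcases Nat.lt_or_ge v 184880 with h | h
    · rcases Nat.lt_or_ge v 159610 with h | h
      · rcases Nat.lt_or_ge v 145676 with h | h
        · rcases Nat.lt_or_ge v 137907 with h | h
          · rcases Nat.lt_or_ge v 135278 with h | h
            · exact edgesRangeI_spec iota E 3 2568 132710 edges_3_43 v (by omega) (by omega)
            · exact edgesRangeI_spec iota E 3 2629 135278 edges_3_44 v (by omega) (by omega)
          · rcases Nat.lt_or_ge v 140324 with h | h
            · exact edgesRangeI_spec iota E 3 2417 137907 edges_3_45 v (by omega) (by omega)
            · rcases Nat.lt_or_ge v 143019 with h | h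
              · exact edgesRangeI_spec iota E 3 2695 140324 edges_3_46 v (by omega) (by omega)
              · exact edgesRangeI_spec iota E 3 2657 143019 edges_3_47 v (by omega) (by omega)
        · rcases Nat.lt_or_ge v 150800 with h | h
          · rcases Nat.lt_or_ge v 148181 with h | h
            · exact edgesRangeI_spec iota E 3 2505 145676 edges_3_48 v (by omega) (by omega)
            · exact edgesRangeI_spec iota E 3 2619 148181 edges_3_49 v (by omega) (by omega)
          · rcases Nat.lt_or_ge v 153759 with h | h
            · exact edgesRangeI_spec iota E 3 2959 150800 edges_3_50 v (by omega) (by omega)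
            · rcases Nat.lt_or_ge v 156667 with h | h
              · exact edgesRangeI_spec iota E 3 2908 153759 edges_3_51 v (by omega) (by omega)
              · exact edgesRangeI_spec iota E 3 2943 156667 edges_3_52 v (by omega) (by omega)
      · rcases Nat.lt_or_ge v 173099 with h | h
        · rcases Nat.lt_or_ge v 165384 with h | h
          · rcases Nat.lt_or_ge v 162526 with h | h
            · exact edgesRangeI_spec iota E 3 2916 159610 edges_3_53 v (by omega) (by omega)
            · exact edgesRangeI_spec iota E 3 2858 162526 edges_3_54 v (by omega) (by omega)
          · rcases Nat.lt_or_ge v 168056 with h | h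
            · exact edgesRangeI_spec iota E 3 2672 165384 edges_3_55 v (by omega) (by omega)
            · rcases Nat.lt_or_ge v 170652 with h | h
              · exact edgesRangeI_spec iota E 3 2596 168056 edges_3_56 v (by omega) (by omega)
              · exact edgesRangeI_spec iota E 3 2447 170652 edges_3_57 v (by omega) (by omega)
        · rcases Nat.lt_or_ge v 180038 with h | h
          · rcases Nat.lt_or_ge v 175701 with h | h
            · exact edgesRangeI_spec iota E 3 2602 173099 edges_3_58 v (by omega) (by omega)
            · rcases Nat.lt_or_ge v 178270 with h | h
              · exact edgesRangeI_spec iota E 3 2569 175701 edges_3_59 v (by omega) (by omega)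
              · exact edgesRangeI_spec iota E 3 1768 178270 edges_3_60 v (by omega) (by omega)
          · rcases Nat.lt_or_ge v 181649 with h | h
            · exact edgesRangeI_spec iota E 3 1611 180038 edges_3_61 v (by omega) (by omega)
            · rcases Nat.lt_or_ge v 183252 with h | h
              · exact edgesRangeI_spec iota E 3 1603 181649 edges_3_62 v (by omega) (by omega)
              · exact edgesRangeI_spec iota E 3 1628 183252 edges_3_63 v (by omega) (by omega)
    · rcases Nat.lt_or_ge v 201436 with h | h
      · rcases Nat.lt_or_ge v 192819 with h | h
        · rcases Nat.lt_or_ge v 188119 with h | h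
          · rcases Nat.lt_or_ge v 186456 with h | h
            · exact edgesRangeI_spec iota E 3 1576 184880 edges_3_64 v (by omega) (by omega)
            · exact edgesRangeI_spec iota E 3 1663 186456 edges_3_65 v (by omega) (by omega)
          · rcases Nat.lt_or_ge v 189683 with h | h
            · exact edgesRangeI_spec iota E 3 1564 188119 edges_3_66 v (by omega) (by omega)
            · rcases Nat.lt_or_ge v 191250 with h | h
              · exact edgesRangeI_spec iota E 3 1567 189683 edges_3_67 v (by omega) (by omega)
              · exact edgesRangeI_spec iota E 3 1569 191250 edges_3_68 v (by omega) (by omega)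
        · rcases Nat.lt_or_ge v 197209 with h | h
          · rcases Nat.lt_or_ge v 194365 with h | h
            · exact edgesRangeI_spec iota E 3 1546 192819 edges_3_69 v (by omega) (by omega)
            · rcases Nat.lt_or_ge v 195798 with h | h
              · exact edgesRangeI_spec iota E 3 1433 194365 edges_3_70 v (by omega) (by omega)
              · exact edgesRangeI_spec iota E 3 1411 195798 edges_3_71 v (by omega) (by omega)
          · rcases Nat.lt_or_ge v 198692 with h | h
            · exact edgesRangeI_spec iota E 3 1483 197209 edges_3_72 v (by omega) (by omega)
            · rcases Nat.lt_or_ge v 200063 with h | h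
              · exact edgesRangeI_spec iota E 3 1371 198692 edges_3_73 v (by omega) (by omega)
              · exact edgesRangeI_spec iota E 3 1373 200063 edges_3_74 v (by omega) (by omega)
      · rcases Nat.lt_or_ge v 208167 with h | h
        · rcases Nat.lt_or_ge v 204215 with h | h
          · rcases Nat.lt_or_ge v 202810 with h | h
            · exact edgesRangeI_spec iota E 3 1374 201436 edges_3_75 v (by omega) (by omega)
            · exact edgesRangeI_spec iota E 3 1405 202810 edges_3_76 v (by omega) (by omega)
          · rcases Nat.lt_or_ge v 205502 with h | h
            · exact edgesRangeI_spec iota E 3 1287 204215 edges_3_77 v (by omega) (by omega)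
            · rcases Nat.lt_or_ge v 206819 with h | h
              · exact edgesRangeI_spec iota E 3 1317 205502 edges_3_78 v (by omega) (by omega)
              · exact edgesRangeI_spec iota E 3 1348 206819 edges_3_79 v (by omega) (by omega)
        · rcases Nat.lt_or_ge v 211818 with h | h
          · rcases Nat.lt_or_ge v 209427 with h | h
            · exact edgesRangeI_spec iota E 3 1260 208167 edges_3_80 v (by omega) (by omega)
            · rcases Nat.lt_or_ge v 210682 with h | h
              · exact edgesRangeI_spec iota E 3 1255 209427 edges_3_81 v (by omega) (by omega)
              · exact edgesRangeI_spec iota E 3 1136 210682 edges_3_82 v (by omega) (by omega)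
          · rcases Nat.lt_or_ge v 213035 with h | h
            · exact edgesRangeI_spec iota E 3 1217 211818 edges_3_83 v (by omega) (by omega)
            · rcases Nat.lt_or_ge v 214167 with h | h
              · exact edgesRangeI_spec iota E 3 1132 213035 edges_3_84 v (by omega) (by omega)
              · exact edgesRangeI_spec iota E 3 568 214167 edges_3_85 v (by omega) (by omega)

theorem edgesx_4 : ∀ v, v < 214735 → edgeOKI iota E 4 v = true := by
  intro v hv
  rcases Nat.lt_or_ge v 118002 with h | h
  · rcases Nat.lt_or_ge v 58154 with h | h
    · rcases Nat.lt_or_ge v 29027 with h | h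
      · rcases Nat.lt_or_ge v 14683 with h | h
        · rcases Nat.lt_or_ge v 5864 with h | h
          · rcases Nat.lt_or_ge v 2929 with h | h
            · exact edgesRangeI_spec iota E 4 2929 0 edges_4_0 v (by omega) (by omega)
            · exact edgesRangeI_spec iota E 4 2935 2929 edges_4_1 v (by omega) (by omega)
          · rcases Nat.lt_or_ge v 8977 with h | h
            · exact edgesRangeI_spec iota E 4 3113 5864 edges_4_2 v (by omega) (by omega)
            · rcases Nat.lt_or_ge v 11770 with h | h
              · exact edgesRangeI_spec iota E 4 2793 8977 edges_4_3 v (by omega) (by omega)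
              · exact edgesRangeI_spec iota E 4 2913 11770 edges_4_4 v (by omega) (by omega)
        · rcases Nat.lt_or_ge v 20577 with h | h
          · rcases Nat.lt_or_ge v 17654 with h | h
            · exact edgesRangeI_spec iota E 4 2971 14683 edges_4_5 v (by omega) (by omega)
            · exact edgesRangeI_spec iota E 4 2923 17654 edges_4_6 v (by omega) (by omega)
          · rcases Nat.lt_or_ge v 23603 with h | h
            · exact edgesRangeI_spec iota E 4 3026 20577 edges_4_7 v (by omega) (by omega)
            · rcases Nat.lt_or_ge v 26182 with h | h
              · exact edgesRangeI_spec iota E 4 2579 23603 edges_4_8 v (by omega) (by omega)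
              · exact edgesRangeI_spec iota E 4 2845 26182 edges_4_9 v (by omega) (by omega)
      · rcases Nat.lt_or_ge v 43972 with h | h
        · rcases Nat.lt_or_ge v 34960 with h | h
          · rcases Nat.lt_or_ge v 32084 with h | h
            · exact edgesRangeI_spec iota E 4 3057 29027 edges_4_10 v (by omega) (by omega)
            · exact edgesRangeI_spec iota E 4 2876 32084 edges_4_11 v (by omega) (by omega)
          · rcases Nat.lt_or_ge v 38169 with h | h
            · exact edgesRangeI_spec iota E 4 3209 34960 edges_4_12 v (by omega) (by omega)
            · rcases Nat.lt_or_ge v 41053 with h | h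
              · exact edgesRangeI_spec iota E 4 2884 38169 edges_4_13 v (by omega) (by omega)
              · exact edgesRangeI_spec iota E 4 2919 41053 edges_4_14 v (by omega) (by omega)
        · rcases Nat.lt_or_ge v 49632 with h | h
          · rcases Nat.lt_or_ge v 46869 with h | h
            · exact edgesRangeI_spec iota E 4 2897 43972 edges_4_15 v (by omega) (by omega)
            · exact edgesRangeI_spec iota E 4 2763 46869 edges_4_16 v (by omega) (by omega)
          · rcases Nat.lt_or_ge v 52391 with h | h
            · exact edgesRangeI_spec iota E 4 2759 49632 edges_4_17 v (by omega) (by omega)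
            · rcases Nat.lt_or_ge v 55322 with h | h
              · exact edgesRangeI_spec iota E 4 2931 52391 edges_4_18 v (by omega) (by omega)
              · exact edgesRangeI_spec iota E 4 2832 55322 edges_4_19 v (by omega) (by omega)
    · rcases Nat.lt_or_ge v 88328 with h | h
      · rcases Nat.lt_or_ge v 73352 with h | h
        · rcases Nat.lt_or_ge v 64339 with h | h
          · rcases Nat.lt_or_ge v 61206 with h | h
            · exact edgesRangeI_spec iota E 4 3052 58154 edges_4_20 v (by omega) (by omega)
            · exact edgesRangeI_spec iota E 4 3133 61206 edges_4_21 v (by omega) (by omega)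
          · rcases Nat.lt_or_ge v 67207 with h | h
            · exact edgesRangeI_spec iota E 4 2868 64339 edges_4_22 v (by omega) (by omega)
            · rcases Nat.lt_or_ge v 70228 with h | h
              · exact edgesRangeI_spec iota E 4 3021 67207 edges_4_23 v (by omega) (by omega)
              · exact edgesRangeI_spec iota E 4 3124 70228 edges_4_24 v (by omega) (by omega)
        · rcases Nat.lt_or_ge v 79483 with h | h
          · rcases Nat.lt_or_ge v 76085 with h | h
            · exact edgesRangeI_spec iota E 4 2733 73352 edges_4_25 v (by omega) (by omega)
            · exact edgesRangeI_spec iota E 4 3398 76085 edges_4_26 v (by omega) (by omega)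
          · rcases Nat.lt_or_ge v 82555 with h | h
            · exact edgesRangeI_spec iota E 4 3072 79483 edges_4_27 v (by omega) (by omega)
            · rcases Nat.lt_or_ge v 85446 with h | h
              · exact edgesRangeI_spec iota E 4 2891 82555 edges_4_28 v (by omega) (by omega)
              · exact edgesRangeI_spec iota E 4 2882 85446 edges_4_29 v (by omega) (by omega)
      · rcases Nat.lt_or_ge v 102459 with h | h
        · rcases Nat.lt_or_ge v 94311 with h | h
          · rcases Nat.lt_or_ge v 91190 with h | h
            · exact edgesRangeI_spec iota E 4 2862 88328 edges_4_30 v (by omega) (by omega)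
            · exact edgesRangeI_spec iota E 4 3121 91190 edges_4_31 v (by omega) (by omega)
          · rcases Nat.lt_or_ge v 97024 with h | h
            · exact edgesRangeI_spec iota E 4 2713 94311 edges_4_32 v (by omega) (by omega)
            · rcases Nat.lt_or_ge v 99699 with h | h
              · exact edgesRangeI_spec iota E 4 2675 97024 edges_4_33 v (by omega) (by omega)
              · exact edgesRangeI_spec iota E 4 2760 99699 edges_4_34 v (by omega) (by omega)
        · rcases Nat.lt_or_ge v 110182 with h | h
          · rcases Nat.lt_or_ge v 105152 with h | h
            · exact edgesRangeI_spec iota E 4 2693 102459 edges_4_35 v (by omega) (by omega)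
            · rcases Nat.lt_or_ge v 107662 with h | h
              · exact edgesRangeI_spec iota E 4 2510 105152 edges_4_36 v (by omega) (by omega)
              · exact edgesRangeI_spec iota E 4 2520 107662 edges_4_37 v (by omega) (by omega)
          · rcases Nat.lt_or_ge v 112772 with h | h
            · exact edgesRangeI_spec iota E 4 2590 110182 edges_4_38 v (by omega) (by omega)
            · rcases Nat.lt_or_ge v 115373 with h | h
              · exact edgesRangeI_spec iota E 4 2601 112772 edges_4_39 v (by omega) (by omega)
              · exact edgesRangeI_spec iota E 4 2629 115373 edges_4_40 v (by omega) (by omega)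
  · rcases Nat.lt_or_ge v 178603 with h | h
    · rcases Nat.lt_or_ge v 146025 with h | h
      · rcases Nat.lt_or_ge v 131999 with h | h
        · rcases Nat.lt_or_ge v 123189 with h | h
          · rcases Nat.lt_or_ge v 120613 with h | h
            · exact edgesRangeI_spec iota E 4 2611 118002 edges_4_41 v (by omega) (by omega)
            · exact edgesRangeI_spec iota E 4 2576 120613 edges_4_42 v (by omega) (by omega)
          · rcases Nat.lt_or_ge v 126345 with h | h
            · exact edgesRangeI_spec iota E 4 3156 123189 edges_4_43 v (by omega) (by omega)
            · rcases Nat.lt_or_ge v 129205 with h | h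
              · exact edgesRangeI_spec iota E 4 2860 126345 edges_4_44 v (by omega) (by omega)
              · exact edgesRangeI_spec iota E 4 2794 129205 edges_4_45 v (by omega) (by omega)
        · rcases Nat.lt_or_ge v 137591 with h | h
          · rcases Nat.lt_or_ge v 134898 with h | h
            · exact edgesRangeI_spec iota E 4 2899 131999 edges_4_46 v (by omega) (by omega)
            · exact edgesRangeI_spec iota E 4 2693 134898 edges_4_47 v (by omega) (by omega)
          · rcases Nat.lt_or_ge v 140202 with h | h
            · exact edgesRangeI_spec iota E 4 2611 137591 edges_4_48 v (by omega) (by omega)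
            · rcases Nat.lt_or_ge v 143237 with h | h
              · exact edgesRangeI_spec iota E 4 3035 140202 edges_4_49 v (by omega) (by omega)
              · exact edgesRangeI_spec iota E 4 2788 143237 edges_4_50 v (by omega) (by omega)
      · rcases Nat.lt_or_ge v 161107 with h | h
        · rcases Nat.lt_or_ge v 151357 with h | h
          · rcases Nat.lt_or_ge v 148563 with h | h
            · exact edgesRangeI_spec iota E 4 2538 146025 edges_4_51 v (by omega) (by omega)
            · exact edgesRangeI_spec iota E 4 2794 148563 edges_4_52 v (by omega) (by omega)
          · rcases Nat.lt_or_ge v 154758 with h | h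
            · exact edgesRangeI_spec iota E 4 3401 151357 edges_4_53 v (by omega) (by omega)
            · rcases Nat.lt_or_ge v 157826 with h | h
              · exact edgesRangeI_spec iota E 4 3068 154758 edges_4_54 v (by omega) (by omega)
              · exact edgesRangeI_spec iota E 4 3281 157826 edges_4_55 v (by omega) (by omega)
        · rcases Nat.lt_or_ge v 170074 with h | h
          · rcases Nat.lt_or_ge v 164139 with h | h
            · exact edgesRangeI_spec iota E 4 3032 161107 edges_4_56 v (by omega) (by omega)
            · rcases Nat.lt_or_ge v 167058 with h | h
              · exact edgesRangeI_spec iota E 4 2919 164139 edges_4_57 v (by omega) (by omega)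
              · exact edgesRangeI_spec iota E 4 3016 167058 edges_4_58 v (by omega) (by omega)
          · rcases Nat.lt_or_ge v 172937 with h | h
            · exact edgesRangeI_spec iota E 4 2863 170074 edges_4_59 v (by omega) (by omega)
            · rcases Nat.lt_or_ge v 175848 with h | h
              · exact edgesRangeI_spec iota E 4 2911 172937 edges_4_60 v (by omega) (by omega)
              · exact edgesRangeI_spec iota E 4 2755 175848 edges_4_61 v (by omega) (by omega)
    · rcases Nat.lt_or_ge v 197455 with h | h
      · rcases Nat.lt_or_ge v 188368 with h | h
        · rcases Nat.lt_or_ge v 182696 with h | h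
          · rcases Nat.lt_or_ge v 180680 with h | h
            · exact edgesRangeI_spec iota E 4 2077 178603 edges_4_62 v (by omega) (by omega)
            · exact edgesRangeI_spec iota E 4 2016 180680 edges_4_63 v (by omega) (by omega)
          · rcases Nat.lt_or_ge v 184636 with h | h
            · exact edgesRangeI_spec iota E 4 1940 182696 edges_4_64 v (by omega) (by omega)
            · rcases Nat.lt_or_ge v 186598 with h | h
              · exact edgesRangeI_spec iota E 4 1962 184636 edges_4_65 v (by omega) (by omega)
              · exact edgesRangeI_spec iota E 4 1770 186598 edges_4_66 v (by omega) (by omega)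
        · rcases Nat.lt_or_ge v 192004 with h | h
          · rcases Nat.lt_or_ge v 190224 with h | h
            · exact edgesRangeI_spec iota E 4 1856 188368 edges_4_67 v (by omega) (by omega)
            · exact edgesRangeI_spec iota E 4 1780 190224 edges_4_68 v (by omega) (by omega)
          · rcases Nat.lt_or_ge v 193876 with h | h
            · exact edgesRangeI_spec iota E 4 1872 192004 edges_4_69 v (by omega) (by omega)
            · rcases Nat.lt_or_ge v 195640 with h | h
              · exact edgesRangeI_spec iota E 4 1764 193876 edges_4_70 v (by omega) (by omega)
              · exact edgesRangeI_spec iota E 4 1815 195640 edges_4_71 v (by omega) (by omega)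
      · rcases Nat.lt_or_ge v 206123 with h | h
        · rcases Nat.lt_or_ge v 200998 with h | h
          · rcases Nat.lt_or_ge v 199264 with h | h
            · exact edgesRangeI_spec iota E 4 1809 197455 edges_4_72 v (by omega) (by omega)
            · exact edgesRangeI_spec iota E 4 1734 199264 edges_4_73 v (by omega) (by omega)
          · rcases Nat.lt_or_ge v 202702 with h | h
            · exact edgesRangeI_spec iota E 4 1704 200998 edges_4_74 v (by omega) (by omega)
            · rcases Nat.lt_or_ge v 204406 with h | h
              · exact edgesRangeI_spec iota E 4 1704 202702 edges_4_75 v (by omega) (by omega)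
              · exact edgesRangeI_spec iota E 4 1717 204406 edges_4_76 v (by omega) (by omega)
        · rcases Nat.lt_or_ge v 211163 with h | h
          · rcases Nat.lt_or_ge v 207846 with h | h
            · exact edgesRangeI_spec iota E 4 1723 206123 edges_4_77 v (by omega) (by omega)
            · rcases Nat.lt_or_ge v 209512 with h | h
              · exact edgesRangeI_spec iota E 4 1666 207846 edges_4_78 v (by omega) (by omega)
              · exact edgesRangeI_spec iota E 4 1651 209512 edges_4_79 v (by omega) (by omega)
          · rcases Nat.lt_or_ge v 212771 with h | h
            · exact edgesRangeI_spec iota E 4 1608 211163 edges_4_80 v (by omega) (by omega)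
            · rcases Nat.lt_or_ge v 214354 with h | h
              · exact edgesRangeI_spec iota E 4 1583 212771 edges_4_81 v (by omega) (by omega)
              · exact edgesRangeI_spec iota E 4 381 214354 edges_4_82 v (by omega) (by omega)

theorem edgesx_5 : ∀ v, v < 214735 → edgeOKI iota E 5 v = true := by
  intro v hv
  rcases Nat.lt_or_ge v 131460 with h | h
  · rcases Nat.lt_or_ge v 68832 with h | h
    · rcases Nat.lt_or_ge v 32276 with h | h
      · rcases Nat.lt_or_ge v 16380 with h | h
        · rcases Nat.lt_or_ge v 8262 with h | h
          · rcases Nat.lt_or_ge v 4065 with h | h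
            · exact edgesRangeI_spec iota E 5 4065 0 edges_5_0 v (by omega) (by omega)
            · exact edgesRangeI_spec iota E 5 4197 4065 edges_5_1 v (by omega) (by omega)
          · rcases Nat.lt_or_ge v 12134 with h | h
            · exact edgesRangeI_spec iota E 5 3872 8262 edges_5_2 v (by omega) (by omega)
            · exact edgesRangeI_spec iota E 5 4246 12134 edges_5_3 v (by omega) (by omega)
        · rcases Nat.lt_or_ge v 24340 with h | h
          · rcases Nat.lt_or_ge v 20369 with h | h
            · exact edgesRangeI_spec iota E 5 3989 16380 edges_5_4 v (by omega) (by omega)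
            · exact edgesRangeI_spec iota E 5 3971 20369 edges_5_5 v (by omega) (by omega)
          · rcases Nat.lt_or_ge v 28192 with h | h
            · exact edgesRangeI_spec iota E 5 3852 24340 edges_5_6 v (by omega) (by omega)
            · exact edgesRangeI_spec iota E 5 4084 28192 edges_5_7 v (by omega) (by omega)
      · rcases Nat.lt_or_ge v 48407 with h | h
        · rcases Nat.lt_or_ge v 40501 with h | h
          · rcases Nat.lt_or_ge v 36449 with h | h
            · exact edgesRangeI_spec iota E 5 4173 32276 edges_5_8 v (by omega) (by omega)
            · exact edgesRangeI_spec iota E 5 4052 36449 edges_5_9 v (by omega) (by omega)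
          · rcases Nat.lt_or_ge v 44530 with h | h
            · exact edgesRangeI_spec iota E 5 4029 40501 edges_5_10 v (by omega) (by omega)
            · exact edgesRangeI_spec iota E 5 3877 44530 edges_5_11 v (by omega) (by omega)
        · rcases Nat.lt_or_ge v 56386 with h | h
          · rcases Nat.lt_or_ge v 52411 with h | h
            · exact edgesRangeI_spec iota E 5 4004 48407 edges_5_12 v (by omega) (by omega)
            · exact edgesRangeI_spec iota E 5 3975 52411 edges_5_13 v (by omega) (by omega)
          · rcases Nat.lt_or_ge v 60418 with h | h
            · exact edgesRangeI_spec iota E 5 4032 56386 edges_5_14 v (by omega) (by omega)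
            · rcases Nat.lt_or_ge v 64986 with h | h
              · exact edgesRangeI_spec iota E 5 4568 60418 edges_5_15 v (by omega) (by omega)
              · exact edgesRangeI_spec iota E 5 3846 64986 edges_5_16 v (by omega) (by omega)
    · rcases Nat.lt_or_ge v 103967 with h | h
      · rcases Nat.lt_or_ge v 85452 with h | h
        · rcases Nat.lt_or_ge v 76927 with h | h
          · rcases Nat.lt_or_ge v 72961 with h | h
            · exact edgesRangeI_spec iota E 5 4129 68832 edges_5_17 v (by omega) (by omega)
            · exact edgesRangeI_spec iota E 5 3966 72961 edges_5_18 v (by omega) (by omega)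
          · rcases Nat.lt_or_ge v 81278 with h | h
            · exact edgesRangeI_spec iota E 5 4351 76927 edges_5_19 v (by omega) (by omega)
            · exact edgesRangeI_spec iota E 5 4174 81278 edges_5_20 v (by omega) (by omega)
        · rcases Nat.lt_or_ge v 93930 with h | h
          · rcases Nat.lt_or_ge v 89722 with h | h
            · exact edgesRangeI_spec iota E 5 4270 85452 edges_5_21 v (by omega) (by omega)
            · exact edgesRangeI_spec iota E 5 4208 89722 edges_5_22 v (by omega) (by omega)
          · rcases Nat.lt_or_ge v 97350 with h | h
            · exact edgesRangeI_spec iota E 5 3420 93930 edges_5_23 v (by omega) (by omega)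
            · rcases Nat.lt_or_ge v 100686 with h | h
              · exact edgesRangeI_spec iota E 5 3336 97350 edges_5_24 v (by omega) (by omega)
              · exact edgesRangeI_spec iota E 5 3281 100686 edges_5_25 v (by omega) (by omega)
      · rcases Nat.lt_or_ge v 116140 with h | h
        · rcases Nat.lt_or_ge v 109817 with h | h
          · rcases Nat.lt_or_ge v 106960 with h | h
            · exact edgesRangeI_spec iota E 5 2993 103967 edges_5_26 v (by omega) (by omega)
            · exact edgesRangeI_spec iota E 5 2857 106960 edges_5_27 v (by omega) (by omega)
          · rcases Nat.lt_or_ge v 112843 with h | h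
            · exact edgesRangeI_spec iota E 5 3026 109817 edges_5_28 v (by omega) (by omega)
            · exact edgesRangeI_spec iota E 5 3297 112843 edges_5_29 v (by omega) (by omega)
        · rcases Nat.lt_or_ge v 122108 with h | h
          · rcases Nat.lt_or_ge v 119109 with h | h
            · exact edgesRangeI_spec iota E 5 2969 116140 edges_5_30 v (by omega) (by omega)
            · exact edgesRangeI_spec iota E 5 2999 119109 edges_5_31 v (by omega) (by omega)
          · rcases Nat.lt_or_ge v 125282 with h | h
            · exact edgesRangeI_spec iota E 5 3174 122108 edges_5_32 v (by omega) (by omega)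
            · rcases Nat.lt_or_ge v 128291 with h | h
              · exact edgesRangeI_spec iota E 5 3009 125282 edges_5_33 v (by omega) (by omega)
              · exact edgesRangeI_spec iota E 5 3169 128291 edges_5_34 v (by omega) (by omega)
  · rcases Nat.lt_or_ge v 184846 with h | h
    · rcases Nat.lt_or_ge v 159664 with h | h
      · rcases Nat.lt_or_ge v 143288 with h | h
        · rcases Nat.lt_or_ge v 137301 with h | h
          · rcases Nat.lt_or_ge v 134437 with h | h
            · exact edgesRangeI_spec iota E 5 2977 131460 edges_5_35 v (by omega) (by omega)
            · exact edgesRangeI_spec iota E 5 2864 134437 edges_5_36 v (by omega) (by omega)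
          · rcases Nat.lt_or_ge v 140130 with h | h
            · exact edgesRangeI_spec iota E 5 2829 137301 edges_5_37 v (by omega) (by omega)
            · exact edgesRangeI_spec iota E 5 3158 140130 edges_5_38 v (by omega) (by omega)
        · rcases Nat.lt_or_ge v 149392 with h | h
          · rcases Nat.lt_or_ge v 146323 with h | h
            · exact edgesRangeI_spec iota E 5 3035 143288 edges_5_39 v (by omega) (by omega)
            · exact edgesRangeI_spec iota E 5 3069 146323 edges_5_40 v (by omega) (by omega)
          · rcases Nat.lt_or_ge v 152754 with h | h
            · exact edgesRangeI_spec iota E 5 3362 149392 edges_5_41 v (by omega) (by omega)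
            · rcases Nat.lt_or_ge v 156249 with h | h
              · exact edgesRangeI_spec iota E 5 3495 152754 edges_5_42 v (by omega) (by omega)
              · exact edgesRangeI_spec iota E 5 3415 156249 edges_5_43 v (by omega) (by omega)
      · rcases Nat.lt_or_ge v 172863 with h | h
        · rcases Nat.lt_or_ge v 166183 with h | h
          · rcases Nat.lt_or_ge v 163127 with h | h
            · exact edgesRangeI_spec iota E 5 3463 159664 edges_5_44 v (by omega) (by omega)
            · exact edgesRangeI_spec iota E 5 3056 163127 edges_5_45 v (by omega) (by omega)
          · rcases Nat.lt_or_ge v 169690 with h | h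
            · exact edgesRangeI_spec iota E 5 3507 166183 edges_5_46 v (by omega) (by omega)
            · exact edgesRangeI_spec iota E 5 3173 169690 edges_5_47 v (by omega) (by omega)
        · rcases Nat.lt_or_ge v 178860 with h | h
          · rcases Nat.lt_or_ge v 176067 with h | h
            · exact edgesRangeI_spec iota E 5 3204 172863 edges_5_48 v (by omega) (by omega)
            · exact edgesRangeI_spec iota E 5 2793 176067 edges_5_49 v (by omega) (by omega)
          · rcases Nat.lt_or_ge v 180868 with h | h
            · exact edgesRangeI_spec iota E 5 2008 178860 edges_5_50 v (by omega) (by omega)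
            · rcases Nat.lt_or_ge v 182897 with h | h
              · exact edgesRangeI_spec iota E 5 2029 180868 edges_5_51 v (by omega) (by omega)
              · exact edgesRangeI_spec iota E 5 1949 182897 edges_5_52 v (by omega) (by omega)
    · rcases Nat.lt_or_ge v 201074 with h | h
      · rcases Nat.lt_or_ge v 192298 with h | h
        · rcases Nat.lt_or_ge v 188550 with h | h
          · rcases Nat.lt_or_ge v 186779 with h | h
            · exact edgesRangeI_spec iota E 5 1933 184846 edges_5_53 v (by omega) (by omega)
            · exact edgesRangeI_spec iota E 5 1771 186779 edges_5_54 v (by omega) (by omega)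
          · rcases Nat.lt_or_ge v 190432 with h | h
            · exact edgesRangeI_spec iota E 5 1882 188550 edges_5_55 v (by omega) (by omega)
            · exact edgesRangeI_spec iota E 5 1866 190432 edges_5_56 v (by omega) (by omega)
        · rcases Nat.lt_or_ge v 195978 with h | h
          · rcases Nat.lt_or_ge v 194155 with h | h
            · exact edgesRangeI_spec iota E 5 1857 192298 edges_5_57 v (by omega) (by omega)
            · exact edgesRangeI_spec iota E 5 1823 194155 edges_5_58 v (by omega) (by omega)
          · rcases Nat.lt_or_ge v 197668 with h | h
            · exact edgesRangeI_spec iota E 5 1690 195978 edges_5_59 v (by omega) (by omega)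
            · rcases Nat.lt_or_ge v 199390 with h | h
              · exact edgesRangeI_spec iota E 5 1722 197668 edges_5_60 v (by omega) (by omega)
              · exact edgesRangeI_spec iota E 5 1684 199390 edges_5_61 v (by omega) (by omega)
      · rcases Nat.lt_or_ge v 207791 with h | h
        · rcases Nat.lt_or_ge v 204457 with h | h
          · rcases Nat.lt_or_ge v 202834 with h | h
            · exact edgesRangeI_spec iota E 5 1760 201074 edges_5_62 v (by omega) (by omega)
            · exact edgesRangeI_spec iota E 5 1623 202834 edges_5_63 v (by omega) (by omega)
          · rcases Nat.lt_or_ge v 206167 with h | h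
            · exact edgesRangeI_spec iota E 5 1710 204457 edges_5_64 v (by omega) (by omega)
            · exact edgesRangeI_spec iota E 5 1624 206167 edges_5_65 v (by omega) (by omega)
        · rcases Nat.lt_or_ge v 210841 with h | h
          · rcases Nat.lt_or_ge v 209337 with h | h
            · exact edgesRangeI_spec iota E 5 1546 207791 edges_5_66 v (by omega) (by omega)
            · exact edgesRangeI_spec iota E 5 1504 209337 edges_5_67 v (by omega) (by omega)
          · rcases Nat.lt_or_ge v 212282 with h | h
            · exact edgesRangeI_spec iota E 5 1441 210841 edges_5_68 v (by omega) (by omega)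
            · rcases Nat.lt_or_ge v 213663 with h | h
              · exact edgesRangeI_spec iota E 5 1381 212282 edges_5_69 v (by omega) (by omega)
              · exact edgesRangeI_spec iota E 5 1072 213663 edges_5_70 v (by omega) (by omega)

theorem edgesx_6 : ∀ v, v < 214735 → edgeOKI iota E 6 v = true := by
  intro v hv
  rcases Nat.lt_or_ge v 135031 with h | h
  · rcases Nat.lt_or_ge v 71464 with h | h
    · rcases Nat.lt_or_ge v 35980 with h | h
      · rcases Nat.lt_or_ge v 17010 with h | h
        · rcases Nat.lt_or_ge v 8888 with h | h
          · rcases Nat.lt_or_ge v 2999 with h | h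
            · exact edgesRangeI_spec iota E 6 2999 0 edges_6_0 v (by omega) (by omega)
            · rcases Nat.lt_or_ge v 5941 with h | h
              · exact edgesRangeI_spec iota E 6 2942 2999 edges_6_1 v (by omega) (by omega)
              · exact edgesRangeI_spec iota E 6 2947 5941 edges_6_2 v (by omega) (by omega)
          · rcases Nat.lt_or_ge v 11601 with h | h
            · exact edgesRangeI_spec iota E 6 2713 8888 edges_6_3 v (by omega) (by omega)
            · rcases Nat.lt_or_ge v 14323 with h | h
              · exact edgesRangeI_spec iota E 6 2722 11601 edges_6_4 v (by omega) (by omega)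
              · exact edgesRangeI_spec iota E 6 2687 14323 edges_6_5 v (by omega) (by omega)
        · rcases Nat.lt_or_ge v 25259 with h | h
          · rcases Nat.lt_or_ge v 19688 with h | h
            · exact edgesRangeI_spec iota E 6 2678 17010 edges_6_6 v (by omega) (by omega)
            · rcases Nat.lt_or_ge v 22682 with h | h
              · exact edgesRangeI_spec iota E 6 2994 19688 edges_6_7 v (by omega) (by omega)
              · exact edgesRangeI_spec iota E 6 2577 22682 edges_6_8 v (by omega) (by omega)
          · rcases Nat.lt_or_ge v 30680 with h | h
            · rcases Nat.lt_or_ge v 27728 with h | h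
              · exact edgesRangeI_spec iota E 6 2469 25259 edges_6_9 v (by omega) (by omega)
              · exact edgesRangeI_spec iota E 6 2952 27728 edges_6_10 v (by omega) (by omega)
            · rcases Nat.lt_or_ge v 33353 with h | h
              · exact edgesRangeI_spec iota E 6 2673 30680 edges_6_11 v (by omega) (by omega)
              · exact edgesRangeI_spec iota E 6 2627 33353 edges_6_12 v (by omega) (by omega)
      · rcases Nat.lt_or_ge v 52209 with h | h
        · rcases Nat.lt_or_ge v 44367 with h | h
          · rcases Nat.lt_or_ge v 39288 with h | h
            · exact edgesRangeI_spec iota E 6 3308 35980 edges_6_13 v (by omega) (by omega)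
            · rcases Nat.lt_or_ge v 41733 with h | h
              · exact edgesRangeI_spec iota E 6 2445 39288 edges_6_14 v (by omega) (by omega)
              · exact edgesRangeI_spec iota E 6 2634 41733 edges_6_15 v (by omega) (by omega)
          · rcases Nat.lt_or_ge v 47076 with h | h
            · exact edgesRangeI_spec iota E 6 2709 44367 edges_6_16 v (by omega) (by omega)
            · rcases Nat.lt_or_ge v 49606 with h | h
              · exact edgesRangeI_spec iota E 6 2530 47076 edges_6_17 v (by omega) (by omega)
              · exact edgesRangeI_spec iota E 6 2603 49606 edges_6_18 v (by omega) (by omega)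
        · rcases Nat.lt_or_ge v 60059 with h | h
          · rcases Nat.lt_or_ge v 54756 with h | h
            · exact edgesRangeI_spec iota E 6 2547 52209 edges_6_19 v (by omega) (by omega)
            · rcases Nat.lt_or_ge v 57436 with h | h
              · exact edgesRangeI_spec iota E 6 2680 54756 edges_6_20 v (by omega) (by omega)
              · exact edgesRangeI_spec iota E 6 2623 57436 edges_6_21 v (by omega) (by omega)
          · rcases Nat.lt_or_ge v 66146 with h | h
            · rcases Nat.lt_or_ge v 63262 with h | h
              · exact edgesRangeI_spec iota E 6 3203 60059 edges_6_22 v (by omega) (by omega)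
              · exact edgesRangeI_spec iota E 6 2884 63262 edges_6_23 v (by omega) (by omega)
            · rcases Nat.lt_or_ge v 68481 with h | h
              · exact edgesRangeI_spec iota E 6 2335 66146 edges_6_24 v (by omega) (by omega)
              · exact edgesRangeI_spec iota E 6 2983 68481 edges_6_25 v (by omega) (by omega)
    · rcases Nat.lt_or_ge v 104171 with h | h
      · rcases Nat.lt_or_ge v 87317 with h | h
        · rcases Nat.lt_or_ge v 79550 with h | h
          · rcases Nat.lt_or_ge v 73888 with h | h
            · exact edgesRangeI_spec iota E 6 2424 71464 edges_6_26 v (by omega) (by omega)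
            · rcases Nat.lt_or_ge v 76403 with h | h
              · exact edgesRangeI_spec iota E 6 2515 73888 edges_6_27 v (by omega) (by omega)
              · exact edgesRangeI_spec iota E 6 3147 76403 edges_6_28 v (by omega) (by omega)
          · rcases Nat.lt_or_ge v 82586 with h | h
            · exact edgesRangeI_spec iota E 6 3036 79550 edges_6_29 v (by omega) (by omega)
            · rcases Nat.lt_or_ge v 84944 with h | h
              · exact edgesRangeI_spec iota E 6 2358 82586 edges_6_30 v (by omega) (by omega)
              · exact edgesRangeI_spec iota E 6 2373 84944 edges_6_31 v (by omega) (by omega)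
        · rcases Nat.lt_or_ge v 95377 with h | h
          · rcases Nat.lt_or_ge v 90058 with h | h
            · exact edgesRangeI_spec iota E 6 2741 87317 edges_6_32 v (by omega) (by omega)
            · rcases Nat.lt_or_ge v 92866 with h | h
              · exact edgesRangeI_spec iota E 6 2808 90058 edges_6_33 v (by omega) (by omega)
              · exact edgesRangeI_spec iota E 6 2511 92866 edges_6_34 v (by omega) (by omega)
          · rcases Nat.lt_or_ge v 99746 with h | h
            · rcases Nat.lt_or_ge v 97626 with h | h
              · exact edgesRangeI_spec iota E 6 2249 95377 edges_6_35 v (by omega) (by omega)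
              · exact edgesRangeI_spec iota E 6 2120 97626 edges_6_36 v (by omega) (by omega)
            · rcases Nat.lt_or_ge v 101905 with h | h
              · exact edgesRangeI_spec iota E 6 2159 99746 edges_6_37 v (by omega) (by omega)
              · exact edgesRangeI_spec iota E 6 2266 101905 edges_6_38 v (by omega) (by omega)
      · rcases Nat.lt_or_ge v 119233 with h | h
        · rcases Nat.lt_or_ge v 110599 with h | h
          · rcases Nat.lt_or_ge v 106225 with h | h
            · exact edgesRangeI_spec iota E 6 2054 104171 edges_6_39 v (by omega) (by omega)
            · rcases Nat.lt_or_ge v 108508 with h | h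
              · exact edgesRangeI_spec iota E 6 2283 106225 edges_6_40 v (by omega) (by omega)
              · exact edgesRangeI_spec iota E 6 2091 108508 edges_6_41 v (by omega) (by omega)
          · rcases Nat.lt_or_ge v 114969 with h | h
            · rcases Nat.lt_or_ge v 112623 with h | h
              · exact edgesRangeI_spec iota E 6 2024 110599 edges_6_42 v (by omega) (by omega)
              · exact edgesRangeI_spec iota E 6 2346 112623 edges_6_43 v (by omega) (by omega)
            · rcases Nat.lt_or_ge v 117192 with h | h
              · exact edgesRangeI_spec iota E 6 2223 114969 edges_6_44 v (by omega) (by omega)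
              · exact edgesRangeI_spec iota E 6 2041 117192 edges_6_45 v (by omega) (by omega)
        · rcases Nat.lt_or_ge v 125893 with h | h
          · rcases Nat.lt_or_ge v 121374 with h | h
            · exact edgesRangeI_spec iota E 6 2141 119233 edges_6_46 v (by omega) (by omega)
            · rcases Nat.lt_or_ge v 123287 with h | h
              · exact edgesRangeI_spec iota E 6 1913 121374 edges_6_47 v (by omega) (by omega)
              · exact edgesRangeI_spec iota E 6 2606 123287 edges_6_48 v (by omega) (by omega)
          · rcases Nat.lt_or_ge v 130555 with h | h
            · rcases Nat.lt_or_ge v 128131 with h | h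
              · exact edgesRangeI_spec iota E 6 2238 125893 edges_6_49 v (by omega) (by omega)
              · exact edgesRangeI_spec iota E 6 2424 128131 edges_6_50 v (by omega) (by omega)
            · rcases Nat.lt_or_ge v 132737 with h | h
              · exact edgesRangeI_spec iota E 6 2182 130555 edges_6_51 v (by omega) (by omega)
              · exact edgesRangeI_spec iota E 6 2294 132737 edges_6_52 v (by omega) (by omega)
  · rcases Nat.lt_or_ge v 188262 with h | h
    · rcases Nat.lt_or_ge v 164229 with h | h
      · rcases Nat.lt_or_ge v 147535 with h | h
        · rcases Nat.lt_or_ge v 141170 with h | h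
          · rcases Nat.lt_or_ge v 137147 with h | h
            · exact edgesRangeI_spec iota E 6 2116 135031 edges_6_53 v (by omega) (by omega)
            · rcases Nat.lt_or_ge v 139115 with h | h
              · exact edgesRangeI_spec iota E 6 1968 137147 edges_6_54 v (by omega) (by omega)
              · exact edgesRangeI_spec iota E 6 2055 139115 edges_6_55 v (by omega) (by omega)
          · rcases Nat.lt_or_ge v 143434 with h | h
            · exact edgesRangeI_spec iota E 6 2264 141170 edges_6_56 v (by omega) (by omega)
            · rcases Nat.lt_or_ge v 145475 with h | h
              · exact edgesRangeI_spec iota E 6 2041 143434 edges_6_57 v (by omega) (by omega)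
              · exact edgesRangeI_spec iota E 6 2060 145475 edges_6_58 v (by omega) (by omega)
        · rcases Nat.lt_or_ge v 154652 with h | h
          · rcases Nat.lt_or_ge v 149688 with h | h
            · exact edgesRangeI_spec iota E 6 2153 147535 edges_6_59 v (by omega) (by omega)
            · rcases Nat.lt_or_ge v 152060 with h | h
              · exact edgesRangeI_spec iota E 6 2372 149688 edges_6_60 v (by omega) (by omega)
              · exact edgesRangeI_spec iota E 6 2592 152060 edges_6_61 v (by omega) (by omega)
          · rcases Nat.lt_or_ge v 159437 with h | h
            · rcases Nat.lt_or_ge v 156975 with h | h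
              · exact edgesRangeI_spec iota E 6 2323 154652 edges_6_62 v (by omega) (by omega)
              · exact edgesRangeI_spec iota E 6 2462 156975 edges_6_63 v (by omega) (by omega)
            · rcases Nat.lt_or_ge v 161768 with h | h
              · exact edgesRangeI_spec iota E 6 2331 159437 edges_6_64 v (by omega) (by omega)
              · exact edgesRangeI_spec iota E 6 2461 161768 edges_6_65 v (by omega) (by omega)
      · rcases Nat.lt_or_ge v 179337 with h | h
        · rcases Nat.lt_or_ge v 171210 with h | h
          · rcases Nat.lt_or_ge v 166577 with h | h
            · exact edgesRangeI_spec iota E 6 2348 164229 edges_6_66 v (by omega) (by omega)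
            · rcases Nat.lt_or_ge v 168950 with h | h
              · exact edgesRangeI_spec iota E 6 2373 166577 edges_6_67 v (by omega) (by omega)
              · exact edgesRangeI_spec iota E 6 2260 168950 edges_6_68 v (by omega) (by omega)
          · rcases Nat.lt_or_ge v 175759 with h | h
            · rcases Nat.lt_or_ge v 173453 with h | h
              · exact edgesRangeI_spec iota E 6 2243 171210 edges_6_69 v (by omega) (by omega)
              · exact edgesRangeI_spec iota E 6 2306 173453 edges_6_70 v (by omega) (by omega)
            · rcases Nat.lt_or_ge v 177960 with h | h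
              · exact edgesRangeI_spec iota E 6 2201 175759 edges_6_71 v (by omega) (by omega)
              · exact edgesRangeI_spec iota E 6 1377 177960 edges_6_72 v (by omega) (by omega)
        · rcases Nat.lt_or_ge v 183371 with h | h
          · rcases Nat.lt_or_ge v 180683 with h | h
            · exact edgesRangeI_spec iota E 6 1346 179337 edges_6_73 v (by omega) (by omega)
            · rcases Nat.lt_or_ge v 182052 with h | h
              · exact edgesRangeI_spec iota E 6 1369 180683 edges_6_74 v (by omega) (by omega)
              · exact edgesRangeI_spec iota E 6 1319 182052 edges_6_75 v (by omega) (by omega)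
          · rcases Nat.lt_or_ge v 185839 with h | h
            · rcases Nat.lt_or_ge v 184590 with h | h
              · exact edgesRangeI_spec iota E 6 1219 183371 edges_6_76 v (by omega) (by omega)
              · exact edgesRangeI_spec iota E 6 1249 184590 edges_6_77 v (by omega) (by omega)
            · rcases Nat.lt_or_ge v 187067 with h | h
              · exact edgesRangeI_spec iota E 6 1228 185839 edges_6_78 v (by omega) (by omega)
              · exact edgesRangeI_spec iota E 6 1195 187067 edges_6_79 v (by omega) (by omega)
    · rcases Nat.lt_or_ge v 202710 with h | h
      · rcases Nat.lt_or_ge v 195293 with h | h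
        · rcases Nat.lt_or_ge v 191818 with h | h
          · rcases Nat.lt_or_ge v 189458 with h | h
            · exact edgesRangeI_spec iota E 6 1196 188262 edges_6_80 v (by omega) (by omega)
            · rcases Nat.lt_or_ge v 190651 with h | h
              · exact edgesRangeI_spec iota E 6 1193 189458 edges_6_81 v (by omega) (by omega)
              · exact edgesRangeI_spec iota E 6 1167 190651 edges_6_82 v (by omega) (by omega)
          · rcases Nat.lt_or_ge v 193015 with h | h
            · exact edgesRangeI_spec iota E 6 1197 191818 edges_6_83 v (by omega) (by omega)
            · rcases Nat.lt_or_ge v 194174 with h | h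
              · exact edgesRangeI_spec iota E 6 1159 193015 edges_6_84 v (by omega) (by omega)
              · exact edgesRangeI_spec iota E 6 1119 194174 edges_6_85 v (by omega) (by omega)
        · rcases Nat.lt_or_ge v 198498 with h | h
          · rcases Nat.lt_or_ge v 196449 with h | h
            · exact edgesRangeI_spec iota E 6 1156 195293 edges_6_86 v (by omega) (by omega)
            · rcases Nat.lt_or_ge v 197458 with h | h
              · exact edgesRangeI_spec iota E 6 1009 196449 edges_6_87 v (by omega) (by omega)
              · exact edgesRangeI_spec iota E 6 1040 197458 edges_6_88 v (by omega) (by omega)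
          · rcases Nat.lt_or_ge v 200648 with h | h
            · rcases Nat.lt_or_ge v 199587 with h | h
              · exact edgesRangeI_spec iota E 6 1089 198498 edges_6_89 v (by omega) (by omega)
              · exact edgesRangeI_spec iota E 6 1061 199587 edges_6_90 v (by omega) (by omega)
            · rcases Nat.lt_or_ge v 201690 with h | h
              · exact edgesRangeI_spec iota E 6 1042 200648 edges_6_91 v (by omega) (by omega)
              · exact edgesRangeI_spec iota E 6 1020 201690 edges_6_92 v (by omega) (by omega)
      · rcases Nat.lt_or_ge v 209452 with h | h
        · rcases Nat.lt_or_ge v 205739 with h | h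
          · rcases Nat.lt_or_ge v 203728 with h | h
            · exact edgesRangeI_spec iota E 6 1018 202710 edges_6_93 v (by omega) (by omega)
            · rcases Nat.lt_or_ge v 204717 with h | h
              · exact edgesRangeI_spec iota E 6 989 203728 edges_6_94 v (by omega) (by omega)
              · exact edgesRangeI_spec iota E 6 1022 204717 edges_6_95 v (by omega) (by omega)
          · rcases Nat.lt_or_ge v 207673 with h | h
            · rcases Nat.lt_or_ge v 206706 with h | h
              · exact edgesRangeI_spec iota E 6 967 205739 edges_6_96 v (by omega) (by omega)
              · exact edgesRangeI_spec iota E 6 967 206706 edges_6_97 v (by omega) (by omega)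
            · rcases Nat.lt_or_ge v 208584 with h | h
              · exact edgesRangeI_spec iota E 6 911 207673 edges_6_98 v (by omega) (by omega)
              · exact edgesRangeI_spec iota E 6 868 208584 edges_6_99 v (by omega) (by omega)
        · rcases Nat.lt_or_ge v 212131 with h | h
          · rcases Nat.lt_or_ge v 210292 with h | h
            · exact edgesRangeI_spec iota E 6 840 209452 edges_6_100 v (by omega) (by omega)
            · rcases Nat.lt_or_ge v 211229 with h | h
              · exact edgesRangeI_spec iota E 6 937 210292 edges_6_101 v (by omega) (by omega)
              · exact edgesRangeI_spec iota E 6 902 211229 edges_6_102 v (by omega) (by omega)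
          · rcases Nat.lt_or_ge v 213774 with h | h
            · rcases Nat.lt_or_ge v 212927 with h | h
              · exact edgesRangeI_spec iota E 6 796 212131 edges_6_103 v (by omega) (by omega)
              · exact edgesRangeI_spec iota E 6 847 212927 edges_6_104 v (by omega) (by omega)
            · rcases Nat.lt_or_ge v 214578 with h | h
              · exact edgesRangeI_spec iota E 6 804 213774 edges_6_105 v (by omega) (by omega)
              · exact edgesRangeI_spec iota E 6 157 214578 edges_6_106 v (by omega) (by omega)

theorem edgesx_7 : ∀ v, v < 214735 → edgeOKI iota E 7 v = true := by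
  intro v hv
  rcases Nat.lt_or_ge v 121353 with h | h
  · rcases Nat.lt_or_ge v 62542 with h | h
    · rcases Nat.lt_or_ge v 30150 with h | h
      · rcases Nat.lt_or_ge v 13918 with h | h
        · rcases Nat.lt_or_ge v 5837 with h | h
          · rcases Nat.lt_or_ge v 2938 with h | h
            · exact edgesRangeI_spec iota E 7 2938 0 edges_7_0 v (by omega) (by omega)
            · exact edgesRangeI_spec iota E 7 2899 2938 edges_7_1 v (by omega) (by omega)
          · rcases Nat.lt_or_ge v 8643 with h | h
            · exact edgesRangeI_spec iota E 7 2806 5837 edges_7_2 v (by omega) (by omega)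
            · rcases Nat.lt_or_ge v 11355 with h | h
              · exact edgesRangeI_spec iota E 7 2712 8643 edges_7_3 v (by omega) (by omega)
              · exact edgesRangeI_spec iota E 7 2563 11355 edges_7_4 v (by omega) (by omega)
        · rcases Nat.lt_or_ge v 22268 with h | h
          · rcases Nat.lt_or_ge v 16691 with h | h
            · exact edgesRangeI_spec iota E 7 2773 13918 edges_7_5 v (by omega) (by omega)
            · rcases Nat.lt_or_ge v 19425 with h | h
              · exact edgesRangeI_spec iota E 7 2734 16691 edges_7_6 v (by omega) (by omega)
              · exact edgesRangeI_spec iota E 7 2843 19425 edges_7_7 v (by omega) (by omega)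
          · rcases Nat.lt_or_ge v 24885 with h | h
            · exact edgesRangeI_spec iota E 7 2617 22268 edges_7_8 v (by omega) (by omega)
            · rcases Nat.lt_or_ge v 27417 with h | h
              · exact edgesRangeI_spec iota E 7 2532 24885 edges_7_9 v (by omega) (by omega)
              · exact edgesRangeI_spec iota E 7 2733 27417 edges_7_10 v (by omega) (by omega)
      · rcases Nat.lt_or_ge v 46311 with h | h
        · rcases Nat.lt_or_ge v 38612 with h | h
          · rcases Nat.lt_or_ge v 32899 with h | h
            · exact edgesRangeI_spec iota E 7 2749 30150 edges_7_11 v (by omega) (by omega)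
            · rcases Nat.lt_or_ge v 35505 with h | h
              · exact edgesRangeI_spec iota E 7 2606 32899 edges_7_12 v (by omega) (by omega)
              · exact edgesRangeI_spec iota E 7 3107 35505 edges_7_13 v (by omega) (by omega)
          · rcases Nat.lt_or_ge v 41149 with h | h
            · exact edgesRangeI_spec iota E 7 2537 38612 edges_7_14 v (by omega) (by omega)
            · rcases Nat.lt_or_ge v 43681 with h | h
              · exact edgesRangeI_spec iota E 7 2532 41149 edges_7_15 v (by omega) (by omega)
              · exact edgesRangeI_spec iota E 7 2630 43681 edges_7_16 v (by omega) (by omega)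
        · rcases Nat.lt_or_ge v 54089 with h | h
          · rcases Nat.lt_or_ge v 48828 with h | h
            · exact edgesRangeI_spec iota E 7 2517 46311 edges_7_17 v (by omega) (by omega)
            · rcases Nat.lt_or_ge v 51537 with h | h
              · exact edgesRangeI_spec iota E 7 2709 48828 edges_7_18 v (by omega) (by omega)
              · exact edgesRangeI_spec iota E 7 2552 51537 edges_7_19 v (by omega) (by omega)
          · rcases Nat.lt_or_ge v 56925 with h | h
            · exact edgesRangeI_spec iota E 7 2836 54089 edges_7_20 v (by omega) (by omega)
            · rcases Nat.lt_or_ge v 59499 with h | h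
              · exact edgesRangeI_spec iota E 7 2574 56925 edges_7_21 v (by omega) (by omega)
              · exact edgesRangeI_spec iota E 7 3043 59499 edges_7_22 v (by omega) (by omega)
    · rcases Nat.lt_or_ge v 92353 with h | h
      · rcases Nat.lt_or_ge v 75895 with h | h
        · rcases Nat.lt_or_ge v 67861 with h | h
          · rcases Nat.lt_or_ge v 65328 with h | h
            · exact edgesRangeI_spec iota E 7 2786 62542 edges_7_23 v (by omega) (by omega)
            · exact edgesRangeI_spec iota E 7 2533 65328 edges_7_24 v (by omega) (by omega)
          · rcases Nat.lt_or_ge v 70696 with h | h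
            · exact edgesRangeI_spec iota E 7 2835 67861 edges_7_25 v (by omega) (by omega)
            · rcases Nat.lt_or_ge v 73441 with h | h
              · exact edgesRangeI_spec iota E 7 2745 70696 edges_7_26 v (by omega) (by omega)
              · exact edgesRangeI_spec iota E 7 2454 73441 edges_7_27 v (by omega) (by omega)
        · rcases Nat.lt_or_ge v 84360 with h | h
          · rcases Nat.lt_or_ge v 78772 with h | h
            · exact edgesRangeI_spec iota E 7 2877 75895 edges_7_28 v (by omega) (by omega)
            · rcases Nat.lt_or_ge v 81705 with h | h
              · exact edgesRangeI_spec iota E 7 2933 78772 edges_7_29 v (by omega) (by omega)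
              · exact edgesRangeI_spec iota E 7 2655 81705 edges_7_30 v (by omega) (by omega)
          · rcases Nat.lt_or_ge v 86947 with h | h
            · exact edgesRangeI_spec iota E 7 2587 84360 edges_7_31 v (by omega) (by omega)
            · rcases Nat.lt_or_ge v 89702 with h | h
              · exact edgesRangeI_spec iota E 7 2755 86947 edges_7_32 v (by omega) (by omega)
              · exact edgesRangeI_spec iota E 7 2651 89702 edges_7_33 v (by omega) (by omega)
      · rcases Nat.lt_or_ge v 106831 with h | h
        · rcases Nat.lt_or_ge v 99854 with h | h
          · rcases Nat.lt_or_ge v 95043 with h | h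
            · exact edgesRangeI_spec iota E 7 2690 92353 edges_7_34 v (by omega) (by omega)
            · rcases Nat.lt_or_ge v 97438 with h | h
              · exact edgesRangeI_spec iota E 7 2395 95043 edges_7_35 v (by omega) (by omega)
              · exact edgesRangeI_spec iota E 7 2416 97438 edges_7_36 v (by omega) (by omega)
          · rcases Nat.lt_or_ge v 102261 with h | h
            · exact edgesRangeI_spec iota E 7 2407 99854 edges_7_37 v (by omega) (by omega)
            · rcases Nat.lt_or_ge v 104534 with h | h
              · exact edgesRangeI_spec iota E 7 2273 102261 edges_7_38 v (by omega) (by omega)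
              · exact edgesRangeI_spec iota E 7 2297 104534 edges_7_39 v (by omega) (by omega)
        · rcases Nat.lt_or_ge v 114090 with h | h
          · rcases Nat.lt_or_ge v 109182 with h | h
            · exact edgesRangeI_spec iota E 7 2351 106831 edges_7_40 v (by omega) (by omega)
            · rcases Nat.lt_or_ge v 111751 with h | h
              · exact edgesRangeI_spec iota E 7 2569 109182 edges_7_41 v (by omega) (by omega)
              · exact edgesRangeI_spec iota E 7 2339 111751 edges_7_42 v (by omega) (by omega)
          · rcases Nat.lt_or_ge v 116618 with h | h
            · exact edgesRangeI_spec iota E 7 2528 114090 edges_7_43 v (by omega) (by omega)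
            · rcases Nat.lt_or_ge v 119002 with h | h
              · exact edgesRangeI_spec iota E 7 2384 116618 edges_7_44 v (by omega) (by omega)
              · exact edgesRangeI_spec iota E 7 2351 119002 edges_7_45 v (by omega) (by omega)
  · rcases Nat.lt_or_ge v 179338 with h | h
    · rcases Nat.lt_or_ge v 148159 with h | h
      · rcases Nat.lt_or_ge v 133767 with h | h
        · rcases Nat.lt_or_ge v 126291 with h | h
          · rcases Nat.lt_or_ge v 123639 with h | h
            · exact edgesRangeI_spec iota E 7 2286 121353 edges_7_46 v (by omega) (by omega)
            · exact edgesRangeI_spec iota E 7 2652 123639 edges_7_47 v (by omega) (by omega)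
          · rcases Nat.lt_or_ge v 128709 with h | h
            · exact edgesRangeI_spec iota E 7 2418 126291 edges_7_48 v (by omega) (by omega)
            · rcases Nat.lt_or_ge v 131274 with h | h
              · exact edgesRangeI_spec iota E 7 2565 128709 edges_7_49 v (by omega) (by omega)
              · exact edgesRangeI_spec iota E 7 2493 131274 edges_7_50 v (by omega) (by omega)
        · rcases Nat.lt_or_ge v 140741 with h | h
          · rcases Nat.lt_or_ge v 136187 with h | h
            · exact edgesRangeI_spec iota E 7 2420 133767 edges_7_51 v (by omega) (by omega)
            · rcases Nat.lt_or_ge v 138461 with h | h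
              · exact edgesRangeI_spec iota E 7 2274 136187 edges_7_52 v (by omega) (by omega)
              · exact edgesRangeI_spec iota E 7 2280 138461 edges_7_53 v (by omega) (by omega)
          · rcases Nat.lt_or_ge v 143331 with h | h
            · exact edgesRangeI_spec iota E 7 2590 140741 edges_7_54 v (by omega) (by omega)
            · rcases Nat.lt_or_ge v 145828 with h | h
              · exact edgesRangeI_spec iota E 7 2497 143331 edges_7_55 v (by omega) (by omega)
              · exact edgesRangeI_spec iota E 7 2331 145828 edges_7_56 v (by omega) (by omega)
      · rcases Nat.lt_or_ge v 164517 with h | h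
        · rcases Nat.lt_or_ge v 156309 with h | h
          · rcases Nat.lt_or_ge v 150686 with h | h
            · exact edgesRangeI_spec iota E 7 2527 148159 edges_7_57 v (by omega) (by omega)
            · rcases Nat.lt_or_ge v 153569 with h | h
              · exact edgesRangeI_spec iota E 7 2883 150686 edges_7_58 v (by omega) (by omega)
              · exact edgesRangeI_spec iota E 7 2740 153569 edges_7_59 v (by omega) (by omega)
          · rcases Nat.lt_or_ge v 158984 with h | h
            · exact edgesRangeI_spec iota E 7 2675 156309 edges_7_60 v (by omega) (by omega)
            · rcases Nat.lt_or_ge v 161755 with h | h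
              · exact edgesRangeI_spec iota E 7 2771 158984 edges_7_61 v (by omega) (by omega)
              · exact edgesRangeI_spec iota E 7 2762 161755 edges_7_62 v (by omega) (by omega)
        · rcases Nat.lt_or_ge v 172244 with h | h
          · rcases Nat.lt_or_ge v 167034 with h | h
            · exact edgesRangeI_spec iota E 7 2517 164517 edges_7_63 v (by omega) (by omega)
            · rcases Nat.lt_or_ge v 169648 with h | h
              · exact edgesRangeI_spec iota E 7 2614 167034 edges_7_64 v (by omega) (by omega)
              · exact edgesRangeI_spec iota E 7 2596 169648 edges_7_65 v (by omega) (by omega)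
          · rcases Nat.lt_or_ge v 174793 with h | h
            · exact edgesRangeI_spec iota E 7 2549 172244 edges_7_66 v (by omega) (by omega)
            · rcases Nat.lt_or_ge v 177392 with h | h
              · exact edgesRangeI_spec iota E 7 2599 174793 edges_7_67 v (by omega) (by omega)
              · exact edgesRangeI_spec iota E 7 1946 177392 edges_7_68 v (by omega) (by omega)
    · rcases Nat.lt_or_ge v 198519 with h | h
      · rcases Nat.lt_or_ge v 189250 with h | h
        · rcases Nat.lt_or_ge v 184380 with h | h
          · rcases Nat.lt_or_ge v 180987 with h | h
            · exact edgesRangeI_spec iota E 7 1649 179338 edges_7_69 v (by omega) (by omega)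
            · rcases Nat.lt_or_ge v 182696 with h | h
              · exact edgesRangeI_spec iota E 7 1709 180987 edges_7_70 v (by omega) (by omega)
              · exact edgesRangeI_spec iota E 7 1684 182696 edges_7_71 v (by omega) (by omega)
          · rcases Nat.lt_or_ge v 186024 with h | h
            · exact edgesRangeI_spec iota E 7 1644 184380 edges_7_72 v (by omega) (by omega)
            · rcases Nat.lt_or_ge v 187637 with h | h
              · exact edgesRangeI_spec iota E 7 1613 186024 edges_7_73 v (by omega) (by omega)
              · exact edgesRangeI_spec iota E 7 1613 187637 edges_7_74 v (by omega) (by omega)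
        · rcases Nat.lt_or_ge v 193956 with h | h
          · rcases Nat.lt_or_ge v 190827 with h | h
            · exact edgesRangeI_spec iota E 7 1577 189250 edges_7_75 v (by omega) (by omega)
            · rcases Nat.lt_or_ge v 192356 with h | h
              · exact edgesRangeI_spec iota E 7 1529 190827 edges_7_76 v (by omega) (by omega)
              · exact edgesRangeI_spec iota E 7 1600 192356 edges_7_77 v (by omega) (by omega)
          · rcases Nat.lt_or_ge v 195451 with h | h
            · exact edgesRangeI_spec iota E 7 1495 193956 edges_7_78 v (by omega) (by omega)
            · rcases Nat.lt_or_ge v 197017 with h | h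
              · exact edgesRangeI_spec iota E 7 1566 195451 edges_7_79 v (by omega) (by omega)
              · exact edgesRangeI_spec iota E 7 1502 197017 edges_7_80 v (by omega) (by omega)
      · rcases Nat.lt_or_ge v 207289 with h | h
        · rcases Nat.lt_or_ge v 202914 with h | h
          · rcases Nat.lt_or_ge v 199999 with h | h
            · exact edgesRangeI_spec iota E 7 1480 198519 edges_7_81 v (by omega) (by omega)
            · rcases Nat.lt_or_ge v 201459 with h | h
              · exact edgesRangeI_spec iota E 7 1460 199999 edges_7_82 v (by omega) (by omega)
              · exact edgesRangeI_spec iota E 7 1455 201459 edges_7_83 v (by omega) (by omega)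
          · rcases Nat.lt_or_ge v 204358 with h | h
            · exact edgesRangeI_spec iota E 7 1444 202914 edges_7_84 v (by omega) (by omega)
            · rcases Nat.lt_or_ge v 205811 with h | h
              · exact edgesRangeI_spec iota E 7 1453 204358 edges_7_85 v (by omega) (by omega)
              · exact edgesRangeI_spec iota E 7 1478 205811 edges_7_86 v (by omega) (by omega)
        · rcases Nat.lt_or_ge v 211393 with h | h
          · rcases Nat.lt_or_ge v 208694 with h | h
            · exact edgesRangeI_spec iota E 7 1405 207289 edges_7_87 v (by omega) (by omega)
            · rcases Nat.lt_or_ge v 210066 with h | h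
              · exact edgesRangeI_spec iota E 7 1372 208694 edges_7_88 v (by omega) (by omega)
              · exact edgesRangeI_spec iota E 7 1327 210066 edges_7_89 v (by omega) (by omega)
          · rcases Nat.lt_or_ge v 212740 with h | h
            · exact edgesRangeI_spec iota E 7 1347 211393 edges_7_90 v (by omega) (by omega)
            · rcases Nat.lt_or_ge v 213993 with h | h
              · exact edgesRangeI_spec iota E 7 1253 212740 edges_7_91 v (by omega) (by omega)
              · exact edgesRangeI_spec iota E 7 742 213993 edges_7_92 v (by omega) (by omega)

theorem hA0 : ∀ v, v < 214735 → aliasOK E v = true := by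
  intro v hv
  rcases Nat.lt_or_ge v 106780 with h | h
  · rcases Nat.lt_or_ge v 57366 with h | h
    · rcases Nat.lt_or_ge v 29434 with h | h
      · rcases Nat.lt_or_ge v 13024 with h | h
        · rcases Nat.lt_or_ge v 6655 with h | h
          · rcases Nat.lt_or_ge v 3505 with h | h
            · exact aliasRange_spec E 3505 0 aliases_0 v (by omega) (by omega)
            · exact aliasRange_spec E 3150 3505 aliases_1 v (by omega) (by omega)
          · rcases Nat.lt_or_ge v 9701 with h | h
            · exact aliasRange_spec E 3046 6655 aliases_2 v (by omega) (by omega)
            · exact aliasRange_spec E 3323 9701 aliases_3 v (by omega) (by omega)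
        · rcases Nat.lt_or_ge v 19575 with h | h
          · rcases Nat.lt_or_ge v 16244 with h | h
            · exact aliasRange_spec E 3220 13024 aliases_4 v (by omega) (by omega)
            · exact aliasRange_spec E 3331 16244 aliases_5 v (by omega) (by omega)
          · rcases Nat.lt_or_ge v 22433 with h | h
            · exact aliasRange_spec E 2858 19575 aliases_6 v (by omega) (by omega)
            · rcases Nat.lt_or_ge v 25781 with h | h
              · exact aliasRange_spec E 3348 22433 aliases_7 v (by omega) (by omega)
              · exact aliasRange_spec E 3653 25781 aliases_8 v (by omega) (by omega)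
      · rcases Nat.lt_or_ge v 41940 with h | h
        · rcases Nat.lt_or_ge v 36417 with h | h
          · rcases Nat.lt_or_ge v 33037 with h | h
            · exact aliasRange_spec E 3603 29434 aliases_9 v (by omega) (by omega)
            · exact aliasRange_spec E 3380 33037 aliases_10 v (by omega) (by omega)
          · rcases Nat.lt_or_ge v 38971 with h | h
            · exact aliasRange_spec E 2554 36417 aliases_11 v (by omega) (by omega)
            · exact aliasRange_spec E 2969 38971 aliases_12 v (by omega) (by omega)
        · rcases Nat.lt_or_ge v 48139 with h | h
          · rcases Nat.lt_or_ge v 45045 with h | h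
            · exact aliasRange_spec E 3105 41940 aliases_13 v (by omega) (by omega)
            · exact aliasRange_spec E 3094 45045 aliases_14 v (by omega) (by omega)
          · rcases Nat.lt_or_ge v 51790 with h | h
            · exact aliasRange_spec E 3651 48139 aliases_15 v (by omega) (by omega)
            · rcases Nat.lt_or_ge v 54906 with h | h
              · exact aliasRange_spec E 3116 51790 aliases_16 v (by omega) (by omega)
              · exact aliasRange_spec E 2460 54906 aliases_17 v (by omega) (by omega)
    · rcases Nat.lt_or_ge v 81942 with h | h
      · rcases Nat.lt_or_ge v 69700 with h | h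
        · rcases Nat.lt_or_ge v 63635 with h | h
          · rcases Nat.lt_or_ge v 60815 with h | h
            · exact aliasRange_spec E 3449 57366 aliases_18 v (by omega) (by omega)
            · exact aliasRange_spec E 2820 60815 aliases_19 v (by omega) (by omega)
          · rcases Nat.lt_or_ge v 66753 with h | h
            · exact aliasRange_spec E 3118 63635 aliases_20 v (by omega) (by omega)
            · exact aliasRange_spec E 2947 66753 aliases_21 v (by omega) (by omega)
        · rcases Nat.lt_or_ge v 74941 with h | h
          · rcases Nat.lt_or_ge v 72121 with h | h
            · exact aliasRange_spec E 2421 69700 aliases_22 v (by omega) (by omega)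
            · exact aliasRange_spec E 2820 72121 aliases_23 v (by omega) (by omega)
          · rcases Nat.lt_or_ge v 77355 with h | h
            · exact aliasRange_spec E 2414 74941 aliases_24 v (by omega) (by omega)
            · rcases Nat.lt_or_ge v 79637 with h | h
              · exact aliasRange_spec E 2282 77355 aliases_25 v (by omega) (by omega)
              · exact aliasRange_spec E 2305 79637 aliases_26 v (by omega) (by omega)
      · rcases Nat.lt_or_ge v 92601 with h | h
        · rcases Nat.lt_or_ge v 87106 with h | h
          · rcases Nat.lt_or_ge v 84425 with h | h
            · exact aliasRange_spec E 2483 81942 aliases_27 v (by omega) (by omega)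
            · exact aliasRange_spec E 2681 84425 aliases_28 v (by omega) (by omega)
          · rcases Nat.lt_or_ge v 89733 with h | h
            · exact aliasRange_spec E 2627 87106 aliases_29 v (by omega) (by omega)
            · exact aliasRange_spec E 2868 89733 aliases_30 v (by omega) (by omega)
        · rcases Nat.lt_or_ge v 98127 with h | h
          · rcases Nat.lt_or_ge v 95359 with h | h
            · exact aliasRange_spec E 2758 92601 aliases_31 v (by omega) (by omega)
            · exact aliasRange_spec E 2768 95359 aliases_32 v (by omega) (by omega)
          · rcases Nat.lt_or_ge v 100902 with h | h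
            · exact aliasRange_spec E 2775 98127 aliases_33 v (by omega) (by omega)
            · rcases Nat.lt_or_ge v 103634 with h | h
              · exact aliasRange_spec E 2732 100902 aliases_34 v (by omega) (by omega)
              · exact aliasRange_spec E 3146 103634 aliases_35 v (by omega) (by omega)
  · rcases Nat.lt_or_ge v 150512 with h | h
    · rcases Nat.lt_or_ge v 129513 with h | h
      · rcases Nat.lt_or_ge v 116449 with h | h
        · rcases Nat.lt_or_ge v 111586 with h | h
          · rcases Nat.lt_or_ge v 109392 with h | h
            · exact aliasRange_spec E 2612 106780 aliases_36 v (by omega) (by omega)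
            · exact aliasRange_spec E 2194 109392 aliases_37 v (by omega) (by omega)
          · rcases Nat.lt_or_ge v 114158 with h | h
            · exact aliasRange_spec E 2572 111586 aliases_38 v (by omega) (by omega)
            · exact aliasRange_spec E 2291 114158 aliases_39 v (by omega) (by omega)
        · rcases Nat.lt_or_ge v 122008 with h | h
          · rcases Nat.lt_or_ge v 119113 with h | h
            · exact aliasRange_spec E 2664 116449 aliases_40 v (by omega) (by omega)
            · exact aliasRange_spec E 2895 119113 aliases_41 v (by omega) (by omega)
          · rcases Nat.lt_or_ge v 124604 with h | h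
            · exact aliasRange_spec E 2596 122008 aliases_42 v (by omega) (by omega)
            · rcases Nat.lt_or_ge v 126973 with h | h
              · exact aliasRange_spec E 2369 124604 aliases_43 v (by omega) (by omega)
              · exact aliasRange_spec E 2540 126973 aliases_44 v (by omega) (by omega)
      · rcases Nat.lt_or_ge v 139041 with h | h
        · rcases Nat.lt_or_ge v 133953 with h | h
          · rcases Nat.lt_or_ge v 131747 with h | h
            · exact aliasRange_spec E 2234 129513 aliases_45 v (by omega) (by omega)
            · exact aliasRange_spec E 2206 131747 aliases_46 v (by omega) (by omega)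
          · rcases Nat.lt_or_ge v 136461 with h | h
            · exact aliasRange_spec E 2508 133953 aliases_47 v (by omega) (by omega)
            · exact aliasRange_spec E 2580 136461 aliases_48 v (by omega) (by omega)
        · rcases Nat.lt_or_ge v 143637 with h | h
          · rcases Nat.lt_or_ge v 141459 with h | h
            · exact aliasRange_spec E 2418 139041 aliases_49 v (by omega) (by omega)
            · exact aliasRange_spec E 2178 141459 aliases_50 v (by omega) (by omega)
          · rcases Nat.lt_or_ge v 145810 with h | h
            · exact aliasRange_spec E 2173 143637 aliases_51 v (by omega) (by omega)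
            · rcases Nat.lt_or_ge v 148399 with h | h
              · exact aliasRange_spec E 2589 145810 aliases_52 v (by omega) (by omega)
              · exact aliasRange_spec E 2113 148399 aliases_53 v (by omega) (by omega)
    · rcases Nat.lt_or_ge v 168742 with h | h
      · rcases Nat.lt_or_ge v 158539 with h | h
        · rcases Nat.lt_or_ge v 154581 with h | h
          · rcases Nat.lt_or_ge v 152523 with h | h
            · exact aliasRange_spec E 2011 150512 aliases_54 v (by omega) (by omega)
            · exact aliasRange_spec E 2058 152523 aliases_55 v (by omega) (by omega)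
          · rcases Nat.lt_or_ge v 156521 with h | h
            · exact aliasRange_spec E 1940 154581 aliases_56 v (by omega) (by omega)
            · exact aliasRange_spec E 2018 156521 aliases_57 v (by omega) (by omega)
        · rcases Nat.lt_or_ge v 162513 with h | h
          · rcases Nat.lt_or_ge v 160486 with h | h
            · exact aliasRange_spec E 1947 158539 aliases_58 v (by omega) (by omega)
            · exact aliasRange_spec E 2027 160486 aliases_59 v (by omega) (by omega)
          · rcases Nat.lt_or_ge v 164445 with h | h
            · exact aliasRange_spec E 1932 162513 aliases_60 v (by omega) (by omega)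
            · rcases Nat.lt_or_ge v 166589 with h | h
              · exact aliasRange_spec E 2144 164445 aliases_61 v (by omega) (by omega)
              · exact aliasRange_spec E 2153 166589 aliases_62 v (by omega) (by omega)
      · rcases Nat.lt_or_ge v 182549 with h | h
        · rcases Nat.lt_or_ge v 173061 with h | h
          · rcases Nat.lt_or_ge v 170862 with h | h
            · exact aliasRange_spec E 2120 168742 aliases_63 v (by omega) (by omega)
            · exact aliasRange_spec E 2199 170862 aliases_64 v (by omega) (by omega)
          · rcases Nat.lt_or_ge v 175232 with h | h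
            · exact aliasRange_spec E 2171 173061 aliases_65 v (by omega) (by omega)
            · rcases Nat.lt_or_ge v 177429 with h | h
              · exact aliasRange_spec E 2197 175232 aliases_66 v (by omega) (by omega)
              · exact aliasRange_spec E 5120 177429 aliases_67 v (by omega) (by omega)
        · rcases Nat.lt_or_ge v 196069 with h | h
          · rcases Nat.lt_or_ge v 189156 with h | h
            · exact aliasRange_spec E 6607 182549 aliases_68 v (by omega) (by omega)
            · exact aliasRange_spec E 6913 189156 aliases_69 v (by omega) (by omega)
          · rcases Nat.lt_or_ge v 203506 with h | h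
            · exact aliasRange_spec E 7437 196069 aliases_70 v (by omega) (by omega)
            · rcases Nat.lt_or_ge v 211272 with h | h
              · exact aliasRange_spec E 7766 203506 aliases_71 v (by omega) (by omega)
              · exact aliasRange_spec E 3463 211272 aliases_72 v (by omega) (by omega)

theorem hrows0 : ∀ v, v < 214735 → tb RS v = true → rowOK2 E RS v E.D.k = true := by
  intro v hv
  rcases Nat.lt_or_ge v 108000 with h | h
  · rcases Nat.lt_or_ge v 54000 with h | h
    · rcases Nat.lt_or_ge v 27000 with h | h
      · rcases Nat.lt_or_ge v 13500 with h | h
        · rcases Nat.lt_or_ge v 6000 with h | h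
          · rcases Nat.lt_or_ge v 3000 with h | h
            · rcases Nat.lt_or_ge v 1500 with h | h
              · exact rowsRange_spec E RS 1500 0 rows_0 v (by omega) (by omega)
              · exact rowsRange_spec E RS 1500 1500 rows_1 v (by omega) (by omega)
            · rcases Nat.lt_or_ge v 4500 with h | h
              · exact rowsRange_spec E RS 1500 3000 rows_2 v (by omega) (by omega)
              · exact rowsRange_spec E RS 1500 4500 rows_3 v (by omega) (by omega)
          · rcases Nat.lt_or_ge v 9000 with h | h
            · rcases Nat.lt_or_ge v 7500 with h | h
              · exact rowsRange_spec E RS 1500 6000 rows_4 v (by omega) (by omega)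
              · exact rowsRange_spec E RS 1500 7500 rows_5 v (by omega) (by omega)
            · rcases Nat.lt_or_ge v 10500 with h | h
              · exact rowsRange_spec E RS 1500 9000 rows_6 v (by omega) (by omega)
              · rcases Nat.lt_or_ge v 12000 with h | h
                · exact rowsRange_spec E RS 1500 10500 rows_7 v (by omega) (by omega)
                · exact rowsRange_spec E RS 1500 12000 rows_8 v (by omega) (by omega)
        · rcases Nat.lt_or_ge v 19500 with h | h
          · rcases Nat.lt_or_ge v 16500 with h | h
            · rcases Nat.lt_or_ge v 15000 with h | h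
              · exact rowsRange_spec E RS 1500 13500 rows_9 v (by omega) (by omega)
              · exact rowsRange_spec E RS 1500 15000 rows_10 v (by omega) (by omega)
            · rcases Nat.lt_or_ge v 18000 with h | h
              · exact rowsRange_spec E RS 1500 16500 rows_11 v (by omega) (by omega)
              · exact rowsRange_spec E RS 1500 18000 rows_12 v (by omega) (by omega)
          · rcases Nat.lt_or_ge v 22500 with h | h
            · rcases Nat.lt_or_ge v 21000 with h | h
              · exact rowsRange_spec E RS 1500 19500 rows_13 v (by omega) (by omega)
              · exact rowsRange_spec E RS 1500 21000 rows_14 v (by omega) (by omega)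
            · rcases Nat.lt_or_ge v 24000 with h | h
              · exact rowsRange_spec E RS 1500 22500 rows_15 v (by omega) (by omega)
              · rcases Nat.lt_or_ge v 25500 with h | h
                · exact rowsRange_spec E RS 1500 24000 rows_16 v (by omega) (by omega)
                · exact rowsRange_spec E RS 1500 25500 rows_17 v (by omega) (by omega)
      · rcases Nat.lt_or_ge v 40500 with h | h
        · rcases Nat.lt_or_ge v 33000 with h | h
          · rcases Nat.lt_or_ge v 30000 with h | h
            · rcases Nat.lt_or_ge v 28500 with h | h
              · exact rowsRange_spec E RS 1500 27000 rows_18 v (by omega) (by omega)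
              · exact rowsRange_spec E RS 1500 28500 rows_19 v (by omega) (by omega)
            · rcases Nat.lt_or_ge v 31500 with h | h
              · exact rowsRange_spec E RS 1500 30000 rows_20 v (by omega) (by omega)
              · exact rowsRange_spec E RS 1500 31500 rows_21 v (by omega) (by omega)
          · rcases Nat.lt_or_ge v 36000 with h | h
            · rcases Nat.lt_or_ge v 34500 with h | h
              · exact rowsRange_spec E RS 1500 33000 rows_22 v (by omega) (by omega)
              · exact rowsRange_spec E RS 1500 34500 rows_23 v (by omega) (by omega)
            · rcases Nat.lt_or_ge v 37500 with h | h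
              · exact rowsRange_spec E RS 1500 36000 rows_24 v (by omega) (by omega)
              · rcases Nat.lt_or_ge v 39000 with h | h
                · exact rowsRange_spec E RS 1500 37500 rows_25 v (by omega) (by omega)
                · exact rowsRange_spec E RS 1500 39000 rows_26 v (by omega) (by omega)
        · rcases Nat.lt_or_ge v 46500 with h | h
          · rcases Nat.lt_or_ge v 43500 with h | h
            · rcases Nat.lt_or_ge v 42000 with h | h
              · exact rowsRange_spec E RS 1500 40500 rows_27 v (by omega) (by omega)
              · exact rowsRange_spec E RS 1500 42000 rows_28 v (by omega) (by omega)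
            · rcases Nat.lt_or_ge v 45000 with h | h
              · exact rowsRange_spec E RS 1500 43500 rows_29 v (by omega) (by omega)
              · exact rowsRange_spec E RS 1500 45000 rows_30 v (by omega) (by omega)
          · rcases Nat.lt_or_ge v 49500 with h | h
            · rcases Nat.lt_or_ge v 48000 with h | h
              · exact rowsRange_spec E RS 1500 46500 rows_31 v (by omega) (by omega)
              · exact rowsRange_spec E RS 1500 48000 rows_32 v (by omega) (by omega)
            · rcases Nat.lt_or_ge v 51000 with h | h
              · exact rowsRange_spec E RS 1500 49500 rows_33 v (by omega) (by omega)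
              · rcases Nat.lt_or_ge v 52500 with h | h
                · exact rowsRange_spec E RS 1500 51000 rows_34 v (by omega) (by omega)
                · exact rowsRange_spec E RS 1500 52500 rows_35 v (by omega) (by omega)
    · rcases Nat.lt_or_ge v 81000 with h | h
      · rcases Nat.lt_or_ge v 67500 with h | h
        · rcases Nat.lt_or_ge v 60000 with h | h
          · rcases Nat.lt_or_ge v 57000 with h | h
            · rcases Nat.lt_or_ge v 55500 with h | h
              · exact rowsRange_spec E RS 1500 54000 rows_36 v (by omega) (by omega)
              · exact rowsRange_spec E RS 1500 55500 rows_37 v (by omega) (by omega)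
            · rcases Nat.lt_or_ge v 58500 with h | h
              · exact rowsRange_spec E RS 1500 57000 rows_38 v (by omega) (by omega)
              · exact rowsRange_spec E RS 1500 58500 rows_39 v (by omega) (by omega)
          · rcases Nat.lt_or_ge v 63000 with h | h
            · rcases Nat.lt_or_ge v 61500 with h | h
              · exact rowsRange_spec E RS 1500 60000 rows_40 v (by omega) (by omega)
              · exact rowsRange_spec E RS 1500 61500 rows_41 v (by omega) (by omega)
            · rcases Nat.lt_or_ge v 64500 with h | h
              · exact rowsRange_spec E RS 1500 63000 rows_42 v (by omega) (by omega)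
              · rcases Nat.lt_or_ge v 66000 with h | h
                · exact rowsRange_spec E RS 1500 64500 rows_43 v (by omega) (by omega)
                · exact rowsRange_spec E RS 1500 66000 rows_44 v (by omega) (by omega)
        · rcases Nat.lt_or_ge v 73500 with h | h
          · rcases Nat.lt_or_ge v 70500 with h | h
            · rcases Nat.lt_or_ge v 69000 with h | h
              · exact rowsRange_spec E RS 1500 67500 rows_45 v (by omega) (by omega)
              · exact rowsRange_spec E RS 1500 69000 rows_46 v (by omega) (by omega)
            · rcases Nat.lt_or_ge v 72000 with h | h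
              · exact rowsRange_spec E RS 1500 70500 rows_47 v (by omega) (by omega)
              · exact rowsRange_spec E RS 1500 72000 rows_48 v (by omega) (by omega)
          · rcases Nat.lt_or_ge v 76500 with h | h
            · rcases Nat.lt_or_ge v 75000 with h | h
              · exact rowsRange_spec E RS 1500 73500 rows_49 v (by omega) (by omega)
              · exact rowsRange_spec E RS 1500 75000 rows_50 v (by omega) (by omega)
            · rcases Nat.lt_or_ge v 78000 with h | h
              · exact rowsRange_spec E RS 1500 76500 rows_51 v (by omega) (by omega)
              · rcases Nat.lt_or_ge v 79500 with h | h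
                · exact rowsRange_spec E RS 1500 78000 rows_52 v (by omega) (by omega)
                · exact rowsRange_spec E RS 1500 79500 rows_53 v (by omega) (by omega)
      · rcases Nat.lt_or_ge v 94500 with h | h
        · rcases Nat.lt_or_ge v 87000 with h | h
          · rcases Nat.lt_or_ge v 84000 with h | h
            · rcases Nat.lt_or_ge v 82500 with h | h
              · exact rowsRange_spec E RS 1500 81000 rows_54 v (by omega) (by omega)
              · exact rowsRange_spec E RS 1500 82500 rows_55 v (by omega) (by omega)
            · rcases Nat.lt_or_ge v 85500 with h | h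
              · exact rowsRange_spec E RS 1500 84000 rows_56 v (by omega) (by omega)
              · exact rowsRange_spec E RS 1500 85500 rows_57 v (by omega) (by omega)
          · rcases Nat.lt_or_ge v 90000 with h | h
            · rcases Nat.lt_or_ge v 88500 with h | h
              · exact rowsRange_spec E RS 1500 87000 rows_58 v (by omega) (by omega)
              · exact rowsRange_spec E RS 1500 88500 rows_59 v (by omega) (by omega)
            · rcases Nat.lt_or_ge v 91500 with h | h
              · exact rowsRange_spec E RS 1500 90000 rows_60 v (by omega) (by omega)
              · rcases Nat.lt_or_ge v 93000 with h | h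
                · exact rowsRange_spec E RS 1500 91500 rows_61 v (by omega) (by omega)
                · exact rowsRange_spec E RS 1500 93000 rows_62 v (by omega) (by omega)
        · rcases Nat.lt_or_ge v 100500 with h | h
          · rcases Nat.lt_or_ge v 97500 with h | h
            · rcases Nat.lt_or_ge v 96000 with h | h
              · exact rowsRange_spec E RS 1500 94500 rows_63 v (by omega) (by omega)
              · exact rowsRange_spec E RS 1500 96000 rows_64 v (by omega) (by omega)
            · rcases Nat.lt_or_ge v 99000 with h | h
              · exact rowsRange_spec E RS 1500 97500 rows_65 v (by omega) (by omega)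
              · exact rowsRange_spec E RS 1500 99000 rows_66 v (by omega) (by omega)
          · rcases Nat.lt_or_ge v 103500 with h | h
            · rcases Nat.lt_or_ge v 102000 with h | h
              · exact rowsRange_spec E RS 1500 100500 rows_67 v (by omega) (by omega)
              · exact rowsRange_spec E RS 1500 102000 rows_68 v (by omega) (by omega)
            · rcases Nat.lt_or_ge v 105000 with h | h
              · exact rowsRange_spec E RS 1500 103500 rows_69 v (by omega) (by omega)
              · rcases Nat.lt_or_ge v 106500 with h | h
                · exact rowsRange_spec E RS 1500 105000 rows_70 v (by omega) (by omega)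
                · exact rowsRange_spec E RS 1500 106500 rows_71 v (by omega) (by omega)
  · rcases Nat.lt_or_ge v 162000 with h | h
    · rcases Nat.lt_or_ge v 135000 with h | h
      · rcases Nat.lt_or_ge v 121500 with h | h
        · rcases Nat.lt_or_ge v 114000 with h | h
          · rcases Nat.lt_or_ge v 111000 with h | h
            · rcases Nat.lt_or_ge v 109500 with h | h
              · exact rowsRange_spec E RS 1500 108000 rows_72 v (by omega) (by omega)
              · exact rowsRange_spec E RS 1500 109500 rows_73 v (by omega) (by omega)
            · rcases Nat.lt_or_ge v 112500 with h | h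
              · exact rowsRange_spec E RS 1500 111000 rows_74 v (by omega) (by omega)
              · exact rowsRange_spec E RS 1500 112500 rows_75 v (by omega) (by omega)
          · rcases Nat.lt_or_ge v 117000 with h | h
            · rcases Nat.lt_or_ge v 115500 with h | h
              · exact rowsRange_spec E RS 1500 114000 rows_76 v (by omega) (by omega)
              · exact rowsRange_spec E RS 1500 115500 rows_77 v (by omega) (by omega)
            · rcases Nat.lt_or_ge v 118500 with h | h
              · exact rowsRange_spec E RS 1500 117000 rows_78 v (by omega) (by omega)
              · rcases Nat.lt_or_ge v 120000 with h | h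
                · exact rowsRange_spec E RS 1500 118500 rows_79 v (by omega) (by omega)
                · exact rowsRange_spec E RS 1500 120000 rows_80 v (by omega) (by omega)
        · rcases Nat.lt_or_ge v 127500 with h | h
          · rcases Nat.lt_or_ge v 124500 with h | h
            · rcases Nat.lt_or_ge v 123000 with h | h
              · exact rowsRange_spec E RS 1500 121500 rows_81 v (by omega) (by omega)
              · exact rowsRange_spec E RS 1500 123000 rows_82 v (by omega) (by omega)
            · rcases Nat.lt_or_ge v 126000 with h | h
              · exact rowsRange_spec E RS 1500 124500 rows_83 v (by omega) (by omega)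
              · exact rowsRange_spec E RS 1500 126000 rows_84 v (by omega) (by omega)
          · rcases Nat.lt_or_ge v 130500 with h | h
            · rcases Nat.lt_or_ge v 129000 with h | h
              · exact rowsRange_spec E RS 1500 127500 rows_85 v (by omega) (by omega)
              · exact rowsRange_spec E RS 1500 129000 rows_86 v (by omega) (by omega)
            · rcases Nat.lt_or_ge v 132000 with h | h
              · exact rowsRange_spec E RS 1500 130500 rows_87 v (by omega) (by omega)
              · rcases Nat.lt_or_ge v 133500 with h | h
                · exact rowsRange_spec E RS 1500 132000 rows_88 v (by omega) (by omega)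
                · exact rowsRange_spec E RS 1500 133500 rows_89 v (by omega) (by omega)
      · rcases Nat.lt_or_ge v 148500 with h | h
        · rcases Nat.lt_or_ge v 141000 with h | h
          · rcases Nat.lt_or_ge v 138000 with h | h
            · rcases Nat.lt_or_ge v 136500 with h | h
              · exact rowsRange_spec E RS 1500 135000 rows_90 v (by omega) (by omega)
              · exact rowsRange_spec E RS 1500 136500 rows_91 v (by omega) (by omega)
            · rcases Nat.lt_or_ge v 139500 with h | h
              · exact rowsRange_spec E RS 1500 138000 rows_92 v (by omega) (by omega)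
              · exact rowsRange_spec E RS 1500 139500 rows_93 v (by omega) (by omega)
          · rcases Nat.lt_or_ge v 144000 with h | h
            · rcases Nat.lt_or_ge v 142500 with h | h
              · exact rowsRange_spec E RS 1500 141000 rows_94 v (by omega) (by omega)
              · exact rowsRange_spec E RS 1500 142500 rows_95 v (by omega) (by omega)
            · rcases Nat.lt_or_ge v 145500 with h | h
              · exact rowsRange_spec E RS 1500 144000 rows_96 v (by omega) (by omega)
              · rcases Nat.lt_or_ge v 147000 with h | h
                · exact rowsRange_spec E RS 1500 145500 rows_97 v (by omega) (by omega)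
                · exact rowsRange_spec E RS 1500 147000 rows_98 v (by omega) (by omega)
        · rcases Nat.lt_or_ge v 154500 with h | h
          · rcases Nat.lt_or_ge v 151500 with h | h
            · rcases Nat.lt_or_ge v 150000 with h | h
              · exact rowsRange_spec E RS 1500 148500 rows_99 v (by omega) (by omega)
              · exact rowsRange_spec E RS 1500 150000 rows_100 v (by omega) (by omega)
            · rcases Nat.lt_or_ge v 153000 with h | h
              · exact rowsRange_spec E RS 1500 151500 rows_101 v (by omega) (by omega)
              · exact rowsRange_spec E RS 1500 153000 rows_102 v (by omega) (by omega)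
          · rcases Nat.lt_or_ge v 157500 with h | h
            · rcases Nat.lt_or_ge v 156000 with h | h
              · exact rowsRange_spec E RS 1500 154500 rows_103 v (by omega) (by omega)
              · exact rowsRange_spec E RS 1500 156000 rows_104 v (by omega) (by omega)
            · rcases Nat.lt_or_ge v 159000 with h | h
              · exact rowsRange_spec E RS 1500 157500 rows_105 v (by omega) (by omega)
              · rcases Nat.lt_or_ge v 160500 with h | h
                · exact rowsRange_spec E RS 1500 159000 rows_106 v (by omega) (by omega)
                · exact rowsRange_spec E RS 1500 160500 rows_107 v (by omega) (by omega)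
    · rcases Nat.lt_or_ge v 189000 with h | h
      · rcases Nat.lt_or_ge v 175500 with h | h
        · rcases Nat.lt_or_ge v 168000 with h | h
          · rcases Nat.lt_or_ge v 165000 with h | h
            · rcases Nat.lt_or_ge v 163500 with h | h
              · exact rowsRange_spec E RS 1500 162000 rows_108 v (by omega) (by omega)
              · exact rowsRange_spec E RS 1500 163500 rows_109 v (by omega) (by omega)
            · rcases Nat.lt_or_ge v 166500 with h | h
              · exact rowsRange_spec E RS 1500 165000 rows_110 v (by omega) (by omega)
              · exact rowsRange_spec E RS 1500 166500 rows_111 v (by omega) (by omega)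
          · rcases Nat.lt_or_ge v 171000 with h | h
            · rcases Nat.lt_or_ge v 169500 with h | h
              · exact rowsRange_spec E RS 1500 168000 rows_112 v (by omega) (by omega)
              · exact rowsRange_spec E RS 1500 169500 rows_113 v (by omega) (by omega)
            · rcases Nat.lt_or_ge v 172500 with h | h
              · exact rowsRange_spec E RS 1500 171000 rows_114 v (by omega) (by omega)
              · rcases Nat.lt_or_ge v 174000 with h | h
                · exact rowsRange_spec E RS 1500 172500 rows_115 v (by omega) (by omega)
                · exact rowsRange_spec E RS 1500 174000 rows_116 v (by omega) (by omega)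
        · rcases Nat.lt_or_ge v 181500 with h | h
          · rcases Nat.lt_or_ge v 178500 with h | h
            · rcases Nat.lt_or_ge v 177000 with h | h
              · exact rowsRange_spec E RS 1500 175500 rows_117 v (by omega) (by omega)
              · exact rowsRange_spec E RS 1500 177000 rows_118 v (by omega) (by omega)
            · rcases Nat.lt_or_ge v 180000 with h | h
              · exact rowsRange_spec E RS 1500 178500 rows_119 v (by omega) (by omega)
              · exact rowsRange_spec E RS 1500 180000 rows_120 v (by omega) (by omega)
          · rcases Nat.lt_or_ge v 184500 with h | h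
            · rcases Nat.lt_or_ge v 183000 with h | h
              · exact rowsRange_spec E RS 1500 181500 rows_121 v (by omega) (by omega)
              · exact rowsRange_spec E RS 1500 183000 rows_122 v (by omega) (by omega)
            · rcases Nat.lt_or_ge v 186000 with h | h
              · exact rowsRange_spec E RS 1500 184500 rows_123 v (by omega) (by omega)
              · rcases Nat.lt_or_ge v 187500 with h | h
                · exact rowsRange_spec E RS 1500 186000 rows_124 v (by omega) (by omega)
                · exact rowsRange_spec E RS 1500 187500 rows_125 v (by omega) (by omega)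
      · rcases Nat.lt_or_ge v 202500 with h | h
        · rcases Nat.lt_or_ge v 195000 with h | h
          · rcases Nat.lt_or_ge v 192000 with h | h
            · rcases Nat.lt_or_ge v 190500 with h | h
              · exact rowsRange_spec E RS 1500 189000 rows_126 v (by omega) (by omega)
              · exact rowsRange_spec E RS 1500 190500 rows_127 v (by omega) (by omega)
            · rcases Nat.lt_or_ge v 193500 with h | h
              · exact rowsRange_spec E RS 1500 192000 rows_128 v (by omega) (by omega)
              · exact rowsRange_spec E RS 1500 193500 rows_129 v (by omega) (by omega)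
          · rcases Nat.lt_or_ge v 198000 with h | h
            · rcases Nat.lt_or_ge v 196500 with h | h
              · exact rowsRange_spec E RS 1500 195000 rows_130 v (by omega) (by omega)
              · exact rowsRange_spec E RS 1500 196500 rows_131 v (by omega) (by omega)
            · rcases Nat.lt_or_ge v 199500 with h | h
              · exact rowsRange_spec E RS 1500 198000 rows_132 v (by omega) (by omega)
              · rcases Nat.lt_or_ge v 201000 with h | h
                · exact rowsRange_spec E RS 1500 199500 rows_133 v (by omega) (by omega)
                · exact rowsRange_spec E RS 1500 201000 rows_134 v (by omega) (by omega)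
        · rcases Nat.lt_or_ge v 208500 with h | h
          · rcases Nat.lt_or_ge v 205500 with h | h
            · rcases Nat.lt_or_ge v 204000 with h | h
              · exact rowsRange_spec E RS 1500 202500 rows_135 v (by omega) (by omega)
              · exact rowsRange_spec E RS 1500 204000 rows_136 v (by omega) (by omega)
            · rcases Nat.lt_or_ge v 207000 with h | h
              · exact rowsRange_spec E RS 1500 205500 rows_137 v (by omega) (by omega)
              · exact rowsRange_spec E RS 1500 207000 rows_138 v (by omega) (by omega)
          · rcases Nat.lt_or_ge v 211500 with h | h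
            · rcases Nat.lt_or_ge v 210000 with h | h
              · exact rowsRange_spec E RS 1500 208500 rows_139 v (by omega) (by omega)
              · exact rowsRange_spec E RS 1500 210000 rows_140 v (by omega) (by omega)
            · rcases Nat.lt_or_ge v 213000 with h | h
              · exact rowsRange_spec E RS 1500 211500 rows_141 v (by omega) (by omega)
              · rcases Nat.lt_or_ge v 214500 with h | h
                · exact rowsRange_spec E RS 1500 213000 rows_142 v (by omega) (by omega)
                · exact rowsRange_spec E RS 235 214500 rows_143 v (by omega) (by omega)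

theorem cb_0 : cntBits RS 0 = 0 := rfl

theorem cb_1 : cntBits RS 20000 = 12857 := by
  have h := cntBits_step RS 0 20000
  rw [cb_0, cnt_0] at h
  exact h

theorem cb_2 : cntBits RS 40000 = 24713 := by
  have h := cntBits_step RS 20000 20000
  rw [cb_1, cnt_1] at h
  exact h

theorem cb_3 : cntBits RS 60000 = 35929 := by
  have h := cntBits_step RS 40000 20000
  rw [cb_2, cnt_2] at h
  exact h

theorem cb_4 : cntBits RS 80000 = 45781 := by
  have h := cntBits_step RS 60000 20000
  rw [cb_3, cnt_3] at h
  exact h

theorem cb_5 : cntBits RS 100000 = 54612 := by
  have h := cntBits_step RS 80000 20000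
  rw [cb_4, cnt_4] at h
  exact h

theorem cb_6 : cntBits RS 120000 = 64191 := by
  have h := cntBits_step RS 100000 20000
  rw [cb_5, cnt_5] at h
  exact h

theorem cb_7 : cntBits RS 140000 = 73888 := by
  have h := cntBits_step RS 120000 20000
  rw [cb_6, cnt_6] at h
  exact h

theorem cb_8 : cntBits RS 160000 = 80609 := by
  have h := cntBits_step RS 140000 20000
  rw [cb_7, cnt_7] at h
  exact h

theorem cb_9 : cntBits RS 180000 = 88823 := by
  have h := cntBits_step RS 160000 20000
  rw [cb_8, cnt_8] at h
  exact h

theorem cb_10 : cntBits RS 200000 = 108138 := by
  have h := cntBits_step RS 180000 20000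
  rw [cb_9, cnt_9] at h
  exact h

theorem cb_11 : cntBits RS 214735 = 122760 := by
  have h := cntBits_step RS 200000 14735
  rw [cb_10, cnt_10] at h
  exact h

theorem set_ok : setOK 214735 122760 RS = true :=
  setOK_of_parts cb_11 set_zero set_lt

theorem relf_0 : ∀ v, v < 122760 → W_0 v = v := by
  intro v hv
  rcases Nat.lt_or_ge v 100000 with h | h
  · exact fixPtsF_spec W_0 100000 0 relc_0_0 v (by omega) (by omega)
  · exact fixPtsF_spec W_0 22760 100000 relc_0_1 v (by omega) (by omega)

set_option maxRecDepth 1000000 in
theorem walk_0 : ∀ v, walkT ctF (D.wlen 0) (D.wordP 0) v = W_0 v := by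
  intro v
  simp only [W_0, forceL_eq]
  rfl

theorem relw_0 : ∀ v, v < 122760 → walkT ctF (D.wlen 0) (D.wordP 0) v = v := by
  intro v hv
  rw [walk_0]
  exact relf_0 v hv

theorem relf_1 : ∀ v, v < 122760 → W_1 v = v := by
  intro v hv
  rcases Nat.lt_or_ge v 66666 with h | h
  · rcases Nat.lt_or_ge v 33333 with h | h
    · exact fixPtsF_spec W_1 33333 0 relc_1_0 v (by omega) (by omega)
    · exact fixPtsF_spec W_1 33333 33333 relc_1_1 v (by omega) (by omega)
  · rcases Nat.lt_or_ge v 99999 with h | h
    · exact fixPtsF_spec W_1 33333 66666 relc_1_2 v (by omega) (by omega)
    · exact fixPtsF_spec W_1 22761 99999 relc_1_3 v (by omega) (by omega)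

set_option maxRecDepth 1000000 in
theorem walk_1 : ∀ v, walkT ctF (D.wlen 1) (D.wordP 1) v = W_1 v := by
  intro v
  simp only [W_1, forceL_eq]
  rfl

theorem relw_1 : ∀ v, v < 122760 → walkT ctF (D.wlen 1) (D.wordP 1) v = v := by
  intro v hv
  rw [walk_1]
  exact relf_1 v hv

theorem relf_2 : ∀ v, v < 122760 → W_2 v = v := by
  intro v hv
  rcases Nat.lt_or_ge v 50000 with h | h
  · exact fixPtsF_spec W_2 50000 0 relc_2_0 v (by omega) (by omega)
  · rcases Nat.lt_or_ge v 100000 with h | h
    · exact fixPtsF_spec W_2 50000 50000 relc_2_1 v (by omega) (by omega)
    · exact fixPtsF_spec W_2 22760 100000 relc_2_2 v (by omega) (by omega)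

set_option maxRecDepth 1000000 in
theorem walk_2 : ∀ v, walkT ctF (D.wlen 2) (D.wordP 2) v = W_2 v := by
  intro v
  simp only [W_2, forceL_eq]
  rfl

theorem relw_2 : ∀ v, v < 122760 → walkT ctF (D.wlen 2) (D.wordP 2) v = v := by
  intro v hv
  rw [walk_2]
  exact relf_2 v hv

theorem relf_3 : ∀ v, v < 122760 → W_3 v = v := by
  intro v hv
  rcases Nat.lt_or_ge v 50000 with h | h
  · exact fixPtsF_spec W_3 50000 0 relc_3_0 v (by omega) (by omega)
  · rcases Nat.lt_or_ge v 100000 with h | h
    · exact fixPtsF_spec W_3 50000 50000 relc_3_1 v (by omega) (by omega)
    · exact fixPtsF_spec W_3 22760 100000 relc_3_2 v (by omega) (by omega)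

set_option maxRecDepth 1000000 in
theorem walk_3 : ∀ v, walkT ctF (D.wlen 3) (D.wordP 3) v = W_3 v := by
  intro v
  simp only [W_3, forceL_eq]
  rfl

theorem relw_3 : ∀ v, v < 122760 → walkT ctF (D.wlen 3) (D.wordP 3) v = v := by
  intro v hv
  rw [walk_3]
  exact relf_3 v hv

theorem relf_4 : ∀ v, v < 122760 → W_4 v = v := by
  intro v hv
  rcases Nat.lt_or_ge v 50000 with h | h
  · exact fixPtsF_spec W_4 50000 0 relc_4_0 v (by omega) (by omega)
  · rcases Nat.lt_or_ge v 100000 with h | h
    · exact fixPtsF_spec W_4 50000 50000 relc_4_1 v (by omega) (by omega)
    · exact fixPtsF_spec W_4 22760 100000 relc_4_2 v (by omega) (by omega)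

set_option maxRecDepth 1000000 in
theorem walk_4 : ∀ v, walkT ctF (D.wlen 4) (D.wordP 4) v = W_4 v := by
  intro v
  simp only [W_4, forceL_eq]
  rfl

theorem relw_4 : ∀ v, v < 122760 → walkT ctF (D.wlen 4) (D.wordP 4) v = v := by
  intro v hv
  rw [walk_4]
  exact relf_4 v hv

theorem relf_5 : ∀ v, v < 122760 → W_5 v = v := by
  intro v hv
  rcases Nat.lt_or_ge v 50000 with h | h
  · exact fixPtsF_spec W_5 50000 0 relc_5_0 v (by omega) (by omega)
  · rcases Nat.lt_or_ge v 100000 with h | h
    · exact fixPtsF_spec W_5 50000 50000 relc_5_1 v (by omega) (by omega)
    · exact fixPtsF_spec W_5 22760 100000 relc_5_2 v (by omega) (by omega)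

set_option maxRecDepth 1000000 in
theorem walk_5 : ∀ v, walkT ctF (D.wlen 5) (D.wordP 5) v = W_5 v := by
  intro v
  simp only [W_5, forceL_eq]
  rfl

theorem relw_5 : ∀ v, v < 122760 → walkT ctF (D.wlen 5) (D.wordP 5) v = v := by
  intro v hv
  rw [walk_5]
  exact relf_5 v hv

theorem relf_6 : ∀ v, v < 122760 → W_6 v = v := by
  intro v hv
  rcases Nat.lt_or_ge v 100000 with h | h
  · exact fixPtsF_spec W_6 100000 0 relc_6_0 v (by omega) (by omega)
  · exact fixPtsF_spec W_6 22760 100000 relc_6_1 v (by omega) (by omega)

set_option maxRecDepth 1000000 in
theorem walk_6 : ∀ v, walkT ctF (D.wlen 6) (D.wordP 6) v = W_6 v := by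
  intro v
  simp only [W_6, forceL_eq]
  rfl

theorem relw_6 : ∀ v, v < 122760 → walkT ctF (D.wlen 6) (D.wordP 6) v = v := by
  intro v hv
  rw [walk_6]
  exact relf_6 v hv

theorem relf_7 : ∀ v, v < 122760 → W_7 v = v := by
  intro v hv
  rcases Nat.lt_or_ge v 66666 with h | h
  · rcases Nat.lt_or_ge v 33333 with h | h
    · exact fixPtsF_spec W_7 33333 0 relc_7_0 v (by omega) (by omega)
    · exact fixPtsF_spec W_7 33333 33333 relc_7_1 v (by omega) (by omega)
  · rcases Nat.lt_or_ge v 99999 with h | h
    · exact fixPtsF_spec W_7 33333 66666 relc_7_2 v (by omega) (by omega)
    · exact fixPtsF_spec W_7 22761 99999 relc_7_3 v (by omega) (by omega)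

set_option maxRecDepth 1000000 in
theorem walk_7 : ∀ v, walkT ctF (D.wlen 7) (D.wordP 7) v = W_7 v := by
  intro v
  simp only [W_7, forceL_eq]
  rfl

theorem relw_7 : ∀ v, v < 122760 → walkT ctF (D.wlen 7) (D.wordP 7) v = v := by
  intro v hv
  rw [walk_7]
  exact relf_7 v hv

theorem relf_8 : ∀ v, v < 122760 → W_8 v = v := by
  intro v hv
  rcases Nat.lt_or_ge v 50000 with h | h
  · exact fixPtsF_spec W_8 50000 0 relc_8_0 v (by omega) (by omega)
  · rcases Nat.lt_or_ge v 100000 with h | h
    · exact fixPtsF_spec W_8 50000 50000 relc_8_1 v (by omega) (by omega)
    · exact fixPtsF_spec W_8 22760 100000 relc_8_2 v (by omega) (by omega)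

set_option maxRecDepth 1000000 in
theorem walk_8 : ∀ v, walkT ctF (D.wlen 8) (D.wordP 8) v = W_8 v := by
  intro v
  simp only [W_8, forceL_eq]
  rfl

theorem relw_8 : ∀ v, v < 122760 → walkT ctF (D.wlen 8) (D.wordP 8) v = v := by
  intro v hv
  rw [walk_8]
  exact relf_8 v hv

theorem relf_9 : ∀ v, v < 122760 → W_9 v = v := by
  intro v hv
  rcases Nat.lt_or_ge v 50000 with h | h
  · exact fixPtsF_spec W_9 50000 0 relc_9_0 v (by omega) (by omega)
  · rcases Nat.lt_or_ge v 100000 with h | h
    · exact fixPtsF_spec W_9 50000 50000 relc_9_1 v (by omega) (by omega)
    · exact fixPtsF_spec W_9 22760 100000 relc_9_2 v (by omega) (by omega)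

set_option maxRecDepth 1000000 in
theorem walk_9 : ∀ v, walkT ctF (D.wlen 9) (D.wordP 9) v = W_9 v := by
  intro v
  simp only [W_9, forceL_eq]
  rfl

theorem relw_9 : ∀ v, v < 122760 → walkT ctF (D.wlen 9) (D.wordP 9) v = v := by
  intro v hv
  rw [walk_9]
  exact relf_9 v hv

theorem relf_10 : ∀ v, v < 122760 → W_10 v = v := by
  intro v hv
  rcases Nat.lt_or_ge v 50000 with h | h
  · exact fixPtsF_spec W_10 50000 0 relc_10_0 v (by omega) (by omega)
  · rcases Nat.lt_or_ge v 100000 with h | h
    · exact fixPtsF_spec W_10 50000 50000 relc_10_1 v (by omega) (by omega)
    · exact fixPtsF_spec W_10 22760 100000 relc_10_2 v (by omega) (by omega)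

set_option maxRecDepth 1000000 in
theorem walk_10 : ∀ v, walkT ctF (D.wlen 10) (D.wordP 10) v = W_10 v := by
  intro v
  simp only [W_10, forceL_eq]
  rfl

theorem relw_10 : ∀ v, v < 122760 → walkT ctF (D.wlen 10) (D.wordP 10) v = v := by
  intro v hv
  rw [walk_10]
  exact relf_10 v hv

theorem relf_11 : ∀ v, v < 122760 → W_11 v = v := by
  intro v hv
  rcases Nat.lt_or_ge v 100000 with h | h
  · exact fixPtsF_spec W_11 100000 0 relc_11_0 v (by omega) (by omega)
  · exact fixPtsF_spec W_11 22760 100000 relc_11_1 v (by omega) (by omega)

set_option maxRecDepth 1000000 in
theorem walk_11 : ∀ v, walkT ctF (D.wlen 11) (D.wordP 11) v = W_11 v := by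
  intro v
  simp only [W_11, forceL_eq]
  rfl

theorem relw_11 : ∀ v, v < 122760 → walkT ctF (D.wlen 11) (D.wordP 11) v = v := by
  intro v hv
  rw [walk_11]
  exact relf_11 v hv

theorem relf_12 : ∀ v, v < 122760 → W_12 v = v := by
  intro v hv
  rcases Nat.lt_or_ge v 62500 with h | h
  · rcases Nat.lt_or_ge v 25000 with h | h
    · rcases Nat.lt_or_ge v 12500 with h | h
      · exact fixPtsF_spec W_12 12500 0 relc_12_0 v (by omega) (by omega)
      · exact fixPtsF_spec W_12 12500 12500 relc_12_1 v (by omega) (by omega)
    · rcases Nat.lt_or_ge v 37500 with h | h
      · exact fixPtsF_spec W_12 12500 25000 relc_12_2 v (by omega) (by omega)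
      · rcases Nat.lt_or_ge v 50000 with h | h
        · exact fixPtsF_spec W_12 12500 37500 relc_12_3 v (by omega) (by omega)
        · exact fixPtsF_spec W_12 12500 50000 relc_12_4 v (by omega) (by omega)
  · rcases Nat.lt_or_ge v 87500 with h | h
    · rcases Nat.lt_or_ge v 75000 with h | h
      · exact fixPtsF_spec W_12 12500 62500 relc_12_5 v (by omega) (by omega)
      · exact fixPtsF_spec W_12 12500 75000 relc_12_6 v (by omega) (by omega)
    · rcases Nat.lt_or_ge v 100000 with h | h
      · exact fixPtsF_spec W_12 12500 87500 relc_12_7 v (by omega) (by omega)
      · rcases Nat.lt_or_ge v 112500 with h | h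
        · exact fixPtsF_spec W_12 12500 100000 relc_12_8 v (by omega) (by omega)
        · exact fixPtsF_spec W_12 10260 112500 relc_12_9 v (by omega) (by omega)

set_option maxRecDepth 1000000 in
theorem walk_12 : ∀ v, walkT ctF (D.wlen 12) (D.wordP 12) v = W_12 v := by
  intro v
  simp only [W_12, forceL_eq]
  rfl

theorem relw_12 : ∀ v, v < 122760 → walkT ctF (D.wlen 12) (D.wordP 12) v = v := by
  intro v hv
  rw [walk_12]
  exact relf_12 v hv

theorem relf_13 : ∀ v, v < 122760 → W_13 v = v := by
  intro v hv
  rcases Nat.lt_or_ge v 50000 with h | h
  · exact fixPtsF_spec W_13 50000 0 relc_13_0 v (by omega) (by omega)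
  · rcases Nat.lt_or_ge v 100000 with h | h
    · exact fixPtsF_spec W_13 50000 50000 relc_13_1 v (by omega) (by omega)
    · exact fixPtsF_spec W_13 22760 100000 relc_13_2 v (by omega) (by omega)

set_option maxRecDepth 1000000 in
theorem walk_13 : ∀ v, walkT ctF (D.wlen 13) (D.wordP 13) v = W_13 v := by
  intro v
  simp only [W_13, forceL_eq]
  rfl

theorem relw_13 : ∀ v, v < 122760 → walkT ctF (D.wlen 13) (D.wordP 13) v = v := by
  intro v hv
  rw [walk_13]
  exact relf_13 v hv

theorem relf_14 : ∀ v, v < 122760 → W_14 v = v := by
  intro v hv
  rcases Nat.lt_or_ge v 50000 with h | h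
  · exact fixPtsF_spec W_14 50000 0 relc_14_0 v (by omega) (by omega)
  · rcases Nat.lt_or_ge v 100000 with h | h
    · exact fixPtsF_spec W_14 50000 50000 relc_14_1 v (by omega) (by omega)
    · exact fixPtsF_spec W_14 22760 100000 relc_14_2 v (by omega) (by omega)

set_option maxRecDepth 1000000 in
theorem walk_14 : ∀ v, walkT ctF (D.wlen 14) (D.wordP 14) v = W_14 v := by
  intro v
  simp only [W_14, forceL_eq]
  rfl

theorem relw_14 : ∀ v, v < 122760 → walkT ctF (D.wlen 14) (D.wordP 14) v = v := by
  intro v hv
  rw [walk_14]
  exact relf_14 v hv

theorem relf_15 : ∀ v, v < 122760 → W_15 v = v := by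
  intro v hv
  rcases Nat.lt_or_ge v 100000 with h | h
  · exact fixPtsF_spec W_15 100000 0 relc_15_0 v (by omega) (by omega)
  · exact fixPtsF_spec W_15 22760 100000 relc_15_1 v (by omega) (by omega)

set_option maxRecDepth 1000000 in
theorem walk_15 : ∀ v, walkT ctF (D.wlen 15) (D.wordP 15) v = W_15 v := by
  intro v
  simp only [W_15, forceL_eq]
  rfl

theorem relw_15 : ∀ v, v < 122760 → walkT ctF (D.wlen 15) (D.wordP 15) v = v := by
  intro v hv
  rw [walk_15]
  exact relf_15 v hv

theorem relf_16 : ∀ v, v < 122760 → W_16 v = v := by
  intro v hv
  rcases Nat.lt_or_ge v 50000 with h | h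
  · exact fixPtsF_spec W_16 50000 0 relc_16_0 v (by omega) (by omega)
  · rcases Nat.lt_or_ge v 100000 with h | h
    · exact fixPtsF_spec W_16 50000 50000 relc_16_1 v (by omega) (by omega)
    · exact fixPtsF_spec W_16 22760 100000 relc_16_2 v (by omega) (by omega)

set_option maxRecDepth 1000000 in
theorem walk_16 : ∀ v, walkT ctF (D.wlen 16) (D.wordP 16) v = W_16 v := by
  intro v
  simp only [W_16, forceL_eq]
  rfl

theorem relw_16 : ∀ v, v < 122760 → walkT ctF (D.wlen 16) (D.wordP 16) v = v := by
  intro v hv
  rw [walk_16]
  exact relf_16 v hv

theorem relf_17 : ∀ v, v < 122760 → W_17 v = v := by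
  intro v hv
  rcases Nat.lt_or_ge v 66666 with h | h
  · rcases Nat.lt_or_ge v 33333 with h | h
    · exact fixPtsF_spec W_17 33333 0 relc_17_0 v (by omega) (by omega)
    · exact fixPtsF_spec W_17 33333 33333 relc_17_1 v (by omega) (by omega)
  · rcases Nat.lt_or_ge v 99999 with h | h
    · exact fixPtsF_spec W_17 33333 66666 relc_17_2 v (by omega) (by omega)
    · exact fixPtsF_spec W_17 22761 99999 relc_17_3 v (by omega) (by omega)

set_option maxRecDepth 1000000 in
theorem walk_17 : ∀ v, walkT ctF (D.wlen 17) (D.wordP 17) v = W_17 v := by
  intro v
  simp only [W_17, forceL_eq]
  rfl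

theorem relw_17 : ∀ v, v < 122760 → walkT ctF (D.wlen 17) (D.wordP 17) v = v := by
  intro v hv
  rw [walk_17]
  exact relf_17 v hv

theorem relf_18 : ∀ v, v < 122760 → W_18 v = v := by
  intro v hv
  rcases Nat.lt_or_ge v 100000 with h | h
  · exact fixPtsF_spec W_18 100000 0 relc_18_0 v (by omega) (by omega)
  · exact fixPtsF_spec W_18 22760 100000 relc_18_1 v (by omega) (by omega)

set_option maxRecDepth 1000000 in
theorem walk_18 : ∀ v, walkT ctF (D.wlen 18) (D.wordP 18) v = W_18 v := by
  intro v
  simp only [W_18, forceL_eq]
  rfl

theorem relw_18 : ∀ v, v < 122760 → walkT ctF (D.wlen 18) (D.wordP 18) v = v := by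
  intro v hv
  rw [walk_18]
  exact relf_18 v hv

theorem relf_19 : ∀ v, v < 122760 → W_19 v = v := by
  intro v hv
  rcases Nat.lt_or_ge v 66666 with h | h
  · rcases Nat.lt_or_ge v 33333 with h | h
    · exact fixPtsF_spec W_19 33333 0 relc_19_0 v (by omega) (by omega)
    · exact fixPtsF_spec W_19 33333 33333 relc_19_1 v (by omega) (by omega)
  · rcases Nat.lt_or_ge v 99999 with h | h
    · exact fixPtsF_spec W_19 33333 66666 relc_19_2 v (by omega) (by omega)
    · exact fixPtsF_spec W_19 22761 99999 relc_19_3 v (by omega) (by omega)

set_option maxRecDepth 1000000 in
theorem walk_19 : ∀ v, walkT ctF (D.wlen 19) (D.wordP 19) v = W_19 v := by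
  intro v
  simp only [W_19, forceL_eq]
  rfl

theorem relw_19 : ∀ v, v < 122760 → walkT ctF (D.wlen 19) (D.wordP 19) v = v := by
  intro v hv
  rw [walk_19]
  exact relf_19 v hv

theorem relf_20 : ∀ v, v < 122760 → W_20 v = v := by
  intro v hv
  rcases Nat.lt_or_ge v 100000 with h | h
  · exact fixPtsF_spec W_20 100000 0 relc_20_0 v (by omega) (by omega)
  · exact fixPtsF_spec W_20 22760 100000 relc_20_1 v (by omega) (by omega)

set_option maxRecDepth 1000000 in
theorem walk_20 : ∀ v, walkT ctF (D.wlen 20) (D.wordP 20) v = W_20 v := by
  intro v
  simp only [W_20, forceL_eq]
  rfl

theorem relw_20 : ∀ v, v < 122760 → walkT ctF (D.wlen 20) (D.wordP 20) v = v := by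
  intro v hv
  rw [walk_20]
  exact relf_20 v hv

theorem relf_21 : ∀ v, v < 122760 → W_21 v = v := by
  intro v hv
  rcases Nat.lt_or_ge v 50000 with h | h
  · exact fixPtsF_spec W_21 50000 0 relc_21_0 v (by omega) (by omega)
  · rcases Nat.lt_or_ge v 100000 with h | h
    · exact fixPtsF_spec W_21 50000 50000 relc_21_1 v (by omega) (by omega)
    · exact fixPtsF_spec W_21 22760 100000 relc_21_2 v (by omega) (by omega)

set_option maxRecDepth 1000000 in
theorem walk_21 : ∀ v, walkT ctF (D.wlen 21) (D.wordP 21) v = W_21 v := by
  intro v
  simp only [W_21, forceL_eq]
  rfl

theorem relw_21 : ∀ v, v < 122760 → walkT ctF (D.wlen 21) (D.wordP 21) v = v := by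
  intro v hv
  rw [walk_21]
  exact relf_21 v hv

theorem relf_22 : ∀ v, v < 122760 → W_22 v = v := by
  intro v hv
  rcases Nat.lt_or_ge v 60000 with h | h
  · rcases Nat.lt_or_ge v 20000 with h | h
    · exact fixPtsF_spec W_22 20000 0 relc_22_0 v (by omega) (by omega)
    · rcases Nat.lt_or_ge v 40000 with h | h
      · exact fixPtsF_spec W_22 20000 20000 relc_22_1 v (by omega) (by omega)
      · exact fixPtsF_spec W_22 20000 40000 relc_22_2 v (by omega) (by omega)
  · rcases Nat.lt_or_ge v 100000 with h | h
    · rcases Nat.lt_or_ge v 80000 with h | h
      · exact fixPtsF_spec W_22 20000 60000 relc_22_3 v (by omega) (by omega)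
      · exact fixPtsF_spec W_22 20000 80000 relc_22_4 v (by omega) (by omega)
    · rcases Nat.lt_or_ge v 120000 with h | h
      · exact fixPtsF_spec W_22 20000 100000 relc_22_5 v (by omega) (by omega)
      · exact fixPtsF_spec W_22 2760 120000 relc_22_6 v (by omega) (by omega)

set_option maxRecDepth 1000000 in
theorem walk_22 : ∀ v, walkT ctF (D.wlen 22) (D.wordP 22) v = W_22 v := by
  intro v
  simp only [W_22, forceL_eq]
  rfl

theorem relw_22 : ∀ v, v < 122760 → walkT ctF (D.wlen 22) (D.wordP 22) v = v := by
  intro v hv
  rw [walk_22]
  exact relf_22 v hv

theorem relf_23 : ∀ v, v < 122760 → W_23 v = v := by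
  intro v hv
  rcases Nat.lt_or_ge v 60000 with h | h
  · rcases Nat.lt_or_ge v 20000 with h | h
    · exact fixPtsF_spec W_23 20000 0 relc_23_0 v (by omega) (by omega)
    · rcases Nat.lt_or_ge v 40000 with h | h
      · exact fixPtsF_spec W_23 20000 20000 relc_23_1 v (by omega) (by omega)
      · exact fixPtsF_spec W_23 20000 40000 relc_23_2 v (by omega) (by omega)
  · rcases Nat.lt_or_ge v 100000 with h | h
    · rcases Nat.lt_or_ge v 80000 with h | h
      · exact fixPtsF_spec W_23 20000 60000 relc_23_3 v (by omega) (by omega)
      · exact fixPtsF_spec W_23 20000 80000 relc_23_4 v (by omega) (by omega)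
    · rcases Nat.lt_or_ge v 120000 with h | h
      · exact fixPtsF_spec W_23 20000 100000 relc_23_5 v (by omega) (by omega)
      · exact fixPtsF_spec W_23 2760 120000 relc_23_6 v (by omega) (by omega)

set_option maxRecDepth 1000000 in
theorem walk_23 : ∀ v, walkT ctF (D.wlen 23) (D.wordP 23) v = W_23 v := by
  intro v
  simp only [W_23, forceL_eq]
  rfl

theorem relw_23 : ∀ v, v < 122760 → walkT ctF (D.wlen 23) (D.wordP 23) v = v := by
  intro v hv
  rw [walk_23]
  exact relf_23 v hv

theorem relf_24 : ∀ v, v < 122760 → W_24 v = v := by
  intro v hv
  rcases Nat.lt_or_ge v 60000 with h | h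
  · rcases Nat.lt_or_ge v 20000 with h | h
    · exact fixPtsF_spec W_24 20000 0 relc_24_0 v (by omega) (by omega)
    · rcases Nat.lt_or_ge v 40000 with h | h
      · exact fixPtsF_spec W_24 20000 20000 relc_24_1 v (by omega) (by omega)
      · exact fixPtsF_spec W_24 20000 40000 relc_24_2 v (by omega) (by omega)
  · rcases Nat.lt_or_ge v 100000 with h | h
    · rcases Nat.lt_or_ge v 80000 with h | h
      · exact fixPtsF_spec W_24 20000 60000 relc_24_3 v (by omega) (by omega)
      · exact fixPtsF_spec W_24 20000 80000 relc_24_4 v (by omega) (by omega)
    · rcases Nat.lt_or_ge v 120000 with h | h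
      · exact fixPtsF_spec W_24 20000 100000 relc_24_5 v (by omega) (by omega)
      · exact fixPtsF_spec W_24 2760 120000 relc_24_6 v (by omega) (by omega)

set_option maxRecDepth 1000000 in
theorem walk_24 : ∀ v, walkT ctF (D.wlen 24) (D.wordP 24) v = W_24 v := by
  intro v
  simp only [W_24, forceL_eq]
  rfl

theorem relw_24 : ∀ v, v < 122760 → walkT ctF (D.wlen 24) (D.wordP 24) v = v := by
  intro v hv
  rw [walk_24]
  exact relf_24 v hv

theorem relf_25 : ∀ v, v < 122760 → W_25 v = v := by
  intro v hv
  rcases Nat.lt_or_ge v 60000 with h | h
  · rcases Nat.lt_or_ge v 30000 with h | h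
    · rcases Nat.lt_or_ge v 10000 with h | h
      · exact fixPtsF_spec W_25 10000 0 relc_25_0 v (by omega) (by omega)
      · rcases Nat.lt_or_ge v 20000 with h | h
        · exact fixPtsF_spec W_25 10000 10000 relc_25_1 v (by omega) (by omega)
        · exact fixPtsF_spec W_25 10000 20000 relc_25_2 v (by omega) (by omega)
    · rcases Nat.lt_or_ge v 40000 with h | h
      · exact fixPtsF_spec W_25 10000 30000 relc_25_3 v (by omega) (by omega)
      · rcases Nat.lt_or_ge v 50000 with h | h
        · exact fixPtsF_spec W_25 10000 40000 relc_25_4 v (by omega) (by omega)
        · exact fixPtsF_spec W_25 10000 50000 relc_25_5 v (by omega) (by omega)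
  · rcases Nat.lt_or_ge v 90000 with h | h
    · rcases Nat.lt_or_ge v 70000 with h | h
      · exact fixPtsF_spec W_25 10000 60000 relc_25_6 v (by omega) (by omega)
      · rcases Nat.lt_or_ge v 80000 with h | h
        · exact fixPtsF_spec W_25 10000 70000 relc_25_7 v (by omega) (by omega)
        · exact fixPtsF_spec W_25 10000 80000 relc_25_8 v (by omega) (by omega)
    · rcases Nat.lt_or_ge v 110000 with h | h
      · rcases Nat.lt_or_ge v 100000 with h | h
        · exact fixPtsF_spec W_25 10000 90000 relc_25_9 v (by omega) (by omega)
        · exact fixPtsF_spec W_25 10000 100000 relc_25_10 v (by omega) (by omega)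
      · rcases Nat.lt_or_ge v 120000 with h | h
        · exact fixPtsF_spec W_25 10000 110000 relc_25_11 v (by omega) (by omega)
        · exact fixPtsF_spec W_25 2760 120000 relc_25_12 v (by omega) (by omega)

set_option maxRecDepth 1000000 in
theorem walk_25 : ∀ v, walkT ctF (D.wlen 25) (D.wordP 25) v = W_25 v := by
  intro v
  simp only [W_25, forceL_eq]
  rfl

theorem relw_25 : ∀ v, v < 122760 → walkT ctF (D.wlen 25) (D.wordP 25) v = v := by
  intro v hv
  rw [walk_25]
  exact relf_25 v hv

theorem relf_26 : ∀ v, v < 122760 → W_26 v = v := by
  intro v hv
  rcases Nat.lt_or_ge v 54543 with h | h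
  · rcases Nat.lt_or_ge v 18181 with h | h
    · exact fixPtsF_spec W_26 18181 0 relc_26_0 v (by omega) (by omega)
    · rcases Nat.lt_or_ge v 36362 with h | h
      · exact fixPtsF_spec W_26 18181 18181 relc_26_1 v (by omega) (by omega)
      · exact fixPtsF_spec W_26 18181 36362 relc_26_2 v (by omega) (by omega)
  · rcases Nat.lt_or_ge v 90905 with h | h
    · rcases Nat.lt_or_ge v 72724 with h | h
      · exact fixPtsF_spec W_26 18181 54543 relc_26_3 v (by omega) (by omega)
      · exact fixPtsF_spec W_26 18181 72724 relc_26_4 v (by omega) (by omega)
    · rcases Nat.lt_or_ge v 109086 with h | h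
      · exact fixPtsF_spec W_26 18181 90905 relc_26_5 v (by omega) (by omega)
      · exact fixPtsF_spec W_26 13674 109086 relc_26_6 v (by omega) (by omega)

set_option maxRecDepth 1000000 in
theorem walk_26 : ∀ v, walkT ctF (D.wlen 26) (D.wordP 26) v = W_26 v := by
  intro v
  simp only [W_26, forceL_eq]
  rfl

theorem relw_26 : ∀ v, v < 122760 → walkT ctF (D.wlen 26) (D.wordP 26) v = v := by
  intro v hv
  rw [walk_26]
  exact relf_26 v hv

theorem relf_27 : ∀ v, v < 122760 → W_27 v = v := by
  intro v hv
  rcases Nat.lt_or_ge v 54543 with h | h
  · rcases Nat.lt_or_ge v 18181 with h | h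
    · exact fixPtsF_spec W_27 18181 0 relc_27_0 v (by omega) (by omega)
    · rcases Nat.lt_or_ge v 36362 with h | h
      · exact fixPtsF_spec W_27 18181 18181 relc_27_1 v (by omega) (by omega)
      · exact fixPtsF_spec W_27 18181 36362 relc_27_2 v (by omega) (by omega)
  · rcases Nat.lt_or_ge v 90905 with h | h
    · rcases Nat.lt_or_ge v 72724 with h | h
      · exact fixPtsF_spec W_27 18181 54543 relc_27_3 v (by omega) (by omega)
      · exact fixPtsF_spec W_27 18181 72724 relc_27_4 v (by omega) (by omega)
    · rcases Nat.lt_or_ge v 109086 with h | h
      · exact fixPtsF_spec W_27 18181 90905 relc_27_5 v (by omega) (by omega)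
      · exact fixPtsF_spec W_27 13674 109086 relc_27_6 v (by omega) (by omega)

set_option maxRecDepth 1000000 in
theorem walk_27 : ∀ v, walkT ctF (D.wlen 27) (D.wordP 27) v = W_27 v := by
  intro v
  simp only [W_27, forceL_eq]
  rfl

theorem relw_27 : ∀ v, v < 122760 → walkT ctF (D.wlen 27) (D.wordP 27) v = v := by
  intro v hv
  rw [walk_27]
  exact relf_27 v hv

theorem relf_28 : ∀ v, v < 122760 → W_28 v = v := by
  intro v hv
  rcases Nat.lt_or_ge v 100000 with h | h
  · exact fixPtsF_spec W_28 100000 0 relc_28_0 v (by omega) (by omega)
  · exact fixPtsF_spec W_28 22760 100000 relc_28_1 v (by omega) (by omega)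

set_option maxRecDepth 1000000 in
theorem walk_28 : ∀ v, walkT ctF (D.wlen 28) (D.wordP 28) v = W_28 v := by
  intro v
  simp only [W_28, forceL_eq]
  rfl

theorem relw_28 : ∀ v, v < 122760 → walkT ctF (D.wlen 28) (D.wordP 28) v = v := by
  intro v hv
  rw [walk_28]
  exact relf_28 v hv

theorem relf_29 : ∀ v, v < 122760 → W_29 v = v := by
  intro v hv
  rcases Nat.lt_or_ge v 100000 with h | h
  · exact fixPtsF_spec W_29 100000 0 relc_29_0 v (by omega) (by omega)
  · exact fixPtsF_spec W_29 22760 100000 relc_29_1 v (by omega) (by omega)

set_option maxRecDepth 1000000 in
theorem walk_29 : ∀ v, walkT ctF (D.wlen 29) (D.wordP 29) v = W_29 v := by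
  intro v
  simp only [W_29, forceL_eq]
  rfl

theorem relw_29 : ∀ v, v < 122760 → walkT ctF (D.wlen 29) (D.wordP 29) v = v := by
  intro v hv
  rw [walk_29]
  exact relf_29 v hv

theorem invx_0 : ∀ v, v < 122760 → ctF 0 v < 122760 ∧ ctF 0 (ctF 0 v) = v := by
  intro v hv
  rcases Nat.lt_or_ge v 50000 with h | h
  · exact invRowFI_spec ctF 122760 0 0 50000 0 inv_0_0 v (by omega) (by omega)
  · rcases Nat.lt_or_ge v 100000 with h | h
    · exact invRowFI_spec ctF 122760 0 0 50000 50000 inv_0_1 v (by omega) (by omega)
    · exact invRowFI_spec ctF 122760 0 0 22760 100000 inv_0_2 v (by omega) (by omega)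

theorem invx_1 : ∀ v, v < 122760 → ctF 1 v < 122760 ∧ ctF 1 (ctF 1 v) = v := by
  intro v hv
  rcases Nat.lt_or_ge v 50000 with h | h
  · exact invRowFI_spec ctF 122760 1 1 50000 0 inv_1_0 v (by omega) (by omega)
  · rcases Nat.lt_or_ge v 100000 with h | h
    · exact invRowFI_spec ctF 122760 1 1 50000 50000 inv_1_1 v (by omega) (by omega)
    · exact invRowFI_spec ctF 122760 1 1 22760 100000 inv_1_2 v (by omega) (by omega)

theorem invx_2 : ∀ v, v < 122760 → ctF 2 v < 122760 ∧ ctF 2 (ctF 2 v) = v := by
  intro v hv
  rcases Nat.lt_or_ge v 50000 with h | h
  · exact invRowFI_spec ctF 122760 2 2 50000 0 inv_2_0 v (by omega) (by omega)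
  · rcases Nat.lt_or_ge v 100000 with h | h
    · exact invRowFI_spec ctF 122760 2 2 50000 50000 inv_2_1 v (by omega) (by omega)
    · exact invRowFI_spec ctF 122760 2 2 22760 100000 inv_2_2 v (by omega) (by omega)

theorem invx_3 : ∀ v, v < 122760 → ctF 3 v < 122760 ∧ ctF 3 (ctF 3 v) = v := by
  intro v hv
  rcases Nat.lt_or_ge v 50000 with h | h
  · exact invRowFI_spec ctF 122760 3 3 50000 0 inv_3_0 v (by omega) (by omega)
  · rcases Nat.lt_or_ge v 100000 with h | h
    · exact invRowFI_spec ctF 122760 3 3 50000 50000 inv_3_1 v (by omega) (by omega)
    · exact invRowFI_spec ctF 122760 3 3 22760 100000 inv_3_2 v (by omega) (by omega)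

theorem invx_4 : ∀ v, v < 122760 → ctF 4 v < 122760 ∧ ctF 4 (ctF 4 v) = v := by
  intro v hv
  rcases Nat.lt_or_ge v 50000 with h | h
  · exact invRowFI_spec ctF 122760 4 4 50000 0 inv_4_0 v (by omega) (by omega)
  · rcases Nat.lt_or_ge v 100000 with h | h
    · exact invRowFI_spec ctF 122760 4 4 50000 50000 inv_4_1 v (by omega) (by omega)
    · exact invRowFI_spec ctF 122760 4 4 22760 100000 inv_4_2 v (by omega) (by omega)

theorem invx_5 : ∀ v, v < 122760 → ctF 5 v < 122760 ∧ ctF 5 (ctF 5 v) = v := by
  intro v hv
  rcases Nat.lt_or_ge v 50000 with h | h
  · exact invRowFI_spec ctF 122760 5 5 50000 0 inv_5_0 v (by omega) (by omega)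
  · rcases Nat.lt_or_ge v 100000 with h | h
    · exact invRowFI_spec ctF 122760 5 5 50000 50000 inv_5_1 v (by omega) (by omega)
    · exact invRowFI_spec ctF 122760 5 5 22760 100000 inv_5_2 v (by omega) (by omega)

theorem invx_6 : ∀ v, v < 122760 → ctF 6 v < 122760 ∧ ctF 7 (ctF 6 v) = v := by
  intro v hv
  rcases Nat.lt_or_ge v 50000 with h | h
  · exact invRowFI_spec ctF 122760 6 7 50000 0 inv_6_0 v (by omega) (by omega)
  · rcases Nat.lt_or_ge v 100000 with h | h
    · exact invRowFI_spec ctF 122760 6 7 50000 50000 inv_6_1 v (by omega) (by omega)
    · exact invRowFI_spec ctF 122760 6 7 22760 100000 inv_6_2 v (by omega) (by omega)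

theorem invx_7 : ∀ v, v < 122760 → ctF 7 v < 122760 ∧ ctF 6 (ctF 7 v) = v := by
  intro v hv
  rcases Nat.lt_or_ge v 50000 with h | h
  · exact invRowFI_spec ctF 122760 7 6 50000 0 inv_7_0 v (by omega) (by omega)
  · rcases Nat.lt_or_ge v 100000 with h | h
    · exact invRowFI_spec ctF 122760 7 6 50000 50000 inv_7_1 v (by omega) (by omega)
    · exact invRowFI_spec ctF 122760 7 6 22760 100000 inv_7_2 v (by omega) (by omega)

theorem hconn : ∀ v, v < 122760 → v ≠ 0 → ∃ x, x < E.D.k ∧ ctF x v < v := by
  intro v hv
  rcases Nat.lt_or_ge v 50000 with h | h
  · exact connF_spec ctF 8 50000 0 conn_0 v (by omega) (by omega)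
  · rcases Nat.lt_or_ge v 100000 with h | h
    · exact connF_spec ctF 8 50000 50000 conn_1 v (by omega) (by omega)
    · exact connF_spec ctF 8 22760 100000 conn_2 v (by omega) (by omega)

theorem hE : ∀ v, v < E.M → ∀ x, x < E.D.k → edgeOKI iota E x v = true := by
  intro v hv x hx
  have hv' : v < 214735 := hv
  have hx' : x < 8 := hx
  interval_cases x
  · exact edgesx_0 v hv'
  · exact edgesx_1 v hv'
  · exact edgesx_2 v hv'
  · exact edgesx_3 v hv'
  · exact edgesx_4 v hv'
  · exact edgesx_5 v hv'
  · exact edgesx_6 v hv'
  · exact edgesx_7 v hv'

theorem hA : ∀ v, v < E.M → aliasOK E v = true := fun v hv => hA0 v hv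

theorem hrows : ∀ v, v < E.M → tb RS v = true → rowOK2 E RS v E.D.k = true := fun v hv => hrows0 v hv

theorem hT : ∀ x, x < E.D.k → ∀ v, v < 122760 → ctF x v < 122760 ∧ ctF (iota x) (ctF x v) = v := by
  intro x hx
  have hx' : x < 8 := hx
  interval_cases x
  · exact invx_0
  · exact invx_1
  · exact invx_2
  · exact invx_3
  · exact invx_4
  · exact invx_5
  · exact invx_6
  · exact invx_7

theorem hltr : ∀ j, j < E.D.nw → lettersOK E.D.k (E.D.wlen j) (E.D.wordP j) = true :=
  wordsOK_spec D D.nw words_ok

theorem hrelT : ∀ wi, wi < E.D.nrel → ∀ v, v < 122760 →
    walkT ctF (E.D.wlen wi) (E.D.wordP wi) v = v := by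
  intro wi hwi
  have hwi' : wi < 30 := hwi
  interval_cases wi
  · exact relw_0
  · exact relw_1
  · exact relw_2
  · exact relw_3
  · exact relw_4
  · exact relw_5
  · exact relw_6
  · exact relw_7
  · exact relw_8
  · exact relw_9
  · exact relw_10
  · exact relw_11
  · exact relw_12
  · exact relw_13
  · exact relw_14
  · exact relw_15
  · exact relw_16
  · exact relw_17
  · exact relw_18
  · exact relw_19
  · exact relw_20
  · exact relw_21
  · exact relw_22
  · exact relw_23
  · exact relw_24
  · exact relw_25
  · exact relw_26
  · exact relw_27
  · exact relw_28
  · exact relw_29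

theorem hsubT : ∀ wi, wi < E.D.nw → E.D.nrel ≤ wi →
    walkT ctF (E.D.wlen wi) (E.D.wordP wi) 0 = 0 :=
  subAll_spec ctF D D.nw sub_ok

end Cfsg.Agent.Helper5.ONXATC
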