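import Mathlib
import Cfsg.Agent.Helper5.LPI
import Cfsg.Agent.Helper5.ONXATCSum
import Cfsg.Agent.Helper5.ONXBTCSum
import Cfsg.Agent.Helper5.ONXCTCSum
import Cfsg.Agent.Helper5.ONXDTCSum
import Cfsg.Agent.Helper5.ONXETCSum
import Cfsg.Agent.Helper5.ONXKTCSum

/-! generated: the relators of the ON presentation, the certified indices of the parabolic subgroups and the upper bound for the order -/

set_option autoImplicit false

namespace Cfsg.Agent.Helper5.ONLP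

open Cfsg.Agent.Helper5.TC Cfsg.Agent.Helper5.TCI Cfsg.Agent.Helper5.LP

/-- relator words on the first 8 letters. -/
def R8 : List (List ℕ) := [[0, 0], [0, 1, 0, 1, 0, 1], [0, 2, 0, 2], [0, 3, 0, 3], [0, 4, 0, 4], [0, 5, 0, 5], [1, 1], [1, 2, 1, 2, 1, 2], [1, 3, 1, 3], [1, 4, 1, 4], [1, 5, 1, 5], [2, 2], [2, 3, 2, 3, 2, 3, 2, 3, 2, 3, 2, 3, 2, 3, 2, 3], [2, 4, 2, 4], [2, 5, 2, 5], [3, 3], [3, 4, 3, 4], [3, 5, 3, 5, 3, 5], [4, 4], [4, 5, 4, 5, 4, 5], [5, 5], [0, 4, 7, 7], [0, 4, 3, 2, 3, 2, 3, 2, 3, 2], [2, 7, 3, 7, 3, 2, 3, 6, 3, 6], [3, 7, 2, 7, 2, 3, 2, 6, 2, 6], [1, 2, 3, 6, 1, 2, 3, 6, 1, 2, 3, 6, 1, 2, 3, 6, 1, 2, 3, 6], [6, 1, 2, 6, 2, 1, 6, 1, 2, 6, 2], [6, 5, 3, 6, 3, 5, 6, 5, 3, 6, 3], [6, 7], [7, 6]]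

/-- relator words on the first 6 letters. -/
def R6 : List (List ℕ) := [[0, 0], [0, 1, 0, 1, 0, 1], [0, 2, 0, 2], [0, 3, 0, 3], [0, 4, 0, 4], [0, 5, 0, 5], [1, 1], [1, 2, 1, 2, 1, 2], [1, 3, 1, 3], [1, 4, 1, 4], [1, 5, 1, 5], [2, 2], [2, 3, 2, 3, 2, 3, 2, 3, 2, 3, 2, 3, 2, 3, 2, 3], [2, 4, 2, 4], [2, 5, 2, 5], [3, 3], [3, 4, 3, 4], [3, 5, 3, 5, 3, 5], [4, 4], [4, 5, 4, 5, 4, 5], [5, 5], [0, 4, 3, 2, 3, 2, 3, 2, 3, 2]]

/-- relator words on the first 5 letters. -/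
def R5 : List (List ℕ) := [[0, 0], [0, 1, 0, 1, 0, 1], [0, 2, 0, 2], [0, 3, 0, 3], [0, 4, 0, 4], [1, 1], [1, 2, 1, 2, 1, 2], [1, 3, 1, 3], [1, 4, 1, 4], [2, 2], [2, 3, 2, 3, 2, 3, 2, 3, 2, 3, 2, 3, 2, 3, 2, 3], [2, 4, 2, 4], [3, 3], [3, 4, 3, 4], [4, 4], [0, 4, 3, 2, 3, 2, 3, 2, 3, 2]]

/-- relator words on the first 3 letters. -/
def R3 : List (List ℕ) := [[0, 0], [0, 1, 0, 1, 0, 1], [0, 2, 0, 2], [1, 1], [1, 2, 1, 2, 1, 2], [2, 2]]

/-- relator words on the first 2 letters. -/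
def R2 : List (List ℕ) := [[0, 0], [0, 1, 0, 1, 0, 1], [1, 1]]

/-- an element of prime order. -/
def xw : List ℕ := [1, 2, 3, 6]

/-- the inverse letter. -/
def iot (x : ℕ) : ℕ := (bif Nat.beq x 6 then 7 else (bif Nat.beq x 7 then 6 else x))

theorem iot_ge (x : ℕ) (hx : 16 ≤ x) : iot x = x := by
  unfold iot
  have h6 : Nat.beq x 6 = false := by
    apply Bool.eq_false_iff.mpr; intro hh; have := Nat.eq_of_beq_eq_true hh; omega
  have h7 : Nat.beq x 7 = false := by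
    apply Bool.eq_false_iff.mpr; intro hh; have := Nat.eq_of_beq_eq_true hh; omega
  simp only [h6, h7, cond_false]

theorem iot_iot : ∀ x, iot (iot x) = x := by
  intro x
  rcases Nat.lt_or_ge x 16 with h | h
  · interval_cases x <;> rfl
  · rw [iot_ge x h, iot_ge x h]

theorem iot_lt : ∀ x, x < 8 → iot x < 8 := by
  intro x hx
  interval_cases x <;> decide

theorem iot_lt16 : ∀ x, x < 16 → iot x < 16 := by
  intro x hx
  interval_cases x <;> decide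

theorem wordsA : ∀ i (hi : i < (R8 ++ letterWords 6).length),
    unpack (ONXATC.E.D.wlen i) (ONXATC.E.D.wordP i) = ((R8 ++ letterWords 6)[i]).reverse :=
  wordsMatchB_spec0 _ _ _ (by decide +kernel)

theorem idxA : (para 8 (R8) 6).index = 122760 :=
  lp_indexI (ι := iot) iot_iot iot_lt iot_lt16 (by decide +kernel) (letterWords 6) ONXATC.E rfl rfl rfl
    (by decide +kernel) wordsA ONXATC.rev_ok ONXATC.hE ONXATC.hA ONXATC.set_ok ONXATC.hrows
    (by norm_num) ONXATC.hT ONXATC.hltr ONXATC.hrelT ONXATC.hsubT ONXATC.hconn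

theorem wordsB : ∀ i (hi : i < (R6 ++ letterWords 5).length),
    unpack (ONXBTC.E.D.wlen i) (ONXBTC.E.D.wordP i) = ((R6 ++ letterWords 5)[i]).reverse :=
  wordsMatchB_spec0 _ _ _ (by decide +kernel)

theorem idxB : (para 6 (R6) 5).index = 5586 :=
  lp_index (by decide +kernel) (letterWords 5) ONXBTC.E ONXBTC.iota (fun _ => rfl) rfl rfl rfl
    (by decide +kernel) wordsB ONXBTC.rev_ok ONXBTC.hE ONXBTC.hA ONXBTC.set_ok ONXBTC.hrows
    (by norm_num) ONXBTC.hT ONXBTC.hltr ONXBTC.hrelT ONXBTC.hsubT ONXBTC.hconn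

theorem wordsC : ∀ i (hi : i < (R5 ++ letterWords 3).length),
    unpack (ONXCTC.E.D.wlen i) (ONXCTC.E.D.wordP i) = ((R5 ++ letterWords 3)[i]).reverse :=
  wordsMatchB_spec0 _ _ _ (by decide +kernel)

theorem idxC : (para 5 (R5) 3).index = 28 :=
  lp_index (by decide +kernel) (letterWords 3) ONXCTC.E ONXCTC.iota (fun _ => rfl) rfl rfl rfl
    (by decide +kernel) wordsC ONXCTC.rev_ok ONXCTC.hE ONXCTC.hA ONXCTC.set_ok ONXCTC.hrows
    (by norm_num) ONXCTC.hT ONXCTC.hltr ONXCTC.hrelT ONXCTC.hsubT ONXCTC.hconn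

theorem wordsD : ∀ i (hi : i < (R3 ++ letterWords 2).length),
    unpack (ONXDTC.E.D.wlen i) (ONXDTC.E.D.wordP i) = ((R3 ++ letterWords 2)[i]).reverse :=
  wordsMatchB_spec0 _ _ _ (by decide +kernel)

theorem idxD : (para 3 (R3) 2).index = 4 :=
  lp_index (by decide +kernel) (letterWords 2) ONXDTC.E ONXDTC.iota (fun _ => rfl) rfl rfl rfl
    (by decide +kernel) wordsD ONXDTC.rev_ok ONXDTC.hE ONXDTC.hA ONXDTC.set_ok ONXDTC.hrows
    (by norm_num) ONXDTC.hT ONXDTC.hltr ONXDTC.hrelT ONXDTC.hsubT ONXDTC.hconn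

theorem wordsE : ∀ i (hi : i < (R2 ++ letterWords 1).length),
    unpack (ONXETC.E.D.wlen i) (ONXETC.E.D.wordP i) = ((R2 ++ letterWords 1)[i]).reverse :=
  wordsMatchB_spec0 _ _ _ (by decide +kernel)

theorem idxE : (para 2 (R2) 1).index = 3 :=
  lp_index (by decide +kernel) (letterWords 1) ONXETC.E ONXETC.iota (fun _ => rfl) rfl rfl rfl
    (by decide +kernel) wordsE ONXETC.rev_ok ONXETC.hE ONXETC.hA ONXETC.set_ok ONXETC.hrows
    (by norm_num) ONXETC.hT ONXETC.hltr ONXETC.hrelT ONXETC.hsubT ONXETC.hconn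

theorem wordsK : ∀ i (hi : i < (R8 ++ [xw] ++ letterWords 0).length),
    unpack (ONXKTC.E.D.wlen i) (ONXKTC.E.D.wordP i) = ((R8 ++ [xw] ++ letterWords 0)[i]).reverse :=
  wordsMatchB_spec0 _ _ _ (by decide +kernel)

theorem idxK : (para 8 (R8 ++ [xw]) 0).index = 1 :=
  lp_indexI (ι := iot) iot_iot iot_lt iot_lt16 (by decide +kernel) (letterWords 0) ONXKTC.E rfl rfl rfl
    (by decide +kernel) wordsK ONXKTC.rev_ok ONXKTC.hE ONXKTC.hA ONXKTC.set_ok ONXKTC.hrows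
    (by norm_num) ONXKTC.hT ONXKTC.hltr ONXKTC.hrelT ONXKTC.hsubT ONXKTC.hconn

theorem ubE : Finite (LPG 2 R2) ∧ Nat.card (LPG 2 R2) ≤ 3 * 2 :=
  card_le_base (by decide +kernel) (by norm_num) idxE

theorem ubD : Finite (LPG 3 R3) ∧ Nat.card (LPG 3 R3) ≤ 4 * (3 * 2) :=
  card_le_step (k' := 2) (R' := R2) (by decide +kernel) (subListB_spec (by decide +kernel))
    (by norm_num) idxD ubE.1 ubE.2

theorem ubC : Finite (LPG 5 R5) ∧ Nat.card (LPG 5 R5) ≤ 28 * (4 * (3 * 2)) :=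
  card_le_step (k' := 3) (R' := R3) (by decide +kernel) (subListB_spec (by decide +kernel))
    (by norm_num) idxC ubD.1 ubD.2

theorem ubB : Finite (LPG 6 R6) ∧ Nat.card (LPG 6 R6) ≤ 5586 * (28 * (4 * (3 * 2))) :=
  card_le_step (k' := 5) (R' := R5) (by decide +kernel) (subListB_spec (by decide +kernel))
    (by norm_num) idxB ubC.1 ubC.2

theorem ubA : Finite (LPG 8 R8) ∧ Nat.card (LPG 8 R8) ≤ 122760 * (5586 * (28 * (4 * (3 * 2)))) :=
  card_le_step (k' := 6) (R' := R6) (by decide +kernel) (subListB_spec (by decide +kernel))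
    (by norm_num) idxA ubB.1 ubB.2

theorem killed : Nat.card (LPG 8 (R8 ++ [xw])) = 1 := card_eq_one_of_index idxK

end Cfsg.Agent.Helper5.ONLP
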