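import Mathlib
import Cfsg.Agent.Helper5.LPUB
import Cfsg.Agent.Helper5.LPQ
import Cfsg.Agent.Helper5.ONXATCSum
import Cfsg.Agent.Helper5.ONLPC0
import Cfsg.Agent.Helper5.ONLPC1
import Cfsg.Agent.Helper5.ONLPC2
import Cfsg.Agent.Helper5.ONLPC3

/-! generated: primitivity of the action of the ON group on 122760 points -/

set_option autoImplicit false

namespace Cfsg.Agent.Helper5.ONLP

open Cfsg.Agent.Helper5.TC Cfsg.Agent.Helper5.TCI Cfsg.Agent.Helper5.LP

/-- the primitivity data. -/
def prim : PrimData := [prim0, prim1, prim2, prim3]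

set_option maxRecDepth 1000000 in
theorem prim_head : primHeadF ONXATC.ctF 8 122760 Hgens prim = true := by decide +kernel

theorem prim_ok : primOK ONXATC.ctF 8 122760 Hgens prim = true := by
  apply primOK_of_parts prim_head
  intro p hp
  simp only [prim, List.mem_cons, List.not_mem_nil, or_false] at hp
  rcases hp with rfl | rfl | rfl | rfl
  · exact prim0_ok
  · exact prim1_ok
  · exact prim2_ok
  · exact prim3_ok

end Cfsg.Agent.Helper5.ONLP
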