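import Cfsg.Agent.Helper5.ONTCDatD
import Cfsg.Agent.Helper5.ONTCDatT
import Cfsg.Agent.Helper5.TCIB

/-! kernel checks of words: ONTC -/

set_option autoImplicit false
set_option Elab.async false

namespace Cfsg.Agent.Helper5.ONTC
open Cfsg.Agent.Helper5.TC Cfsg.Agent.Helper5.TCI

set_option maxRecDepth 1000000 in
theorem set_zero : tb RS 0 = true := by decide +kernel

set_option maxRecDepth 1000000 in
theorem set_lt : Nat.blt RS (Nat.pow 2 213962) = true := by decide +kernel

set_option maxRecDepth 1000000 in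
theorem rev_ok : revOKI iota D D.nw = true := by decide +kernel

set_option maxRecDepth 1000000 in
theorem words_ok : wordsOK D D.nw = true := by decide +kernel

set_option maxRecDepth 1000000 in
theorem sub_ok : subAll ctF D D.nw = true := by decide +kernel

theorem word_0 : unpack (D.wlen 0) (D.wordP 0) = [0, 0] := by decide +kernel

theorem word_1 : unpack (D.wlen 1) (D.wordP 1) = [0, 1, 0, 1, 0, 1] := by decide +kernel

theorem word_2 : unpack (D.wlen 2) (D.wordP 2) = [0, 2, 0, 2] := by decide +kernel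

theorem word_3 : unpack (D.wlen 3) (D.wordP 3) = [0, 3, 0, 3] := by decide +kernel

theorem word_4 : unpack (D.wlen 4) (D.wordP 4) = [0, 4, 0, 4] := by decide +kernel

theorem word_5 : unpack (D.wlen 5) (D.wordP 5) = [0, 5, 0, 5] := by decide +kernel

theorem word_6 : unpack (D.wlen 6) (D.wordP 6) = [1, 0, 1, 0, 1, 0] := by decide +kernel

theorem word_7 : unpack (D.wlen 7) (D.wordP 7) = [1, 1] := by decide +kernel

theorem word_8 : unpack (D.wlen 8) (D.wordP 8) = [1, 2, 1, 2, 1, 2] := by decide +kernel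

theorem word_9 : unpack (D.wlen 9) (D.wordP 9) = [1, 3, 1, 3] := by decide +kernel

theorem word_10 : unpack (D.wlen 10) (D.wordP 10) = [1, 4, 1, 4] := by decide +kernel

theorem word_11 : unpack (D.wlen 11) (D.wordP 11) = [1, 5, 1, 5] := by decide +kernel

theorem word_12 : unpack (D.wlen 12) (D.wordP 12) = [2, 0, 2, 0] := by decide +kernel

theorem word_13 : unpack (D.wlen 13) (D.wordP 13) = [2, 1, 2, 1, 2, 1] := by decide +kernel

theorem word_14 : unpack (D.wlen 14) (D.wordP 14) = [2, 2] := by decide +kernel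

theorem word_15 : unpack (D.wlen 15) (D.wordP 15) = [2, 3, 2, 3, 2, 3, 2, 3, 2, 3, 2, 3, 2, 3, 2, 3] := by decide +kernel

theorem word_16 : unpack (D.wlen 16) (D.wordP 16) = [2, 4, 2, 4] := by decide +kernel

theorem word_17 : unpack (D.wlen 17) (D.wordP 17) = [2, 5, 2, 5] := by decide +kernel

theorem word_18 : unpack (D.wlen 18) (D.wordP 18) = [3, 0, 3, 0] := by decide +kernel

theorem word_19 : unpack (D.wlen 19) (D.wordP 19) = [3, 1, 3, 1] := by decide +kernel

theorem word_20 : unpack (D.wlen 20) (D.wordP 20) = [3, 2, 3, 2, 3, 2, 3, 2, 3, 2, 3, 2, 3, 2, 3, 2] := by decide +kernel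

theorem word_21 : unpack (D.wlen 21) (D.wordP 21) = [3, 3] := by decide +kernel

theorem word_22 : unpack (D.wlen 22) (D.wordP 22) = [3, 4, 3, 4, 3, 4] := by decide +kernel

theorem word_23 : unpack (D.wlen 23) (D.wordP 23) = [3, 5, 3, 5] := by decide +kernel

theorem word_24 : unpack (D.wlen 24) (D.wordP 24) = [4, 0, 4, 0] := by decide +kernel

theorem word_25 : unpack (D.wlen 25) (D.wordP 25) = [4, 1, 4, 1] := by decide +kernel

theorem word_26 : unpack (D.wlen 26) (D.wordP 26) = [4, 2, 4, 2] := by decide +kernel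

theorem word_27 : unpack (D.wlen 27) (D.wordP 27) = [4, 3, 4, 3, 4, 3] := by decide +kernel

theorem word_28 : unpack (D.wlen 28) (D.wordP 28) = [4, 4] := by decide +kernel

theorem word_29 : unpack (D.wlen 29) (D.wordP 29) = [4, 5, 4, 5, 4, 5] := by decide +kernel

theorem word_30 : unpack (D.wlen 30) (D.wordP 30) = [5, 0, 5, 0] := by decide +kernel

theorem word_31 : unpack (D.wlen 31) (D.wordP 31) = [5, 1, 5, 1] := by decide +kernel

theorem word_32 : unpack (D.wlen 32) (D.wordP 32) = [5, 2, 5, 2] := by decide +kernel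

theorem word_33 : unpack (D.wlen 33) (D.wordP 33) = [5, 3, 5, 3] := by decide +kernel

theorem word_34 : unpack (D.wlen 34) (D.wordP 34) = [5, 4, 5, 4, 5, 4] := by decide +kernel

theorem word_35 : unpack (D.wlen 35) (D.wordP 35) = [5, 5] := by decide +kernel

theorem word_36 : unpack (D.wlen 36) (D.wordP 36) = [7, 7, 5, 0] := by decide +kernel

theorem word_37 : unpack (D.wlen 37) (D.wordP 37) = [2, 3, 2, 3, 2, 3, 2, 3, 5, 0] := by decide +kernel

theorem word_38 : unpack (D.wlen 38) (D.wordP 38) = [6, 3, 6, 3, 2, 3, 7, 3, 7, 2] := by decide +kernel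

theorem word_39 : unpack (D.wlen 39) (D.wordP 39) = [6, 2, 6, 2, 3, 2, 7, 2, 7, 3] := by decide +kernel

theorem word_40 : unpack (D.wlen 40) (D.wordP 40) = [6, 3, 2, 1, 6, 3, 2, 1, 6, 3, 2, 1, 6, 3, 2, 1, 6, 3, 2, 1] := by decide +kernel

theorem word_41 : unpack (D.wlen 41) (D.wordP 41) = [2, 6, 2, 1, 6, 1, 2, 6, 2, 1, 6] := by decide +kernel

theorem word_42 : unpack (D.wlen 42) (D.wordP 42) = [3, 6, 3, 4, 6, 4, 3, 6, 3, 4, 6] := by decide +kernel

theorem word_43 : unpack (D.wlen 43) (D.wordP 43) = [6, 7] := by decide +kernel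

theorem word_44 : unpack (D.wlen 44) (D.wordP 44) = [7, 6] := by decide +kernel

theorem word_45 : unpack (D.wlen 45) (D.wordP 45) = [0] := by decide +kernel

theorem word_46 : unpack (D.wlen 46) (D.wordP 46) = [1] := by decide +kernel

theorem word_47 : unpack (D.wlen 47) (D.wordP 47) = [2] := by decide +kernel

theorem word_48 : unpack (D.wlen 48) (D.wordP 48) = [3] := by decide +kernel

theorem word_49 : unpack (D.wlen 49) (D.wordP 49) = [4] := by decide +kernel

theorem word_50 : unpack (D.wlen 50) (D.wordP 50) = [5] := by decide +kernel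

end Cfsg.Agent.Helper5.ONTC
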