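import Cfsg.Agent.Helper5.ONTCDatD
import Cfsg.Agent.Helper5.TCIB

/-! kernel checks of edges, aliases, rows: ONTC -/

set_option autoImplicit false
set_option Elab.async false

namespace Cfsg.Agent.Helper5.ONTC
open Cfsg.Agent.Helper5.TC Cfsg.Agent.Helper5.TCI

set_option maxRecDepth 1000000 in
theorem cnt_0 : cntFrom RS 20000 0 0 = 12860 := by decide +kernel

set_option maxRecDepth 1000000 in
theorem cnt_8 : cntFrom RS 20000 160000 0 = 8891 := by decide +kernel

set_option maxRecDepth 1000000 in
theorem edges_1_29 : edgesRangeI iota E 1 3160 90272 = true := by decide +kernel

set_option maxRecDepth 1000000 in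
theorem edges_6_34 : edgesRangeI iota E 6 2497 92824 = true := by decide +kernel

set_option maxRecDepth 1000000 in
theorem edges_7_26 : edgesRangeI iota E 7 2704 70712 = true := by decide +kernel

set_option maxRecDepth 1000000 in
theorem edges_2_67 : edgesRangeI iota E 2 2266 175203 = true := by decide +kernel

set_option maxRecDepth 1000000 in
theorem edges_4_47 : edgesRangeI iota E 4 3066 170092 = true := by decide +kernel

set_option maxRecDepth 1000000 in
theorem edges_6_104 : edgesRangeI iota E 6 832 212233 = true := by decide +kernel

set_option maxRecDepth 1000000 in
theorem edges_1_79 : edgesRangeI iota E 1 1423 206972 = true := by decide +kernel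

set_option maxRecDepth 1000000 in
theorem edges_6_82 : edgesRangeI iota E 6 1132 190059 = true := by decide +kernel

set_option maxRecDepth 1000000 in
theorem edges_2_68 : edgesRangeI iota E 2 1735 177469 = true := by decide +kernel

set_option maxRecDepth 1000000 in
theorem edges_7_32 : edgesRangeI iota E 7 2791 86989 = true := by decide +kernel

set_option maxRecDepth 1000000 in
theorem edges_3_19 : edgesRangeI iota E 3 3345 63119 = true := by decide +kernel

set_option maxRecDepth 1000000 in
theorem edges_6_50 : edgesRangeI iota E 6 2451 127955 = true := by decide +kernel

set_option maxRecDepth 1000000 in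
theorem edges_1_83 : edgesRangeI iota E 1 1242 212456 = true := by decide +kernel

set_option maxRecDepth 1000000 in
theorem edges_4_61 : edgesRangeI iota E 4 1727 199166 = true := by decide +kernel

set_option maxRecDepth 1000000 in
theorem edges_6_95 : edgesRangeI iota E 6 1016 204048 = true := by decide +kernel

set_option maxRecDepth 1000000 in
theorem edges_0_62 : edgesRangeI iota E 0 2877 154108 = true := by decide +kernel

set_option maxRecDepth 1000000 in
theorem edges_1_69 : edgesRangeI iota E 1 1691 191377 = true := by decide +kernel

set_option maxRecDepth 1000000 in
theorem edges_2_75 : edgesRangeI iota E 2 1456 188471 = true := by decide +kernel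

set_option maxRecDepth 1000000 in
theorem edges_3_55 : edgesRangeI iota E 3 2705 165532 = true := by decide +kernel

set_option maxRecDepth 1000000 in
theorem edges_5_41 : edgesRangeI iota E 5 2715 116189 = true := by decide +kernel

set_option maxRecDepth 1000000 in
theorem edges_7_12 : edgesRangeI iota E 7 2620 32873 = true := by decide +kernel

set_option maxRecDepth 1000000 in
theorem edges_0_35 : edgesRangeI iota E 0 2548 87947 = true := by decide +kernel

set_option maxRecDepth 1000000 in
theorem edges_0_74 : edgesRangeI iota E 0 1813 183434 = true := by decide +kernel

set_option maxRecDepth 1000000 in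
theorem edges_2_25 : edgesRangeI iota E 2 2701 70391 = true := by decide +kernel

set_option maxRecDepth 1000000 in
theorem edges_3_13 : edgesRangeI iota E 3 3466 43316 = true := by decide +kernel

set_option maxRecDepth 1000000 in
theorem edges_4_55 : edgesRangeI iota E 4 1880 188392 = true := by decide +kernel

set_option maxRecDepth 1000000 in
theorem edges_6_11 : edgesRangeI iota E 6 2673 30675 = true := by decide +kernel

set_option maxRecDepth 1000000 in
theorem edges_7_65 : edgesRangeI iota E 7 2516 169900 = true := by decide +kernel

set_option maxRecDepth 1000000 in
theorem aliases_15 : aliasRange E 3639 48182 = true := by decide +kernel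

set_option maxRecDepth 1000000 in
theorem edges_0_4 : edgesRangeI iota E 0 2379 10104 = true := by decide +kernel

set_option maxRecDepth 1000000 in
theorem edges_1_6 : edgesRangeI iota E 1 3035 17898 = true := by decide +kernel

set_option maxRecDepth 1000000 in
theorem edges_2_53 : edgesRangeI iota E 2 2468 140287 = true := by decide +kernel

set_option maxRecDepth 1000000 in
theorem edges_4_8 : edgesRangeI iota E 4 4246 32537 = true := by decide +kernel

set_option maxRecDepth 1000000 in
theorem edges_4_56 : edgesRangeI iota E 4 1867 190272 = true := by decide +kernel

set_option maxRecDepth 1000000 in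
theorem edges_5_36 : edgesRangeI iota E 5 2592 103443 = true := by decide +kernel

set_option maxRecDepth 1000000 in
theorem edges_6_79 : edgesRangeI iota E 6 1161 186476 = true := by decide +kernel

set_option maxRecDepth 1000000 in
theorem aliases_10 : aliasRange E 3348 33108 = true := by decide +kernel

set_option maxRecDepth 1000000 in
theorem aliases_51 : aliasRange E 2319 143556 = true := by decide +kernel

set_option maxRecDepth 1000000 in
theorem edges_0_13 : edgesRangeI iota E 0 2490 32118 = true := by decide +kernel

set_option maxRecDepth 1000000 in
theorem edges_0_46 : edgesRangeI iota E 0 2478 114113 = true := by decide +kernel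

set_option maxRecDepth 1000000 in
theorem edges_1_2 : edgesRangeI iota E 1 3025 6035 = true := by decide +kernel

set_option maxRecDepth 1000000 in
theorem edges_1_49 : edgesRangeI iota E 1 2611 144053 = true := by decide +kernel

set_option maxRecDepth 1000000 in
theorem edges_2_18 : edgesRangeI iota E 2 2775 50693 = true := by decide +kernel

set_option maxRecDepth 1000000 in
theorem edges_3_3 : edgesRangeI iota E 3 3323 10649 = true := by decide +kernel

set_option maxRecDepth 1000000 in
theorem edges_3_69 : edgesRangeI iota E 3 1494 192613 = true := by decide +kernel

set_option maxRecDepth 1000000 in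
theorem edges_4_60 : edgesRangeI iota E 4 1702 197464 = true := by decide +kernel

set_option maxRecDepth 1000000 in
theorem edges_5_38 : edgesRangeI iota E 5 2592 108471 = true := by decide +kernel

set_option maxRecDepth 1000000 in
theorem edges_5_68 : edgesRangeI iota E 5 1845 188268 = true := by decide +kernel

set_option maxRecDepth 1000000 in
theorem edges_6_59 : edgesRangeI iota E 6 2151 147280 = true := by decide +kernel

set_option maxRecDepth 1000000 in
theorem edges_7_47 : edgesRangeI iota E 7 2604 123870 = true := by decide +kernel

set_option maxRecDepth 1000000 in
theorem edges_7_79 : edgesRangeI iota E 7 1515 195235 = true := by decide +kernel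

set_option maxRecDepth 1000000 in
theorem aliases_24 : aliasRange E 2406 74985 = true := by decide +kernel

set_option maxRecDepth 1000000 in
theorem aliases_63 : aliasRange E 2060 168659 = true := by decide +kernel

set_option maxRecDepth 1000000 in
theorem edges_0_59 : edgesRangeI iota E 0 2384 146286 = true := by decide +kernel

set_option maxRecDepth 1000000 in
theorem edges_0_88 : edgesRangeI iota E 0 1630 207973 = true := by decide +kernel

set_option maxRecDepth 1000000 in
theorem edges_1_61 : edgesRangeI iota E 1 1803 177431 = true := by decide +kernel

set_option maxRecDepth 1000000 in
theorem edges_2_9 : edgesRangeI iota E 2 2696 26000 = true := by decide +kernel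

set_option maxRecDepth 1000000 in
theorem edges_2_71 : edgesRangeI iota E 2 1615 182481 = true := by decide +kernel

set_option maxRecDepth 1000000 in
theorem edges_3_4 : edgesRangeI iota E 3 3162 13972 = true := by decide +kernel

set_option maxRecDepth 1000000 in
theorem edges_3_81 : edgesRangeI iota E 3 1240 209097 = true := by decide +kernel

set_option maxRecDepth 1000000 in
theorem edges_4_45 : edgesRangeI iota E 4 3263 163527 = true := by decide +kernel

set_option maxRecDepth 1000000 in
theorem edges_5_23 : edgesRangeI iota E 5 2733 66076 = true := by decide +kernel

set_option maxRecDepth 1000000 in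
theorem edges_5_61 : edgesRangeI iota E 5 3108 173231 = true := by decide +kernel

set_option maxRecDepth 1000000 in
theorem edges_6_16 : edgesRangeI iota E 6 2727 44324 = true := by decide +kernel

set_option maxRecDepth 1000000 in
theorem edges_7_2 : edgesRangeI iota E 7 2803 5822 = true := by decide +kernel

set_option maxRecDepth 1000000 in
theorem edges_7_54 : edgesRangeI iota E 7 2562 141015 = true := by decide +kernel

set_option maxRecDepth 1000000 in
theorem aliases_28 : aliasRange E 2648 84489 = true := by decide +kernel

set_option maxRecDepth 1000000 in
theorem edges_0_10 : edgesRangeI iota E 0 2231 24883 = true := by decide +kernel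

set_option maxRecDepth 1000000 in
theorem edges_0_28 : edgesRangeI iota E 0 2731 69470 = true := by decide +kernel

set_option maxRecDepth 1000000 in
theorem edges_0_48 : edgesRangeI iota E 0 2339 118988 = true := by decide +kernel

set_option maxRecDepth 1000000 in
theorem edges_0_79 : edgesRangeI iota E 0 1786 192375 = true := by decide +kernel

set_option maxRecDepth 1000000 in
theorem edges_1_16 : edgesRangeI iota E 1 2912 48718 = true := by decide +kernel

set_option maxRecDepth 1000000 in
theorem edges_1_30 : edgesRangeI iota E 1 2640 93432 = true := by decide +kernel

set_option maxRecDepth 1000000 in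
theorem edges_1_48 : edgesRangeI iota E 1 2723 141330 = true := by decide +kernel

set_option maxRecDepth 1000000 in
theorem edges_2_5 : edgesRangeI iota E 2 3106 14516 = true := by decide +kernel

set_option maxRecDepth 1000000 in
theorem edges_2_31 : edgesRangeI iota E 2 2700 86996 = true := by decide +kernel

set_option maxRecDepth 1000000 in
theorem edges_2_49 : edgesRangeI iota E 2 2542 131119 = true := by decide +kernel

set_option maxRecDepth 1000000 in
theorem edges_3_6 : edgesRangeI iota E 3 3499 20477 = true := by decide +kernel

set_option maxRecDepth 1000000 in
theorem edges_3_22 : edgesRangeI iota E 3 3078 73011 = true := by decide +kernel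

set_option maxRecDepth 1000000 in
theorem edges_3_49 : edgesRangeI iota E 3 2583 148338 = true := by decide +kernel

set_option maxRecDepth 1000000 in
theorem edges_4_3 : edgesRangeI iota E 4 4309 12202 = true := by decide +kernel

set_option maxRecDepth 1000000 in
theorem edges_4_17 : edgesRangeI iota E 4 4165 69391 = true := by decide +kernel

set_option maxRecDepth 1000000 in
theorem edges_4_39 : edgesRangeI iota E 4 3105 143590 = true := by decide +kernel

set_option maxRecDepth 1000000 in
theorem edges_5_12 : edgesRangeI iota E 5 2924 34546 = true := by decide +kernel

set_option maxRecDepth 1000000 in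
theorem edges_5_27 : edgesRangeI iota E 5 3104 77803 = true := by decide +kernel

set_option maxRecDepth 1000000 in
theorem edges_5_48 : edgesRangeI iota E 5 2648 135603 = true := by decide +kernel

set_option maxRecDepth 1000000 in
theorem edges_6_7 : edgesRangeI iota E 6 2995 19670 = true := by decide +kernel

set_option maxRecDepth 1000000 in
theorem edges_6_30 : edgesRangeI iota E 6 2369 82530 = true := by decide +kernel

set_option maxRecDepth 1000000 in
theorem edges_6_52 : edgesRangeI iota E 6 2268 132596 = true := by decide +kernel

set_option maxRecDepth 1000000 in
theorem edges_6_71 : edgesRangeI iota E 6 1777 175638 = true := by decide +kernel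

set_option maxRecDepth 1000000 in
theorem edges_7_22 : edgesRangeI iota E 7 3038 59530 = true := by decide +kernel

set_option maxRecDepth 1000000 in
theorem edges_7_51 : edgesRangeI iota E 7 2412 133972 = true := by decide +kernel

set_option maxRecDepth 1000000 in
theorem edges_7_71 : edgesRangeI iota E 7 1661 182490 = true := by decide +kernel

set_option maxRecDepth 1000000 in
theorem aliases_12 : aliasRange E 2962 39053 = true := by decide +kernel

set_option maxRecDepth 1000000 in
theorem aliases_52 : aliasRange E 2477 145875 = true := by decide +kernel

set_option maxRecDepth 1000000 in
theorem aliases_69 : aliasRange E 7118 190507 = true := by decide +kernel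

set_option maxRecDepth 1000000 in
theorem rows_2 : rowsRange E RS 1500 3000 = true := by decide +kernel

set_option maxRecDepth 1000000 in
theorem rows_8 : rowsRange E RS 1500 12000 = true := by decide +kernel

set_option maxRecDepth 1000000 in
theorem rows_16 : rowsRange E RS 1500 24000 = true := by decide +kernel

set_option maxRecDepth 1000000 in
theorem rows_24 : rowsRange E RS 1500 36000 = true := by decide +kernel

set_option maxRecDepth 1000000 in
theorem rows_32 : rowsRange E RS 1500 48000 = true := by decide +kernel

set_option maxRecDepth 1000000 in
theorem rows_40 : rowsRange E RS 1500 60000 = true := by decide +kernel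

set_option maxRecDepth 1000000 in
theorem rows_48 : rowsRange E RS 1500 72000 = true := by decide +kernel

set_option maxRecDepth 1000000 in
theorem rows_56 : rowsRange E RS 1500 84000 = true := by decide +kernel

set_option maxRecDepth 1000000 in
theorem rows_64 : rowsRange E RS 1500 96000 = true := by decide +kernel

set_option maxRecDepth 1000000 in
theorem rows_72 : rowsRange E RS 1500 108000 = true := by decide +kernel

set_option maxRecDepth 1000000 in
theorem rows_80 : rowsRange E RS 1500 120000 = true := by decide +kernel

set_option maxRecDepth 1000000 in
theorem rows_88 : rowsRange E RS 1500 132000 = true := by decide +kernel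

set_option maxRecDepth 1000000 in
theorem rows_96 : rowsRange E RS 1500 144000 = true := by decide +kernel

set_option maxRecDepth 1000000 in
theorem rows_104 : rowsRange E RS 1500 156000 = true := by decide +kernel

set_option maxRecDepth 1000000 in
theorem rows_112 : rowsRange E RS 1500 168000 = true := by decide +kernel

set_option maxRecDepth 1000000 in
theorem rows_120 : rowsRange E RS 1500 180000 = true := by decide +kernel

set_option maxRecDepth 1000000 in
theorem rows_128 : rowsRange E RS 1500 192000 = true := by decide +kernel

set_option maxRecDepth 1000000 in
theorem rows_136 : rowsRange E RS 1500 204000 = true := by decide +kernel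

set_option maxRecDepth 1000000 in
theorem edges_4_70 : edgesRangeI iota E 4 631 213331 = true := by decide +kernel

end Cfsg.Agent.Helper5.ONTC
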