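import Cfsg.Agent.Helper5.ONTCDatD
import Cfsg.Agent.Helper5.TCIB

/-! kernel checks of edges, aliases, rows: ONTC -/

set_option autoImplicit false
set_option Elab.async false

namespace Cfsg.Agent.Helper5.ONTC
open Cfsg.Agent.Helper5.TC Cfsg.Agent.Helper5.TCI

set_option maxRecDepth 1000000 in
theorem cnt_1 : cntFrom RS 20000 20000 0 = 11880 := by decide +kernel

set_option maxRecDepth 1000000 in
theorem cnt_9 : cntFrom RS 20000 180000 0 = 19343 := by decide +kernel

set_option maxRecDepth 1000000 in
theorem edges_1_80 : edgesRangeI iota E 1 1394 208395 = true := by decide +kernel

set_option maxRecDepth 1000000 in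
theorem edges_6_43 : edgesRangeI iota E 6 2326 112531 = true := by decide +kernel

set_option maxRecDepth 1000000 in
theorem edges_7_37 : edgesRangeI iota E 7 2403 99896 = true := by decide +kernel

set_option maxRecDepth 1000000 in
theorem edges_2_81 : edgesRangeI iota E 2 1308 197127 = true := by decide +kernel

set_option maxRecDepth 1000000 in
theorem edges_4_49 : edgesRangeI iota E 4 2347 176415 = true := by decide +kernel

set_option maxRecDepth 1000000 in
theorem edges_7_0 : edgesRangeI iota E 7 2938 0 = true := by decide +kernel

set_option maxRecDepth 1000000 in
theorem edges_2_17 : edgesRangeI iota E 2 2355 48338 = true := by decide +kernel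

set_option maxRecDepth 1000000 in
theorem edges_6_86 : edgesRangeI iota E 6 1170 194633 = true := by decide +kernel

set_option maxRecDepth 1000000 in
theorem edges_3_24 : edgesRangeI iota E 3 3350 79968 = true := by decide +kernel

set_option maxRecDepth 1000000 in
theorem edges_7_73 : edgesRangeI iota E 7 1584 185815 = true := by decide +kernel

set_option maxRecDepth 1000000 in
theorem edges_3_35 : edgesRangeI iota E 3 2724 111529 = true := by decide +kernel

set_option maxRecDepth 1000000 in
theorem edges_6_67 : edgesRangeI iota E 6 2337 166316 = true := by decide +kernel

set_option maxRecDepth 1000000 in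
theorem edges_2_35 : edgesRangeI iota E 2 2304 97663 = true := by decide +kernel

set_option maxRecDepth 1000000 in
theorem edges_5_35 : edgesRangeI iota E 5 2732 100711 = true := by decide +kernel

set_option maxRecDepth 1000000 in
theorem edges_6_100 : edgesRangeI iota E 6 843 208752 = true := by decide +kernel

set_option maxRecDepth 1000000 in
theorem edges_0_84 : edgesRangeI iota E 0 1710 201196 = true := by decide +kernel

set_option maxRecDepth 1000000 in
theorem edges_1_75 : edgesRangeI iota E 1 1485 200918 = true := by decide +kernel

set_option maxRecDepth 1000000 in
theorem edges_2_80 : edgesRangeI iota E 2 1356 195771 = true := by decide +kernel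

set_option maxRecDepth 1000000 in
theorem edges_3_80 : edgesRangeI iota E 3 1243 207854 = true := by decide +kernel

set_option maxRecDepth 1000000 in
theorem edges_5_51 : edgesRangeI iota E 5 2738 143917 = true := by decide +kernel

set_option maxRecDepth 1000000 in
theorem edges_7_17 : edgesRangeI iota E 7 2602 46301 = true := by decide +kernel

set_option maxRecDepth 1000000 in
theorem edges_0_39 : edgesRangeI iota E 0 2372 97823 = true := by decide +kernel

set_option maxRecDepth 1000000 in
theorem edges_1_0 : edgesRangeI iota E 1 3030 0 = true := by decide +kernel

set_option maxRecDepth 1000000 in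
theorem edges_2_54 : edgesRangeI iota E 2 2346 142755 = true := by decide +kernel

set_option maxRecDepth 1000000 in
theorem edges_3_16 : edgesRangeI iota E 3 3201 52850 = true := by decide +kernel

set_option maxRecDepth 1000000 in
theorem edges_4_58 : edgesRangeI iota E 4 1841 193963 = true := by decide +kernel

set_option maxRecDepth 1000000 in
theorem edges_6_13 : edgesRangeI iota E 6 3295 35950 = true := by decide +kernel

set_option maxRecDepth 1000000 in
theorem edges_7_76 : edgesRangeI iota E 7 1577 190559 = true := by decide +kernel

set_option maxRecDepth 1000000 in
theorem aliases_23 : aliasRange E 2809 72176 = true := by decide +kernel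

set_option maxRecDepth 1000000 in
theorem edges_0_8 : edgesRangeI iota E 0 2511 19940 = true := by decide +kernel

set_option maxRecDepth 1000000 in
theorem edges_1_60 : edgesRangeI iota E 1 2440 174991 = true := by decide +kernel

set_option maxRecDepth 1000000 in
theorem edges_2_59 : edgesRangeI iota E 2 2671 154929 = true := by decide +kernel

set_option maxRecDepth 1000000 in
theorem edges_4_25 : edgesRangeI iota E 4 3166 101073 = true := by decide +kernel

set_option maxRecDepth 1000000 in
theorem edges_4_57 : edgesRangeI iota E 4 1824 192139 = true := by decide +kernel

set_option maxRecDepth 1000000 in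
theorem edges_5_54 : edgesRangeI iota E 5 3243 152267 = true := by decide +kernel

set_option maxRecDepth 1000000 in
theorem edges_6_103 : edgesRangeI iota E 6 800 211433 = true := by decide +kernel

set_option maxRecDepth 1000000 in
theorem aliases_16 : aliasRange E 3075 51821 = true := by decide +kernel

set_option maxRecDepth 1000000 in
theorem aliases_53 : aliasRange E 2081 148352 = true := by decide +kernel

set_option maxRecDepth 1000000 in
theorem edges_0_15 : edgesRangeI iota E 0 2608 37197 = true := by decide +kernel

set_option maxRecDepth 1000000 in
theorem edges_0_52 : edgesRangeI iota E 0 2541 128850 = true := by decide +kernel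

set_option maxRecDepth 1000000 in
theorem edges_1_3 : edgesRangeI iota E 1 2865 9060 = true := by decide +kernel

set_option maxRecDepth 1000000 in
theorem edges_1_58 : edgesRangeI iota E 1 2684 169727 = true := by decide +kernel

set_option maxRecDepth 1000000 in
theorem edges_2_30 : edgesRangeI iota E 2 2486 84510 = true := by decide +kernel

set_option maxRecDepth 1000000 in
theorem edges_3_36 : edgesRangeI iota E 3 2564 114253 = true := by decide +kernel

set_option maxRecDepth 1000000 in
theorem edges_3_72 : edgesRangeI iota E 3 1463 196960 = true := by decide +kernel

set_option maxRecDepth 1000000 in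
theorem edges_4_65 : edgesRangeI iota E 4 1636 205918 = true := by decide +kernel

set_option maxRecDepth 1000000 in
theorem edges_5_39 : edgesRangeI iota E 5 2643 111063 = true := by decide +kernel

set_option maxRecDepth 1000000 in
theorem edges_5_69 : edgesRangeI iota E 5 1798 190113 = true := by decide +kernel

set_option maxRecDepth 1000000 in
theorem edges_6_60 : edgesRangeI iota E 6 2424 149431 = true := by decide +kernel

set_option maxRecDepth 1000000 in
theorem edges_7_50 : edgesRangeI iota E 7 2479 131493 = true := by decide +kernel

set_option maxRecDepth 1000000 in
theorem edges_7_86 : edgesRangeI iota E 7 1453 205550 = true := by decide +kernel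

set_option maxRecDepth 1000000 in
theorem aliases_32 : aliasRange E 2753 95409 = true := by decide +kernel

set_option maxRecDepth 1000000 in
theorem edges_0_6 : edgesRangeI iota E 0 2500 14962 = true := by decide +kernel

set_option maxRecDepth 1000000 in
theorem edges_0_53 : edgesRangeI iota E 0 2570 131391 = true := by decide +kernel

set_option maxRecDepth 1000000 in
theorem edges_0_87 : edgesRangeI iota E 0 1677 206296 = true := by decide +kernel

set_option maxRecDepth 1000000 in
theorem edges_1_59 : edgesRangeI iota E 1 2580 172411 = true := by decide +kernel

set_option maxRecDepth 1000000 in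
theorem edges_2_6 : edgesRangeI iota E 2 2768 17622 = true := by decide +kernel

set_option maxRecDepth 1000000 in
theorem edges_2_60 : edgesRangeI iota E 2 2583 157600 = true := by decide +kernel

set_option maxRecDepth 1000000 in
theorem edges_3_2 : edgesRangeI iota E 3 3560 7089 = true := by decide +kernel

set_option maxRecDepth 1000000 in
theorem edges_3_75 : edgesRangeI iota E 3 1396 201162 = true := by decide +kernel

set_option maxRecDepth 1000000 in
theorem edges_4_30 : edgesRangeI iota E 4 2901 116513 = true := by decide +kernel

set_option maxRecDepth 1000000 in
theorem edges_5_21 : edgesRangeI iota E 5 3206 59943 = true := by decide +kernel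

set_option maxRecDepth 1000000 in
theorem edges_5_60 : edgesRangeI iota E 5 2660 170571 = true := by decide +kernel

set_option maxRecDepth 1000000 in
theorem edges_6_10 : edgesRangeI iota E 6 2963 27712 = true := by decide +kernel

set_option maxRecDepth 1000000 in
theorem edges_6_105 : edgesRangeI iota E 6 815 213065 = true := by decide +kernel

set_option maxRecDepth 1000000 in
theorem edges_7_41 : edgesRangeI iota E 7 2480 109331 = true := by decide +kernel

set_option maxRecDepth 1000000 in
theorem aliases_22 : aliasRange E 2430 69746 = true := by decide +kernel

set_option maxRecDepth 1000000 in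
theorem edges_0_9 : edgesRangeI iota E 0 2432 22451 = true := by decide +kernel

set_option maxRecDepth 1000000 in
theorem edges_0_23 : edgesRangeI iota E 0 2388 56774 = true := by decide +kernel

set_option maxRecDepth 1000000 in
theorem edges_0_45 : edgesRangeI iota E 0 2379 111734 = true := by decide +kernel

set_option maxRecDepth 1000000 in
theorem edges_0_77 : edgesRangeI iota E 0 1761 188816 = true := by decide +kernel

set_option maxRecDepth 1000000 in
theorem edges_1_13 : edgesRangeI iota E 1 3039 39572 = true := by decide +kernel

set_option maxRecDepth 1000000 in
theorem edges_1_26 : edgesRangeI iota E 1 3418 80699 = true := by decide +kernel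

set_option maxRecDepth 1000000 in
theorem edges_1_46 : edgesRangeI iota E 1 2451 136266 = true := by decide +kernel

set_option maxRecDepth 1000000 in
theorem edges_2_2 : edgesRangeI iota E 2 3067 5824 = true := by decide +kernel

set_option maxRecDepth 1000000 in
theorem edges_2_29 : edgesRangeI iota E 2 2644 81866 = true := by decide +kernel

set_option maxRecDepth 1000000 in
theorem edges_2_46 : edgesRangeI iota E 2 2741 123426 = true := by decide +kernel

set_option maxRecDepth 1000000 in
theorem edges_3_5 : edgesRangeI iota E 3 3343 17134 = true := by decide +kernel

set_option maxRecDepth 1000000 in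
theorem edges_3_21 : edgesRangeI iota E 3 3135 69876 = true := by decide +kernel

set_option maxRecDepth 1000000 in
theorem edges_3_42 : edgesRangeI iota E 3 2542 130311 = true := by decide +kernel

set_option maxRecDepth 1000000 in
theorem edges_4_2 : edgesRangeI iota E 4 3877 8325 = true := by decide +kernel

set_option maxRecDepth 1000000 in
theorem edges_4_16 : edgesRangeI iota E 4 3862 65529 = true := by decide +kernel

set_option maxRecDepth 1000000 in
theorem edges_4_36 : edgesRangeI iota E 4 2925 134709 = true := by decide +kernel

set_option maxRecDepth 1000000 in
theorem edges_5_5 : edgesRangeI iota E 5 2893 14470 = true := by decide +kernel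

set_option maxRecDepth 1000000 in
theorem edges_5_26 : edgesRangeI iota E 5 3091 74712 = true := by decide +kernel

set_option maxRecDepth 1000000 in
theorem edges_5_47 : edgesRangeI iota E 5 2844 132759 = true := by decide +kernel

set_option maxRecDepth 1000000 in
theorem edges_6_5 : edgesRangeI iota E 6 2698 14296 = true := by decide +kernel

set_option maxRecDepth 1000000 in
theorem edges_6_29 : edgesRangeI iota E 6 3055 79475 = true := by decide +kernel

set_option maxRecDepth 1000000 in
theorem edges_6_49 : edgesRangeI iota E 6 2220 125735 = true := by decide +kernel

set_option maxRecDepth 1000000 in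
theorem edges_6_66 : edgesRangeI iota E 6 2328 163988 = true := by decide +kernel

set_option maxRecDepth 1000000 in
theorem edges_7_16 : edgesRangeI iota E 7 2640 43661 = true := by decide +kernel

set_option maxRecDepth 1000000 in
theorem edges_7_49 : edgesRangeI iota E 7 2564 128929 = true := by decide +kernel

set_option maxRecDepth 1000000 in
theorem edges_7_68 : edgesRangeI iota E 7 1748 177383 = true := by decide +kernel

set_option maxRecDepth 1000000 in
theorem aliases_9 : aliasRange E 3624 29484 = true := by decide +kernel

set_option maxRecDepth 1000000 in
theorem aliases_47 : aliasRange E 2491 133862 = true := by decide +kernel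

set_option maxRecDepth 1000000 in
theorem aliases_68 : aliasRange E 6747 183760 = true := by decide +kernel

set_option maxRecDepth 1000000 in
theorem rows_1 : rowsRange E RS 1500 1500 = true := by decide +kernel

set_option maxRecDepth 1000000 in
theorem rows_7 : rowsRange E RS 1500 10500 = true := by decide +kernel

set_option maxRecDepth 1000000 in
theorem rows_15 : rowsRange E RS 1500 22500 = true := by decide +kernel

set_option maxRecDepth 1000000 in
theorem rows_23 : rowsRange E RS 1500 34500 = true := by decide +kernel

set_option maxRecDepth 1000000 in
theorem rows_31 : rowsRange E RS 1500 46500 = true := by decide +kernel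

set_option maxRecDepth 1000000 in
theorem rows_39 : rowsRange E RS 1500 58500 = true := by decide +kernel

set_option maxRecDepth 1000000 in
theorem rows_47 : rowsRange E RS 1500 70500 = true := by decide +kernel

set_option maxRecDepth 1000000 in
theorem rows_55 : rowsRange E RS 1500 82500 = true := by decide +kernel

set_option maxRecDepth 1000000 in
theorem rows_63 : rowsRange E RS 1500 94500 = true := by decide +kernel

set_option maxRecDepth 1000000 in
theorem rows_71 : rowsRange E RS 1500 106500 = true := by decide +kernel

set_option maxRecDepth 1000000 in
theorem rows_79 : rowsRange E RS 1500 118500 = true := by decide +kernel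

set_option maxRecDepth 1000000 in
theorem rows_87 : rowsRange E RS 1500 130500 = true := by decide +kernel

set_option maxRecDepth 1000000 in
theorem rows_95 : rowsRange E RS 1500 142500 = true := by decide +kernel

set_option maxRecDepth 1000000 in
theorem rows_103 : rowsRange E RS 1500 154500 = true := by decide +kernel

set_option maxRecDepth 1000000 in
theorem rows_111 : rowsRange E RS 1500 166500 = true := by decide +kernel

set_option maxRecDepth 1000000 in
theorem rows_119 : rowsRange E RS 1500 178500 = true := by decide +kernel

set_option maxRecDepth 1000000 in
theorem rows_127 : rowsRange E RS 1500 190500 = true := by decide +kernel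

set_option maxRecDepth 1000000 in
theorem rows_135 : rowsRange E RS 1500 202500 = true := by decide +kernel

set_option maxRecDepth 1000000 in
theorem rows_142 : rowsRange E RS 962 213000 = true := by decide +kernel

end Cfsg.Agent.Helper5.ONTC
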