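import Cfsg.Agent.Helper5.ONTCDatD
import Cfsg.Agent.Helper5.TCIB

/-! kernel checks of edges, aliases, rows: ONTC -/

set_option autoImplicit false
set_option Elab.async false

namespace Cfsg.Agent.Helper5.ONTC
open Cfsg.Agent.Helper5.TC Cfsg.Agent.Helper5.TCI

set_option maxRecDepth 1000000 in
theorem cnt_2 : cntFrom RS 20000 40000 0 = 11277 := by decide +kernel

set_option maxRecDepth 1000000 in
theorem edges_6_33 : edgesRangeI iota E 6 2846 89978 = true := by decide +kernel

set_option maxRecDepth 1000000 in
theorem edges_6_87 : edgesRangeI iota E 6 991 195803 = true := by decide +kernel

set_option maxRecDepth 1000000 in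
theorem edges_6_32 : edgesRangeI iota E 6 2697 87281 = true := by decide +kernel

set_option maxRecDepth 1000000 in
theorem edges_7_21 : edgesRangeI iota E 7 2587 56943 = true := by decide +kernel

set_option maxRecDepth 1000000 in
theorem edges_2_64 : edgesRangeI iota E 2 2582 167512 = true := by decide +kernel

set_option maxRecDepth 1000000 in
theorem edges_4_9 : edgesRangeI iota E 4 4005 36783 = true := by decide +kernel

set_option maxRecDepth 1000000 in
theorem edges_6_98 : edgesRangeI iota E 6 893 206988 = true := by decide +kernel

set_option maxRecDepth 1000000 in
theorem edges_1_44 : edgesRangeI iota E 1 2668 130862 = true := by decide +kernel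

set_option maxRecDepth 1000000 in
theorem edges_6_81 : edgesRangeI iota E 6 1208 188851 = true := by decide +kernel

set_option maxRecDepth 1000000 in
theorem edges_2_48 : edgesRangeI iota E 2 2509 128610 = true := by decide +kernel

set_option maxRecDepth 1000000 in
theorem edges_7_3 : edgesRangeI iota E 7 2725 8625 = true := by decide +kernel

set_option maxRecDepth 1000000 in
theorem edges_2_57 : edgesRangeI iota E 2 2640 149666 = true := by decide +kernel

set_option maxRecDepth 1000000 in
theorem edges_5_37 : edgesRangeI iota E 5 2436 106035 = true := by decide +kernel

set_option maxRecDepth 1000000 in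
theorem edges_1_62 : edgesRangeI iota E 1 1772 179234 = true := by decide +kernel

set_option maxRecDepth 1000000 in
theorem edges_4_18 : edgesRangeI iota E 4 3989 73556 = true := by decide +kernel

set_option maxRecDepth 1000000 in
theorem edges_6_94 : edgesRangeI iota E 6 977 203071 = true := by decide +kernel

set_option maxRecDepth 1000000 in
theorem edges_0_60 : edgesRangeI iota E 0 2613 148670 = true := by decide +kernel

set_option maxRecDepth 1000000 in
theorem edges_1_52 : edgesRangeI iota E 1 2915 152217 = true := by decide +kernel

set_option maxRecDepth 1000000 in
theorem edges_2_62 : edgesRangeI iota E 2 2344 162609 = true := by decide +kernel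

set_option maxRecDepth 1000000 in
theorem edges_3_45 : edgesRangeI iota E 3 2485 137966 = true := by decide +kernel

set_option maxRecDepth 1000000 in
theorem edges_5_17 : edgesRangeI iota E 5 2782 48787 = true := by decide +kernel

set_option maxRecDepth 1000000 in
theorem edges_7_4 : edgesRangeI iota E 7 2576 11350 = true := by decide +kernel

set_option maxRecDepth 1000000 in
theorem edges_0_2 : edgesRangeI iota E 0 2551 5040 = true := by decide +kernel

set_option maxRecDepth 1000000 in
theorem edges_0_68 : edgesRangeI iota E 0 2344 170600 = true := by decide +kernel

set_option maxRecDepth 1000000 in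
theorem edges_2_11 : edgesRangeI iota E 2 2811 31659 = true := by decide +kernel

set_option maxRecDepth 1000000 in
theorem edges_3_12 : edgesRangeI iota E 3 3166 40150 = true := by decide +kernel

set_option maxRecDepth 1000000 in
theorem edges_4_37 : edgesRangeI iota E 4 2816 137634 = true := by decide +kernel

set_option maxRecDepth 1000000 in
theorem edges_5_80 : edgesRangeI iota E 5 1666 209313 = true := by decide +kernel

set_option maxRecDepth 1000000 in
theorem edges_7_34 : edgesRangeI iota E 7 2577 92476 = true := by decide +kernel

set_option maxRecDepth 1000000 in
theorem aliases_14 : aliasRange E 3036 45146 = true := by decide +kernel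

set_option maxRecDepth 1000000 in
theorem aliases_50 : aliasRange E 2254 141302 = true := by decide +kernel

set_option maxRecDepth 1000000 in
theorem edges_1_1 : edgesRangeI iota E 1 3005 3030 = true := by decide +kernel

set_option maxRecDepth 1000000 in
theorem edges_2_50 : edgesRangeI iota E 2 2191 133661 = true := by decide +kernel

set_option maxRecDepth 1000000 in
theorem edges_3_71 : edgesRangeI iota E 3 1420 195540 = true := by decide +kernel

set_option maxRecDepth 1000000 in
theorem edges_4_53 : edgesRangeI iota E 4 1914 184707 = true := by decide +kernel

set_option maxRecDepth 1000000 in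
theorem edges_5_31 : edgesRangeI iota E 5 2857 89634 = true := by decide +kernel

set_option maxRecDepth 1000000 in
theorem edges_6_64 : edgesRangeI iota E 6 2358 159126 = true := by decide +kernel

set_option maxRecDepth 1000000 in
theorem aliases_6 : aliasRange E 2898 19568 = true := by decide +kernel

set_option maxRecDepth 1000000 in
theorem aliases_46 : aliasRange E 2208 131654 = true := by decide +kernel

set_option maxRecDepth 1000000 in
theorem edges_0_5 : edgesRangeI iota E 0 2479 12483 = true := by decide +kernel

set_option maxRecDepth 1000000 in
theorem edges_0_41 : edgesRangeI iota E 0 2298 102639 = true := by decide +kernel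

set_option maxRecDepth 1000000 in
theorem edges_0_85 : edgesRangeI iota E 0 1720 202906 = true := by decide +kernel

set_option maxRecDepth 1000000 in
theorem edges_1_35 : edgesRangeI iota E 1 2676 106522 = true := by decide +kernel

set_option maxRecDepth 1000000 in
theorem edges_2_15 : edgesRangeI iota E 2 2957 42877 = true := by decide +kernel

set_option maxRecDepth 1000000 in
theorem edges_3_1 : edgesRangeI iota E 3 3618 3471 = true := by decide +kernel

set_option maxRecDepth 1000000 in
theorem edges_3_65 : edgesRangeI iota E 3 1588 186306 = true := by decide +kernel

set_option maxRecDepth 1000000 in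
theorem edges_4_52 : edgesRangeI iota E 4 1918 182789 = true := by decide +kernel

set_option maxRecDepth 1000000 in
theorem edges_5_25 : edgesRangeI iota E 5 2651 72061 = true := by decide +kernel

set_option maxRecDepth 1000000 in
theorem edges_5_63 : edgesRangeI iota E 5 2021 178657 = true := by decide +kernel

set_option maxRecDepth 1000000 in
theorem edges_6_27 : edgesRangeI iota E 6 2488 73866 = true := by decide +kernel

set_option maxRecDepth 1000000 in
theorem edges_7_46 : edgesRangeI iota E 7 2384 121486 = true := by decide +kernel

set_option maxRecDepth 1000000 in
theorem edges_7_77 : edgesRangeI iota E 7 1542 192136 = true := by decide +kernel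

set_option maxRecDepth 1000000 in
theorem aliases_20 : aliasRange E 3083 63717 = true := by decide +kernel

set_option maxRecDepth 1000000 in
theorem aliases_54 : aliasRange E 1945 150433 = true := by decide +kernel

set_option maxRecDepth 1000000 in
theorem edges_0_40 : edgesRangeI iota E 0 2444 100195 = true := by decide +kernel

set_option maxRecDepth 1000000 in
theorem edges_0_80 : edgesRangeI iota E 0 1815 194161 = true := by decide +kernel

set_option maxRecDepth 1000000 in
theorem edges_1_54 : edgesRangeI iota E 1 3006 158253 = true := by decide +kernel

set_option maxRecDepth 1000000 in
theorem edges_2_4 : edgesRangeI iota E 2 2886 11630 = true := by decide +kernel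

set_option maxRecDepth 1000000 in
theorem edges_2_42 : edgesRangeI iota E 2 2401 114154 = true := by decide +kernel

set_option maxRecDepth 1000000 in
theorem edges_3_0 : edgesRangeI iota E 3 3471 0 = true := by decide +kernel

set_option maxRecDepth 1000000 in
theorem edges_3_66 : edgesRangeI iota E 3 1567 187894 = true := by decide +kernel

set_option maxRecDepth 1000000 in
theorem edges_4_28 : edgesRangeI iota E 4 3124 110113 = true := by decide +kernel

set_option maxRecDepth 1000000 in
theorem edges_5_9 : edgesRangeI iota E 5 2751 25813 = true := by decide +kernel

set_option maxRecDepth 1000000 in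
theorem edges_5_53 : edgesRangeI iota E 5 3018 149249 = true := by decide +kernel

set_option maxRecDepth 1000000 in
theorem edges_6_3 : edgesRangeI iota E 6 2714 8869 = true := by decide +kernel

set_option maxRecDepth 1000000 in
theorem edges_6_75 : edgesRangeI iota E 6 1241 181557 = true := by decide +kernel

set_option maxRecDepth 1000000 in
theorem edges_7_33 : edgesRangeI iota E 7 2696 89780 = true := by decide +kernel

set_option maxRecDepth 1000000 in
theorem edges_7_88 : edgesRangeI iota E 7 1328 208392 = true := by decide +kernel

set_option maxRecDepth 1000000 in
theorem edges_0_1 : edgesRangeI iota E 0 2594 2446 = true := by decide +kernel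

set_option maxRecDepth 1000000 in
theorem edges_0_21 : edgesRangeI iota E 0 2214 51947 = true := by decide +kernel

set_option maxRecDepth 1000000 in
theorem edges_0_42 : edgesRangeI iota E 0 2209 104937 = true := by decide +kernel

set_option maxRecDepth 1000000 in
theorem edges_0_70 : edgesRangeI iota E 0 2285 175570 = true := by decide +kernel

set_option maxRecDepth 1000000 in
theorem edges_1_4 : edgesRangeI iota E 1 2944 11925 = true := by decide +kernel

set_option maxRecDepth 1000000 in
theorem edges_1_24 : edgesRangeI iota E 1 3327 73885 = true := by decide +kernel

set_option maxRecDepth 1000000 in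
theorem edges_1_40 : edgesRangeI iota E 1 2471 119933 = true := by decide +kernel

set_option maxRecDepth 1000000 in
theorem edges_1_67 : edgesRangeI iota E 1 1725 188041 = true := by decide +kernel

set_option maxRecDepth 1000000 in
theorem edges_2_26 : edgesRangeI iota E 2 2485 73092 = true := by decide +kernel

set_option maxRecDepth 1000000 in
theorem edges_2_41 : edgesRangeI iota E 2 2400 111754 = true := by decide +kernel

set_option maxRecDepth 1000000 in
theorem edges_2_72 : edgesRangeI iota E 2 1531 184096 = true := by decide +kernel

set_option maxRecDepth 1000000 in
theorem edges_3_17 : edgesRangeI iota E 3 3295 56051 = true := by decide +kernel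

set_option maxRecDepth 1000000 in
theorem edges_3_33 : edgesRangeI iota E 3 2706 105962 = true := by decide +kernel

set_option maxRecDepth 1000000 in
theorem edges_3_82 : edgesRangeI iota E 3 1175 210337 = true := by decide +kernel

set_option maxRecDepth 1000000 in
theorem edges_4_13 : edgesRangeI iota E 4 3981 52790 = true := by decide +kernel

set_option maxRecDepth 1000000 in
theorem edges_4_29 : edgesRangeI iota E 4 3276 113237 = true := by decide +kernel

set_option maxRecDepth 1000000 in
theorem edges_5_2 : edgesRangeI iota E 5 3071 5794 = true := by decide +kernel

set_option maxRecDepth 1000000 in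
theorem edges_5_18 : edgesRangeI iota E 5 2605 51569 = true := by decide +kernel

set_option maxRecDepth 1000000 in
theorem edges_5_44 : edgesRangeI iota E 5 3060 124116 = true := by decide +kernel

set_option maxRecDepth 1000000 in
theorem edges_6_0 : edgesRangeI iota E 6 3000 0 = true := by decide +kernel

set_option maxRecDepth 1000000 in
theorem edges_6_21 : edgesRangeI iota E 6 2611 57387 = true := by decide +kernel

set_option maxRecDepth 1000000 in
theorem edges_6_47 : edgesRangeI iota E 6 2085 121194 = true := by decide +kernel

set_option maxRecDepth 1000000 in
theorem edges_6_58 : edgesRangeI iota E 6 2041 145239 = true := by decide +kernel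

set_option maxRecDepth 1000000 in
theorem edges_7_9 : edgesRangeI iota E 7 2545 24847 = true := by decide +kernel

set_option maxRecDepth 1000000 in
theorem edges_7_40 : edgesRangeI iota E 7 2340 106991 = true := by decide +kernel

set_option maxRecDepth 1000000 in
theorem edges_7_66 : edgesRangeI iota E 7 2573 172416 = true := by decide +kernel

set_option maxRecDepth 1000000 in
theorem aliases_4 : aliasRange E 3214 13014 = true := by decide +kernel

set_option maxRecDepth 1000000 in
theorem aliases_40 : aliasRange E 2694 116412 = true := by decide +kernel

set_option maxRecDepth 1000000 in
theorem aliases_66 : aliasRange E 2513 175107 = true := by decide +kernel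

set_option maxRecDepth 1000000 in
theorem cnt_10 : cntFrom RS 13962 200000 0 = 13861 := by decide +kernel

set_option maxRecDepth 1000000 in
theorem rows_4 : rowsRange E RS 1500 6000 = true := by decide +kernel

set_option maxRecDepth 1000000 in
theorem rows_12 : rowsRange E RS 1500 18000 = true := by decide +kernel

set_option maxRecDepth 1000000 in
theorem rows_20 : rowsRange E RS 1500 30000 = true := by decide +kernel

set_option maxRecDepth 1000000 in
theorem rows_28 : rowsRange E RS 1500 42000 = true := by decide +kernel

set_option maxRecDepth 1000000 in
theorem rows_36 : rowsRange E RS 1500 54000 = true := by decide +kernel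

set_option maxRecDepth 1000000 in
theorem rows_44 : rowsRange E RS 1500 66000 = true := by decide +kernel

set_option maxRecDepth 1000000 in
theorem rows_52 : rowsRange E RS 1500 78000 = true := by decide +kernel

set_option maxRecDepth 1000000 in
theorem rows_60 : rowsRange E RS 1500 90000 = true := by decide +kernel

set_option maxRecDepth 1000000 in
theorem rows_68 : rowsRange E RS 1500 102000 = true := by decide +kernel

set_option maxRecDepth 1000000 in
theorem rows_76 : rowsRange E RS 1500 114000 = true := by decide +kernel

set_option maxRecDepth 1000000 in
theorem rows_84 : rowsRange E RS 1500 126000 = true := by decide +kernel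

set_option maxRecDepth 1000000 in
theorem rows_92 : rowsRange E RS 1500 138000 = true := by decide +kernel

set_option maxRecDepth 1000000 in
theorem rows_100 : rowsRange E RS 1500 150000 = true := by decide +kernel

set_option maxRecDepth 1000000 in
theorem rows_108 : rowsRange E RS 1500 162000 = true := by decide +kernel

set_option maxRecDepth 1000000 in
theorem rows_116 : rowsRange E RS 1500 174000 = true := by decide +kernel

set_option maxRecDepth 1000000 in
theorem rows_124 : rowsRange E RS 1500 186000 = true := by decide +kernel

set_option maxRecDepth 1000000 in
theorem rows_132 : rowsRange E RS 1500 198000 = true := by decide +kernel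

set_option maxRecDepth 1000000 in
theorem rows_140 : rowsRange E RS 1500 210000 = true := by decide +kernel

end Cfsg.Agent.Helper5.ONTC
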