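import Cfsg.Agent.Helper5.ONTCDatD
import Cfsg.Agent.Helper5.TCIB

/-! kernel checks of edges, aliases, rows: ONTC -/

set_option autoImplicit false
set_option Elab.async false

namespace Cfsg.Agent.Helper5.ONTC
open Cfsg.Agent.Helper5.TC Cfsg.Agent.Helper5.TCI

set_option maxRecDepth 1000000 in
theorem cnt_3 : cntFrom RS 20000 60000 0 = 9797 := by decide +kernel

set_option maxRecDepth 1000000 in
theorem edges_3_50 : edgesRangeI iota E 3 2996 150921 = true := by decide +kernel

set_option maxRecDepth 1000000 in
theorem edges_6_73 : edgesRangeI iota E 6 1339 178788 = true := by decide +kernel

set_option maxRecDepth 1000000 in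
theorem edges_6_23 : edgesRangeI iota E 6 2865 63241 = true := by decide +kernel

set_option maxRecDepth 1000000 in
theorem edges_6_92 : edgesRangeI iota E 6 1022 201032 = true := by decide +kernel

set_option maxRecDepth 1000000 in
theorem edges_2_55 : edgesRangeI iota E 2 2222 145101 = true := by decide +kernel

set_option maxRecDepth 1000000 in
theorem edges_3_84 : edgesRangeI iota E 3 1108 212675 = true := by decide +kernel

set_option maxRecDepth 1000000 in
theorem edges_6_97 : edgesRangeI iota E 6 977 206011 = true := by decide +kernel

set_option maxRecDepth 1000000 in
theorem edges_1_28 : edgesRangeI iota E 1 3036 87236 = true := by decide +kernel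

set_option maxRecDepth 1000000 in
theorem edges_6_80 : edgesRangeI iota E 6 1214 187637 = true := by decide +kernel

set_option maxRecDepth 1000000 in
theorem edges_1_64 : edgesRangeI iota E 1 1777 182909 = true := by decide +kernel

set_option maxRecDepth 1000000 in
theorem edges_6_24 : edgesRangeI iota E 6 2324 66106 = true := by decide +kernel

set_option maxRecDepth 1000000 in
theorem edges_1_47 : edgesRangeI iota E 1 2613 138717 = true := by decide +kernel

set_option maxRecDepth 1000000 in
theorem edges_3_79 : edgesRangeI iota E 3 1369 206485 = true := by decide +kernel

set_option maxRecDepth 1000000 in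
theorem aliases_21 : aliasRange E 2946 66800 = true := by decide +kernel

set_option maxRecDepth 1000000 in
theorem edges_3_70 : edgesRangeI iota E 3 1433 194107 = true := by decide +kernel

set_option maxRecDepth 1000000 in
theorem edges_6_69 : edgesRangeI iota E 6 2234 170963 = true := by decide +kernel

set_option maxRecDepth 1000000 in
theorem edges_0_49 : edgesRangeI iota E 0 2341 121327 = true := by decide +kernel

set_option maxRecDepth 1000000 in
theorem edges_1_41 : edgesRangeI iota E 1 2950 122404 = true := by decide +kernel

set_option maxRecDepth 1000000 in
theorem edges_2_21 : edgesRangeI iota E 2 3181 58783 = true := by decide +kernel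

set_option maxRecDepth 1000000 in
theorem edges_3_18 : edgesRangeI iota E 3 3773 59346 = true := by decide +kernel

set_option maxRecDepth 1000000 in
theorem edges_4_38 : edgesRangeI iota E 4 3140 140450 = true := by decide +kernel

set_option maxRecDepth 1000000 in
theorem edges_6_35 : edgesRangeI iota E 6 2137 95321 = true := by decide +kernel

set_option maxRecDepth 1000000 in
theorem edges_7_44 : edgesRangeI iota E 7 2290 116832 = true := by decide +kernel

set_option maxRecDepth 1000000 in
theorem edges_0_51 : edgesRangeI iota E 0 2476 126374 = true := by decide +kernel

set_option maxRecDepth 1000000 in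
theorem edges_1_77 : edgesRangeI iota E 1 1561 203912 = true := by decide +kernel

set_option maxRecDepth 1000000 in
theorem edges_2_85 : edgesRangeI iota E 2 1254 202384 = true := by decide +kernel

set_option maxRecDepth 1000000 in
theorem edges_3_60 : edgesRangeI iota E 3 1752 178138 = true := by decide +kernel

set_option maxRecDepth 1000000 in
theorem edges_5_55 : edgesRangeI iota E 5 2966 155510 = true := by decide +kernel

set_option maxRecDepth 1000000 in
theorem edges_6_26 : edgesRangeI iota E 6 2437 71429 = true := by decide +kernel

set_option maxRecDepth 1000000 in
theorem aliases_3 : aliasRange E 3321 9693 = true := by decide +kernel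

set_option maxRecDepth 1000000 in
theorem aliases_43 : aliasRange E 2417 124527 = true := by decide +kernel

set_option maxRecDepth 1000000 in
theorem edges_0_56 : edgesRangeI iota E 0 2461 138793 = true := by decide +kernel

set_option maxRecDepth 1000000 in
theorem edges_2_36 : edgesRangeI iota E 2 2330 99967 = true := by decide +kernel

set_option maxRecDepth 1000000 in
theorem edges_3_27 : edgesRangeI iota E 3 3345 89838 = true := by decide +kernel

set_option maxRecDepth 1000000 in
theorem edges_4_48 : edgesRangeI iota E 4 3257 173158 = true := by decide +kernel

set_option maxRecDepth 1000000 in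
theorem edges_5_8 : edgesRangeI iota E 5 2628 23185 = true := by decide +kernel

set_option maxRecDepth 1000000 in
theorem edges_5_71 : edgesRangeI iota E 5 1836 193742 = true := by decide +kernel

set_option maxRecDepth 1000000 in
theorem edges_7_20 : edgesRangeI iota E 7 2844 54099 = true := by decide +kernel

set_option maxRecDepth 1000000 in
theorem aliases_27 : aliasRange E 2486 82003 = true := by decide +kernel

set_option maxRecDepth 1000000 in
theorem aliases_65 : aliasRange E 2091 173016 = true := by decide +kernel

set_option maxRecDepth 1000000 in
theorem edges_0_34 : edgesRangeI iota E 0 2543 85404 = true := by decide +kernel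

set_option maxRecDepth 1000000 in
theorem edges_0_81 : edgesRangeI iota E 0 1771 195976 = true := by decide +kernel

set_option maxRecDepth 1000000 in
theorem edges_1_33 : edgesRangeI iota E 1 2519 101617 = true := by decide +kernel

set_option maxRecDepth 1000000 in
theorem edges_2_14 : edgesRangeI iota E 2 2553 40324 = true := by decide +kernel

set_option maxRecDepth 1000000 in
theorem edges_2_88 : edgesRangeI iota E 2 1177 206246 = true := by decide +kernel

set_option maxRecDepth 1000000 in
theorem edges_3_61 : edgesRangeI iota E 3 1502 179890 = true := by decide +kernel

set_option maxRecDepth 1000000 in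
theorem edges_4_44 : edgesRangeI iota E 4 3301 160226 = true := by decide +kernel

set_option maxRecDepth 1000000 in
theorem edges_5_20 : edgesRangeI iota E 5 2898 57045 = true := by decide +kernel

set_option maxRecDepth 1000000 in
theorem edges_5_62 : edgesRangeI iota E 5 2318 176339 = true := by decide +kernel

set_option maxRecDepth 1000000 in
theorem edges_6_25 : edgesRangeI iota E 6 2999 68430 = true := by decide +kernel

set_option maxRecDepth 1000000 in
theorem edges_7_38 : edgesRangeI iota E 7 2308 102299 = true := by decide +kernel

set_option maxRecDepth 1000000 in
theorem edges_7_75 : edgesRangeI iota E 7 1560 188999 = true := by decide +kernel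

set_option maxRecDepth 1000000 in
theorem aliases_18 : aliasRange E 3355 57510 = true := by decide +kernel

set_option maxRecDepth 1000000 in
theorem aliases_44 : aliasRange E 2447 126944 = true := by decide +kernel

set_option maxRecDepth 1000000 in
theorem edges_0_38 : edgesRangeI iota E 0 2374 95449 = true := by decide +kernel

set_option maxRecDepth 1000000 in
theorem edges_0_78 : edgesRangeI iota E 0 1798 190577 = true := by decide +kernel

set_option maxRecDepth 1000000 in
theorem edges_1_17 : edgesRangeI iota E 1 2935 51630 = true := by decide +kernel

set_option maxRecDepth 1000000 in
theorem edges_2_1 : edgesRangeI iota E 2 2984 2840 = true := by decide +kernel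

set_option maxRecDepth 1000000 in
theorem edges_2_24 : edgesRangeI iota E 2 2836 67555 = true := by decide +kernel

set_option maxRecDepth 1000000 in
theorem edges_2_89 : edgesRangeI iota E 2 1143 207423 = true := by decide +kernel

set_option maxRecDepth 1000000 in
theorem edges_3_47 : edgesRangeI iota E 3 2556 143147 = true := by decide +kernel

set_option maxRecDepth 1000000 in
theorem edges_4_24 : edgesRangeI iota E 4 3395 97678 = true := by decide +kernel

set_option maxRecDepth 1000000 in
theorem edges_5_7 : edgesRangeI iota E 5 2892 20293 = true := by decide +kernel

set_option maxRecDepth 1000000 in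
theorem edges_5_49 : edgesRangeI iota E 5 2682 138251 = true := by decide +kernel

set_option maxRecDepth 1000000 in
theorem edges_5_79 : edgesRangeI iota E 5 1643 207670 = true := by decide +kernel

set_option maxRecDepth 1000000 in
theorem edges_6_63 : edgesRangeI iota E 6 2476 156650 = true := by decide +kernel

set_option maxRecDepth 1000000 in
theorem edges_7_25 : edgesRangeI iota E 7 2861 67851 = true := by decide +kernel

set_option maxRecDepth 1000000 in
theorem edges_7_69 : edgesRangeI iota E 7 1670 179131 = true := by decide +kernel

set_option maxRecDepth 1000000 in
theorem aliases_60 : aliasRange E 1923 162300 = true := by decide +kernel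

set_option maxRecDepth 1000000 in
theorem edges_0_22 : edgesRangeI iota E 0 2613 54161 = true := by decide +kernel

set_option maxRecDepth 1000000 in
theorem edges_0_43 : edgesRangeI iota E 0 2219 107146 = true := by decide +kernel

set_option maxRecDepth 1000000 in
theorem edges_0_76 : edgesRangeI iota E 0 1785 187031 = true := by decide +kernel

set_option maxRecDepth 1000000 in
theorem edges_1_10 : edgesRangeI iota E 1 3108 29937 = true := by decide +kernel

set_option maxRecDepth 1000000 in
theorem edges_1_25 : edgesRangeI iota E 1 3487 77212 = true := by decide +kernel

set_option maxRecDepth 1000000 in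
theorem edges_1_45 : edgesRangeI iota E 1 2736 133530 = true := by decide +kernel

set_option maxRecDepth 1000000 in
theorem edges_1_73 : edgesRangeI iota E 1 1572 197829 = true := by decide +kernel

set_option maxRecDepth 1000000 in
theorem edges_2_28 : edgesRangeI iota E 2 3175 78691 = true := by decide +kernel

set_option maxRecDepth 1000000 in
theorem edges_2_45 : edgesRangeI iota E 2 2432 120994 = true := by decide +kernel

set_option maxRecDepth 1000000 in
theorem edges_2_77 : edgesRangeI iota E 2 1542 191395 = true := by decide +kernel

set_option maxRecDepth 1000000 in
theorem edges_3_20 : edgesRangeI iota E 3 3412 66464 = true := by decide +kernel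

set_option maxRecDepth 1000000 in
theorem edges_3_40 : edgesRangeI iota E 3 2778 124726 = true := by decide +kernel

set_option maxRecDepth 1000000 in
theorem edges_4_1 : edgesRangeI iota E 4 4246 4079 = true := by decide +kernel

set_option maxRecDepth 1000000 in
theorem edges_4_14 : edgesRangeI iota E 4 4243 56771 = true := by decide +kernel

set_option maxRecDepth 1000000 in
theorem edges_4_32 : edgesRangeI iota E 4 3354 122292 = true := by decide +kernel

set_option maxRecDepth 1000000 in
theorem edges_5_3 : edgesRangeI iota E 5 2755 8865 = true := by decide +kernel

set_option maxRecDepth 1000000 in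
theorem edges_5_24 : edgesRangeI iota E 5 3252 68809 = true := by decide +kernel

set_option maxRecDepth 1000000 in
theorem edges_5_45 : edgesRangeI iota E 5 2909 127176 = true := by decide +kernel

set_option maxRecDepth 1000000 in
theorem edges_6_2 : edgesRangeI iota E 6 2940 5929 = true := by decide +kernel

set_option maxRecDepth 1000000 in
theorem edges_6_22 : edgesRangeI iota E 6 3243 59998 = true := by decide +kernel

set_option maxRecDepth 1000000 in
theorem edges_6_48 : edgesRangeI iota E 6 2456 123279 = true := by decide +kernel

set_option maxRecDepth 1000000 in
theorem edges_6_61 : edgesRangeI iota E 6 2550 151855 = true := by decide +kernel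

set_option maxRecDepth 1000000 in
theorem edges_7_10 : edgesRangeI iota E 7 2737 27392 = true := by decide +kernel

set_option maxRecDepth 1000000 in
theorem edges_7_48 : edgesRangeI iota E 7 2455 126474 = true := by decide +kernel

set_option maxRecDepth 1000000 in
theorem edges_7_67 : edgesRangeI iota E 7 2394 174989 = true := by decide +kernel

set_option maxRecDepth 1000000 in
theorem aliases_8 : aliasRange E 3649 25835 = true := by decide +kernel

set_option maxRecDepth 1000000 in
theorem aliases_41 : aliasRange E 3069 119106 = true := by decide +kernel

set_option maxRecDepth 1000000 in
theorem aliases_67 : aliasRange E 6140 177620 = true := by decide +kernel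

set_option maxRecDepth 1000000 in
theorem rows_0 : rowsRange E RS 1500 0 = true := by decide +kernel

set_option maxRecDepth 1000000 in
theorem rows_3 : rowsRange E RS 1500 4500 = true := by decide +kernel

set_option maxRecDepth 1000000 in
theorem rows_11 : rowsRange E RS 1500 16500 = true := by decide +kernel

set_option maxRecDepth 1000000 in
theorem rows_19 : rowsRange E RS 1500 28500 = true := by decide +kernel

set_option maxRecDepth 1000000 in
theorem rows_27 : rowsRange E RS 1500 40500 = true := by decide +kernel

set_option maxRecDepth 1000000 in
theorem rows_35 : rowsRange E RS 1500 52500 = true := by decide +kernel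

set_option maxRecDepth 1000000 in
theorem rows_43 : rowsRange E RS 1500 64500 = true := by decide +kernel

set_option maxRecDepth 1000000 in
theorem rows_51 : rowsRange E RS 1500 76500 = true := by decide +kernel

set_option maxRecDepth 1000000 in
theorem rows_59 : rowsRange E RS 1500 88500 = true := by decide +kernel

set_option maxRecDepth 1000000 in
theorem rows_67 : rowsRange E RS 1500 100500 = true := by decide +kernel

set_option maxRecDepth 1000000 in
theorem rows_75 : rowsRange E RS 1500 112500 = true := by decide +kernel

set_option maxRecDepth 1000000 in
theorem rows_83 : rowsRange E RS 1500 124500 = true := by decide +kernel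

set_option maxRecDepth 1000000 in
theorem rows_91 : rowsRange E RS 1500 136500 = true := by decide +kernel

set_option maxRecDepth 1000000 in
theorem rows_99 : rowsRange E RS 1500 148500 = true := by decide +kernel

set_option maxRecDepth 1000000 in
theorem rows_107 : rowsRange E RS 1500 160500 = true := by decide +kernel

set_option maxRecDepth 1000000 in
theorem rows_115 : rowsRange E RS 1500 172500 = true := by decide +kernel

set_option maxRecDepth 1000000 in
theorem rows_123 : rowsRange E RS 1500 184500 = true := by decide +kernel

set_option maxRecDepth 1000000 in
theorem rows_131 : rowsRange E RS 1500 196500 = true := by decide +kernel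

set_option maxRecDepth 1000000 in
theorem rows_139 : rowsRange E RS 1500 208500 = true := by decide +kernel

end Cfsg.Agent.Helper5.ONTC
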