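import Cfsg.Agent.Helper5.ONTCDatD
import Cfsg.Agent.Helper5.TCIB

/-! kernel checks of edges, aliases, rows: ONTC -/

set_option autoImplicit false
set_option Elab.async false

namespace Cfsg.Agent.Helper5.ONTC
open Cfsg.Agent.Helper5.TC Cfsg.Agent.Helper5.TCI

set_option maxRecDepth 1000000 in
theorem cnt_4 : cntFrom RS 20000 80000 0 = 8908 := by decide +kernel

set_option maxRecDepth 1000000 in
theorem edges_2_47 : edgesRangeI iota E 2 2443 126167 = true := by decide +kernel

set_option maxRecDepth 1000000 in
theorem edges_6_68 : edgesRangeI iota E 6 2310 168653 = true := by decide +kernel

set_option maxRecDepth 1000000 in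
theorem edges_4_31 : edgesRangeI iota E 4 2878 119414 = true := by decide +kernel

set_option maxRecDepth 1000000 in
theorem edges_6_91 : edgesRangeI iota E 6 1037 199995 = true := by decide +kernel

set_option maxRecDepth 1000000 in
theorem edges_1_39 : edgesRangeI iota E 1 2515 117418 = true := by decide +kernel

set_option maxRecDepth 1000000 in
theorem edges_3_73 : edgesRangeI iota E 3 1348 198423 = true := by decide +kernel

set_option maxRecDepth 1000000 in
theorem edges_6_72 : edgesRangeI iota E 6 1373 177415 = true := by decide +kernel

set_option maxRecDepth 1000000 in
theorem edges_7_42 : edgesRangeI iota E 7 2463 111811 = true := by decide +kernel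

set_option maxRecDepth 1000000 in
theorem edges_6_37 : edgesRangeI iota E 6 2210 99602 = true := by decide +kernel

set_option maxRecDepth 1000000 in
theorem edges_7_11 : edgesRangeI iota E 7 2744 30129 = true := by decide +kernel

set_option maxRecDepth 1000000 in
theorem edges_6_39 : edgesRangeI iota E 6 2109 104027 = true := by decide +kernel

set_option maxRecDepth 1000000 in
theorem edges_1_57 : edgesRangeI iota E 1 2773 166954 = true := by decide +kernel

set_option maxRecDepth 1000000 in
theorem edges_4_0 : edgesRangeI iota E 4 4079 0 = true := by decide +kernel

set_option maxRecDepth 1000000 in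
theorem edges_1_36 : edgesRangeI iota E 1 2795 109198 = true := by decide +kernel

set_option maxRecDepth 1000000 in
theorem edges_2_56 : edgesRangeI iota E 2 2343 147323 = true := by decide +kernel

set_option maxRecDepth 1000000 in
theorem edges_6_6 : edgesRangeI iota E 6 2676 16994 = true := by decide +kernel

set_option maxRecDepth 1000000 in
theorem edges_7_45 : edgesRangeI iota E 7 2364 119122 = true := by decide +kernel

set_option maxRecDepth 1000000 in
theorem edges_1_42 : edgesRangeI iota E 1 2742 125354 = true := by decide +kernel

set_option maxRecDepth 1000000 in
theorem edges_2_40 : edgesRangeI iota E 2 2523 109231 = true := by decide +kernel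

set_option maxRecDepth 1000000 in
theorem edges_3_25 : edgesRangeI iota E 3 3085 83318 = true := by decide +kernel

set_option maxRecDepth 1000000 in
theorem edges_4_67 : edgesRangeI iota E 4 1469 209080 = true := by decide +kernel

set_option maxRecDepth 1000000 in
theorem edges_6_96 : edgesRangeI iota E 6 947 205064 = true := by decide +kernel

set_option maxRecDepth 1000000 in
theorem edges_7_87 : edgesRangeI iota E 7 1389 207003 = true := by decide +kernel

set_option maxRecDepth 1000000 in
theorem edges_0_54 : edgesRangeI iota E 0 2466 133961 = true := by decide +kernel

set_option maxRecDepth 1000000 in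
theorem edges_2_0 : edgesRangeI iota E 2 2840 0 = true := by decide +kernel

set_option maxRecDepth 1000000 in
theorem edges_2_91 : edgesRangeI iota E 2 1157 209655 = true := by decide +kernel

set_option maxRecDepth 1000000 in
theorem edges_3_62 : edgesRangeI iota E 3 1645 181392 = true := by decide +kernel

set_option maxRecDepth 1000000 in
theorem edges_5_59 : edgesRangeI iota E 5 2967 167604 = true := by decide +kernel

set_option maxRecDepth 1000000 in
theorem edges_6_76 : edgesRangeI iota E 6 1222 182798 = true := by decide +kernel

set_option maxRecDepth 1000000 in
theorem aliases_7 : aliasRange E 3369 22466 = true := by decide +kernel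

set_option maxRecDepth 1000000 in
theorem aliases_48 : aliasRange E 2653 136353 = true := by decide +kernel

set_option maxRecDepth 1000000 in
theorem edges_0_61 : edgesRangeI iota E 0 2825 151283 = true := by decide +kernel

set_option maxRecDepth 1000000 in
theorem edges_2_38 : edgesRangeI iota E 2 2246 104666 = true := by decide +kernel

set_option maxRecDepth 1000000 in
theorem edges_3_51 : edgesRangeI iota E 3 2947 153917 = true := by decide +kernel

set_option maxRecDepth 1000000 in
theorem edges_4_50 : edgesRangeI iota E 4 1965 178762 = true := by decide +kernel

set_option maxRecDepth 1000000 in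
theorem edges_5_22 : edgesRangeI iota E 5 2927 63149 = true := by decide +kernel

set_option maxRecDepth 1000000 in
theorem edges_6_17 : edgesRangeI iota E 6 2496 47051 = true := by decide +kernel

set_option maxRecDepth 1000000 in
theorem edges_7_35 : edgesRangeI iota E 7 2396 95053 = true := by decide +kernel

set_option maxRecDepth 1000000 in
theorem aliases_31 : aliasRange E 2786 92623 = true := by decide +kernel

set_option maxRecDepth 1000000 in
theorem edges_0_0 : edgesRangeI iota E 0 2446 0 = true := by decide +kernel

set_option maxRecDepth 1000000 in
theorem edges_0_17 : edgesRangeI iota E 0 2466 42221 = true := by decide +kernel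

set_option maxRecDepth 1000000 in
theorem edges_0_55 : edgesRangeI iota E 0 2366 136427 = true := by decide +kernel

set_option maxRecDepth 1000000 in
theorem edges_1_11 : edgesRangeI iota E 1 3034 33045 = true := by decide +kernel

set_option maxRecDepth 1000000 in
theorem edges_1_71 : edgesRangeI iota E 1 1619 194688 = true := by decide +kernel

set_option maxRecDepth 1000000 in
theorem edges_2_43 : edgesRangeI iota E 2 2123 116555 = true := by decide +kernel

set_option maxRecDepth 1000000 in
theorem edges_3_38 : edgesRangeI iota E 3 2600 119332 = true := by decide +kernel

set_option maxRecDepth 1000000 in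
theorem edges_3_76 : edgesRangeI iota E 3 1329 202558 = true := by decide +kernel

set_option maxRecDepth 1000000 in
theorem edges_5_1 : edgesRangeI iota E 5 2914 2880 = true := by decide +kernel

set_option maxRecDepth 1000000 in
theorem edges_5_46 : edgesRangeI iota E 5 2674 130085 = true := by decide +kernel

set_option maxRecDepth 1000000 in
theorem edges_5_70 : edgesRangeI iota E 5 1831 191911 = true := by decide +kernel

set_option maxRecDepth 1000000 in
theorem edges_7_8 : edgesRangeI iota E 7 2623 22224 = true := by decide +kernel

set_option maxRecDepth 1000000 in
theorem edges_7_55 : edgesRangeI iota E 7 2448 143577 = true := by decide +kernel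

set_option maxRecDepth 1000000 in
theorem edges_7_89 : edgesRangeI iota E 7 1369 209720 = true := by decide +kernel

set_option maxRecDepth 1000000 in
theorem aliases_34 : aliasRange E 2806 100886 = true := by decide +kernel

set_option maxRecDepth 1000000 in
theorem edges_0_7 : edgesRangeI iota E 0 2478 17462 = true := by decide +kernel

set_option maxRecDepth 1000000 in
theorem edges_0_66 : edgesRangeI iota E 0 2686 165332 = true := by decide +kernel

set_option maxRecDepth 1000000 in
theorem edges_1_5 : edgesRangeI iota E 1 3029 14869 = true := by decide +kernel

set_option maxRecDepth 1000000 in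
theorem edges_1_68 : edgesRangeI iota E 1 1611 189766 = true := by decide +kernel

set_option maxRecDepth 1000000 in
theorem edges_2_10 : edgesRangeI iota E 2 2963 28696 = true := by decide +kernel

set_option maxRecDepth 1000000 in
theorem edges_2_73 : edgesRangeI iota E 2 1464 185627 = true := by decide +kernel

set_option maxRecDepth 1000000 in
theorem edges_3_9 : edgesRangeI iota E 3 3353 30230 = true := by decide +kernel

set_option maxRecDepth 1000000 in
theorem edges_4_6 : edgesRangeI iota E 4 3855 24529 = true := by decide +kernel

set_option maxRecDepth 1000000 in
theorem edges_4_46 : edgesRangeI iota E 4 3302 166790 = true := by decide +kernel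

set_option maxRecDepth 1000000 in
theorem edges_5_29 : edgesRangeI iota E 5 2788 83930 = true := by decide +kernel

set_option maxRecDepth 1000000 in
theorem edges_5_72 : edgesRangeI iota E 5 1723 195578 = true := by decide +kernel

set_option maxRecDepth 1000000 in
theorem edges_6_18 : edgesRangeI iota E 6 2592 49547 = true := by decide +kernel

set_option maxRecDepth 1000000 in
theorem edges_7_6 : edgesRangeI iota E 7 2725 16696 = true := by decide +kernel

set_option maxRecDepth 1000000 in
theorem edges_7_57 : edgesRangeI iota E 7 2626 148342 = true := by decide +kernel

set_option maxRecDepth 1000000 in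
theorem aliases_33 : aliasRange E 2724 98162 = true := by decide +kernel

set_option maxRecDepth 1000000 in
theorem edges_0_11 : edgesRangeI iota E 0 2431 27114 = true := by decide +kernel

set_option maxRecDepth 1000000 in
theorem edges_0_29 : edgesRangeI iota E 0 2425 72201 = true := by decide +kernel

set_option maxRecDepth 1000000 in
theorem edges_0_50 : edgesRangeI iota E 0 2706 123668 = true := by decide +kernel

set_option maxRecDepth 1000000 in
theorem edges_0_82 : edgesRangeI iota E 0 1735 197747 = true := by decide +kernel

set_option maxRecDepth 1000000 in
theorem edges_1_18 : edgesRangeI iota E 1 3270 54565 = true := by decide +kernel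

set_option maxRecDepth 1000000 in
theorem edges_1_31 : edgesRangeI iota E 1 2764 96072 = true := by decide +kernel

set_option maxRecDepth 1000000 in
theorem edges_1_51 : edgesRangeI iota E 1 2975 149242 = true := by decide +kernel

set_option maxRecDepth 1000000 in
theorem edges_2_12 : edgesRangeI iota E 2 3104 34470 = true := by decide +kernel

set_option maxRecDepth 1000000 in
theorem edges_2_32 : edgesRangeI iota E 2 3016 89696 = true := by decide +kernel

set_option maxRecDepth 1000000 in
theorem edges_2_52 : edgesRangeI iota E 2 2241 138046 = true := by decide +kernel

set_option maxRecDepth 1000000 in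
theorem edges_3_7 : edgesRangeI iota E 3 2920 23976 = true := by decide +kernel

set_option maxRecDepth 1000000 in
theorem edges_3_23 : edgesRangeI iota E 3 3879 76089 = true := by decide +kernel

set_option maxRecDepth 1000000 in
theorem edges_3_53 : edgesRangeI iota E 3 2950 159841 = true := by decide +kernel

set_option maxRecDepth 1000000 in
theorem edges_4_4 : edgesRangeI iota E 4 4003 16511 = true := by decide +kernel

set_option maxRecDepth 1000000 in
theorem edges_4_20 : edgesRangeI iota E 4 4057 81919 = true := by decide +kernel

set_option maxRecDepth 1000000 in
theorem edges_4_42 : edgesRangeI iota E 4 3447 153221 = true := by decide +kernel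

set_option maxRecDepth 1000000 in
theorem edges_5_13 : edgesRangeI iota E 5 2881 37470 = true := by decide +kernel

set_option maxRecDepth 1000000 in
theorem edges_5_28 : edgesRangeI iota E 5 3023 80907 = true := by decide +kernel

set_option maxRecDepth 1000000 in
theorem edges_5_52 : edgesRangeI iota E 5 2594 146655 = true := by decide +kernel

set_option maxRecDepth 1000000 in
theorem edges_6_9 : edgesRangeI iota E 6 2463 25249 = true := by decide +kernel

set_option maxRecDepth 1000000 in
theorem edges_6_31 : edgesRangeI iota E 6 2382 84899 = true := by decide +kernel

set_option maxRecDepth 1000000 in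
theorem edges_6_53 : edgesRangeI iota E 6 2110 134864 = true := by decide +kernel

set_option maxRecDepth 1000000 in
theorem edges_6_77 : edgesRangeI iota E 6 1225 184020 = true := by decide +kernel

set_option maxRecDepth 1000000 in
theorem edges_7_24 : edgesRangeI iota E 7 2530 65321 = true := by decide +kernel

set_option maxRecDepth 1000000 in
theorem edges_7_53 : edgesRangeI iota E 7 2424 138591 = true := by decide +kernel

set_option maxRecDepth 1000000 in
theorem edges_7_74 : edgesRangeI iota E 7 1600 187399 = true := by decide +kernel

set_option maxRecDepth 1000000 in
theorem aliases_17 : aliasRange E 2614 54896 = true := by decide +kernel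

set_option maxRecDepth 1000000 in
theorem aliases_56 : aliasRange E 1943 154416 = true := by decide +kernel

set_option maxRecDepth 1000000 in
theorem aliases_70 : aliasRange E 7492 197625 = true := by decide +kernel

set_option maxRecDepth 1000000 in
theorem rows_9 : rowsRange E RS 1500 13500 = true := by decide +kernel

set_option maxRecDepth 1000000 in
theorem rows_17 : rowsRange E RS 1500 25500 = true := by decide +kernel

set_option maxRecDepth 1000000 in
theorem rows_25 : rowsRange E RS 1500 37500 = true := by decide +kernel

set_option maxRecDepth 1000000 in
theorem rows_33 : rowsRange E RS 1500 49500 = true := by decide +kernel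

set_option maxRecDepth 1000000 in
theorem rows_41 : rowsRange E RS 1500 61500 = true := by decide +kernel

set_option maxRecDepth 1000000 in
theorem rows_49 : rowsRange E RS 1500 73500 = true := by decide +kernel

set_option maxRecDepth 1000000 in
theorem rows_57 : rowsRange E RS 1500 85500 = true := by decide +kernel

set_option maxRecDepth 1000000 in
theorem rows_65 : rowsRange E RS 1500 97500 = true := by decide +kernel

set_option maxRecDepth 1000000 in
theorem rows_73 : rowsRange E RS 1500 109500 = true := by decide +kernel

set_option maxRecDepth 1000000 in
theorem rows_81 : rowsRange E RS 1500 121500 = true := by decide +kernel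

set_option maxRecDepth 1000000 in
theorem rows_89 : rowsRange E RS 1500 133500 = true := by decide +kernel

set_option maxRecDepth 1000000 in
theorem rows_97 : rowsRange E RS 1500 145500 = true := by decide +kernel

set_option maxRecDepth 1000000 in
theorem rows_105 : rowsRange E RS 1500 157500 = true := by decide +kernel

set_option maxRecDepth 1000000 in
theorem rows_113 : rowsRange E RS 1500 169500 = true := by decide +kernel

set_option maxRecDepth 1000000 in
theorem rows_121 : rowsRange E RS 1500 181500 = true := by decide +kernel

set_option maxRecDepth 1000000 in
theorem rows_129 : rowsRange E RS 1500 193500 = true := by decide +kernel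

set_option maxRecDepth 1000000 in
theorem rows_137 : rowsRange E RS 1500 205500 = true := by decide +kernel

set_option maxRecDepth 1000000 in
theorem edges_7_92 : edgesRangeI iota E 7 331 213631 = true := by decide +kernel

set_option maxRecDepth 1000000 in
theorem aliases_72 : aliasRange E 978 212984 = true := by decide +kernel

end Cfsg.Agent.Helper5.ONTC
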