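import Cfsg.Agent.Helper5.ONTCDatD
import Cfsg.Agent.Helper5.TCIB

/-! kernel checks of edges, aliases, rows: ONTC -/

set_option autoImplicit false
set_option Elab.async false

namespace Cfsg.Agent.Helper5.ONTC
open Cfsg.Agent.Helper5.TC Cfsg.Agent.Helper5.TCI

set_option maxRecDepth 1000000 in
theorem cnt_5 : cntFrom RS 20000 100000 0 = 9801 := by decide +kernel

set_option maxRecDepth 1000000 in
theorem edges_3_41 : edgesRangeI iota E 3 2807 127504 = true := by decide +kernel

set_option maxRecDepth 1000000 in
theorem edges_4_41 : edgesRangeI iota E 4 3451 149770 = true := by decide +kernel

set_option maxRecDepth 1000000 in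
theorem edges_2_79 : edgesRangeI iota E 2 1430 194341 = true := by decide +kernel

set_option maxRecDepth 1000000 in
theorem edges_6_70 : edgesRangeI iota E 6 2441 173197 = true := by decide +kernel

set_option maxRecDepth 1000000 in
theorem edges_7_83 : edgesRangeI iota E 7 1455 201196 = true := by decide +kernel

set_option maxRecDepth 1000000 in
theorem edges_3_83 : edgesRangeI iota E 3 1163 211512 = true := by decide +kernel

set_option maxRecDepth 1000000 in
theorem edges_6_83 : edgesRangeI iota E 6 1200 191191 = true := by decide +kernel

set_option maxRecDepth 1000000 in
theorem edges_7_43 : edgesRangeI iota E 7 2558 114274 = true := by decide +kernel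

set_option maxRecDepth 1000000 in
theorem edges_6_74 : edgesRangeI iota E 6 1430 180127 = true := by decide +kernel

set_option maxRecDepth 1000000 in
theorem edges_7_85 : edgesRangeI iota E 7 1484 204066 = true := by decide +kernel

set_option maxRecDepth 1000000 in
theorem edges_6_85 : edgesRangeI iota E 6 1099 193534 = true := by decide +kernel

set_option maxRecDepth 1000000 in
theorem edges_1_65 : edgesRangeI iota E 1 1695 184686 = true := by decide +kernel

set_option maxRecDepth 1000000 in
theorem edges_4_26 : edgesRangeI iota E 4 3029 104239 = true := by decide +kernel

set_option maxRecDepth 1000000 in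
theorem edges_1_53 : edgesRangeI iota E 1 3121 155132 = true := by decide +kernel

set_option maxRecDepth 1000000 in
theorem edges_2_70 : edgesRangeI iota E 2 1662 180819 = true := by decide +kernel

set_option maxRecDepth 1000000 in
theorem edges_6_36 : edgesRangeI iota E 6 2144 97458 = true := by decide +kernel

set_option maxRecDepth 1000000 in
theorem edges_7_78 : edgesRangeI iota E 7 1557 193678 = true := by decide +kernel

set_option maxRecDepth 1000000 in
theorem edges_1_43 : edgesRangeI iota E 1 2766 128096 = true := by decide +kernel

set_option maxRecDepth 1000000 in
theorem edges_2_51 : edgesRangeI iota E 2 2194 135852 = true := by decide +kernel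

set_option maxRecDepth 1000000 in
theorem edges_3_28 : edgesRangeI iota E 3 2731 93183 = true := by decide +kernel

set_option maxRecDepth 1000000 in
theorem edges_5_10 : edgesRangeI iota E 5 2990 28564 = true := by decide +kernel

set_option maxRecDepth 1000000 in
theorem edges_6_101 : edgesRangeI iota E 6 947 209595 = true := by decide +kernel

set_option maxRecDepth 1000000 in
theorem aliases_11 : aliasRange E 2597 36456 = true := by decide +kernel

set_option maxRecDepth 1000000 in
theorem edges_0_65 : edgesRangeI iota E 0 2623 162709 = true := by decide +kernel

set_option maxRecDepth 1000000 in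
theorem edges_2_8 : edgesRangeI iota E 2 2601 23399 = true := by decide +kernel

set_option maxRecDepth 1000000 in
theorem edges_2_92 : edgesRangeI iota E 2 1111 210812 = true := by decide +kernel

set_option maxRecDepth 1000000 in
theorem edges_3_74 : edgesRangeI iota E 3 1391 199771 = true := by decide +kernel

set_option maxRecDepth 1000000 in
theorem edges_5_78 : edgesRangeI iota E 5 1707 205963 = true := by decide +kernel

set_option maxRecDepth 1000000 in
theorem edges_6_90 : edgesRangeI iota E 6 1056 198939 = true := by decide +kernel

set_option maxRecDepth 1000000 in
theorem aliases_13 : aliasRange E 3131 42015 = true := by decide +kernel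

set_option maxRecDepth 1000000 in
theorem aliases_49 : aliasRange E 2296 139006 = true := by decide +kernel

set_option maxRecDepth 1000000 in
theorem edges_0_67 : edgesRangeI iota E 0 2582 168018 = true := by decide +kernel

set_option maxRecDepth 1000000 in
theorem edges_2_44 : edgesRangeI iota E 2 2316 118678 = true := by decide +kernel

set_option maxRecDepth 1000000 in
theorem edges_3_59 : edgesRangeI iota E 3 2147 175991 = true := by decide +kernel

set_option maxRecDepth 1000000 in
theorem edges_4_51 : edgesRangeI iota E 4 2062 180727 = true := by decide +kernel

set_option maxRecDepth 1000000 in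
theorem edges_5_30 : edgesRangeI iota E 5 2916 86718 = true := by decide +kernel

set_option maxRecDepth 1000000 in
theorem edges_6_41 : edgesRangeI iota E 6 2113 108372 = true := by decide +kernel

set_option maxRecDepth 1000000 in
theorem edges_7_52 : edgesRangeI iota E 7 2207 136384 = true := by decide +kernel

set_option maxRecDepth 1000000 in
theorem aliases_45 : aliasRange E 2263 129391 = true := by decide +kernel

set_option maxRecDepth 1000000 in
theorem edges_0_3 : edgesRangeI iota E 0 2513 7591 = true := by decide +kernel

set_option maxRecDepth 1000000 in
theorem edges_0_19 : edgesRangeI iota E 0 2422 47163 = true := by decide +kernel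

set_option maxRecDepth 1000000 in
theorem edges_0_58 : edgesRangeI iota E 0 2461 143825 = true := by decide +kernel

set_option maxRecDepth 1000000 in
theorem edges_1_20 : edgesRangeI iota E 1 3330 60936 = true := by decide +kernel

set_option maxRecDepth 1000000 in
theorem edges_1_78 : edgesRangeI iota E 1 1499 205473 = true := by decide +kernel

set_option maxRecDepth 1000000 in
theorem edges_2_69 : edgesRangeI iota E 2 1615 179204 = true := by decide +kernel

set_option maxRecDepth 1000000 in
theorem edges_3_46 : edgesRangeI iota E 3 2696 140451 = true := by decide +kernel

set_option maxRecDepth 1000000 in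
theorem edges_3_77 : edgesRangeI iota E 3 1289 203887 = true := by decide +kernel

set_option maxRecDepth 1000000 in
theorem edges_5_4 : edgesRangeI iota E 5 2850 11620 = true := by decide +kernel

set_option maxRecDepth 1000000 in
theorem edges_5_50 : edgesRangeI iota E 5 2984 140933 = true := by decide +kernel

set_option maxRecDepth 1000000 in
theorem edges_5_81 : edgesRangeI iota E 5 1560 210979 = true := by decide +kernel

set_option maxRecDepth 1000000 in
theorem edges_7_29 : edgesRangeI iota E 7 2856 78767 = true := by decide +kernel

set_option maxRecDepth 1000000 in
theorem edges_7_59 : edgesRangeI iota E 7 2685 153826 = true := by decide +kernel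

set_option maxRecDepth 1000000 in
theorem edges_7_90 : edgesRangeI iota E 7 1299 211089 = true := by decide +kernel

set_option maxRecDepth 1000000 in
theorem aliases_35 : aliasRange E 3050 103692 = true := by decide +kernel

set_option maxRecDepth 1000000 in
theorem edges_0_16 : edgesRangeI iota E 0 2416 39805 = true := by decide +kernel

set_option maxRecDepth 1000000 in
theorem edges_0_71 : edgesRangeI iota E 0 1861 177855 = true := by decide +kernel

set_option maxRecDepth 1000000 in
theorem edges_1_8 : edgesRangeI iota E 1 2600 24220 = true := by decide +kernel

set_option maxRecDepth 1000000 in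
theorem edges_1_70 : edgesRangeI iota E 1 1620 193068 = true := by decide +kernel

set_option maxRecDepth 1000000 in
theorem edges_2_20 : edgesRangeI iota E 2 2369 56414 = true := by decide +kernel

set_option maxRecDepth 1000000 in
theorem edges_2_74 : edgesRangeI iota E 2 1380 187091 = true := by decide +kernel

set_option maxRecDepth 1000000 in
theorem edges_3_31 : edgesRangeI iota E 3 2606 100903 = true := by decide +kernel

set_option maxRecDepth 1000000 in
theorem edges_4_15 : edgesRangeI iota E 4 4515 61014 = true := by decide +kernel

set_option maxRecDepth 1000000 in
theorem edges_4_54 : edgesRangeI iota E 4 1771 186621 = true := by decide +kernel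

set_option maxRecDepth 1000000 in
theorem edges_5_34 : edgesRangeI iota E 5 2682 98029 = true := by decide +kernel

set_option maxRecDepth 1000000 in
theorem edges_5_74 : edgesRangeI iota E 5 1725 199122 = true := by decide +kernel

set_option maxRecDepth 1000000 in
theorem edges_6_42 : edgesRangeI iota E 6 2046 110485 = true := by decide +kernel

set_option maxRecDepth 1000000 in
theorem edges_7_13 : edgesRangeI iota E 7 3080 35493 = true := by decide +kernel

set_option maxRecDepth 1000000 in
theorem edges_7_60 : edgesRangeI iota E 7 2759 156511 = true := by decide +kernel

set_option maxRecDepth 1000000 in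
theorem aliases_36 : aliasRange E 2646 106742 = true := by decide +kernel

set_option maxRecDepth 1000000 in
theorem edges_0_12 : edgesRangeI iota E 0 2573 29545 = true := by decide +kernel

set_option maxRecDepth 1000000 in
theorem edges_0_30 : edgesRangeI iota E 0 2619 74626 = true := by decide +kernel

set_option maxRecDepth 1000000 in
theorem edges_0_57 : edgesRangeI iota E 0 2571 141254 = true := by decide +kernel

set_option maxRecDepth 1000000 in
theorem edges_0_83 : edgesRangeI iota E 0 1714 199482 = true := by decide +kernel

set_option maxRecDepth 1000000 in
theorem edges_1_19 : edgesRangeI iota E 1 3101 57835 = true := by decide +kernel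

set_option maxRecDepth 1000000 in
theorem edges_1_32 : edgesRangeI iota E 1 2781 98836 = true := by decide +kernel

set_option maxRecDepth 1000000 in
theorem edges_1_56 : edgesRangeI iota E 1 2806 164148 = true := by decide +kernel

set_option maxRecDepth 1000000 in
theorem edges_2_13 : edgesRangeI iota E 2 2750 37574 = true := by decide +kernel

set_option maxRecDepth 1000000 in
theorem edges_2_34 : edgesRangeI iota E 2 2374 95289 = true := by decide +kernel

set_option maxRecDepth 1000000 in
theorem edges_2_58 : edgesRangeI iota E 2 2623 152306 = true := by decide +kernel

set_option maxRecDepth 1000000 in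
theorem edges_3_10 : edgesRangeI iota E 3 3000 33583 = true := by decide +kernel

set_option maxRecDepth 1000000 in
theorem edges_3_26 : edgesRangeI iota E 3 3435 86403 = true := by decide +kernel

set_option maxRecDepth 1000000 in
theorem edges_3_54 : edgesRangeI iota E 3 2741 162791 = true := by decide +kernel

set_option maxRecDepth 1000000 in
theorem edges_4_5 : edgesRangeI iota E 4 4015 20514 = true := by decide +kernel

set_option maxRecDepth 1000000 in
theorem edges_4_21 : edgesRangeI iota E 4 4234 85976 = true := by decide +kernel

set_option maxRecDepth 1000000 in
theorem edges_4_43 : edgesRangeI iota E 4 3558 156668 = true := by decide +kernel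

set_option maxRecDepth 1000000 in
theorem edges_5_14 : edgesRangeI iota E 5 2792 40351 = true := by decide +kernel

set_option maxRecDepth 1000000 in
theorem edges_5_32 : edgesRangeI iota E 5 2926 92491 = true := by decide +kernel

set_option maxRecDepth 1000000 in
theorem edges_5_56 : edgesRangeI iota E 5 3176 158476 = true := by decide +kernel

set_option maxRecDepth 1000000 in
theorem edges_6_12 : edgesRangeI iota E 6 2602 33348 = true := by decide +kernel

set_option maxRecDepth 1000000 in
theorem edges_6_38 : edgesRangeI iota E 6 2215 101812 = true := by decide +kernel

set_option maxRecDepth 1000000 in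
theorem edges_6_54 : edgesRangeI iota E 6 1945 136974 = true := by decide +kernel

set_option maxRecDepth 1000000 in
theorem edges_6_78 : edgesRangeI iota E 6 1231 185245 = true := by decide +kernel

set_option maxRecDepth 1000000 in
theorem edges_7_27 : edgesRangeI iota E 7 2471 73416 = true := by decide +kernel

set_option maxRecDepth 1000000 in
theorem edges_7_56 : edgesRangeI iota E 7 2317 146025 = true := by decide +kernel

set_option maxRecDepth 1000000 in
theorem edges_7_82 : edgesRangeI iota E 7 1449 199747 = true := by decide +kernel

set_option maxRecDepth 1000000 in
theorem aliases_30 : aliasRange E 2785 89838 = true := by decide +kernel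

set_option maxRecDepth 1000000 in
theorem aliases_58 : aliasRange E 1876 158398 = true := by decide +kernel

set_option maxRecDepth 1000000 in
theorem aliases_71 : aliasRange E 7867 205117 = true := by decide +kernel

set_option maxRecDepth 1000000 in
theorem rows_10 : rowsRange E RS 1500 15000 = true := by decide +kernel

set_option maxRecDepth 1000000 in
theorem rows_18 : rowsRange E RS 1500 27000 = true := by decide +kernel

set_option maxRecDepth 1000000 in
theorem rows_26 : rowsRange E RS 1500 39000 = true := by decide +kernel

set_option maxRecDepth 1000000 in
theorem rows_34 : rowsRange E RS 1500 51000 = true := by decide +kernel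

set_option maxRecDepth 1000000 in
theorem rows_42 : rowsRange E RS 1500 63000 = true := by decide +kernel

set_option maxRecDepth 1000000 in
theorem rows_50 : rowsRange E RS 1500 75000 = true := by decide +kernel

set_option maxRecDepth 1000000 in
theorem rows_58 : rowsRange E RS 1500 87000 = true := by decide +kernel

set_option maxRecDepth 1000000 in
theorem rows_66 : rowsRange E RS 1500 99000 = true := by decide +kernel

set_option maxRecDepth 1000000 in
theorem rows_74 : rowsRange E RS 1500 111000 = true := by decide +kernel

set_option maxRecDepth 1000000 in
theorem rows_82 : rowsRange E RS 1500 123000 = true := by decide +kernel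

set_option maxRecDepth 1000000 in
theorem rows_90 : rowsRange E RS 1500 135000 = true := by decide +kernel

set_option maxRecDepth 1000000 in
theorem rows_98 : rowsRange E RS 1500 147000 = true := by decide +kernel

set_option maxRecDepth 1000000 in
theorem rows_106 : rowsRange E RS 1500 159000 = true := by decide +kernel

set_option maxRecDepth 1000000 in
theorem rows_114 : rowsRange E RS 1500 171000 = true := by decide +kernel

set_option maxRecDepth 1000000 in
theorem rows_122 : rowsRange E RS 1500 183000 = true := by decide +kernel

set_option maxRecDepth 1000000 in
theorem rows_130 : rowsRange E RS 1500 195000 = true := by decide +kernel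

set_option maxRecDepth 1000000 in
theorem rows_138 : rowsRange E RS 1500 207000 = true := by decide +kernel

set_option maxRecDepth 1000000 in
theorem edges_1_84 : edgesRangeI iota E 1 264 213698 = true := by decide +kernel

set_option maxRecDepth 1000000 in
theorem edges_3_85 : edgesRangeI iota E 3 179 213783 = true := by decide +kernel

set_option maxRecDepth 1000000 in
theorem edges_6_106 : edgesRangeI iota E 6 82 213880 = true := by decide +kernel

end Cfsg.Agent.Helper5.ONTC
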