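import Cfsg.Agent.Helper5.ONTCDatD
import Cfsg.Agent.Helper5.TCIB

/-! kernel checks of edges, aliases, rows: ONTC -/

set_option autoImplicit false
set_option Elab.async false

namespace Cfsg.Agent.Helper5.ONTC
open Cfsg.Agent.Helper5.TC Cfsg.Agent.Helper5.TCI

set_option maxRecDepth 1000000 in
theorem cnt_6 : cntFrom RS 20000 120000 0 = 9546 := by decide +kernel

set_option maxRecDepth 1000000 in
theorem edges_6_99 : edgesRangeI iota E 6 871 207881 = true := by decide +kernel

set_option maxRecDepth 1000000 in
theorem edges_6_8 : edgesRangeI iota E 6 2584 22665 = true := by decide +kernel

set_option maxRecDepth 1000000 in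
theorem edges_2_90 : edgesRangeI iota E 2 1089 208566 = true := by decide +kernel

set_option maxRecDepth 1000000 in
theorem edges_6_88 : edgesRangeI iota E 6 1065 196794 = true := by decide +kernel

set_option maxRecDepth 1000000 in
theorem edges_1_14 : edgesRangeI iota E 1 2985 42611 = true := by decide +kernel

set_option maxRecDepth 1000000 in
theorem edges_3_39 : edgesRangeI iota E 3 2794 121932 = true := by decide +kernel

set_option maxRecDepth 1000000 in
theorem edges_6_51 : edgesRangeI iota E 6 2190 130406 = true := by decide +kernel

set_option maxRecDepth 1000000 in
theorem edges_7_15 : edgesRangeI iota E 7 2549 41112 = true := by decide +kernel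

set_option maxRecDepth 1000000 in
theorem edges_4_66 : edgesRangeI iota E 4 1526 207554 = true := by decide +kernel

set_option maxRecDepth 1000000 in
theorem edges_6_102 : edgesRangeI iota E 6 891 210542 = true := by decide +kernel

set_option maxRecDepth 1000000 in
theorem edges_3_48 : edgesRangeI iota E 3 2635 145703 = true := by decide +kernel

set_option maxRecDepth 1000000 in
theorem edges_1_15 : edgesRangeI iota E 1 3122 45596 = true := by decide +kernel

set_option maxRecDepth 1000000 in
theorem edges_3_43 : edgesRangeI iota E 3 2638 132853 = true := by decide +kernel

set_option maxRecDepth 1000000 in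
theorem edges_6_93 : edgesRangeI iota E 6 1017 202054 = true := by decide +kernel

set_option maxRecDepth 1000000 in
theorem edges_3_63 : edgesRangeI iota E 3 1644 183037 = true := by decide +kernel

set_option maxRecDepth 1000000 in
theorem edges_6_45 : edgesRangeI iota E 6 2019 117042 = true := by decide +kernel

set_option maxRecDepth 1000000 in
theorem edges_0_27 : edgesRangeI iota E 0 2449 67021 = true := by decide +kernel

set_option maxRecDepth 1000000 in
theorem edges_0_90 : edgesRangeI iota E 0 1616 211290 = true := by decide +kernel

set_option maxRecDepth 1000000 in
theorem edges_1_76 : edgesRangeI iota E 1 1509 202403 = true := by decide +kernel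

set_option maxRecDepth 1000000 in
theorem edges_2_82 : edgesRangeI iota E 2 1307 198435 = true := by decide +kernel

set_option maxRecDepth 1000000 in
theorem edges_4_11 : edgesRangeI iota E 4 3916 44851 = true := by decide +kernel

set_option maxRecDepth 1000000 in
theorem edges_5_65 : edgesRangeI iota E 5 1940 182654 = true := by decide +kernel

set_option maxRecDepth 1000000 in
theorem edges_7_19 : edgesRangeI iota E 7 2537 51562 = true := by decide +kernel

set_option maxRecDepth 1000000 in
theorem edges_0_44 : edgesRangeI iota E 0 2369 109365 = true := by decide +kernel

set_option maxRecDepth 1000000 in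
theorem edges_1_50 : edgesRangeI iota E 1 2578 146664 = true := by decide +kernel

set_option maxRecDepth 1000000 in
theorem edges_2_61 : edgesRangeI iota E 2 2426 160183 = true := by decide +kernel

set_option maxRecDepth 1000000 in
theorem edges_3_37 : edgesRangeI iota E 3 2515 116817 = true := by decide +kernel

set_option maxRecDepth 1000000 in
theorem edges_4_59 : edgesRangeI iota E 4 1660 195804 = true := by decide +kernel

set_option maxRecDepth 1000000 in
theorem edges_6_15 : edgesRangeI iota E 6 2595 41729 = true := by decide +kernel

set_option maxRecDepth 1000000 in
theorem edges_7_84 : edgesRangeI iota E 7 1415 202651 = true := by decide +kernel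

set_option maxRecDepth 1000000 in
theorem aliases_25 : aliasRange E 2258 77391 = true := by decide +kernel

set_option maxRecDepth 1000000 in
theorem edges_0_18 : edgesRangeI iota E 0 2476 44687 = true := by decide +kernel

set_option maxRecDepth 1000000 in
theorem edges_1_74 : edgesRangeI iota E 1 1517 199401 = true := by decide +kernel

set_option maxRecDepth 1000000 in
theorem edges_2_93 : edgesRangeI iota E 2 1083 211923 = true := by decide +kernel

set_option maxRecDepth 1000000 in
theorem edges_4_35 : edgesRangeI iota E 4 2954 131755 = true := by decide +kernel

set_option maxRecDepth 1000000 in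
theorem edges_4_63 : edgesRangeI iota E 4 1668 202624 = true := by decide +kernel

set_option maxRecDepth 1000000 in
theorem edges_5_64 : edgesRangeI iota E 5 1976 180678 = true := by decide +kernel

set_option maxRecDepth 1000000 in
theorem edges_7_1 : edgesRangeI iota E 7 2884 2938 = true := by decide +kernel

set_option maxRecDepth 1000000 in
theorem aliases_19 : aliasRange E 2852 60865 = true := by decide +kernel

set_option maxRecDepth 1000000 in
theorem aliases_57 : aliasRange E 2039 156359 = true := by decide +kernel

set_option maxRecDepth 1000000 in
theorem edges_0_32 : edgesRangeI iota E 0 2767 80095 = true := by decide +kernel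

set_option maxRecDepth 1000000 in
theorem edges_0_63 : edgesRangeI iota E 0 2949 156985 = true := by decide +kernel

set_option maxRecDepth 1000000 in
theorem edges_1_22 : edgesRangeI iota E 1 3193 67546 = true := by decide +kernel

set_option maxRecDepth 1000000 in
theorem edges_2_3 : edgesRangeI iota E 2 2739 8891 = true := by decide +kernel

set_option maxRecDepth 1000000 in
theorem edges_2_83 : edgesRangeI iota E 2 1336 199742 = true := by decide +kernel

set_option maxRecDepth 1000000 in
theorem edges_3_56 : edgesRangeI iota E 3 2542 168237 = true := by decide +kernel

set_option maxRecDepth 1000000 in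
theorem edges_4_12 : edgesRangeI iota E 4 4023 48767 = true := by decide +kernel

set_option maxRecDepth 1000000 in
theorem edges_5_11 : edgesRangeI iota E 5 2992 31554 = true := by decide +kernel

set_option maxRecDepth 1000000 in
theorem edges_5_57 : edgesRangeI iota E 5 3038 161652 = true := by decide +kernel

set_option maxRecDepth 1000000 in
theorem edges_6_1 : edgesRangeI iota E 6 2929 3000 = true := by decide +kernel

set_option maxRecDepth 1000000 in
theorem edges_7_30 : edgesRangeI iota E 7 2677 81623 = true := by decide +kernel

set_option maxRecDepth 1000000 in
theorem edges_7_70 : edgesRangeI iota E 7 1689 180801 = true := by decide +kernel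

set_option maxRecDepth 1000000 in
theorem edges_7_91 : edgesRangeI iota E 7 1243 212388 = true := by decide +kernel

set_option maxRecDepth 1000000 in
theorem aliases_38 : aliasRange E 2509 111609 = true := by decide +kernel

set_option maxRecDepth 1000000 in
theorem edges_0_25 : edgesRangeI iota E 0 2644 61831 = true := by decide +kernel

set_option maxRecDepth 1000000 in
theorem edges_0_72 : edgesRangeI iota E 0 1885 179716 = true := by decide +kernel

set_option maxRecDepth 1000000 in
theorem edges_1_9 : edgesRangeI iota E 1 3117 26820 = true := by decide +kernel

set_option maxRecDepth 1000000 in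
theorem edges_1_72 : edgesRangeI iota E 1 1522 196307 = true := by decide +kernel

set_option maxRecDepth 1000000 in
theorem edges_2_22 : edgesRangeI iota E 2 2865 61964 = true := by decide +kernel

set_option maxRecDepth 1000000 in
theorem edges_2_76 : edgesRangeI iota E 2 1468 189927 = true := by decide +kernel

set_option maxRecDepth 1000000 in
theorem edges_3_34 : edgesRangeI iota E 3 2861 108668 = true := by decide +kernel

set_option maxRecDepth 1000000 in
theorem edges_4_19 : edgesRangeI iota E 4 4374 77545 = true := by decide +kernel

set_option maxRecDepth 1000000 in
theorem edges_4_64 : edgesRangeI iota E 4 1626 204292 = true := by decide +kernel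

set_option maxRecDepth 1000000 in
theorem edges_5_40 : edgesRangeI iota E 5 2483 113706 = true := by decide +kernel

set_option maxRecDepth 1000000 in
theorem edges_5_76 : edgesRangeI iota E 5 1684 202551 = true := by decide +kernel

set_option maxRecDepth 1000000 in
theorem edges_6_56 : edgesRangeI iota E 6 2246 140955 = true := by decide +kernel

set_option maxRecDepth 1000000 in
theorem edges_7_18 : edgesRangeI iota E 7 2659 48903 = true := by decide +kernel

set_option maxRecDepth 1000000 in
theorem edges_7_61 : edgesRangeI iota E 7 2828 159270 = true := by decide +kernel

set_option maxRecDepth 1000000 in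
theorem aliases_55 : aliasRange E 2038 152378 = true := by decide +kernel

set_option maxRecDepth 1000000 in
theorem edges_0_14 : edgesRangeI iota E 0 2589 34608 = true := by decide +kernel

set_option maxRecDepth 1000000 in
theorem edges_0_36 : edgesRangeI iota E 0 2475 90495 = true := by decide +kernel

set_option maxRecDepth 1000000 in
theorem edges_0_64 : edgesRangeI iota E 0 2775 159934 = true := by decide +kernel

set_option maxRecDepth 1000000 in
theorem edges_0_86 : edgesRangeI iota E 0 1670 204626 = true := by decide +kernel

set_option maxRecDepth 1000000 in
theorem edges_1_21 : edgesRangeI iota E 1 3280 64266 = true := by decide +kernel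

set_option maxRecDepth 1000000 in
theorem edges_1_34 : edgesRangeI iota E 1 2386 104136 = true := by decide +kernel

set_option maxRecDepth 1000000 in
theorem edges_1_63 : edgesRangeI iota E 1 1903 181006 = true := by decide +kernel

set_option maxRecDepth 1000000 in
theorem edges_2_16 : edgesRangeI iota E 2 2504 45834 = true := by decide +kernel

set_option maxRecDepth 1000000 in
theorem edges_2_37 : edgesRangeI iota E 2 2369 102297 = true := by decide +kernel

set_option maxRecDepth 1000000 in
theorem edges_2_63 : edgesRangeI iota E 2 2559 164953 = true := by decide +kernel

set_option maxRecDepth 1000000 in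
theorem edges_3_11 : edgesRangeI iota E 3 3567 36583 = true := by decide +kernel

set_option maxRecDepth 1000000 in
theorem edges_3_29 : edgesRangeI iota E 3 2639 95914 = true := by decide +kernel

set_option maxRecDepth 1000000 in
theorem edges_3_57 : edgesRangeI iota E 3 2416 170779 = true := by decide +kernel

set_option maxRecDepth 1000000 in
theorem edges_4_7 : edgesRangeI iota E 4 4153 28384 = true := by decide +kernel

set_option maxRecDepth 1000000 in
theorem edges_4_22 : edgesRangeI iota E 4 4093 90210 = true := by decide +kernel

set_option maxRecDepth 1000000 in
theorem edges_4_69 : edgesRangeI iota E 4 1331 212000 = true := by decide +kernel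

set_option maxRecDepth 1000000 in
theorem edges_5_15 : edgesRangeI iota E 5 2946 43143 = true := by decide +kernel

set_option maxRecDepth 1000000 in
theorem edges_5_33 : edgesRangeI iota E 5 2612 95417 = true := by decide +kernel

set_option maxRecDepth 1000000 in
theorem edges_5_67 : edgesRangeI iota E 5 1775 186493 = true := by decide +kernel

set_option maxRecDepth 1000000 in
theorem edges_6_14 : edgesRangeI iota E 6 2484 39245 = true := by decide +kernel

set_option maxRecDepth 1000000 in
theorem edges_6_40 : edgesRangeI iota E 6 2236 106136 = true := by decide +kernel

set_option maxRecDepth 1000000 in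
theorem edges_6_55 : edgesRangeI iota E 6 2036 138919 = true := by decide +kernel

set_option maxRecDepth 1000000 in
theorem edges_6_84 : edgesRangeI iota E 6 1143 192391 = true := by decide +kernel

set_option maxRecDepth 1000000 in
theorem edges_7_31 : edgesRangeI iota E 7 2689 84300 = true := by decide +kernel

set_option maxRecDepth 1000000 in
theorem edges_7_58 : edgesRangeI iota E 7 2858 150968 = true := by decide +kernel

set_option maxRecDepth 1000000 in
theorem aliases_0 : aliasRange E 3505 0 = true := by decide +kernel

set_option maxRecDepth 1000000 in
theorem aliases_37 : aliasRange E 2221 109388 = true := by decide +kernel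

set_option maxRecDepth 1000000 in
theorem aliases_61 : aliasRange E 2236 164223 = true := by decide +kernel

set_option maxRecDepth 1000000 in
theorem edges_2_94 : edgesRangeI iota E 2 956 213006 = true := by decide +kernel

set_option maxRecDepth 1000000 in
theorem rows_6 : rowsRange E RS 1500 9000 = true := by decide +kernel

set_option maxRecDepth 1000000 in
theorem rows_14 : rowsRange E RS 1500 21000 = true := by decide +kernel

set_option maxRecDepth 1000000 in
theorem rows_22 : rowsRange E RS 1500 33000 = true := by decide +kernel

set_option maxRecDepth 1000000 in
theorem rows_30 : rowsRange E RS 1500 45000 = true := by decide +kernel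

set_option maxRecDepth 1000000 in
theorem rows_38 : rowsRange E RS 1500 57000 = true := by decide +kernel

set_option maxRecDepth 1000000 in
theorem rows_46 : rowsRange E RS 1500 69000 = true := by decide +kernel

set_option maxRecDepth 1000000 in
theorem rows_54 : rowsRange E RS 1500 81000 = true := by decide +kernel

set_option maxRecDepth 1000000 in
theorem rows_62 : rowsRange E RS 1500 93000 = true := by decide +kernel

set_option maxRecDepth 1000000 in
theorem rows_70 : rowsRange E RS 1500 105000 = true := by decide +kernel

set_option maxRecDepth 1000000 in
theorem rows_78 : rowsRange E RS 1500 117000 = true := by decide +kernel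

set_option maxRecDepth 1000000 in
theorem rows_86 : rowsRange E RS 1500 129000 = true := by decide +kernel

set_option maxRecDepth 1000000 in
theorem rows_94 : rowsRange E RS 1500 141000 = true := by decide +kernel

set_option maxRecDepth 1000000 in
theorem rows_102 : rowsRange E RS 1500 153000 = true := by decide +kernel

set_option maxRecDepth 1000000 in
theorem rows_110 : rowsRange E RS 1500 165000 = true := by decide +kernel

set_option maxRecDepth 1000000 in
theorem rows_118 : rowsRange E RS 1500 177000 = true := by decide +kernel

set_option maxRecDepth 1000000 in
theorem rows_126 : rowsRange E RS 1500 189000 = true := by decide +kernel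

set_option maxRecDepth 1000000 in
theorem rows_134 : rowsRange E RS 1500 201000 = true := by decide +kernel

set_option maxRecDepth 1000000 in
theorem edges_0_91 : edgesRangeI iota E 0 1056 212906 = true := by decide +kernel

end Cfsg.Agent.Helper5.ONTC
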