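import Cfsg.Agent.Helper5.ONTCDatD
import Cfsg.Agent.Helper5.TCIB

/-! kernel checks of edges, aliases, rows: ONTC -/

set_option autoImplicit false
set_option Elab.async false

namespace Cfsg.Agent.Helper5.ONTC
open Cfsg.Agent.Helper5.TC Cfsg.Agent.Helper5.TCI

set_option maxRecDepth 1000000 in
theorem cnt_7 : cntFrom RS 20000 140000 0 = 6596 := by decide +kernel

set_option maxRecDepth 1000000 in
theorem edges_1_38 : edgesRangeI iota E 1 2621 114797 = true := by decide +kernel

set_option maxRecDepth 1000000 in
theorem edges_2_27 : edgesRangeI iota E 2 3114 75577 = true := by decide +kernel

set_option maxRecDepth 1000000 in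
theorem edges_2_65 : edgesRangeI iota E 2 2448 170094 = true := by decide +kernel

set_option maxRecDepth 1000000 in
theorem edges_6_46 : edgesRangeI iota E 6 2133 119061 = true := by decide +kernel

set_option maxRecDepth 1000000 in
theorem edges_7_81 : edgesRangeI iota E 7 1484 198263 = true := by decide +kernel

set_option maxRecDepth 1000000 in
theorem edges_2_87 : edgesRangeI iota E 2 1265 204981 = true := by decide +kernel

set_option maxRecDepth 1000000 in
theorem edges_6_28 : edgesRangeI iota E 6 3121 76354 = true := by decide +kernel

set_option maxRecDepth 1000000 in
theorem edges_7_14 : edgesRangeI iota E 7 2539 38573 = true := by decide +kernel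

set_option maxRecDepth 1000000 in
theorem edges_3_78 : edgesRangeI iota E 3 1309 205176 = true := by decide +kernel

set_option maxRecDepth 1000000 in
theorem edges_6_89 : edgesRangeI iota E 6 1080 197859 = true := by decide +kernel

set_option maxRecDepth 1000000 in
theorem edges_3_30 : edgesRangeI iota E 3 2350 98553 = true := by decide +kernel

set_option maxRecDepth 1000000 in
theorem edges_7_80 : edgesRangeI iota E 7 1513 196750 = true := by decide +kernel

set_option maxRecDepth 1000000 in
theorem edges_3_67 : edgesRangeI iota E 3 1560 189461 = true := by decide +kernel

set_option maxRecDepth 1000000 in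
theorem edges_7_64 : edgesRangeI iota E 7 2668 167232 = true := by decide +kernel

set_option maxRecDepth 1000000 in
theorem edges_3_68 : edgesRangeI iota E 3 1592 191021 = true := by decide +kernel

set_option maxRecDepth 1000000 in
theorem edges_6_65 : edgesRangeI iota E 6 2504 161484 = true := by decide +kernel

set_option maxRecDepth 1000000 in
theorem edges_0_31 : edgesRangeI iota E 0 2850 77245 = true := by decide +kernel

set_option maxRecDepth 1000000 in
theorem edges_1_7 : edgesRangeI iota E 1 3287 20933 = true := by decide +kernel

set_option maxRecDepth 1000000 in
theorem edges_1_82 : edgesRangeI iota E 1 1334 211122 = true := by decide +kernel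

set_option maxRecDepth 1000000 in
theorem edges_3_15 : edgesRangeI iota E 3 3103 49747 = true := by decide +kernel

set_option maxRecDepth 1000000 in
theorem edges_4_33 : edgesRangeI iota E 4 2941 125646 = true := by decide +kernel

set_option maxRecDepth 1000000 in
theorem edges_5_75 : edgesRangeI iota E 5 1704 200847 = true := by decide +kernel

set_option maxRecDepth 1000000 in
theorem edges_7_28 : edgesRangeI iota E 7 2880 75887 = true := by decide +kernel

set_option maxRecDepth 1000000 in
theorem edges_0_47 : edgesRangeI iota E 0 2397 116591 = true := by decide +kernel

set_option maxRecDepth 1000000 in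
theorem edges_1_55 : edgesRangeI iota E 1 2889 161259 = true := by decide +kernel

set_option maxRecDepth 1000000 in
theorem edges_2_84 : edgesRangeI iota E 2 1306 201078 = true := by decide +kernel

set_option maxRecDepth 1000000 in
theorem edges_3_52 : edgesRangeI iota E 3 2977 156864 = true := by decide +kernel

set_option maxRecDepth 1000000 in
theorem edges_4_62 : edgesRangeI iota E 4 1731 200893 = true := by decide +kernel

set_option maxRecDepth 1000000 in
theorem edges_6_19 : edgesRangeI iota E 6 2551 52139 = true := by decide +kernel

set_option maxRecDepth 1000000 in
theorem aliases_1 : aliasRange E 3157 3505 = true := by decide +kernel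

set_option maxRecDepth 1000000 in
theorem aliases_29 : aliasRange E 2701 87137 = true := by decide +kernel

set_option maxRecDepth 1000000 in
theorem edges_0_24 : edgesRangeI iota E 0 2669 59162 = true := by decide +kernel

set_option maxRecDepth 1000000 in
theorem edges_2_33 : edgesRangeI iota E 2 2577 92712 = true := by decide +kernel

set_option maxRecDepth 1000000 in
theorem edges_3_8 : edgesRangeI iota E 3 3334 26896 = true := by decide +kernel

set_option maxRecDepth 1000000 in
theorem edges_4_40 : edgesRangeI iota E 4 3075 146695 = true := by decide +kernel

set_option maxRecDepth 1000000 in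
theorem edges_5_6 : edgesRangeI iota E 5 2930 17363 = true := by decide +kernel

set_option maxRecDepth 1000000 in
theorem edges_5_66 : edgesRangeI iota E 5 1899 184594 = true := by decide +kernel

set_option maxRecDepth 1000000 in
theorem edges_7_5 : edgesRangeI iota E 7 2770 13926 = true := by decide +kernel

set_option maxRecDepth 1000000 in
theorem aliases_26 : aliasRange E 2354 79649 = true := by decide +kernel

set_option maxRecDepth 1000000 in
theorem aliases_64 : aliasRange E 2297 170719 = true := by decide +kernel

set_option maxRecDepth 1000000 in
theorem edges_0_33 : edgesRangeI iota E 0 2542 82862 = true := by decide +kernel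

set_option maxRecDepth 1000000 in
theorem edges_0_73 : edgesRangeI iota E 0 1833 181601 = true := by decide +kernel

set_option maxRecDepth 1000000 in
theorem edges_1_27 : edgesRangeI iota E 1 3119 84117 = true := by decide +kernel

set_option maxRecDepth 1000000 in
theorem edges_2_7 : edgesRangeI iota E 2 3009 20390 = true := by decide +kernel

set_option maxRecDepth 1000000 in
theorem edges_2_86 : edgesRangeI iota E 2 1343 203638 = true := by decide +kernel

set_option maxRecDepth 1000000 in
theorem edges_3_58 : edgesRangeI iota E 3 2796 173195 = true := by decide +kernel

set_option maxRecDepth 1000000 in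
theorem edges_4_34 : edgesRangeI iota E 4 3168 128587 = true := by decide +kernel

set_option maxRecDepth 1000000 in
theorem edges_5_19 : edgesRangeI iota E 5 2871 54174 = true := by decide +kernel

set_option maxRecDepth 1000000 in
theorem edges_5_58 : edgesRangeI iota E 5 2914 164690 = true := by decide +kernel

set_option maxRecDepth 1000000 in
theorem edges_6_4 : edgesRangeI iota E 6 2713 11583 = true := by decide +kernel

set_option maxRecDepth 1000000 in
theorem edges_7_36 : edgesRangeI iota E 7 2447 97449 = true := by decide +kernel

set_option maxRecDepth 1000000 in
theorem edges_7_72 : edgesRangeI iota E 7 1664 184151 = true := by decide +kernel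

set_option maxRecDepth 1000000 in
theorem aliases_5 : aliasRange E 3340 16228 = true := by decide +kernel

set_option maxRecDepth 1000000 in
theorem aliases_42 : aliasRange E 2352 122175 = true := by decide +kernel

set_option maxRecDepth 1000000 in
theorem edges_0_26 : edgesRangeI iota E 0 2546 64475 = true := by decide +kernel

set_option maxRecDepth 1000000 in
theorem edges_0_75 : edgesRangeI iota E 0 1784 185247 = true := by decide +kernel

set_option maxRecDepth 1000000 in
theorem edges_1_12 : edgesRangeI iota E 1 3493 36079 = true := by decide +kernel

set_option maxRecDepth 1000000 in
theorem edges_1_81 : edgesRangeI iota E 1 1333 209789 = true := by decide +kernel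

set_option maxRecDepth 1000000 in
theorem edges_2_23 : edgesRangeI iota E 2 2726 64829 = true := by decide +kernel

set_option maxRecDepth 1000000 in
theorem edges_2_78 : edgesRangeI iota E 2 1404 192937 = true := by decide +kernel

set_option maxRecDepth 1000000 in
theorem edges_3_44 : edgesRangeI iota E 3 2475 135491 = true := by decide +kernel

set_option maxRecDepth 1000000 in
theorem edges_4_23 : edgesRangeI iota E 4 3375 94303 = true := by decide +kernel

set_option maxRecDepth 1000000 in
theorem edges_4_68 : edgesRangeI iota E 4 1451 210549 = true := by decide +kernel

set_option maxRecDepth 1000000 in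
theorem edges_5_43 : edgesRangeI iota E 5 2623 121493 = true := by decide +kernel

set_option maxRecDepth 1000000 in
theorem edges_5_77 : edgesRangeI iota E 5 1728 204235 = true := by decide +kernel

set_option maxRecDepth 1000000 in
theorem edges_6_62 : edgesRangeI iota E 6 2245 154405 = true := by decide +kernel

set_option maxRecDepth 1000000 in
theorem edges_7_23 : edgesRangeI iota E 7 2753 62568 = true := by decide +kernel

set_option maxRecDepth 1000000 in
theorem edges_7_62 : edgesRangeI iota E 7 2606 162098 = true := by decide +kernel

set_option maxRecDepth 1000000 in
theorem aliases_59 : aliasRange E 2026 160274 = true := by decide +kernel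

set_option maxRecDepth 1000000 in
theorem edges_0_20 : edgesRangeI iota E 0 2362 49585 = true := by decide +kernel

set_option maxRecDepth 1000000 in
theorem edges_0_37 : edgesRangeI iota E 0 2479 92970 = true := by decide +kernel

set_option maxRecDepth 1000000 in
theorem edges_0_69 : edgesRangeI iota E 0 2626 172944 = true := by decide +kernel

set_option maxRecDepth 1000000 in
theorem edges_0_89 : edgesRangeI iota E 0 1687 209603 = true := by decide +kernel

set_option maxRecDepth 1000000 in
theorem edges_1_23 : edgesRangeI iota E 1 3146 70739 = true := by decide +kernel

set_option maxRecDepth 1000000 in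
theorem edges_1_37 : edgesRangeI iota E 1 2804 111993 = true := by decide +kernel

set_option maxRecDepth 1000000 in
theorem edges_1_66 : edgesRangeI iota E 1 1660 186381 = true := by decide +kernel

set_option maxRecDepth 1000000 in
theorem edges_2_19 : edgesRangeI iota E 2 2946 53468 = true := by decide +kernel

set_option maxRecDepth 1000000 in
theorem edges_2_39 : edgesRangeI iota E 2 2319 106912 = true := by decide +kernel

set_option maxRecDepth 1000000 in
theorem edges_2_66 : edgesRangeI iota E 2 2661 172542 = true := by decide +kernel

set_option maxRecDepth 1000000 in
theorem edges_3_14 : edgesRangeI iota E 3 2965 46782 = true := by decide +kernel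

set_option maxRecDepth 1000000 in
theorem edges_3_32 : edgesRangeI iota E 3 2453 103509 = true := by decide +kernel

set_option maxRecDepth 1000000 in
theorem edges_3_64 : edgesRangeI iota E 3 1625 184681 = true := by decide +kernel

set_option maxRecDepth 1000000 in
theorem edges_4_10 : edgesRangeI iota E 4 4063 40788 = true := by decide +kernel

set_option maxRecDepth 1000000 in
theorem edges_4_27 : edgesRangeI iota E 4 2845 107268 = true := by decide +kernel

set_option maxRecDepth 1000000 in
theorem edges_5_0 : edgesRangeI iota E 5 2880 0 = true := by decide +kernel

set_option maxRecDepth 1000000 in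
theorem edges_5_16 : edgesRangeI iota E 5 2698 46089 = true := by decide +kernel

set_option maxRecDepth 1000000 in
theorem edges_5_42 : edgesRangeI iota E 5 2589 118904 = true := by decide +kernel

set_option maxRecDepth 1000000 in
theorem edges_5_73 : edgesRangeI iota E 5 1821 197301 = true := by decide +kernel

set_option maxRecDepth 1000000 in
theorem edges_6_20 : edgesRangeI iota E 6 2697 54690 = true := by decide +kernel

set_option maxRecDepth 1000000 in
theorem edges_6_44 : edgesRangeI iota E 6 2185 114857 = true := by decide +kernel

set_option maxRecDepth 1000000 in
theorem edges_6_57 : edgesRangeI iota E 6 2038 143201 = true := by decide +kernel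

set_option maxRecDepth 1000000 in
theorem edges_7_7 : edgesRangeI iota E 7 2803 19421 = true := by decide +kernel

set_option maxRecDepth 1000000 in
theorem edges_7_39 : edgesRangeI iota E 7 2384 104607 = true := by decide +kernel

set_option maxRecDepth 1000000 in
theorem edges_7_63 : edgesRangeI iota E 7 2528 164704 = true := by decide +kernel

set_option maxRecDepth 1000000 in
theorem aliases_2 : aliasRange E 3031 6662 = true := by decide +kernel

set_option maxRecDepth 1000000 in
theorem aliases_39 : aliasRange E 2294 114118 = true := by decide +kernel

set_option maxRecDepth 1000000 in
theorem aliases_62 : aliasRange E 2200 166459 = true := by decide +kernel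

set_option maxRecDepth 1000000 in
theorem edges_5_82 : edgesRangeI iota E 5 1423 212539 = true := by decide +kernel

set_option maxRecDepth 1000000 in
theorem rows_5 : rowsRange E RS 1500 7500 = true := by decide +kernel

set_option maxRecDepth 1000000 in
theorem rows_13 : rowsRange E RS 1500 19500 = true := by decide +kernel

set_option maxRecDepth 1000000 in
theorem rows_21 : rowsRange E RS 1500 31500 = true := by decide +kernel

set_option maxRecDepth 1000000 in
theorem rows_29 : rowsRange E RS 1500 43500 = true := by decide +kernel

set_option maxRecDepth 1000000 in
theorem rows_37 : rowsRange E RS 1500 55500 = true := by decide +kernel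

set_option maxRecDepth 1000000 in
theorem rows_45 : rowsRange E RS 1500 67500 = true := by decide +kernel

set_option maxRecDepth 1000000 in
theorem rows_53 : rowsRange E RS 1500 79500 = true := by decide +kernel

set_option maxRecDepth 1000000 in
theorem rows_61 : rowsRange E RS 1500 91500 = true := by decide +kernel

set_option maxRecDepth 1000000 in
theorem rows_69 : rowsRange E RS 1500 103500 = true := by decide +kernel

set_option maxRecDepth 1000000 in
theorem rows_77 : rowsRange E RS 1500 115500 = true := by decide +kernel

set_option maxRecDepth 1000000 in
theorem rows_85 : rowsRange E RS 1500 127500 = true := by decide +kernel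

set_option maxRecDepth 1000000 in
theorem rows_93 : rowsRange E RS 1500 139500 = true := by decide +kernel

set_option maxRecDepth 1000000 in
theorem rows_101 : rowsRange E RS 1500 151500 = true := by decide +kernel

set_option maxRecDepth 1000000 in
theorem rows_109 : rowsRange E RS 1500 163500 = true := by decide +kernel

set_option maxRecDepth 1000000 in
theorem rows_117 : rowsRange E RS 1500 175500 = true := by decide +kernel

set_option maxRecDepth 1000000 in
theorem rows_125 : rowsRange E RS 1500 187500 = true := by decide +kernel

set_option maxRecDepth 1000000 in
theorem rows_133 : rowsRange E RS 1500 199500 = true := by decide +kernel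

set_option maxRecDepth 1000000 in
theorem rows_141 : rowsRange E RS 1500 211500 = true := by decide +kernel

end Cfsg.Agent.Helper5.ONTC
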