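import Cfsg.Agent.Helper5.ONTCDatD
import Cfsg.Agent.Helper5.ONTCDatT
import Cfsg.Agent.Helper5.TCIB

/-! kernel checks of the coset table: ONTC -/

set_option autoImplicit false
set_option Elab.async false

namespace Cfsg.Agent.Helper5.ONTC
open Cfsg.Agent.Helper5.TC Cfsg.Agent.Helper5.TCI

set_option maxRecDepth 1000000 in
theorem relc_0_0 : fixPtsF W_0 100000 0 = true := by decide +kernel

set_option maxRecDepth 1000000 in
theorem relc_2_0 : fixPtsF W_2 50000 0 = true := by decide +kernel

set_option maxRecDepth 1000000 in
theorem relc_9_0 : fixPtsF W_9 50000 0 = true := by decide +kernel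

set_option maxRecDepth 1000000 in
theorem relc_16_0 : fixPtsF W_16 50000 0 = true := by decide +kernel

set_option maxRecDepth 1000000 in
theorem relc_23_0 : fixPtsF W_23 50000 0 = true := by decide +kernel

set_option maxRecDepth 1000000 in
theorem relc_30_0 : fixPtsF W_30 50000 0 = true := by decide +kernel

set_option maxRecDepth 1000000 in
theorem relc_36_0 : fixPtsF W_36 50000 0 = true := by decide +kernel

set_option maxRecDepth 1000000 in
theorem relc_22_0 : fixPtsF W_22 33333 0 = true := by decide +kernel

set_option maxRecDepth 1000000 in
theorem relc_29_2 : fixPtsF W_29 33333 66666 = true := by decide +kernel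

set_option maxRecDepth 1000000 in
theorem relc_37_4 : fixPtsF W_37 20000 80000 = true := by decide +kernel

set_option maxRecDepth 1000000 in
theorem relc_39_0 : fixPtsF W_39 20000 0 = true := by decide +kernel

set_option maxRecDepth 1000000 in
theorem relc_41_2 : fixPtsF W_41 18181 36362 = true := by decide +kernel

set_option maxRecDepth 1000000 in
theorem relc_42_4 : fixPtsF W_42 18181 72724 = true := by decide +kernel

set_option maxRecDepth 1000000 in
theorem relc_15_6 : fixPtsF W_15 12500 75000 = true := by decide +kernel

set_option maxRecDepth 1000000 in
theorem relc_20_5 : fixPtsF W_20 12500 62500 = true := by decide +kernel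

set_option maxRecDepth 1000000 in
theorem relc_40_4 : fixPtsF W_40 10000 40000 = true := by decide +kernel

set_option maxRecDepth 1000000 in
theorem relc_1_3 : fixPtsF W_1 22761 99999 = true := by decide +kernel

set_option maxRecDepth 1000000 in
theorem relc_29_3 : fixPtsF W_29 22761 99999 = true := by decide +kernel

set_option maxRecDepth 1000000 in
theorem relc_4_2 : fixPtsF W_4 22760 100000 = true := by decide +kernel

set_option maxRecDepth 1000000 in
theorem relc_16_2 : fixPtsF W_16 22760 100000 = true := by decide +kernel

set_option maxRecDepth 1000000 in
theorem relc_30_2 : fixPtsF W_30 22760 100000 = true := by decide +kernel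

set_option maxRecDepth 1000000 in
theorem inv_1_1 : invRowFI ctF 122760 1 1 50000 50000 = true := by decide +kernel

set_option maxRecDepth 1000000 in
theorem inv_5_1 : invRowFI ctF 122760 5 5 50000 50000 = true := by decide +kernel

set_option maxRecDepth 1000000 in
theorem relc_28_1 : fixPtsF W_28 22760 100000 = true := by decide +kernel

set_option maxRecDepth 1000000 in
theorem inv_3_2 : invRowFI ctF 122760 3 3 22760 100000 = true := by decide +kernel

set_option maxRecDepth 1000000 in
theorem relc_37_6 : fixPtsF W_37 2760 120000 = true := by decide +kernel

end Cfsg.Agent.Helper5.ONTC
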