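import Cfsg.Agent.Helper5.ONTCDatD
import Cfsg.Agent.Helper5.ONTCDatT
import Cfsg.Agent.Helper5.TCIB

/-! kernel checks of the coset table: ONTC -/

set_option autoImplicit false
set_option Elab.async false

namespace Cfsg.Agent.Helper5.ONTC
open Cfsg.Agent.Helper5.TC Cfsg.Agent.Helper5.TCI

set_option maxRecDepth 1000000 in
theorem relc_7_0 : fixPtsF W_7 100000 0 = true := by decide +kernel

set_option maxRecDepth 1000000 in
theorem relc_2_1 : fixPtsF W_2 50000 50000 = true := by decide +kernel

set_option maxRecDepth 1000000 in
theorem relc_9_1 : fixPtsF W_9 50000 50000 = true := by decide +kernel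

set_option maxRecDepth 1000000 in
theorem relc_16_1 : fixPtsF W_16 50000 50000 = true := by decide +kernel

set_option maxRecDepth 1000000 in
theorem relc_23_1 : fixPtsF W_23 50000 50000 = true := by decide +kernel

set_option maxRecDepth 1000000 in
theorem relc_30_1 : fixPtsF W_30 50000 50000 = true := by decide +kernel

set_option maxRecDepth 1000000 in
theorem relc_36_1 : fixPtsF W_36 50000 50000 = true := by decide +kernel

set_option maxRecDepth 1000000 in
theorem relc_22_1 : fixPtsF W_22 33333 33333 = true := by decide +kernel

set_option maxRecDepth 1000000 in
theorem relc_34_0 : fixPtsF W_34 33333 0 = true := by decide +kernel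

set_option maxRecDepth 1000000 in
theorem relc_37_5 : fixPtsF W_37 20000 100000 = true := by decide +kernel

set_option maxRecDepth 1000000 in
theorem relc_39_1 : fixPtsF W_39 20000 20000 = true := by decide +kernel

set_option maxRecDepth 1000000 in
theorem relc_41_3 : fixPtsF W_41 18181 54543 = true := by decide +kernel

set_option maxRecDepth 1000000 in
theorem relc_42_5 : fixPtsF W_42 18181 90905 = true := by decide +kernel

set_option maxRecDepth 1000000 in
theorem relc_15_7 : fixPtsF W_15 12500 87500 = true := by decide +kernel

set_option maxRecDepth 1000000 in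
theorem relc_20_6 : fixPtsF W_20 12500 75000 = true := by decide +kernel

set_option maxRecDepth 1000000 in
theorem relc_40_5 : fixPtsF W_40 10000 50000 = true := by decide +kernel

set_option maxRecDepth 1000000 in
theorem relc_6_3 : fixPtsF W_6 22761 99999 = true := by decide +kernel

set_option maxRecDepth 1000000 in
theorem relc_34_3 : fixPtsF W_34 22761 99999 = true := by decide +kernel

set_option maxRecDepth 1000000 in
theorem relc_5_2 : fixPtsF W_5 22760 100000 = true := by decide +kernel

set_option maxRecDepth 1000000 in
theorem relc_17_2 : fixPtsF W_17 22760 100000 = true := by decide +kernel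

set_option maxRecDepth 1000000 in
theorem relc_31_2 : fixPtsF W_31 22760 100000 = true := by decide +kernel

set_option maxRecDepth 1000000 in
theorem inv_2_0 : invRowFI ctF 122760 2 2 50000 0 = true := by decide +kernel

set_option maxRecDepth 1000000 in
theorem inv_6_0 : invRowFI ctF 122760 6 7 50000 0 = true := by decide +kernel

set_option maxRecDepth 1000000 in
theorem relc_35_1 : fixPtsF W_35 22760 100000 = true := by decide +kernel

set_option maxRecDepth 1000000 in
theorem inv_4_2 : invRowFI ctF 122760 4 4 22760 100000 = true := by decide +kernel

set_option maxRecDepth 1000000 in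
theorem relc_38_6 : fixPtsF W_38 2760 120000 = true := by decide +kernel

end Cfsg.Agent.Helper5.ONTC
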