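import Cfsg.Agent.Helper5.ONTCDatD
import Cfsg.Agent.Helper5.ONTCDatT
import Cfsg.Agent.Helper5.TCIB

/-! kernel checks of the coset table: ONTC -/

set_option autoImplicit false
set_option Elab.async false

namespace Cfsg.Agent.Helper5.ONTC
open Cfsg.Agent.Helper5.TC Cfsg.Agent.Helper5.TCI

set_option maxRecDepth 1000000 in
theorem relc_14_0 : fixPtsF W_14 100000 0 = true := by decide +kernel

set_option maxRecDepth 1000000 in
theorem relc_3_0 : fixPtsF W_3 50000 0 = true := by decide +kernel

set_option maxRecDepth 1000000 in
theorem relc_10_0 : fixPtsF W_10 50000 0 = true := by decide +kernel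

set_option maxRecDepth 1000000 in
theorem relc_17_0 : fixPtsF W_17 50000 0 = true := by decide +kernel

set_option maxRecDepth 1000000 in
theorem relc_24_0 : fixPtsF W_24 50000 0 = true := by decide +kernel

set_option maxRecDepth 1000000 in
theorem relc_31_0 : fixPtsF W_31 50000 0 = true := by decide +kernel

set_option maxRecDepth 1000000 in
theorem relc_1_0 : fixPtsF W_1 33333 0 = true := by decide +kernel

set_option maxRecDepth 1000000 in
theorem relc_8_0 : fixPtsF W_8 33333 0 = true := by decide +kernel

set_option maxRecDepth 1000000 in
theorem relc_22_2 : fixPtsF W_22 33333 66666 = true := by decide +kernel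

set_option maxRecDepth 1000000 in
theorem relc_34_1 : fixPtsF W_34 33333 33333 = true := by decide +kernel

set_option maxRecDepth 1000000 in
theorem relc_38_4 : fixPtsF W_38 20000 80000 = true := by decide +kernel

set_option maxRecDepth 1000000 in
theorem relc_41_0 : fixPtsF W_41 18181 0 = true := by decide +kernel

set_option maxRecDepth 1000000 in
theorem relc_42_2 : fixPtsF W_42 18181 36362 = true := by decide +kernel

set_option maxRecDepth 1000000 in
theorem relc_15_4 : fixPtsF W_15 12500 50000 = true := by decide +kernel

set_option maxRecDepth 1000000 in
theorem relc_20_3 : fixPtsF W_20 12500 37500 = true := by decide +kernel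

set_option maxRecDepth 1000000 in
theorem relc_40_2 : fixPtsF W_40 10000 20000 = true := by decide +kernel

set_option maxRecDepth 1000000 in
theorem relc_40_10 : fixPtsF W_40 10000 100000 = true := by decide +kernel

set_option maxRecDepth 1000000 in
theorem relc_15_9 : fixPtsF W_15 10260 112500 = true := by decide +kernel

set_option maxRecDepth 1000000 in
theorem relc_9_2 : fixPtsF W_9 22760 100000 = true := by decide +kernel

set_option maxRecDepth 1000000 in
theorem relc_18_2 : fixPtsF W_18 22760 100000 = true := by decide +kernel

set_option maxRecDepth 1000000 in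
theorem relc_32_2 : fixPtsF W_32 22760 100000 = true := by decide +kernel

set_option maxRecDepth 1000000 in
theorem inv_3_0 : invRowFI ctF 122760 3 3 50000 0 = true := by decide +kernel

set_option maxRecDepth 1000000 in
theorem inv_7_0 : invRowFI ctF 122760 7 6 50000 0 = true := by decide +kernel

set_option maxRecDepth 1000000 in
theorem relc_44_1 : fixPtsF W_44 22760 100000 = true := by decide +kernel

set_option maxRecDepth 1000000 in
theorem inv_6_2 : invRowFI ctF 122760 6 7 22760 100000 = true := by decide +kernel

end Cfsg.Agent.Helper5.ONTC
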