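import Cfsg.Agent.Helper5.ONTCDatD
import Cfsg.Agent.Helper5.ONTCDatT
import Cfsg.Agent.Helper5.TCIB

/-! kernel checks of the coset table: ONTC -/

set_option autoImplicit false
set_option Elab.async false

namespace Cfsg.Agent.Helper5.ONTC
open Cfsg.Agent.Helper5.TC Cfsg.Agent.Helper5.TCI

set_option maxRecDepth 1000000 in
theorem relc_21_0 : fixPtsF W_21 100000 0 = true := by decide +kernel

set_option maxRecDepth 1000000 in
theorem relc_3_1 : fixPtsF W_3 50000 50000 = true := by decide +kernel

set_option maxRecDepth 1000000 in
theorem relc_10_1 : fixPtsF W_10 50000 50000 = true := by decide +kernel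

set_option maxRecDepth 1000000 in
theorem relc_17_1 : fixPtsF W_17 50000 50000 = true := by decide +kernel

set_option maxRecDepth 1000000 in
theorem relc_24_1 : fixPtsF W_24 50000 50000 = true := by decide +kernel

set_option maxRecDepth 1000000 in
theorem relc_31_1 : fixPtsF W_31 50000 50000 = true := by decide +kernel

set_option maxRecDepth 1000000 in
theorem relc_1_1 : fixPtsF W_1 33333 33333 = true := by decide +kernel

set_option maxRecDepth 1000000 in
theorem relc_8_1 : fixPtsF W_8 33333 33333 = true := by decide +kernel

set_option maxRecDepth 1000000 in
theorem relc_27_0 : fixPtsF W_27 33333 0 = true := by decide +kernel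

set_option maxRecDepth 1000000 in
theorem relc_34_2 : fixPtsF W_34 33333 66666 = true := by decide +kernel

set_option maxRecDepth 1000000 in
theorem relc_38_5 : fixPtsF W_38 20000 100000 = true := by decide +kernel

set_option maxRecDepth 1000000 in
theorem relc_41_1 : fixPtsF W_41 18181 18181 = true := by decide +kernel

set_option maxRecDepth 1000000 in
theorem relc_42_3 : fixPtsF W_42 18181 54543 = true := by decide +kernel

set_option maxRecDepth 1000000 in
theorem relc_15_5 : fixPtsF W_15 12500 62500 = true := by decide +kernel

set_option maxRecDepth 1000000 in
theorem relc_20_4 : fixPtsF W_20 12500 50000 = true := by decide +kernel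

set_option maxRecDepth 1000000 in
theorem relc_40_3 : fixPtsF W_40 10000 30000 = true := by decide +kernel

set_option maxRecDepth 1000000 in
theorem relc_40_11 : fixPtsF W_40 10000 110000 = true := by decide +kernel

set_option maxRecDepth 1000000 in
theorem relc_20_9 : fixPtsF W_20 10260 112500 = true := by decide +kernel

set_option maxRecDepth 1000000 in
theorem relc_10_2 : fixPtsF W_10 22760 100000 = true := by decide +kernel

set_option maxRecDepth 1000000 in
theorem relc_19_2 : fixPtsF W_19 22760 100000 = true := by decide +kernel

set_option maxRecDepth 1000000 in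
theorem relc_33_2 : fixPtsF W_33 22760 100000 = true := by decide +kernel

set_option maxRecDepth 1000000 in
theorem inv_3_1 : invRowFI ctF 122760 3 3 50000 50000 = true := by decide +kernel

set_option maxRecDepth 1000000 in
theorem inv_7_1 : invRowFI ctF 122760 7 6 50000 50000 = true := by decide +kernel

set_option maxRecDepth 1000000 in
theorem conn_0 : connF ctF 8 50000 0 = true := by decide +kernel

set_option maxRecDepth 1000000 in
theorem inv_2_2 : invRowFI ctF 122760 2 2 22760 100000 = true := by decide +kernel

set_option maxRecDepth 1000000 in
theorem conn_2 : connF ctF 8 22760 100000 = true := by decide +kernel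

end Cfsg.Agent.Helper5.ONTC
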