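import Cfsg.Agent.Helper5.ONTCDatD
import Cfsg.Agent.Helper5.ONTCDatT
import Cfsg.Agent.Helper5.TCIB

/-! kernel checks of the coset table: ONTC -/

set_option autoImplicit false
set_option Elab.async false

namespace Cfsg.Agent.Helper5.ONTC
open Cfsg.Agent.Helper5.TC Cfsg.Agent.Helper5.TCI

set_option maxRecDepth 1000000 in
theorem relc_28_0 : fixPtsF W_28 100000 0 = true := by decide +kernel

set_option maxRecDepth 1000000 in
theorem relc_4_0 : fixPtsF W_4 50000 0 = true := by decide +kernel

set_option maxRecDepth 1000000 in
theorem relc_11_0 : fixPtsF W_11 50000 0 = true := by decide +kernel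

set_option maxRecDepth 1000000 in
theorem relc_18_0 : fixPtsF W_18 50000 0 = true := by decide +kernel

set_option maxRecDepth 1000000 in
theorem relc_25_0 : fixPtsF W_25 50000 0 = true := by decide +kernel

set_option maxRecDepth 1000000 in
theorem relc_32_0 : fixPtsF W_32 50000 0 = true := by decide +kernel

set_option maxRecDepth 1000000 in
theorem relc_1_2 : fixPtsF W_1 33333 66666 = true := by decide +kernel

set_option maxRecDepth 1000000 in
theorem relc_8_2 : fixPtsF W_8 33333 66666 = true := by decide +kernel

set_option maxRecDepth 1000000 in
theorem relc_27_1 : fixPtsF W_27 33333 33333 = true := by decide +kernel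

set_option maxRecDepth 1000000 in
theorem relc_37_0 : fixPtsF W_37 20000 0 = true := by decide +kernel

set_option maxRecDepth 1000000 in
theorem relc_38_0 : fixPtsF W_38 20000 0 = true := by decide +kernel

set_option maxRecDepth 1000000 in
theorem relc_39_2 : fixPtsF W_39 20000 40000 = true := by decide +kernel

set_option maxRecDepth 1000000 in
theorem relc_41_4 : fixPtsF W_41 18181 72724 = true := by decide +kernel

set_option maxRecDepth 1000000 in
theorem relc_15_0 : fixPtsF W_15 12500 0 = true := by decide +kernel

set_option maxRecDepth 1000000 in
theorem relc_15_8 : fixPtsF W_15 12500 100000 = true := by decide +kernel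

set_option maxRecDepth 1000000 in
theorem relc_20_7 : fixPtsF W_20 12500 87500 = true := by decide +kernel

set_option maxRecDepth 1000000 in
theorem relc_40_8 : fixPtsF W_40 10000 80000 = true := by decide +kernel

set_option maxRecDepth 1000000 in
theorem relc_22_3 : fixPtsF W_22 22761 99999 = true := by decide +kernel

set_option maxRecDepth 1000000 in
theorem relc_2_2 : fixPtsF W_2 22760 100000 = true := by decide +kernel

set_option maxRecDepth 1000000 in
theorem relc_11_2 : fixPtsF W_11 22760 100000 = true := by decide +kernel

set_option maxRecDepth 1000000 in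
theorem relc_25_2 : fixPtsF W_25 22760 100000 = true := by decide +kernel

set_option maxRecDepth 1000000 in
theorem inv_0_1 : invRowFI ctF 122760 0 0 50000 50000 = true := by decide +kernel

set_option maxRecDepth 1000000 in
theorem inv_4_1 : invRowFI ctF 122760 4 4 50000 50000 = true := by decide +kernel

set_option maxRecDepth 1000000 in
theorem relc_14_1 : fixPtsF W_14 22760 100000 = true := by decide +kernel

set_option maxRecDepth 1000000 in
theorem inv_0_2 : invRowFI ctF 122760 0 0 22760 100000 = true := by decide +kernel

set_option maxRecDepth 1000000 in
theorem inv_7_2 : invRowFI ctF 122760 7 6 22760 100000 = true := by decide +kernel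

end Cfsg.Agent.Helper5.ONTC
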