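import Cfsg.Agent.Helper5.ONTCDatD
import Cfsg.Agent.Helper5.ONTCDatT
import Cfsg.Agent.Helper5.TCIB

/-! kernel checks of the coset table: ONTC -/

set_option autoImplicit false
set_option Elab.async false

namespace Cfsg.Agent.Helper5.ONTC
open Cfsg.Agent.Helper5.TC Cfsg.Agent.Helper5.TCI

set_option maxRecDepth 1000000 in
theorem relc_35_0 : fixPtsF W_35 100000 0 = true := by decide +kernel

set_option maxRecDepth 1000000 in
theorem relc_4_1 : fixPtsF W_4 50000 50000 = true := by decide +kernel

set_option maxRecDepth 1000000 in
theorem relc_11_1 : fixPtsF W_11 50000 50000 = true := by decide +kernel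

set_option maxRecDepth 1000000 in
theorem relc_18_1 : fixPtsF W_18 50000 50000 = true := by decide +kernel

set_option maxRecDepth 1000000 in
theorem relc_25_1 : fixPtsF W_25 50000 50000 = true := by decide +kernel

set_option maxRecDepth 1000000 in
theorem relc_32_1 : fixPtsF W_32 50000 50000 = true := by decide +kernel

set_option maxRecDepth 1000000 in
theorem relc_6_0 : fixPtsF W_6 33333 0 = true := by decide +kernel

set_option maxRecDepth 1000000 in
theorem relc_13_0 : fixPtsF W_13 33333 0 = true := by decide +kernel

set_option maxRecDepth 1000000 in
theorem relc_27_2 : fixPtsF W_27 33333 66666 = true := by decide +kernel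

set_option maxRecDepth 1000000 in
theorem relc_37_1 : fixPtsF W_37 20000 20000 = true := by decide +kernel

set_option maxRecDepth 1000000 in
theorem relc_38_1 : fixPtsF W_38 20000 20000 = true := by decide +kernel

set_option maxRecDepth 1000000 in
theorem relc_39_3 : fixPtsF W_39 20000 60000 = true := by decide +kernel

set_option maxRecDepth 1000000 in
theorem relc_41_5 : fixPtsF W_41 18181 90905 = true := by decide +kernel

set_option maxRecDepth 1000000 in
theorem relc_15_1 : fixPtsF W_15 12500 12500 = true := by decide +kernel

set_option maxRecDepth 1000000 in
theorem relc_20_0 : fixPtsF W_20 12500 0 = true := by decide +kernel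

set_option maxRecDepth 1000000 in
theorem relc_20_8 : fixPtsF W_20 12500 100000 = true := by decide +kernel

set_option maxRecDepth 1000000 in
theorem relc_40_9 : fixPtsF W_40 10000 90000 = true := by decide +kernel

set_option maxRecDepth 1000000 in
theorem relc_27_3 : fixPtsF W_27 22761 99999 = true := by decide +kernel

set_option maxRecDepth 1000000 in
theorem relc_3_2 : fixPtsF W_3 22760 100000 = true := by decide +kernel

set_option maxRecDepth 1000000 in
theorem relc_12_2 : fixPtsF W_12 22760 100000 = true := by decide +kernel

set_option maxRecDepth 1000000 in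
theorem relc_26_2 : fixPtsF W_26 22760 100000 = true := by decide +kernel

set_option maxRecDepth 1000000 in
theorem inv_1_0 : invRowFI ctF 122760 1 1 50000 0 = true := by decide +kernel

set_option maxRecDepth 1000000 in
theorem inv_5_0 : invRowFI ctF 122760 5 5 50000 0 = true := by decide +kernel

set_option maxRecDepth 1000000 in
theorem relc_21_1 : fixPtsF W_21 22760 100000 = true := by decide +kernel

set_option maxRecDepth 1000000 in
theorem inv_1_2 : invRowFI ctF 122760 1 1 22760 100000 = true := by decide +kernel

set_option maxRecDepth 1000000 in
theorem relc_40_12 : fixPtsF W_40 2760 120000 = true := by decide +kernel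

end Cfsg.Agent.Helper5.ONTC
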