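import Cfsg.Agent.Helper5.ONTCDatD
import Cfsg.Agent.Helper5.ONTCDatT
import Cfsg.Agent.Helper5.TCIB

/-! kernel checks of the coset table: ONTC -/

set_option autoImplicit false
set_option Elab.async false

namespace Cfsg.Agent.Helper5.ONTC
open Cfsg.Agent.Helper5.TC Cfsg.Agent.Helper5.TCI

set_option maxRecDepth 1000000 in
theorem relc_43_0 : fixPtsF W_43 100000 0 = true := by decide +kernel

set_option maxRecDepth 1000000 in
theorem relc_5_0 : fixPtsF W_5 50000 0 = true := by decide +kernel

set_option maxRecDepth 1000000 in
theorem relc_12_0 : fixPtsF W_12 50000 0 = true := by decide +kernel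

set_option maxRecDepth 1000000 in
theorem relc_19_0 : fixPtsF W_19 50000 0 = true := by decide +kernel

set_option maxRecDepth 1000000 in
theorem relc_26_0 : fixPtsF W_26 50000 0 = true := by decide +kernel

set_option maxRecDepth 1000000 in
theorem relc_33_0 : fixPtsF W_33 50000 0 = true := by decide +kernel

set_option maxRecDepth 1000000 in
theorem relc_6_1 : fixPtsF W_6 33333 33333 = true := by decide +kernel

set_option maxRecDepth 1000000 in
theorem relc_13_1 : fixPtsF W_13 33333 33333 = true := by decide +kernel

set_option maxRecDepth 1000000 in
theorem relc_29_0 : fixPtsF W_29 33333 0 = true := by decide +kernel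

set_option maxRecDepth 1000000 in
theorem relc_37_2 : fixPtsF W_37 20000 40000 = true := by decide +kernel

set_option maxRecDepth 1000000 in
theorem relc_38_2 : fixPtsF W_38 20000 40000 = true := by decide +kernel

set_option maxRecDepth 1000000 in
theorem relc_39_4 : fixPtsF W_39 20000 80000 = true := by decide +kernel

set_option maxRecDepth 1000000 in
theorem relc_42_0 : fixPtsF W_42 18181 0 = true := by decide +kernel

set_option maxRecDepth 1000000 in
theorem relc_15_2 : fixPtsF W_15 12500 25000 = true := by decide +kernel

set_option maxRecDepth 1000000 in
theorem relc_20_1 : fixPtsF W_20 12500 12500 = true := by decide +kernel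

set_option maxRecDepth 1000000 in
theorem relc_40_0 : fixPtsF W_40 10000 0 = true := by decide +kernel

set_option maxRecDepth 1000000 in
theorem relc_40_6 : fixPtsF W_40 10000 60000 = true := by decide +kernel

set_option maxRecDepth 1000000 in
theorem relc_8_3 : fixPtsF W_8 22761 99999 = true := by decide +kernel

set_option maxRecDepth 1000000 in
theorem relc_41_6 : fixPtsF W_41 13674 109086 = true := by decide +kernel

set_option maxRecDepth 1000000 in
theorem relc_23_2 : fixPtsF W_23 22760 100000 = true := by decide +kernel

set_option maxRecDepth 1000000 in
theorem relc_36_2 : fixPtsF W_36 22760 100000 = true := by decide +kernel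

set_option maxRecDepth 1000000 in
theorem inv_4_0 : invRowFI ctF 122760 4 4 50000 0 = true := by decide +kernel

set_option maxRecDepth 1000000 in
theorem relc_0_1 : fixPtsF W_0 22760 100000 = true := by decide +kernel

set_option maxRecDepth 1000000 in
theorem relc_7_1 : fixPtsF W_7 22760 100000 = true := by decide +kernel

set_option maxRecDepth 1000000 in
theorem conn_1 : connF ctF 8 50000 50000 = true := by decide +kernel

end Cfsg.Agent.Helper5.ONTC
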