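import Cfsg.Agent.Helper5.ONTCDatD
import Cfsg.Agent.Helper5.ONTCDatT
import Cfsg.Agent.Helper5.TCIB

/-! kernel checks of the coset table: ONTC -/

set_option autoImplicit false
set_option Elab.async false

namespace Cfsg.Agent.Helper5.ONTC
open Cfsg.Agent.Helper5.TC Cfsg.Agent.Helper5.TCI

set_option maxRecDepth 1000000 in
theorem relc_44_0 : fixPtsF W_44 100000 0 = true := by decide +kernel

set_option maxRecDepth 1000000 in
theorem relc_5_1 : fixPtsF W_5 50000 50000 = true := by decide +kernel

set_option maxRecDepth 1000000 in
theorem relc_12_1 : fixPtsF W_12 50000 50000 = true := by decide +kernel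

set_option maxRecDepth 1000000 in
theorem relc_19_1 : fixPtsF W_19 50000 50000 = true := by decide +kernel

set_option maxRecDepth 1000000 in
theorem relc_26_1 : fixPtsF W_26 50000 50000 = true := by decide +kernel

set_option maxRecDepth 1000000 in
theorem relc_33_1 : fixPtsF W_33 50000 50000 = true := by decide +kernel

set_option maxRecDepth 1000000 in
theorem relc_6_2 : fixPtsF W_6 33333 66666 = true := by decide +kernel

set_option maxRecDepth 1000000 in
theorem relc_13_2 : fixPtsF W_13 33333 66666 = true := by decide +kernel

set_option maxRecDepth 1000000 in
theorem relc_29_1 : fixPtsF W_29 33333 33333 = true := by decide +kernel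

set_option maxRecDepth 1000000 in
theorem relc_37_3 : fixPtsF W_37 20000 60000 = true := by decide +kernel

set_option maxRecDepth 1000000 in
theorem relc_38_3 : fixPtsF W_38 20000 60000 = true := by decide +kernel

set_option maxRecDepth 1000000 in
theorem relc_39_5 : fixPtsF W_39 20000 100000 = true := by decide +kernel

set_option maxRecDepth 1000000 in
theorem relc_42_1 : fixPtsF W_42 18181 18181 = true := by decide +kernel

set_option maxRecDepth 1000000 in
theorem relc_15_3 : fixPtsF W_15 12500 37500 = true := by decide +kernel

set_option maxRecDepth 1000000 in
theorem relc_20_2 : fixPtsF W_20 12500 25000 = true := by decide +kernel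

set_option maxRecDepth 1000000 in
theorem relc_40_1 : fixPtsF W_40 10000 10000 = true := by decide +kernel

set_option maxRecDepth 1000000 in
theorem relc_40_7 : fixPtsF W_40 10000 70000 = true := by decide +kernel

set_option maxRecDepth 1000000 in
theorem relc_13_3 : fixPtsF W_13 22761 99999 = true := by decide +kernel

set_option maxRecDepth 1000000 in
theorem relc_42_6 : fixPtsF W_42 13674 109086 = true := by decide +kernel

set_option maxRecDepth 1000000 in
theorem relc_24_2 : fixPtsF W_24 22760 100000 = true := by decide +kernel

set_option maxRecDepth 1000000 in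
theorem inv_0_0 : invRowFI ctF 122760 0 0 50000 0 = true := by decide +kernel

set_option maxRecDepth 1000000 in
theorem inv_2_1 : invRowFI ctF 122760 2 2 50000 50000 = true := by decide +kernel

set_option maxRecDepth 1000000 in
theorem inv_6_1 : invRowFI ctF 122760 6 7 50000 50000 = true := by decide +kernel

set_option maxRecDepth 1000000 in
theorem relc_43_1 : fixPtsF W_43 22760 100000 = true := by decide +kernel

set_option maxRecDepth 1000000 in
theorem inv_5_2 : invRowFI ctF 122760 5 5 22760 100000 = true := by decide +kernel

set_option maxRecDepth 1000000 in
theorem relc_39_6 : fixPtsF W_39 2760 120000 = true := by decide +kernel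

end Cfsg.Agent.Helper5.ONTC
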