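import Cfsg.Agent.Helper5.ONTCChkE0
import Cfsg.Agent.Helper5.ONTCChkE1
import Cfsg.Agent.Helper5.ONTCChkE2
import Cfsg.Agent.Helper5.ONTCChkE3
import Cfsg.Agent.Helper5.ONTCChkE4
import Cfsg.Agent.Helper5.ONTCChkE5
import Cfsg.Agent.Helper5.ONTCChkE6
import Cfsg.Agent.Helper5.ONTCChkE7
import Cfsg.Agent.Helper5.ONTCChkR0
import Cfsg.Agent.Helper5.ONTCChkR1
import Cfsg.Agent.Helper5.ONTCChkR2
import Cfsg.Agent.Helper5.ONTCChkR3
import Cfsg.Agent.Helper5.ONTCChkR4
import Cfsg.Agent.Helper5.ONTCChkR5
import Cfsg.Agent.Helper5.ONTCChkR6
import Cfsg.Agent.Helper5.ONTCChkR7
import Cfsg.Agent.Helper5.ONTCChkA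
import Cfsg.Agent.Helper5.TCIB

/-! summary of the kernel checks: ONTC -/

set_option autoImplicit false
set_option Elab.async false

namespace Cfsg.Agent.Helper5.ONTC
open Cfsg.Agent.Helper5.TC Cfsg.Agent.Helper5.TCI

theorem edgesx_0 : ∀ v, v < 213962 → edgeOKI iota E 0 v = true := by
  intro v hv
  rcases Nat.lt_or_ge v 114113 with h | h
  · rcases Nat.lt_or_ge v 56774 with h | h
    · rcases Nat.lt_or_ge v 27114 with h | h
      · rcases Nat.lt_or_ge v 12483 with h | h
        · rcases Nat.lt_or_ge v 5040 with h | h
          · rcases Nat.lt_or_ge v 2446 with h | h
            · exact edgesRangeI_spec iota E 0 2446 0 edges_0_0 v (by omega) (by omega)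
            · exact edgesRangeI_spec iota E 0 2594 2446 edges_0_1 v (by omega) (by omega)
          · rcases Nat.lt_or_ge v 7591 with h | h
            · exact edgesRangeI_spec iota E 0 2551 5040 edges_0_2 v (by omega) (by omega)
            · rcases Nat.lt_or_ge v 10104 with h | h
              · exact edgesRangeI_spec iota E 0 2513 7591 edges_0_3 v (by omega) (by omega)
              · exact edgesRangeI_spec iota E 0 2379 10104 edges_0_4 v (by omega) (by omega)
        · rcases Nat.lt_or_ge v 19940 with h | h
          · rcases Nat.lt_or_ge v 14962 with h | h
            · exact edgesRangeI_spec iota E 0 2479 12483 edges_0_5 v (by omega) (by omega)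
            · rcases Nat.lt_or_ge v 17462 with h | h
              · exact edgesRangeI_spec iota E 0 2500 14962 edges_0_6 v (by omega) (by omega)
              · exact edgesRangeI_spec iota E 0 2478 17462 edges_0_7 v (by omega) (by omega)
          · rcases Nat.lt_or_ge v 22451 with h | h
            · exact edgesRangeI_spec iota E 0 2511 19940 edges_0_8 v (by omega) (by omega)
            · rcases Nat.lt_or_ge v 24883 with h | h
              · exact edgesRangeI_spec iota E 0 2432 22451 edges_0_9 v (by omega) (by omega)
              · exact edgesRangeI_spec iota E 0 2231 24883 edges_0_10 v (by omega) (by omega)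
      · rcases Nat.lt_or_ge v 42221 with h | h
        · rcases Nat.lt_or_ge v 34608 with h | h
          · rcases Nat.lt_or_ge v 29545 with h | h
            · exact edgesRangeI_spec iota E 0 2431 27114 edges_0_11 v (by omega) (by omega)
            · rcases Nat.lt_or_ge v 32118 with h | h
              · exact edgesRangeI_spec iota E 0 2573 29545 edges_0_12 v (by omega) (by omega)
              · exact edgesRangeI_spec iota E 0 2490 32118 edges_0_13 v (by omega) (by omega)
          · rcases Nat.lt_or_ge v 37197 with h | h
            · exact edgesRangeI_spec iota E 0 2589 34608 edges_0_14 v (by omega) (by omega)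
            · rcases Nat.lt_or_ge v 39805 with h | h
              · exact edgesRangeI_spec iota E 0 2608 37197 edges_0_15 v (by omega) (by omega)
              · exact edgesRangeI_spec iota E 0 2416 39805 edges_0_16 v (by omega) (by omega)
        · rcases Nat.lt_or_ge v 49585 with h | h
          · rcases Nat.lt_or_ge v 44687 with h | h
            · exact edgesRangeI_spec iota E 0 2466 42221 edges_0_17 v (by omega) (by omega)
            · rcases Nat.lt_or_ge v 47163 with h | h
              · exact edgesRangeI_spec iota E 0 2476 44687 edges_0_18 v (by omega) (by omega)
              · exact edgesRangeI_spec iota E 0 2422 47163 edges_0_19 v (by omega) (by omega)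
          · rcases Nat.lt_or_ge v 51947 with h | h
            · exact edgesRangeI_spec iota E 0 2362 49585 edges_0_20 v (by omega) (by omega)
            · rcases Nat.lt_or_ge v 54161 with h | h
              · exact edgesRangeI_spec iota E 0 2214 51947 edges_0_21 v (by omega) (by omega)
              · exact edgesRangeI_spec iota E 0 2613 54161 edges_0_22 v (by omega) (by omega)
    · rcases Nat.lt_or_ge v 85404 with h | h
      · rcases Nat.lt_or_ge v 69470 with h | h
        · rcases Nat.lt_or_ge v 61831 with h | h
          · rcases Nat.lt_or_ge v 59162 with h | h
            · exact edgesRangeI_spec iota E 0 2388 56774 edges_0_23 v (by omega) (by omega)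
            · exact edgesRangeI_spec iota E 0 2669 59162 edges_0_24 v (by omega) (by omega)
          · rcases Nat.lt_or_ge v 64475 with h | h
            · exact edgesRangeI_spec iota E 0 2644 61831 edges_0_25 v (by omega) (by omega)
            · rcases Nat.lt_or_ge v 67021 with h | h
              · exact edgesRangeI_spec iota E 0 2546 64475 edges_0_26 v (by omega) (by omega)
              · exact edgesRangeI_spec iota E 0 2449 67021 edges_0_27 v (by omega) (by omega)
        · rcases Nat.lt_or_ge v 77245 with h | h
          · rcases Nat.lt_or_ge v 72201 with h | h
            · exact edgesRangeI_spec iota E 0 2731 69470 edges_0_28 v (by omega) (by omega)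
            · rcases Nat.lt_or_ge v 74626 with h | h
              · exact edgesRangeI_spec iota E 0 2425 72201 edges_0_29 v (by omega) (by omega)
              · exact edgesRangeI_spec iota E 0 2619 74626 edges_0_30 v (by omega) (by omega)
          · rcases Nat.lt_or_ge v 80095 with h | h
            · exact edgesRangeI_spec iota E 0 2850 77245 edges_0_31 v (by omega) (by omega)
            · rcases Nat.lt_or_ge v 82862 with h | h
              · exact edgesRangeI_spec iota E 0 2767 80095 edges_0_32 v (by omega) (by omega)
              · exact edgesRangeI_spec iota E 0 2542 82862 edges_0_33 v (by omega) (by omega)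
      · rcases Nat.lt_or_ge v 100195 with h | h
        · rcases Nat.lt_or_ge v 92970 with h | h
          · rcases Nat.lt_or_ge v 87947 with h | h
            · exact edgesRangeI_spec iota E 0 2543 85404 edges_0_34 v (by omega) (by omega)
            · rcases Nat.lt_or_ge v 90495 with h | h
              · exact edgesRangeI_spec iota E 0 2548 87947 edges_0_35 v (by omega) (by omega)
              · exact edgesRangeI_spec iota E 0 2475 90495 edges_0_36 v (by omega) (by omega)
          · rcases Nat.lt_or_ge v 95449 with h | h
            · exact edgesRangeI_spec iota E 0 2479 92970 edges_0_37 v (by omega) (by omega)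
            · rcases Nat.lt_or_ge v 97823 with h | h
              · exact edgesRangeI_spec iota E 0 2374 95449 edges_0_38 v (by omega) (by omega)
              · exact edgesRangeI_spec iota E 0 2372 97823 edges_0_39 v (by omega) (by omega)
        · rcases Nat.lt_or_ge v 107146 with h | h
          · rcases Nat.lt_or_ge v 102639 with h | h
            · exact edgesRangeI_spec iota E 0 2444 100195 edges_0_40 v (by omega) (by omega)
            · rcases Nat.lt_or_ge v 104937 with h | h
              · exact edgesRangeI_spec iota E 0 2298 102639 edges_0_41 v (by omega) (by omega)
              · exact edgesRangeI_spec iota E 0 2209 104937 edges_0_42 v (by omega) (by omega)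
          · rcases Nat.lt_or_ge v 109365 with h | h
            · exact edgesRangeI_spec iota E 0 2219 107146 edges_0_43 v (by omega) (by omega)
            · rcases Nat.lt_or_ge v 111734 with h | h
              · exact edgesRangeI_spec iota E 0 2369 109365 edges_0_44 v (by omega) (by omega)
              · exact edgesRangeI_spec iota E 0 2379 111734 edges_0_45 v (by omega) (by omega)
  · rcases Nat.lt_or_ge v 172944 with h | h
    · rcases Nat.lt_or_ge v 141254 with h | h
      · rcases Nat.lt_or_ge v 126374 with h | h
        · rcases Nat.lt_or_ge v 118988 with h | h
          · rcases Nat.lt_or_ge v 116591 with h | h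
            · exact edgesRangeI_spec iota E 0 2478 114113 edges_0_46 v (by omega) (by omega)
            · exact edgesRangeI_spec iota E 0 2397 116591 edges_0_47 v (by omega) (by omega)
          · rcases Nat.lt_or_ge v 121327 with h | h
            · exact edgesRangeI_spec iota E 0 2339 118988 edges_0_48 v (by omega) (by omega)
            · rcases Nat.lt_or_ge v 123668 with h | h
              · exact edgesRangeI_spec iota E 0 2341 121327 edges_0_49 v (by omega) (by omega)
              · exact edgesRangeI_spec iota E 0 2706 123668 edges_0_50 v (by omega) (by omega)
        · rcases Nat.lt_or_ge v 133961 with h | h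
          · rcases Nat.lt_or_ge v 128850 with h | h
            · exact edgesRangeI_spec iota E 0 2476 126374 edges_0_51 v (by omega) (by omega)
            · rcases Nat.lt_or_ge v 131391 with h | h
              · exact edgesRangeI_spec iota E 0 2541 128850 edges_0_52 v (by omega) (by omega)
              · exact edgesRangeI_spec iota E 0 2570 131391 edges_0_53 v (by omega) (by omega)
          · rcases Nat.lt_or_ge v 136427 with h | h
            · exact edgesRangeI_spec iota E 0 2466 133961 edges_0_54 v (by omega) (by omega)
            · rcases Nat.lt_or_ge v 138793 with h | h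
              · exact edgesRangeI_spec iota E 0 2366 136427 edges_0_55 v (by omega) (by omega)
              · exact edgesRangeI_spec iota E 0 2461 138793 edges_0_56 v (by omega) (by omega)
      · rcases Nat.lt_or_ge v 156985 with h | h
        · rcases Nat.lt_or_ge v 148670 with h | h
          · rcases Nat.lt_or_ge v 143825 with h | h
            · exact edgesRangeI_spec iota E 0 2571 141254 edges_0_57 v (by omega) (by omega)
            · rcases Nat.lt_or_ge v 146286 with h | h
              · exact edgesRangeI_spec iota E 0 2461 143825 edges_0_58 v (by omega) (by omega)
              · exact edgesRangeI_spec iota E 0 2384 146286 edges_0_59 v (by omega) (by omega)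
          · rcases Nat.lt_or_ge v 151283 with h | h
            · exact edgesRangeI_spec iota E 0 2613 148670 edges_0_60 v (by omega) (by omega)
            · rcases Nat.lt_or_ge v 154108 with h | h
              · exact edgesRangeI_spec iota E 0 2825 151283 edges_0_61 v (by omega) (by omega)
              · exact edgesRangeI_spec iota E 0 2877 154108 edges_0_62 v (by omega) (by omega)
        · rcases Nat.lt_or_ge v 165332 with h | h
          · rcases Nat.lt_or_ge v 159934 with h | h
            · exact edgesRangeI_spec iota E 0 2949 156985 edges_0_63 v (by omega) (by omega)
            · rcases Nat.lt_or_ge v 162709 with h | h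
              · exact edgesRangeI_spec iota E 0 2775 159934 edges_0_64 v (by omega) (by omega)
              · exact edgesRangeI_spec iota E 0 2623 162709 edges_0_65 v (by omega) (by omega)
          · rcases Nat.lt_or_ge v 168018 with h | h
            · exact edgesRangeI_spec iota E 0 2686 165332 edges_0_66 v (by omega) (by omega)
            · rcases Nat.lt_or_ge v 170600 with h | h
              · exact edgesRangeI_spec iota E 0 2582 168018 edges_0_67 v (by omega) (by omega)
              · exact edgesRangeI_spec iota E 0 2344 170600 edges_0_68 v (by omega) (by omega)
    · rcases Nat.lt_or_ge v 194161 with h | h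
      · rcases Nat.lt_or_ge v 183434 with h | h
        · rcases Nat.lt_or_ge v 177855 with h | h
          · rcases Nat.lt_or_ge v 175570 with h | h
            · exact edgesRangeI_spec iota E 0 2626 172944 edges_0_69 v (by omega) (by omega)
            · exact edgesRangeI_spec iota E 0 2285 175570 edges_0_70 v (by omega) (by omega)
          · rcases Nat.lt_or_ge v 179716 with h | h
            · exact edgesRangeI_spec iota E 0 1861 177855 edges_0_71 v (by omega) (by omega)
            · rcases Nat.lt_or_ge v 181601 with h | h
              · exact edgesRangeI_spec iota E 0 1885 179716 edges_0_72 v (by omega) (by omega)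
              · exact edgesRangeI_spec iota E 0 1833 181601 edges_0_73 v (by omega) (by omega)
        · rcases Nat.lt_or_ge v 188816 with h | h
          · rcases Nat.lt_or_ge v 185247 with h | h
            · exact edgesRangeI_spec iota E 0 1813 183434 edges_0_74 v (by omega) (by omega)
            · rcases Nat.lt_or_ge v 187031 with h | h
              · exact edgesRangeI_spec iota E 0 1784 185247 edges_0_75 v (by omega) (by omega)
              · exact edgesRangeI_spec iota E 0 1785 187031 edges_0_76 v (by omega) (by omega)
          · rcases Nat.lt_or_ge v 190577 with h | h
            · exact edgesRangeI_spec iota E 0 1761 188816 edges_0_77 v (by omega) (by omega)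
            · rcases Nat.lt_or_ge v 192375 with h | h
              · exact edgesRangeI_spec iota E 0 1798 190577 edges_0_78 v (by omega) (by omega)
              · exact edgesRangeI_spec iota E 0 1786 192375 edges_0_79 v (by omega) (by omega)
      · rcases Nat.lt_or_ge v 204626 with h | h
        · rcases Nat.lt_or_ge v 199482 with h | h
          · rcases Nat.lt_or_ge v 195976 with h | h
            · exact edgesRangeI_spec iota E 0 1815 194161 edges_0_80 v (by omega) (by omega)
            · rcases Nat.lt_or_ge v 197747 with h | h
              · exact edgesRangeI_spec iota E 0 1771 195976 edges_0_81 v (by omega) (by omega)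
              · exact edgesRangeI_spec iota E 0 1735 197747 edges_0_82 v (by omega) (by omega)
          · rcases Nat.lt_or_ge v 201196 with h | h
            · exact edgesRangeI_spec iota E 0 1714 199482 edges_0_83 v (by omega) (by omega)
            · rcases Nat.lt_or_ge v 202906 with h | h
              · exact edgesRangeI_spec iota E 0 1710 201196 edges_0_84 v (by omega) (by omega)
              · exact edgesRangeI_spec iota E 0 1720 202906 edges_0_85 v (by omega) (by omega)
        · rcases Nat.lt_or_ge v 209603 with h | h
          · rcases Nat.lt_or_ge v 206296 with h | h
            · exact edgesRangeI_spec iota E 0 1670 204626 edges_0_86 v (by omega) (by omega)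
            · rcases Nat.lt_or_ge v 207973 with h | h
              · exact edgesRangeI_spec iota E 0 1677 206296 edges_0_87 v (by omega) (by omega)
              · exact edgesRangeI_spec iota E 0 1630 207973 edges_0_88 v (by omega) (by omega)
          · rcases Nat.lt_or_ge v 211290 with h | h
            · exact edgesRangeI_spec iota E 0 1687 209603 edges_0_89 v (by omega) (by omega)
            · rcases Nat.lt_or_ge v 212906 with h | h
              · exact edgesRangeI_spec iota E 0 1616 211290 edges_0_90 v (by omega) (by omega)
              · exact edgesRangeI_spec iota E 0 1056 212906 edges_0_91 v (by omega) (by omega)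

theorem edgesx_1 : ∀ v, v < 213962 → edgeOKI iota E 1 v = true := by
  intro v hv
  rcases Nat.lt_or_ge v 125354 with h | h
  · rcases Nat.lt_or_ge v 64266 with h | h
    · rcases Nat.lt_or_ge v 29937 with h | h
      · rcases Nat.lt_or_ge v 14869 with h | h
        · rcases Nat.lt_or_ge v 6035 with h | h
          · rcases Nat.lt_or_ge v 3030 with h | h
            · exact edgesRangeI_spec iota E 1 3030 0 edges_1_0 v (by omega) (by omega)
            · exact edgesRangeI_spec iota E 1 3005 3030 edges_1_1 v (by omega) (by omega)
          · rcases Nat.lt_or_ge v 9060 with h | h
            · exact edgesRangeI_spec iota E 1 3025 6035 edges_1_2 v (by omega) (by omega)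
            · rcases Nat.lt_or_ge v 11925 with h | h
              · exact edgesRangeI_spec iota E 1 2865 9060 edges_1_3 v (by omega) (by omega)
              · exact edgesRangeI_spec iota E 1 2944 11925 edges_1_4 v (by omega) (by omega)
        · rcases Nat.lt_or_ge v 20933 with h | h
          · rcases Nat.lt_or_ge v 17898 with h | h
            · exact edgesRangeI_spec iota E 1 3029 14869 edges_1_5 v (by omega) (by omega)
            · exact edgesRangeI_spec iota E 1 3035 17898 edges_1_6 v (by omega) (by omega)
          · rcases Nat.lt_or_ge v 24220 with h | h
            · exact edgesRangeI_spec iota E 1 3287 20933 edges_1_7 v (by omega) (by omega)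
            · rcases Nat.lt_or_ge v 26820 with h | h
              · exact edgesRangeI_spec iota E 1 2600 24220 edges_1_8 v (by omega) (by omega)
              · exact edgesRangeI_spec iota E 1 3117 26820 edges_1_9 v (by omega) (by omega)
      · rcases Nat.lt_or_ge v 45596 with h | h
        · rcases Nat.lt_or_ge v 36079 with h | h
          · rcases Nat.lt_or_ge v 33045 with h | h
            · exact edgesRangeI_spec iota E 1 3108 29937 edges_1_10 v (by omega) (by omega)
            · exact edgesRangeI_spec iota E 1 3034 33045 edges_1_11 v (by omega) (by omega)
          · rcases Nat.lt_or_ge v 39572 with h | h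
            · exact edgesRangeI_spec iota E 1 3493 36079 edges_1_12 v (by omega) (by omega)
            · rcases Nat.lt_or_ge v 42611 with h | h
              · exact edgesRangeI_spec iota E 1 3039 39572 edges_1_13 v (by omega) (by omega)
              · exact edgesRangeI_spec iota E 1 2985 42611 edges_1_14 v (by omega) (by omega)
        · rcases Nat.lt_or_ge v 54565 with h | h
          · rcases Nat.lt_or_ge v 48718 with h | h
            · exact edgesRangeI_spec iota E 1 3122 45596 edges_1_15 v (by omega) (by omega)
            · rcases Nat.lt_or_ge v 51630 with h | h
              · exact edgesRangeI_spec iota E 1 2912 48718 edges_1_16 v (by omega) (by omega)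
              · exact edgesRangeI_spec iota E 1 2935 51630 edges_1_17 v (by omega) (by omega)
          · rcases Nat.lt_or_ge v 57835 with h | h
            · exact edgesRangeI_spec iota E 1 3270 54565 edges_1_18 v (by omega) (by omega)
            · rcases Nat.lt_or_ge v 60936 with h | h
              · exact edgesRangeI_spec iota E 1 3101 57835 edges_1_19 v (by omega) (by omega)
              · exact edgesRangeI_spec iota E 1 3330 60936 edges_1_20 v (by omega) (by omega)
    · rcases Nat.lt_or_ge v 96072 with h | h
      · rcases Nat.lt_or_ge v 80699 with h | h
        · rcases Nat.lt_or_ge v 70739 with h | h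
          · rcases Nat.lt_or_ge v 67546 with h | h
            · exact edgesRangeI_spec iota E 1 3280 64266 edges_1_21 v (by omega) (by omega)
            · exact edgesRangeI_spec iota E 1 3193 67546 edges_1_22 v (by omega) (by omega)
          · rcases Nat.lt_or_ge v 73885 with h | h
            · exact edgesRangeI_spec iota E 1 3146 70739 edges_1_23 v (by omega) (by omega)
            · rcases Nat.lt_or_ge v 77212 with h | h
              · exact edgesRangeI_spec iota E 1 3327 73885 edges_1_24 v (by omega) (by omega)
              · exact edgesRangeI_spec iota E 1 3487 77212 edges_1_25 v (by omega) (by omega)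
        · rcases Nat.lt_or_ge v 87236 with h | h
          · rcases Nat.lt_or_ge v 84117 with h | h
            · exact edgesRangeI_spec iota E 1 3418 80699 edges_1_26 v (by omega) (by omega)
            · exact edgesRangeI_spec iota E 1 3119 84117 edges_1_27 v (by omega) (by omega)
          · rcases Nat.lt_or_ge v 90272 with h | h
            · exact edgesRangeI_spec iota E 1 3036 87236 edges_1_28 v (by omega) (by omega)
            · rcases Nat.lt_or_ge v 93432 with h | h
              · exact edgesRangeI_spec iota E 1 3160 90272 edges_1_29 v (by omega) (by omega)
              · exact edgesRangeI_spec iota E 1 2640 93432 edges_1_30 v (by omega) (by omega)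
      · rcases Nat.lt_or_ge v 109198 with h | h
        · rcases Nat.lt_or_ge v 101617 with h | h
          · rcases Nat.lt_or_ge v 98836 with h | h
            · exact edgesRangeI_spec iota E 1 2764 96072 edges_1_31 v (by omega) (by omega)
            · exact edgesRangeI_spec iota E 1 2781 98836 edges_1_32 v (by omega) (by omega)
          · rcases Nat.lt_or_ge v 104136 with h | h
            · exact edgesRangeI_spec iota E 1 2519 101617 edges_1_33 v (by omega) (by omega)
            · rcases Nat.lt_or_ge v 106522 with h | h
              · exact edgesRangeI_spec iota E 1 2386 104136 edges_1_34 v (by omega) (by omega)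
              · exact edgesRangeI_spec iota E 1 2676 106522 edges_1_35 v (by omega) (by omega)
        · rcases Nat.lt_or_ge v 117418 with h | h
          · rcases Nat.lt_or_ge v 111993 with h | h
            · exact edgesRangeI_spec iota E 1 2795 109198 edges_1_36 v (by omega) (by omega)
            · rcases Nat.lt_or_ge v 114797 with h | h
              · exact edgesRangeI_spec iota E 1 2804 111993 edges_1_37 v (by omega) (by omega)
              · exact edgesRangeI_spec iota E 1 2621 114797 edges_1_38 v (by omega) (by omega)
          · rcases Nat.lt_or_ge v 119933 with h | h
            · exact edgesRangeI_spec iota E 1 2515 117418 edges_1_39 v (by omega) (by omega)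
            · rcases Nat.lt_or_ge v 122404 with h | h
              · exact edgesRangeI_spec iota E 1 2471 119933 edges_1_40 v (by omega) (by omega)
              · exact edgesRangeI_spec iota E 1 2950 122404 edges_1_41 v (by omega) (by omega)
  · rcases Nat.lt_or_ge v 181006 with h | h
    · rcases Nat.lt_or_ge v 152217 with h | h
      · rcases Nat.lt_or_ge v 138717 with h | h
        · rcases Nat.lt_or_ge v 130862 with h | h
          · rcases Nat.lt_or_ge v 128096 with h | h
            · exact edgesRangeI_spec iota E 1 2742 125354 edges_1_42 v (by omega) (by omega)
            · exact edgesRangeI_spec iota E 1 2766 128096 edges_1_43 v (by omega) (by omega)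
          · rcases Nat.lt_or_ge v 133530 with h | h
            · exact edgesRangeI_spec iota E 1 2668 130862 edges_1_44 v (by omega) (by omega)
            · rcases Nat.lt_or_ge v 136266 with h | h
              · exact edgesRangeI_spec iota E 1 2736 133530 edges_1_45 v (by omega) (by omega)
              · exact edgesRangeI_spec iota E 1 2451 136266 edges_1_46 v (by omega) (by omega)
        · rcases Nat.lt_or_ge v 144053 with h | h
          · rcases Nat.lt_or_ge v 141330 with h | h
            · exact edgesRangeI_spec iota E 1 2613 138717 edges_1_47 v (by omega) (by omega)
            · exact edgesRangeI_spec iota E 1 2723 141330 edges_1_48 v (by omega) (by omega)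
          · rcases Nat.lt_or_ge v 146664 with h | h
            · exact edgesRangeI_spec iota E 1 2611 144053 edges_1_49 v (by omega) (by omega)
            · rcases Nat.lt_or_ge v 149242 with h | h
              · exact edgesRangeI_spec iota E 1 2578 146664 edges_1_50 v (by omega) (by omega)
              · exact edgesRangeI_spec iota E 1 2975 149242 edges_1_51 v (by omega) (by omega)
      · rcases Nat.lt_or_ge v 166954 with h | h
        · rcases Nat.lt_or_ge v 158253 with h | h
          · rcases Nat.lt_or_ge v 155132 with h | h
            · exact edgesRangeI_spec iota E 1 2915 152217 edges_1_52 v (by omega) (by omega)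
            · exact edgesRangeI_spec iota E 1 3121 155132 edges_1_53 v (by omega) (by omega)
          · rcases Nat.lt_or_ge v 161259 with h | h
            · exact edgesRangeI_spec iota E 1 3006 158253 edges_1_54 v (by omega) (by omega)
            · rcases Nat.lt_or_ge v 164148 with h | h
              · exact edgesRangeI_spec iota E 1 2889 161259 edges_1_55 v (by omega) (by omega)
              · exact edgesRangeI_spec iota E 1 2806 164148 edges_1_56 v (by omega) (by omega)
        · rcases Nat.lt_or_ge v 174991 with h | h
          · rcases Nat.lt_or_ge v 169727 with h | h
            · exact edgesRangeI_spec iota E 1 2773 166954 edges_1_57 v (by omega) (by omega)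
            · rcases Nat.lt_or_ge v 172411 with h | h
              · exact edgesRangeI_spec iota E 1 2684 169727 edges_1_58 v (by omega) (by omega)
              · exact edgesRangeI_spec iota E 1 2580 172411 edges_1_59 v (by omega) (by omega)
          · rcases Nat.lt_or_ge v 177431 with h | h
            · exact edgesRangeI_spec iota E 1 2440 174991 edges_1_60 v (by omega) (by omega)
            · rcases Nat.lt_or_ge v 179234 with h | h
              · exact edgesRangeI_spec iota E 1 1803 177431 edges_1_61 v (by omega) (by omega)
              · exact edgesRangeI_spec iota E 1 1772 179234 edges_1_62 v (by omega) (by omega)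
    · rcases Nat.lt_or_ge v 199401 with h | h
      · rcases Nat.lt_or_ge v 189766 with h | h
        · rcases Nat.lt_or_ge v 184686 with h | h
          · rcases Nat.lt_or_ge v 182909 with h | h
            · exact edgesRangeI_spec iota E 1 1903 181006 edges_1_63 v (by omega) (by omega)
            · exact edgesRangeI_spec iota E 1 1777 182909 edges_1_64 v (by omega) (by omega)
          · rcases Nat.lt_or_ge v 186381 with h | h
            · exact edgesRangeI_spec iota E 1 1695 184686 edges_1_65 v (by omega) (by omega)
            · rcases Nat.lt_or_ge v 188041 with h | h
              · exact edgesRangeI_spec iota E 1 1660 186381 edges_1_66 v (by omega) (by omega)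
              · exact edgesRangeI_spec iota E 1 1725 188041 edges_1_67 v (by omega) (by omega)
        · rcases Nat.lt_or_ge v 194688 with h | h
          · rcases Nat.lt_or_ge v 191377 with h | h
            · exact edgesRangeI_spec iota E 1 1611 189766 edges_1_68 v (by omega) (by omega)
            · rcases Nat.lt_or_ge v 193068 with h | h
              · exact edgesRangeI_spec iota E 1 1691 191377 edges_1_69 v (by omega) (by omega)
              · exact edgesRangeI_spec iota E 1 1620 193068 edges_1_70 v (by omega) (by omega)
          · rcases Nat.lt_or_ge v 196307 with h | h
            · exact edgesRangeI_spec iota E 1 1619 194688 edges_1_71 v (by omega) (by omega)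
            · rcases Nat.lt_or_ge v 197829 with h | h
              · exact edgesRangeI_spec iota E 1 1522 196307 edges_1_72 v (by omega) (by omega)
              · exact edgesRangeI_spec iota E 1 1572 197829 edges_1_73 v (by omega) (by omega)
      · rcases Nat.lt_or_ge v 206972 with h | h
        · rcases Nat.lt_or_ge v 202403 with h | h
          · rcases Nat.lt_or_ge v 200918 with h | h
            · exact edgesRangeI_spec iota E 1 1517 199401 edges_1_74 v (by omega) (by omega)
            · exact edgesRangeI_spec iota E 1 1485 200918 edges_1_75 v (by omega) (by omega)
          · rcases Nat.lt_or_ge v 203912 with h | h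
            · exact edgesRangeI_spec iota E 1 1509 202403 edges_1_76 v (by omega) (by omega)
            · rcases Nat.lt_or_ge v 205473 with h | h
              · exact edgesRangeI_spec iota E 1 1561 203912 edges_1_77 v (by omega) (by omega)
              · exact edgesRangeI_spec iota E 1 1499 205473 edges_1_78 v (by omega) (by omega)
        · rcases Nat.lt_or_ge v 211122 with h | h
          · rcases Nat.lt_or_ge v 208395 with h | h
            · exact edgesRangeI_spec iota E 1 1423 206972 edges_1_79 v (by omega) (by omega)
            · rcases Nat.lt_or_ge v 209789 with h | h
              · exact edgesRangeI_spec iota E 1 1394 208395 edges_1_80 v (by omega) (by omega)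
              · exact edgesRangeI_spec iota E 1 1333 209789 edges_1_81 v (by omega) (by omega)
          · rcases Nat.lt_or_ge v 212456 with h | h
            · exact edgesRangeI_spec iota E 1 1334 211122 edges_1_82 v (by omega) (by omega)
            · rcases Nat.lt_or_ge v 213698 with h | h
              · exact edgesRangeI_spec iota E 1 1242 212456 edges_1_83 v (by omega) (by omega)
              · exact edgesRangeI_spec iota E 1 264 213698 edges_1_84 v (by omega) (by omega)

theorem edgesx_2 : ∀ v, v < 213962 → edgeOKI iota E 2 v = true := by
  intro v hv
  rcases Nat.lt_or_ge v 126167 with h | h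
  · rcases Nat.lt_or_ge v 64829 with h | h
    · rcases Nat.lt_or_ge v 31659 with h | h
      · rcases Nat.lt_or_ge v 14516 with h | h
        · rcases Nat.lt_or_ge v 5824 with h | h
          · rcases Nat.lt_or_ge v 2840 with h | h
            · exact edgesRangeI_spec iota E 2 2840 0 edges_2_0 v (by omega) (by omega)
            · exact edgesRangeI_spec iota E 2 2984 2840 edges_2_1 v (by omega) (by omega)
          · rcases Nat.lt_or_ge v 8891 with h | h
            · exact edgesRangeI_spec iota E 2 3067 5824 edges_2_2 v (by omega) (by omega)
            · rcases Nat.lt_or_ge v 11630 with h | h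
              · exact edgesRangeI_spec iota E 2 2739 8891 edges_2_3 v (by omega) (by omega)
              · exact edgesRangeI_spec iota E 2 2886 11630 edges_2_4 v (by omega) (by omega)
        · rcases Nat.lt_or_ge v 23399 with h | h
          · rcases Nat.lt_or_ge v 17622 with h | h
            · exact edgesRangeI_spec iota E 2 3106 14516 edges_2_5 v (by omega) (by omega)
            · rcases Nat.lt_or_ge v 20390 with h | h
              · exact edgesRangeI_spec iota E 2 2768 17622 edges_2_6 v (by omega) (by omega)
              · exact edgesRangeI_spec iota E 2 3009 20390 edges_2_7 v (by omega) (by omega)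
          · rcases Nat.lt_or_ge v 26000 with h | h
            · exact edgesRangeI_spec iota E 2 2601 23399 edges_2_8 v (by omega) (by omega)
            · rcases Nat.lt_or_ge v 28696 with h | h
              · exact edgesRangeI_spec iota E 2 2696 26000 edges_2_9 v (by omega) (by omega)
              · exact edgesRangeI_spec iota E 2 2963 28696 edges_2_10 v (by omega) (by omega)
      · rcases Nat.lt_or_ge v 48338 with h | h
        · rcases Nat.lt_or_ge v 40324 with h | h
          · rcases Nat.lt_or_ge v 34470 with h | h
            · exact edgesRangeI_spec iota E 2 2811 31659 edges_2_11 v (by omega) (by omega)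
            · rcases Nat.lt_or_ge v 37574 with h | h
              · exact edgesRangeI_spec iota E 2 3104 34470 edges_2_12 v (by omega) (by omega)
              · exact edgesRangeI_spec iota E 2 2750 37574 edges_2_13 v (by omega) (by omega)
          · rcases Nat.lt_or_ge v 42877 with h | h
            · exact edgesRangeI_spec iota E 2 2553 40324 edges_2_14 v (by omega) (by omega)
            · rcases Nat.lt_or_ge v 45834 with h | h
              · exact edgesRangeI_spec iota E 2 2957 42877 edges_2_15 v (by omega) (by omega)
              · exact edgesRangeI_spec iota E 2 2504 45834 edges_2_16 v (by omega) (by omega)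
        · rcases Nat.lt_or_ge v 56414 with h | h
          · rcases Nat.lt_or_ge v 50693 with h | h
            · exact edgesRangeI_spec iota E 2 2355 48338 edges_2_17 v (by omega) (by omega)
            · rcases Nat.lt_or_ge v 53468 with h | h
              · exact edgesRangeI_spec iota E 2 2775 50693 edges_2_18 v (by omega) (by omega)
              · exact edgesRangeI_spec iota E 2 2946 53468 edges_2_19 v (by omega) (by omega)
          · rcases Nat.lt_or_ge v 58783 with h | h
            · exact edgesRangeI_spec iota E 2 2369 56414 edges_2_20 v (by omega) (by omega)
            · rcases Nat.lt_or_ge v 61964 with h | h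
              · exact edgesRangeI_spec iota E 2 3181 58783 edges_2_21 v (by omega) (by omega)
              · exact edgesRangeI_spec iota E 2 2865 61964 edges_2_22 v (by omega) (by omega)
    · rcases Nat.lt_or_ge v 97663 with h | h
      · rcases Nat.lt_or_ge v 81866 with h | h
        · rcases Nat.lt_or_ge v 73092 with h | h
          · rcases Nat.lt_or_ge v 67555 with h | h
            · exact edgesRangeI_spec iota E 2 2726 64829 edges_2_23 v (by omega) (by omega)
            · rcases Nat.lt_or_ge v 70391 with h | h
              · exact edgesRangeI_spec iota E 2 2836 67555 edges_2_24 v (by omega) (by omega)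
              · exact edgesRangeI_spec iota E 2 2701 70391 edges_2_25 v (by omega) (by omega)
          · rcases Nat.lt_or_ge v 75577 with h | h
            · exact edgesRangeI_spec iota E 2 2485 73092 edges_2_26 v (by omega) (by omega)
            · rcases Nat.lt_or_ge v 78691 with h | h
              · exact edgesRangeI_spec iota E 2 3114 75577 edges_2_27 v (by omega) (by omega)
              · exact edgesRangeI_spec iota E 2 3175 78691 edges_2_28 v (by omega) (by omega)
        · rcases Nat.lt_or_ge v 89696 with h | h
          · rcases Nat.lt_or_ge v 84510 with h | h
            · exact edgesRangeI_spec iota E 2 2644 81866 edges_2_29 v (by omega) (by omega)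
            · rcases Nat.lt_or_ge v 86996 with h | h
              · exact edgesRangeI_spec iota E 2 2486 84510 edges_2_30 v (by omega) (by omega)
              · exact edgesRangeI_spec iota E 2 2700 86996 edges_2_31 v (by omega) (by omega)
          · rcases Nat.lt_or_ge v 92712 with h | h
            · exact edgesRangeI_spec iota E 2 3016 89696 edges_2_32 v (by omega) (by omega)
            · rcases Nat.lt_or_ge v 95289 with h | h
              · exact edgesRangeI_spec iota E 2 2577 92712 edges_2_33 v (by omega) (by omega)
              · exact edgesRangeI_spec iota E 2 2374 95289 edges_2_34 v (by omega) (by omega)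
      · rcases Nat.lt_or_ge v 111754 with h | h
        · rcases Nat.lt_or_ge v 104666 with h | h
          · rcases Nat.lt_or_ge v 99967 with h | h
            · exact edgesRangeI_spec iota E 2 2304 97663 edges_2_35 v (by omega) (by omega)
            · rcases Nat.lt_or_ge v 102297 with h | h
              · exact edgesRangeI_spec iota E 2 2330 99967 edges_2_36 v (by omega) (by omega)
              · exact edgesRangeI_spec iota E 2 2369 102297 edges_2_37 v (by omega) (by omega)
          · rcases Nat.lt_or_ge v 106912 with h | h
            · exact edgesRangeI_spec iota E 2 2246 104666 edges_2_38 v (by omega) (by omega)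
            · rcases Nat.lt_or_ge v 109231 with h | h
              · exact edgesRangeI_spec iota E 2 2319 106912 edges_2_39 v (by omega) (by omega)
              · exact edgesRangeI_spec iota E 2 2523 109231 edges_2_40 v (by omega) (by omega)
        · rcases Nat.lt_or_ge v 118678 with h | h
          · rcases Nat.lt_or_ge v 114154 with h | h
            · exact edgesRangeI_spec iota E 2 2400 111754 edges_2_41 v (by omega) (by omega)
            · rcases Nat.lt_or_ge v 116555 with h | h
              · exact edgesRangeI_spec iota E 2 2401 114154 edges_2_42 v (by omega) (by omega)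
              · exact edgesRangeI_spec iota E 2 2123 116555 edges_2_43 v (by omega) (by omega)
          · rcases Nat.lt_or_ge v 120994 with h | h
            · exact edgesRangeI_spec iota E 2 2316 118678 edges_2_44 v (by omega) (by omega)
            · rcases Nat.lt_or_ge v 123426 with h | h
              · exact edgesRangeI_spec iota E 2 2432 120994 edges_2_45 v (by omega) (by omega)
              · exact edgesRangeI_spec iota E 2 2741 123426 edges_2_46 v (by omega) (by omega)
  · rcases Nat.lt_or_ge v 182481 with h | h
    · rcases Nat.lt_or_ge v 154929 with h | h
      · rcases Nat.lt_or_ge v 140287 with h | h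
        · rcases Nat.lt_or_ge v 133661 with h | h
          · rcases Nat.lt_or_ge v 128610 with h | h
            · exact edgesRangeI_spec iota E 2 2443 126167 edges_2_47 v (by omega) (by omega)
            · rcases Nat.lt_or_ge v 131119 with h | h
              · exact edgesRangeI_spec iota E 2 2509 128610 edges_2_48 v (by omega) (by omega)
              · exact edgesRangeI_spec iota E 2 2542 131119 edges_2_49 v (by omega) (by omega)
          · rcases Nat.lt_or_ge v 135852 with h | h
            · exact edgesRangeI_spec iota E 2 2191 133661 edges_2_50 v (by omega) (by omega)
            · rcases Nat.lt_or_ge v 138046 with h | h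
              · exact edgesRangeI_spec iota E 2 2194 135852 edges_2_51 v (by omega) (by omega)
              · exact edgesRangeI_spec iota E 2 2241 138046 edges_2_52 v (by omega) (by omega)
        · rcases Nat.lt_or_ge v 147323 with h | h
          · rcases Nat.lt_or_ge v 142755 with h | h
            · exact edgesRangeI_spec iota E 2 2468 140287 edges_2_53 v (by omega) (by omega)
            · rcases Nat.lt_or_ge v 145101 with h | h
              · exact edgesRangeI_spec iota E 2 2346 142755 edges_2_54 v (by omega) (by omega)
              · exact edgesRangeI_spec iota E 2 2222 145101 edges_2_55 v (by omega) (by omega)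
          · rcases Nat.lt_or_ge v 149666 with h | h
            · exact edgesRangeI_spec iota E 2 2343 147323 edges_2_56 v (by omega) (by omega)
            · rcases Nat.lt_or_ge v 152306 with h | h
              · exact edgesRangeI_spec iota E 2 2640 149666 edges_2_57 v (by omega) (by omega)
              · exact edgesRangeI_spec iota E 2 2623 152306 edges_2_58 v (by omega) (by omega)
      · rcases Nat.lt_or_ge v 170094 with h | h
        · rcases Nat.lt_or_ge v 162609 with h | h
          · rcases Nat.lt_or_ge v 157600 with h | h
            · exact edgesRangeI_spec iota E 2 2671 154929 edges_2_59 v (by omega) (by omega)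
            · rcases Nat.lt_or_ge v 160183 with h | h
              · exact edgesRangeI_spec iota E 2 2583 157600 edges_2_60 v (by omega) (by omega)
              · exact edgesRangeI_spec iota E 2 2426 160183 edges_2_61 v (by omega) (by omega)
          · rcases Nat.lt_or_ge v 164953 with h | h
            · exact edgesRangeI_spec iota E 2 2344 162609 edges_2_62 v (by omega) (by omega)
            · rcases Nat.lt_or_ge v 167512 with h | h
              · exact edgesRangeI_spec iota E 2 2559 164953 edges_2_63 v (by omega) (by omega)
              · exact edgesRangeI_spec iota E 2 2582 167512 edges_2_64 v (by omega) (by omega)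
        · rcases Nat.lt_or_ge v 177469 with h | h
          · rcases Nat.lt_or_ge v 172542 with h | h
            · exact edgesRangeI_spec iota E 2 2448 170094 edges_2_65 v (by omega) (by omega)
            · rcases Nat.lt_or_ge v 175203 with h | h
              · exact edgesRangeI_spec iota E 2 2661 172542 edges_2_66 v (by omega) (by omega)
              · exact edgesRangeI_spec iota E 2 2266 175203 edges_2_67 v (by omega) (by omega)
          · rcases Nat.lt_or_ge v 179204 with h | h
            · exact edgesRangeI_spec iota E 2 1735 177469 edges_2_68 v (by omega) (by omega)
            · rcases Nat.lt_or_ge v 180819 with h | h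
              · exact edgesRangeI_spec iota E 2 1615 179204 edges_2_69 v (by omega) (by omega)
              · exact edgesRangeI_spec iota E 2 1662 180819 edges_2_70 v (by omega) (by omega)
    · rcases Nat.lt_or_ge v 199742 with h | h
      · rcases Nat.lt_or_ge v 191395 with h | h
        · rcases Nat.lt_or_ge v 187091 with h | h
          · rcases Nat.lt_or_ge v 184096 with h | h
            · exact edgesRangeI_spec iota E 2 1615 182481 edges_2_71 v (by omega) (by omega)
            · rcases Nat.lt_or_ge v 185627 with h | h
              · exact edgesRangeI_spec iota E 2 1531 184096 edges_2_72 v (by omega) (by omega)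
              · exact edgesRangeI_spec iota E 2 1464 185627 edges_2_73 v (by omega) (by omega)
          · rcases Nat.lt_or_ge v 188471 with h | h
            · exact edgesRangeI_spec iota E 2 1380 187091 edges_2_74 v (by omega) (by omega)
            · rcases Nat.lt_or_ge v 189927 with h | h
              · exact edgesRangeI_spec iota E 2 1456 188471 edges_2_75 v (by omega) (by omega)
              · exact edgesRangeI_spec iota E 2 1468 189927 edges_2_76 v (by omega) (by omega)
        · rcases Nat.lt_or_ge v 195771 with h | h
          · rcases Nat.lt_or_ge v 192937 with h | h
            · exact edgesRangeI_spec iota E 2 1542 191395 edges_2_77 v (by omega) (by omega)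
            · rcases Nat.lt_or_ge v 194341 with h | h
              · exact edgesRangeI_spec iota E 2 1404 192937 edges_2_78 v (by omega) (by omega)
              · exact edgesRangeI_spec iota E 2 1430 194341 edges_2_79 v (by omega) (by omega)
          · rcases Nat.lt_or_ge v 197127 with h | h
            · exact edgesRangeI_spec iota E 2 1356 195771 edges_2_80 v (by omega) (by omega)
            · rcases Nat.lt_or_ge v 198435 with h | h
              · exact edgesRangeI_spec iota E 2 1308 197127 edges_2_81 v (by omega) (by omega)
              · exact edgesRangeI_spec iota E 2 1307 198435 edges_2_82 v (by omega) (by omega)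
      · rcases Nat.lt_or_ge v 207423 with h | h
        · rcases Nat.lt_or_ge v 203638 with h | h
          · rcases Nat.lt_or_ge v 201078 with h | h
            · exact edgesRangeI_spec iota E 2 1336 199742 edges_2_83 v (by omega) (by omega)
            · rcases Nat.lt_or_ge v 202384 with h | h
              · exact edgesRangeI_spec iota E 2 1306 201078 edges_2_84 v (by omega) (by omega)
              · exact edgesRangeI_spec iota E 2 1254 202384 edges_2_85 v (by omega) (by omega)
          · rcases Nat.lt_or_ge v 204981 with h | h
            · exact edgesRangeI_spec iota E 2 1343 203638 edges_2_86 v (by omega) (by omega)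
            · rcases Nat.lt_or_ge v 206246 with h | h
              · exact edgesRangeI_spec iota E 2 1265 204981 edges_2_87 v (by omega) (by omega)
              · exact edgesRangeI_spec iota E 2 1177 206246 edges_2_88 v (by omega) (by omega)
        · rcases Nat.lt_or_ge v 210812 with h | h
          · rcases Nat.lt_or_ge v 208566 with h | h
            · exact edgesRangeI_spec iota E 2 1143 207423 edges_2_89 v (by omega) (by omega)
            · rcases Nat.lt_or_ge v 209655 with h | h
              · exact edgesRangeI_spec iota E 2 1089 208566 edges_2_90 v (by omega) (by omega)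
              · exact edgesRangeI_spec iota E 2 1157 209655 edges_2_91 v (by omega) (by omega)
          · rcases Nat.lt_or_ge v 211923 with h | h
            · exact edgesRangeI_spec iota E 2 1111 210812 edges_2_92 v (by omega) (by omega)
            · rcases Nat.lt_or_ge v 213006 with h | h
              · exact edgesRangeI_spec iota E 2 1083 211923 edges_2_93 v (by omega) (by omega)
              · exact edgesRangeI_spec iota E 2 956 213006 edges_2_94 v (by omega) (by omega)

theorem edgesx_3 : ∀ v, v < 213962 → edgeOKI iota E 3 v = true := by
  intro v hv
  rcases Nat.lt_or_ge v 132853 with h | h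
  · rcases Nat.lt_or_ge v 69876 with h | h
    · rcases Nat.lt_or_ge v 33583 with h | h
      · rcases Nat.lt_or_ge v 17134 with h | h
        · rcases Nat.lt_or_ge v 7089 with h | h
          · rcases Nat.lt_or_ge v 3471 with h | h
            · exact edgesRangeI_spec iota E 3 3471 0 edges_3_0 v (by omega) (by omega)
            · exact edgesRangeI_spec iota E 3 3618 3471 edges_3_1 v (by omega) (by omega)
          · rcases Nat.lt_or_ge v 10649 with h | h
            · exact edgesRangeI_spec iota E 3 3560 7089 edges_3_2 v (by omega) (by omega)
            · rcases Nat.lt_or_ge v 13972 with h | h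
              · exact edgesRangeI_spec iota E 3 3323 10649 edges_3_3 v (by omega) (by omega)
              · exact edgesRangeI_spec iota E 3 3162 13972 edges_3_4 v (by omega) (by omega)
        · rcases Nat.lt_or_ge v 23976 with h | h
          · rcases Nat.lt_or_ge v 20477 with h | h
            · exact edgesRangeI_spec iota E 3 3343 17134 edges_3_5 v (by omega) (by omega)
            · exact edgesRangeI_spec iota E 3 3499 20477 edges_3_6 v (by omega) (by omega)
          · rcases Nat.lt_or_ge v 26896 with h | h
            · exact edgesRangeI_spec iota E 3 2920 23976 edges_3_7 v (by omega) (by omega)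
            · rcases Nat.lt_or_ge v 30230 with h | h
              · exact edgesRangeI_spec iota E 3 3334 26896 edges_3_8 v (by omega) (by omega)
              · exact edgesRangeI_spec iota E 3 3353 30230 edges_3_9 v (by omega) (by omega)
      · rcases Nat.lt_or_ge v 49747 with h | h
        · rcases Nat.lt_or_ge v 40150 with h | h
          · rcases Nat.lt_or_ge v 36583 with h | h
            · exact edgesRangeI_spec iota E 3 3000 33583 edges_3_10 v (by omega) (by omega)
            · exact edgesRangeI_spec iota E 3 3567 36583 edges_3_11 v (by omega) (by omega)
          · rcases Nat.lt_or_ge v 43316 with h | h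
            · exact edgesRangeI_spec iota E 3 3166 40150 edges_3_12 v (by omega) (by omega)
            · rcases Nat.lt_or_ge v 46782 with h | h
              · exact edgesRangeI_spec iota E 3 3466 43316 edges_3_13 v (by omega) (by omega)
              · exact edgesRangeI_spec iota E 3 2965 46782 edges_3_14 v (by omega) (by omega)
        · rcases Nat.lt_or_ge v 59346 with h | h
          · rcases Nat.lt_or_ge v 52850 with h | h
            · exact edgesRangeI_spec iota E 3 3103 49747 edges_3_15 v (by omega) (by omega)
            · rcases Nat.lt_or_ge v 56051 with h | h
              · exact edgesRangeI_spec iota E 3 3201 52850 edges_3_16 v (by omega) (by omega)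
              · exact edgesRangeI_spec iota E 3 3295 56051 edges_3_17 v (by omega) (by omega)
          · rcases Nat.lt_or_ge v 63119 with h | h
            · exact edgesRangeI_spec iota E 3 3773 59346 edges_3_18 v (by omega) (by omega)
            · rcases Nat.lt_or_ge v 66464 with h | h
              · exact edgesRangeI_spec iota E 3 3345 63119 edges_3_19 v (by omega) (by omega)
              · exact edgesRangeI_spec iota E 3 3412 66464 edges_3_20 v (by omega) (by omega)
    · rcases Nat.lt_or_ge v 103509 with h | h
      · rcases Nat.lt_or_ge v 86403 with h | h
        · rcases Nat.lt_or_ge v 76089 with h | h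
          · rcases Nat.lt_or_ge v 73011 with h | h
            · exact edgesRangeI_spec iota E 3 3135 69876 edges_3_21 v (by omega) (by omega)
            · exact edgesRangeI_spec iota E 3 3078 73011 edges_3_22 v (by omega) (by omega)
          · rcases Nat.lt_or_ge v 79968 with h | h
            · exact edgesRangeI_spec iota E 3 3879 76089 edges_3_23 v (by omega) (by omega)
            · rcases Nat.lt_or_ge v 83318 with h | h
              · exact edgesRangeI_spec iota E 3 3350 79968 edges_3_24 v (by omega) (by omega)
              · exact edgesRangeI_spec iota E 3 3085 83318 edges_3_25 v (by omega) (by omega)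
        · rcases Nat.lt_or_ge v 95914 with h | h
          · rcases Nat.lt_or_ge v 89838 with h | h
            · exact edgesRangeI_spec iota E 3 3435 86403 edges_3_26 v (by omega) (by omega)
            · rcases Nat.lt_or_ge v 93183 with h | h
              · exact edgesRangeI_spec iota E 3 3345 89838 edges_3_27 v (by omega) (by omega)
              · exact edgesRangeI_spec iota E 3 2731 93183 edges_3_28 v (by omega) (by omega)
          · rcases Nat.lt_or_ge v 98553 with h | h
            · exact edgesRangeI_spec iota E 3 2639 95914 edges_3_29 v (by omega) (by omega)
            · rcases Nat.lt_or_ge v 100903 with h | h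
              · exact edgesRangeI_spec iota E 3 2350 98553 edges_3_30 v (by omega) (by omega)
              · exact edgesRangeI_spec iota E 3 2606 100903 edges_3_31 v (by omega) (by omega)
      · rcases Nat.lt_or_ge v 116817 with h | h
        · rcases Nat.lt_or_ge v 108668 with h | h
          · rcases Nat.lt_or_ge v 105962 with h | h
            · exact edgesRangeI_spec iota E 3 2453 103509 edges_3_32 v (by omega) (by omega)
            · exact edgesRangeI_spec iota E 3 2706 105962 edges_3_33 v (by omega) (by omega)
          · rcases Nat.lt_or_ge v 111529 with h | h
            · exact edgesRangeI_spec iota E 3 2861 108668 edges_3_34 v (by omega) (by omega)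
            · rcases Nat.lt_or_ge v 114253 with h | h
              · exact edgesRangeI_spec iota E 3 2724 111529 edges_3_35 v (by omega) (by omega)
              · exact edgesRangeI_spec iota E 3 2564 114253 edges_3_36 v (by omega) (by omega)
        · rcases Nat.lt_or_ge v 124726 with h | h
          · rcases Nat.lt_or_ge v 119332 with h | h
            · exact edgesRangeI_spec iota E 3 2515 116817 edges_3_37 v (by omega) (by omega)
            · rcases Nat.lt_or_ge v 121932 with h | h
              · exact edgesRangeI_spec iota E 3 2600 119332 edges_3_38 v (by omega) (by omega)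
              · exact edgesRangeI_spec iota E 3 2794 121932 edges_3_39 v (by omega) (by omega)
          · rcases Nat.lt_or_ge v 127504 with h | h
            · exact edgesRangeI_spec iota E 3 2778 124726 edges_3_40 v (by omega) (by omega)
            · rcases Nat.lt_or_ge v 130311 with h | h
              · exact edgesRangeI_spec iota E 3 2807 127504 edges_3_41 v (by omega) (by omega)
              · exact edgesRangeI_spec iota E 3 2542 130311 edges_3_42 v (by omega) (by omega)
  · rcases Nat.lt_or_ge v 184681 with h | h
    · rcases Nat.lt_or_ge v 159841 with h | h
      · rcases Nat.lt_or_ge v 145703 with h | h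
        · rcases Nat.lt_or_ge v 137966 with h | h
          · rcases Nat.lt_or_ge v 135491 with h | h
            · exact edgesRangeI_spec iota E 3 2638 132853 edges_3_43 v (by omega) (by omega)
            · exact edgesRangeI_spec iota E 3 2475 135491 edges_3_44 v (by omega) (by omega)
          · rcases Nat.lt_or_ge v 140451 with h | h
            · exact edgesRangeI_spec iota E 3 2485 137966 edges_3_45 v (by omega) (by omega)
            · rcases Nat.lt_or_ge v 143147 with h | h
              · exact edgesRangeI_spec iota E 3 2696 140451 edges_3_46 v (by omega) (by omega)
              · exact edgesRangeI_spec iota E 3 2556 143147 edges_3_47 v (by omega) (by omega)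
        · rcases Nat.lt_or_ge v 150921 with h | h
          · rcases Nat.lt_or_ge v 148338 with h | h
            · exact edgesRangeI_spec iota E 3 2635 145703 edges_3_48 v (by omega) (by omega)
            · exact edgesRangeI_spec iota E 3 2583 148338 edges_3_49 v (by omega) (by omega)
          · rcases Nat.lt_or_ge v 153917 with h | h
            · exact edgesRangeI_spec iota E 3 2996 150921 edges_3_50 v (by omega) (by omega)
            · rcases Nat.lt_or_ge v 156864 with h | h
              · exact edgesRangeI_spec iota E 3 2947 153917 edges_3_51 v (by omega) (by omega)
              · exact edgesRangeI_spec iota E 3 2977 156864 edges_3_52 v (by omega) (by omega)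
      · rcases Nat.lt_or_ge v 173195 with h | h
        · rcases Nat.lt_or_ge v 165532 with h | h
          · rcases Nat.lt_or_ge v 162791 with h | h
            · exact edgesRangeI_spec iota E 3 2950 159841 edges_3_53 v (by omega) (by omega)
            · exact edgesRangeI_spec iota E 3 2741 162791 edges_3_54 v (by omega) (by omega)
          · rcases Nat.lt_or_ge v 168237 with h | h
            · exact edgesRangeI_spec iota E 3 2705 165532 edges_3_55 v (by omega) (by omega)
            · rcases Nat.lt_or_ge v 170779 with h | h
              · exact edgesRangeI_spec iota E 3 2542 168237 edges_3_56 v (by omega) (by omega)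
              · exact edgesRangeI_spec iota E 3 2416 170779 edges_3_57 v (by omega) (by omega)
        · rcases Nat.lt_or_ge v 179890 with h | h
          · rcases Nat.lt_or_ge v 175991 with h | h
            · exact edgesRangeI_spec iota E 3 2796 173195 edges_3_58 v (by omega) (by omega)
            · rcases Nat.lt_or_ge v 178138 with h | h
              · exact edgesRangeI_spec iota E 3 2147 175991 edges_3_59 v (by omega) (by omega)
              · exact edgesRangeI_spec iota E 3 1752 178138 edges_3_60 v (by omega) (by omega)
          · rcases Nat.lt_or_ge v 181392 with h | h
            · exact edgesRangeI_spec iota E 3 1502 179890 edges_3_61 v (by omega) (by omega)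
            · rcases Nat.lt_or_ge v 183037 with h | h
              · exact edgesRangeI_spec iota E 3 1645 181392 edges_3_62 v (by omega) (by omega)
              · exact edgesRangeI_spec iota E 3 1644 183037 edges_3_63 v (by omega) (by omega)
    · rcases Nat.lt_or_ge v 201162 with h | h
      · rcases Nat.lt_or_ge v 192613 with h | h
        · rcases Nat.lt_or_ge v 187894 with h | h
          · rcases Nat.lt_or_ge v 186306 with h | h
            · exact edgesRangeI_spec iota E 3 1625 184681 edges_3_64 v (by omega) (by omega)
            · exact edgesRangeI_spec iota E 3 1588 186306 edges_3_65 v (by omega) (by omega)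
          · rcases Nat.lt_or_ge v 189461 with h | h
            · exact edgesRangeI_spec iota E 3 1567 187894 edges_3_66 v (by omega) (by omega)
            · rcases Nat.lt_or_ge v 191021 with h | h
              · exact edgesRangeI_spec iota E 3 1560 189461 edges_3_67 v (by omega) (by omega)
              · exact edgesRangeI_spec iota E 3 1592 191021 edges_3_68 v (by omega) (by omega)
        · rcases Nat.lt_or_ge v 196960 with h | h
          · rcases Nat.lt_or_ge v 194107 with h | h
            · exact edgesRangeI_spec iota E 3 1494 192613 edges_3_69 v (by omega) (by omega)
            · rcases Nat.lt_or_ge v 195540 with h | h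
              · exact edgesRangeI_spec iota E 3 1433 194107 edges_3_70 v (by omega) (by omega)
              · exact edgesRangeI_spec iota E 3 1420 195540 edges_3_71 v (by omega) (by omega)
          · rcases Nat.lt_or_ge v 198423 with h | h
            · exact edgesRangeI_spec iota E 3 1463 196960 edges_3_72 v (by omega) (by omega)
            · rcases Nat.lt_or_ge v 199771 with h | h
              · exact edgesRangeI_spec iota E 3 1348 198423 edges_3_73 v (by omega) (by omega)
              · exact edgesRangeI_spec iota E 3 1391 199771 edges_3_74 v (by omega) (by omega)
      · rcases Nat.lt_or_ge v 207854 with h | h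
        · rcases Nat.lt_or_ge v 203887 with h | h
          · rcases Nat.lt_or_ge v 202558 with h | h
            · exact edgesRangeI_spec iota E 3 1396 201162 edges_3_75 v (by omega) (by omega)
            · exact edgesRangeI_spec iota E 3 1329 202558 edges_3_76 v (by omega) (by omega)
          · rcases Nat.lt_or_ge v 205176 with h | h
            · exact edgesRangeI_spec iota E 3 1289 203887 edges_3_77 v (by omega) (by omega)
            · rcases Nat.lt_or_ge v 206485 with h | h
              · exact edgesRangeI_spec iota E 3 1309 205176 edges_3_78 v (by omega) (by omega)
              · exact edgesRangeI_spec iota E 3 1369 206485 edges_3_79 v (by omega) (by omega)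
        · rcases Nat.lt_or_ge v 211512 with h | h
          · rcases Nat.lt_or_ge v 209097 with h | h
            · exact edgesRangeI_spec iota E 3 1243 207854 edges_3_80 v (by omega) (by omega)
            · rcases Nat.lt_or_ge v 210337 with h | h
              · exact edgesRangeI_spec iota E 3 1240 209097 edges_3_81 v (by omega) (by omega)
              · exact edgesRangeI_spec iota E 3 1175 210337 edges_3_82 v (by omega) (by omega)
          · rcases Nat.lt_or_ge v 212675 with h | h
            · exact edgesRangeI_spec iota E 3 1163 211512 edges_3_83 v (by omega) (by omega)
            · rcases Nat.lt_or_ge v 213783 with h | h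
              · exact edgesRangeI_spec iota E 3 1108 212675 edges_3_84 v (by omega) (by omega)
              · exact edgesRangeI_spec iota E 3 179 213783 edges_3_85 v (by omega) (by omega)

theorem edgesx_4 : ∀ v, v < 213962 → edgeOKI iota E 4 v = true := by
  intro v hv
  rcases Nat.lt_or_ge v 131755 with h | h
  · rcases Nat.lt_or_ge v 69391 with h | h
    · rcases Nat.lt_or_ge v 32537 with h | h
      · rcases Nat.lt_or_ge v 16511 with h | h
        · rcases Nat.lt_or_ge v 8325 with h | h
          · rcases Nat.lt_or_ge v 4079 with h | h
            · exact edgesRangeI_spec iota E 4 4079 0 edges_4_0 v (by omega) (by omega)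
            · exact edgesRangeI_spec iota E 4 4246 4079 edges_4_1 v (by omega) (by omega)
          · rcases Nat.lt_or_ge v 12202 with h | h
            · exact edgesRangeI_spec iota E 4 3877 8325 edges_4_2 v (by omega) (by omega)
            · exact edgesRangeI_spec iota E 4 4309 12202 edges_4_3 v (by omega) (by omega)
        · rcases Nat.lt_or_ge v 24529 with h | h
          · rcases Nat.lt_or_ge v 20514 with h | h
            · exact edgesRangeI_spec iota E 4 4003 16511 edges_4_4 v (by omega) (by omega)
            · exact edgesRangeI_spec iota E 4 4015 20514 edges_4_5 v (by omega) (by omega)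
          · rcases Nat.lt_or_ge v 28384 with h | h
            · exact edgesRangeI_spec iota E 4 3855 24529 edges_4_6 v (by omega) (by omega)
            · exact edgesRangeI_spec iota E 4 4153 28384 edges_4_7 v (by omega) (by omega)
      · rcases Nat.lt_or_ge v 48767 with h | h
        · rcases Nat.lt_or_ge v 40788 with h | h
          · rcases Nat.lt_or_ge v 36783 with h | h
            · exact edgesRangeI_spec iota E 4 4246 32537 edges_4_8 v (by omega) (by omega)
            · exact edgesRangeI_spec iota E 4 4005 36783 edges_4_9 v (by omega) (by omega)
          · rcases Nat.lt_or_ge v 44851 with h | h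
            · exact edgesRangeI_spec iota E 4 4063 40788 edges_4_10 v (by omega) (by omega)
            · exact edgesRangeI_spec iota E 4 3916 44851 edges_4_11 v (by omega) (by omega)
        · rcases Nat.lt_or_ge v 56771 with h | h
          · rcases Nat.lt_or_ge v 52790 with h | h
            · exact edgesRangeI_spec iota E 4 4023 48767 edges_4_12 v (by omega) (by omega)
            · exact edgesRangeI_spec iota E 4 3981 52790 edges_4_13 v (by omega) (by omega)
          · rcases Nat.lt_or_ge v 61014 with h | h
            · exact edgesRangeI_spec iota E 4 4243 56771 edges_4_14 v (by omega) (by omega)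
            · rcases Nat.lt_or_ge v 65529 with h | h
              · exact edgesRangeI_spec iota E 4 4515 61014 edges_4_15 v (by omega) (by omega)
              · exact edgesRangeI_spec iota E 4 3862 65529 edges_4_16 v (by omega) (by omega)
    · rcases Nat.lt_or_ge v 104239 with h | h
      · rcases Nat.lt_or_ge v 85976 with h | h
        · rcases Nat.lt_or_ge v 77545 with h | h
          · rcases Nat.lt_or_ge v 73556 with h | h
            · exact edgesRangeI_spec iota E 4 4165 69391 edges_4_17 v (by omega) (by omega)
            · exact edgesRangeI_spec iota E 4 3989 73556 edges_4_18 v (by omega) (by omega)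
          · rcases Nat.lt_or_ge v 81919 with h | h
            · exact edgesRangeI_spec iota E 4 4374 77545 edges_4_19 v (by omega) (by omega)
            · exact edgesRangeI_spec iota E 4 4057 81919 edges_4_20 v (by omega) (by omega)
        · rcases Nat.lt_or_ge v 94303 with h | h
          · rcases Nat.lt_or_ge v 90210 with h | h
            · exact edgesRangeI_spec iota E 4 4234 85976 edges_4_21 v (by omega) (by omega)
            · exact edgesRangeI_spec iota E 4 4093 90210 edges_4_22 v (by omega) (by omega)
          · rcases Nat.lt_or_ge v 97678 with h | h
            · exact edgesRangeI_spec iota E 4 3375 94303 edges_4_23 v (by omega) (by omega)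
            · rcases Nat.lt_or_ge v 101073 with h | h
              · exact edgesRangeI_spec iota E 4 3395 97678 edges_4_24 v (by omega) (by omega)
              · exact edgesRangeI_spec iota E 4 3166 101073 edges_4_25 v (by omega) (by omega)
      · rcases Nat.lt_or_ge v 116513 with h | h
        · rcases Nat.lt_or_ge v 110113 with h | h
          · rcases Nat.lt_or_ge v 107268 with h | h
            · exact edgesRangeI_spec iota E 4 3029 104239 edges_4_26 v (by omega) (by omega)
            · exact edgesRangeI_spec iota E 4 2845 107268 edges_4_27 v (by omega) (by omega)
          · rcases Nat.lt_or_ge v 113237 with h | h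
            · exact edgesRangeI_spec iota E 4 3124 110113 edges_4_28 v (by omega) (by omega)
            · exact edgesRangeI_spec iota E 4 3276 113237 edges_4_29 v (by omega) (by omega)
        · rcases Nat.lt_or_ge v 122292 with h | h
          · rcases Nat.lt_or_ge v 119414 with h | h
            · exact edgesRangeI_spec iota E 4 2901 116513 edges_4_30 v (by omega) (by omega)
            · exact edgesRangeI_spec iota E 4 2878 119414 edges_4_31 v (by omega) (by omega)
          · rcases Nat.lt_or_ge v 125646 with h | h
            · exact edgesRangeI_spec iota E 4 3354 122292 edges_4_32 v (by omega) (by omega)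
            · rcases Nat.lt_or_ge v 128587 with h | h
              · exact edgesRangeI_spec iota E 4 2941 125646 edges_4_33 v (by omega) (by omega)
              · exact edgesRangeI_spec iota E 4 3168 128587 edges_4_34 v (by omega) (by omega)
  · rcases Nat.lt_or_ge v 184707 with h | h
    · rcases Nat.lt_or_ge v 160226 with h | h
      · rcases Nat.lt_or_ge v 143590 with h | h
        · rcases Nat.lt_or_ge v 137634 with h | h
          · rcases Nat.lt_or_ge v 134709 with h | h
            · exact edgesRangeI_spec iota E 4 2954 131755 edges_4_35 v (by omega) (by omega)
            · exact edgesRangeI_spec iota E 4 2925 134709 edges_4_36 v (by omega) (by omega)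
          · rcases Nat.lt_or_ge v 140450 with h | h
            · exact edgesRangeI_spec iota E 4 2816 137634 edges_4_37 v (by omega) (by omega)
            · exact edgesRangeI_spec iota E 4 3140 140450 edges_4_38 v (by omega) (by omega)
        · rcases Nat.lt_or_ge v 149770 with h | h
          · rcases Nat.lt_or_ge v 146695 with h | h
            · exact edgesRangeI_spec iota E 4 3105 143590 edges_4_39 v (by omega) (by omega)
            · exact edgesRangeI_spec iota E 4 3075 146695 edges_4_40 v (by omega) (by omega)
          · rcases Nat.lt_or_ge v 153221 with h | h
            · exact edgesRangeI_spec iota E 4 3451 149770 edges_4_41 v (by omega) (by omega)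
            · rcases Nat.lt_or_ge v 156668 with h | h
              · exact edgesRangeI_spec iota E 4 3447 153221 edges_4_42 v (by omega) (by omega)
              · exact edgesRangeI_spec iota E 4 3558 156668 edges_4_43 v (by omega) (by omega)
      · rcases Nat.lt_or_ge v 173158 with h | h
        · rcases Nat.lt_or_ge v 166790 with h | h
          · rcases Nat.lt_or_ge v 163527 with h | h
            · exact edgesRangeI_spec iota E 4 3301 160226 edges_4_44 v (by omega) (by omega)
            · exact edgesRangeI_spec iota E 4 3263 163527 edges_4_45 v (by omega) (by omega)
          · rcases Nat.lt_or_ge v 170092 with h | h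
            · exact edgesRangeI_spec iota E 4 3302 166790 edges_4_46 v (by omega) (by omega)
            · exact edgesRangeI_spec iota E 4 3066 170092 edges_4_47 v (by omega) (by omega)
        · rcases Nat.lt_or_ge v 178762 with h | h
          · rcases Nat.lt_or_ge v 176415 with h | h
            · exact edgesRangeI_spec iota E 4 3257 173158 edges_4_48 v (by omega) (by omega)
            · exact edgesRangeI_spec iota E 4 2347 176415 edges_4_49 v (by omega) (by omega)
          · rcases Nat.lt_or_ge v 180727 with h | h
            · exact edgesRangeI_spec iota E 4 1965 178762 edges_4_50 v (by omega) (by omega)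
            · rcases Nat.lt_or_ge v 182789 with h | h
              · exact edgesRangeI_spec iota E 4 2062 180727 edges_4_51 v (by omega) (by omega)
              · exact edgesRangeI_spec iota E 4 1918 182789 edges_4_52 v (by omega) (by omega)
    · rcases Nat.lt_or_ge v 200893 with h | h
      · rcases Nat.lt_or_ge v 192139 with h | h
        · rcases Nat.lt_or_ge v 188392 with h | h
          · rcases Nat.lt_or_ge v 186621 with h | h
            · exact edgesRangeI_spec iota E 4 1914 184707 edges_4_53 v (by omega) (by omega)
            · exact edgesRangeI_spec iota E 4 1771 186621 edges_4_54 v (by omega) (by omega)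
          · rcases Nat.lt_or_ge v 190272 with h | h
            · exact edgesRangeI_spec iota E 4 1880 188392 edges_4_55 v (by omega) (by omega)
            · exact edgesRangeI_spec iota E 4 1867 190272 edges_4_56 v (by omega) (by omega)
        · rcases Nat.lt_or_ge v 195804 with h | h
          · rcases Nat.lt_or_ge v 193963 with h | h
            · exact edgesRangeI_spec iota E 4 1824 192139 edges_4_57 v (by omega) (by omega)
            · exact edgesRangeI_spec iota E 4 1841 193963 edges_4_58 v (by omega) (by omega)
          · rcases Nat.lt_or_ge v 197464 with h | h
            · exact edgesRangeI_spec iota E 4 1660 195804 edges_4_59 v (by omega) (by omega)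
            · rcases Nat.lt_or_ge v 199166 with h | h
              · exact edgesRangeI_spec iota E 4 1702 197464 edges_4_60 v (by omega) (by omega)
              · exact edgesRangeI_spec iota E 4 1727 199166 edges_4_61 v (by omega) (by omega)
      · rcases Nat.lt_or_ge v 207554 with h | h
        · rcases Nat.lt_or_ge v 204292 with h | h
          · rcases Nat.lt_or_ge v 202624 with h | h
            · exact edgesRangeI_spec iota E 4 1731 200893 edges_4_62 v (by omega) (by omega)
            · exact edgesRangeI_spec iota E 4 1668 202624 edges_4_63 v (by omega) (by omega)
          · rcases Nat.lt_or_ge v 205918 with h | h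
            · exact edgesRangeI_spec iota E 4 1626 204292 edges_4_64 v (by omega) (by omega)
            · exact edgesRangeI_spec iota E 4 1636 205918 edges_4_65 v (by omega) (by omega)
        · rcases Nat.lt_or_ge v 210549 with h | h
          · rcases Nat.lt_or_ge v 209080 with h | h
            · exact edgesRangeI_spec iota E 4 1526 207554 edges_4_66 v (by omega) (by omega)
            · exact edgesRangeI_spec iota E 4 1469 209080 edges_4_67 v (by omega) (by omega)
          · rcases Nat.lt_or_ge v 212000 with h | h
            · exact edgesRangeI_spec iota E 4 1451 210549 edges_4_68 v (by omega) (by omega)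
            · rcases Nat.lt_or_ge v 213331 with h | h
              · exact edgesRangeI_spec iota E 4 1331 212000 edges_4_69 v (by omega) (by omega)
              · exact edgesRangeI_spec iota E 4 631 213331 edges_4_70 v (by omega) (by omega)

theorem edgesx_5 : ∀ v, v < 213962 → edgeOKI iota E 5 v = true := by
  intro v hv
  rcases Nat.lt_or_ge v 116189 with h | h
  · rcases Nat.lt_or_ge v 57045 with h | h
    · rcases Nat.lt_or_ge v 28564 with h | h
      · rcases Nat.lt_or_ge v 14470 with h | h
        · rcases Nat.lt_or_ge v 5794 with h | h
          · rcases Nat.lt_or_ge v 2880 with h | h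
            · exact edgesRangeI_spec iota E 5 2880 0 edges_5_0 v (by omega) (by omega)
            · exact edgesRangeI_spec iota E 5 2914 2880 edges_5_1 v (by omega) (by omega)
          · rcases Nat.lt_or_ge v 8865 with h | h
            · exact edgesRangeI_spec iota E 5 3071 5794 edges_5_2 v (by omega) (by omega)
            · rcases Nat.lt_or_ge v 11620 with h | h
              · exact edgesRangeI_spec iota E 5 2755 8865 edges_5_3 v (by omega) (by omega)
              · exact edgesRangeI_spec iota E 5 2850 11620 edges_5_4 v (by omega) (by omega)
        · rcases Nat.lt_or_ge v 20293 with h | h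
          · rcases Nat.lt_or_ge v 17363 with h | h
            · exact edgesRangeI_spec iota E 5 2893 14470 edges_5_5 v (by omega) (by omega)
            · exact edgesRangeI_spec iota E 5 2930 17363 edges_5_6 v (by omega) (by omega)
          · rcases Nat.lt_or_ge v 23185 with h | h
            · exact edgesRangeI_spec iota E 5 2892 20293 edges_5_7 v (by omega) (by omega)
            · rcases Nat.lt_or_ge v 25813 with h | h
              · exact edgesRangeI_spec iota E 5 2628 23185 edges_5_8 v (by omega) (by omega)
              · exact edgesRangeI_spec iota E 5 2751 25813 edges_5_9 v (by omega) (by omega)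
      · rcases Nat.lt_or_ge v 43143 with h | h
        · rcases Nat.lt_or_ge v 34546 with h | h
          · rcases Nat.lt_or_ge v 31554 with h | h
            · exact edgesRangeI_spec iota E 5 2990 28564 edges_5_10 v (by omega) (by omega)
            · exact edgesRangeI_spec iota E 5 2992 31554 edges_5_11 v (by omega) (by omega)
          · rcases Nat.lt_or_ge v 37470 with h | h
            · exact edgesRangeI_spec iota E 5 2924 34546 edges_5_12 v (by omega) (by omega)
            · rcases Nat.lt_or_ge v 40351 with h | h
              · exact edgesRangeI_spec iota E 5 2881 37470 edges_5_13 v (by omega) (by omega)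
              · exact edgesRangeI_spec iota E 5 2792 40351 edges_5_14 v (by omega) (by omega)
        · rcases Nat.lt_or_ge v 48787 with h | h
          · rcases Nat.lt_or_ge v 46089 with h | h
            · exact edgesRangeI_spec iota E 5 2946 43143 edges_5_15 v (by omega) (by omega)
            · exact edgesRangeI_spec iota E 5 2698 46089 edges_5_16 v (by omega) (by omega)
          · rcases Nat.lt_or_ge v 51569 with h | h
            · exact edgesRangeI_spec iota E 5 2782 48787 edges_5_17 v (by omega) (by omega)
            · rcases Nat.lt_or_ge v 54174 with h | h
              · exact edgesRangeI_spec iota E 5 2605 51569 edges_5_18 v (by omega) (by omega)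
              · exact edgesRangeI_spec iota E 5 2871 54174 edges_5_19 v (by omega) (by omega)
    · rcases Nat.lt_or_ge v 86718 with h | h
      · rcases Nat.lt_or_ge v 72061 with h | h
        · rcases Nat.lt_or_ge v 63149 with h | h
          · rcases Nat.lt_or_ge v 59943 with h | h
            · exact edgesRangeI_spec iota E 5 2898 57045 edges_5_20 v (by omega) (by omega)
            · exact edgesRangeI_spec iota E 5 3206 59943 edges_5_21 v (by omega) (by omega)
          · rcases Nat.lt_or_ge v 66076 with h | h
            · exact edgesRangeI_spec iota E 5 2927 63149 edges_5_22 v (by omega) (by omega)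
            · rcases Nat.lt_or_ge v 68809 with h | h
              · exact edgesRangeI_spec iota E 5 2733 66076 edges_5_23 v (by omega) (by omega)
              · exact edgesRangeI_spec iota E 5 3252 68809 edges_5_24 v (by omega) (by omega)
        · rcases Nat.lt_or_ge v 77803 with h | h
          · rcases Nat.lt_or_ge v 74712 with h | h
            · exact edgesRangeI_spec iota E 5 2651 72061 edges_5_25 v (by omega) (by omega)
            · exact edgesRangeI_spec iota E 5 3091 74712 edges_5_26 v (by omega) (by omega)
          · rcases Nat.lt_or_ge v 80907 with h | h
            · exact edgesRangeI_spec iota E 5 3104 77803 edges_5_27 v (by omega) (by omega)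
            · rcases Nat.lt_or_ge v 83930 with h | h
              · exact edgesRangeI_spec iota E 5 3023 80907 edges_5_28 v (by omega) (by omega)
              · exact edgesRangeI_spec iota E 5 2788 83930 edges_5_29 v (by omega) (by omega)
      · rcases Nat.lt_or_ge v 100711 with h | h
        · rcases Nat.lt_or_ge v 92491 with h | h
          · rcases Nat.lt_or_ge v 89634 with h | h
            · exact edgesRangeI_spec iota E 5 2916 86718 edges_5_30 v (by omega) (by omega)
            · exact edgesRangeI_spec iota E 5 2857 89634 edges_5_31 v (by omega) (by omega)
          · rcases Nat.lt_or_ge v 95417 with h | h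
            · exact edgesRangeI_spec iota E 5 2926 92491 edges_5_32 v (by omega) (by omega)
            · rcases Nat.lt_or_ge v 98029 with h | h
              · exact edgesRangeI_spec iota E 5 2612 95417 edges_5_33 v (by omega) (by omega)
              · exact edgesRangeI_spec iota E 5 2682 98029 edges_5_34 v (by omega) (by omega)
        · rcases Nat.lt_or_ge v 108471 with h | h
          · rcases Nat.lt_or_ge v 103443 with h | h
            · exact edgesRangeI_spec iota E 5 2732 100711 edges_5_35 v (by omega) (by omega)
            · rcases Nat.lt_or_ge v 106035 with h | h
              · exact edgesRangeI_spec iota E 5 2592 103443 edges_5_36 v (by omega) (by omega)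
              · exact edgesRangeI_spec iota E 5 2436 106035 edges_5_37 v (by omega) (by omega)
          · rcases Nat.lt_or_ge v 111063 with h | h
            · exact edgesRangeI_spec iota E 5 2592 108471 edges_5_38 v (by omega) (by omega)
            · rcases Nat.lt_or_ge v 113706 with h | h
              · exact edgesRangeI_spec iota E 5 2643 111063 edges_5_39 v (by omega) (by omega)
              · exact edgesRangeI_spec iota E 5 2483 113706 edges_5_40 v (by omega) (by omega)
  · rcases Nat.lt_or_ge v 176339 with h | h
    · rcases Nat.lt_or_ge v 143917 with h | h
      · rcases Nat.lt_or_ge v 130085 with h | h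
        · rcases Nat.lt_or_ge v 121493 with h | h
          · rcases Nat.lt_or_ge v 118904 with h | h
            · exact edgesRangeI_spec iota E 5 2715 116189 edges_5_41 v (by omega) (by omega)
            · exact edgesRangeI_spec iota E 5 2589 118904 edges_5_42 v (by omega) (by omega)
          · rcases Nat.lt_or_ge v 124116 with h | h
            · exact edgesRangeI_spec iota E 5 2623 121493 edges_5_43 v (by omega) (by omega)
            · rcases Nat.lt_or_ge v 127176 with h | h
              · exact edgesRangeI_spec iota E 5 3060 124116 edges_5_44 v (by omega) (by omega)
              · exact edgesRangeI_spec iota E 5 2909 127176 edges_5_45 v (by omega) (by omega)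
        · rcases Nat.lt_or_ge v 135603 with h | h
          · rcases Nat.lt_or_ge v 132759 with h | h
            · exact edgesRangeI_spec iota E 5 2674 130085 edges_5_46 v (by omega) (by omega)
            · exact edgesRangeI_spec iota E 5 2844 132759 edges_5_47 v (by omega) (by omega)
          · rcases Nat.lt_or_ge v 138251 with h | h
            · exact edgesRangeI_spec iota E 5 2648 135603 edges_5_48 v (by omega) (by omega)
            · rcases Nat.lt_or_ge v 140933 with h | h
              · exact edgesRangeI_spec iota E 5 2682 138251 edges_5_49 v (by omega) (by omega)
              · exact edgesRangeI_spec iota E 5 2984 140933 edges_5_50 v (by omega) (by omega)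
      · rcases Nat.lt_or_ge v 158476 with h | h
        · rcases Nat.lt_or_ge v 149249 with h | h
          · rcases Nat.lt_or_ge v 146655 with h | h
            · exact edgesRangeI_spec iota E 5 2738 143917 edges_5_51 v (by omega) (by omega)
            · exact edgesRangeI_spec iota E 5 2594 146655 edges_5_52 v (by omega) (by omega)
          · rcases Nat.lt_or_ge v 152267 with h | h
            · exact edgesRangeI_spec iota E 5 3018 149249 edges_5_53 v (by omega) (by omega)
            · rcases Nat.lt_or_ge v 155510 with h | h
              · exact edgesRangeI_spec iota E 5 3243 152267 edges_5_54 v (by omega) (by omega)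
              · exact edgesRangeI_spec iota E 5 2966 155510 edges_5_55 v (by omega) (by omega)
        · rcases Nat.lt_or_ge v 167604 with h | h
          · rcases Nat.lt_or_ge v 161652 with h | h
            · exact edgesRangeI_spec iota E 5 3176 158476 edges_5_56 v (by omega) (by omega)
            · rcases Nat.lt_or_ge v 164690 with h | h
              · exact edgesRangeI_spec iota E 5 3038 161652 edges_5_57 v (by omega) (by omega)
              · exact edgesRangeI_spec iota E 5 2914 164690 edges_5_58 v (by omega) (by omega)
          · rcases Nat.lt_or_ge v 170571 with h | h
            · exact edgesRangeI_spec iota E 5 2967 167604 edges_5_59 v (by omega) (by omega)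
            · rcases Nat.lt_or_ge v 173231 with h | h
              · exact edgesRangeI_spec iota E 5 2660 170571 edges_5_60 v (by omega) (by omega)
              · exact edgesRangeI_spec iota E 5 3108 173231 edges_5_61 v (by omega) (by omega)
    · rcases Nat.lt_or_ge v 195578 with h | h
      · rcases Nat.lt_or_ge v 186493 with h | h
        · rcases Nat.lt_or_ge v 180678 with h | h
          · rcases Nat.lt_or_ge v 178657 with h | h
            · exact edgesRangeI_spec iota E 5 2318 176339 edges_5_62 v (by omega) (by omega)
            · exact edgesRangeI_spec iota E 5 2021 178657 edges_5_63 v (by omega) (by omega)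
          · rcases Nat.lt_or_ge v 182654 with h | h
            · exact edgesRangeI_spec iota E 5 1976 180678 edges_5_64 v (by omega) (by omega)
            · rcases Nat.lt_or_ge v 184594 with h | h
              · exact edgesRangeI_spec iota E 5 1940 182654 edges_5_65 v (by omega) (by omega)
              · exact edgesRangeI_spec iota E 5 1899 184594 edges_5_66 v (by omega) (by omega)
        · rcases Nat.lt_or_ge v 190113 with h | h
          · rcases Nat.lt_or_ge v 188268 with h | h
            · exact edgesRangeI_spec iota E 5 1775 186493 edges_5_67 v (by omega) (by omega)
            · exact edgesRangeI_spec iota E 5 1845 188268 edges_5_68 v (by omega) (by omega)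
          · rcases Nat.lt_or_ge v 191911 with h | h
            · exact edgesRangeI_spec iota E 5 1798 190113 edges_5_69 v (by omega) (by omega)
            · rcases Nat.lt_or_ge v 193742 with h | h
              · exact edgesRangeI_spec iota E 5 1831 191911 edges_5_70 v (by omega) (by omega)
              · exact edgesRangeI_spec iota E 5 1836 193742 edges_5_71 v (by omega) (by omega)
      · rcases Nat.lt_or_ge v 204235 with h | h
        · rcases Nat.lt_or_ge v 199122 with h | h
          · rcases Nat.lt_or_ge v 197301 with h | h
            · exact edgesRangeI_spec iota E 5 1723 195578 edges_5_72 v (by omega) (by omega)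
            · exact edgesRangeI_spec iota E 5 1821 197301 edges_5_73 v (by omega) (by omega)
          · rcases Nat.lt_or_ge v 200847 with h | h
            · exact edgesRangeI_spec iota E 5 1725 199122 edges_5_74 v (by omega) (by omega)
            · rcases Nat.lt_or_ge v 202551 with h | h
              · exact edgesRangeI_spec iota E 5 1704 200847 edges_5_75 v (by omega) (by omega)
              · exact edgesRangeI_spec iota E 5 1684 202551 edges_5_76 v (by omega) (by omega)
        · rcases Nat.lt_or_ge v 209313 with h | h
          · rcases Nat.lt_or_ge v 205963 with h | h
            · exact edgesRangeI_spec iota E 5 1728 204235 edges_5_77 v (by omega) (by omega)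
            · rcases Nat.lt_or_ge v 207670 with h | h
              · exact edgesRangeI_spec iota E 5 1707 205963 edges_5_78 v (by omega) (by omega)
              · exact edgesRangeI_spec iota E 5 1643 207670 edges_5_79 v (by omega) (by omega)
          · rcases Nat.lt_or_ge v 210979 with h | h
            · exact edgesRangeI_spec iota E 5 1666 209313 edges_5_80 v (by omega) (by omega)
            · rcases Nat.lt_or_ge v 212539 with h | h
              · exact edgesRangeI_spec iota E 5 1560 210979 edges_5_81 v (by omega) (by omega)
              · exact edgesRangeI_spec iota E 5 1423 212539 edges_5_82 v (by omega) (by omega)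

theorem edgesx_6 : ∀ v, v < 213962 → edgeOKI iota E 6 v = true := by
  intro v hv
  rcases Nat.lt_or_ge v 134864 with h | h
  · rcases Nat.lt_or_ge v 71429 with h | h
    · rcases Nat.lt_or_ge v 35950 with h | h
      · rcases Nat.lt_or_ge v 16994 with h | h
        · rcases Nat.lt_or_ge v 8869 with h | h
          · rcases Nat.lt_or_ge v 3000 with h | h
            · exact edgesRangeI_spec iota E 6 3000 0 edges_6_0 v (by omega) (by omega)
            · rcases Nat.lt_or_ge v 5929 with h | h
              · exact edgesRangeI_spec iota E 6 2929 3000 edges_6_1 v (by omega) (by omega)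
              · exact edgesRangeI_spec iota E 6 2940 5929 edges_6_2 v (by omega) (by omega)
          · rcases Nat.lt_or_ge v 11583 with h | h
            · exact edgesRangeI_spec iota E 6 2714 8869 edges_6_3 v (by omega) (by omega)
            · rcases Nat.lt_or_ge v 14296 with h | h
              · exact edgesRangeI_spec iota E 6 2713 11583 edges_6_4 v (by omega) (by omega)
              · exact edgesRangeI_spec iota E 6 2698 14296 edges_6_5 v (by omega) (by omega)
        · rcases Nat.lt_or_ge v 25249 with h | h
          · rcases Nat.lt_or_ge v 19670 with h | h
            · exact edgesRangeI_spec iota E 6 2676 16994 edges_6_6 v (by omega) (by omega)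
            · rcases Nat.lt_or_ge v 22665 with h | h
              · exact edgesRangeI_spec iota E 6 2995 19670 edges_6_7 v (by omega) (by omega)
              · exact edgesRangeI_spec iota E 6 2584 22665 edges_6_8 v (by omega) (by omega)
          · rcases Nat.lt_or_ge v 30675 with h | h
            · rcases Nat.lt_or_ge v 27712 with h | h
              · exact edgesRangeI_spec iota E 6 2463 25249 edges_6_9 v (by omega) (by omega)
              · exact edgesRangeI_spec iota E 6 2963 27712 edges_6_10 v (by omega) (by omega)
            · rcases Nat.lt_or_ge v 33348 with h | h
              · exact edgesRangeI_spec iota E 6 2673 30675 edges_6_11 v (by omega) (by omega)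
              · exact edgesRangeI_spec iota E 6 2602 33348 edges_6_12 v (by omega) (by omega)
      · rcases Nat.lt_or_ge v 52139 with h | h
        · rcases Nat.lt_or_ge v 44324 with h | h
          · rcases Nat.lt_or_ge v 39245 with h | h
            · exact edgesRangeI_spec iota E 6 3295 35950 edges_6_13 v (by omega) (by omega)
            · rcases Nat.lt_or_ge v 41729 with h | h
              · exact edgesRangeI_spec iota E 6 2484 39245 edges_6_14 v (by omega) (by omega)
              · exact edgesRangeI_spec iota E 6 2595 41729 edges_6_15 v (by omega) (by omega)
          · rcases Nat.lt_or_ge v 47051 with h | h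
            · exact edgesRangeI_spec iota E 6 2727 44324 edges_6_16 v (by omega) (by omega)
            · rcases Nat.lt_or_ge v 49547 with h | h
              · exact edgesRangeI_spec iota E 6 2496 47051 edges_6_17 v (by omega) (by omega)
              · exact edgesRangeI_spec iota E 6 2592 49547 edges_6_18 v (by omega) (by omega)
        · rcases Nat.lt_or_ge v 59998 with h | h
          · rcases Nat.lt_or_ge v 54690 with h | h
            · exact edgesRangeI_spec iota E 6 2551 52139 edges_6_19 v (by omega) (by omega)
            · rcases Nat.lt_or_ge v 57387 with h | h
              · exact edgesRangeI_spec iota E 6 2697 54690 edges_6_20 v (by omega) (by omega)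
              · exact edgesRangeI_spec iota E 6 2611 57387 edges_6_21 v (by omega) (by omega)
          · rcases Nat.lt_or_ge v 66106 with h | h
            · rcases Nat.lt_or_ge v 63241 with h | h
              · exact edgesRangeI_spec iota E 6 3243 59998 edges_6_22 v (by omega) (by omega)
              · exact edgesRangeI_spec iota E 6 2865 63241 edges_6_23 v (by omega) (by omega)
            · rcases Nat.lt_or_ge v 68430 with h | h
              · exact edgesRangeI_spec iota E 6 2324 66106 edges_6_24 v (by omega) (by omega)
              · exact edgesRangeI_spec iota E 6 2999 68430 edges_6_25 v (by omega) (by omega)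
    · rcases Nat.lt_or_ge v 104027 with h | h
      · rcases Nat.lt_or_ge v 87281 with h | h
        · rcases Nat.lt_or_ge v 79475 with h | h
          · rcases Nat.lt_or_ge v 73866 with h | h
            · exact edgesRangeI_spec iota E 6 2437 71429 edges_6_26 v (by omega) (by omega)
            · rcases Nat.lt_or_ge v 76354 with h | h
              · exact edgesRangeI_spec iota E 6 2488 73866 edges_6_27 v (by omega) (by omega)
              · exact edgesRangeI_spec iota E 6 3121 76354 edges_6_28 v (by omega) (by omega)
          · rcases Nat.lt_or_ge v 82530 with h | h
            · exact edgesRangeI_spec iota E 6 3055 79475 edges_6_29 v (by omega) (by omega)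
            · rcases Nat.lt_or_ge v 84899 with h | h
              · exact edgesRangeI_spec iota E 6 2369 82530 edges_6_30 v (by omega) (by omega)
              · exact edgesRangeI_spec iota E 6 2382 84899 edges_6_31 v (by omega) (by omega)
        · rcases Nat.lt_or_ge v 95321 with h | h
          · rcases Nat.lt_or_ge v 89978 with h | h
            · exact edgesRangeI_spec iota E 6 2697 87281 edges_6_32 v (by omega) (by omega)
            · rcases Nat.lt_or_ge v 92824 with h | h
              · exact edgesRangeI_spec iota E 6 2846 89978 edges_6_33 v (by omega) (by omega)
              · exact edgesRangeI_spec iota E 6 2497 92824 edges_6_34 v (by omega) (by omega)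
          · rcases Nat.lt_or_ge v 99602 with h | h
            · rcases Nat.lt_or_ge v 97458 with h | h
              · exact edgesRangeI_spec iota E 6 2137 95321 edges_6_35 v (by omega) (by omega)
              · exact edgesRangeI_spec iota E 6 2144 97458 edges_6_36 v (by omega) (by omega)
            · rcases Nat.lt_or_ge v 101812 with h | h
              · exact edgesRangeI_spec iota E 6 2210 99602 edges_6_37 v (by omega) (by omega)
              · exact edgesRangeI_spec iota E 6 2215 101812 edges_6_38 v (by omega) (by omega)
      · rcases Nat.lt_or_ge v 119061 with h | h
        · rcases Nat.lt_or_ge v 110485 with h | h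
          · rcases Nat.lt_or_ge v 106136 with h | h
            · exact edgesRangeI_spec iota E 6 2109 104027 edges_6_39 v (by omega) (by omega)
            · rcases Nat.lt_or_ge v 108372 with h | h
              · exact edgesRangeI_spec iota E 6 2236 106136 edges_6_40 v (by omega) (by omega)
              · exact edgesRangeI_spec iota E 6 2113 108372 edges_6_41 v (by omega) (by omega)
          · rcases Nat.lt_or_ge v 114857 with h | h
            · rcases Nat.lt_or_ge v 112531 with h | h
              · exact edgesRangeI_spec iota E 6 2046 110485 edges_6_42 v (by omega) (by omega)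
              · exact edgesRangeI_spec iota E 6 2326 112531 edges_6_43 v (by omega) (by omega)
            · rcases Nat.lt_or_ge v 117042 with h | h
              · exact edgesRangeI_spec iota E 6 2185 114857 edges_6_44 v (by omega) (by omega)
              · exact edgesRangeI_spec iota E 6 2019 117042 edges_6_45 v (by omega) (by omega)
        · rcases Nat.lt_or_ge v 125735 with h | h
          · rcases Nat.lt_or_ge v 121194 with h | h
            · exact edgesRangeI_spec iota E 6 2133 119061 edges_6_46 v (by omega) (by omega)
            · rcases Nat.lt_or_ge v 123279 with h | h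
              · exact edgesRangeI_spec iota E 6 2085 121194 edges_6_47 v (by omega) (by omega)
              · exact edgesRangeI_spec iota E 6 2456 123279 edges_6_48 v (by omega) (by omega)
          · rcases Nat.lt_or_ge v 130406 with h | h
            · rcases Nat.lt_or_ge v 127955 with h | h
              · exact edgesRangeI_spec iota E 6 2220 125735 edges_6_49 v (by omega) (by omega)
              · exact edgesRangeI_spec iota E 6 2451 127955 edges_6_50 v (by omega) (by omega)
            · rcases Nat.lt_or_ge v 132596 with h | h
              · exact edgesRangeI_spec iota E 6 2190 130406 edges_6_51 v (by omega) (by omega)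
              · exact edgesRangeI_spec iota E 6 2268 132596 edges_6_52 v (by omega) (by omega)
  · rcases Nat.lt_or_ge v 187637 with h | h
    · rcases Nat.lt_or_ge v 163988 with h | h
      · rcases Nat.lt_or_ge v 147280 with h | h
        · rcases Nat.lt_or_ge v 140955 with h | h
          · rcases Nat.lt_or_ge v 136974 with h | h
            · exact edgesRangeI_spec iota E 6 2110 134864 edges_6_53 v (by omega) (by omega)
            · rcases Nat.lt_or_ge v 138919 with h | h
              · exact edgesRangeI_spec iota E 6 1945 136974 edges_6_54 v (by omega) (by omega)
              · exact edgesRangeI_spec iota E 6 2036 138919 edges_6_55 v (by omega) (by omega)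
          · rcases Nat.lt_or_ge v 143201 with h | h
            · exact edgesRangeI_spec iota E 6 2246 140955 edges_6_56 v (by omega) (by omega)
            · rcases Nat.lt_or_ge v 145239 with h | h
              · exact edgesRangeI_spec iota E 6 2038 143201 edges_6_57 v (by omega) (by omega)
              · exact edgesRangeI_spec iota E 6 2041 145239 edges_6_58 v (by omega) (by omega)
        · rcases Nat.lt_or_ge v 154405 with h | h
          · rcases Nat.lt_or_ge v 149431 with h | h
            · exact edgesRangeI_spec iota E 6 2151 147280 edges_6_59 v (by omega) (by omega)
            · rcases Nat.lt_or_ge v 151855 with h | h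
              · exact edgesRangeI_spec iota E 6 2424 149431 edges_6_60 v (by omega) (by omega)
              · exact edgesRangeI_spec iota E 6 2550 151855 edges_6_61 v (by omega) (by omega)
          · rcases Nat.lt_or_ge v 159126 with h | h
            · rcases Nat.lt_or_ge v 156650 with h | h
              · exact edgesRangeI_spec iota E 6 2245 154405 edges_6_62 v (by omega) (by omega)
              · exact edgesRangeI_spec iota E 6 2476 156650 edges_6_63 v (by omega) (by omega)
            · rcases Nat.lt_or_ge v 161484 with h | h
              · exact edgesRangeI_spec iota E 6 2358 159126 edges_6_64 v (by omega) (by omega)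
              · exact edgesRangeI_spec iota E 6 2504 161484 edges_6_65 v (by omega) (by omega)
      · rcases Nat.lt_or_ge v 178788 with h | h
        · rcases Nat.lt_or_ge v 170963 with h | h
          · rcases Nat.lt_or_ge v 166316 with h | h
            · exact edgesRangeI_spec iota E 6 2328 163988 edges_6_66 v (by omega) (by omega)
            · rcases Nat.lt_or_ge v 168653 with h | h
              · exact edgesRangeI_spec iota E 6 2337 166316 edges_6_67 v (by omega) (by omega)
              · exact edgesRangeI_spec iota E 6 2310 168653 edges_6_68 v (by omega) (by omega)
          · rcases Nat.lt_or_ge v 175638 with h | h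
            · rcases Nat.lt_or_ge v 173197 with h | h
              · exact edgesRangeI_spec iota E 6 2234 170963 edges_6_69 v (by omega) (by omega)
              · exact edgesRangeI_spec iota E 6 2441 173197 edges_6_70 v (by omega) (by omega)
            · rcases Nat.lt_or_ge v 177415 with h | h
              · exact edgesRangeI_spec iota E 6 1777 175638 edges_6_71 v (by omega) (by omega)
              · exact edgesRangeI_spec iota E 6 1373 177415 edges_6_72 v (by omega) (by omega)
        · rcases Nat.lt_or_ge v 182798 with h | h
          · rcases Nat.lt_or_ge v 180127 with h | h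
            · exact edgesRangeI_spec iota E 6 1339 178788 edges_6_73 v (by omega) (by omega)
            · rcases Nat.lt_or_ge v 181557 with h | h
              · exact edgesRangeI_spec iota E 6 1430 180127 edges_6_74 v (by omega) (by omega)
              · exact edgesRangeI_spec iota E 6 1241 181557 edges_6_75 v (by omega) (by omega)
          · rcases Nat.lt_or_ge v 185245 with h | h
            · rcases Nat.lt_or_ge v 184020 with h | h
              · exact edgesRangeI_spec iota E 6 1222 182798 edges_6_76 v (by omega) (by omega)
              · exact edgesRangeI_spec iota E 6 1225 184020 edges_6_77 v (by omega) (by omega)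
            · rcases Nat.lt_or_ge v 186476 with h | h
              · exact edgesRangeI_spec iota E 6 1231 185245 edges_6_78 v (by omega) (by omega)
              · exact edgesRangeI_spec iota E 6 1161 186476 edges_6_79 v (by omega) (by omega)
    · rcases Nat.lt_or_ge v 202054 with h | h
      · rcases Nat.lt_or_ge v 194633 with h | h
        · rcases Nat.lt_or_ge v 191191 with h | h
          · rcases Nat.lt_or_ge v 188851 with h | h
            · exact edgesRangeI_spec iota E 6 1214 187637 edges_6_80 v (by omega) (by omega)
            · rcases Nat.lt_or_ge v 190059 with h | h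
              · exact edgesRangeI_spec iota E 6 1208 188851 edges_6_81 v (by omega) (by omega)
              · exact edgesRangeI_spec iota E 6 1132 190059 edges_6_82 v (by omega) (by omega)
          · rcases Nat.lt_or_ge v 192391 with h | h
            · exact edgesRangeI_spec iota E 6 1200 191191 edges_6_83 v (by omega) (by omega)
            · rcases Nat.lt_or_ge v 193534 with h | h
              · exact edgesRangeI_spec iota E 6 1143 192391 edges_6_84 v (by omega) (by omega)
              · exact edgesRangeI_spec iota E 6 1099 193534 edges_6_85 v (by omega) (by omega)
        · rcases Nat.lt_or_ge v 197859 with h | h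
          · rcases Nat.lt_or_ge v 195803 with h | h
            · exact edgesRangeI_spec iota E 6 1170 194633 edges_6_86 v (by omega) (by omega)
            · rcases Nat.lt_or_ge v 196794 with h | h
              · exact edgesRangeI_spec iota E 6 991 195803 edges_6_87 v (by omega) (by omega)
              · exact edgesRangeI_spec iota E 6 1065 196794 edges_6_88 v (by omega) (by omega)
          · rcases Nat.lt_or_ge v 199995 with h | h
            · rcases Nat.lt_or_ge v 198939 with h | h
              · exact edgesRangeI_spec iota E 6 1080 197859 edges_6_89 v (by omega) (by omega)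
              · exact edgesRangeI_spec iota E 6 1056 198939 edges_6_90 v (by omega) (by omega)
            · rcases Nat.lt_or_ge v 201032 with h | h
              · exact edgesRangeI_spec iota E 6 1037 199995 edges_6_91 v (by omega) (by omega)
              · exact edgesRangeI_spec iota E 6 1022 201032 edges_6_92 v (by omega) (by omega)
      · rcases Nat.lt_or_ge v 208752 with h | h
        · rcases Nat.lt_or_ge v 205064 with h | h
          · rcases Nat.lt_or_ge v 203071 with h | h
            · exact edgesRangeI_spec iota E 6 1017 202054 edges_6_93 v (by omega) (by omega)
            · rcases Nat.lt_or_ge v 204048 with h | h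
              · exact edgesRangeI_spec iota E 6 977 203071 edges_6_94 v (by omega) (by omega)
              · exact edgesRangeI_spec iota E 6 1016 204048 edges_6_95 v (by omega) (by omega)
          · rcases Nat.lt_or_ge v 206988 with h | h
            · rcases Nat.lt_or_ge v 206011 with h | h
              · exact edgesRangeI_spec iota E 6 947 205064 edges_6_96 v (by omega) (by omega)
              · exact edgesRangeI_spec iota E 6 977 206011 edges_6_97 v (by omega) (by omega)
            · rcases Nat.lt_or_ge v 207881 with h | h
              · exact edgesRangeI_spec iota E 6 893 206988 edges_6_98 v (by omega) (by omega)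
              · exact edgesRangeI_spec iota E 6 871 207881 edges_6_99 v (by omega) (by omega)
        · rcases Nat.lt_or_ge v 211433 with h | h
          · rcases Nat.lt_or_ge v 209595 with h | h
            · exact edgesRangeI_spec iota E 6 843 208752 edges_6_100 v (by omega) (by omega)
            · rcases Nat.lt_or_ge v 210542 with h | h
              · exact edgesRangeI_spec iota E 6 947 209595 edges_6_101 v (by omega) (by omega)
              · exact edgesRangeI_spec iota E 6 891 210542 edges_6_102 v (by omega) (by omega)
          · rcases Nat.lt_or_ge v 213065 with h | h
            · rcases Nat.lt_or_ge v 212233 with h | h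
              · exact edgesRangeI_spec iota E 6 800 211433 edges_6_103 v (by omega) (by omega)
              · exact edgesRangeI_spec iota E 6 832 212233 edges_6_104 v (by omega) (by omega)
            · rcases Nat.lt_or_ge v 213880 with h | h
              · exact edgesRangeI_spec iota E 6 815 213065 edges_6_105 v (by omega) (by omega)
              · exact edgesRangeI_spec iota E 6 82 213880 edges_6_106 v (by omega) (by omega)

theorem edgesx_7 : ∀ v, v < 213962 → edgeOKI iota E 7 v = true := by
  intro v hv
  rcases Nat.lt_or_ge v 121486 with h | h
  · rcases Nat.lt_or_ge v 62568 with h | h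
    · rcases Nat.lt_or_ge v 30129 with h | h
      · rcases Nat.lt_or_ge v 13926 with h | h
        · rcases Nat.lt_or_ge v 5822 with h | h
          · rcases Nat.lt_or_ge v 2938 with h | h
            · exact edgesRangeI_spec iota E 7 2938 0 edges_7_0 v (by omega) (by omega)
            · exact edgesRangeI_spec iota E 7 2884 2938 edges_7_1 v (by omega) (by omega)
          · rcases Nat.lt_or_ge v 8625 with h | h
            · exact edgesRangeI_spec iota E 7 2803 5822 edges_7_2 v (by omega) (by omega)
            · rcases Nat.lt_or_ge v 11350 with h | h
              · exact edgesRangeI_spec iota E 7 2725 8625 edges_7_3 v (by omega) (by omega)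
              · exact edgesRangeI_spec iota E 7 2576 11350 edges_7_4 v (by omega) (by omega)
        · rcases Nat.lt_or_ge v 22224 with h | h
          · rcases Nat.lt_or_ge v 16696 with h | h
            · exact edgesRangeI_spec iota E 7 2770 13926 edges_7_5 v (by omega) (by omega)
            · rcases Nat.lt_or_ge v 19421 with h | h
              · exact edgesRangeI_spec iota E 7 2725 16696 edges_7_6 v (by omega) (by omega)
              · exact edgesRangeI_spec iota E 7 2803 19421 edges_7_7 v (by omega) (by omega)
          · rcases Nat.lt_or_ge v 24847 with h | h
            · exact edgesRangeI_spec iota E 7 2623 22224 edges_7_8 v (by omega) (by omega)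
            · rcases Nat.lt_or_ge v 27392 with h | h
              · exact edgesRangeI_spec iota E 7 2545 24847 edges_7_9 v (by omega) (by omega)
              · exact edgesRangeI_spec iota E 7 2737 27392 edges_7_10 v (by omega) (by omega)
      · rcases Nat.lt_or_ge v 46301 with h | h
        · rcases Nat.lt_or_ge v 38573 with h | h
          · rcases Nat.lt_or_ge v 32873 with h | h
            · exact edgesRangeI_spec iota E 7 2744 30129 edges_7_11 v (by omega) (by omega)
            · rcases Nat.lt_or_ge v 35493 with h | h
              · exact edgesRangeI_spec iota E 7 2620 32873 edges_7_12 v (by omega) (by omega)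
              · exact edgesRangeI_spec iota E 7 3080 35493 edges_7_13 v (by omega) (by omega)
          · rcases Nat.lt_or_ge v 41112 with h | h
            · exact edgesRangeI_spec iota E 7 2539 38573 edges_7_14 v (by omega) (by omega)
            · rcases Nat.lt_or_ge v 43661 with h | h
              · exact edgesRangeI_spec iota E 7 2549 41112 edges_7_15 v (by omega) (by omega)
              · exact edgesRangeI_spec iota E 7 2640 43661 edges_7_16 v (by omega) (by omega)
        · rcases Nat.lt_or_ge v 54099 with h | h
          · rcases Nat.lt_or_ge v 48903 with h | h
            · exact edgesRangeI_spec iota E 7 2602 46301 edges_7_17 v (by omega) (by omega)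
            · rcases Nat.lt_or_ge v 51562 with h | h
              · exact edgesRangeI_spec iota E 7 2659 48903 edges_7_18 v (by omega) (by omega)
              · exact edgesRangeI_spec iota E 7 2537 51562 edges_7_19 v (by omega) (by omega)
          · rcases Nat.lt_or_ge v 56943 with h | h
            · exact edgesRangeI_spec iota E 7 2844 54099 edges_7_20 v (by omega) (by omega)
            · rcases Nat.lt_or_ge v 59530 with h | h
              · exact edgesRangeI_spec iota E 7 2587 56943 edges_7_21 v (by omega) (by omega)
              · exact edgesRangeI_spec iota E 7 3038 59530 edges_7_22 v (by omega) (by omega)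
    · rcases Nat.lt_or_ge v 92476 with h | h
      · rcases Nat.lt_or_ge v 75887 with h | h
        · rcases Nat.lt_or_ge v 67851 with h | h
          · rcases Nat.lt_or_ge v 65321 with h | h
            · exact edgesRangeI_spec iota E 7 2753 62568 edges_7_23 v (by omega) (by omega)
            · exact edgesRangeI_spec iota E 7 2530 65321 edges_7_24 v (by omega) (by omega)
          · rcases Nat.lt_or_ge v 70712 with h | h
            · exact edgesRangeI_spec iota E 7 2861 67851 edges_7_25 v (by omega) (by omega)
            · rcases Nat.lt_or_ge v 73416 with h | h
              · exact edgesRangeI_spec iota E 7 2704 70712 edges_7_26 v (by omega) (by omega)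
              · exact edgesRangeI_spec iota E 7 2471 73416 edges_7_27 v (by omega) (by omega)
        · rcases Nat.lt_or_ge v 84300 with h | h
          · rcases Nat.lt_or_ge v 78767 with h | h
            · exact edgesRangeI_spec iota E 7 2880 75887 edges_7_28 v (by omega) (by omega)
            · rcases Nat.lt_or_ge v 81623 with h | h
              · exact edgesRangeI_spec iota E 7 2856 78767 edges_7_29 v (by omega) (by omega)
              · exact edgesRangeI_spec iota E 7 2677 81623 edges_7_30 v (by omega) (by omega)
          · rcases Nat.lt_or_ge v 86989 with h | h
            · exact edgesRangeI_spec iota E 7 2689 84300 edges_7_31 v (by omega) (by omega)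
            · rcases Nat.lt_or_ge v 89780 with h | h
              · exact edgesRangeI_spec iota E 7 2791 86989 edges_7_32 v (by omega) (by omega)
              · exact edgesRangeI_spec iota E 7 2696 89780 edges_7_33 v (by omega) (by omega)
      · rcases Nat.lt_or_ge v 106991 with h | h
        · rcases Nat.lt_or_ge v 99896 with h | h
          · rcases Nat.lt_or_ge v 95053 with h | h
            · exact edgesRangeI_spec iota E 7 2577 92476 edges_7_34 v (by omega) (by omega)
            · rcases Nat.lt_or_ge v 97449 with h | h
              · exact edgesRangeI_spec iota E 7 2396 95053 edges_7_35 v (by omega) (by omega)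
              · exact edgesRangeI_spec iota E 7 2447 97449 edges_7_36 v (by omega) (by omega)
          · rcases Nat.lt_or_ge v 102299 with h | h
            · exact edgesRangeI_spec iota E 7 2403 99896 edges_7_37 v (by omega) (by omega)
            · rcases Nat.lt_or_ge v 104607 with h | h
              · exact edgesRangeI_spec iota E 7 2308 102299 edges_7_38 v (by omega) (by omega)
              · exact edgesRangeI_spec iota E 7 2384 104607 edges_7_39 v (by omega) (by omega)
        · rcases Nat.lt_or_ge v 114274 with h | h
          · rcases Nat.lt_or_ge v 109331 with h | h
            · exact edgesRangeI_spec iota E 7 2340 106991 edges_7_40 v (by omega) (by omega)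
            · rcases Nat.lt_or_ge v 111811 with h | h
              · exact edgesRangeI_spec iota E 7 2480 109331 edges_7_41 v (by omega) (by omega)
              · exact edgesRangeI_spec iota E 7 2463 111811 edges_7_42 v (by omega) (by omega)
          · rcases Nat.lt_or_ge v 116832 with h | h
            · exact edgesRangeI_spec iota E 7 2558 114274 edges_7_43 v (by omega) (by omega)
            · rcases Nat.lt_or_ge v 119122 with h | h
              · exact edgesRangeI_spec iota E 7 2290 116832 edges_7_44 v (by omega) (by omega)
              · exact edgesRangeI_spec iota E 7 2364 119122 edges_7_45 v (by omega) (by omega)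
  · rcases Nat.lt_or_ge v 179131 with h | h
    · rcases Nat.lt_or_ge v 148342 with h | h
      · rcases Nat.lt_or_ge v 133972 with h | h
        · rcases Nat.lt_or_ge v 126474 with h | h
          · rcases Nat.lt_or_ge v 123870 with h | h
            · exact edgesRangeI_spec iota E 7 2384 121486 edges_7_46 v (by omega) (by omega)
            · exact edgesRangeI_spec iota E 7 2604 123870 edges_7_47 v (by omega) (by omega)
          · rcases Nat.lt_or_ge v 128929 with h | h
            · exact edgesRangeI_spec iota E 7 2455 126474 edges_7_48 v (by omega) (by omega)
            · rcases Nat.lt_or_ge v 131493 with h | h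
              · exact edgesRangeI_spec iota E 7 2564 128929 edges_7_49 v (by omega) (by omega)
              · exact edgesRangeI_spec iota E 7 2479 131493 edges_7_50 v (by omega) (by omega)
        · rcases Nat.lt_or_ge v 141015 with h | h
          · rcases Nat.lt_or_ge v 136384 with h | h
            · exact edgesRangeI_spec iota E 7 2412 133972 edges_7_51 v (by omega) (by omega)
            · rcases Nat.lt_or_ge v 138591 with h | h
              · exact edgesRangeI_spec iota E 7 2207 136384 edges_7_52 v (by omega) (by omega)
              · exact edgesRangeI_spec iota E 7 2424 138591 edges_7_53 v (by omega) (by omega)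
          · rcases Nat.lt_or_ge v 143577 with h | h
            · exact edgesRangeI_spec iota E 7 2562 141015 edges_7_54 v (by omega) (by omega)
            · rcases Nat.lt_or_ge v 146025 with h | h
              · exact edgesRangeI_spec iota E 7 2448 143577 edges_7_55 v (by omega) (by omega)
              · exact edgesRangeI_spec iota E 7 2317 146025 edges_7_56 v (by omega) (by omega)
      · rcases Nat.lt_or_ge v 164704 with h | h
        · rcases Nat.lt_or_ge v 156511 with h | h
          · rcases Nat.lt_or_ge v 150968 with h | h
            · exact edgesRangeI_spec iota E 7 2626 148342 edges_7_57 v (by omega) (by omega)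
            · rcases Nat.lt_or_ge v 153826 with h | h
              · exact edgesRangeI_spec iota E 7 2858 150968 edges_7_58 v (by omega) (by omega)
              · exact edgesRangeI_spec iota E 7 2685 153826 edges_7_59 v (by omega) (by omega)
          · rcases Nat.lt_or_ge v 159270 with h | h
            · exact edgesRangeI_spec iota E 7 2759 156511 edges_7_60 v (by omega) (by omega)
            · rcases Nat.lt_or_ge v 162098 with h | h
              · exact edgesRangeI_spec iota E 7 2828 159270 edges_7_61 v (by omega) (by omega)
              · exact edgesRangeI_spec iota E 7 2606 162098 edges_7_62 v (by omega) (by omega)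
        · rcases Nat.lt_or_ge v 172416 with h | h
          · rcases Nat.lt_or_ge v 167232 with h | h
            · exact edgesRangeI_spec iota E 7 2528 164704 edges_7_63 v (by omega) (by omega)
            · rcases Nat.lt_or_ge v 169900 with h | h
              · exact edgesRangeI_spec iota E 7 2668 167232 edges_7_64 v (by omega) (by omega)
              · exact edgesRangeI_spec iota E 7 2516 169900 edges_7_65 v (by omega) (by omega)
          · rcases Nat.lt_or_ge v 174989 with h | h
            · exact edgesRangeI_spec iota E 7 2573 172416 edges_7_66 v (by omega) (by omega)
            · rcases Nat.lt_or_ge v 177383 with h | h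
              · exact edgesRangeI_spec iota E 7 2394 174989 edges_7_67 v (by omega) (by omega)
              · exact edgesRangeI_spec iota E 7 1748 177383 edges_7_68 v (by omega) (by omega)
    · rcases Nat.lt_or_ge v 198263 with h | h
      · rcases Nat.lt_or_ge v 188999 with h | h
        · rcases Nat.lt_or_ge v 184151 with h | h
          · rcases Nat.lt_or_ge v 180801 with h | h
            · exact edgesRangeI_spec iota E 7 1670 179131 edges_7_69 v (by omega) (by omega)
            · rcases Nat.lt_or_ge v 182490 with h | h
              · exact edgesRangeI_spec iota E 7 1689 180801 edges_7_70 v (by omega) (by omega)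
              · exact edgesRangeI_spec iota E 7 1661 182490 edges_7_71 v (by omega) (by omega)
          · rcases Nat.lt_or_ge v 185815 with h | h
            · exact edgesRangeI_spec iota E 7 1664 184151 edges_7_72 v (by omega) (by omega)
            · rcases Nat.lt_or_ge v 187399 with h | h
              · exact edgesRangeI_spec iota E 7 1584 185815 edges_7_73 v (by omega) (by omega)
              · exact edgesRangeI_spec iota E 7 1600 187399 edges_7_74 v (by omega) (by omega)
        · rcases Nat.lt_or_ge v 193678 with h | h
          · rcases Nat.lt_or_ge v 190559 with h | h
            · exact edgesRangeI_spec iota E 7 1560 188999 edges_7_75 v (by omega) (by omega)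
            · rcases Nat.lt_or_ge v 192136 with h | h
              · exact edgesRangeI_spec iota E 7 1577 190559 edges_7_76 v (by omega) (by omega)
              · exact edgesRangeI_spec iota E 7 1542 192136 edges_7_77 v (by omega) (by omega)
          · rcases Nat.lt_or_ge v 195235 with h | h
            · exact edgesRangeI_spec iota E 7 1557 193678 edges_7_78 v (by omega) (by omega)
            · rcases Nat.lt_or_ge v 196750 with h | h
              · exact edgesRangeI_spec iota E 7 1515 195235 edges_7_79 v (by omega) (by omega)
              · exact edgesRangeI_spec iota E 7 1513 196750 edges_7_80 v (by omega) (by omega)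
      · rcases Nat.lt_or_ge v 207003 with h | h
        · rcases Nat.lt_or_ge v 202651 with h | h
          · rcases Nat.lt_or_ge v 199747 with h | h
            · exact edgesRangeI_spec iota E 7 1484 198263 edges_7_81 v (by omega) (by omega)
            · rcases Nat.lt_or_ge v 201196 with h | h
              · exact edgesRangeI_spec iota E 7 1449 199747 edges_7_82 v (by omega) (by omega)
              · exact edgesRangeI_spec iota E 7 1455 201196 edges_7_83 v (by omega) (by omega)
          · rcases Nat.lt_or_ge v 204066 with h | h
            · exact edgesRangeI_spec iota E 7 1415 202651 edges_7_84 v (by omega) (by omega)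
            · rcases Nat.lt_or_ge v 205550 with h | h
              · exact edgesRangeI_spec iota E 7 1484 204066 edges_7_85 v (by omega) (by omega)
              · exact edgesRangeI_spec iota E 7 1453 205550 edges_7_86 v (by omega) (by omega)
        · rcases Nat.lt_or_ge v 211089 with h | h
          · rcases Nat.lt_or_ge v 208392 with h | h
            · exact edgesRangeI_spec iota E 7 1389 207003 edges_7_87 v (by omega) (by omega)
            · rcases Nat.lt_or_ge v 209720 with h | h
              · exact edgesRangeI_spec iota E 7 1328 208392 edges_7_88 v (by omega) (by omega)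
              · exact edgesRangeI_spec iota E 7 1369 209720 edges_7_89 v (by omega) (by omega)
          · rcases Nat.lt_or_ge v 212388 with h | h
            · exact edgesRangeI_spec iota E 7 1299 211089 edges_7_90 v (by omega) (by omega)
            · rcases Nat.lt_or_ge v 213631 with h | h
              · exact edgesRangeI_spec iota E 7 1243 212388 edges_7_91 v (by omega) (by omega)
              · exact edgesRangeI_spec iota E 7 331 213631 edges_7_92 v (by omega) (by omega)

theorem hA0 : ∀ v, v < 213962 → aliasOK E v = true := by
  intro v hv
  rcases Nat.lt_or_ge v 106742 with h | h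
  · rcases Nat.lt_or_ge v 57510 with h | h
    · rcases Nat.lt_or_ge v 29484 with h | h
      · rcases Nat.lt_or_ge v 13014 with h | h
        · rcases Nat.lt_or_ge v 6662 with h | h
          · rcases Nat.lt_or_ge v 3505 with h | h
            · exact aliasRange_spec E 3505 0 aliases_0 v (by omega) (by omega)
            · exact aliasRange_spec E 3157 3505 aliases_1 v (by omega) (by omega)
          · rcases Nat.lt_or_ge v 9693 with h | h
            · exact aliasRange_spec E 3031 6662 aliases_2 v (by omega) (by omega)
            · exact aliasRange_spec E 3321 9693 aliases_3 v (by omega) (by omega)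
        · rcases Nat.lt_or_ge v 19568 with h | h
          · rcases Nat.lt_or_ge v 16228 with h | h
            · exact aliasRange_spec E 3214 13014 aliases_4 v (by omega) (by omega)
            · exact aliasRange_spec E 3340 16228 aliases_5 v (by omega) (by omega)
          · rcases Nat.lt_or_ge v 22466 with h | h
            · exact aliasRange_spec E 2898 19568 aliases_6 v (by omega) (by omega)
            · rcases Nat.lt_or_ge v 25835 with h | h
              · exact aliasRange_spec E 3369 22466 aliases_7 v (by omega) (by omega)
              · exact aliasRange_spec E 3649 25835 aliases_8 v (by omega) (by omega)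
      · rcases Nat.lt_or_ge v 42015 with h | h
        · rcases Nat.lt_or_ge v 36456 with h | h
          · rcases Nat.lt_or_ge v 33108 with h | h
            · exact aliasRange_spec E 3624 29484 aliases_9 v (by omega) (by omega)
            · exact aliasRange_spec E 3348 33108 aliases_10 v (by omega) (by omega)
          · rcases Nat.lt_or_ge v 39053 with h | h
            · exact aliasRange_spec E 2597 36456 aliases_11 v (by omega) (by omega)
            · exact aliasRange_spec E 2962 39053 aliases_12 v (by omega) (by omega)
        · rcases Nat.lt_or_ge v 48182 with h | h
          · rcases Nat.lt_or_ge v 45146 with h | h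
            · exact aliasRange_spec E 3131 42015 aliases_13 v (by omega) (by omega)
            · exact aliasRange_spec E 3036 45146 aliases_14 v (by omega) (by omega)
          · rcases Nat.lt_or_ge v 51821 with h | h
            · exact aliasRange_spec E 3639 48182 aliases_15 v (by omega) (by omega)
            · rcases Nat.lt_or_ge v 54896 with h | h
              · exact aliasRange_spec E 3075 51821 aliases_16 v (by omega) (by omega)
              · exact aliasRange_spec E 2614 54896 aliases_17 v (by omega) (by omega)
    · rcases Nat.lt_or_ge v 82003 with h | h
      · rcases Nat.lt_or_ge v 69746 with h | h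
        · rcases Nat.lt_or_ge v 63717 with h | h
          · rcases Nat.lt_or_ge v 60865 with h | h
            · exact aliasRange_spec E 3355 57510 aliases_18 v (by omega) (by omega)
            · exact aliasRange_spec E 2852 60865 aliases_19 v (by omega) (by omega)
          · rcases Nat.lt_or_ge v 66800 with h | h
            · exact aliasRange_spec E 3083 63717 aliases_20 v (by omega) (by omega)
            · exact aliasRange_spec E 2946 66800 aliases_21 v (by omega) (by omega)
        · rcases Nat.lt_or_ge v 74985 with h | h
          · rcases Nat.lt_or_ge v 72176 with h | h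
            · exact aliasRange_spec E 2430 69746 aliases_22 v (by omega) (by omega)
            · exact aliasRange_spec E 2809 72176 aliases_23 v (by omega) (by omega)
          · rcases Nat.lt_or_ge v 77391 with h | h
            · exact aliasRange_spec E 2406 74985 aliases_24 v (by omega) (by omega)
            · rcases Nat.lt_or_ge v 79649 with h | h
              · exact aliasRange_spec E 2258 77391 aliases_25 v (by omega) (by omega)
              · exact aliasRange_spec E 2354 79649 aliases_26 v (by omega) (by omega)
      · rcases Nat.lt_or_ge v 92623 with h | h
        · rcases Nat.lt_or_ge v 87137 with h | h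
          · rcases Nat.lt_or_ge v 84489 with h | h
            · exact aliasRange_spec E 2486 82003 aliases_27 v (by omega) (by omega)
            · exact aliasRange_spec E 2648 84489 aliases_28 v (by omega) (by omega)
          · rcases Nat.lt_or_ge v 89838 with h | h
            · exact aliasRange_spec E 2701 87137 aliases_29 v (by omega) (by omega)
            · exact aliasRange_spec E 2785 89838 aliases_30 v (by omega) (by omega)
        · rcases Nat.lt_or_ge v 98162 with h | h
          · rcases Nat.lt_or_ge v 95409 with h | h
            · exact aliasRange_spec E 2786 92623 aliases_31 v (by omega) (by omega)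
            · exact aliasRange_spec E 2753 95409 aliases_32 v (by omega) (by omega)
          · rcases Nat.lt_or_ge v 100886 with h | h
            · exact aliasRange_spec E 2724 98162 aliases_33 v (by omega) (by omega)
            · rcases Nat.lt_or_ge v 103692 with h | h
              · exact aliasRange_spec E 2806 100886 aliases_34 v (by omega) (by omega)
              · exact aliasRange_spec E 3050 103692 aliases_35 v (by omega) (by omega)
  · rcases Nat.lt_or_ge v 150433 with h | h
    · rcases Nat.lt_or_ge v 129391 with h | h
      · rcases Nat.lt_or_ge v 116412 with h | h
        · rcases Nat.lt_or_ge v 111609 with h | h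
          · rcases Nat.lt_or_ge v 109388 with h | h
            · exact aliasRange_spec E 2646 106742 aliases_36 v (by omega) (by omega)
            · exact aliasRange_spec E 2221 109388 aliases_37 v (by omega) (by omega)
          · rcases Nat.lt_or_ge v 114118 with h | h
            · exact aliasRange_spec E 2509 111609 aliases_38 v (by omega) (by omega)
            · exact aliasRange_spec E 2294 114118 aliases_39 v (by omega) (by omega)
        · rcases Nat.lt_or_ge v 122175 with h | h
          · rcases Nat.lt_or_ge v 119106 with h | h
            · exact aliasRange_spec E 2694 116412 aliases_40 v (by omega) (by omega)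
            · exact aliasRange_spec E 3069 119106 aliases_41 v (by omega) (by omega)
          · rcases Nat.lt_or_ge v 124527 with h | h
            · exact aliasRange_spec E 2352 122175 aliases_42 v (by omega) (by omega)
            · rcases Nat.lt_or_ge v 126944 with h | h
              · exact aliasRange_spec E 2417 124527 aliases_43 v (by omega) (by omega)
              · exact aliasRange_spec E 2447 126944 aliases_44 v (by omega) (by omega)
      · rcases Nat.lt_or_ge v 139006 with h | h
        · rcases Nat.lt_or_ge v 133862 with h | h
          · rcases Nat.lt_or_ge v 131654 with h | h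
            · exact aliasRange_spec E 2263 129391 aliases_45 v (by omega) (by omega)
            · exact aliasRange_spec E 2208 131654 aliases_46 v (by omega) (by omega)
          · rcases Nat.lt_or_ge v 136353 with h | h
            · exact aliasRange_spec E 2491 133862 aliases_47 v (by omega) (by omega)
            · exact aliasRange_spec E 2653 136353 aliases_48 v (by omega) (by omega)
        · rcases Nat.lt_or_ge v 143556 with h | h
          · rcases Nat.lt_or_ge v 141302 with h | h
            · exact aliasRange_spec E 2296 139006 aliases_49 v (by omega) (by omega)
            · exact aliasRange_spec E 2254 141302 aliases_50 v (by omega) (by omega)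
          · rcases Nat.lt_or_ge v 145875 with h | h
            · exact aliasRange_spec E 2319 143556 aliases_51 v (by omega) (by omega)
            · rcases Nat.lt_or_ge v 148352 with h | h
              · exact aliasRange_spec E 2477 145875 aliases_52 v (by omega) (by omega)
              · exact aliasRange_spec E 2081 148352 aliases_53 v (by omega) (by omega)
    · rcases Nat.lt_or_ge v 168659 with h | h
      · rcases Nat.lt_or_ge v 158398 with h | h
        · rcases Nat.lt_or_ge v 154416 with h | h
          · rcases Nat.lt_or_ge v 152378 with h | h
            · exact aliasRange_spec E 1945 150433 aliases_54 v (by omega) (by omega)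
            · exact aliasRange_spec E 2038 152378 aliases_55 v (by omega) (by omega)
          · rcases Nat.lt_or_ge v 156359 with h | h
            · exact aliasRange_spec E 1943 154416 aliases_56 v (by omega) (by omega)
            · exact aliasRange_spec E 2039 156359 aliases_57 v (by omega) (by omega)
        · rcases Nat.lt_or_ge v 162300 with h | h
          · rcases Nat.lt_or_ge v 160274 with h | h
            · exact aliasRange_spec E 1876 158398 aliases_58 v (by omega) (by omega)
            · exact aliasRange_spec E 2026 160274 aliases_59 v (by omega) (by omega)
          · rcases Nat.lt_or_ge v 164223 with h | h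
            · exact aliasRange_spec E 1923 162300 aliases_60 v (by omega) (by omega)
            · rcases Nat.lt_or_ge v 166459 with h | h
              · exact aliasRange_spec E 2236 164223 aliases_61 v (by omega) (by omega)
              · exact aliasRange_spec E 2200 166459 aliases_62 v (by omega) (by omega)
      · rcases Nat.lt_or_ge v 183760 with h | h
        · rcases Nat.lt_or_ge v 173016 with h | h
          · rcases Nat.lt_or_ge v 170719 with h | h
            · exact aliasRange_spec E 2060 168659 aliases_63 v (by omega) (by omega)
            · exact aliasRange_spec E 2297 170719 aliases_64 v (by omega) (by omega)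
          · rcases Nat.lt_or_ge v 175107 with h | h
            · exact aliasRange_spec E 2091 173016 aliases_65 v (by omega) (by omega)
            · rcases Nat.lt_or_ge v 177620 with h | h
              · exact aliasRange_spec E 2513 175107 aliases_66 v (by omega) (by omega)
              · exact aliasRange_spec E 6140 177620 aliases_67 v (by omega) (by omega)
        · rcases Nat.lt_or_ge v 197625 with h | h
          · rcases Nat.lt_or_ge v 190507 with h | h
            · exact aliasRange_spec E 6747 183760 aliases_68 v (by omega) (by omega)
            · exact aliasRange_spec E 7118 190507 aliases_69 v (by omega) (by omega)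
          · rcases Nat.lt_or_ge v 205117 with h | h
            · exact aliasRange_spec E 7492 197625 aliases_70 v (by omega) (by omega)
            · rcases Nat.lt_or_ge v 212984 with h | h
              · exact aliasRange_spec E 7867 205117 aliases_71 v (by omega) (by omega)
              · exact aliasRange_spec E 978 212984 aliases_72 v (by omega) (by omega)

theorem hrows0 : ∀ v, v < 213962 → tb RS v = true → rowOK2 E RS v E.D.k = true := by
  intro v hv
  rcases Nat.lt_or_ge v 106500 with h | h
  · rcases Nat.lt_or_ge v 52500 with h | h
    · rcases Nat.lt_or_ge v 25500 with h | h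
      · rcases Nat.lt_or_ge v 12000 with h | h
        · rcases Nat.lt_or_ge v 6000 with h | h
          · rcases Nat.lt_or_ge v 3000 with h | h
            · rcases Nat.lt_or_ge v 1500 with h | h
              · exact rowsRange_spec E RS 1500 0 rows_0 v (by omega) (by omega)
              · exact rowsRange_spec E RS 1500 1500 rows_1 v (by omega) (by omega)
            · rcases Nat.lt_or_ge v 4500 with h | h
              · exact rowsRange_spec E RS 1500 3000 rows_2 v (by omega) (by omega)
              · exact rowsRange_spec E RS 1500 4500 rows_3 v (by omega) (by omega)
          · rcases Nat.lt_or_ge v 9000 with h | h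
            · rcases Nat.lt_or_ge v 7500 with h | h
              · exact rowsRange_spec E RS 1500 6000 rows_4 v (by omega) (by omega)
              · exact rowsRange_spec E RS 1500 7500 rows_5 v (by omega) (by omega)
            · rcases Nat.lt_or_ge v 10500 with h | h
              · exact rowsRange_spec E RS 1500 9000 rows_6 v (by omega) (by omega)
              · exact rowsRange_spec E RS 1500 10500 rows_7 v (by omega) (by omega)
        · rcases Nat.lt_or_ge v 18000 with h | h
          · rcases Nat.lt_or_ge v 15000 with h | h
            · rcases Nat.lt_or_ge v 13500 with h | h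
              · exact rowsRange_spec E RS 1500 12000 rows_8 v (by omega) (by omega)
              · exact rowsRange_spec E RS 1500 13500 rows_9 v (by omega) (by omega)
            · rcases Nat.lt_or_ge v 16500 with h | h
              · exact rowsRange_spec E RS 1500 15000 rows_10 v (by omega) (by omega)
              · exact rowsRange_spec E RS 1500 16500 rows_11 v (by omega) (by omega)
          · rcases Nat.lt_or_ge v 21000 with h | h
            · rcases Nat.lt_or_ge v 19500 with h | h
              · exact rowsRange_spec E RS 1500 18000 rows_12 v (by omega) (by omega)
              · exact rowsRange_spec E RS 1500 19500 rows_13 v (by omega) (by omega)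
            · rcases Nat.lt_or_ge v 22500 with h | h
              · exact rowsRange_spec E RS 1500 21000 rows_14 v (by omega) (by omega)
              · rcases Nat.lt_or_ge v 24000 with h | h
                · exact rowsRange_spec E RS 1500 22500 rows_15 v (by omega) (by omega)
                · exact rowsRange_spec E RS 1500 24000 rows_16 v (by omega) (by omega)
      · rcases Nat.lt_or_ge v 39000 with h | h
        · rcases Nat.lt_or_ge v 31500 with h | h
          · rcases Nat.lt_or_ge v 28500 with h | h
            · rcases Nat.lt_or_ge v 27000 with h | h
              · exact rowsRange_spec E RS 1500 25500 rows_17 v (by omega) (by omega)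
              · exact rowsRange_spec E RS 1500 27000 rows_18 v (by omega) (by omega)
            · rcases Nat.lt_or_ge v 30000 with h | h
              · exact rowsRange_spec E RS 1500 28500 rows_19 v (by omega) (by omega)
              · exact rowsRange_spec E RS 1500 30000 rows_20 v (by omega) (by omega)
          · rcases Nat.lt_or_ge v 34500 with h | h
            · rcases Nat.lt_or_ge v 33000 with h | h
              · exact rowsRange_spec E RS 1500 31500 rows_21 v (by omega) (by omega)
              · exact rowsRange_spec E RS 1500 33000 rows_22 v (by omega) (by omega)
            · rcases Nat.lt_or_ge v 36000 with h | h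
              · exact rowsRange_spec E RS 1500 34500 rows_23 v (by omega) (by omega)
              · rcases Nat.lt_or_ge v 37500 with h | h
                · exact rowsRange_spec E RS 1500 36000 rows_24 v (by omega) (by omega)
                · exact rowsRange_spec E RS 1500 37500 rows_25 v (by omega) (by omega)
        · rcases Nat.lt_or_ge v 45000 with h | h
          · rcases Nat.lt_or_ge v 42000 with h | h
            · rcases Nat.lt_or_ge v 40500 with h | h
              · exact rowsRange_spec E RS 1500 39000 rows_26 v (by omega) (by omega)
              · exact rowsRange_spec E RS 1500 40500 rows_27 v (by omega) (by omega)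
            · rcases Nat.lt_or_ge v 43500 with h | h
              · exact rowsRange_spec E RS 1500 42000 rows_28 v (by omega) (by omega)
              · exact rowsRange_spec E RS 1500 43500 rows_29 v (by omega) (by omega)
          · rcases Nat.lt_or_ge v 48000 with h | h
            · rcases Nat.lt_or_ge v 46500 with h | h
              · exact rowsRange_spec E RS 1500 45000 rows_30 v (by omega) (by omega)
              · exact rowsRange_spec E RS 1500 46500 rows_31 v (by omega) (by omega)
            · rcases Nat.lt_or_ge v 49500 with h | h
              · exact rowsRange_spec E RS 1500 48000 rows_32 v (by omega) (by omega)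
              · rcases Nat.lt_or_ge v 51000 with h | h
                · exact rowsRange_spec E RS 1500 49500 rows_33 v (by omega) (by omega)
                · exact rowsRange_spec E RS 1500 51000 rows_34 v (by omega) (by omega)
    · rcases Nat.lt_or_ge v 79500 with h | h
      · rcases Nat.lt_or_ge v 66000 with h | h
        · rcases Nat.lt_or_ge v 58500 with h | h
          · rcases Nat.lt_or_ge v 55500 with h | h
            · rcases Nat.lt_or_ge v 54000 with h | h
              · exact rowsRange_spec E RS 1500 52500 rows_35 v (by omega) (by omega)
              · exact rowsRange_spec E RS 1500 54000 rows_36 v (by omega) (by omega)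
            · rcases Nat.lt_or_ge v 57000 with h | h
              · exact rowsRange_spec E RS 1500 55500 rows_37 v (by omega) (by omega)
              · exact rowsRange_spec E RS 1500 57000 rows_38 v (by omega) (by omega)
          · rcases Nat.lt_or_ge v 61500 with h | h
            · rcases Nat.lt_or_ge v 60000 with h | h
              · exact rowsRange_spec E RS 1500 58500 rows_39 v (by omega) (by omega)
              · exact rowsRange_spec E RS 1500 60000 rows_40 v (by omega) (by omega)
            · rcases Nat.lt_or_ge v 63000 with h | h
              · exact rowsRange_spec E RS 1500 61500 rows_41 v (by omega) (by omega)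
              · rcases Nat.lt_or_ge v 64500 with h | h
                · exact rowsRange_spec E RS 1500 63000 rows_42 v (by omega) (by omega)
                · exact rowsRange_spec E RS 1500 64500 rows_43 v (by omega) (by omega)
        · rcases Nat.lt_or_ge v 72000 with h | h
          · rcases Nat.lt_or_ge v 69000 with h | h
            · rcases Nat.lt_or_ge v 67500 with h | h
              · exact rowsRange_spec E RS 1500 66000 rows_44 v (by omega) (by omega)
              · exact rowsRange_spec E RS 1500 67500 rows_45 v (by omega) (by omega)
            · rcases Nat.lt_or_ge v 70500 with h | h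
              · exact rowsRange_spec E RS 1500 69000 rows_46 v (by omega) (by omega)
              · exact rowsRange_spec E RS 1500 70500 rows_47 v (by omega) (by omega)
          · rcases Nat.lt_or_ge v 75000 with h | h
            · rcases Nat.lt_or_ge v 73500 with h | h
              · exact rowsRange_spec E RS 1500 72000 rows_48 v (by omega) (by omega)
              · exact rowsRange_spec E RS 1500 73500 rows_49 v (by omega) (by omega)
            · rcases Nat.lt_or_ge v 76500 with h | h
              · exact rowsRange_spec E RS 1500 75000 rows_50 v (by omega) (by omega)
              · rcases Nat.lt_or_ge v 78000 with h | h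
                · exact rowsRange_spec E RS 1500 76500 rows_51 v (by omega) (by omega)
                · exact rowsRange_spec E RS 1500 78000 rows_52 v (by omega) (by omega)
      · rcases Nat.lt_or_ge v 93000 with h | h
        · rcases Nat.lt_or_ge v 85500 with h | h
          · rcases Nat.lt_or_ge v 82500 with h | h
            · rcases Nat.lt_or_ge v 81000 with h | h
              · exact rowsRange_spec E RS 1500 79500 rows_53 v (by omega) (by omega)
              · exact rowsRange_spec E RS 1500 81000 rows_54 v (by omega) (by omega)
            · rcases Nat.lt_or_ge v 84000 with h | h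
              · exact rowsRange_spec E RS 1500 82500 rows_55 v (by omega) (by omega)
              · exact rowsRange_spec E RS 1500 84000 rows_56 v (by omega) (by omega)
          · rcases Nat.lt_or_ge v 88500 with h | h
            · rcases Nat.lt_or_ge v 87000 with h | h
              · exact rowsRange_spec E RS 1500 85500 rows_57 v (by omega) (by omega)
              · exact rowsRange_spec E RS 1500 87000 rows_58 v (by omega) (by omega)
            · rcases Nat.lt_or_ge v 90000 with h | h
              · exact rowsRange_spec E RS 1500 88500 rows_59 v (by omega) (by omega)
              · rcases Nat.lt_or_ge v 91500 with h | h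
                · exact rowsRange_spec E RS 1500 90000 rows_60 v (by omega) (by omega)
                · exact rowsRange_spec E RS 1500 91500 rows_61 v (by omega) (by omega)
        · rcases Nat.lt_or_ge v 99000 with h | h
          · rcases Nat.lt_or_ge v 96000 with h | h
            · rcases Nat.lt_or_ge v 94500 with h | h
              · exact rowsRange_spec E RS 1500 93000 rows_62 v (by omega) (by omega)
              · exact rowsRange_spec E RS 1500 94500 rows_63 v (by omega) (by omega)
            · rcases Nat.lt_or_ge v 97500 with h | h
              · exact rowsRange_spec E RS 1500 96000 rows_64 v (by omega) (by omega)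
              · exact rowsRange_spec E RS 1500 97500 rows_65 v (by omega) (by omega)
          · rcases Nat.lt_or_ge v 102000 with h | h
            · rcases Nat.lt_or_ge v 100500 with h | h
              · exact rowsRange_spec E RS 1500 99000 rows_66 v (by omega) (by omega)
              · exact rowsRange_spec E RS 1500 100500 rows_67 v (by omega) (by omega)
            · rcases Nat.lt_or_ge v 103500 with h | h
              · exact rowsRange_spec E RS 1500 102000 rows_68 v (by omega) (by omega)
              · rcases Nat.lt_or_ge v 105000 with h | h
                · exact rowsRange_spec E RS 1500 103500 rows_69 v (by omega) (by omega)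
                · exact rowsRange_spec E RS 1500 105000 rows_70 v (by omega) (by omega)
  · rcases Nat.lt_or_ge v 160500 with h | h
    · rcases Nat.lt_or_ge v 133500 with h | h
      · rcases Nat.lt_or_ge v 120000 with h | h
        · rcases Nat.lt_or_ge v 112500 with h | h
          · rcases Nat.lt_or_ge v 109500 with h | h
            · rcases Nat.lt_or_ge v 108000 with h | h
              · exact rowsRange_spec E RS 1500 106500 rows_71 v (by omega) (by omega)
              · exact rowsRange_spec E RS 1500 108000 rows_72 v (by omega) (by omega)
            · rcases Nat.lt_or_ge v 111000 with h | h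
              · exact rowsRange_spec E RS 1500 109500 rows_73 v (by omega) (by omega)
              · exact rowsRange_spec E RS 1500 111000 rows_74 v (by omega) (by omega)
          · rcases Nat.lt_or_ge v 115500 with h | h
            · rcases Nat.lt_or_ge v 114000 with h | h
              · exact rowsRange_spec E RS 1500 112500 rows_75 v (by omega) (by omega)
              · exact rowsRange_spec E RS 1500 114000 rows_76 v (by omega) (by omega)
            · rcases Nat.lt_or_ge v 117000 with h | h
              · exact rowsRange_spec E RS 1500 115500 rows_77 v (by omega) (by omega)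
              · rcases Nat.lt_or_ge v 118500 with h | h
                · exact rowsRange_spec E RS 1500 117000 rows_78 v (by omega) (by omega)
                · exact rowsRange_spec E RS 1500 118500 rows_79 v (by omega) (by omega)
        · rcases Nat.lt_or_ge v 126000 with h | h
          · rcases Nat.lt_or_ge v 123000 with h | h
            · rcases Nat.lt_or_ge v 121500 with h | h
              · exact rowsRange_spec E RS 1500 120000 rows_80 v (by omega) (by omega)
              · exact rowsRange_spec E RS 1500 121500 rows_81 v (by omega) (by omega)
            · rcases Nat.lt_or_ge v 124500 with h | h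
              · exact rowsRange_spec E RS 1500 123000 rows_82 v (by omega) (by omega)
              · exact rowsRange_spec E RS 1500 124500 rows_83 v (by omega) (by omega)
          · rcases Nat.lt_or_ge v 129000 with h | h
            · rcases Nat.lt_or_ge v 127500 with h | h
              · exact rowsRange_spec E RS 1500 126000 rows_84 v (by omega) (by omega)
              · exact rowsRange_spec E RS 1500 127500 rows_85 v (by omega) (by omega)
            · rcases Nat.lt_or_ge v 130500 with h | h
              · exact rowsRange_spec E RS 1500 129000 rows_86 v (by omega) (by omega)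
              · rcases Nat.lt_or_ge v 132000 with h | h
                · exact rowsRange_spec E RS 1500 130500 rows_87 v (by omega) (by omega)
                · exact rowsRange_spec E RS 1500 132000 rows_88 v (by omega) (by omega)
      · rcases Nat.lt_or_ge v 147000 with h | h
        · rcases Nat.lt_or_ge v 139500 with h | h
          · rcases Nat.lt_or_ge v 136500 with h | h
            · rcases Nat.lt_or_ge v 135000 with h | h
              · exact rowsRange_spec E RS 1500 133500 rows_89 v (by omega) (by omega)
              · exact rowsRange_spec E RS 1500 135000 rows_90 v (by omega) (by omega)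
            · rcases Nat.lt_or_ge v 138000 with h | h
              · exact rowsRange_spec E RS 1500 136500 rows_91 v (by omega) (by omega)
              · exact rowsRange_spec E RS 1500 138000 rows_92 v (by omega) (by omega)
          · rcases Nat.lt_or_ge v 142500 with h | h
            · rcases Nat.lt_or_ge v 141000 with h | h
              · exact rowsRange_spec E RS 1500 139500 rows_93 v (by omega) (by omega)
              · exact rowsRange_spec E RS 1500 141000 rows_94 v (by omega) (by omega)
            · rcases Nat.lt_or_ge v 144000 with h | h
              · exact rowsRange_spec E RS 1500 142500 rows_95 v (by omega) (by omega)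
              · rcases Nat.lt_or_ge v 145500 with h | h
                · exact rowsRange_spec E RS 1500 144000 rows_96 v (by omega) (by omega)
                · exact rowsRange_spec E RS 1500 145500 rows_97 v (by omega) (by omega)
        · rcases Nat.lt_or_ge v 153000 with h | h
          · rcases Nat.lt_or_ge v 150000 with h | h
            · rcases Nat.lt_or_ge v 148500 with h | h
              · exact rowsRange_spec E RS 1500 147000 rows_98 v (by omega) (by omega)
              · exact rowsRange_spec E RS 1500 148500 rows_99 v (by omega) (by omega)
            · rcases Nat.lt_or_ge v 151500 with h | h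
              · exact rowsRange_spec E RS 1500 150000 rows_100 v (by omega) (by omega)
              · exact rowsRange_spec E RS 1500 151500 rows_101 v (by omega) (by omega)
          · rcases Nat.lt_or_ge v 156000 with h | h
            · rcases Nat.lt_or_ge v 154500 with h | h
              · exact rowsRange_spec E RS 1500 153000 rows_102 v (by omega) (by omega)
              · exact rowsRange_spec E RS 1500 154500 rows_103 v (by omega) (by omega)
            · rcases Nat.lt_or_ge v 157500 with h | h
              · exact rowsRange_spec E RS 1500 156000 rows_104 v (by omega) (by omega)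
              · rcases Nat.lt_or_ge v 159000 with h | h
                · exact rowsRange_spec E RS 1500 157500 rows_105 v (by omega) (by omega)
                · exact rowsRange_spec E RS 1500 159000 rows_106 v (by omega) (by omega)
    · rcases Nat.lt_or_ge v 187500 with h | h
      · rcases Nat.lt_or_ge v 174000 with h | h
        · rcases Nat.lt_or_ge v 166500 with h | h
          · rcases Nat.lt_or_ge v 163500 with h | h
            · rcases Nat.lt_or_ge v 162000 with h | h
              · exact rowsRange_spec E RS 1500 160500 rows_107 v (by omega) (by omega)
              · exact rowsRange_spec E RS 1500 162000 rows_108 v (by omega) (by omega)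
            · rcases Nat.lt_or_ge v 165000 with h | h
              · exact rowsRange_spec E RS 1500 163500 rows_109 v (by omega) (by omega)
              · exact rowsRange_spec E RS 1500 165000 rows_110 v (by omega) (by omega)
          · rcases Nat.lt_or_ge v 169500 with h | h
            · rcases Nat.lt_or_ge v 168000 with h | h
              · exact rowsRange_spec E RS 1500 166500 rows_111 v (by omega) (by omega)
              · exact rowsRange_spec E RS 1500 168000 rows_112 v (by omega) (by omega)
            · rcases Nat.lt_or_ge v 171000 with h | h
              · exact rowsRange_spec E RS 1500 169500 rows_113 v (by omega) (by omega)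
              · rcases Nat.lt_or_ge v 172500 with h | h
                · exact rowsRange_spec E RS 1500 171000 rows_114 v (by omega) (by omega)
                · exact rowsRange_spec E RS 1500 172500 rows_115 v (by omega) (by omega)
        · rcases Nat.lt_or_ge v 180000 with h | h
          · rcases Nat.lt_or_ge v 177000 with h | h
            · rcases Nat.lt_or_ge v 175500 with h | h
              · exact rowsRange_spec E RS 1500 174000 rows_116 v (by omega) (by omega)
              · exact rowsRange_spec E RS 1500 175500 rows_117 v (by omega) (by omega)
            · rcases Nat.lt_or_ge v 178500 with h | h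
              · exact rowsRange_spec E RS 1500 177000 rows_118 v (by omega) (by omega)
              · exact rowsRange_spec E RS 1500 178500 rows_119 v (by omega) (by omega)
          · rcases Nat.lt_or_ge v 183000 with h | h
            · rcases Nat.lt_or_ge v 181500 with h | h
              · exact rowsRange_spec E RS 1500 180000 rows_120 v (by omega) (by omega)
              · exact rowsRange_spec E RS 1500 181500 rows_121 v (by omega) (by omega)
            · rcases Nat.lt_or_ge v 184500 with h | h
              · exact rowsRange_spec E RS 1500 183000 rows_122 v (by omega) (by omega)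
              · rcases Nat.lt_or_ge v 186000 with h | h
                · exact rowsRange_spec E RS 1500 184500 rows_123 v (by omega) (by omega)
                · exact rowsRange_spec E RS 1500 186000 rows_124 v (by omega) (by omega)
      · rcases Nat.lt_or_ge v 201000 with h | h
        · rcases Nat.lt_or_ge v 193500 with h | h
          · rcases Nat.lt_or_ge v 190500 with h | h
            · rcases Nat.lt_or_ge v 189000 with h | h
              · exact rowsRange_spec E RS 1500 187500 rows_125 v (by omega) (by omega)
              · exact rowsRange_spec E RS 1500 189000 rows_126 v (by omega) (by omega)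
            · rcases Nat.lt_or_ge v 192000 with h | h
              · exact rowsRange_spec E RS 1500 190500 rows_127 v (by omega) (by omega)
              · exact rowsRange_spec E RS 1500 192000 rows_128 v (by omega) (by omega)
          · rcases Nat.lt_or_ge v 196500 with h | h
            · rcases Nat.lt_or_ge v 195000 with h | h
              · exact rowsRange_spec E RS 1500 193500 rows_129 v (by omega) (by omega)
              · exact rowsRange_spec E RS 1500 195000 rows_130 v (by omega) (by omega)
            · rcases Nat.lt_or_ge v 198000 with h | h
              · exact rowsRange_spec E RS 1500 196500 rows_131 v (by omega) (by omega)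
              · rcases Nat.lt_or_ge v 199500 with h | h
                · exact rowsRange_spec E RS 1500 198000 rows_132 v (by omega) (by omega)
                · exact rowsRange_spec E RS 1500 199500 rows_133 v (by omega) (by omega)
        · rcases Nat.lt_or_ge v 207000 with h | h
          · rcases Nat.lt_or_ge v 204000 with h | h
            · rcases Nat.lt_or_ge v 202500 with h | h
              · exact rowsRange_spec E RS 1500 201000 rows_134 v (by omega) (by omega)
              · exact rowsRange_spec E RS 1500 202500 rows_135 v (by omega) (by omega)
            · rcases Nat.lt_or_ge v 205500 with h | h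
              · exact rowsRange_spec E RS 1500 204000 rows_136 v (by omega) (by omega)
              · exact rowsRange_spec E RS 1500 205500 rows_137 v (by omega) (by omega)
          · rcases Nat.lt_or_ge v 210000 with h | h
            · rcases Nat.lt_or_ge v 208500 with h | h
              · exact rowsRange_spec E RS 1500 207000 rows_138 v (by omega) (by omega)
              · exact rowsRange_spec E RS 1500 208500 rows_139 v (by omega) (by omega)
            · rcases Nat.lt_or_ge v 211500 with h | h
              · exact rowsRange_spec E RS 1500 210000 rows_140 v (by omega) (by omega)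
              · rcases Nat.lt_or_ge v 213000 with h | h
                · exact rowsRange_spec E RS 1500 211500 rows_141 v (by omega) (by omega)
                · exact rowsRange_spec E RS 962 213000 rows_142 v (by omega) (by omega)

theorem cb_0 : cntBits RS 0 = 0 := rfl

theorem cb_1 : cntBits RS 20000 = 12860 := by
  have h := cntBits_step RS 0 20000
  rw [cb_0, cnt_0] at h
  exact h

theorem cb_2 : cntBits RS 40000 = 24740 := by
  have h := cntBits_step RS 20000 20000
  rw [cb_1, cnt_1] at h
  exact h

theorem cb_3 : cntBits RS 60000 = 36017 := by
  have h := cntBits_step RS 40000 20000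
  rw [cb_2, cnt_2] at h
  exact h

theorem cb_4 : cntBits RS 80000 = 45814 := by
  have h := cntBits_step RS 60000 20000
  rw [cb_3, cnt_3] at h
  exact h

theorem cb_5 : cntBits RS 100000 = 54722 := by
  have h := cntBits_step RS 80000 20000
  rw [cb_4, cnt_4] at h
  exact h

theorem cb_6 : cntBits RS 120000 = 64523 := by
  have h := cntBits_step RS 100000 20000
  rw [cb_5, cnt_5] at h
  exact h

theorem cb_7 : cntBits RS 140000 = 74069 := by
  have h := cntBits_step RS 120000 20000
  rw [cb_6, cnt_6] at h
  exact h

theorem cb_8 : cntBits RS 160000 = 80665 := by
  have h := cntBits_step RS 140000 20000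
  rw [cb_7, cnt_7] at h
  exact h

theorem cb_9 : cntBits RS 180000 = 89556 := by
  have h := cntBits_step RS 160000 20000
  rw [cb_8, cnt_8] at h
  exact h

theorem cb_10 : cntBits RS 200000 = 108899 := by
  have h := cntBits_step RS 180000 20000
  rw [cb_9, cnt_9] at h
  exact h

theorem cb_11 : cntBits RS 213962 = 122760 := by
  have h := cntBits_step RS 200000 13962
  rw [cb_10, cnt_10] at h
  exact h

theorem set_ok : setOK 213962 122760 RS = true :=
  setOK_of_parts cb_11 set_zero set_lt

theorem relf_0 : ∀ v, v < 122760 → W_0 v = v := by
  intro v hv
  rcases Nat.lt_or_ge v 100000 with h | h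
  · exact fixPtsF_spec W_0 100000 0 relc_0_0 v (by omega) (by omega)
  · exact fixPtsF_spec W_0 22760 100000 relc_0_1 v (by omega) (by omega)

set_option maxRecDepth 1000000 in
theorem walk_0 : ∀ v, walkT ctF (D.wlen 0) (D.wordP 0) v = W_0 v := by
  intro v
  simp only [W_0, forceL_eq]
  rfl

theorem relw_0 : ∀ v, v < 122760 → walkT ctF (D.wlen 0) (D.wordP 0) v = v := by
  intro v hv
  rw [walk_0]
  exact relf_0 v hv

theorem relf_1 : ∀ v, v < 122760 → W_1 v = v := by
  intro v hv
  rcases Nat.lt_or_ge v 66666 with h | h
  · rcases Nat.lt_or_ge v 33333 with h | h
    · exact fixPtsF_spec W_1 33333 0 relc_1_0 v (by omega) (by omega)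
    · exact fixPtsF_spec W_1 33333 33333 relc_1_1 v (by omega) (by omega)
  · rcases Nat.lt_or_ge v 99999 with h | h
    · exact fixPtsF_spec W_1 33333 66666 relc_1_2 v (by omega) (by omega)
    · exact fixPtsF_spec W_1 22761 99999 relc_1_3 v (by omega) (by omega)

set_option maxRecDepth 1000000 in
theorem walk_1 : ∀ v, walkT ctF (D.wlen 1) (D.wordP 1) v = W_1 v := by
  intro v
  simp only [W_1, forceL_eq]
  rfl

theorem relw_1 : ∀ v, v < 122760 → walkT ctF (D.wlen 1) (D.wordP 1) v = v := by
  intro v hv
  rw [walk_1]
  exact relf_1 v hv

theorem relf_2 : ∀ v, v < 122760 → W_2 v = v := by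
  intro v hv
  rcases Nat.lt_or_ge v 50000 with h | h
  · exact fixPtsF_spec W_2 50000 0 relc_2_0 v (by omega) (by omega)
  · rcases Nat.lt_or_ge v 100000 with h | h
    · exact fixPtsF_spec W_2 50000 50000 relc_2_1 v (by omega) (by omega)
    · exact fixPtsF_spec W_2 22760 100000 relc_2_2 v (by omega) (by omega)

set_option maxRecDepth 1000000 in
theorem walk_2 : ∀ v, walkT ctF (D.wlen 2) (D.wordP 2) v = W_2 v := by
  intro v
  simp only [W_2, forceL_eq]
  rfl

theorem relw_2 : ∀ v, v < 122760 → walkT ctF (D.wlen 2) (D.wordP 2) v = v := by
  intro v hv
  rw [walk_2]
  exact relf_2 v hv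

theorem relf_3 : ∀ v, v < 122760 → W_3 v = v := by
  intro v hv
  rcases Nat.lt_or_ge v 50000 with h | h
  · exact fixPtsF_spec W_3 50000 0 relc_3_0 v (by omega) (by omega)
  · rcases Nat.lt_or_ge v 100000 with h | h
    · exact fixPtsF_spec W_3 50000 50000 relc_3_1 v (by omega) (by omega)
    · exact fixPtsF_spec W_3 22760 100000 relc_3_2 v (by omega) (by omega)

set_option maxRecDepth 1000000 in
theorem walk_3 : ∀ v, walkT ctF (D.wlen 3) (D.wordP 3) v = W_3 v := by
  intro v
  simp only [W_3, forceL_eq]
  rfl

theorem relw_3 : ∀ v, v < 122760 → walkT ctF (D.wlen 3) (D.wordP 3) v = v := by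
  intro v hv
  rw [walk_3]
  exact relf_3 v hv

theorem relf_4 : ∀ v, v < 122760 → W_4 v = v := by
  intro v hv
  rcases Nat.lt_or_ge v 50000 with h | h
  · exact fixPtsF_spec W_4 50000 0 relc_4_0 v (by omega) (by omega)
  · rcases Nat.lt_or_ge v 100000 with h | h
    · exact fixPtsF_spec W_4 50000 50000 relc_4_1 v (by omega) (by omega)
    · exact fixPtsF_spec W_4 22760 100000 relc_4_2 v (by omega) (by omega)

set_option maxRecDepth 1000000 in
theorem walk_4 : ∀ v, walkT ctF (D.wlen 4) (D.wordP 4) v = W_4 v := by
  intro v
  simp only [W_4, forceL_eq]
  rfl

theorem relw_4 : ∀ v, v < 122760 → walkT ctF (D.wlen 4) (D.wordP 4) v = v := by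
  intro v hv
  rw [walk_4]
  exact relf_4 v hv

theorem relf_5 : ∀ v, v < 122760 → W_5 v = v := by
  intro v hv
  rcases Nat.lt_or_ge v 50000 with h | h
  · exact fixPtsF_spec W_5 50000 0 relc_5_0 v (by omega) (by omega)
  · rcases Nat.lt_or_ge v 100000 with h | h
    · exact fixPtsF_spec W_5 50000 50000 relc_5_1 v (by omega) (by omega)
    · exact fixPtsF_spec W_5 22760 100000 relc_5_2 v (by omega) (by omega)

set_option maxRecDepth 1000000 in
theorem walk_5 : ∀ v, walkT ctF (D.wlen 5) (D.wordP 5) v = W_5 v := by
  intro v
  simp only [W_5, forceL_eq]
  rfl

theorem relw_5 : ∀ v, v < 122760 → walkT ctF (D.wlen 5) (D.wordP 5) v = v := by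
  intro v hv
  rw [walk_5]
  exact relf_5 v hv

theorem relf_6 : ∀ v, v < 122760 → W_6 v = v := by
  intro v hv
  rcases Nat.lt_or_ge v 66666 with h | h
  · rcases Nat.lt_or_ge v 33333 with h | h
    · exact fixPtsF_spec W_6 33333 0 relc_6_0 v (by omega) (by omega)
    · exact fixPtsF_spec W_6 33333 33333 relc_6_1 v (by omega) (by omega)
  · rcases Nat.lt_or_ge v 99999 with h | h
    · exact fixPtsF_spec W_6 33333 66666 relc_6_2 v (by omega) (by omega)
    · exact fixPtsF_spec W_6 22761 99999 relc_6_3 v (by omega) (by omega)

set_option maxRecDepth 1000000 in
theorem walk_6 : ∀ v, walkT ctF (D.wlen 6) (D.wordP 6) v = W_6 v := by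
  intro v
  simp only [W_6, forceL_eq]
  rfl

theorem relw_6 : ∀ v, v < 122760 → walkT ctF (D.wlen 6) (D.wordP 6) v = v := by
  intro v hv
  rw [walk_6]
  exact relf_6 v hv

theorem relf_7 : ∀ v, v < 122760 → W_7 v = v := by
  intro v hv
  rcases Nat.lt_or_ge v 100000 with h | h
  · exact fixPtsF_spec W_7 100000 0 relc_7_0 v (by omega) (by omega)
  · exact fixPtsF_spec W_7 22760 100000 relc_7_1 v (by omega) (by omega)

set_option maxRecDepth 1000000 in
theorem walk_7 : ∀ v, walkT ctF (D.wlen 7) (D.wordP 7) v = W_7 v := by
  intro v
  simp only [W_7, forceL_eq]
  rfl

theorem relw_7 : ∀ v, v < 122760 → walkT ctF (D.wlen 7) (D.wordP 7) v = v := by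
  intro v hv
  rw [walk_7]
  exact relf_7 v hv

theorem relf_8 : ∀ v, v < 122760 → W_8 v = v := by
  intro v hv
  rcases Nat.lt_or_ge v 66666 with h | h
  · rcases Nat.lt_or_ge v 33333 with h | h
    · exact fixPtsF_spec W_8 33333 0 relc_8_0 v (by omega) (by omega)
    · exact fixPtsF_spec W_8 33333 33333 relc_8_1 v (by omega) (by omega)
  · rcases Nat.lt_or_ge v 99999 with h | h
    · exact fixPtsF_spec W_8 33333 66666 relc_8_2 v (by omega) (by omega)
    · exact fixPtsF_spec W_8 22761 99999 relc_8_3 v (by omega) (by omega)

set_option maxRecDepth 1000000 in
theorem walk_8 : ∀ v, walkT ctF (D.wlen 8) (D.wordP 8) v = W_8 v := by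
  intro v
  simp only [W_8, forceL_eq]
  rfl

theorem relw_8 : ∀ v, v < 122760 → walkT ctF (D.wlen 8) (D.wordP 8) v = v := by
  intro v hv
  rw [walk_8]
  exact relf_8 v hv

theorem relf_9 : ∀ v, v < 122760 → W_9 v = v := by
  intro v hv
  rcases Nat.lt_or_ge v 50000 with h | h
  · exact fixPtsF_spec W_9 50000 0 relc_9_0 v (by omega) (by omega)
  · rcases Nat.lt_or_ge v 100000 with h | h
    · exact fixPtsF_spec W_9 50000 50000 relc_9_1 v (by omega) (by omega)
    · exact fixPtsF_spec W_9 22760 100000 relc_9_2 v (by omega) (by omega)

set_option maxRecDepth 1000000 in
theorem walk_9 : ∀ v, walkT ctF (D.wlen 9) (D.wordP 9) v = W_9 v := by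
  intro v
  simp only [W_9, forceL_eq]
  rfl

theorem relw_9 : ∀ v, v < 122760 → walkT ctF (D.wlen 9) (D.wordP 9) v = v := by
  intro v hv
  rw [walk_9]
  exact relf_9 v hv

theorem relf_10 : ∀ v, v < 122760 → W_10 v = v := by
  intro v hv
  rcases Nat.lt_or_ge v 50000 with h | h
  · exact fixPtsF_spec W_10 50000 0 relc_10_0 v (by omega) (by omega)
  · rcases Nat.lt_or_ge v 100000 with h | h
    · exact fixPtsF_spec W_10 50000 50000 relc_10_1 v (by omega) (by omega)
    · exact fixPtsF_spec W_10 22760 100000 relc_10_2 v (by omega) (by omega)

set_option maxRecDepth 1000000 in
theorem walk_10 : ∀ v, walkT ctF (D.wlen 10) (D.wordP 10) v = W_10 v := by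
  intro v
  simp only [W_10, forceL_eq]
  rfl

theorem relw_10 : ∀ v, v < 122760 → walkT ctF (D.wlen 10) (D.wordP 10) v = v := by
  intro v hv
  rw [walk_10]
  exact relf_10 v hv

theorem relf_11 : ∀ v, v < 122760 → W_11 v = v := by
  intro v hv
  rcases Nat.lt_or_ge v 50000 with h | h
  · exact fixPtsF_spec W_11 50000 0 relc_11_0 v (by omega) (by omega)
  · rcases Nat.lt_or_ge v 100000 with h | h
    · exact fixPtsF_spec W_11 50000 50000 relc_11_1 v (by omega) (by omega)
    · exact fixPtsF_spec W_11 22760 100000 relc_11_2 v (by omega) (by omega)

set_option maxRecDepth 1000000 in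
theorem walk_11 : ∀ v, walkT ctF (D.wlen 11) (D.wordP 11) v = W_11 v := by
  intro v
  simp only [W_11, forceL_eq]
  rfl

theorem relw_11 : ∀ v, v < 122760 → walkT ctF (D.wlen 11) (D.wordP 11) v = v := by
  intro v hv
  rw [walk_11]
  exact relf_11 v hv

theorem relf_12 : ∀ v, v < 122760 → W_12 v = v := by
  intro v hv
  rcases Nat.lt_or_ge v 50000 with h | h
  · exact fixPtsF_spec W_12 50000 0 relc_12_0 v (by omega) (by omega)
  · rcases Nat.lt_or_ge v 100000 with h | h
    · exact fixPtsF_spec W_12 50000 50000 relc_12_1 v (by omega) (by omega)
    · exact fixPtsF_spec W_12 22760 100000 relc_12_2 v (by omega) (by omega)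

set_option maxRecDepth 1000000 in
theorem walk_12 : ∀ v, walkT ctF (D.wlen 12) (D.wordP 12) v = W_12 v := by
  intro v
  simp only [W_12, forceL_eq]
  rfl

theorem relw_12 : ∀ v, v < 122760 → walkT ctF (D.wlen 12) (D.wordP 12) v = v := by
  intro v hv
  rw [walk_12]
  exact relf_12 v hv

theorem relf_13 : ∀ v, v < 122760 → W_13 v = v := by
  intro v hv
  rcases Nat.lt_or_ge v 66666 with h | h
  · rcases Nat.lt_or_ge v 33333 with h | h
    · exact fixPtsF_spec W_13 33333 0 relc_13_0 v (by omega) (by omega)
    · exact fixPtsF_spec W_13 33333 33333 relc_13_1 v (by omega) (by omega)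
  · rcases Nat.lt_or_ge v 99999 with h | h
    · exact fixPtsF_spec W_13 33333 66666 relc_13_2 v (by omega) (by omega)
    · exact fixPtsF_spec W_13 22761 99999 relc_13_3 v (by omega) (by omega)

set_option maxRecDepth 1000000 in
theorem walk_13 : ∀ v, walkT ctF (D.wlen 13) (D.wordP 13) v = W_13 v := by
  intro v
  simp only [W_13, forceL_eq]
  rfl

theorem relw_13 : ∀ v, v < 122760 → walkT ctF (D.wlen 13) (D.wordP 13) v = v := by
  intro v hv
  rw [walk_13]
  exact relf_13 v hv

theorem relf_14 : ∀ v, v < 122760 → W_14 v = v := by
  intro v hv
  rcases Nat.lt_or_ge v 100000 with h | h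
  · exact fixPtsF_spec W_14 100000 0 relc_14_0 v (by omega) (by omega)
  · exact fixPtsF_spec W_14 22760 100000 relc_14_1 v (by omega) (by omega)

set_option maxRecDepth 1000000 in
theorem walk_14 : ∀ v, walkT ctF (D.wlen 14) (D.wordP 14) v = W_14 v := by
  intro v
  simp only [W_14, forceL_eq]
  rfl

theorem relw_14 : ∀ v, v < 122760 → walkT ctF (D.wlen 14) (D.wordP 14) v = v := by
  intro v hv
  rw [walk_14]
  exact relf_14 v hv

theorem relf_15 : ∀ v, v < 122760 → W_15 v = v := by
  intro v hv
  rcases Nat.lt_or_ge v 62500 with h | h
  · rcases Nat.lt_or_ge v 25000 with h | h
    · rcases Nat.lt_or_ge v 12500 with h | h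
      · exact fixPtsF_spec W_15 12500 0 relc_15_0 v (by omega) (by omega)
      · exact fixPtsF_spec W_15 12500 12500 relc_15_1 v (by omega) (by omega)
    · rcases Nat.lt_or_ge v 37500 with h | h
      · exact fixPtsF_spec W_15 12500 25000 relc_15_2 v (by omega) (by omega)
      · rcases Nat.lt_or_ge v 50000 with h | h
        · exact fixPtsF_spec W_15 12500 37500 relc_15_3 v (by omega) (by omega)
        · exact fixPtsF_spec W_15 12500 50000 relc_15_4 v (by omega) (by omega)
  · rcases Nat.lt_or_ge v 87500 with h | h
    · rcases Nat.lt_or_ge v 75000 with h | h
      · exact fixPtsF_spec W_15 12500 62500 relc_15_5 v (by omega) (by omega)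
      · exact fixPtsF_spec W_15 12500 75000 relc_15_6 v (by omega) (by omega)
    · rcases Nat.lt_or_ge v 100000 with h | h
      · exact fixPtsF_spec W_15 12500 87500 relc_15_7 v (by omega) (by omega)
      · rcases Nat.lt_or_ge v 112500 with h | h
        · exact fixPtsF_spec W_15 12500 100000 relc_15_8 v (by omega) (by omega)
        · exact fixPtsF_spec W_15 10260 112500 relc_15_9 v (by omega) (by omega)

set_option maxRecDepth 1000000 in
theorem walk_15 : ∀ v, walkT ctF (D.wlen 15) (D.wordP 15) v = W_15 v := by
  intro v
  simp only [W_15, forceL_eq]
  rfl

theorem relw_15 : ∀ v, v < 122760 → walkT ctF (D.wlen 15) (D.wordP 15) v = v := by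
  intro v hv
  rw [walk_15]
  exact relf_15 v hv

theorem relf_16 : ∀ v, v < 122760 → W_16 v = v := by
  intro v hv
  rcases Nat.lt_or_ge v 50000 with h | h
  · exact fixPtsF_spec W_16 50000 0 relc_16_0 v (by omega) (by omega)
  · rcases Nat.lt_or_ge v 100000 with h | h
    · exact fixPtsF_spec W_16 50000 50000 relc_16_1 v (by omega) (by omega)
    · exact fixPtsF_spec W_16 22760 100000 relc_16_2 v (by omega) (by omega)

set_option maxRecDepth 1000000 in
theorem walk_16 : ∀ v, walkT ctF (D.wlen 16) (D.wordP 16) v = W_16 v := by
  intro v
  simp only [W_16, forceL_eq]
  rfl

theorem relw_16 : ∀ v, v < 122760 → walkT ctF (D.wlen 16) (D.wordP 16) v = v := by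
  intro v hv
  rw [walk_16]
  exact relf_16 v hv

theorem relf_17 : ∀ v, v < 122760 → W_17 v = v := by
  intro v hv
  rcases Nat.lt_or_ge v 50000 with h | h
  · exact fixPtsF_spec W_17 50000 0 relc_17_0 v (by omega) (by omega)
  · rcases Nat.lt_or_ge v 100000 with h | h
    · exact fixPtsF_spec W_17 50000 50000 relc_17_1 v (by omega) (by omega)
    · exact fixPtsF_spec W_17 22760 100000 relc_17_2 v (by omega) (by omega)

set_option maxRecDepth 1000000 in
theorem walk_17 : ∀ v, walkT ctF (D.wlen 17) (D.wordP 17) v = W_17 v := by
  intro v
  simp only [W_17, forceL_eq]
  rfl

theorem relw_17 : ∀ v, v < 122760 → walkT ctF (D.wlen 17) (D.wordP 17) v = v := by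
  intro v hv
  rw [walk_17]
  exact relf_17 v hv

theorem relf_18 : ∀ v, v < 122760 → W_18 v = v := by
  intro v hv
  rcases Nat.lt_or_ge v 50000 with h | h
  · exact fixPtsF_spec W_18 50000 0 relc_18_0 v (by omega) (by omega)
  · rcases Nat.lt_or_ge v 100000 with h | h
    · exact fixPtsF_spec W_18 50000 50000 relc_18_1 v (by omega) (by omega)
    · exact fixPtsF_spec W_18 22760 100000 relc_18_2 v (by omega) (by omega)

set_option maxRecDepth 1000000 in
theorem walk_18 : ∀ v, walkT ctF (D.wlen 18) (D.wordP 18) v = W_18 v := by
  intro v
  simp only [W_18, forceL_eq]
  rfl

theorem relw_18 : ∀ v, v < 122760 → walkT ctF (D.wlen 18) (D.wordP 18) v = v := by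
  intro v hv
  rw [walk_18]
  exact relf_18 v hv

theorem relf_19 : ∀ v, v < 122760 → W_19 v = v := by
  intro v hv
  rcases Nat.lt_or_ge v 50000 with h | h
  · exact fixPtsF_spec W_19 50000 0 relc_19_0 v (by omega) (by omega)
  · rcases Nat.lt_or_ge v 100000 with h | h
    · exact fixPtsF_spec W_19 50000 50000 relc_19_1 v (by omega) (by omega)
    · exact fixPtsF_spec W_19 22760 100000 relc_19_2 v (by omega) (by omega)

set_option maxRecDepth 1000000 in
theorem walk_19 : ∀ v, walkT ctF (D.wlen 19) (D.wordP 19) v = W_19 v := by
  intro v
  simp only [W_19, forceL_eq]
  rfl

theorem relw_19 : ∀ v, v < 122760 → walkT ctF (D.wlen 19) (D.wordP 19) v = v := by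
  intro v hv
  rw [walk_19]
  exact relf_19 v hv

theorem relf_20 : ∀ v, v < 122760 → W_20 v = v := by
  intro v hv
  rcases Nat.lt_or_ge v 62500 with h | h
  · rcases Nat.lt_or_ge v 25000 with h | h
    · rcases Nat.lt_or_ge v 12500 with h | h
      · exact fixPtsF_spec W_20 12500 0 relc_20_0 v (by omega) (by omega)
      · exact fixPtsF_spec W_20 12500 12500 relc_20_1 v (by omega) (by omega)
    · rcases Nat.lt_or_ge v 37500 with h | h
      · exact fixPtsF_spec W_20 12500 25000 relc_20_2 v (by omega) (by omega)
      · rcases Nat.lt_or_ge v 50000 with h | h
        · exact fixPtsF_spec W_20 12500 37500 relc_20_3 v (by omega) (by omega)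
        · exact fixPtsF_spec W_20 12500 50000 relc_20_4 v (by omega) (by omega)
  · rcases Nat.lt_or_ge v 87500 with h | h
    · rcases Nat.lt_or_ge v 75000 with h | h
      · exact fixPtsF_spec W_20 12500 62500 relc_20_5 v (by omega) (by omega)
      · exact fixPtsF_spec W_20 12500 75000 relc_20_6 v (by omega) (by omega)
    · rcases Nat.lt_or_ge v 100000 with h | h
      · exact fixPtsF_spec W_20 12500 87500 relc_20_7 v (by omega) (by omega)
      · rcases Nat.lt_or_ge v 112500 with h | h
        · exact fixPtsF_spec W_20 12500 100000 relc_20_8 v (by omega) (by omega)
        · exact fixPtsF_spec W_20 10260 112500 relc_20_9 v (by omega) (by omega)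

set_option maxRecDepth 1000000 in
theorem walk_20 : ∀ v, walkT ctF (D.wlen 20) (D.wordP 20) v = W_20 v := by
  intro v
  simp only [W_20, forceL_eq]
  rfl

theorem relw_20 : ∀ v, v < 122760 → walkT ctF (D.wlen 20) (D.wordP 20) v = v := by
  intro v hv
  rw [walk_20]
  exact relf_20 v hv

theorem relf_21 : ∀ v, v < 122760 → W_21 v = v := by
  intro v hv
  rcases Nat.lt_or_ge v 100000 with h | h
  · exact fixPtsF_spec W_21 100000 0 relc_21_0 v (by omega) (by omega)
  · exact fixPtsF_spec W_21 22760 100000 relc_21_1 v (by omega) (by omega)

set_option maxRecDepth 1000000 in
theorem walk_21 : ∀ v, walkT ctF (D.wlen 21) (D.wordP 21) v = W_21 v := by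
  intro v
  simp only [W_21, forceL_eq]
  rfl

theorem relw_21 : ∀ v, v < 122760 → walkT ctF (D.wlen 21) (D.wordP 21) v = v := by
  intro v hv
  rw [walk_21]
  exact relf_21 v hv

theorem relf_22 : ∀ v, v < 122760 → W_22 v = v := by
  intro v hv
  rcases Nat.lt_or_ge v 66666 with h | h
  · rcases Nat.lt_or_ge v 33333 with h | h
    · exact fixPtsF_spec W_22 33333 0 relc_22_0 v (by omega) (by omega)
    · exact fixPtsF_spec W_22 33333 33333 relc_22_1 v (by omega) (by omega)
  · rcases Nat.lt_or_ge v 99999 with h | h
    · exact fixPtsF_spec W_22 33333 66666 relc_22_2 v (by omega) (by omega)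
    · exact fixPtsF_spec W_22 22761 99999 relc_22_3 v (by omega) (by omega)

set_option maxRecDepth 1000000 in
theorem walk_22 : ∀ v, walkT ctF (D.wlen 22) (D.wordP 22) v = W_22 v := by
  intro v
  simp only [W_22, forceL_eq]
  rfl

theorem relw_22 : ∀ v, v < 122760 → walkT ctF (D.wlen 22) (D.wordP 22) v = v := by
  intro v hv
  rw [walk_22]
  exact relf_22 v hv

theorem relf_23 : ∀ v, v < 122760 → W_23 v = v := by
  intro v hv
  rcases Nat.lt_or_ge v 50000 with h | h
  · exact fixPtsF_spec W_23 50000 0 relc_23_0 v (by omega) (by omega)
  · rcases Nat.lt_or_ge v 100000 with h | h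
    · exact fixPtsF_spec W_23 50000 50000 relc_23_1 v (by omega) (by omega)
    · exact fixPtsF_spec W_23 22760 100000 relc_23_2 v (by omega) (by omega)

set_option maxRecDepth 1000000 in
theorem walk_23 : ∀ v, walkT ctF (D.wlen 23) (D.wordP 23) v = W_23 v := by
  intro v
  simp only [W_23, forceL_eq]
  rfl

theorem relw_23 : ∀ v, v < 122760 → walkT ctF (D.wlen 23) (D.wordP 23) v = v := by
  intro v hv
  rw [walk_23]
  exact relf_23 v hv

theorem relf_24 : ∀ v, v < 122760 → W_24 v = v := by
  intro v hv
  rcases Nat.lt_or_ge v 50000 with h | h
  · exact fixPtsF_spec W_24 50000 0 relc_24_0 v (by omega) (by omega)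
  · rcases Nat.lt_or_ge v 100000 with h | h
    · exact fixPtsF_spec W_24 50000 50000 relc_24_1 v (by omega) (by omega)
    · exact fixPtsF_spec W_24 22760 100000 relc_24_2 v (by omega) (by omega)

set_option maxRecDepth 1000000 in
theorem walk_24 : ∀ v, walkT ctF (D.wlen 24) (D.wordP 24) v = W_24 v := by
  intro v
  simp only [W_24, forceL_eq]
  rfl

theorem relw_24 : ∀ v, v < 122760 → walkT ctF (D.wlen 24) (D.wordP 24) v = v := by
  intro v hv
  rw [walk_24]
  exact relf_24 v hv

theorem relf_25 : ∀ v, v < 122760 → W_25 v = v := by
  intro v hv
  rcases Nat.lt_or_ge v 50000 with h | h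
  · exact fixPtsF_spec W_25 50000 0 relc_25_0 v (by omega) (by omega)
  · rcases Nat.lt_or_ge v 100000 with h | h
    · exact fixPtsF_spec W_25 50000 50000 relc_25_1 v (by omega) (by omega)
    · exact fixPtsF_spec W_25 22760 100000 relc_25_2 v (by omega) (by omega)

set_option maxRecDepth 1000000 in
theorem walk_25 : ∀ v, walkT ctF (D.wlen 25) (D.wordP 25) v = W_25 v := by
  intro v
  simp only [W_25, forceL_eq]
  rfl

theorem relw_25 : ∀ v, v < 122760 → walkT ctF (D.wlen 25) (D.wordP 25) v = v := by
  intro v hv
  rw [walk_25]
  exact relf_25 v hv

theorem relf_26 : ∀ v, v < 122760 → W_26 v = v := by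
  intro v hv
  rcases Nat.lt_or_ge v 50000 with h | h
  · exact fixPtsF_spec W_26 50000 0 relc_26_0 v (by omega) (by omega)
  · rcases Nat.lt_or_ge v 100000 with h | h
    · exact fixPtsF_spec W_26 50000 50000 relc_26_1 v (by omega) (by omega)
    · exact fixPtsF_spec W_26 22760 100000 relc_26_2 v (by omega) (by omega)

set_option maxRecDepth 1000000 in
theorem walk_26 : ∀ v, walkT ctF (D.wlen 26) (D.wordP 26) v = W_26 v := by
  intro v
  simp only [W_26, forceL_eq]
  rfl

theorem relw_26 : ∀ v, v < 122760 → walkT ctF (D.wlen 26) (D.wordP 26) v = v := by
  intro v hv
  rw [walk_26]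
  exact relf_26 v hv

theorem relf_27 : ∀ v, v < 122760 → W_27 v = v := by
  intro v hv
  rcases Nat.lt_or_ge v 66666 with h | h
  · rcases Nat.lt_or_ge v 33333 with h | h
    · exact fixPtsF_spec W_27 33333 0 relc_27_0 v (by omega) (by omega)
    · exact fixPtsF_spec W_27 33333 33333 relc_27_1 v (by omega) (by omega)
  · rcases Nat.lt_or_ge v 99999 with h | h
    · exact fixPtsF_spec W_27 33333 66666 relc_27_2 v (by omega) (by omega)
    · exact fixPtsF_spec W_27 22761 99999 relc_27_3 v (by omega) (by omega)

set_option maxRecDepth 1000000 in
theorem walk_27 : ∀ v, walkT ctF (D.wlen 27) (D.wordP 27) v = W_27 v := by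
  intro v
  simp only [W_27, forceL_eq]
  rfl

theorem relw_27 : ∀ v, v < 122760 → walkT ctF (D.wlen 27) (D.wordP 27) v = v := by
  intro v hv
  rw [walk_27]
  exact relf_27 v hv

theorem relf_28 : ∀ v, v < 122760 → W_28 v = v := by
  intro v hv
  rcases Nat.lt_or_ge v 100000 with h | h
  · exact fixPtsF_spec W_28 100000 0 relc_28_0 v (by omega) (by omega)
  · exact fixPtsF_spec W_28 22760 100000 relc_28_1 v (by omega) (by omega)

set_option maxRecDepth 1000000 in
theorem walk_28 : ∀ v, walkT ctF (D.wlen 28) (D.wordP 28) v = W_28 v := by
  intro v
  simp only [W_28, forceL_eq]
  rfl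

theorem relw_28 : ∀ v, v < 122760 → walkT ctF (D.wlen 28) (D.wordP 28) v = v := by
  intro v hv
  rw [walk_28]
  exact relf_28 v hv

theorem relf_29 : ∀ v, v < 122760 → W_29 v = v := by
  intro v hv
  rcases Nat.lt_or_ge v 66666 with h | h
  · rcases Nat.lt_or_ge v 33333 with h | h
    · exact fixPtsF_spec W_29 33333 0 relc_29_0 v (by omega) (by omega)
    · exact fixPtsF_spec W_29 33333 33333 relc_29_1 v (by omega) (by omega)
  · rcases Nat.lt_or_ge v 99999 with h | h
    · exact fixPtsF_spec W_29 33333 66666 relc_29_2 v (by omega) (by omega)
    · exact fixPtsF_spec W_29 22761 99999 relc_29_3 v (by omega) (by omega)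

set_option maxRecDepth 1000000 in
theorem walk_29 : ∀ v, walkT ctF (D.wlen 29) (D.wordP 29) v = W_29 v := by
  intro v
  simp only [W_29, forceL_eq]
  rfl

theorem relw_29 : ∀ v, v < 122760 → walkT ctF (D.wlen 29) (D.wordP 29) v = v := by
  intro v hv
  rw [walk_29]
  exact relf_29 v hv

theorem relf_30 : ∀ v, v < 122760 → W_30 v = v := by
  intro v hv
  rcases Nat.lt_or_ge v 50000 with h | h
  · exact fixPtsF_spec W_30 50000 0 relc_30_0 v (by omega) (by omega)
  · rcases Nat.lt_or_ge v 100000 with h | h
    · exact fixPtsF_spec W_30 50000 50000 relc_30_1 v (by omega) (by omega)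
    · exact fixPtsF_spec W_30 22760 100000 relc_30_2 v (by omega) (by omega)

set_option maxRecDepth 1000000 in
theorem walk_30 : ∀ v, walkT ctF (D.wlen 30) (D.wordP 30) v = W_30 v := by
  intro v
  simp only [W_30, forceL_eq]
  rfl

theorem relw_30 : ∀ v, v < 122760 → walkT ctF (D.wlen 30) (D.wordP 30) v = v := by
  intro v hv
  rw [walk_30]
  exact relf_30 v hv

theorem relf_31 : ∀ v, v < 122760 → W_31 v = v := by
  intro v hv
  rcases Nat.lt_or_ge v 50000 with h | h
  · exact fixPtsF_spec W_31 50000 0 relc_31_0 v (by omega) (by omega)
  · rcases Nat.lt_or_ge v 100000 with h | h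
    · exact fixPtsF_spec W_31 50000 50000 relc_31_1 v (by omega) (by omega)
    · exact fixPtsF_spec W_31 22760 100000 relc_31_2 v (by omega) (by omega)

set_option maxRecDepth 1000000 in
theorem walk_31 : ∀ v, walkT ctF (D.wlen 31) (D.wordP 31) v = W_31 v := by
  intro v
  simp only [W_31, forceL_eq]
  rfl

theorem relw_31 : ∀ v, v < 122760 → walkT ctF (D.wlen 31) (D.wordP 31) v = v := by
  intro v hv
  rw [walk_31]
  exact relf_31 v hv

theorem relf_32 : ∀ v, v < 122760 → W_32 v = v := by
  intro v hv
  rcases Nat.lt_or_ge v 50000 with h | h
  · exact fixPtsF_spec W_32 50000 0 relc_32_0 v (by omega) (by omega)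
  · rcases Nat.lt_or_ge v 100000 with h | h
    · exact fixPtsF_spec W_32 50000 50000 relc_32_1 v (by omega) (by omega)
    · exact fixPtsF_spec W_32 22760 100000 relc_32_2 v (by omega) (by omega)

set_option maxRecDepth 1000000 in
theorem walk_32 : ∀ v, walkT ctF (D.wlen 32) (D.wordP 32) v = W_32 v := by
  intro v
  simp only [W_32, forceL_eq]
  rfl

theorem relw_32 : ∀ v, v < 122760 → walkT ctF (D.wlen 32) (D.wordP 32) v = v := by
  intro v hv
  rw [walk_32]
  exact relf_32 v hv

theorem relf_33 : ∀ v, v < 122760 → W_33 v = v := by
  intro v hv
  rcases Nat.lt_or_ge v 50000 with h | h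
  · exact fixPtsF_spec W_33 50000 0 relc_33_0 v (by omega) (by omega)
  · rcases Nat.lt_or_ge v 100000 with h | h
    · exact fixPtsF_spec W_33 50000 50000 relc_33_1 v (by omega) (by omega)
    · exact fixPtsF_spec W_33 22760 100000 relc_33_2 v (by omega) (by omega)

set_option maxRecDepth 1000000 in
theorem walk_33 : ∀ v, walkT ctF (D.wlen 33) (D.wordP 33) v = W_33 v := by
  intro v
  simp only [W_33, forceL_eq]
  rfl

theorem relw_33 : ∀ v, v < 122760 → walkT ctF (D.wlen 33) (D.wordP 33) v = v := by
  intro v hv
  rw [walk_33]
  exact relf_33 v hv

theorem relf_34 : ∀ v, v < 122760 → W_34 v = v := by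
  intro v hv
  rcases Nat.lt_or_ge v 66666 with h | h
  · rcases Nat.lt_or_ge v 33333 with h | h
    · exact fixPtsF_spec W_34 33333 0 relc_34_0 v (by omega) (by omega)
    · exact fixPtsF_spec W_34 33333 33333 relc_34_1 v (by omega) (by omega)
  · rcases Nat.lt_or_ge v 99999 with h | h
    · exact fixPtsF_spec W_34 33333 66666 relc_34_2 v (by omega) (by omega)
    · exact fixPtsF_spec W_34 22761 99999 relc_34_3 v (by omega) (by omega)

set_option maxRecDepth 1000000 in
theorem walk_34 : ∀ v, walkT ctF (D.wlen 34) (D.wordP 34) v = W_34 v := by
  intro v
  simp only [W_34, forceL_eq]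
  rfl

theorem relw_34 : ∀ v, v < 122760 → walkT ctF (D.wlen 34) (D.wordP 34) v = v := by
  intro v hv
  rw [walk_34]
  exact relf_34 v hv

theorem relf_35 : ∀ v, v < 122760 → W_35 v = v := by
  intro v hv
  rcases Nat.lt_or_ge v 100000 with h | h
  · exact fixPtsF_spec W_35 100000 0 relc_35_0 v (by omega) (by omega)
  · exact fixPtsF_spec W_35 22760 100000 relc_35_1 v (by omega) (by omega)

set_option maxRecDepth 1000000 in
theorem walk_35 : ∀ v, walkT ctF (D.wlen 35) (D.wordP 35) v = W_35 v := by
  intro v
  simp only [W_35, forceL_eq]
  rfl

theorem relw_35 : ∀ v, v < 122760 → walkT ctF (D.wlen 35) (D.wordP 35) v = v := by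
  intro v hv
  rw [walk_35]
  exact relf_35 v hv

theorem relf_36 : ∀ v, v < 122760 → W_36 v = v := by
  intro v hv
  rcases Nat.lt_or_ge v 50000 with h | h
  · exact fixPtsF_spec W_36 50000 0 relc_36_0 v (by omega) (by omega)
  · rcases Nat.lt_or_ge v 100000 with h | h
    · exact fixPtsF_spec W_36 50000 50000 relc_36_1 v (by omega) (by omega)
    · exact fixPtsF_spec W_36 22760 100000 relc_36_2 v (by omega) (by omega)

set_option maxRecDepth 1000000 in
theorem walk_36 : ∀ v, walkT ctF (D.wlen 36) (D.wordP 36) v = W_36 v := by
  intro v
  simp only [W_36, forceL_eq]
  rfl

theorem relw_36 : ∀ v, v < 122760 → walkT ctF (D.wlen 36) (D.wordP 36) v = v := by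
  intro v hv
  rw [walk_36]
  exact relf_36 v hv

theorem relf_37 : ∀ v, v < 122760 → W_37 v = v := by
  intro v hv
  rcases Nat.lt_or_ge v 60000 with h | h
  · rcases Nat.lt_or_ge v 20000 with h | h
    · exact fixPtsF_spec W_37 20000 0 relc_37_0 v (by omega) (by omega)
    · rcases Nat.lt_or_ge v 40000 with h | h
      · exact fixPtsF_spec W_37 20000 20000 relc_37_1 v (by omega) (by omega)
      · exact fixPtsF_spec W_37 20000 40000 relc_37_2 v (by omega) (by omega)
  · rcases Nat.lt_or_ge v 100000 with h | h
    · rcases Nat.lt_or_ge v 80000 with h | h
      · exact fixPtsF_spec W_37 20000 60000 relc_37_3 v (by omega) (by omega)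
      · exact fixPtsF_spec W_37 20000 80000 relc_37_4 v (by omega) (by omega)
    · rcases Nat.lt_or_ge v 120000 with h | h
      · exact fixPtsF_spec W_37 20000 100000 relc_37_5 v (by omega) (by omega)
      · exact fixPtsF_spec W_37 2760 120000 relc_37_6 v (by omega) (by omega)

set_option maxRecDepth 1000000 in
theorem walk_37 : ∀ v, walkT ctF (D.wlen 37) (D.wordP 37) v = W_37 v := by
  intro v
  simp only [W_37, forceL_eq]
  rfl

theorem relw_37 : ∀ v, v < 122760 → walkT ctF (D.wlen 37) (D.wordP 37) v = v := by
  intro v hv
  rw [walk_37]
  exact relf_37 v hv

theorem relf_38 : ∀ v, v < 122760 → W_38 v = v := by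
  intro v hv
  rcases Nat.lt_or_ge v 60000 with h | h
  · rcases Nat.lt_or_ge v 20000 with h | h
    · exact fixPtsF_spec W_38 20000 0 relc_38_0 v (by omega) (by omega)
    · rcases Nat.lt_or_ge v 40000 with h | h
      · exact fixPtsF_spec W_38 20000 20000 relc_38_1 v (by omega) (by omega)
      · exact fixPtsF_spec W_38 20000 40000 relc_38_2 v (by omega) (by omega)
  · rcases Nat.lt_or_ge v 100000 with h | h
    · rcases Nat.lt_or_ge v 80000 with h | h
      · exact fixPtsF_spec W_38 20000 60000 relc_38_3 v (by omega) (by omega)
      · exact fixPtsF_spec W_38 20000 80000 relc_38_4 v (by omega) (by omega)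
    · rcases Nat.lt_or_ge v 120000 with h | h
      · exact fixPtsF_spec W_38 20000 100000 relc_38_5 v (by omega) (by omega)
      · exact fixPtsF_spec W_38 2760 120000 relc_38_6 v (by omega) (by omega)

set_option maxRecDepth 1000000 in
theorem walk_38 : ∀ v, walkT ctF (D.wlen 38) (D.wordP 38) v = W_38 v := by
  intro v
  simp only [W_38, forceL_eq]
  rfl

theorem relw_38 : ∀ v, v < 122760 → walkT ctF (D.wlen 38) (D.wordP 38) v = v := by
  intro v hv
  rw [walk_38]
  exact relf_38 v hv

theorem relf_39 : ∀ v, v < 122760 → W_39 v = v := by
  intro v hv
  rcases Nat.lt_or_ge v 60000 with h | h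
  · rcases Nat.lt_or_ge v 20000 with h | h
    · exact fixPtsF_spec W_39 20000 0 relc_39_0 v (by omega) (by omega)
    · rcases Nat.lt_or_ge v 40000 with h | h
      · exact fixPtsF_spec W_39 20000 20000 relc_39_1 v (by omega) (by omega)
      · exact fixPtsF_spec W_39 20000 40000 relc_39_2 v (by omega) (by omega)
  · rcases Nat.lt_or_ge v 100000 with h | h
    · rcases Nat.lt_or_ge v 80000 with h | h
      · exact fixPtsF_spec W_39 20000 60000 relc_39_3 v (by omega) (by omega)
      · exact fixPtsF_spec W_39 20000 80000 relc_39_4 v (by omega) (by omega)
    · rcases Nat.lt_or_ge v 120000 with h | h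
      · exact fixPtsF_spec W_39 20000 100000 relc_39_5 v (by omega) (by omega)
      · exact fixPtsF_spec W_39 2760 120000 relc_39_6 v (by omega) (by omega)

set_option maxRecDepth 1000000 in
theorem walk_39 : ∀ v, walkT ctF (D.wlen 39) (D.wordP 39) v = W_39 v := by
  intro v
  simp only [W_39, forceL_eq]
  rfl

theorem relw_39 : ∀ v, v < 122760 → walkT ctF (D.wlen 39) (D.wordP 39) v = v := by
  intro v hv
  rw [walk_39]
  exact relf_39 v hv

theorem relf_40 : ∀ v, v < 122760 → W_40 v = v := by
  intro v hv
  rcases Nat.lt_or_ge v 60000 with h | h
  · rcases Nat.lt_or_ge v 30000 with h | h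
    · rcases Nat.lt_or_ge v 10000 with h | h
      · exact fixPtsF_spec W_40 10000 0 relc_40_0 v (by omega) (by omega)
      · rcases Nat.lt_or_ge v 20000 with h | h
        · exact fixPtsF_spec W_40 10000 10000 relc_40_1 v (by omega) (by omega)
        · exact fixPtsF_spec W_40 10000 20000 relc_40_2 v (by omega) (by omega)
    · rcases Nat.lt_or_ge v 40000 with h | h
      · exact fixPtsF_spec W_40 10000 30000 relc_40_3 v (by omega) (by omega)
      · rcases Nat.lt_or_ge v 50000 with h | h
        · exact fixPtsF_spec W_40 10000 40000 relc_40_4 v (by omega) (by omega)
        · exact fixPtsF_spec W_40 10000 50000 relc_40_5 v (by omega) (by omega)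
  · rcases Nat.lt_or_ge v 90000 with h | h
    · rcases Nat.lt_or_ge v 70000 with h | h
      · exact fixPtsF_spec W_40 10000 60000 relc_40_6 v (by omega) (by omega)
      · rcases Nat.lt_or_ge v 80000 with h | h
        · exact fixPtsF_spec W_40 10000 70000 relc_40_7 v (by omega) (by omega)
        · exact fixPtsF_spec W_40 10000 80000 relc_40_8 v (by omega) (by omega)
    · rcases Nat.lt_or_ge v 110000 with h | h
      · rcases Nat.lt_or_ge v 100000 with h | h
        · exact fixPtsF_spec W_40 10000 90000 relc_40_9 v (by omega) (by omega)
        · exact fixPtsF_spec W_40 10000 100000 relc_40_10 v (by omega) (by omega)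
      · rcases Nat.lt_or_ge v 120000 with h | h
        · exact fixPtsF_spec W_40 10000 110000 relc_40_11 v (by omega) (by omega)
        · exact fixPtsF_spec W_40 2760 120000 relc_40_12 v (by omega) (by omega)

set_option maxRecDepth 1000000 in
theorem walk_40 : ∀ v, walkT ctF (D.wlen 40) (D.wordP 40) v = W_40 v := by
  intro v
  simp only [W_40, forceL_eq]
  rfl

theorem relw_40 : ∀ v, v < 122760 → walkT ctF (D.wlen 40) (D.wordP 40) v = v := by
  intro v hv
  rw [walk_40]
  exact relf_40 v hv

theorem relf_41 : ∀ v, v < 122760 → W_41 v = v := by
  intro v hv
  rcases Nat.lt_or_ge v 54543 with h | h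
  · rcases Nat.lt_or_ge v 18181 with h | h
    · exact fixPtsF_spec W_41 18181 0 relc_41_0 v (by omega) (by omega)
    · rcases Nat.lt_or_ge v 36362 with h | h
      · exact fixPtsF_spec W_41 18181 18181 relc_41_1 v (by omega) (by omega)
      · exact fixPtsF_spec W_41 18181 36362 relc_41_2 v (by omega) (by omega)
  · rcases Nat.lt_or_ge v 90905 with h | h
    · rcases Nat.lt_or_ge v 72724 with h | h
      · exact fixPtsF_spec W_41 18181 54543 relc_41_3 v (by omega) (by omega)
      · exact fixPtsF_spec W_41 18181 72724 relc_41_4 v (by omega) (by omega)
    · rcases Nat.lt_or_ge v 109086 with h | h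
      · exact fixPtsF_spec W_41 18181 90905 relc_41_5 v (by omega) (by omega)
      · exact fixPtsF_spec W_41 13674 109086 relc_41_6 v (by omega) (by omega)

set_option maxRecDepth 1000000 in
theorem walk_41 : ∀ v, walkT ctF (D.wlen 41) (D.wordP 41) v = W_41 v := by
  intro v
  simp only [W_41, forceL_eq]
  rfl

theorem relw_41 : ∀ v, v < 122760 → walkT ctF (D.wlen 41) (D.wordP 41) v = v := by
  intro v hv
  rw [walk_41]
  exact relf_41 v hv

theorem relf_42 : ∀ v, v < 122760 → W_42 v = v := by
  intro v hv
  rcases Nat.lt_or_ge v 54543 with h | h
  · rcases Nat.lt_or_ge v 18181 with h | h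
    · exact fixPtsF_spec W_42 18181 0 relc_42_0 v (by omega) (by omega)
    · rcases Nat.lt_or_ge v 36362 with h | h
      · exact fixPtsF_spec W_42 18181 18181 relc_42_1 v (by omega) (by omega)
      · exact fixPtsF_spec W_42 18181 36362 relc_42_2 v (by omega) (by omega)
  · rcases Nat.lt_or_ge v 90905 with h | h
    · rcases Nat.lt_or_ge v 72724 with h | h
      · exact fixPtsF_spec W_42 18181 54543 relc_42_3 v (by omega) (by omega)
      · exact fixPtsF_spec W_42 18181 72724 relc_42_4 v (by omega) (by omega)
    · rcases Nat.lt_or_ge v 109086 with h | h
      · exact fixPtsF_spec W_42 18181 90905 relc_42_5 v (by omega) (by omega)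
      · exact fixPtsF_spec W_42 13674 109086 relc_42_6 v (by omega) (by omega)

set_option maxRecDepth 1000000 in
theorem walk_42 : ∀ v, walkT ctF (D.wlen 42) (D.wordP 42) v = W_42 v := by
  intro v
  simp only [W_42, forceL_eq]
  rfl

theorem relw_42 : ∀ v, v < 122760 → walkT ctF (D.wlen 42) (D.wordP 42) v = v := by
  intro v hv
  rw [walk_42]
  exact relf_42 v hv

theorem relf_43 : ∀ v, v < 122760 → W_43 v = v := by
  intro v hv
  rcases Nat.lt_or_ge v 100000 with h | h
  · exact fixPtsF_spec W_43 100000 0 relc_43_0 v (by omega) (by omega)
  · exact fixPtsF_spec W_43 22760 100000 relc_43_1 v (by omega) (by omega)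

set_option maxRecDepth 1000000 in
theorem walk_43 : ∀ v, walkT ctF (D.wlen 43) (D.wordP 43) v = W_43 v := by
  intro v
  simp only [W_43, forceL_eq]
  rfl

theorem relw_43 : ∀ v, v < 122760 → walkT ctF (D.wlen 43) (D.wordP 43) v = v := by
  intro v hv
  rw [walk_43]
  exact relf_43 v hv

theorem relf_44 : ∀ v, v < 122760 → W_44 v = v := by
  intro v hv
  rcases Nat.lt_or_ge v 100000 with h | h
  · exact fixPtsF_spec W_44 100000 0 relc_44_0 v (by omega) (by omega)
  · exact fixPtsF_spec W_44 22760 100000 relc_44_1 v (by omega) (by omega)

set_option maxRecDepth 1000000 in
theorem walk_44 : ∀ v, walkT ctF (D.wlen 44) (D.wordP 44) v = W_44 v := by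
  intro v
  simp only [W_44, forceL_eq]
  rfl

theorem relw_44 : ∀ v, v < 122760 → walkT ctF (D.wlen 44) (D.wordP 44) v = v := by
  intro v hv
  rw [walk_44]
  exact relf_44 v hv

theorem invx_0 : ∀ v, v < 122760 → ctF 0 v < 122760 ∧ ctF 0 (ctF 0 v) = v := by
  intro v hv
  rcases Nat.lt_or_ge v 50000 with h | h
  · exact invRowFI_spec ctF 122760 0 0 50000 0 inv_0_0 v (by omega) (by omega)
  · rcases Nat.lt_or_ge v 100000 with h | h
    · exact invRowFI_spec ctF 122760 0 0 50000 50000 inv_0_1 v (by omega) (by omega)
    · exact invRowFI_spec ctF 122760 0 0 22760 100000 inv_0_2 v (by omega) (by omega)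

theorem invx_1 : ∀ v, v < 122760 → ctF 1 v < 122760 ∧ ctF 1 (ctF 1 v) = v := by
  intro v hv
  rcases Nat.lt_or_ge v 50000 with h | h
  · exact invRowFI_spec ctF 122760 1 1 50000 0 inv_1_0 v (by omega) (by omega)
  · rcases Nat.lt_or_ge v 100000 with h | h
    · exact invRowFI_spec ctF 122760 1 1 50000 50000 inv_1_1 v (by omega) (by omega)
    · exact invRowFI_spec ctF 122760 1 1 22760 100000 inv_1_2 v (by omega) (by omega)

theorem invx_2 : ∀ v, v < 122760 → ctF 2 v < 122760 ∧ ctF 2 (ctF 2 v) = v := by
  intro v hv
  rcases Nat.lt_or_ge v 50000 with h | h
  · exact invRowFI_spec ctF 122760 2 2 50000 0 inv_2_0 v (by omega) (by omega)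
  · rcases Nat.lt_or_ge v 100000 with h | h
    · exact invRowFI_spec ctF 122760 2 2 50000 50000 inv_2_1 v (by omega) (by omega)
    · exact invRowFI_spec ctF 122760 2 2 22760 100000 inv_2_2 v (by omega) (by omega)

theorem invx_3 : ∀ v, v < 122760 → ctF 3 v < 122760 ∧ ctF 3 (ctF 3 v) = v := by
  intro v hv
  rcases Nat.lt_or_ge v 50000 with h | h
  · exact invRowFI_spec ctF 122760 3 3 50000 0 inv_3_0 v (by omega) (by omega)
  · rcases Nat.lt_or_ge v 100000 with h | h
    · exact invRowFI_spec ctF 122760 3 3 50000 50000 inv_3_1 v (by omega) (by omega)
    · exact invRowFI_spec ctF 122760 3 3 22760 100000 inv_3_2 v (by omega) (by omega)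

theorem invx_4 : ∀ v, v < 122760 → ctF 4 v < 122760 ∧ ctF 4 (ctF 4 v) = v := by
  intro v hv
  rcases Nat.lt_or_ge v 50000 with h | h
  · exact invRowFI_spec ctF 122760 4 4 50000 0 inv_4_0 v (by omega) (by omega)
  · rcases Nat.lt_or_ge v 100000 with h | h
    · exact invRowFI_spec ctF 122760 4 4 50000 50000 inv_4_1 v (by omega) (by omega)
    · exact invRowFI_spec ctF 122760 4 4 22760 100000 inv_4_2 v (by omega) (by omega)

theorem invx_5 : ∀ v, v < 122760 → ctF 5 v < 122760 ∧ ctF 5 (ctF 5 v) = v := by
  intro v hv
  rcases Nat.lt_or_ge v 50000 with h | h
  · exact invRowFI_spec ctF 122760 5 5 50000 0 inv_5_0 v (by omega) (by omega)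
  · rcases Nat.lt_or_ge v 100000 with h | h
    · exact invRowFI_spec ctF 122760 5 5 50000 50000 inv_5_1 v (by omega) (by omega)
    · exact invRowFI_spec ctF 122760 5 5 22760 100000 inv_5_2 v (by omega) (by omega)

theorem invx_6 : ∀ v, v < 122760 → ctF 6 v < 122760 ∧ ctF 7 (ctF 6 v) = v := by
  intro v hv
  rcases Nat.lt_or_ge v 50000 with h | h
  · exact invRowFI_spec ctF 122760 6 7 50000 0 inv_6_0 v (by omega) (by omega)
  · rcases Nat.lt_or_ge v 100000 with h | h
    · exact invRowFI_spec ctF 122760 6 7 50000 50000 inv_6_1 v (by omega) (by omega)
    · exact invRowFI_spec ctF 122760 6 7 22760 100000 inv_6_2 v (by omega) (by omega)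

theorem invx_7 : ∀ v, v < 122760 → ctF 7 v < 122760 ∧ ctF 6 (ctF 7 v) = v := by
  intro v hv
  rcases Nat.lt_or_ge v 50000 with h | h
  · exact invRowFI_spec ctF 122760 7 6 50000 0 inv_7_0 v (by omega) (by omega)
  · rcases Nat.lt_or_ge v 100000 with h | h
    · exact invRowFI_spec ctF 122760 7 6 50000 50000 inv_7_1 v (by omega) (by omega)
    · exact invRowFI_spec ctF 122760 7 6 22760 100000 inv_7_2 v (by omega) (by omega)

theorem hconn : ∀ v, v < 122760 → v ≠ 0 → ∃ x, x < E.D.k ∧ ctF x v < v := by
  intro v hv
  rcases Nat.lt_or_ge v 50000 with h | h
  · exact connF_spec ctF 8 50000 0 conn_0 v (by omega) (by omega)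
  · rcases Nat.lt_or_ge v 100000 with h | h
    · exact connF_spec ctF 8 50000 50000 conn_1 v (by omega) (by omega)
    · exact connF_spec ctF 8 22760 100000 conn_2 v (by omega) (by omega)

theorem hE : ∀ v, v < E.M → ∀ x, x < E.D.k → edgeOKI iota E x v = true := by
  intro v hv x hx
  have hv' : v < 213962 := hv
  have hx' : x < 8 := hx
  interval_cases x
  · exact edgesx_0 v hv'
  · exact edgesx_1 v hv'
  · exact edgesx_2 v hv'
  · exact edgesx_3 v hv'
  · exact edgesx_4 v hv'
  · exact edgesx_5 v hv'
  · exact edgesx_6 v hv'
  · exact edgesx_7 v hv'

theorem hA : ∀ v, v < E.M → aliasOK E v = true := fun v hv => hA0 v hv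

theorem hrows : ∀ v, v < E.M → tb RS v = true → rowOK2 E RS v E.D.k = true := fun v hv => hrows0 v hv

theorem hT : ∀ x, x < E.D.k → ∀ v, v < 122760 → ctF x v < 122760 ∧ ctF (iota x) (ctF x v) = v := by
  intro x hx
  have hx' : x < 8 := hx
  interval_cases x
  · exact invx_0
  · exact invx_1
  · exact invx_2
  · exact invx_3
  · exact invx_4
  · exact invx_5
  · exact invx_6
  · exact invx_7

theorem hltr : ∀ j, j < E.D.nw → lettersOK E.D.k (E.D.wlen j) (E.D.wordP j) = true :=
  wordsOK_spec D D.nw words_ok

theorem hrelT : ∀ wi, wi < E.D.nrel → ∀ v, v < 122760 →
    walkT ctF (E.D.wlen wi) (E.D.wordP wi) v = v := by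
  intro wi hwi
  have hwi' : wi < 45 := hwi
  interval_cases wi
  · exact relw_0
  · exact relw_1
  · exact relw_2
  · exact relw_3
  · exact relw_4
  · exact relw_5
  · exact relw_6
  · exact relw_7
  · exact relw_8
  · exact relw_9
  · exact relw_10
  · exact relw_11
  · exact relw_12
  · exact relw_13
  · exact relw_14
  · exact relw_15
  · exact relw_16
  · exact relw_17
  · exact relw_18
  · exact relw_19
  · exact relw_20
  · exact relw_21
  · exact relw_22
  · exact relw_23
  · exact relw_24
  · exact relw_25
  · exact relw_26
  · exact relw_27
  · exact relw_28
  · exact relw_29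
  · exact relw_30
  · exact relw_31
  · exact relw_32
  · exact relw_33
  · exact relw_34
  · exact relw_35
  · exact relw_36
  · exact relw_37
  · exact relw_38
  · exact relw_39
  · exact relw_40
  · exact relw_41
  · exact relw_42
  · exact relw_43
  · exact relw_44

theorem hsubT : ∀ wi, wi < E.D.nw → E.D.nrel ≤ wi →
    walkT ctF (E.D.wlen wi) (E.D.wordP wi) 0 = 0 :=
  subAll_spec ctF D D.nw sub_ok

end Cfsg.Agent.Helper5.ONTC
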