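import Cfsg.Agent.Helper5.ONXATCDatD
import Cfsg.Agent.Helper5.TCIB

/-! kernel checks of edges, aliases, rows: ONXATC -/

set_option autoImplicit false
set_option Elab.async false

namespace Cfsg.Agent.Helper5.ONXATC
open Cfsg.Agent.Helper5.TC Cfsg.Agent.Helper5.TCI

set_option maxRecDepth 1000000 in
theorem cnt_0 : cntFrom RS 20000 0 0 = 12857 := by decide +kernel

set_option maxRecDepth 1000000 in
theorem cnt_8 : cntFrom RS 20000 160000 0 = 8214 := by decide +kernel

set_option maxRecDepth 1000000 in
theorem edges_6_20 : edgesRangeI iota E 6 2680 54756 = true := by decide +kernel

set_option maxRecDepth 1000000 in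
theorem edges_1_52 : edgesRangeI iota E 1 2904 152392 = true := by decide +kernel

set_option maxRecDepth 1000000 in
theorem edges_6_48 : edgesRangeI iota E 6 2606 123287 = true := by decide +kernel

set_option maxRecDepth 1000000 in
theorem edges_7_87 : edgesRangeI iota E 7 1405 207289 = true := by decide +kernel

set_option maxRecDepth 1000000 in
theorem edges_3_77 : edgesRangeI iota E 3 1287 204215 = true := by decide +kernel

set_option maxRecDepth 1000000 in
theorem edges_6_57 : edgesRangeI iota E 6 2041 143434 = true := by decide +kernel

set_option maxRecDepth 1000000 in
theorem edges_7_72 : edgesRangeI iota E 7 1644 184380 = true := by decide +kernel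

set_option maxRecDepth 1000000 in
theorem edges_3_62 : edgesRangeI iota E 3 1603 181649 = true := by decide +kernel

set_option maxRecDepth 1000000 in
theorem edges_6_81 : edgesRangeI iota E 6 1193 189458 = true := by decide +kernel

set_option maxRecDepth 1000000 in
theorem edges_2_23 : edgesRangeI iota E 2 2776 64742 = true := by decide +kernel

set_option maxRecDepth 1000000 in
theorem edges_1_81 : edgesRangeI iota E 1 1359 210314 = true := by decide +kernel

set_option maxRecDepth 1000000 in
theorem edges_3_57 : edgesRangeI iota E 3 2447 170652 = true := by decide +kernel

set_option maxRecDepth 1000000 in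
theorem edges_0_68 : edgesRangeI iota E 0 2517 170194 = true := by decide +kernel

set_option maxRecDepth 1000000 in
theorem edges_3_10 : edgesRangeI iota E 3 2958 33554 = true := by decide +kernel

set_option maxRecDepth 1000000 in
theorem edges_6_7 : edgesRangeI iota E 6 2994 19688 = true := by decide +kernel

set_option maxRecDepth 1000000 in
theorem edges_0_60 : edgesRangeI iota E 0 2645 148360 = true := by decide +kernel

set_option maxRecDepth 1000000 in
theorem edges_1_41 : edgesRangeI iota E 1 2887 122578 = true := by decide +kernel

set_option maxRecDepth 1000000 in
theorem edges_3_25 : edgesRangeI iota E 3 3032 83139 = true := by decide +kernel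

set_option maxRecDepth 1000000 in
theorem edges_4_46 : edgesRangeI iota E 4 2899 131999 = true := by decide +kernel

set_option maxRecDepth 1000000 in
theorem edges_5_49 : edgesRangeI iota E 5 2793 176067 = true := by decide +kernel

set_option maxRecDepth 1000000 in
theorem edges_6_73 : edgesRangeI iota E 6 1346 179337 = true := by decide +kernel

set_option maxRecDepth 1000000 in
theorem edges_7_50 : edgesRangeI iota E 7 2493 131274 = true := by decide +kernel

set_option maxRecDepth 1000000 in
theorem edges_0_44 : edgesRangeI iota E 0 2331 109121 = true := by decide +kernel

set_option maxRecDepth 1000000 in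
theorem edges_1_42 : edgesRangeI iota E 1 2825 125465 = true := by decide +kernel

set_option maxRecDepth 1000000 in
theorem edges_2_77 : edgesRangeI iota E 2 1523 191581 = true := by decide +kernel

set_option maxRecDepth 1000000 in
theorem edges_3_79 : edgesRangeI iota E 3 1348 206819 = true := by decide +kernel

set_option maxRecDepth 1000000 in
theorem edges_4_66 : edgesRangeI iota E 4 1770 186598 = true := by decide +kernel

set_option maxRecDepth 1000000 in
theorem edges_7_33 : edgesRangeI iota E 7 2651 89702 = true := by decide +kernel

set_option maxRecDepth 1000000 in
theorem aliases_19 : aliasRange E 2820 60815 = true := by decide +kernel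

set_option maxRecDepth 1000000 in
theorem edges_0_10 : edgesRangeI iota E 0 2224 24857 = true := by decide +kernel

set_option maxRecDepth 1000000 in
theorem edges_0_87 : edgesRangeI iota E 0 1661 206329 = true := by decide +kernel

set_option maxRecDepth 1000000 in
theorem edges_3_26 : edgesRangeI iota E 3 3405 86171 = true := by decide +kernel

set_option maxRecDepth 1000000 in
theorem edges_4_48 : edgesRangeI iota E 4 2611 137591 = true := by decide +kernel

set_option maxRecDepth 1000000 in
theorem edges_6_37 : edgesRangeI iota E 6 2159 99746 = true := by decide +kernel

set_option maxRecDepth 1000000 in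
theorem aliases_9 : aliasRange E 3603 29434 = true := by decide +kernel

set_option maxRecDepth 1000000 in
theorem aliases_48 : aliasRange E 2580 136461 = true := by decide +kernel

set_option maxRecDepth 1000000 in
theorem edges_0_17 : edgesRangeI iota E 0 2448 42190 = true := by decide +kernel

set_option maxRecDepth 1000000 in
theorem edges_0_83 : edgesRangeI iota E 0 1715 199485 = true := by decide +kernel

set_option maxRecDepth 1000000 in
theorem edges_1_82 : edgesRangeI iota E 1 1339 211673 = true := by decide +kernel

set_option maxRecDepth 1000000 in
theorem edges_2_50 : edgesRangeI iota E 2 2344 133572 = true := by decide +kernel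

set_option maxRecDepth 1000000 in
theorem edges_2_90 : edgesRangeI iota E 2 1094 208912 = true := by decide +kernel

set_option maxRecDepth 1000000 in
theorem edges_4_13 : edgesRangeI iota E 4 2884 38169 = true := by decide +kernel

set_option maxRecDepth 1000000 in
theorem edges_4_54 : edgesRangeI iota E 4 3068 154758 = true := by decide +kernel

set_option maxRecDepth 1000000 in
theorem edges_4_76 : edgesRangeI iota E 4 1717 204406 = true := by decide +kernel

set_option maxRecDepth 1000000 in
theorem edges_5_58 : edgesRangeI iota E 5 1823 194155 = true := by decide +kernel

set_option maxRecDepth 1000000 in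
theorem edges_6_29 : edgesRangeI iota E 6 3036 79550 = true := by decide +kernel

set_option maxRecDepth 1000000 in
theorem edges_7_8 : edgesRangeI iota E 7 2617 22268 = true := by decide +kernel

set_option maxRecDepth 1000000 in
theorem edges_7_49 : edgesRangeI iota E 7 2565 128709 = true := by decide +kernel

set_option maxRecDepth 1000000 in
theorem aliases_31 : aliasRange E 2758 92601 = true := by decide +kernel

set_option maxRecDepth 1000000 in
theorem aliases_70 : aliasRange E 7437 196069 = true := by decide +kernel

set_option maxRecDepth 1000000 in
theorem edges_0_55 : edgesRangeI iota E 0 2429 136087 = true := by decide +kernel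

set_option maxRecDepth 1000000 in
theorem edges_0_82 : edgesRangeI iota E 0 1773 197712 = true := by decide +kernel

set_option maxRecDepth 1000000 in
theorem edges_1_12 : edgesRangeI iota E 1 3495 36102 = true := by decide +kernel

set_option maxRecDepth 1000000 in
theorem edges_1_77 : edgesRangeI iota E 1 1533 204445 = true := by decide +kernel

set_option maxRecDepth 1000000 in
theorem edges_2_41 : edgesRangeI iota E 2 2373 111719 = true := by decide +kernel

set_option maxRecDepth 1000000 in
theorem edges_2_87 : edgesRangeI iota E 2 1322 205225 = true := by decide +kernel

set_option maxRecDepth 1000000 in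
theorem edges_3_46 : edgesRangeI iota E 3 2695 140324 = true := by decide +kernel

set_option maxRecDepth 1000000 in
theorem edges_4_12 : edgesRangeI iota E 4 3209 34960 = true := by decide +kernel

set_option maxRecDepth 1000000 in
theorem edges_5_3 : edgesRangeI iota E 5 4246 12134 = true := by decide +kernel

set_option maxRecDepth 1000000 in
theorem edges_6_5 : edgesRangeI iota E 6 2687 14323 = true := by decide +kernel

set_option maxRecDepth 1000000 in
theorem edges_6_58 : edgesRangeI iota E 6 2060 145475 = true := by decide +kernel

set_option maxRecDepth 1000000 in
theorem edges_7_41 : edgesRangeI iota E 7 2569 109182 = true := by decide +kernel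

set_option maxRecDepth 1000000 in
theorem edges_7_90 : edgesRangeI iota E 7 1347 211393 = true := by decide +kernel

set_option maxRecDepth 1000000 in
theorem aliases_46 : aliasRange E 2206 131747 = true := by decide +kernel

set_option maxRecDepth 1000000 in
theorem edges_0_26 : edgesRangeI iota E 0 2542 64287 = true := by decide +kernel

set_option maxRecDepth 1000000 in
theorem edges_0_39 : edgesRangeI iota E 0 2368 97567 = true := by decide +kernel

set_option maxRecDepth 1000000 in
theorem edges_0_57 : edgesRangeI iota E 0 2606 140893 = true := by decide +kernel

set_option maxRecDepth 1000000 in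
theorem edges_1_6 : edgesRangeI iota E 1 3050 17919 = true := by decide +kernel

set_option maxRecDepth 1000000 in
theorem edges_1_19 : edgesRangeI iota E 1 3059 57871 = true := by decide +kernel

set_option maxRecDepth 1000000 in
theorem edges_1_45 : edgesRangeI iota E 1 2683 133660 = true := by decide +kernel

set_option maxRecDepth 1000000 in
theorem edges_1_60 : edgesRangeI iota E 1 2643 175239 = true := by decide +kernel

set_option maxRecDepth 1000000 in
theorem edges_2_5 : edgesRangeI iota E 2 3089 14521 = true := by decide +kernel

set_option maxRecDepth 1000000 in
theorem edges_2_22 : edgesRangeI iota E 2 2868 61874 = true := by decide +kernel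

set_option maxRecDepth 1000000 in
theorem edges_2_43 : edgesRangeI iota E 2 2142 116549 = true := by decide +kernel

set_option maxRecDepth 1000000 in
theorem edges_2_67 : edgesRangeI iota E 2 2483 174853 = true := by decide +kernel

set_option maxRecDepth 1000000 in
theorem edges_3_3 : edgesRangeI iota E 3 3309 10623 = true := by decide +kernel

set_option maxRecDepth 1000000 in
theorem edges_3_23 : edgesRangeI iota E 3 3754 75970 = true := by decide +kernel

set_option maxRecDepth 1000000 in
theorem edges_3_41 : edgesRangeI iota E 3 2792 127336 = true := by decide +kernel

set_option maxRecDepth 1000000 in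
theorem edges_3_67 : edgesRangeI iota E 3 1567 189683 = true := by decide +kernel

set_option maxRecDepth 1000000 in
theorem edges_4_14 : edgesRangeI iota E 4 2919 41053 = true := by decide +kernel

set_option maxRecDepth 1000000 in
theorem edges_4_30 : edgesRangeI iota E 4 2862 88328 = true := by decide +kernel

set_option maxRecDepth 1000000 in
theorem edges_4_71 : edgesRangeI iota E 4 1815 195640 = true := by decide +kernel

set_option maxRecDepth 1000000 in
theorem edges_5_8 : edgesRangeI iota E 5 4173 32276 = true := by decide +kernel

set_option maxRecDepth 1000000 in
theorem edges_5_19 : edgesRangeI iota E 5 4351 76927 = true := by decide +kernel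

set_option maxRecDepth 1000000 in
theorem edges_5_30 : edgesRangeI iota E 5 2969 116140 = true := by decide +kernel

set_option maxRecDepth 1000000 in
theorem edges_5_46 : edgesRangeI iota E 5 3507 166183 = true := by decide +kernel

set_option maxRecDepth 1000000 in
theorem edges_5_69 : edgesRangeI iota E 5 1381 212282 = true := by decide +kernel

set_option maxRecDepth 1000000 in
theorem edges_6_33 : edgesRangeI iota E 6 2808 90058 = true := by decide +kernel

set_option maxRecDepth 1000000 in
theorem edges_6_71 : edgesRangeI iota E 6 2201 175759 = true := by decide +kernel

set_option maxRecDepth 1000000 in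
theorem edges_7_4 : edgesRangeI iota E 7 2563 11355 = true := by decide +kernel

set_option maxRecDepth 1000000 in
theorem edges_7_19 : edgesRangeI iota E 7 2552 51537 = true := by decide +kernel

set_option maxRecDepth 1000000 in
theorem edges_7_52 : edgesRangeI iota E 7 2274 136187 = true := by decide +kernel

set_option maxRecDepth 1000000 in
theorem edges_7_84 : edgesRangeI iota E 7 1444 202914 = true := by decide +kernel

set_option maxRecDepth 1000000 in
theorem aliases_15 : aliasRange E 3651 48139 = true := by decide +kernel

set_option maxRecDepth 1000000 in
theorem aliases_35 : aliasRange E 3146 103634 = true := by decide +kernel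

set_option maxRecDepth 1000000 in
theorem aliases_58 : aliasRange E 1947 158539 = true := by decide +kernel

set_option maxRecDepth 1000000 in
theorem rows_1 : rowsRange E RS 1500 1500 = true := by decide +kernel

set_option maxRecDepth 1000000 in
theorem rows_5 : rowsRange E RS 1500 7500 = true := by decide +kernel

set_option maxRecDepth 1000000 in
theorem rows_13 : rowsRange E RS 1500 19500 = true := by decide +kernel

set_option maxRecDepth 1000000 in
theorem rows_21 : rowsRange E RS 1500 31500 = true := by decide +kernel

set_option maxRecDepth 1000000 in
theorem rows_29 : rowsRange E RS 1500 43500 = true := by decide +kernel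

set_option maxRecDepth 1000000 in
theorem rows_37 : rowsRange E RS 1500 55500 = true := by decide +kernel

set_option maxRecDepth 1000000 in
theorem rows_45 : rowsRange E RS 1500 67500 = true := by decide +kernel

set_option maxRecDepth 1000000 in
theorem rows_53 : rowsRange E RS 1500 79500 = true := by decide +kernel

set_option maxRecDepth 1000000 in
theorem rows_61 : rowsRange E RS 1500 91500 = true := by decide +kernel

set_option maxRecDepth 1000000 in
theorem rows_69 : rowsRange E RS 1500 103500 = true := by decide +kernel

set_option maxRecDepth 1000000 in
theorem rows_77 : rowsRange E RS 1500 115500 = true := by decide +kernel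

set_option maxRecDepth 1000000 in
theorem rows_85 : rowsRange E RS 1500 127500 = true := by decide +kernel

set_option maxRecDepth 1000000 in
theorem rows_93 : rowsRange E RS 1500 139500 = true := by decide +kernel

set_option maxRecDepth 1000000 in
theorem rows_101 : rowsRange E RS 1500 151500 = true := by decide +kernel

set_option maxRecDepth 1000000 in
theorem rows_109 : rowsRange E RS 1500 163500 = true := by decide +kernel

set_option maxRecDepth 1000000 in
theorem rows_117 : rowsRange E RS 1500 175500 = true := by decide +kernel

set_option maxRecDepth 1000000 in
theorem rows_125 : rowsRange E RS 1500 187500 = true := by decide +kernel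

set_option maxRecDepth 1000000 in
theorem rows_133 : rowsRange E RS 1500 199500 = true := by decide +kernel

set_option maxRecDepth 1000000 in
theorem rows_141 : rowsRange E RS 1500 211500 = true := by decide +kernel

end Cfsg.Agent.Helper5.ONXATC
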