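import Cfsg.Agent.Helper5.TC2A

/-! generated certificate data (events 0): ONXCTC -/

set_option autoImplicit false
set_option Elab.async false

namespace Cfsg.Agent.Helper5.ONXCTC
open Cfsg.Agent.Helper5.TC

def ev_0 : ℕ := 0x54082100000058081d0000004c081900000060040500000050041d000000500021000000500809000000400805000000240c3d0000005c082d0000004c04090000003c083d00000038083500000048041d00000040042d00000040041100000040040d00000030081900000038002d00000024081900000030043500000030042100000030041100000030040900000024043500000024042100000020042d00000020042100000020041100000020041d00000020040d0000002c203d000000040c3d00000018040900000014042d00000014042100000014041d0000001408090000000c08050000000c042d0000000c04110000000c040d00000004081900000004043500000004042100000004041100000004040900000000042d00000000042100000000041100000000041d00000000040d000000000049000000000045000000000041000000000000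
def evSel0 (c : ℕ) : ℕ := ev_0

end Cfsg.Agent.Helper5.ONXCTC
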