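import Cfsg.Agent.Helper5.TC2A

/-! generated certificate data (targets of generator 3): ONXCTC -/

set_option autoImplicit false
set_option Elab.async false

namespace Cfsg.Agent.Helper5.ONXCTC
open Cfsg.Agent.Helper5.TC

def tg3_0 : ℕ := 0x1900001400001b00001600001200001800001000001a00000e00001700000d00001500000a00001300001100000800000700000f00000500000c00000b000003000009000002000006000004000000000001
def tgSel3 (c : ℕ) : ℕ := tg3_0
def tg3F (v : ℕ) : ℕ := Nat.rec (motive := fun _ => ℕ) 0 (fun c _ => Nat.mod (Nat.shiftRight (tgSel3 c) (Nat.mul 24 (Nat.mod v 682))) 16777216) (Nat.add (Nat.div v 682) 1)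

end Cfsg.Agent.Helper5.ONXCTC
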