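import Cfsg.Agent.Helper5.TC2A

/-! generated certificate data (events 0): ONXKTC -/

set_option autoImplicit false
set_option Elab.async false

namespace Cfsg.Agent.Helper5.ONXKTC
open Cfsg.Agent.Helper5.TC

def ev_0 : ℕ := 0x182c6e000000102c6e00000018184600000068285a00000074186d00000078000300000078083e000000680c3900000018047900000014083e00000020285a00000010082e0000002010220000003c087600000034085200000030084a0000002c083e00000000006a0000005c085200000058084a0000003008720000003c084a0000003808020000001008720000000c081a00000054085e000000a8007900000004081d00000090084a0000000c083e00000050087200000048084a0000002408020000000808520000004c180600000024042900000024041500000084000300000084087200000008080200000040082e0000008400550000004000090000007c00030000007c000300000004047a0000007c040d0000009c0c410000009c0035000000300879000000240425000000200055000000840802000000200c110000009408020000001c0c5500000080082e000000000879000000700003000000700872000000140455000000100441000000200c790000000c04390000000c043500000054007900000008047900000008042900000008042500000004045500000004041500000030005500000004041100000004040d000000000000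
def evSel0 (c : ℕ) : ℕ := ev_0

end Cfsg.Agent.Helper5.ONXKTC
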