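import Cfsg.Agent.Helper5.TC2A

/-! generated certificate data (ranks of generator 2): ONXKTC -/

set_option autoImplicit false
set_option Elab.async false

namespace Cfsg.Agent.Helper5.ONXKTC
open Cfsg.Agent.Helper5.TC

def rk2_0 : ℕ := 0x5effffff000033000000ffffffffffff000032000000ffffffffffff000022ffffffffffffffffffffffffffffff000086ffffff00000000001600001400005fffffffffffffffffff000000000040ffffffffffffffffffffffffffffff000000000000000000ffffff000017000015000000000000000000000000000000
def rkSel2 (c : ℕ) : ℕ := rk2_0
def rk2F (v : ℕ) : ℕ := Nat.rec (motive := fun _ => ℕ) 0 (fun c _ => Nat.mod (Nat.shiftRight (rkSel2 c) (Nat.mul 24 (Nat.mod v 682))) 16777216) (Nat.add (Nat.div v 682) 1)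

end Cfsg.Agent.Helper5.ONXKTC
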