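import Cfsg.Agent.Helper5.TC2A

/-! generated certificate data (targets of generator 6): ONXKTC -/

set_option autoImplicit false
set_option Elab.async false

namespace Cfsg.Agent.Helper5.ONXKTC
open Cfsg.Agent.Helper5.TC

def tg6_0 : ℕ := 0xb00000000000000000000000000000000000000000000000000000000000000000000000000000000000500000000000000000000000000000000000000000400000000000000000000000000000000000100000500000000000800000500000000000000000000000c00001e00000f00001b00000000001400000e000007
def tgSel6 (c : ℕ) : ℕ := tg6_0
def tg6F (v : ℕ) : ℕ := Nat.rec (motive := fun _ => ℕ) 0 (fun c _ => Nat.mod (Nat.shiftRight (tgSel6 c) (Nat.mul 24 (Nat.mod v 682))) 16777216) (Nat.add (Nat.div v 682) 1)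

end Cfsg.Agent.Helper5.ONXKTC
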