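import Cfsg.Agent.Helper5.TC2A

/-! generated certificate data (targets of generator 7): ONXKTC -/

set_option autoImplicit false
set_option Elab.async false

namespace Cfsg.Agent.Helper5.ONXKTC
open Cfsg.Agent.Helper5.TC

def tg7_0 : ℕ := 0x500000000000000000600000600000100000400000000000000000000000000000000000000000200000000000000000000000000000500000100000000000700002a00000000000000000c00000000000000001c00001500000000000000000f000008
def tgSel7 (c : ℕ) : ℕ := tg7_0
def tg7F (v : ℕ) : ℕ := Nat.rec (motive := fun _ => ℕ) 0 (fun c _ => Nat.mod (Nat.shiftRight (tgSel7 c) (Nat.mul 24 (Nat.mod v 682))) 16777216) (Nat.add (Nat.div v 682) 1)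

end Cfsg.Agent.Helper5.ONXKTC
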