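import Cfsg.Agent.Helper5.TC2A

/-! generated certificate data (ranks of generator 5): ONXKTC -/

set_option autoImplicit false
set_option Elab.async false

namespace Cfsg.Agent.Helper5.ONXKTC
open Cfsg.Agent.Helper5.TC

def rk5_0 : ℕ := 0xffffff000000ffffffffffffffffffffffffffffffffffffffffffffffffffffffffffffffffffffffffffffffffffff000000ffffffffffff000000ffffffffffffffffff000000ffffffffffffffffffffffffffffff000000ffffffffffffffffff000000ffffffffffff000000ffffff000000000000000000000000000000
def rkSel5 (c : ℕ) : ℕ := rk5_0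
def rk5F (v : ℕ) : ℕ := Nat.rec (motive := fun _ => ℕ) 0 (fun c _ => Nat.mod (Nat.shiftRight (rkSel5 c) (Nat.mul 24 (Nat.mod v 682))) 16777216) (Nat.add (Nat.div v 682) 1)

end Cfsg.Agent.Helper5.ONXKTC
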