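import Cfsg.Agent.Helper5.TC2A

/-! generated certificate data (targets of generator 0): ONXKTC -/

set_option autoImplicit false
set_option Elab.async false

namespace Cfsg.Agent.Helper5.ONXKTC
open Cfsg.Agent.Helper5.TC

def tg0_0 : ℕ := 0x1300000000001100000900000700000000000000000800000800000000000700001d00001e00000000000000000000000000000000000000000000000000000000002900000000002700000200000800000700000600000500000400000300002600002200001f00000d00000c00000b00000a000010000000000001
def tgSel0 (c : ℕ) : ℕ := tg0_0
def tg0F (v : ℕ) : ℕ := Nat.rec (motive := fun _ => ℕ) 0 (fun c _ => Nat.mod (Nat.shiftRight (tgSel0 c) (Nat.mul 24 (Nat.mod v 682))) 16777216) (Nat.add (Nat.div v 682) 1)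

end Cfsg.Agent.Helper5.ONXKTC
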