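import Mathlib
import Cfsg.Prelude.Def_Sporadic_a

/-!
# Collineations of a Steiner system `S(2,k,v)` that fix a point set: abstract part

A set `H` such that every point outside lies on two lines meeting `H` in exactly two points
("secants") is fixed pointwise only by the trivial automorphism; if moreover every transposition
of `H` extends to an automorphism, then every permutation of `H` extends uniquely.
-/

set_option autoImplicit false

namespace Cfsg.Agent.Helper5.PG24

open Cfsg
open scoped Pointwise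

variable {α : Type*} [DecidableEq α]

/-- the permutation `g` maps members of `L` to members of `L`. -/
def IsCol (L : Set (Finset α)) (g : Equiv.Perm α) : Prop := ∀ l ∈ L, l.image g ∈ L

theorem smul_finset_eq_image (g : Equiv.Perm α) (l : Finset α) : g • l = l.image g := rfl

theorem isCol_of_mem_aut {L : Set (Finset α)} {g : Equiv.Perm α} (hg : g ∈ setSystemAut L) :
    IsCol L g := by
  intro l hl
  have h1 : g • L = L := MulAction.mem_stabilizer_iff.mp hg
  rw [← smul_finset_eq_image, ← h1]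
  exact Set.smul_mem_smul_set hl

theorem mem_aut_of_isCol [Fintype α] {L : Set (Finset α)} {g : Equiv.Perm α} (hg : IsCol L g) :
    g ∈ setSystemAut L := by
  rw [setSystemAut, MulAction.mem_stabilizer_iff]
  have hsub : g • L ⊆ L := by
    intro b hb
    rw [Set.mem_smul_set] at hb
    obtain ⟨c, hc, rfl⟩ := hb
    exact hg c hc
  exact Set.eq_of_subset_of_ncard_le hsub (by rw [Set.ncard_smul_set]) (Set.toFinite _)

/-- a line with two points in a pointwise fixed set is fixed. -/
theorem image_eq_of_two_fixed {k : ℕ} {L : Set (Finset α)} (hL : IsSteinerSystem 2 k L)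
    {g : Equiv.Perm α} (hg : IsCol L g) {H : Finset α} (hfix : ∀ p ∈ H, g p = p)
    {l : Finset α} (hl : l ∈ L) (h2 : (l ∩ H).card = 2) : l.image g = l := by
  obtain ⟨a, b, hab, hlH⟩ := Finset.card_eq_two.mp h2
  have ha : a ∈ l ∩ H := by rw [hlH]; simp
  have hb : b ∈ l ∩ H := by rw [hlH]; simp
  rw [Finset.mem_inter] at ha hb
  obtain ⟨c, -, huniq⟩ := hL.2 {a, b} (Finset.card_pair hab)
  have h1 : l = c := by
    apply huniq
    refine ⟨hl, ?_⟩
    intro x hx
    rcases Finset.mem_insert.mp hx with rfl | hx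
    · exact ha.1
    · rw [Finset.mem_singleton] at hx; subst hx; exact hb.1
  have h3 : l.image g = c := by
    apply huniq
    refine ⟨hg l hl, ?_⟩
    intro x hx
    rw [Finset.mem_image]
    rcases Finset.mem_insert.mp hx with rfl | hx
    · exact ⟨x, ha.1, hfix x ha.2⟩
    · rw [Finset.mem_singleton] at hx; subst hx; exact ⟨x, hb.1, hfix x hb.2⟩
  rw [h3, h1]

/-- the two-secant property. -/
def TwoSecants (L : Set (Finset α)) (H : Finset α) : Prop :=
  ∀ q ∉ H, ∃ l1 ∈ L, ∃ l2 ∈ L, l1 ≠ l2 ∧ q ∈ l1 ∧ q ∈ l2 ∧ (l1 ∩ H).card = 2 ∧ (l2 ∩ H).card = 2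

theorem eq_one_of_fix {k : ℕ} {L : Set (Finset α)} (hL : IsSteinerSystem 2 k L)
    {H : Finset α} (hsec : TwoSecants L H) {g : Equiv.Perm α} (hg : IsCol L g)
    (hfix : ∀ p ∈ H, g p = p) : g = 1 := by
  ext q
  rw [Equiv.Perm.one_apply]
  by_cases hq : q ∈ H
  · exact hfix q hq
  · obtain ⟨l1, hl1, l2, hl2, hne, hq1, hq2, hc1, hc2⟩ := hsec q hq
    by_contra hgq
    have e1 := image_eq_of_two_fixed hL hg hfix hl1 hc1
    have e2 := image_eq_of_two_fixed hL hg hfix hl2 hc2
    have g1 : g q ∈ l1 := by rw [← e1]; exact Finset.mem_image_of_mem _ hq1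
    have g2 : g q ∈ l2 := by rw [← e2]; exact Finset.mem_image_of_mem _ hq2
    obtain ⟨c, -, huniq⟩ := hL.2 {g q, q} (Finset.card_pair hgq)
    have h1 : l1 = c := by
      apply huniq
      refine ⟨hl1, ?_⟩
      intro x hx
      rcases Finset.mem_insert.mp hx with rfl | hx
      · exact g1
      · rw [Finset.mem_singleton] at hx; subst hx; exact hq1
    have h2 : l2 = c := by
      apply huniq
      refine ⟨hl2, ?_⟩
      intro x hx
      rcases Finset.mem_insert.mp hx with rfl | hx
      · exact g2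
      · rw [Finset.mem_singleton] at hx; subst hx; exact hq2
    exact hne (h1.trans h2.symm)

/-- every transposition of `H` extends to an automorphism. -/
def SwapsExtend (L : Set (Finset α)) (H : Finset α) : Prop :=
  ∀ a ∈ H, ∀ b ∈ H, a ≠ b → ∃ g : Equiv.Perm α, g ∈ setSystemAut L ∧ g a = b ∧ g b = a ∧
    ∀ p ∈ H, p ≠ a → p ≠ b → g p = p

/-- the permutations of `H` induced by automorphisms. -/
def inducedSubgroup (L : Set (Finset α)) (H : Finset α) : Subgroup (Equiv.Perm ↥H) where
  carrier := {σ | ∃ g : Equiv.Perm α, g ∈ setSystemAut L ∧ ∀ p : ↥H, g p = σ p}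
  one_mem' := ⟨1, (setSystemAut L).one_mem, fun p => rfl⟩
  mul_mem' := by
    rintro σ τ ⟨g, hg, hgσ⟩ ⟨k, hk, hkτ⟩
    refine ⟨g * k, (setSystemAut L).mul_mem hg hk, ?_⟩
    intro p
    rw [Equiv.Perm.mul_apply, Equiv.Perm.mul_apply, hkτ p, hgσ (τ p)]
  inv_mem' := by
    rintro σ ⟨g, hg, hgσ⟩
    refine ⟨g⁻¹, (setSystemAut L).inv_mem hg, ?_⟩
    intro p
    rw [Equiv.Perm.inv_eq_iff_eq, hgσ (σ⁻¹ p)]
    simp

theorem inducedSubgroup_eq_top {L : Set (Finset α)} {H : Finset α} (hsw : SwapsExtend L H) :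
    inducedSubgroup L H = ⊤ := by
  rw [eq_top_iff, ← Equiv.Perm.closure_isSwap, Subgroup.closure_le]
  rintro σ ⟨x, y, hxy, rfl⟩
  obtain ⟨g, hg, hgx, hgy, hrest⟩ :=
    hsw x.1 x.2 y.1 y.2 (fun h => hxy (Subtype.ext h))
  refine ⟨g, hg, ?_⟩
  intro p
  by_cases hpx : p = x
  · subst hpx; rw [Equiv.swap_apply_left]; exact hgx
  · by_cases hpy : p = y
    · subst hpy; rw [Equiv.swap_apply_right]; exact hgy
    · rw [Equiv.swap_apply_of_ne_of_ne hpx hpy]
      exact hrest p.1 p.2 (fun h => hpx (Subtype.ext h)) (fun h => hpy (Subtype.ext h))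

/-- every permutation of `H` is the restriction of exactly one automorphism. -/
theorem existsUnique_extension [Fintype α] {k : ℕ} {L : Set (Finset α)}
    (hL : IsSteinerSystem 2 k L) {H : Finset α} (hsec : TwoSecants L H) (hsw : SwapsExtend L H)
    (σ : Equiv.Perm ↥H) :
    ∃! g : Equiv.Perm α, g ∈ setSystemAut L ∧ ∀ p : ↥H, g p = σ p := by
  have hσ : σ ∈ inducedSubgroup L H := by rw [inducedSubgroup_eq_top hsw]; exact Subgroup.mem_top σ
  obtain ⟨g, hg, hgσ⟩ := hσ
  refine ⟨g, ⟨hg, hgσ⟩, ?_⟩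
  rintro g' ⟨hg', hgσ'⟩
  have h1 : g⁻¹ * g' = 1 := by
    apply eq_one_of_fix hL hsec
      (isCol_of_mem_aut ((setSystemAut L).mul_mem ((setSystemAut L).inv_mem hg) hg'))
    intro p hp
    rw [Equiv.Perm.mul_apply, Equiv.Perm.inv_eq_iff_eq]
    have a1 := hgσ ⟨p, hp⟩
    have a2 := hgσ' ⟨p, hp⟩
    simp only at a1 a2
    rw [a1, a2]
  have : g' = g := by
    have := congrArg (fun t => g * t) h1
    simpa using this
  exact this

/-! ### transport along an automorphism -/

theorem swapsExtend_image {L : Set (Finset α)} {H : Finset α} {t : Equiv.Perm α}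
    (ht : t ∈ setSystemAut L) (h : SwapsExtend L H) : SwapsExtend L (H.image t) := by
  intro a ha b hb hab
  rw [Finset.mem_image] at ha hb
  obtain ⟨a', ha', rfl⟩ := ha
  obtain ⟨b', hb', rfl⟩ := hb
  obtain ⟨s, hs, hsa, hsb, hrest⟩ := h a' ha' b' hb' (fun h => hab (by rw [h]))
  refine ⟨t * s * t⁻¹,
    (setSystemAut L).mul_mem ((setSystemAut L).mul_mem ht hs) ((setSystemAut L).inv_mem ht),
    ?_, ?_, ?_⟩
  · simp [Equiv.Perm.mul_apply, hsa]
  · simp [Equiv.Perm.mul_apply, hsb]
  · intro p hp hpa hpb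
    rw [Finset.mem_image] at hp
    obtain ⟨p', hp', rfl⟩ := hp
    have := hrest p' hp' (fun h => hpa (by rw [h])) (fun h => hpb (by rw [h]))
    simp [Equiv.Perm.mul_apply, this]

theorem twoSecants_image {L : Set (Finset α)} {H : Finset α} {t : Equiv.Perm α}
    (ht : IsCol L t) (h : TwoSecants L H) : TwoSecants L (H.image t) := by
  intro q hq
  have hq' : t.symm q ∉ H := by
    intro hmem
    apply hq
    rw [Finset.mem_image]
    exact ⟨t.symm q, hmem, by simp⟩
  obtain ⟨l1, hl1, l2, hl2, hne, hq1, hq2, hc1, hc2⟩ := h _ hq'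
  have hinj : Function.Injective (fun l : Finset α => l.image t) :=
    Finset.image_injective t.injective
  refine ⟨l1.image t, ht l1 hl1, l2.image t, ht l2 hl2, fun hh => hne (hinj hh), ?_, ?_, ?_, ?_⟩
  · rw [Finset.mem_image]; exact ⟨t.symm q, hq1, by simp⟩
  · rw [Finset.mem_image]; exact ⟨t.symm q, hq2, by simp⟩
  · rw [← Finset.image_inter _ _ t.injective, Finset.card_image_of_injective _ t.injective]
    exact hc1
  · rw [← Finset.image_inter _ _ t.injective, Finset.card_image_of_injective _ t.injective]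
    exact hc2

end Cfsg.Agent.Helper5.PG24
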