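import Mathlib
import Cfsg.Agent.Helper9.Steiner.D2521

/-!
# The projective plane of order 4: the hyperovals of the standard model

The standard model is the Steiner system `S(2,5,21)` of `Helper9/Steiner/D2521.lean`, with subsets of
`Fin 21` coded by bit masks.  The 168 hyperovals are listed, and hyperovals are transferred along an
isomorphism with the standard model.
-/

set_option autoImplicit false

namespace Cfsg.Agent.Helper5.PG24

open Cfsg Cfsg.Agent.Helper9.Steiner

/-- the lines of the standard plane, as masks. -/
def std : List ℕ := D2521.sd0

/-- the mask `m` meets every line in at most two points. -/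
def good (m : ℕ) : Bool := std.all (fun s => Nat.ble (popc24 (Nat.land s m)) 2)

/-- the hyperovals. -/
def ovals6 : List ℕ := (subsK 21 6).filter good

set_option maxRecDepth 1000000 in
/-- the hyperovals, listed. -/
def ovals6L : List ℕ := [
  4728, 4998, 7237, 9861, 10424, 10566, 13571, 15040, 17606, 17720, 19205, 22336, 22659, 25155, 28032, 33908, 34186, 35401, 38412, 38961, 45193, 49330, 49484, 59402, 67337, 67786, 67892, 73842, 74124, 78346, 82481, 85004, 86089, 98947, 101696, 102661, 107526, 121344, 123072, 131764,
  131914, 134281, 135372, 135474, 140337, 141836, 152586, 155913, 165568, 166147, 172101, 179200, 180742, 184704, 197699, 199552, 202758, 209216, 213125, 222720, 263761, 264300, 264594, 267305, 268820, 270548, 270634, 282897, 287762, 295461, 298008, 304288, 313632, 327846, 328024, 332576, 345184, 376852, 399520, 402016,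
  405528, 409635, 426129, 459282, 525484, 525650, 526993, 533033, 535572, 536657, 540778, 541076, 545298, 557272, 557350, 561824, 567392, 593955, 599328, 608416, 614424, 624658, 656920, 657445, 660576, 672544, 692244, 721169, 787203, 789696, 790661, 800256, 804870, 811328, 827404, 853002, 885120, 917577, 952832, 1003520,
  1049298, 1049388, 1051921, 1052842, 1053012, 1062930, 1066516, 1067049, 1073297, 1086752, 1089571, 1098336, 1101848, 1115173, 1116696, 1120352, 1122976, 1146961, 1179750, 1180056, 1190176, 1197216, 1213458, 1253396, 1311875, 1313600, 1319430, 1323392, 1327173, 1334272, 1343753, 1380364, 1410560, 1443850, 1499136, 1507520, 1574784, 1574979, 1577990, 1581317,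
  1593536, 1600000, 1606154, 1638537, 1683456, 1720332, 1737024, 1772544]

set_option maxRecDepth 1000000 in
theorem ovals6_eq : ovals6 = ovals6L := by decide +kernel

end Cfsg.Agent.Helper5.PG24
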