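import Mathlib
import Cfsg.Agent.Helper9.Steiner.D2521
import Cfsg.Agent.Helper5.PG24Oval

/-!
# The projective plane of order 4: hyperovals of the standard model and their masks; transfer
-/

set_option autoImplicit false

namespace Cfsg.Agent.Helper5.PG24

open Cfsg Cfsg.Agent.Helper9.Steiner

/-- the standard plane of order 4 on `Fin 21`. -/
def L0 : Set (Finset (Fin 21)) := stdSet D2521.P

theorem mem_L0 (b : Finset (Fin 21)) : b ∈ L0 ↔ ∃ s ∈ std, finOf 21 s = b := Iff.rfl

/-- independence of a point set of a plane. -/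
def Indep {α : Type*} [DecidableEq α] (L : Set (Finset α)) (S : Finset α) : Prop :=
  ∀ l ∈ L, (l ∩ S).card ≤ 2

theorem and_lt_right {a b n : ℕ} (hb : b < 2 ^ n) : a &&& b < 2 ^ n :=
  lt_of_le_of_lt Nat.and_le_right hb

theorem card_inter_finOf {s m : ℕ} (hm : m < 2 ^ 21) :
    (finOf 21 s ∩ finOf 21 m).card = popc24 (Nat.land s m) := by
  rw [← finOf_and]
  exact (popc24_eq_card (n := 21) (by norm_num) (and_lt_right hm)).symm

theorem indep0_iff_good {m : ℕ} (hm : m < 2 ^ 21) : Indep L0 (finOf 21 m) ↔ good m = true := by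
  unfold Indep good
  rw [List.all_eq_true]
  constructor
  · intro h s hs
    have := h (finOf 21 s) ((mem_L0 _).mpr ⟨s, hs, rfl⟩)
    rw [card_inter_finOf hm] at this
    exact Nat.ble_eq.mpr this
  · intro h l hl
    obtain ⟨s, hs, rfl⟩ := (mem_L0 l).mp hl
    rw [card_inter_finOf hm]
    exact Nat.ble_eq.mp (h s hs)

theorem indep0_iff_good' (S : Finset (Fin 21)) : Indep L0 S ↔ good (maskOf S) = true := by
  have := indep0_iff_good (maskOf_lt S)
  rwa [finOf_maskOf] at this

theorem mem_ovals6L_of (S : Finset (Fin 21)) (h : S.card = 6 ∧ Indep L0 S) :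
    maskOf S ∈ ovals6L := by
  obtain ⟨h1, h2⟩ := h
  rw [← ovals6_eq, ovals6, List.mem_filter, ← indep0_iff_good']
  refine ⟨?_, h2⟩
  rw [← h1]
  exact maskOf_mem_subsK S

/-! ### transfer -/

section transfer

variable {α : Type*} [DecidableEq α]

theorem image_inter_equiv (e : α ≃ Fin 21) (a b : Finset α) :
    (a ∩ b).image e = a.image e ∩ b.image e :=
  Finset.image_inter _ _ e.injective

theorem indep_transfer (e : α ≃ Fin 21) (L : Set (Finset α)) (h : mapSys e L = L0)
    (S : Finset α) : Indep L S ↔ Indep L0 (S.image e) := by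
  unfold Indep
  rw [← h]
  constructor
  · rintro hS l0 ⟨l, hl, rfl⟩
    simp only
    rw [← image_inter_equiv, Finset.card_image_of_injective _ e.injective]
    exact hS l hl
  · intro hS l hl
    have := hS (l.image e) ⟨l, hl, rfl⟩
    rwa [← image_inter_equiv, Finset.card_image_of_injective _ e.injective] at this

theorem prop_transfer (e : α ≃ Fin 21) (L : Set (Finset α)) (h : mapSys e L = L0) (k : ℕ)
    (S : Finset α) : (S.card = k ∧ Indep L S) ↔ ((S.image e).card = k ∧ Indep L0 (S.image e)) := by
  rw [indep_transfer e L h, Finset.card_image_of_injective _ e.injective]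

end transfer

end Cfsg.Agent.Helper5.PG24
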