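import Mathlib
import Cfsg.Agent.Helper9.Steiner.D2521
import Cfsg.Agent.Helper5.PG24Oval
import Cfsg.Agent.Helper5.PG24OvalB
import Cfsg.Agent.Helper5.PG24Aut
import Cfsg.Agent.Helper5.PG24Abs

/-!
# The projective plane of order 4: permutations of a hyperoval extend uniquely
-/

set_option autoImplicit false

namespace Cfsg.Agent.Helper5.PG24

open Cfsg Cfsg.Agent.Helper9.Steiner

theorem std_lt {s : ℕ} (hs : s ∈ std) : s < 2 ^ 21 := by
  have := List.all_eq_true.mp D2521.checked.lt s hs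
  exact of_decide_eq_true this

theorem std_nodup : std.Nodup := nodup_of_nd _ D2521.checked.nodup

theorem isCol_permOf {c : ℕ} (hok : okPerm 21 c = true) (hc : isCol c = true) :
    IsCol L0 (permOf hok) := by
  intro l hl
  obtain ⟨s, hs, rfl⟩ := (mem_L0 l).mp hl
  refine (mem_L0 _).mpr ⟨pm (pget c) s 21, ?_, finOf_pm_permOf hok s⟩
  exact (memB_iff _ _).mp (List.all_eq_true.mp hc s hs)

/-- the first hyperoval, as a point set. -/
def H1 : Finset (Fin 21) := finOf 21 h1

theorem h1_lt : h1 < 2 ^ 21 := by decide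

theorem testBit_h1_of_mem {a : Fin 21} (ha : a ∈ H1) : Nat.testBit h1 a.val = true :=
  mem_finOf.mp ha

theorem testBit_h1_of_not_mem {a : Fin 21} (ha : a ∉ H1) : Nat.testBit h1 a.val = false := by
  rw [← Bool.not_eq_true]
  exact fun h => ha (mem_finOf.mpr h)

theorem swap1_lt (a b : Fin 21) (ha : a ∈ H1) (hb : b ∈ H1) (hab : a.val < b.val) :
    ∃ g : Equiv.Perm (Fin 21), g ∈ setSystemAut L0 ∧ g a = b ∧ g b = a ∧
      ∀ p ∈ H1, p ≠ a → p ≠ b → g p = p := by
  have h2 := List.all_eq_true.mp swap1_check a.val (List.mem_range.mpr a.isLt)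
  have h3 := List.all_eq_true.mp h2 b.val (List.mem_range.mpr b.isLt)
  rw [testBit_h1_of_mem ha, testBit_h1_of_mem hb,
    (Nat.blt_eq.mpr hab : Nat.blt a.val b.val = true)] at h3
  simp only [Bool.and_self, Bool.not_true, Bool.false_or] at h3
  unfold swapOK at h3
  simp only [Bool.and_eq_true, Nat.beq_eq] at h3
  obtain ⟨⟨⟨⟨hok, hcol⟩, hij⟩, hji⟩, hrest⟩ := h3
  refine ⟨permOf hok, mem_aut_of_isCol (isCol_permOf hok hcol), Fin.ext hij, Fin.ext hji, ?_⟩
  intro p hp hpa hpb
  have h4 := List.all_eq_true.mp hrest p.val (List.mem_range.mpr p.isLt)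
  rw [testBit_h1_of_mem hp] at h4
  have e1 : Nat.beq p.val a.val = false := by
    rw [← Bool.not_eq_true, Nat.beq_eq]; exact fun h => hpa (Fin.ext h)
  have e2 : Nat.beq p.val b.val = false := by
    rw [← Bool.not_eq_true, Nat.beq_eq]; exact fun h => hpb (Fin.ext h)
  rw [e1, e2] at h4
  simp only [Bool.not_true, Bool.false_or, Nat.beq_eq] at h4
  exact Fin.ext h4

theorem swapsExtend_H1 : SwapsExtend L0 H1 := by
  intro a ha b hb hab
  rcases lt_or_gt_of_ne (fun h => hab (Fin.ext h) : a.val ≠ b.val) with h | h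
  · exact swap1_lt a b ha hb h
  · obtain ⟨g, h1, h2, h3, h4⟩ := swap1_lt b a hb ha h
    exact ⟨g, h1, h3, h2, fun p hp hpa hpb => h4 p hp hpb hpa⟩

theorem two_of_length {l : List ℕ} (hnd : l.Nodup) (h : 2 ≤ l.length) :
    ∃ a ∈ l, ∃ b ∈ l, a ≠ b := by
  match l, hnd, h with
  | a :: b :: t, hnd, _ =>
    refine ⟨a, by simp, b, by simp, ?_⟩
    intro hab
    subst hab
    simp at hnd

theorem twoSecants_H1 : TwoSecants L0 H1 := by
  intro q hq
  have h2 := List.all_eq_true.mp secant1_check q.val (List.mem_range.mpr q.isLt)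
  rw [testBit_h1_of_not_mem hq, Bool.false_or, Nat.ble_eq] at h2
  obtain ⟨s1, hs1, s2, hs2, hne⟩ := two_of_length (std_nodup.filter _) h2
  rw [List.mem_filter, Bool.and_eq_true, Nat.beq_eq] at hs1 hs2
  have key : ∀ s : ℕ, Nat.testBit s q.val = true → popc24 (Nat.land s h1) = 2 →
      q ∈ finOf 21 s ∧ (finOf 21 s ∩ H1).card = 2 := by
    intro s ht hp
    refine ⟨mem_finOf.mpr ht, ?_⟩
    have := card_inter_finOf (s := s) h1_lt
    unfold H1
    rw [this, hp]
  refine ⟨finOf 21 s1, (mem_L0 _).mpr ⟨s1, hs1.1, rfl⟩, finOf 21 s2,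
    (mem_L0 _).mpr ⟨s2, hs2.1, rfl⟩, ?_,
    (key s1 hs1.2.1 hs1.2.2).1, (key s2 hs2.2.1 hs2.2.2).1,
    (key s1 hs1.2.1 hs1.2.2).2, (key s2 hs2.2.1 hs2.2.2).2⟩
  intro h
  apply hne
  have := congrArg maskOf h
  rwa [maskOf_finOf (std_lt hs1.1), maskOf_finOf (std_lt hs2.1)] at this

/-- every hyperoval of the standard model is an image of the first one. -/
theorem exists_trans (H0 : Finset (Fin 21)) (hH : H0.card = 6 ∧ Indep L0 H0) :
    ∃ t : Equiv.Perm (Fin 21), IsCol L0 t ∧ H0 = H1.image t := by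
  have hm := mem_ovals6L_of H0 hH
  have h2 := List.all_eq_true.mp trans_check _ hm
  unfold transOK at h2
  simp only [Bool.and_eq_true, Nat.beq_eq] at h2
  obtain ⟨⟨hok, hcol⟩, himg⟩ := h2
  refine ⟨permOf hok, isCol_permOf hok hcol, ?_⟩
  have := finOf_pm_permOf hok h1
  rw [himg, finOf_maskOf] at this
  exact this

theorem swapsExtend_model (H0 : Finset (Fin 21)) (hH : H0.card = 6 ∧ Indep L0 H0) :
    SwapsExtend L0 H0 := by
  obtain ⟨t, ht, rfl⟩ := exists_trans H0 hH
  exact swapsExtend_image (mem_aut_of_isCol ht) swapsExtend_H1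

theorem secants_model (H0 : Finset (Fin 21)) (hH : H0.card = 6 ∧ Indep L0 H0) :
    TwoSecants L0 H0 := by
  obtain ⟨t, ht, rfl⟩ := exists_trans H0 hH
  exact twoSecants_image ht twoSecants_H1

/-! ### transfer -/

section transfer

variable {α : Type*}

/-- a permutation of the model, carried to `α`. -/
def conjPerm (e : α ≃ Fin 21) (g0 : Equiv.Perm (Fin 21)) : Equiv.Perm α :=
  (e.trans g0).trans e.symm

theorem conjPerm_apply (e : α ≃ Fin 21) (g0 : Equiv.Perm (Fin 21)) (x : α) :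
    conjPerm e g0 x = e.symm (g0 (e x)) := rfl

variable [DecidableEq α]

theorem isCol_conjPerm (e : α ≃ Fin 21) (L : Set (Finset α)) (h : mapSys e L = L0)
    (g0 : Equiv.Perm (Fin 21)) (hg0 : IsCol L0 g0) : IsCol L (conjPerm e g0) := by
  intro l hl
  have h1 : l.image e ∈ L0 := by rw [← h]; exact ⟨l, hl, rfl⟩
  have h2 := hg0 _ h1
  rw [← h, mem_mapSys] at h2
  have : l.image (conjPerm e g0) = ((l.image e).image g0).image e.symm := by
    rw [Finset.image_image, Finset.image_image]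
    rfl
  rw [this]
  exact h2

theorem swapsExtend_of_iso [Fintype α] (e : α ≃ Fin 21) (L : Set (Finset α)) (h : mapSys e L = L0)
    (H : Finset α) (hH : H.card = 6 ∧ Indep L H) : SwapsExtend L H := by
  intro a ha b hb hab
  have hH0 := (prop_transfer e L h 6 H).mp hH
  obtain ⟨g0, hcol, hab0, hba0, hrest⟩ := swapsExtend_model (H.image e) hH0 (e a)
    (Finset.mem_image_of_mem _ ha) (e b) (Finset.mem_image_of_mem _ hb)
    (fun h => hab (e.injective h))
  refine ⟨conjPerm e g0, mem_aut_of_isCol (isCol_conjPerm e L h g0 (isCol_of_mem_aut hcol)),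
    ?_, ?_, ?_⟩
  · rw [conjPerm_apply, hab0, Equiv.symm_apply_apply]
  · rw [conjPerm_apply, hba0, Equiv.symm_apply_apply]
  · intro p hp hpa hpb
    rw [conjPerm_apply, hrest (e p) (Finset.mem_image_of_mem _ hp)
      (fun h => hpa (e.injective h)) (fun h => hpb (e.injective h)), Equiv.symm_apply_apply]

theorem twoSecants_of_iso (e : α ≃ Fin 21) (L : Set (Finset α)) (h : mapSys e L = L0)
    (H : Finset α) (hH : H.card = 6 ∧ Indep L H) : TwoSecants L H := by
  intro q hq
  have hH0 := (prop_transfer e L h 6 H).mp hH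
  have hq0 : e q ∉ H.image e := by
    rw [e.injective.mem_finset_image]; exact hq
  obtain ⟨l1, hl1, l2, hl2, hne, hq1, hq2, hc1, hc2⟩ := secants_model (H.image e) hH0 (e q) hq0
  rw [← h] at hl1 hl2
  obtain ⟨m1, hm1, rfl⟩ := hl1
  obtain ⟨m2, hm2, rfl⟩ := hl2
  simp only at hne hq1 hq2 hc1 hc2
  rw [e.injective.mem_finset_image] at hq1 hq2
  rw [← image_inter_equiv, Finset.card_image_of_injective _ e.injective] at hc1 hc2
  exact ⟨m1, hm1, m2, hm2, fun h => hne (by rw [h]), hq1, hq2, hc1, hc2⟩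

theorem hyperoval_permutations_extend_uniquely [Fintype α] (hα : Fintype.card α = 21) (L : Set (Finset α))
    (hL : IsSteinerSystem 2 5 L) (H : Finset α) (hH : H.card = 6 ∧ Indep L H)
    (σ : Equiv.Perm ↥H) :
    ∃! g : Equiv.Perm α, g ∈ setSystemAut L ∧ ∀ p : ↥H, g p = σ p := by
  obtain ⟨e, he⟩ := iso_std_of_checked D2521.checked (α := α) hα hL
  change mapSys (e : α ≃ Fin 21) L = L0 at he
  exact existsUnique_extension hL (twoSecants_of_iso e L he H hH) (swapsExtend_of_iso e L he H hH) σ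

end transfer

end Cfsg.Agent.Helper5.PG24
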