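import Mathlib
import Cfsg.Prelude
import Cfsg.Agent.Helper5.PReducedRel2

/-!
Helper lemmas (helper5): `p`-reduced normal subgroups and (sub)normal subgroups.
The nilpotent action lemma, the quadratic action lemma, and the three "normal step" lemmas.
-/

set_option autoImplicit false

namespace Cfsg.Agent.Helper5.PRS

open Cfsg Cfsg.Agent.Helper5
open scoped commutatorElement

variable {H : Type*} [Group H]

/-- `D` acts as a `p`-group on `V`. -/
def PAct (p : ℕ) (D V : Subgroup H) : Prop :=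
  ∀ d ∈ D, ∃ k : ℕ, d ^ p ^ k ∈ Subgroup.centralizer (V : Set H)

theorem PAct.mono_left {p : ℕ} {D D' V : Subgroup H} (h : PAct p D V) (hD : D' ≤ D) : PAct p D' V :=
  fun d hd => h d (hD hd)

theorem PAct.mono_right {p : ℕ} {D V V' : Subgroup H} (h : PAct p D V) (hV : V' ≤ V) : PAct p D V' :=
  fun d hd => (h d hd).imp fun _ hk => Subgroup.centralizer_le hV hk

/-- Quadratic action: if `f` normalizes the exponent-`p` subgroup `W` and commutes with all
`f w f⁻¹ w⁻¹`, then `f ^ p` centralizes `W`. -/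
theorem pow_mem_centralizer_of_quadratic {p : ℕ} (W : Subgroup H) (hexp : ∀ w ∈ W, w ^ p = 1) (f : H)
    (hf : f ∈ Subgroup.normalizer (W : Set H))
    (hq : ∀ w ∈ W, Commute f (f * w * f⁻¹ * w⁻¹)) : f ^ p ∈ Subgroup.centralizer (W : Set H) := by
  have key : ∀ w ∈ W, ∀ n : ℕ, f ^ n * w * (f ^ n)⁻¹ = (f * w * f⁻¹ * w⁻¹) ^ n * w := by
    intro w hw n
    induction n with
    | zero => simp
    | succ n ih =>
      have hc : Commute f ((f * w * f⁻¹ * w⁻¹) ^ n) := (hq w hw).pow_right n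
      have h1 : f ^ (n + 1) * w * (f ^ (n + 1))⁻¹ = f * (f ^ n * w * (f ^ n)⁻¹) * f⁻¹ := by
        rw [pow_succ']; group
      rw [h1, ih]
      have h2 : f * ((f * w * f⁻¹ * w⁻¹) ^ n * w) * f⁻¹ =
          (f * (f * w * f⁻¹ * w⁻¹) ^ n) * w * f⁻¹ := by group
      rw [h2, hc.eq, pow_succ]
      group
  rw [Subgroup.mem_centralizer_iff]
  intro w hw
  have hδ : f * w * f⁻¹ * w⁻¹ ∈ W :=
    W.mul_mem ((Subgroup.mem_normalizer_iff.mp hf w).mp hw) (W.inv_mem hw)
  have h := key w hw p
  rw [hexp _ hδ, one_mul] at h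
  have : f ^ p * w = w * f ^ p := by
    calc f ^ p * w = f ^ p * w * (f ^ p)⁻¹ * f ^ p := by group
      _ = w * f ^ p := by rw [h]
  exact this.symm

/-- In a nilpotent subgroup `S`, a nontrivial subgroup `N ≤ S` is not its own commutator with `S`. -/
theorem commutator_ne_self_of_nilpotent (S N : Subgroup H) [Group.IsNilpotent ↥S]
    (hNS : N ≤ S) (hN : N ≠ ⊥) : ⁅N, S⁆ ≠ N := by
  intro h
  have hle : ∀ n : ℕ, N ≤ S.lowerCentralSeries n := by
    intro n
    induction n with
    | zero => rw [Subgroup.lowerCentralSeries_zero]; exact hNS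
    | succ n ih =>
      rw [Subgroup.lowerCentralSeries_succ]
      calc N = ⁅N, S⁆ := h.symm
        _ ≤ ⁅S.lowerCentralSeries n, S⁆ := Subgroup.commutator_mono ih le_rfl
  obtain ⟨n, hn⟩ := (Subgroup.isNilpotent_iff_lowerCentralSeries S).mp inferInstance
  apply hN
  rw [eq_bot_iff, ← hn]
  exact hle n

/-- The `p'`-residual of `X` centralizes `U` when `X` acts as a `p`-group on `U`. -/
theorem pResidual_le_centralizer [Finite H] {p : ℕ} [Fact p.Prime] (U X : Subgroup H)
    (hact : PAct p X U) :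
    Cfsg.pResidual p ↥X ≤ (Subgroup.centralizer (U : Set H)).subgroupOf X := by
  unfold Cfsg.pResidual
  rw [Subgroup.closure_le]
  intro g hg
  have hg' : (orderOf g).Coprime p := hg
  obtain ⟨k, hk⟩ := hact (g : H) g.2
  rw [SetLike.mem_coe, Subgroup.mem_subgroupOf]
  apply mem_of_pow_mem_of_coprime _ (g : H) (p ^ k) (orderOf g)
    (Nat.Coprime.pow_left k hg'.symm) hk
  rw [← Subgroup.coe_pow, pow_orderOf_eq_one]; exact Subgroup.one_mem _

/-- Nilpotent action: a subgroup `X` acting as a `p`-group on the nontrivial `p`-subgroup `U` has `[U, X] ≠ U`. -/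
theorem commutator_ne_self_of_pAct [Finite H] {p : ℕ} [Fact p.Prime] (U X : Subgroup H)
    (hU : IsPGroup p ↥U) (hU1 : U ≠ ⊥) (hXU : X ≤ Subgroup.normalizer (U : Set H))
    (hact : PAct p X U) : ⁅U, X⁆ ≠ U := by
  obtain ⟨Q⟩ : Nonempty (Sylow p ↥X) := inferInstance
  set Q' : Subgroup H := (Q : Subgroup ↥X).map X.subtype with hQ'
  have hQ'p : IsPGroup p ↥Q' := Q.isPGroup'.map _
  have hQ'X : Q' ≤ X := by rintro _ ⟨x, -, rfl⟩; exact x.2
  have hG1 : IsPGroup p ↥(Q' ⊔ U) := IsPGroup.to_sup_of_normal_right' hQ'p hU (hQ'X.trans hXU)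
  haveI : Group.IsNilpotent ↥(Q' ⊔ U) := hG1.isNilpotent
  have hne := commutator_ne_self_of_nilpotent (Q' ⊔ U) U le_sup_right hU1
  intro h
  apply hne
  apply le_antisymm
  · rw [Subgroup.commutator_le]
    intro u hu g hg
    have hgN : g ∈ Subgroup.normalizer (U : Set H) :=
      (sup_le (hQ'X.trans hXU) Subgroup.le_normalizer) hg
    have : ⁅u, g⁆ = u * (g * u⁻¹ * g⁻¹) := by rw [commutatorElement_def]; group
    rw [this]
    exact U.mul_mem hu ((Subgroup.mem_normalizer_iff.mp hgN _).mp (U.inv_mem hu))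
  · have hres := pResidual_le_centralizer U X hact
    have htop := pResidual_sup_sylow Q
    calc U = ⁅U, X⁆ := h.symm
      _ ≤ ⁅U, Q' ⊔ U⁆ := by
        rw [Subgroup.commutator_le]
        intro u hu x hx
        have hx' : (⟨x, hx⟩ : ↥X) ∈ Cfsg.pResidual p ↥X ⊔ (Q : Subgroup ↥X) := by
          rw [htop]; exact Subgroup.mem_top _
        haveI : (Cfsg.pResidual p ↥X).Characteristic := pResidual_characteristic p
        obtain ⟨c, hc, s, hs, hcs⟩ := Subgroup.mem_sup_of_normal_left.mp hx'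
        have hcC : (c : H) ∈ Subgroup.centralizer (U : Set H) := Subgroup.mem_subgroupOf.mp (hres hc)
        have hsQ : (s : H) ∈ Q' := ⟨s, hs, rfl⟩
        have hxe : x = (c : H) * (s : H) := by
          have := congrArg Subtype.val hcs
          simpa using this.symm
        have hsN : (s : H) ∈ Subgroup.normalizer (U : Set H) := hXU s.2
        have hsu : (s : H) * u⁻¹ * (s : H)⁻¹ ∈ U :=
          (Subgroup.mem_normalizer_iff.mp hsN _).mp (U.inv_mem hu)
        have hcomm := (Subgroup.mem_centralizer_iff.mp hcC) _ hsu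
        have : ⁅u, x⁆ = ⁅u, (s : H)⁆ := by
          rw [commutatorElement_def, commutatorElement_def, hxe]
          calc u * ((c : H) * (s : H)) * u⁻¹ * ((c : H) * (s : H))⁻¹
              = u * ((c : H) * ((s : H) * u⁻¹ * (s : H)⁻¹)) * (c : H)⁻¹ := by group
            _ = u * (((s : H) * u⁻¹ * (s : H)⁻¹) * (c : H)) * (c : H)⁻¹ := by rw [hcomm]
            _ = u * (s : H) * u⁻¹ * (s : H)⁻¹ := by group
        rw [this]
        exact Subgroup.commutator_mem_commutator hu (Subgroup.mem_sup_left hsQ)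

theorem PAct.map {p : ℕ} {D W : Subgroup H} (h : PAct p D W) (f : H →* H) :
    PAct p (D.map f) (W.map f) := by
  rintro _ ⟨d, hd, rfl⟩
  obtain ⟨k, hk⟩ := h d hd
  refine ⟨k, ?_⟩
  rw [← map_pow, Subgroup.mem_centralizer_iff]
  rintro _ ⟨w, hw, rfl⟩
  rw [← map_mul, ← map_mul, (Subgroup.mem_centralizer_iff.mp hk) w hw]

theorem isElementaryAbelian_map_equiv {p : ℕ} {V : Subgroup H} (hV : Cfsg.IsElementaryAbelian p V)
    (φ : H ≃* H) : Cfsg.IsElementaryAbelian p (V.map φ.toMonoidHom) := by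
  obtain ⟨hc, he⟩ := hV
  refine ⟨?_, ?_⟩
  · apply IsMulCommutative.of_setLike_mul_comm
    rintro _ ⟨a, ha, rfl⟩ _ ⟨b, hb, rfl⟩
    rw [← map_mul, ← map_mul, setLike_mul_comm ha hb]
  · rintro _ ⟨a, ha, rfl⟩
    rw [← map_pow, he a ha, map_one]

/-- `p`-reducedness is transported by automorphisms of the ambient group. -/
theorem PRedIn.map_equiv {p : ℕ} {L V : Subgroup H} (h : PRedIn p L V) (φ : H ≃* H) :
    PRedIn p (L.map φ.toMonoidHom) (V.map φ.toMonoidHom) := by
  obtain ⟨hVL, hLN, hel, hD⟩ := h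
  refine ⟨Subgroup.map_mono hVL, ?_, isElementaryAbelian_map_equiv hel φ, ?_⟩
  · rw [← Subgroup.map_equiv_normalizer_eq]
    exact Subgroup.map_mono hLN
  · intro D hDL hLD hact
    have hD'L : D.comap φ.toMonoidHom ≤ L := by
      intro x hx
      obtain ⟨l, hl, hlx⟩ := hDL (Subgroup.mem_comap.mp hx)
      have : l = x := φ.injective hlx
      rwa [← this]
    have hmapcomap : (D.comap φ.toMonoidHom).map φ.toMonoidHom = D :=
      Subgroup.map_comap_eq_self_of_surjective φ.surjective D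
    have hLD' : L ≤ Subgroup.normalizer ((D.comap φ.toMonoidHom : Subgroup H) : Set H) := by
      intro l hl
      have h1 : φ l ∈ Subgroup.normalizer (D : Set H) := hLD ⟨l, hl, rfl⟩
      rw [← hmapcomap, ← Subgroup.map_equiv_normalizer_eq] at h1
      obtain ⟨l', hl', hll'⟩ := h1
      have : l' = l := φ.injective hll'
      rwa [← this]
    have hact' : ∀ d ∈ D.comap φ.toMonoidHom, ∃ k : ℕ, d ^ p ^ k ∈ Subgroup.centralizer (V : Set H) := by
      intro d hd
      obtain ⟨k, hk⟩ := hact (φ d) (Subgroup.mem_comap.mp hd)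
      refine ⟨k, ?_⟩
      rw [Subgroup.mem_centralizer_iff]
      intro v hv
      apply φ.injective
      have := (Subgroup.mem_centralizer_iff.mp hk) (φ v) ⟨v, hv, rfl⟩
      rw [map_mul, map_mul, map_pow]
      exact this
    have hle := hD _ hD'L hLD' hact'
    intro d hd
    rw [Subgroup.mem_centralizer_iff]
    rintro _ ⟨v, hv, rfl⟩
    have hd' : φ.symm d ∈ D.comap φ.toMonoidHom := by
      rw [Subgroup.mem_comap]; simpa using hd
    have := (Subgroup.mem_centralizer_iff.mp (hle hd')) v hv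
    have h2 := congrArg φ this
    rw [map_mul, map_mul, MulEquiv.apply_symm_apply] at h2
    exact h2

/-- `Y_L` is normalized by `N(L)`. -/
theorem normalizer_le_normalizer_largestPReducedOf [Finite H] (p : ℕ) [Fact p.Prime] (L : Subgroup H) :
    Subgroup.normalizer (L : Set H) ≤
      Subgroup.normalizer ((Cfsg.largestPReducedOf p L : Subgroup H) : Set H) := by
  apply le_normalizer_of_conj_mem
  intro k hk x hx
  have h1 := PRedIn.map_equiv (pRedIn_largestPReducedOf p L) (MulAut.conj k)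
  have hL : L.map (MulAut.conj k).toMonoidHom = L := (mem_normalizer_iff_map_conj L k).mp hk
  rw [hL] at h1
  have h2 := h1.le_largestPReducedOf
  exact (map_conj_le_iff _ _ k).mp h2 x hx

theorem PAct.of_inf {p : ℕ} {K L V D : Subgroup H} (hKL : K ≤ Subgroup.normalizer (L : Set H))
    (hVK : V ≤ K) (hKV : K ≤ Subgroup.normalizer (V : Set H)) (hLK : L ≤ K)
    (hV : Cfsg.IsElementaryAbelian p V) (hDL : D ≤ L) (h : PAct p D (V ⊓ L)) : PAct p D V := by
  intro d hd
  obtain ⟨k, hk⟩ := h d hd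
  refine ⟨k + 1, ?_⟩
  rw [pow_succ, pow_mul]
  set f := d ^ p ^ k with hf
  have hfL : f ∈ L := L.pow_mem (hDL hd) _
  have hfN : f ∈ Subgroup.normalizer (V : Set H) := hKV (hLK hfL)
  apply pow_mem_centralizer_of_quadratic V hV.2 f hfN
  intro w hw
  have h1 : f * w * f⁻¹ * w⁻¹ ∈ V :=
    V.mul_mem ((Subgroup.mem_normalizer_iff.mp hfN w).mp hw) (V.inv_mem hw)
  have h2 : f * w * f⁻¹ * w⁻¹ ∈ L := by
    have : f * w * f⁻¹ * w⁻¹ = f * (w * f⁻¹ * w⁻¹) := by group
    rw [this]
    exact L.mul_mem hfL ((Subgroup.mem_normalizer_iff.mp (hKL (hVK hw)) _).mp (L.inv_mem hfL))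
  exact ((Subgroup.mem_centralizer_iff.mp hk) _ ⟨h1, h2⟩).symm

theorem normalizer_mem_inf (X K : Subgroup H) (y : H) (hX : y ∈ Subgroup.normalizer (X : Set H))
    (hK : y ∈ Subgroup.normalizer (K : Set H)) : y ∈ Subgroup.normalizer ((X ⊓ K : Subgroup H) : Set H) := by
  rw [Subgroup.mem_normalizer_iff] at hX hK ⊢
  intro n
  exact ⟨fun h => ⟨(hX n).mp h.1, (hK n).mp h.2⟩, fun h => ⟨(hX n).mpr h.1, (hK n).mpr h.2⟩⟩

/-- The join of two `L`-invariant subgroups of `L` acting as `p`-groups on `W` acts as a `p`-group on `W`. -/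
theorem PAct.sup [Finite H] {p : ℕ} {L W D₁ D₂ : Subgroup H} (hLW : L ≤ Subgroup.normalizer (W : Set H))
    (h1L : D₁ ≤ L) (h2L : D₂ ≤ L) (h2N : L ≤ Subgroup.normalizer (D₂ : Set H))
    (h1 : PAct p D₁ W) (h2 : PAct p D₂ W) : PAct p (D₁ ⊔ D₂) W := by
  intro x hx
  have hx' : x ∈ ((D₁ ⊔ D₂ : Subgroup H) : Set H) := hx
  rw [Subgroup.coe_mul_of_left_le_normalizer_right D₁ D₂ (h1L.trans h2N)] at hx'
  obtain ⟨d₁, hd₁, d₂, hd₂, rfl⟩ := Set.mem_mul.mp hx'
  obtain ⟨k₁, hk₁⟩ := h1 d₁ hd₁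
  obtain ⟨c', hc', hpow⟩ := mul_pow_of_mem_normalizer D₂ d₁ d₂ (h2N (h1L hd₁)) hd₂ (p ^ k₁)
  obtain ⟨k₂, hk₂⟩ := h2 c' hc'
  refine ⟨k₁ + k₂, ?_⟩
  rw [pow_add, pow_mul, hpow]
  set a := d₁ ^ p ^ k₁ with ha
  set C := Subgroup.centralizer (W : Set H) with hC
  have hc'N : c' ∈ Subgroup.normalizer (C : Set H) :=
    normalizer_le_normalizer_centralizer W (hLW (h2L hc'))
  have ha' : c'⁻¹ * a * c'⁻¹⁻¹ ∈ C :=
    (Subgroup.mem_normalizer_iff.mp (Subgroup.inv_mem _ hc'N) a).mp hk₁
  obtain ⟨c'', hc'', hpow2⟩ := mul_pow_of_mem_normalizer C c' (c'⁻¹ * a * c'⁻¹⁻¹) hc'N ha' (p ^ k₂)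
  have : a * c' = c' * (c'⁻¹ * a * c'⁻¹⁻¹) := by group
  rw [this, hpow2]
  exact C.mul_mem hk₂ hc''

/-- Normal step (A): a `p`-reduced normal subgroup of `K` meets a normal subgroup `L` of `K` in a
`p`-reduced normal subgroup of `L`. -/
theorem PRedIn.inf_of_normal [Finite H] {p : ℕ} [Fact p.Prime] {K L V : Subgroup H} (h : PRedIn p K V)
    (hLK : L ≤ K) (hKL : K ≤ Subgroup.normalizer (L : Set H)) : PRedIn p L (V ⊓ L) := by
  obtain ⟨hVK, hKV, hel, hD⟩ := h
  have hKW : K ≤ Subgroup.normalizer ((V ⊓ L : Subgroup H) : Set H) :=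
    fun k hk => normalizer_mem_inf V L k (hKV hk) (hKL hk)
  refine ⟨inf_le_right, hLK.trans hKW, IsElementaryAbelian.of_le hel inf_le_left, ?_⟩
  intro D hDL hLD hact
  set 𝒟 : Set (Subgroup H) := {D' | D' ≤ L ∧ L ≤ Subgroup.normalizer (D' : Set H) ∧ PAct p D' (V ⊓ L)} with h𝒟
  have hsc : SupClosed 𝒟 := by
    rintro D₁ ⟨h1L, h1N, h1⟩ D₂ ⟨h2L, h2N, h2⟩
    refine ⟨sup_le h1L h2L, ?_, PAct.sup (hLK.trans hKW) h1L h2L h2N h1 h2⟩
    exact (le_inf h1N h2N).trans (Subgroup.normalizer_inf_normalizer_le_normalizer_sup D₁ D₂)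
  have hbot : (⊥ : Subgroup H) ∈ 𝒟 := by
    refine ⟨bot_le, ?_, ?_⟩
    · intro l _
      rw [Subgroup.mem_normalizer_iff]
      intro x
      simp only [Subgroup.mem_bot]
      constructor
      · rintro rfl; group
      · intro hx
        have : x = l⁻¹ * (l * x * l⁻¹) * l := by group
        rw [this, hx]; group
    · intro d hd
      rw [Subgroup.mem_bot] at hd
      exact ⟨0, by rw [hd, one_pow]; exact Subgroup.one_mem _⟩
  have hE : sSup 𝒟 ∈ 𝒟 := hsc.sSup_mem (Set.toFinite 𝒟) hbot subset_rfl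
  set E := sSup 𝒟 with hEdef
  obtain ⟨hEL, hLE, hEact⟩ := hE
  have hKE : K ≤ Subgroup.normalizer (E : Set H) := by
    apply le_normalizer_of_conj_mem
    intro k hk x hx
    have hmem : E.map (MulAut.conj k).toMonoidHom ∈ 𝒟 := by
      have hL : L.map (MulAut.conj k).toMonoidHom = L := (mem_normalizer_iff_map_conj L k).mp (hKL hk)
      have hW : (V ⊓ L).map (MulAut.conj k).toMonoidHom = V ⊓ L :=
        (mem_normalizer_iff_map_conj _ k).mp (hKW hk)
      refine ⟨?_, ?_, ?_⟩
      · rw [← hL]; exact Subgroup.map_mono hEL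
      · rw [← Subgroup.map_equiv_normalizer_eq]
        conv_lhs => rw [← hL]
        exact Subgroup.map_mono hLE
      · have := hEact.map (MulAut.conj k).toMonoidHom
        rwa [hW] at this
    have hle : E.map (MulAut.conj k).toMonoidHom ≤ E := le_sSup hmem
    exact (map_conj_le_iff _ _ k).mp hle x hx
  have hEV : PAct p E V := PAct.of_inf hKL hVK hKV hLK hel hEL hEact
  have hEC : E ≤ Subgroup.centralizer (V : Set H) := hD E (hEL.trans hLK) hKE hEV
  have hDE : D ≤ E := le_sSup ⟨hDL, hLD, hact⟩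
  exact (hDE.trans hEC).trans (Subgroup.centralizer_le inf_le_left)

/-- Normal step (B). -/
theorem PRedIn.inf_centralizer_le [Finite H] {p : ℕ} [Fact p.Prime] {K L V : Subgroup H} (h : PRedIn p K V)
    (hLK : L ≤ K) (hKL : K ≤ Subgroup.normalizer (L : Set H)) :
    L ⊓ Subgroup.centralizer ((V ⊓ L : Subgroup H) : Set H) ≤ Subgroup.centralizer (V : Set H) := by
  obtain ⟨hVK, hKV, hel, hD⟩ := h
  have hKW : K ≤ Subgroup.normalizer ((V ⊓ L : Subgroup H) : Set H) :=
    fun k hk => normalizer_mem_inf V L k (hKV hk) (hKL hk)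
  apply hD _ (inf_le_left.trans hLK)
  · intro k hk
    exact normalizer_mem_inf _ _ k (hKL hk) (normalizer_le_normalizer_centralizer _ (hKW hk))
  · apply PAct.of_inf hKL hVK hKV hLK hel inf_le_left
    intro d hd
    exact ⟨0, by rw [pow_zero, pow_one]; exact hd.2⟩

theorem commutator_le_left_of_le_normalizer (U X : Subgroup H)
    (hX : X ≤ Subgroup.normalizer (U : Set H)) : ⁅U, X⁆ ≤ U := by
  rw [Subgroup.commutator_le]
  intro u hu x hx
  have : ⁅u, x⁆ = u * (x * u⁻¹ * x⁻¹) := by rw [commutatorElement_def]; group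
  rw [this]
  exact U.mul_mem hu ((Subgroup.mem_normalizer_iff.mp (hX hx) _).mp (U.inv_mem hu))

theorem le_normalizer_commutator (K U X : Subgroup H)
    (hU : K ≤ Subgroup.normalizer (U : Set H)) (hX : K ≤ Subgroup.normalizer (X : Set H)) :
    K ≤ Subgroup.normalizer ((⁅U, X⁆ : Subgroup H) : Set H) := by
  intro k hk
  rw [mem_normalizer_iff_map_conj, Subgroup.map_commutator,
    (mem_normalizer_iff_map_conj U k).mp (hU hk), (mem_normalizer_iff_map_conj X k).mp (hX hk)]

theorem le_centralizer_bot (A : Subgroup H) : A ≤ Subgroup.centralizer (((⊥ : Subgroup H) : Subgroup H) : Set H) := by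
  intro a _
  rw [Subgroup.mem_centralizer_iff]
  intro h hh
  have : h = 1 := by simpa using hh
  rw [this, one_mul, mul_one]

/-- Normal step (C): for `L ⊴ K`, `C_L(Y_K) ≤ C_L(Y_L)`. -/
theorem inf_centralizer_largestPReducedOf_le [Finite H] {p : ℕ} [Fact p.Prime] {K L : Subgroup H}
    (hLK : L ≤ K) (hKL : K ≤ Subgroup.normalizer (L : Set H)) :
    L ⊓ Subgroup.centralizer ((Cfsg.largestPReducedOf p K : Subgroup H) : Set H) ≤
      Subgroup.centralizer ((Cfsg.largestPReducedOf p L : Subgroup H) : Set H) := by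
  set Y := Cfsg.largestPReducedOf p L with hYdef
  set Z := Cfsg.largestPReducedOf p K with hZdef
  have hY : PRedIn p L Y := pRedIn_largestPReducedOf p L
  have hKY : K ≤ Subgroup.normalizer (Y : Set H) :=
    hKL.trans (normalizer_le_normalizer_largestPReducedOf p L)
  have hZmax : ∀ U : Subgroup H, PRedIn p K U → U ≤ Z := fun U hU => hU.le_largestPReducedOf
  have key : ∀ n : ℕ, ∀ A : Subgroup H, Nat.card A = n → A ≤ L →
      A ≤ Subgroup.centralizer (Z : Set H) → K ≤ Subgroup.normalizer (A : Set H) →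
      A ≤ Subgroup.centralizer (Y : Set H) := by
    intro n
    induction n using Nat.strong_induction_on with
    | _ n ih =>
    intro A hcard hAL hAZ hKA
    by_contra hAY
    have ih' : ∀ A' : Subgroup H, A' ≤ A → A' ≠ A → K ≤ Subgroup.normalizer (A' : Set H) →
        A' ≤ Subgroup.centralizer (Y : Set H) := by
      intro A' hle hne hK
      have hlt : Nat.card A' < Nat.card A := by
        by_contra hge
        push Not at hge
        exact hne (Subgroup.eq_of_le_of_card_ge hle hge)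
      exact ih (Nat.card A') (hcard ▸ hlt) A' rfl (hle.trans hAL) (hle.trans hAZ) hK
    have star : ∀ U : Subgroup H, U ≤ Y → K ≤ Subgroup.normalizer (U : Set H) →
        ¬ A ≤ Subgroup.centralizer (U : Set H) → ¬ PAct p A U := by
      intro U hUY hKU hAU hact
      have h1 : A ⊓ Subgroup.centralizer (U : Set H) ≤ Subgroup.centralizer (Y : Set H) := by
        apply ih' _ inf_le_left
        · intro heq
          apply hAU
          rw [← heq]; exact inf_le_right
        · intro k hk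
          exact normalizer_mem_inf _ _ k (hKA hk) (normalizer_le_normalizer_centralizer _ (hKU hk))
      apply hAY
      apply hY.2.2.2 A hAL (hLK.trans hKA)
      intro a ha
      obtain ⟨k, hk⟩ := hact a ha
      exact ⟨k, h1 ⟨A.pow_mem ha _, hk⟩⟩
    set 𝒰 : Set (Subgroup H) := {U | U ≤ Y ∧ K ≤ Subgroup.normalizer (U : Set H) ∧
      ¬ A ≤ Subgroup.centralizer (U : Set H)} with h𝒰
    obtain ⟨U, hU𝒰, hUmin⟩ := Set.exists_min_image 𝒰 (fun U => Nat.card U) (Set.toFinite 𝒰)
      ⟨Y, le_rfl, hKY, hAY⟩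
    obtain ⟨hUY, hKU, hAU⟩ := hU𝒰
    have hUmin' : ∀ U' : Subgroup H, U' ≤ U → K ≤ Subgroup.normalizer (U' : Set H) →
        ¬ A ≤ Subgroup.centralizer (U' : Set H) → U' = U := by
      intro U' hle hK hA
      exact Subgroup.eq_of_le_of_card_ge hle (hUmin U' ⟨hle.trans hUY, hK, hA⟩)
    have hUel : Cfsg.IsElementaryAbelian p U := IsElementaryAbelian.of_le hY.2.2.1 hUY
    have hUp : IsPGroup p ↥U := by
      intro g
      refine ⟨1, ?_⟩
      apply Subtype.ext
      rw [pow_one, Subgroup.coe_pow, Subgroup.coe_one]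
      exact hUel.2 g g.2
    have hU1 : U ≠ ⊥ := by
      intro h
      apply hAU
      rw [h]
      exact le_centralizer_bot A
    have hAK : A ≤ K := hAL.trans hLK
    -- (ii)
    have hUAeq : ⁅U, A⁆ = U := by
      apply hUmin' _ (commutator_le_left_of_le_normalizer U A (hAK.trans hKU))
        (le_normalizer_commutator K U A hKU hKA)
      intro hAC
      apply star U hUY hKU hAU
      intro a ha
      refine ⟨1, ?_⟩
      rw [pow_one]
      apply pow_mem_centralizer_of_quadratic U hUel.2 a (hKU (hAK ha))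
      intro w hw
      have hδ : a * w * a⁻¹ * w⁻¹ ∈ ⁅U, A⁆ := by
        rw [Subgroup.commutator_comm]
        exact Subgroup.commutator_mem_commutator ha hw
      exact ((Subgroup.mem_centralizer_iff.mp (hAC ha)) _ hδ).symm
    -- (iv)
    have hUred : PRedIn p K U := by
      refine ⟨hUY.trans (hY.1.trans hLK), hKU, hUel, fun X hXK hKX hXact => ?_⟩
      have hne := commutator_ne_self_of_pAct U X hUp hU1 (hXK.trans hKU) hXact
      have hA_UX : A ≤ Subgroup.centralizer ((⁅U, X⁆ : Subgroup H) : Set H) := by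
        by_contra h
        exact hne (hUmin' _ (commutator_le_left_of_le_normalizer U X (hXK.trans hKU))
          (le_normalizer_commutator K U X hKU hKX) h)
      have hX₁ne : X ⊓ A ≠ A := by
        intro heq
        apply star U hUY hKU hAU
        exact PAct.mono_left hXact (by rw [← heq]; exact inf_le_left)
      have hX₁ : X ⊓ A ≤ Subgroup.centralizer (Y : Set H) := by
        apply ih' _ inf_le_right hX₁ne
        intro k hk
        exact normalizer_mem_inf _ _ k (hKX hk) (hKA hk)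
      have hXA : ⁅X, A⁆ ≤ X ⊓ A := by
        apply le_inf
        · exact commutator_le_left_of_le_normalizer X A (hAK.trans hKX)
        · rw [Subgroup.commutator_comm]
          exact commutator_le_left_of_le_normalizer A X (hXK.trans hKA)
      have h1 : ⁅⁅U, X⁆, A⁆ = ⊥ := by
        rw [Subgroup.commutator_comm, Subgroup.commutator_eq_bot_iff_le_centralizer]
        exact hA_UX
      have h2 : ⁅⁅X, A⁆, U⁆ = ⊥ := by
        rw [Subgroup.commutator_eq_bot_iff_le_centralizer]
        exact (hXA.trans hX₁).trans (Subgroup.centralizer_le hUY)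
      have h3 := Subgroup.commutator_commutator_eq_bot_of_rotate h1 h2
      rw [Subgroup.commutator_comm A U, hUAeq, Subgroup.commutator_comm,
        Subgroup.commutator_eq_bot_iff_le_centralizer] at h3
      exact h3
    -- (v)
    exact hAU (hAZ.trans (Subgroup.centralizer_le (hZmax U hUred)))
  apply key _ (L ⊓ Subgroup.centralizer (Z : Set H)) rfl inf_le_left inf_le_right
  intro k hk
  have hKZ : K ≤ Subgroup.normalizer (Z : Set H) := (pRedIn_largestPReducedOf p K).2.1
  exact normalizer_mem_inf _ _ k (hKL hk) (normalizer_le_normalizer_centralizer _ (hKZ hk))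

end Cfsg.Agent.Helper5.PRS
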