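import Mathlib
import Cfsg.Prelude
import Cfsg.Agent.Helper4.PSolvable
import Cfsg.Agent.Helper5.Misc
import Cfsg.Agent.Helper5.SylowSub

/-!
Helper lemmas (helper5): in a `p`-solvable group, a `p'`-subgroup normalizing a Sylow `p`-subgroup is
centralized by every `p`-element of its normalizer.
-/

set_option autoImplicit false

universe u

namespace Cfsg.Agent.Helper5.PSN

open Cfsg Cfsg.Agent.Helper5 Cfsg.Agent.Helper4

/-- A `p`-element acting trivially on `Q₀` and on `Q` modulo `Q₀` (inside a `p'`-group) centralizes. -/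
theorem commute_of_stable {G : Type*} [Group G] [Finite G] {p : ℕ} [Fact p.Prime] (Q : Subgroup G)
    (hQ : (Nat.card Q).Coprime p) (x q : G) (hq : q ∈ Q) (hxq : x * q * x⁻¹ ∈ Q)
    (hz : x * (x * q * x⁻¹ * q⁻¹) = (x * q * x⁻¹ * q⁻¹) * x) (k : ℕ) (hk : x ^ p ^ k = 1) :
    q * x = x * q := by
  set z := x * q * x⁻¹ * q⁻¹ with hzdef
  have hzQ : z ∈ Q := Q.mul_mem hxq (Q.inv_mem hq)
  have hpow : ∀ n : ℕ, x ^ n * q * (x ^ n)⁻¹ = z ^ n * q := by
    intro n
    induction n with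
    | zero => simp
    | succ n ih =>
      have hc : Commute x z := hz
      calc x ^ (n + 1) * q * (x ^ (n + 1))⁻¹ = x * (x ^ n * q * (x ^ n)⁻¹) * x⁻¹ := by
            rw [pow_succ']; group
        _ = x * (z ^ n * q) * x⁻¹ := by rw [ih]
        _ = (x * z ^ n * x⁻¹) * (x * q * x⁻¹) := by group
        _ = z ^ n * (x * q * x⁻¹) := by
            rw [(hc.pow_right n).eq, mul_inv_cancel_right]
        _ = z ^ n * (z * q) := by
            have hzq : z * q = x * q * x⁻¹ := by rw [hzdef, inv_mul_cancel_right]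
            rw [hzq]
        _ = z ^ (n + 1) * q := by rw [pow_succ]; exact (mul_assoc _ _ _).symm
  have h1 := hpow (p ^ k)
  rw [hk, one_mul, inv_one, mul_one] at h1
  have h2 : z ^ p ^ k = 1 := by
    have : z ^ p ^ k * q = 1 * q := by rw [one_mul]; exact h1.symm
    exact mul_right_cancel this
  have h3 : z = 1 := by
    have hd1 : orderOf z ∣ p ^ k := orderOf_dvd_of_pow_eq_one h2
    have hd2 : orderOf z ∣ Nat.card Q := by
      have := orderOf_dvd_natCard (⟨z, hzQ⟩ : ↥Q)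
      rwa [Subgroup.orderOf_mk] at this
    have hcop : Nat.Coprime (p ^ k) (Nat.card Q) := (Nat.Coprime.pow_right k hQ).symm
    have := Nat.dvd_gcd hd1 hd2
    rw [hcop.gcd_eq_one, Nat.dvd_one] at this
    exact orderOf_eq_one_iff.mp this
  have h4 : x * q * x⁻¹ * q⁻¹ = 1 := h3
  have h5 : x * q * x⁻¹ = q := by
    have := congrArg (· * q) h4
    simpa using this
  have h6 : x * q = q * x := by
    have := congrArg (· * x) h5
    simpa using this
  exact h6.symm

theorem main {p : ℕ} [hp : Fact p.Prime] :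
    ∀ (n : ℕ) (G : Type u) [Group G] [Finite G], Nat.card G = n → Cfsg.IsPSolvable p G →
      ∀ (Q : Subgroup G), (Nat.card Q).Coprime p → ∀ P : Sylow p G,
        Q ≤ Subgroup.normalizer ((P : Subgroup G) : Set G) →
        ∀ x ∈ Subgroup.normalizer (Q : Set G), (∃ k : ℕ, x ^ p ^ k = 1) →
          x ∈ Subgroup.centralizer (Q : Set G) := by
  have hpP : p.Prime := hp.out
  intro n
  induction n using Nat.strong_induction_on with
  | _ n ih =>
  intro G _ _ hcard hG Q hQ P hQP x hxN hxp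
  obtain ⟨k, hk⟩ := hxp
  by_cases hbt : (⊥ : Subgroup G) = ⊤
  · have : x ∈ (⊥ : Subgroup G) := by rw [hbt]; trivial
    rw [Subgroup.mem_bot] at this
    rw [this]; exact Subgroup.one_mem _
  have hlt : (⊥ : Subgroup G) < ⊤ := lt_of_le_of_ne bot_le hbt
  obtain ⟨W, hWn, hWpos, -, hW⟩ := exists_normal_section_of_isPSolvable hG ⊤ ⊥ hlt
  haveI := hWn
  rw [Subgroup.relIndex_bot_left] at hW
  have hWne : W ≠ ⊥ := hWpos.ne'
  -- induction in the quotient
  have hcq : Nat.card (G ⧸ W) < n := by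
    rw [← hcard, ← Subgroup.index_eq_card, ← W.card_mul_index]
    have h1 : 1 < Nat.card W := (Subgroup.one_lt_card_iff_ne_bot W).mpr hWne
    have h2 : 0 < W.index := Nat.pos_of_ne_zero Subgroup.index_ne_zero_of_finite
    nlinarith
  have hsurj := QuotientGroup.mk'_surjective W
  have hQ' : (Nat.card ↥(Q.map (QuotientGroup.mk' W))).Coprime p :=
    Nat.Coprime.coprime_dvd_left (Subgroup.card_map_dvd _ _) hQ
  have hQP' : Q.map (QuotientGroup.mk' W) ≤
      Subgroup.normalizer (((Sylow.mapSurjective hsurj P : Sylow p (G ⧸ W)) : Subgroup (G ⧸ W)) :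
        Set (G ⧸ W)) := by
    rw [Sylow.coe_mapSurjective]
    exact le_trans (Subgroup.map_mono hQP) (Subgroup.le_normalizer_map _)
  have hx' : QuotientGroup.mk' W x ∈
      Subgroup.normalizer ((Q.map (QuotientGroup.mk' W) : Subgroup (G ⧸ W)) : Set (G ⧸ W)) :=
    Subgroup.le_normalizer_map _ ⟨x, hxN, rfl⟩
  have hxk' : (QuotientGroup.mk' W x) ^ p ^ k = 1 := by rw [← map_pow, hk, map_one]
  have hcen := ih _ hcq (G ⧸ W) rfl (isPSolvable_quotient hG W) (Q.map (QuotientGroup.mk' W)) hQ'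
    (Sylow.mapSurjective hsurj P) hQP' _ hx' ⟨k, hxk'⟩
  have hzW : ∀ q ∈ Q, x * q * x⁻¹ * q⁻¹ ∈ W := by
    intro q hq
    have h1 := (Subgroup.mem_centralizer_iff.mp hcen) (QuotientGroup.mk' W q) ⟨q, hq, rfl⟩
    rw [← QuotientGroup.eq_one_iff]
    have h2 : (QuotientGroup.mk' W q) * (QuotientGroup.mk' W x) =
        (QuotientGroup.mk' W x) * (QuotientGroup.mk' W q) := h1
    show QuotientGroup.mk' W (x * q * x⁻¹ * q⁻¹) = 1
    rw [map_mul, map_mul, map_mul, ← h2, map_inv, map_inv]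
    group
  have hxQ : ∀ q ∈ Q, x * q * x⁻¹ ∈ Q := fun q hq =>
    (Subgroup.mem_normalizer_iff.mp hxN q).mp hq
  rw [Subgroup.mem_centralizer_iff]
  rcases hW with ⟨m, hm⟩ | hWcop
  · -- `W` is a `p`-group
    have hinf : Q ⊓ W = ⊥ := by
      apply disjoint_iff.mp
      apply Subgroup.disjoint_of_coprime_natCard
      rw [hm]; exact Nat.Coprime.pow_right m hQ
    intro q hq
    apply commute_of_stable Q hQ x q hq (hxQ q hq) ?_ k hk
    have hz1 : x * q * x⁻¹ * q⁻¹ ∈ Q ⊓ W := ⟨Q.mul_mem (hxQ q hq) (Q.inv_mem hq), hzW q hq⟩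
    rw [hinf, Subgroup.mem_bot] at hz1
    rw [hz1, mul_one, one_mul]
  · -- `W` is a `p'`-group
    set Q₀ : Subgroup G := Q ⊓ W with hQ₀
    have hPW : (P : Subgroup G) ⊓ W = ⊥ := by
      apply disjoint_iff.mp
      apply Subgroup.disjoint_of_coprime_natCard
      obtain ⟨a, ha⟩ := IsPGroup.iff_card.mp P.isPGroup'
      rw [ha]; exact (Nat.Coprime.pow_right a hWcop).symm
    have hQ₀P : ∀ q₀ ∈ Q₀, ∀ g ∈ (P : Subgroup G), g * q₀ = q₀ * g := by
      intro q₀ hq₀ g hg
      have hq₀N : q₀ ∈ Subgroup.normalizer ((P : Subgroup G) : Set G) := hQP hq₀.1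
      have h1 : q₀ * g * q₀⁻¹ * g⁻¹ ∈ (P : Subgroup G) :=
        Subgroup.mul_mem _ ((Subgroup.mem_normalizer_iff.mp hq₀N g).mp hg) (Subgroup.inv_mem _ hg)
      have h2 : q₀ * g * q₀⁻¹ * g⁻¹ ∈ W := by
        have h3 : g * q₀⁻¹ * g⁻¹ ∈ W := hWn.conj_mem _ (W.inv_mem hq₀.2) g
        have h4 : q₀ * g * q₀⁻¹ * g⁻¹ = q₀ * (g * q₀⁻¹ * g⁻¹) := by group
        rw [h4]; exact W.mul_mem hq₀.2 h3
      have h5 : q₀ * g * q₀⁻¹ * g⁻¹ ∈ (P : Subgroup G) ⊓ W := ⟨h1, h2⟩
      rw [hPW, Subgroup.mem_bot] at h5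
      have h6 : q₀ * g * q₀⁻¹ = g := by
        have := congrArg (· * g) h5
        simpa using this
      have h7 : q₀ * g = g * q₀ := by
        have := congrArg (· * q₀) h6
        simpa using this
      exact h7.symm
    have hxQ₀ : x ∈ Subgroup.normalizer (Q₀ : Set G) := by
      apply mem_normalizer_of_conj_mem
      intro q hq
      exact ⟨hxQ q hq.1, hWn.conj_mem q hq.2 x⟩
    have hPN : (P : Subgroup G) ≤ Subgroup.normalizer (Q₀ : Set G) := by
      intro g hg
      apply mem_normalizer_of_conj_mem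
      intro q hq
      rw [hQ₀P q hq g hg, mul_inv_cancel_right]
      exact hq
    have hZp : IsPGroup p (Subgroup.zpowers x) := by
      obtain ⟨j, -, hj⟩ := (Nat.dvd_prime_pow hpP).mp (orderOf_dvd_of_pow_eq_one hk)
      apply IsPGroup.of_card (n := j)
      rw [Nat.card_zpowers, hj]
    have hZN : Subgroup.zpowers x ≤ Subgroup.normalizer (Q₀ : Set G) := by
      rw [Subgroup.zpowers_le]; exact hxQ₀
    obtain ⟨c, hcN, hc⟩ := exists_conj_le_sylow_of_le P _ hPN (Subgroup.zpowers x) hZN hZp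
    have hcx := hc x (Subgroup.mem_zpowers x)
    have hxQ₀c : ∀ q ∈ Q₀, x * q = q * x := by
      intro q hq
      have hcq : c * q * c⁻¹ ∈ Q₀ := (Subgroup.mem_normalizer_iff.mp hcN q).mp hq
      have h1 := hQ₀P _ hcq _ hcx
      have h2 : c * (x * q) * c⁻¹ = c * (q * x) * c⁻¹ := by
        calc c * (x * q) * c⁻¹ = (c * x * c⁻¹) * (c * q * c⁻¹) := by group
          _ = (c * q * c⁻¹) * (c * x * c⁻¹) := h1
          _ = c * (q * x) * c⁻¹ := by group
      exact mul_left_cancel (mul_right_cancel h2)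
    intro q hq
    apply commute_of_stable Q hQ x q hq (hxQ q hq) ?_ k hk
    exact hxQ₀c _ ⟨Q.mul_mem (hxQ q hq) (Q.inv_mem hq), hzW q hq⟩

end Cfsg.Agent.Helper5.PSN
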