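import Mathlib

set_option autoImplicit false

/-!
helper5: S4587, part A.  Finite `p`-groups: an element with centralizer of order at most `p²`
forces the derived subgroup to have index `p²`.
-/

namespace Cfsg.Agent.Helper5.PSq

open scoped commutatorElement

universe u

/-- a nontrivial normal subgroup of a finite `p`-group meets the centre nontrivially. -/
theorem normal_inf_center {Q : Type*} [Group Q] [Finite Q] {p : ℕ} [hp : Fact p.Prime]
    (hQ : IsPGroup p Q) (M : Subgroup Q) [hM : M.Normal] (hMne : M ≠ ⊥) :
    ∃ b ∈ M, b ≠ 1 ∧ b ∈ Subgroup.center Q := by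
  have hQ' : IsPGroup p (ConjAct Q) := hQ
  have hcard : p ∣ Nat.card M := by
    obtain ⟨k, hk⟩ := (hQ.to_subgroup M).exists_card_eq
    have hk0 : k ≠ 0 := by
      rintro rfl
      rw [pow_zero] at hk
      exact hMne (Subgroup.card_eq_one.1 hk)
    rw [hk]
    exact dvd_pow_self p hk0
  have h1 : (1 : M) ∈ MulAction.fixedPoints (ConjAct Q) M := by
    intro g
    exact smul_one g
  obtain ⟨b, hb, hne⟩ := hQ'.exists_fixed_point_of_prime_dvd_card_of_fixed_point M hcard h1
  refine ⟨(b : Q), b.2, ?_, ?_⟩
  · intro h
    apply hne
    exact (Subtype.ext h).symm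
  · rw [Subgroup.mem_center_iff]
    intro g
    have h2 := hb (ConjAct.toConjAct g)
    have h3 := congrArg Subtype.val h2
    rw [ConjAct.Subgroup.val_conj_smul, ConjAct.smul_def, ConjAct.ofConjAct_toConjAct] at h3
    calc g * (b : Q) = g * (b : Q) * g⁻¹ * g := by group
      _ = (b : Q) * g := by rw [h3]

/-- the key statement on `p`-groups, by induction on the order. -/
theorem index_commutator_aux {p : ℕ} [hp : Fact p.Prime] :
    ∀ (n : ℕ) (P : Type u) [Group P] [Finite P], Nat.card P = n → IsPGroup p P →
      p ^ 2 ∣ Nat.card P → ∀ x : P, Nat.card (Subgroup.centralizer ({x} : Set P)) ∣ p ^ 2 →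
      (commutator P).index = p ^ 2 := by
  intro n
  induction n using Nat.strong_induction_on with
  | _ n ih =>
    intro P _ _ hn hP hsq x hx
    by_cases hab : commutator P = ⊥
    · -- abelian
      have hc : Subgroup.centralizer ({x} : Set P) = ⊤ := by
        rw [eq_top_iff]
        intro y _
        rw [Subgroup.mem_centralizer_iff]
        intro z hz
        rw [Set.mem_singleton_iff] at hz
        subst hz
        have h1 : ⁅z, y⁆ ∈ commutator P := by
          rw [commutator_def]
          exact Subgroup.commutator_mem_commutator (Subgroup.mem_top z) (Subgroup.mem_top y)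
        rw [hab, Subgroup.mem_bot, commutatorElement_eq_one_iff_mul_comm] at h1
        exact h1
      rw [hc, Subgroup.card_top] at hx
      rw [hab, Subgroup.index_bot]
      exact Nat.dvd_antisymm hx hsq
    · -- nonabelian
      have hcard2 : Nat.card P ≠ p ^ 2 := by
        intro h
        apply hab
        rw [eq_bot_iff]
        rw [commutator_def, Subgroup.commutator_le]
        intro a _ b _
        rw [Subgroup.mem_bot, commutatorElement_eq_one_iff_mul_comm]
        exact (IsPGroup.isMulCommutative_of_card_eq_prime_sq h).is_comm.comm a b
      haveI : Nontrivial P := by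
        rw [← Finite.one_lt_card_iff_nontrivial]
        have h1 : 0 < Nat.card P := Nat.card_pos
        have h2 := Nat.le_of_dvd h1 hsq
        have h3 : 1 < p ^ 2 := Nat.one_lt_pow (by norm_num) hp.out.one_lt
        omega
      set Z := Subgroup.center P with hZ
      set C := Subgroup.centralizer ({x} : Set P) with hC
      have hZC : Z ≤ C := Subgroup.center_le_centralizer _
      have hxC : x ∈ C := by
        rw [hC, Subgroup.mem_centralizer_iff]
        intro z hz
        rw [Set.mem_singleton_iff] at hz
        rw [hz]
      have hxZ : x ∉ Z := by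
        intro hxz
        have hc : C = ⊤ := by
          rw [eq_top_iff]
          intro y _
          rw [hC, Subgroup.mem_centralizer_iff]
          intro z hz
          rw [Set.mem_singleton_iff] at hz
          subst hz
          exact (Subgroup.mem_center_iff.1 hxz y).symm
        rw [hc, Subgroup.card_top] at hx
        exact hcard2 (Nat.dvd_antisymm hx hsq)
      have hZlt : Nat.card Z < Nat.card C := by
        by_contra hge
        rw [not_lt] at hge
        have := Subgroup.eq_of_le_of_card_ge hZC hge
        exact hxZ (this ▸ hxC)
      obtain ⟨a, ha⟩ := (hP.to_subgroup Z).exists_card_eq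
      obtain ⟨b, hb⟩ := (hP.to_subgroup C).exists_card_eq
      have hZ1 : 1 < Nat.card Z := by
        have := IsPGroup.center_nontrivial hP
        exact Finite.one_lt_card
      have hb2 : b ≤ 2 := by
        rw [hb] at hx
        exact (Nat.pow_dvd_pow_iff_le_right hp.out.one_lt).1 hx
      have hab' : a < b := by
        rw [ha, hb] at hZlt
        exact (Nat.pow_lt_pow_iff_right hp.out.one_lt).1 hZlt
      have ha0 : a ≠ 0 := by
        rintro rfl
        rw [ha, pow_zero] at hZ1
        exact lt_irrefl _ hZ1
      have ha1 : a = 1 := by omega
      have hb2' : b = 2 := by omega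
      subst ha1
      subst hb2'
      rw [pow_one] at ha
      -- the order of `P`
      obtain ⟨k, hk⟩ := hP.exists_card_eq
      have hk3 : 3 ≤ k := by
        have h2 : 2 ≤ k := by
          rw [hk] at hsq
          exact (Nat.pow_dvd_pow_iff_le_right hp.out.one_lt).1 hsq
        rcases Nat.lt_or_ge 2 k with h | h
        · exact h
        · exfalso
          have : k = 2 := le_antisymm h h2
          rw [this] at hk
          exact hcard2 hk
      -- the quotient
      have hq : Nat.card P = Nat.card (P ⧸ Z) * p := by
        rw [← ha]
        exact Subgroup.card_eq_card_quotient_mul_card_subgroup Z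
      have hqk : Nat.card (P ⧸ Z) = p ^ (k - 1) := by
        have h1 : p ^ k = p ^ (k - 1) * p := by
          rw [← pow_succ]
          congr 1
          omega
        rw [hk, h1] at hq
        exact (Nat.eq_of_mul_eq_mul_right hp.out.pos hq).symm
      have hlt : Nat.card (P ⧸ Z) < n := by
        rw [← hn, hq]
        have h1 : 0 < Nat.card (P ⧸ Z) := Nat.card_pos
        have h2 := hp.out.two_le
        nlinarith
      have hsq' : p ^ 2 ∣ Nat.card (P ⧸ Z) := by
        rw [hqk]
        exact pow_dvd_pow p (by omega)
      have hPq : IsPGroup p (P ⧸ Z) := hP.to_quotient Z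
      -- the centralizer of the image of `x`
      set xb : P ⧸ Z := QuotientGroup.mk' Z x with hxb
      set Cb := Subgroup.centralizer ({xb} : Set (P ⧸ Z)) with hCb
      set M := Cb.comap (QuotientGroup.mk' Z) with hM
      have hMmem : ∀ y : P, y ∈ M ↔ ⁅y, x⁆ ∈ Z := by
        intro y
        rw [hM, Subgroup.mem_comap, hCb, Subgroup.mem_centralizer_iff]
        constructor
        · intro h
          have h1 := h xb (Set.mem_singleton _)
          have h2 : QuotientGroup.mk' Z ⁅y, x⁆ = 1 := by
            rw [map_commutatorElement, commutatorElement_eq_one_iff_mul_comm]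
            exact h1.symm
          exact (QuotientGroup.eq_one_iff _).1 h2
        · intro h z hz
          rw [Set.mem_singleton_iff] at hz
          subst hz
          have h2 : QuotientGroup.mk' Z ⁅y, x⁆ = 1 := (QuotientGroup.eq_one_iff _).2 h
          rw [map_commutatorElement, commutatorElement_eq_one_iff_mul_comm] at h2
          exact h2.symm
      -- the homomorphism `M → Z`
      let ψ : M →* Z :=
        { toFun := fun y => ⟨⁅(y : P), x⁆, (hMmem y).1 y.2⟩
          map_one' := by
            apply Subtype.ext
            simp
          map_mul' := by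
            intro y y'
            apply Subtype.ext
            have hc : ⁅(y' : P), x⁆ ∈ Z := (hMmem y').1 y'.2
            have hcomm : (y : P) * ⁅(y' : P), x⁆ = ⁅(y' : P), x⁆ * (y : P) :=
              (Subgroup.mem_center_iff.1 hc (y : P))
            show ⁅((y : P) * (y' : P)), x⁆ = ⁅(y : P), x⁆ * ⁅(y' : P), x⁆
            have e1 : ⁅((y : P) * (y' : P)), x⁆ =
                ((y : P) * ⁅(y' : P), x⁆) * (y : P)⁻¹ * ⁅(y : P), x⁆ := by
              simp only [commutatorElement_def]; group
            rw [e1, hcomm]
            have hcomm2 : ⁅(y' : P), x⁆ * ⁅(y : P), x⁆ = ⁅(y : P), x⁆ * ⁅(y' : P), x⁆ :=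
              (Subgroup.mem_center_iff.1 hc _).symm
            calc ⁅(y' : P), x⁆ * (y : P) * (y : P)⁻¹ * ⁅(y : P), x⁆
                = ⁅(y' : P), x⁆ * ⁅(y : P), x⁆ := by group
              _ = _ := hcomm2 }
      have hker : Nat.card ψ.ker ≤ p ^ 2 := by
        have hinj : Function.Injective (fun y : ψ.ker => (⟨((y : M) : P), by
            have h1 : ψ (y : M) = 1 := y.2
            have h2 : ⁅(((y : M) : P)), x⁆ = 1 := congrArg Subtype.val h1
            rw [commutatorElement_eq_one_iff_mul_comm] at h2
            rw [hC, Subgroup.mem_centralizer_iff]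
            intro z hz
            rw [Set.mem_singleton_iff] at hz
            rw [hz]
            exact h2.symm⟩ : C)) := by
          intro y y' h
          apply Subtype.ext
          apply Subtype.ext
          exact congrArg (fun c : C => (c : P)) h
        have := Nat.card_le_card_of_injective _ hinj
        rwa [hb] at this
      have hMcard : Nat.card M ≤ p ^ 3 := by
        have h1 : Nat.card M = Nat.card ψ.ker * Nat.card ψ.range := by
          rw [← Nat.card_congr (QuotientGroup.quotientKerEquivRange ψ).toEquiv]
          rw [mul_comm]
          exact Subgroup.card_eq_card_quotient_mul_card_subgroup ψ.ker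
        have h2 : Nat.card ψ.range ≤ p := by
          have := Subgroup.card_le_of_le (le_top : ψ.range ≤ ⊤)
          rwa [Subgroup.card_top, ha] at this
        rw [h1]
        calc Nat.card ψ.ker * Nat.card ψ.range ≤ p ^ 2 * p := Nat.mul_le_mul hker h2
          _ = p ^ 3 := by ring
      have hCbcard : Nat.card Cb ≤ p ^ 2 := by
        have h1 : M.index = Cb.index :=
          Subgroup.index_comap_of_surjective Cb (QuotientGroup.mk'_surjective Z)
        have h2 : M.index * Nat.card M = Nat.card P := Subgroup.index_mul_card M
        have h3 : Cb.index * Nat.card Cb = Nat.card (P ⧸ Z) := Subgroup.index_mul_card Cb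
        have h4 : Nat.card M = Nat.card Cb * p := by
          have h5 : Cb.index * Nat.card M = Cb.index * (Nat.card Cb * p) := by
            rw [← h1, h2, hq, ← h3, h1]; ring
          have hpos : 0 < Cb.index := by
            rcases Nat.eq_zero_or_pos Cb.index with h | h
            · rw [h, zero_mul] at h3
              have : 0 < Nat.card (P ⧸ Z) := Nat.card_pos
              omega
            · exact h
          exact Nat.eq_of_mul_eq_mul_left hpos h5
        have h6 : Nat.card Cb * p ≤ p ^ 2 * p := by
          rw [← h4]
          calc Nat.card M ≤ p ^ 3 := hMcard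
            _ = p ^ 2 * p := by ring
        exact Nat.le_of_mul_le_mul_right h6 hp.out.pos
      have hCbdvd : Nat.card Cb ∣ p ^ 2 := by
        obtain ⟨c, hc⟩ := (hPq.to_subgroup Cb).exists_card_eq
        rw [hc] at hCbcard ⊢
        exact pow_dvd_pow p ((Nat.pow_le_pow_iff_right hp.out.one_lt).1 hCbcard)
      have hih := ih (Nat.card (P ⧸ Z)) hlt (P ⧸ Z) rfl hPq hsq' xb hCbdvd
      -- back to `P`
      have hmap : commutator (P ⧸ Z) = (commutator P).map (QuotientGroup.mk' Z) := by
        rw [commutator_def, commutator_def, Subgroup.map_commutator,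
          Subgroup.map_top_of_surjective _ (QuotientGroup.mk'_surjective Z)]
      have hZle : Z ≤ commutator P := by
        haveI : (commutator P).Normal := inferInstance
        obtain ⟨c, hcM, hc1, hcZ⟩ := normal_inf_center hP (commutator P) hab
        have h1 : Subgroup.zpowers c ≤ Z := by
          rw [Subgroup.zpowers_le]; exact hcZ
        have h2 : Nat.card (Subgroup.zpowers c) = p := by
          rw [Nat.card_zpowers]
          have h3 : orderOf c ∣ p := by
            have := Subgroup.card_dvd_of_le h1
            rwa [Nat.card_zpowers, ha] at this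
          rcases (Nat.dvd_prime hp.out).1 h3 with h | h
          · exact absurd (orderOf_eq_one_iff.1 h) hc1
          · exact h
        have h4 : Subgroup.zpowers c = Z :=
          Subgroup.eq_of_le_of_card_ge h1 (by rw [h2, ha])
        rw [← h4, Subgroup.zpowers_le]
        exact hcM
      rw [hmap] at hih
      rw [Subgroup.index_map_eq _ (QuotientGroup.mk'_surjective Z)
        (by rw [QuotientGroup.ker_mk']; exact hZle)] at hih
      exact hih

/-- a finite `p`-group of order at least `p²` with an element whose centralizer has order
dividing `p²` has derived subgroup of index `p²`. -/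
theorem index_commutator_of_centralizer {p : ℕ} [hp : Fact p.Prime] {P : Type u} [Group P]
    [Finite P] (hP : IsPGroup p P) (hsq : p ^ 2 ∣ Nat.card P) (x : P)
    (hx : Nat.card (Subgroup.centralizer ({x} : Set P)) ∣ p ^ 2) :
    (commutator P).index = p ^ 2 :=
  index_commutator_aux (Nat.card P) P rfl hP hsq x hx

end Cfsg.Agent.Helper5.PSq
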