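import Mathlib

set_option autoImplicit false

/-!
helper5: S4587, part B.  A finite `p`-group with an abelian normal subgroup `A` of index `p`
and derived subgroup of index `p²`: every element outside `A` has centralizer of order `p²`.
Conjugates of a `p`-element with a large centralizer in a given Sylow subgroup.
-/

namespace Cfsg.Agent.Helper5.PSq

open scoped commutatorElement

universe u

section abelianIndexP

variable {P : Type u} [Group P]

/-- a subgroup of prime index and an element outside generate the group. -/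
theorem sup_zpowers_eq_top {p : ℕ} [hp : Fact p.Prime] (A : Subgroup P) (hidx : A.index = p)
    (y : P) (hyA : y ∉ A) : A ⊔ Subgroup.zpowers y = ⊤ := by
  have h1 : (A ⊔ Subgroup.zpowers y).index ∣ p := by
    rw [← hidx]
    exact Subgroup.index_dvd_of_le le_sup_left
  rcases (Nat.dvd_prime hp.out).1 h1 with h | h
  · exact Subgroup.index_eq_one.1 h
  · exfalso
    have h2 : A.relIndex (A ⊔ Subgroup.zpowers y) = 1 := by
      have h3 := Subgroup.relIndex_mul_index (le_sup_left : A ≤ A ⊔ Subgroup.zpowers y)
      rw [h, hidx] at h3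
      have hp0 : 0 < p := hp.out.pos
      exact Nat.eq_of_mul_eq_mul_right hp0 (by rw [h3, one_mul])
    rw [Subgroup.relIndex_eq_one] at h2
    exact hyA (h2 (le_sup_right (a := A) (Subgroup.mem_zpowers y)))

/-- a normal subgroup of prime index contains the derived subgroup. -/
theorem commutator_le_of_index_prime {p : ℕ} [hp : Fact p.Prime] (A : Subgroup P) [A.Normal]
    (hidx : A.index = p) : commutator P ≤ A := by
  have hcard : Nat.card (P ⧸ A) = p := hidx
  haveI : IsCyclic (P ⧸ A) := isCyclic_of_prime_card hcard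
  letI : CommGroup (P ⧸ A) := IsCyclic.commGroup
  have h := Abelianization.commutator_subset_ker (QuotientGroup.mk' A)
  rwa [QuotientGroup.ker_mk'] at h

variable [Finite P]

/-- the main statement of this section. -/
theorem card_centralizer_of_abelian_index_p {p : ℕ} [hp : Fact p.Prime]
    (A : Subgroup P) [hAn : A.Normal] (hAab : ∀ a ∈ A, ∀ b ∈ A, a * b = b * a)
    (hidx : A.index = p) (hder : (commutator P).index = p ^ 2) (y : P) (hyA : y ∉ A) :
    Nat.card (Subgroup.centralizer ({y} : Set P)) = p ^ 2 := by
  have hsup := sup_zpowers_eq_top A hidx y hyA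
  have hDA : commutator P ≤ A := commutator_le_of_index_prime A hidx
  -- the homomorphism `a ↦ [a, y]`
  have hmemA : ∀ a ∈ A, ⁅a, y⁆ ∈ A := by
    intro a ha
    rw [commutatorElement_def]
    have h1 : y * a⁻¹ * y⁻¹ ∈ A := hAn.conj_mem _ (A.inv_mem ha) y
    have h2 : a * y * a⁻¹ * y⁻¹ = a * (y * a⁻¹ * y⁻¹) := by group
    rw [h2]
    exact A.mul_mem ha h1
  let κ : A →* A :=
    { toFun := fun a => ⟨⁅(a : P), y⁆, hmemA a a.2⟩
      map_one' := by
        apply Subtype.ext
        simp
      map_mul' := by
        intro a b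
        apply Subtype.ext
        show ⁅(a : P) * (b : P), y⁆ = ⁅(a : P), y⁆ * ⁅(b : P), y⁆
        have e1 : ⁅(a : P) * (b : P), y⁆ = (a : P) * ⁅(b : P), y⁆ * (a : P)⁻¹ * ⁅(a : P), y⁆ := by
          simp only [commutatorElement_def]; group
        have e2 : (a : P) * ⁅(b : P), y⁆ = ⁅(b : P), y⁆ * (a : P) :=
          hAab _ a.2 _ (hmemA b b.2)
        rw [e1, e2]
        have e3 : ⁅(b : P), y⁆ * ⁅(a : P), y⁆ = ⁅(a : P), y⁆ * ⁅(b : P), y⁆ :=
          hAab _ (hmemA b b.2) _ (hmemA a a.2)
        calc ⁅(b : P), y⁆ * (a : P) * (a : P)⁻¹ * ⁅(a : P), y⁆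
            = ⁅(b : P), y⁆ * ⁅(a : P), y⁆ := by group
          _ = _ := e3 }
  have hκ : ∀ a : A, ((κ a : A) : P) = ⁅(a : P), y⁆ := fun a => rfl
  set K : Subgroup P := κ.range.map A.subtype with hK
  have hKmem : ∀ k : P, k ∈ K ↔ ∃ a ∈ A, ⁅a, y⁆ = k := by
    intro k
    rw [hK, Subgroup.mem_map]
    constructor
    · rintro ⟨u, ⟨a, rfl⟩, rfl⟩
      exact ⟨(a : P), a.2, rfl⟩
    · rintro ⟨a, ha, rfl⟩
      exact ⟨κ ⟨a, ha⟩, ⟨⟨a, ha⟩, rfl⟩, rfl⟩
  have hKA : K ≤ A := by
    intro k hk
    obtain ⟨a, ha, rfl⟩ := (hKmem k).1 hk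
    exact hmemA a ha
  have hKD : K ≤ commutator P := by
    intro k hk
    obtain ⟨a, ha, rfl⟩ := (hKmem k).1 hk
    rw [commutator_def]
    exact Subgroup.commutator_mem_commutator (Subgroup.mem_top a) (Subgroup.mem_top y)
  -- `K` is normal
  have hKn : K.Normal := by
    have hnorm : Subgroup.normalizer (K : Set P) = ⊤ := by
      rw [eq_top_iff, ← hsup, sup_le_iff]
      constructor
      · intro g hg
        rw [Subgroup.mem_normalizer_iff]
        intro k
        constructor
        · intro hk
          have : g * k * g⁻¹ = k := by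
            rw [hAab g hg k (hKA hk)]; group
          rw [this]; exact hk
        · intro hk
          have hk' : g * k * g⁻¹ ∈ A := hKA hk
          have hkA : k ∈ A := by
            have := A.mul_mem (A.mul_mem (A.inv_mem hg) hk') hg
            have e : g⁻¹ * (g * k * g⁻¹) * g = k := by group
            rwa [e] at this
          have : g * k * g⁻¹ = k := by
            rw [hAab g hg k hkA]; group
          rwa [this] at hk
      · rw [Subgroup.zpowers_le, Subgroup.mem_normalizer_iff]
        intro k
        constructor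
        · intro hk
          obtain ⟨a, ha, rfl⟩ := (hKmem k).1 hk
          rw [hKmem]
          refine ⟨y * a * y⁻¹, hAn.conj_mem a ha y, ?_⟩
          simp only [commutatorElement_def]; group
        · intro hk
          obtain ⟨a, ha, he⟩ := (hKmem _).1 hk
          rw [hKmem]
          refine ⟨y⁻¹ * a * y, ?_, ?_⟩
          · have := hAn.conj_mem a ha y⁻¹
            rwa [inv_inv] at this
          · have e : k = y⁻¹ * (y * k * y⁻¹) * y := by group
            rw [e, ← he]
            simp only [commutatorElement_def]; group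
    exact Subgroup.normalizer_eq_top_iff.1 hnorm
  -- the quotient by `K` is commutative
  have hDK : commutator P ≤ K := by
    let π := QuotientGroup.mk' K
    have hπs : Function.Surjective π := QuotientGroup.mk'_surjective K
    have hAy : ∀ a ∈ A, π a * π y = π y * π a := by
      intro a ha
      rw [← commutatorElement_eq_one_iff_mul_comm, ← map_commutatorElement]
      exact (QuotientGroup.eq_one_iff _).2 ((hKmem _).2 ⟨a, ha, rfl⟩)
    have htop : (A ⊔ Subgroup.zpowers y).map π = ⊤ := by
      rw [hsup]
      exact Subgroup.map_top_of_surjective π hπs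
    have hgen : ∀ S : Subgroup (P ⧸ K), A.map π ≤ S → π y ∈ S → S = ⊤ := by
      intro S h1 h2
      rw [eq_top_iff, ← htop, Subgroup.map_sup, sup_le_iff]
      refine ⟨h1, ?_⟩
      rw [MonoidHom.map_zpowers, Subgroup.zpowers_le]
      exact h2
    have hyc : π y ∈ Subgroup.center (P ⧸ K) := by
      have h1 : Subgroup.centralizer ({π y} : Set (P ⧸ K)) = ⊤ := by
        apply hgen
        · rintro _ ⟨a, ha, rfl⟩
          rw [Subgroup.mem_centralizer_iff]
          intro z hz
          rw [Set.mem_singleton_iff] at hz
          rw [hz]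
          exact (hAy a ha).symm
        · rw [Subgroup.mem_centralizer_iff]
          intro z hz
          rw [Set.mem_singleton_iff] at hz
          rw [hz]
      rw [Subgroup.mem_center_iff]
      intro g
      have hg : g ∈ Subgroup.centralizer ({π y} : Set (P ⧸ K)) := by rw [h1]; trivial
      rw [Subgroup.mem_centralizer_iff] at hg
      exact (hg (π y) (Set.mem_singleton _)).symm
    have hAc : A.map π ≤ Subgroup.center (P ⧸ K) := by
      rintro _ ⟨a, ha, rfl⟩
      have h1 : Subgroup.centralizer ({π a} : Set (P ⧸ K)) = ⊤ := by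
        apply hgen
        · rintro _ ⟨b, hb, rfl⟩
          rw [Subgroup.mem_centralizer_iff]
          intro z hz
          rw [Set.mem_singleton_iff] at hz
          rw [hz, ← map_mul, ← map_mul, hAab a ha b hb]
        · rw [Subgroup.mem_centralizer_iff]
          intro z hz
          rw [Set.mem_singleton_iff] at hz
          rw [hz]
          exact hAy a ha
      rw [Subgroup.mem_center_iff]
      intro g
      have hg : g ∈ Subgroup.centralizer ({π a} : Set (P ⧸ K)) := by rw [h1]; trivial
      rw [Subgroup.mem_centralizer_iff] at hg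
      exact (hg (π a) (Set.mem_singleton _)).symm
    have hcen : Subgroup.center (P ⧸ K) = ⊤ := hgen _ hAc hyc
    rw [commutator_def, Subgroup.commutator_le]
    intro g _ h _
    have h1 : π ⁅g, h⁆ = 1 := by
      rw [map_commutatorElement, commutatorElement_eq_one_iff_mul_comm]
      have hh : π h ∈ Subgroup.center (P ⧸ K) := by rw [hcen]; trivial
      exact (Subgroup.mem_center_iff.1 hh (π g))
    exact (QuotientGroup.eq_one_iff _).1 h1
  have hKeq : K = commutator P := le_antisymm hKD hDK
  -- cardinalities
  have hcardP : Nat.card A * p = Nat.card P := by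
    rw [← hidx]; exact Subgroup.card_mul_index A
  have hcardD : Nat.card (commutator P) * p ^ 2 = Nat.card P := by
    rw [← hder]; exact Subgroup.card_mul_index _
  have hcardK : Nat.card K = Nat.card κ.range := by
    rw [hK]
    exact Nat.card_congr (Subgroup.equivMapOfInjective κ.range A.subtype A.subtype_injective).toEquiv.symm
  have hker : Nat.card κ.ker * Nat.card κ.range = Nat.card A := by
    rw [← Nat.card_congr (QuotientGroup.quotientKerEquivRange κ).toEquiv, mul_comm]
    exact (Subgroup.card_eq_card_quotient_mul_card_subgroup κ.ker).symm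
  have hkerp : Nat.card κ.ker = p := by
    have hr : Nat.card κ.range = Nat.card (commutator P) := by rw [← hcardK, hKeq]
    have hpos : 0 < Nat.card κ.range := Nat.card_pos
    have hp0 : 0 < p := hp.out.pos
    have h1 : Nat.card A * p = Nat.card κ.range * p * p := by
      rw [hcardP, ← hcardD, hr]; ring
    have h2 : Nat.card A = Nat.card κ.range * p := Nat.eq_of_mul_eq_mul_right hp0 h1
    rw [h2, mul_comm] at hker
    exact Nat.eq_of_mul_eq_mul_left hpos hker
  -- the centralizer of `y`
  set Cy := Subgroup.centralizer ({y} : Set P) with hCy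
  have hyCy : y ∈ Cy := by
    rw [hCy, Subgroup.mem_centralizer_iff]
    intro z hz
    rw [Set.mem_singleton_iff] at hz
    rw [hz]
  have hinf : A ⊓ Cy = κ.ker.map A.subtype := by
    ext a
    rw [Subgroup.mem_inf, Subgroup.mem_map]
    constructor
    · rintro ⟨ha, hc⟩
      refine ⟨⟨a, ha⟩, ?_, rfl⟩
      rw [MonoidHom.mem_ker]
      apply Subtype.ext
      show ⁅a, y⁆ = 1
      rw [commutatorElement_eq_one_iff_mul_comm]
      rw [hCy, Subgroup.mem_centralizer_iff] at hc
      exact (hc y (Set.mem_singleton _)).symm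
    · rintro ⟨u, hu, rfl⟩
      refine ⟨u.2, ?_⟩
      rw [MonoidHom.mem_ker] at hu
      have h1 : ⁅(u : P), y⁆ = 1 := congrArg Subtype.val hu
      rw [commutatorElement_eq_one_iff_mul_comm] at h1
      rw [hCy, Subgroup.mem_centralizer_iff]
      intro z hz
      rw [Set.mem_singleton_iff] at hz
      rw [hz]
      exact h1.symm
  have hinfcard : Nat.card (A ⊓ Cy : Subgroup P) = p := by
    rw [hinf, ← hkerp]
    exact Nat.card_congr (Subgroup.equivMapOfInjective κ.ker A.subtype A.subtype_injective).toEquiv.symm
  have hrel : A.relIndex Cy = p := by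
    have h1 : A.relIndex Cy ∣ p := by
      rw [← hidx]; exact Subgroup.relIndex_dvd_index_of_normal A Cy
    rcases (Nat.dvd_prime hp.out).1 h1 with h | h
    · exfalso
      rw [Subgroup.relIndex_eq_one] at h
      exact hyA (h hyCy)
    · exact h
  have h3 : (A ⊓ Cy).relIndex Cy * Nat.card (A ⊓ Cy : Subgroup P) = Nat.card Cy := by
    have h4 := Subgroup.index_mul_card ((A ⊓ Cy).subgroupOf Cy)
    have h5 : Nat.card ((A ⊓ Cy).subgroupOf Cy) = Nat.card (A ⊓ Cy : Subgroup P) :=
      Nat.card_congr (Subgroup.subgroupOfEquivOfLe (inf_le_right : A ⊓ Cy ≤ Cy)).toEquiv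
    rw [h5] at h4
    exact h4
  rw [Subgroup.inf_relIndex_right, hrel, hinfcard] at h3
  rw [← h3]; ring

end abelianIndexP

end Cfsg.Agent.Helper5.PSq
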