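import Mathlib

set_option autoImplicit false

/-!
helper5: S4587, part C.  Extremal conjugates of a `p`-element in a Sylow `p`-subgroup, and the
wrappers between subgroup-level and type-level statements.
-/

namespace Cfsg.Agent.Helper5.PSq

open scoped commutatorElement Pointwise

variable {G : Type*} [Group G]

/-- membership in the centralizer of a singleton. -/
theorem mem_centralizer_singleton {x c : G} :
    c ∈ Subgroup.centralizer ({x} : Set G) ↔ x * c = c * x := by
  rw [Subgroup.mem_centralizer_iff]
  constructor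
  · intro h
    exact h x (Set.mem_singleton x)
  · intro h z hz
    rw [Set.mem_singleton_iff] at hz
    rw [hz]
    exact h

/-- conjugation transports the centralizer of an element. -/
theorem map_conj_centralizer (g y : G) :
    (Subgroup.centralizer ({y} : Set G)).map (MulAut.conj g).toMonoidHom =
      Subgroup.centralizer ({g * y * g⁻¹} : Set G) := by
  ext c
  rw [Subgroup.mem_map, mem_centralizer_singleton]
  constructor
  · rintro ⟨d, hd, rfl⟩
    rw [mem_centralizer_singleton] at hd
    simp only [MulEquiv.coe_toMonoidHom, MulAut.conj_apply]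
    calc g * y * g⁻¹ * (g * d * g⁻¹) = g * (y * d) * g⁻¹ := by group
      _ = g * (d * y) * g⁻¹ := by rw [hd]
      _ = g * d * g⁻¹ * (g * y * g⁻¹) := by group
  · intro hc
    refine ⟨g⁻¹ * c * g, ?_, ?_⟩
    · rw [mem_centralizer_singleton]
      calc y * (g⁻¹ * c * g) = g⁻¹ * (g * y * g⁻¹ * c) * g := by group
        _ = g⁻¹ * (c * (g * y * g⁻¹)) * g := by rw [hc]
        _ = g⁻¹ * c * g * y := by group
    · simp only [MulEquiv.coe_toMonoidHom, MulAut.conj_apply]
      group

theorem card_centralizer_conj [Finite G] (g y : G) :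
    Nat.card (Subgroup.centralizer ({g * y * g⁻¹} : Set G)) =
      Nat.card (Subgroup.centralizer ({y} : Set G)) := by
  rw [← map_conj_centralizer]
  exact Subgroup.card_map_of_injective (MulAut.conj g).injective

/-- **Extremal conjugates**: every `p`-element `y` has a conjugate `x` in the Sylow `p`-subgroup
`P` such that `P ⊓ C_G(x)` is a Sylow `p`-subgroup of `C_G(x)`. -/
theorem exists_conj_extremal [Finite G] {p : ℕ} [hp : Fact p.Prime]
    (P : Sylow p G) (y : G) (hy : ∃ k : ℕ, orderOf y = p ^ k) :
    ∃ g : G, g * y * g⁻¹ ∈ (P : Subgroup G) ∧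
      Nat.card ((P : Subgroup G) ⊓ Subgroup.centralizer ({g * y * g⁻¹} : Set G) : Subgroup G) =
        p ^ (Nat.card (Subgroup.centralizer ({g * y * g⁻¹} : Set G))).factorization p := by
  classical
  set C : Subgroup G := Subgroup.centralizer ({y} : Set G) with hC
  have hyC : y ∈ C := by
    rw [hC, mem_centralizer_singleton]
  -- `zpowers y` is a `p`-group
  have hzp : IsPGroup p (Subgroup.zpowers y) := by
    obtain ⟨k, hk⟩ := hy
    apply IsPGroup.of_card (n := k)
    rw [Nat.card_zpowers, hk]
  have hzC : Subgroup.zpowers y ≤ C := by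
    rw [Subgroup.zpowers_le]
    exact hyC
  have hzp' : IsPGroup p ((Subgroup.zpowers y).subgroupOf C) :=
    hzp.comap_of_injective C.subtype C.subtype_injective
  obtain ⟨Q0, hQ0⟩ := hzp'.exists_le_sylow
  -- push `Q0` to `G`
  set Qm : Subgroup G := (Q0 : Subgroup C).map C.subtype with hQm
  have hQmp : IsPGroup p Qm := Q0.isPGroup'.map C.subtype
  have hQmcard : Nat.card Qm = p ^ (Nat.card C).factorization p := by
    rw [hQm, Subgroup.card_map_of_injective C.subtype_injective]
    exact Q0.card_eq_multiplicity
  have hQmC : Qm ≤ C := by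
    rw [hQm]
    exact Subgroup.map_subtype_le _
  have hyQm : y ∈ Qm := by
    rw [hQm, Subgroup.mem_map]
    refine ⟨⟨y, hyC⟩, hQ0 ?_, rfl⟩
    rw [Subgroup.mem_subgroupOf]
    exact Subgroup.mem_zpowers y
  obtain ⟨P', hP'⟩ := hQmp.exists_le_sylow
  obtain ⟨g, hg⟩ := MulAction.exists_smul_eq G P' P
  have hconj : ∀ q ∈ (P' : Subgroup G), g * q * g⁻¹ ∈ (P : Subgroup G) := by
    intro q hq
    rw [← hg, Sylow.coe_subgroup_smul]
    rw [Subgroup.mem_pointwise_smul_iff_inv_smul_mem]
    simp only [MulAut.smul_def, MulAut.inv_apply, MulAut.conj_symm_apply]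
    convert hq using 1
    group
  refine ⟨g, hconj y (hP' hyQm), ?_⟩
  set x : G := g * y * g⁻¹ with hx
  set φ : G →* G := (MulAut.conj g).toMonoidHom with hφ
  have hφinj : Function.Injective φ := (MulAut.conj g).injective
  have hle : Qm.map φ ≤ (P : Subgroup G) ⊓ Subgroup.centralizer ({x} : Set G) := by
    rintro _ ⟨q, hq, rfl⟩
    refine ⟨?_, ?_⟩
    · have := hconj q (hP' hq)
      rw [hφ]
      simp only [MulEquiv.coe_toMonoidHom, MulAut.conj_apply]
      exact this
    · rw [hx, ← map_conj_centralizer]
      exact Subgroup.mem_map_of_mem _ (hQmC hq)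
  have hcardC : Nat.card (Subgroup.centralizer ({x} : Set G)) = Nat.card C :=
    card_centralizer_conj g y
  rw [hcardC]
  -- the intersection is a `p`-group
  have hIp : IsPGroup p ((P : Subgroup G) ⊓ Subgroup.centralizer ({x} : Set G) : Subgroup G) :=
    P.isPGroup'.to_le inf_le_left
  obtain ⟨j, hj⟩ := IsPGroup.iff_card.1 hIp
  have hdvd : p ^ j ∣ Nat.card C := by
    rw [← hj, ← hcardC]
    exact Subgroup.card_dvd_of_le inf_le_right
  have hCpos : Nat.card C ≠ 0 := Nat.card_pos.ne'
  have hj1 : j ≤ (Nat.card C).factorization p :=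
    (hp.out.pow_dvd_iff_le_factorization hCpos).1 hdvd
  have hj2 : p ^ (Nat.card C).factorization p ≤ p ^ j := by
    rw [← hQmcard, ← hj, ← Subgroup.card_map_of_injective (K := Qm) hφinj]
    exact Subgroup.card_le_of_le hle
  have hj3 : (Nat.card C).factorization p ≤ j :=
    (Nat.pow_le_pow_iff_right hp.out.one_lt).1 hj2
  rw [hj, le_antisymm hj1 hj3]

/-- W1: the intersection of `H` with a centralizer in `G` versus the centralizer in `↥H`. -/
theorem card_inf_centralizer (H : Subgroup G) (x : G) (hx : x ∈ H) :
    Nat.card (H ⊓ Subgroup.centralizer ({x} : Set G) : Subgroup G) =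
      Nat.card (Subgroup.centralizer ({(⟨x, hx⟩ : H)} : Set H)) := by
  have h1 : Subgroup.centralizer ({(⟨x, hx⟩ : H)} : Set H) =
      (Subgroup.centralizer ({x} : Set G)).subgroupOf H := by
    ext c
    rw [Subgroup.mem_subgroupOf, mem_centralizer_singleton, mem_centralizer_singleton]
    constructor
    · intro h
      have := congrArg Subtype.val h
      simpa using this
    · intro h
      apply Subtype.ext
      simpa using h
  rw [h1, ← Subgroup.inf_subgroupOf_right, inf_comm (a := H)]
  exact (Nat.card_congr (Subgroup.subgroupOfEquivOfLe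
    (inf_le_right : Subgroup.centralizer ({x} : Set G) ⊓ H ≤ H)).toEquiv).symm

/-- W2: the relative index of `⁅H, H⁆` in `H` is the index of the derived subgroup of `↥H`. -/
theorem relIndex_commutator (H : Subgroup G) :
    (⁅H, H⁆).relIndex H = (commutator H).index := by
  rw [← Subgroup.map_subtype_commutator, Subgroup.relIndex, Subgroup.subgroupOf,
    Subgroup.comap_map_eq_self_of_injective H.subtype_injective]

end Cfsg.Agent.Helper5.PSq
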