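import Mathlib
import Cfsg.Agent.Helper1.PGroup
import Cfsg.Agent.Helper5.PSqB

set_option autoImplicit false

/-!
helper5: S4587, part D.  Lemmas on finite `p`-groups whose derived subgroup has index `p²`:
a normal subgroup not inside the derived subgroup contains it; a group which is a direct product
of two nontrivial normal subgroups extended by a cyclic group is abelian.
-/

namespace Cfsg.Agent.Helper5.PSq

open scoped commutatorElement

universe u

variable {P : Type u} [Group P]

/-- if `M ⊔ ⟨y⟩ = ⊤`, the elements of `M` commute modulo `K` and commute with `y` modulo `K`, then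
`P / K` is abelian. -/
theorem commutator_le_of_sup_zpowers (K M : Subgroup P) [K.Normal] (y : P)
    (hsup : M ⊔ Subgroup.zpowers y = ⊤)
    (h1 : ∀ m ∈ M, ∀ m' ∈ M, ⁅m, m'⁆ ∈ K) (h2 : ∀ m ∈ M, ⁅m, y⁆ ∈ K) :
    commutator P ≤ K := by
  set π := QuotientGroup.mk' K with hπ
  have hπs : Function.Surjective π := QuotientGroup.mk'_surjective K
  -- commuting modulo `K`
  have hc : ∀ a b : P, ⁅a, b⁆ ∈ K → π a * π b = π b * π a := by
    intro a b hab
    have h : a * b = ⁅a, b⁆ * (b * a) := by
      rw [commutatorElement_def]; group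
    rw [← map_mul, ← map_mul, h, map_mul]
    have : π ⁅a, b⁆ = 1 := by
      rw [hπ, QuotientGroup.mk'_apply, QuotientGroup.eq_one_iff]
      exact hab
    rw [this, one_mul]
  have hc' : ∀ a b : P, ⁅a, b⁆ ∈ K → ⁅b, a⁆ ∈ K := by
    intro a b hab
    rw [← commutatorElement_inv]
    exact K.inv_mem hab
  set S : Set (P ⧸ K) := π '' (M : Set P) ∪ {π y} with hS
  have hSc : ∀ a ∈ S, ∀ b ∈ S, a * b = b * a := by
    intro a ha b hb
    rcases ha with ⟨m, hm, rfl⟩ | ha
    · rcases hb with ⟨m', hm', rfl⟩ | hb
      · exact hc m m' (h1 m hm m' hm')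
      · rw [Set.mem_singleton_iff] at hb
        rw [hb]
        exact hc m y (h2 m hm)
    · rw [Set.mem_singleton_iff] at ha
      rw [ha]
      rcases hb with ⟨m', hm', rfl⟩ | hb
      · exact hc y m' (hc' m' y (h2 m' hm'))
      · rw [Set.mem_singleton_iff] at hb
        rw [hb]
  have hcl : Subgroup.closure S = ⊤ := by
    rw [eq_top_iff]
    have h3 : (M ⊔ Subgroup.zpowers y).map π ≤ Subgroup.closure S := by
      rw [Subgroup.map_sup]
      apply sup_le
      · rintro _ ⟨m, hm, rfl⟩
        exact Subgroup.subset_closure (Or.inl ⟨m, hm, rfl⟩)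
      · rw [MonoidHom.map_zpowers, Subgroup.zpowers_le]
        exact Subgroup.subset_closure (Or.inr rfl)
    rw [hsup, ← MonoidHom.range_eq_map, MonoidHom.range_eq_top.2 hπs] at h3
    exact h3
  have hcen : Subgroup.closure S ≤ Subgroup.centralizer S := by
    rw [Subgroup.closure_le]
    intro a ha
    rw [SetLike.mem_coe, Subgroup.mem_centralizer_iff]
    intro b hb
    exact hSc b hb a ha
  have hcen2 : Subgroup.closure S ≤ Subgroup.center (P ⧸ K) := by
    rw [Subgroup.closure_le]
    intro a ha
    rw [SetLike.mem_coe, Subgroup.mem_center_iff]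
    intro b
    have hb : b ∈ Subgroup.centralizer S := hcen (by rw [hcl]; exact Subgroup.mem_top b)
    rw [Subgroup.mem_centralizer_iff] at hb
    exact (hb a ha).symm
  have hcomm : ∀ a b : P ⧸ K, a * b = b * a := by
    intro a b
    have ha : a ∈ Subgroup.center (P ⧸ K) := hcen2 (by rw [hcl]; exact Subgroup.mem_top a)
    rw [Subgroup.mem_center_iff] at ha
    exact (ha b).symm
  rw [commutator_eq_closure, Subgroup.closure_le]
  rintro _ ⟨a, b, rfl⟩
  rw [SetLike.mem_coe, ← QuotientGroup.eq_one_iff, ← QuotientGroup.mk'_apply, ← hπ,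
    map_commutatorElement, commutatorElement_eq_one_iff_mul_comm]
  exact hcomm _ _

variable [Finite P]

/-- a subgroup strictly above a subgroup of index `p²` has index dividing `p`. -/
theorem index_dvd_of_lt {p : ℕ} [hp : Fact p.Prime] (D M : Subgroup P) (hD : D.index = p ^ 2)
    (hDM : D ≤ M) (hne : ¬ M ≤ D) : M.index ∣ p := by
  have h1 : M.index ∣ p ^ 2 := by
    rw [← hD]
    exact Subgroup.index_dvd_of_le hDM
  obtain ⟨i, hi, hMi⟩ := (Nat.dvd_prime_pow hp.out).1 h1
  have hi2 : i ≠ 2 := by
    rintro rfl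
    apply hne
    have h2 := Subgroup.relIndex_mul_index hDM
    rw [hD, hMi] at h2
    have h3 : D.relIndex M = 1 := by
      have hpos : 0 < p ^ 2 := pow_pos hp.out.pos 2
      exact Nat.eq_of_mul_eq_mul_right hpos (by rw [h2, one_mul])
    exact Subgroup.relIndex_eq_one.1 h3
  have hi1 : i ≤ 1 := by omega
  rw [hMi]
  calc p ^ i ∣ p ^ 1 := pow_dvd_pow p hi1
    _ = p := pow_one p

/-- **PG0**: in a finite `p`-group, a normal subgroup `K` with `|P : P' K|` dividing `p`
contains `P'`. -/
theorem commutator_le_of_index_sup_dvd {p : ℕ} [hp : Fact p.Prime] (hP : IsPGroup p P)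
    (K : Subgroup P) [K.Normal] (h : (commutator P ⊔ K).index ∣ p) : commutator P ≤ K := by
  have hfr : commutator P ≤ frattini P := Cfsg.Agent.Helper1.IsPGroup.commutator_le_frattini hP
  rcases (Nat.dvd_prime hp.out).1 h with h1 | h1
  · -- `P' K = P`
    have h2 : commutator P ⊔ K = ⊤ := Subgroup.index_eq_one.1 h1
    have h3 : K ⊔ frattini P = ⊤ := by
      rw [eq_top_iff, ← h2, sup_comm]
      exact sup_le_sup_left hfr K
    have h4 : K = ⊤ := frattini_nongenerating h3
    rw [h4]
    exact le_top
  · -- index `p`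
    have hne : commutator P ⊔ K ≠ ⊤ := by
      intro h2
      rw [h2, Subgroup.index_top] at h1
      exact hp.out.one_lt.ne h1
    obtain ⟨y, hy⟩ : ∃ y : P, y ∉ commutator P ⊔ K := by
      by_contra hcon
      rw [not_exists] at hcon
      apply hne
      rw [eq_top_iff]
      intro x _
      by_contra hx
      exact hcon x hx
    have h2 := sup_zpowers_eq_top (commutator P ⊔ K) h1 y hy
    have h3 : (K ⊔ Subgroup.zpowers y) ⊔ frattini P = ⊤ := by
      rw [eq_top_iff, ← h2]
      apply sup_le
      · apply sup_le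
        · exact hfr.trans le_sup_right
        · exact le_sup_left.trans le_sup_left
      · exact le_sup_right.trans le_sup_left
    have h4 : K ⊔ Subgroup.zpowers y = ⊤ := frattini_nongenerating h3
    have hKn : ∀ m ∈ K, ∀ g : P, ⁅m, g⁆ ∈ K := by
      intro m hm g
      rw [commutatorElement_def]
      have h5 : g * m⁻¹ * g⁻¹ ∈ K := ‹K.Normal›.conj_mem _ (K.inv_mem hm) g
      have h6 := K.mul_mem hm h5
      convert h6 using 1
      group
    exact commutator_le_of_sup_zpowers K K y h4 (fun m hm m' _ => hKn m hm m')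
      (fun m hm => hKn m hm y)

/-- **C1'**: if the derived subgroup of a finite `p`-group has index `p²`, a normal subgroup
not contained in it contains it. -/
theorem commutator_le_of_not_le {p : ℕ} [hp : Fact p.Prime] (hP : IsPGroup p P)
    (hidx : (commutator P).index = p ^ 2) (K : Subgroup P) [K.Normal]
    (hK : ¬ K ≤ commutator P) : commutator P ≤ K := by
  apply commutator_le_of_index_sup_dvd hP K
  apply index_dvd_of_lt (commutator P) _ hidx le_sup_left
  intro h
  exact hK (le_sup_right.trans h)

/-- **PG1**: a finite `p`-group whose derived subgroup has index `p²`, which has two nontrivial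
normal subgroups `A`, `B` with `A ⊓ B = ⊥` and `P / AB` cyclic, is abelian. -/
theorem commutator_eq_bot_of_decomposition {p : ℕ} [hp : Fact p.Prime] (hP : IsPGroup p P)
    (hidx : (commutator P).index = p ^ 2) (A B : Subgroup P) [hAn : A.Normal] [hBn : B.Normal]
    (hA : A ≠ ⊥) (hB : B ≠ ⊥) (hAB : A ⊓ B = ⊥) (y : P)
    (hy : (A ⊔ B) ⊔ Subgroup.zpowers y = ⊤) : commutator P = ⊥ := by
  have hfr : commutator P ≤ frattini P := Cfsg.Agent.Helper1.IsPGroup.commutator_le_frattini hP
  have hKn : ∀ (K : Subgroup P), K.Normal → ∀ m ∈ K, ∀ g : P, ⁅m, g⁆ ∈ K := by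
    intro K hK m hm g
    rw [commutatorElement_def]
    have h5 : g * m⁻¹ * g⁻¹ ∈ K := hK.conj_mem _ (K.inv_mem hm) g
    have h6 := K.mul_mem hm h5
    convert h6 using 1
    group
  -- key: if `A ≤ P'` then `A = ⊥`, for `A`, `B` in either order
  have key : ∀ (A B : Subgroup P), A.Normal → B.Normal → A ⊓ B = ⊥ →
      (A ⊔ B) ⊔ Subgroup.zpowers y = ⊤ → A ≤ commutator P → A = ⊥ := by
    intro A B hAn hBn hAB hy hle
    have := hBn
    have h3 : (B ⊔ Subgroup.zpowers y) ⊔ frattini P = ⊤ := by
      rw [eq_top_iff, ← hy]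
      apply sup_le
      · apply sup_le
        · exact (hle.trans hfr).trans le_sup_right
        · exact le_sup_left.trans le_sup_left
      · exact le_sup_right.trans le_sup_left
    have h4 : B ⊔ Subgroup.zpowers y = ⊤ := frattini_nongenerating h3
    have h5 : commutator P ≤ B :=
      commutator_le_of_sup_zpowers B B y h4 (fun m hm m' _ => hKn B hBn m hm m')
        (fun m hm => hKn B hBn m hm y)
    rw [eq_bot_iff, ← hAB]
    exact le_inf le_rfl (hle.trans h5)
  have hA' : ¬ A ≤ commutator P := fun h => hA (key A B hAn hBn hAB hy h)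
  have hB' : ¬ B ≤ commutator P := by
    intro h
    apply hB
    apply key B A hBn hAn (by rw [inf_comm]; exact hAB) (by rw [sup_comm B A]; exact hy) h
  have h1 := commutator_le_of_not_le hP hidx A hA'
  have h2 := commutator_le_of_not_le hP hidx B hB'
  rw [eq_bot_iff, ← hAB]
  exact le_inf h1 h2

end Cfsg.Agent.Helper5.PSq
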