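import Mathlib

set_option autoImplicit false

/-!
helper5: S4587, part E.  A transfer computation: if `R = Q × Z` is normal in `P` and every element
outside `R` conjugates `Q` into `Z`, then `Q ∩ P' = Q'`.
-/

namespace Cfsg.Agent.Helper5.PSq

open scoped commutatorElement

universe u

variable {P : Type u} [Group P]

/-- the transfer into a normal subgroup `R`, evaluated at an element `u ∈ R` all of whose
conjugates by elements outside `R` are killed by `ϕ`. -/
theorem transfer_eq_of_conj {A : Type*} [CommGroup A] (R : Subgroup P) [hR : R.Normal]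
    [R.FiniteIndex] (ϕ : R →* A) (u : P) (hu : u ∈ R)
    (h : ∀ g : P, g ∉ R → ∀ hg : g⁻¹ * u * g ∈ R, ϕ ⟨g⁻¹ * u * g, hg⟩ = 1) :
    MonoidHom.transfer ϕ u = ϕ ⟨u, hu⟩ := by
  classical
  let T : R.LeftTransversal := default
  have hmem : ∀ g : P, g⁻¹ * u * g ∈ R := by
    intro g
    have := hR.conj_mem u hu g⁻¹
    simpa using this
  have hfix : ∀ q : P ⧸ R, u⁻¹ • q = q := by
    intro q
    induction q using QuotientGroup.induction_on with
    | H g =>
      rw [MulAction.Quotient.smul_coe, smul_eq_mul, QuotientGroup.eq]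
      have := hmem g
      convert this using 1
      group
  have hterm : ∀ q : P ⧸ R, ((u • T).2.leftQuotientEquiv q : P) =
      u * (T.2.leftQuotientEquiv q : P) := by
    intro q
    rw [Subgroup.smul_apply_eq_smul_apply_inv_smul, hfix, smul_eq_mul]
  rw [MonoidHom.transfer_def ϕ T u]
  unfold Subgroup.leftTransversals.diff
  simp only
  letI := R.fintypeQuotientOfFiniteIndex
  set q0 : P ⧸ R := ((1 : P) : P ⧸ R) with hq0
  have key : ∀ q : P ⧸ R, ∀ hq : ((T.2.leftQuotientEquiv q : P))⁻¹ *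
      ((u • T).2.leftQuotientEquiv q : P) ∈ R,
      ϕ ⟨((T.2.leftQuotientEquiv q : P))⁻¹ * ((u • T).2.leftQuotientEquiv q : P), hq⟩ =
        if q = q0 then ϕ ⟨u, hu⟩ else 1 := by
    intro q hq
    set t : P := (T.2.leftQuotientEquiv q : P) with ht
    have htq : ((t : P) : P ⧸ R) = q := T.2.quotientGroupMk_leftQuotientEquiv q
    have e1 : (⟨t⁻¹ * ((u • T).2.leftQuotientEquiv q : P), hq⟩ : R) =
        ⟨t⁻¹ * u * t, hmem t⟩ := by
      apply Subtype.ext
      simp only [hterm q, ← ht]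
      group
    rw [e1]
    by_cases hq1 : q = q0
    · rw [if_pos hq1]
      have htR : t ∈ R := by
        rw [← htq, hq0, QuotientGroup.eq] at hq1
        simpa using hq1
      have e2 : (⟨t⁻¹ * u * t, hmem t⟩ : R) = (⟨t, htR⟩ : R)⁻¹ * ⟨u, hu⟩ * ⟨t, htR⟩ := by
        apply Subtype.ext
        simp
      rw [e2, map_mul, map_mul, map_inv, mul_comm (ϕ ⟨t, htR⟩)⁻¹, mul_assoc, inv_mul_cancel,
        mul_one]
    · rw [if_neg hq1]
      apply h t
      intro htR
      apply hq1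
      rw [← htq, hq0, QuotientGroup.eq]
      simpa using htR
  rw [Finset.prod_congr rfl (fun q _ => key q _)]
  rw [Finset.prod_ite_eq' Finset.univ q0 (fun _ => ϕ ⟨u, hu⟩)]
  simp

variable [Finite P]

/-- **PG2'**: the transfer lemma. -/
theorem mem_commutator_of_transfer (R Q Z : Subgroup P) [hR : R.Normal] (hQR : Q ≤ R)
    (hZR : Z ≤ R) (hgen : ∀ r ∈ R, ∃ q ∈ Q, ∃ z ∈ Z, r = q * z)
    (hQZ : ∀ x, x ∈ Q → x ∈ Z → x = 1) (hcomm : ∀ q ∈ Q, ∀ z ∈ Z, q * z = z * q)
    (hconj : ∀ g : P, g ∉ R → ∀ q ∈ Q, g⁻¹ * q * g ∈ Z) :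
    ∀ u ∈ Q, u ∈ commutator P → u ∈ ⁅Q, Q⁆ := by
  intro u huQ huD
  -- `Z` as a normal subgroup of `↥R`
  set Z' : Subgroup R := Z.subgroupOf R with hZ'
  have hZn : Z'.Normal := by
    constructor
    intro z hz r
    rw [hZ', Subgroup.mem_subgroupOf] at hz ⊢
    obtain ⟨q, hq, z1, hz1, hr⟩ := hgen r r.2
    have hzc : (z : P) * q⁻¹ = q⁻¹ * (z : P) := by
      have := hcomm q hq (z : P) hz
      calc (z : P) * q⁻¹ = q⁻¹ * (q * (z : P)) * q⁻¹ := by group
        _ = q⁻¹ * ((z : P) * q) * q⁻¹ := by rw [this]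
        _ = q⁻¹ * (z : P) := by group
    have : ((r * z * r⁻¹ : R) : P) = z1 * (z : P) * z1⁻¹ := by
      simp only [Subgroup.coe_mul, Subgroup.coe_inv, hr]
      calc q * z1 * (z : P) * (q * z1)⁻¹ = q * (z1 * (z : P) * z1⁻¹) * q⁻¹ := by group
        _ = (z1 * (z : P) * z1⁻¹) * q * q⁻¹ := by
            rw [hcomm q hq _ (Z.mul_mem (Z.mul_mem hz1 hz) (Z.inv_mem hz1))]
        _ = z1 * (z : P) * z1⁻¹ := by group
    rw [this]
    exact Z.mul_mem (Z.mul_mem hz1 hz) (Z.inv_mem hz1)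
  -- the homomorphism `ϕ : R → (R / Z)^{ab}`
  let ϕ : R →* Abelianization (R ⧸ Z') := (Abelianization.of).comp (QuotientGroup.mk' Z')
  have hϕZ : ∀ (z : P) (hzR : z ∈ R), z ∈ Z → ϕ ⟨z, hzR⟩ = 1 := by
    intro z hzR hz
    have : (QuotientGroup.mk' Z') ⟨z, hzR⟩ = 1 := by
      rw [QuotientGroup.mk'_apply, QuotientGroup.eq_one_iff, hZ', Subgroup.mem_subgroupOf]
      exact hz
    simp only [ϕ, MonoidHom.comp_apply, this, map_one]
  -- the restriction `ψ : Q → R / Z` is bijective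
  let ψ : Q →* R ⧸ Z' := (QuotientGroup.mk' Z').comp (Subgroup.inclusion hQR)
  have hψinj : Function.Injective ψ := by
    rw [injective_iff_map_eq_one]
    intro a ha
    have h1 : (Subgroup.inclusion hQR a) ∈ Z' := by
      rw [← QuotientGroup.eq_one_iff]
      exact ha
    rw [hZ', Subgroup.mem_subgroupOf] at h1
    apply Subtype.ext
    exact hQZ a a.2 h1
  have hψsurj : Function.Surjective ψ := by
    intro x
    obtain ⟨r, rfl⟩ := QuotientGroup.mk'_surjective Z' x
    obtain ⟨q, hq, z, hz, hr⟩ := hgen r r.2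
    refine ⟨⟨q, hq⟩, ?_⟩
    simp only [ψ, MonoidHom.comp_apply]
    rw [QuotientGroup.mk'_apply, QuotientGroup.mk'_apply, QuotientGroup.eq, hZ',
      Subgroup.mem_subgroupOf]
    have : ((Subgroup.inclusion hQR ⟨q, hq⟩)⁻¹ * r : R) = (⟨z, hZR hz⟩ : R) := by
      apply Subtype.ext
      simp [hr]
    rw [this]
    exact hz
  -- transfer
  have hfin : R.FiniteIndex := inferInstance
  have htr : MonoidHom.transfer ϕ u = ϕ ⟨u, hQR huQ⟩ := by
    apply transfer_eq_of_conj R ϕ u (hQR huQ)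
    intro g hg hgR
    exact hϕZ _ hgR (hconj g hg u huQ)
  have hker : MonoidHom.transfer ϕ u = 1 := by
    have := Abelianization.commutator_subset_ker (MonoidHom.transfer ϕ) huD
    exact this
  rw [htr] at hker
  -- so `ψ u` lies in the derived subgroup of `R / Z`
  have h2 : ψ ⟨u, huQ⟩ ∈ commutator (R ⧸ Z') := by
    rw [← Abelianization.ker_of]
    exact hker
  have h3 : commutator (R ⧸ Z') = (commutator Q).map ψ := by
    rw [commutator_def, commutator_def, Subgroup.map_commutator, ← MonoidHom.range_eq_map,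
      MonoidHom.range_eq_top.2 hψsurj]
  rw [h3] at h2
  obtain ⟨c, hc, hcu⟩ := h2
  have hcu' : c = ⟨u, huQ⟩ := hψinj hcu
  rw [← Subgroup.map_subtype_commutator]
  exact ⟨c, hc, by rw [hcu', Subgroup.coe_subtype]⟩

end Cfsg.Agent.Helper5.PSq
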