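import Mathlib
import Cfsg.Agent.S5076
import Cfsg.Agent.S5093
import Cfsg.Agent.Helper6.TateG
import Cfsg.Agent.Helper5.PPrimeCore
import Cfsg.Agent.Helper5.PMinimal
import Cfsg.Agent.Helper5.PMinimal2
import Cfsg.Agent.Helper5.SubnormalSylow

set_option autoImplicit false

/-!
helper5: S4587, part F.  Group-theoretic consequence of Tate's theorem: if `O_{p'}(G) = 1` and
`N` is a normal subgroup with `N ∩ P ≤ P'` for a Sylow `p`-subgroup `P`, then `N` is a `p`-group.
-/

namespace Cfsg.Agent.Helper5.PSq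

open scoped commutatorElement
open Cfsg

variable {G : Type*} [Group G] [Finite G]

theorem isPGroup_of_inf_le_commutator (p : ℕ) [hp : Fact p.Prime] (P : Sylow p G)
    (hcore : Cfsg.pPrimeCore p G = ⊥) (N : Subgroup G) [hN : N.Normal]
    (hle : N ⊓ (P : Subgroup G) ≤ ⁅(P : Subgroup G), (P : Subgroup G)⁆) : IsPGroup p N := by
  classical
  set S0 : Subgroup G := (P : Subgroup G) with hS0
  set X : Subgroup G := N ⊔ S0 with hX
  have hS0X : S0 ≤ X := le_sup_right
  have hNX : N ≤ X := le_sup_left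
  let PX : Sylow p X := P.subtype hS0X
  have hPX : (PX : Subgroup X) = S0.subgroupOf X := rfl
  set S : Subgroup X := (PX : Subgroup X) with hS
  have hSp : IsPGroup p S := PX.isPGroup'
  have hF : (Cfsg.groupFusionSystem S).IsSaturated p := Cfsg.Agent.S5076.result p PX
  have hyp : (Cfsg.groupFusionSystem S).hyperfocalSubgroup p = S ⊓ Cfsg.pResidual p X :=
    Cfsg.Agent.S5093.result p PX
  set NX : Subgroup X := N.subgroupOf X with hNXdef
  have hNXn : NX.Normal := hN.subgroupOf X
  have hsup : NX ⊔ S = ⊤ := by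
    rw [hNXdef, hPX, ← Subgroup.subgroupOf_sup hNX hS0X]
    exact Subgroup.subgroupOf_self X
  have hres : Cfsg.pResidual p X ≤ NX := pResidual_le_of_sup_sylow_eq_top PX NX hsup
  -- Tate
  have hΦ : ((Cfsg.groupFusionSystem S).hyperfocalSubgroup p).subgroupOf S ≤ ⊥ ⊔ frattini S := by
    intro u hu
    rw [Subgroup.mem_subgroupOf, hyp] at hu
    have hu1 : ((u : X) : G) ∈ N := by
      have := hres hu.2
      rwa [hNXdef, Subgroup.mem_subgroupOf] at this
    have hu2 : ((u : X) : G) ∈ S0 := by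
      have h' : (u : X) ∈ S0.subgroupOf X := by
        rw [← hPX]
        exact hu.1
      rwa [Subgroup.mem_subgroupOf] at h'
    have hu3 : ((u : X) : G) ∈ ⁅S0, S0⁆ := hle ⟨hu1, hu2⟩
    apply (le_sup_right : frattini S ≤ ⊥ ⊔ frattini S)
    apply Cfsg.Agent.Helper1.IsPGroup.commutator_le_frattini hSp
    let ι : S →* G := X.subtype.comp S.subtype
    have hι : Function.Injective ι :=
      X.subtype_injective.comp S.subtype_injective
    have hrange : ι.range = S0 := by
      rw [MonoidHom.range_comp, Subgroup.range_subtype, hPX, Subgroup.subgroupOf_map_subtype]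
      exact inf_of_le_left hS0X
    have hmap : (commutator S).map ι = ⁅S0, S0⁆ := by
      rw [commutator_def, Subgroup.map_commutator, ← MonoidHom.range_eq_map, hrange]
    rw [← hmap] at hu3
    obtain ⟨c, hc, hcu⟩ := hu3
    have : c = u := hι hcu
    rw [← this]
    exact hc
  have hTate := Cfsg.Agent.Helper6.Tate.hyperfocal_le_of_le_sup_frattini p hSp
    (Cfsg.groupFusionSystem S) hF ⊥ bot_le hΦ
  have hinf : S ⊓ Cfsg.pResidual p X = ⊥ := by
    rw [eq_bot_iff]
    intro v hv
    have h1 : (⟨v, hv.1⟩ : S) ∈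
        ((Cfsg.groupFusionSystem S).hyperfocalSubgroup p).subgroupOf S := by
      rw [Subgroup.mem_subgroupOf, hyp]
      exact hv
    have h2 := hTate h1
    rw [Subgroup.mem_bot] at h2 ⊢
    have := congrArg Subtype.val h2
    simpa using this
  -- `O^p(X)` is a `p'`-group
  set O : Subgroup X := Cfsg.pResidual p X with hO
  have hOn : O.Normal := pResidual_normal p
  have hOcard : (Nat.card O).Coprime p := by
    have h1 := card_inf_sylow_of_subnormal PX O (Subgroup.Normal.isSubnormal hOn)
    rw [inf_comm, hinf, Subgroup.card_bot] at h1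
    have h2 : (Nat.card O).factorization p = 0 := by
      by_contra h
      have : 1 < p ^ (Nat.card O).factorization p := Nat.one_lt_pow h hp.out.one_lt
      omega
    rw [Nat.coprime_comm, Nat.Prime.coprime_iff_not_dvd hp.out]
    intro hdvd
    have := (hp.out.dvd_iff_one_le_factorization Nat.card_pos.ne').1 hdvd
    omega
  -- the set of `p'`-elements of `N` is a normal `p'`-subgroup
  set K : Subgroup G := O.map X.subtype with hK
  have hKmem : ∀ g : G, g ∈ K ↔ g ∈ N ∧ (orderOf g).Coprime p := by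
    intro g
    constructor
    · rintro ⟨k, hk, rfl⟩
      refine ⟨?_, ?_⟩
      · have := hres hk
        rwa [hNXdef, Subgroup.mem_subgroupOf] at this
      · have h1 : orderOf (⟨k, hk⟩ : O) ∣ Nat.card O := orderOf_dvd_natCard _
        have h2 : orderOf (X.subtype k) = orderOf (⟨k, hk⟩ : O) := by
          rw [Subgroup.orderOf_mk]
          exact Subgroup.orderOf_coe k
        rw [h2]
        exact Nat.Coprime.coprime_dvd_left h1 hOcard
    · rintro ⟨hgN, hco⟩
      refine ⟨⟨g, hNX hgN⟩, ?_, rfl⟩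
      apply mem_pResidual_of_coprime
      rwa [Subgroup.orderOf_mk]
  have hKn : K.Normal := by
    constructor
    intro k hk c
    rw [hKmem] at hk ⊢
    refine ⟨hN.conj_mem k hk.1 c, ?_⟩
    have := (MulAut.conj c).orderOf_eq k
    rw [MulAut.conj_apply] at this
    rw [this]
    exact hk.2
  have hKcard : (Nat.card K).Coprime p := by
    rw [hK, Subgroup.card_map_of_injective X.subtype_injective]
    exact hOcard
  have hKbot : K = ⊥ := by
    have := le_pPrimeCore hKn hKcard
    rw [hcore] at this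
    exact eq_bot_iff.2 this
  -- conclusion
  intro g
  obtain ⟨a, m, hm, hgm⟩ :=
    Nat.exists_eq_pow_mul_and_not_dvd (orderOf_pos (g : G)).ne' p hp.out.ne_one
  refine ⟨a, ?_⟩
  have hpa : p ^ a ≠ 0 := (pow_pos hp.out.pos a).ne'
  have hdvd : p ^ a ∣ orderOf (g : G) := ⟨m, hgm⟩
  have hord : orderOf ((g : G) ^ p ^ a) = m := by
    rw [orderOf_pow_of_dvd hpa hdvd, hgm, Nat.mul_div_cancel_left _ (pow_pos hp.out.pos a)]
  have hmem : (g : G) ^ p ^ a ∈ K := by
    rw [hKmem]
    refine ⟨N.pow_mem g.2 _, ?_⟩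
    rw [hord, Nat.coprime_comm, Nat.Prime.coprime_iff_not_dvd hp.out]
    exact hm
  rw [hKbot, Subgroup.mem_bot] at hmem
  apply Subtype.ext
  rw [Subgroup.coe_pow, hmem, Subgroup.coe_one]

/-- **T2**: under the hypotheses of S4587, no nontrivial normal subgroup `N` satisfies
`N ∩ P ≤ P'`. -/
theorem not_inf_le_commutator (p : ℕ) [hp : Fact p.Prime] (P : Sylow p G)
    (hcore : Cfsg.pPrimeCore p G = ⊥)
    (hcore' : (⁅(P : Subgroup G), (P : Subgroup G)⁆).normalCore = ⊥)
    (N : Subgroup G) [hN : N.Normal] (hN1 : N ≠ ⊥) :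
    ¬ (N ⊓ (P : Subgroup G) ≤ ⁅(P : Subgroup G), (P : Subgroup G)⁆) := by
  intro hle
  have hNp := isPGroup_of_inf_le_commutator p P hcore N hle
  have hNP : N ≤ (P : Subgroup G) := normal_pgroup_le_sylow P N hNp
  have h1 : N ≤ ⁅(P : Subgroup G), (P : Subgroup G)⁆ := fun x hx => hle ⟨hx, hNP hx⟩
  have h2 : N ≤ (⁅(P : Subgroup G), (P : Subgroup G)⁆).normalCore :=
    Subgroup.normal_le_normalCore.2 h1
  rw [hcore'] at h2
  exact hN1 (eq_bot_iff.2 h2)

end Cfsg.Agent.Helper5.PSq
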