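import Mathlib
import Cfsg.Agent.Helper5.PSqC

set_option autoImplicit false

/-!
helper5: S4587, part G.  Invariant subgroups of a minimal normal subgroup `N` with trivial
centralizer: every `N`-invariant subgroup `W ≤ N` has the complement `C_N(W)`.
-/

namespace Cfsg.Agent.Helper5.PSq

variable {G : Type*} [Group G]

/-- `H` normalizes `T` (elementwise). -/
def Nz (H T : Subgroup G) : Prop := ∀ h ∈ H, ∀ t ∈ T, h * t * h⁻¹ ∈ T

theorem Nz.inf {H A B : Subgroup G} (hA : Nz H A) (hB : Nz H B) : Nz H (A ⊓ B) :=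
  fun h hh t ht => ⟨hA h hh t ht.1, hB h hh t ht.2⟩

theorem Nz.conj_inv_mem {H T : Subgroup G} (hT : Nz H T) {h : G} (hh : h ∈ H) {t : G}
    (ht : t ∈ T) : h⁻¹ * t * h ∈ T := by
  have := hT h⁻¹ (H.inv_mem hh) t ht
  simpa using this

theorem Nz.of_normal (H : Subgroup G) {N : Subgroup G} (hN : N.Normal) : Nz H N :=
  fun h _ t ht => hN.conj_mem t ht h

theorem Nz.le_normalizer {H T : Subgroup G} (hT : Nz H T) :
    H ≤ Subgroup.normalizer (T : Set G) := by
  intro h hh
  rw [Subgroup.mem_normalizer_iff]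
  intro t
  constructor
  · exact hT h hh t
  · intro ht
    have := hT.conj_inv_mem hh ht
    convert this using 1
    group

theorem Nz.of_le_normalizer {H T : Subgroup G} (h : H ≤ Subgroup.normalizer (T : Set G)) :
    Nz H T :=
  fun x hx t ht => ((Subgroup.mem_normalizer_iff.1 (h hx)) t).1 ht

/-- the centralizer of an invariant subgroup is invariant. -/
theorem Nz.centralizer {H W : Subgroup G} (hW : Nz H W) :
    Nz H (Subgroup.centralizer (W : Set G)) := by
  intro h hh c hc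
  rw [Subgroup.mem_centralizer_iff] at hc ⊢
  intro w hw
  have hw' : h⁻¹ * w * h ∈ W := hW.conj_inv_mem hh hw
  have := hc _ hw'
  calc w * (h * c * h⁻¹) = h * ((h⁻¹ * w * h) * c) * h⁻¹ := by group
    _ = h * (c * (h⁻¹ * w * h)) * h⁻¹ := by rw [this]
    _ = h * c * h⁻¹ * w := by group

theorem Nz.normal_subgroupOf {N T : Subgroup G} (hT : Nz N T) : (T.subgroupOf N).Normal := by
  constructor
  intro t ht n
  rw [Subgroup.mem_subgroupOf] at ht ⊢
  have := hT n n.2 t ht
  simpa using this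

/-- elements of a join of two elementwise commuting subgroups are products. -/
theorem exists_mul_of_mem_sup_of_commute {A B : Subgroup G}
    (hc : ∀ a ∈ A, ∀ b ∈ B, a * b = b * a) {x : G} (hx : x ∈ A ⊔ B) :
    ∃ a ∈ A, ∃ b ∈ B, x = a * b := by
  let AB : Subgroup G :=
    { carrier := {x | ∃ a ∈ A, ∃ b ∈ B, x = a * b}
      one_mem' := ⟨1, A.one_mem, 1, B.one_mem, by simp⟩
      mul_mem' := by
        rintro _ _ ⟨a, ha, b, hb, rfl⟩ ⟨a', ha', b', hb', rfl⟩
        refine ⟨a * a', A.mul_mem ha ha', b * b', B.mul_mem hb hb', ?_⟩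
        have h := hc a' ha' b hb
        calc a * b * (a' * b') = a * (b * a') * b' := by group
          _ = a * (a' * b) * b' := by rw [h]
          _ = a * a' * (b * b') := by group
      inv_mem' := by
        rintro _ ⟨a, ha, b, hb, rfl⟩
        refine ⟨a⁻¹, A.inv_mem ha, b⁻¹, B.inv_mem hb, ?_⟩
        have h := hc a⁻¹ (A.inv_mem ha) b⁻¹ (B.inv_mem hb)
        rw [h, mul_inv_rev] }
  have hA : A ≤ AB := fun a ha => ⟨a, ha, 1, B.one_mem, by simp⟩
  have hB : B ≤ AB := fun b hb => ⟨1, A.one_mem, b, hb, by simp⟩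
  exact (sup_le hA hB) hx

/-- `T` is an `N`-invariant nontrivial subgroup of `N` of least possible order. -/
def IsMinInv (N T : Subgroup G) : Prop :=
  T ≤ N ∧ T ≠ ⊥ ∧ Nz N T ∧
    ∀ T' : Subgroup G, T' ≤ N → T' ≠ ⊥ → Nz N T' → Nat.card T ≤ Nat.card T'

theorem exists_isMinInv [Finite G] (N : Subgroup G) (hN : N ≠ ⊥) : ∃ T, IsMinInv N T := by
  have hfin : {T : Subgroup G | T ≤ N ∧ T ≠ ⊥ ∧ Nz N T}.Finite := Set.toFinite _
  have hne : {T : Subgroup G | T ≤ N ∧ T ≠ ⊥ ∧ Nz N T}.Nonempty :=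
    ⟨N, le_rfl, hN, fun h hh t ht => N.mul_mem (N.mul_mem hh ht) (N.inv_mem hh)⟩
  obtain ⟨T, hT, hmin⟩ :=
    Set.exists_min_image _ (fun T : Subgroup G => Nat.card T) hfin hne
  exact ⟨T, hT.1, hT.2.1, hT.2.2, fun T' h1 h2 h3 => hmin T' ⟨h1, h2, h3⟩⟩

theorem IsMinInv.conj [Finite G] {N T : Subgroup G} [hN : N.Normal] (hT : IsMinInv N T)
    (c : G) : IsMinInv N (T.map (MulAut.conj c).toMonoidHom) := by
  obtain ⟨h1, h2, h3, h4⟩ := hT
  refine ⟨?_, ?_, ?_, ?_⟩
  · rintro _ ⟨t, ht, rfl⟩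
    simp only [MulEquiv.coe_toMonoidHom, MulAut.conj_apply]
    exact hN.conj_mem t (h1 ht) c
  · intro h
    exact h2 ((Subgroup.map_eq_bot_iff_of_injective T (MulAut.conj c).injective).1 h)
  · rintro n hn _ ⟨t, ht, rfl⟩
    refine ⟨(c⁻¹ * n * c) * t * (c⁻¹ * n * c)⁻¹, h3 _ ?_ t ht, ?_⟩
    · have := hN.conj_mem n hn c⁻¹
      simpa using this
    · simp only [MulEquiv.coe_toMonoidHom, MulAut.conj_apply]
      group
  · intro T' a b c'
    rw [Subgroup.card_map_of_injective (MulAut.conj c).injective]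
    exact h4 T' a b c'

/-- **CR-a** -/
theorem IsMinInv.le_or_le_centralizer [Finite G] {N T W : Subgroup G} (hT : IsMinInv N T)
    (hWN : W ≤ N) (hW : Nz N W) : T ≤ W ∨ T ≤ Subgroup.centralizer (W : Set G) := by
  obtain ⟨h1, h2, h3, h4⟩ := hT
  by_cases hb : T ⊓ W = ⊥
  · right
    intro t ht
    rw [Subgroup.mem_centralizer_iff]
    intro w hw
    have hwW : w ∈ W := hw
    have h7 : w * t * w⁻¹ * t⁻¹ ∈ W := by
      have h5 : t * w⁻¹ * t⁻¹ ∈ W := hW t (h1 ht) w⁻¹ (W.inv_mem hwW)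
      have h6 := W.mul_mem hwW h5
      have e : w * t * w⁻¹ * t⁻¹ = w * (t * w⁻¹ * t⁻¹) := by group
      rw [e]
      exact h6
    have hc : w * t * w⁻¹ * t⁻¹ ∈ T ⊓ W :=
      ⟨T.mul_mem (h3 w (hWN hwW) t ht) (T.inv_mem ht), h7⟩
    rw [hb, Subgroup.mem_bot] at hc
    calc w * t = (w * t * w⁻¹ * t⁻¹) * (t * w) := by group
      _ = t * w := by rw [hc, one_mul]
  · left
    have hle : Nat.card T ≤ Nat.card (T ⊓ W : Subgroup G) :=
      h4 _ (inf_le_left.trans h1) hb (h3.inf hW)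
    have : T ⊓ W = T := Subgroup.eq_of_le_of_card_ge inf_le_left hle
    rw [← this]
    exact inf_le_right

/-- **CR-c** -/
theorem le_sup_centralizer [Finite G] {N T W : Subgroup G} [hN : N.Normal]
    (hmin : ∀ M : Subgroup G, M.Normal → M ≤ N → M = ⊥ ∨ M = N) (hT : IsMinInv N T)
    (hWN : W ≤ N) (hW : Nz N W) :
    N ≤ W ⊔ (N ⊓ Subgroup.centralizer (W : Set G)) := by
  have hcl : Subgroup.normalClosure (T : Set G) = N := by
    have h1 : Subgroup.normalClosure (T : Set G) ≤ N := Subgroup.normalClosure_le_normal hT.1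
    rcases hmin _ Subgroup.normalClosure_normal h1 with h | h
    · exfalso
      apply hT.2.1
      rw [eq_bot_iff, ← h]
      exact Subgroup.le_normalClosure
    · exact h
  have key : Subgroup.normalClosure (T : Set G) ≤
      W ⊔ (N ⊓ Subgroup.centralizer (W : Set G)) := by
    rw [Subgroup.normalClosure, Subgroup.closure_le]
    intro x hx
    rw [Group.mem_conjugatesOfSet_iff] at hx
    obtain ⟨t, ht, htx⟩ := hx
    rw [isConj_iff] at htx
    obtain ⟨c, rfl⟩ := htx
    have hmem : c * t * c⁻¹ ∈ T.map (MulAut.conj c).toMonoidHom := ⟨t, ht, by simp⟩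
    rcases (hT.conj c).le_or_le_centralizer hWN hW with h | h
    · exact (le_sup_left : W ≤ W ⊔ (N ⊓ Subgroup.centralizer (W : Set G))) (h hmem)
    · exact (le_sup_right : _ ≤ W ⊔ (N ⊓ Subgroup.centralizer (W : Set G)))
        ⟨(hT.conj c).1 hmem, h hmem⟩
  rw [hcl] at key
  exact key

/-- **CR-d** -/
theorem inf_centralizer_eq_bot {N W : Subgroup G}
    (hZ : Subgroup.centralizer (N : Set G) = ⊥)
    (hsup : N ≤ W ⊔ (N ⊓ Subgroup.centralizer (W : Set G))) :
    W ⊓ (N ⊓ Subgroup.centralizer (W : Set G)) = ⊥ := by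
  rw [eq_bot_iff]
  rintro x ⟨hxW, -, hxC⟩
  rw [← hZ, Subgroup.mem_centralizer_iff]
  have h1 : W ≤ Subgroup.centralizer ({x} : Set G) := by
    intro w hw
    rw [mem_centralizer_singleton]
    exact ((Subgroup.mem_centralizer_iff.1 hxC) w hw).symm
  have h2 : N ⊓ Subgroup.centralizer (W : Set G) ≤ Subgroup.centralizer ({x} : Set G) := by
    intro c hc
    rw [mem_centralizer_singleton]
    exact (Subgroup.mem_centralizer_iff.1 hc.2) x hxW
  intro n hn
  have := (hsup.trans (sup_le h1 h2)) hn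
  rw [mem_centralizer_singleton] at this
  exact this.symm

end Cfsg.Agent.Helper5.PSq
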