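import Mathlib
import Cfsg.Agent.Helper5.PPrimeCore
import Cfsg.Agent.Helper5.SubnormalSylow2
import Cfsg.Agent.Helper5.PSqB
import Cfsg.Agent.Helper5.PSqC
import Cfsg.Agent.Helper5.PSqD
import Cfsg.Agent.Helper5.PSqG

set_option autoImplicit false

/-!
helper5: S4587, part H.  Group-level lemmas: invariant subgroups of a normal subgroup meet a Sylow
`p`-subgroup nontrivially when `O_{p'}(G) = 1`; an invariant direct decomposition of a normal
subgroup forces an abelian Sylow subgroup.
-/

namespace Cfsg.Agent.Helper5.PSq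

open scoped commutatorElement

variable {G : Type*} [Group G]

theorem pPrimeCore_characteristic (p : ℕ) (H : Type*) [Group H] :
    (Cfsg.pPrimeCore p H).Characteristic := by
  rw [Subgroup.characteristic_iff_le_comap]
  intro ϕ
  unfold Cfsg.pPrimeCore
  apply sSup_le
  rintro M ⟨hMn, hMc⟩
  rw [← Subgroup.map_le_iff_le_comap]
  apply le_sSup
  refine ⟨hMn.map ϕ.toMonoidHom ϕ.surjective, ?_⟩
  rw [Subgroup.card_map_of_injective ϕ.injective]
  exact hMc

variable [Finite G]

/-- if `O_{p'}(G) = 1` then `O_{p'}(N) = 1` for normal `N`. -/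
theorem pPrimeCore_normal_eq_bot {p : ℕ} [hp : Fact p.Prime] (hcore : Cfsg.pPrimeCore p G = ⊥)
    (N : Subgroup G) [hN : N.Normal] : Cfsg.pPrimeCore p N = ⊥ := by
  haveI := pPrimeCore_characteristic p N
  have hn : ((Cfsg.pPrimeCore p N).map N.subtype).Normal := inferInstance
  have hc : (Nat.card ((Cfsg.pPrimeCore p N).map N.subtype)).Coprime p := by
    rw [Subgroup.card_map_of_injective N.subtype_injective]
    exact coprime_card_pPrimeCore p
  have h := le_pPrimeCore hn hc
  rw [hcore, le_bot_iff] at h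
  exact (Subgroup.map_eq_bot_iff_of_injective _ N.subtype_injective).1 h

/-- **H1** -/
theorem inf_sylow_ne_bot {p : ℕ} [hp : Fact p.Prime] (P : Sylow p G)
    (hcore : Cfsg.pPrimeCore p G = ⊥) (N : Subgroup G) [hN : N.Normal] (W : Subgroup G)
    (hWN : W ≤ N) (hW : Nz N W) (hW1 : W ≠ ⊥) : W ⊓ (P : Subgroup G) ≠ ⊥ := by
  have hsub : W.IsSubnormal :=
    Subgroup.IsSubnormal.step W N hWN hN.isSubnormal hW.normal_subgroupOf
  have hcard := card_inf_sylow_of_subnormal P W hsub
  have hdvd : p ∣ Nat.card W := by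
    by_contra hnd
    have hco : (Nat.card W).Coprime p := by
      rw [Nat.coprime_comm, Nat.Prime.coprime_iff_not_dvd hp.out]
      exact hnd
    have hn : (W.subgroupOf N).Normal := hW.normal_subgroupOf
    have hc : (Nat.card (W.subgroupOf N)).Coprime p := by
      rw [Nat.card_congr (Subgroup.subgroupOfEquivOfLe hWN).toEquiv]
      exact hco
    have h := le_pPrimeCore hn hc
    rw [pPrimeCore_normal_eq_bot hcore N, le_bot_iff, Subgroup.subgroupOf_eq_bot] at h
    apply hW1
    rw [eq_bot_iff]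
    intro x hx
    have := h.le_bot ⟨hx, hWN hx⟩
    exact this
  have hfac : 1 ≤ (Nat.card W).factorization p :=
    (hp.out.dvd_iff_one_le_factorization Nat.card_pos.ne').1 hdvd
  intro hbot
  rw [hbot, Subgroup.card_bot] at hcard
  have : 1 < p ^ (Nat.card W).factorization p :=
    Nat.one_lt_pow (by omega) hp.out.one_lt
  omega

/-- **H2**: an invariant direct decomposition of `N` forces the Sylow subgroup to be abelian. -/
theorem commutator_sylow_eq_bot_of_decomposition {p : ℕ} [hp : Fact p.Prime] (P : Sylow p G)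
    (hcore : Cfsg.pPrimeCore p G = ⊥) (N : Subgroup G) [hN : N.Normal]
    (hidx : (commutator (P : Subgroup G)).index = p ^ 2)
    (hRidx : (N.subgroupOf (P : Subgroup G)).index ∣ p)
    (A B : Subgroup G) (hAN : A ≤ N) (hBN : B ≤ N) (hA : Nz N A) (hB : Nz N B)
    (hAS : Nz (P : Subgroup G) A) (hBS : Nz (P : Subgroup G) B) (hA1 : A ≠ ⊥) (hB1 : B ≠ ⊥)
    (hAB : A ⊓ B = ⊥) (hsup : N ≤ A ⊔ B) : commutator (P : Subgroup G) = ⊥ := by
  set S0 : Subgroup G := (P : Subgroup G) with hS0
  have hS0p : IsPGroup p S0 := P.isPGroup'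
  set A' : Subgroup S0 := A.subgroupOf S0 with hA'
  set B' : Subgroup S0 := B.subgroupOf S0 with hB'
  haveI hA'n : A'.Normal := hAS.normal_subgroupOf
  haveI hB'n : B'.Normal := hBS.normal_subgroupOf
  have hne : ∀ (W : Subgroup G), W ≤ N → Nz N W → W ≠ ⊥ → W.subgroupOf S0 ≠ ⊥ := by
    intro W hWN hW hW1 hbot
    apply inf_sylow_ne_bot P hcore N W hWN hW hW1
    rw [Subgroup.subgroupOf_eq_bot] at hbot
    exact hbot.eq_bot
  have hAsub : A.IsSubnormal :=
    Subgroup.IsSubnormal.step A N hAN hN.isSubnormal hA.normal_subgroupOf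
  have hBsub : B.IsSubnormal :=
    Subgroup.IsSubnormal.step B N hBN hN.isSubnormal hB.normal_subgroupOf
  have hsyl := sylow_inf_sup_subnormal P A B hAsub hBsub
  -- `N ∩ S0 ≤ A' B'`
  have hRle : N.subgroupOf S0 ≤ A' ⊔ B' := by
    intro r hr
    rw [Subgroup.mem_subgroupOf] at hr
    have h1 : (r : G) ∈ (A ⊔ B) ⊓ S0 := ⟨hsup hr, r.2⟩
    rw [hsyl] at h1
    have h2 : (A ⊓ S0) ⊔ (B ⊓ S0) = (A' ⊔ B').map S0.subtype := by
      rw [Subgroup.map_sup, hA', hB', Subgroup.subgroupOf_map_subtype,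
        Subgroup.subgroupOf_map_subtype]
    rw [h2] at h1
    obtain ⟨r', hr', hrr⟩ := h1
    have : r' = r := Subtype.ext hrr
    rw [← this]
    exact hr'
  have hAB' : A' ⊓ B' = ⊥ := by
    rw [eq_bot_iff]
    intro x hx
    have hxA : (x : G) ∈ A := Subgroup.mem_subgroupOf.1 hx.1
    have hxB : (x : G) ∈ B := Subgroup.mem_subgroupOf.1 hx.2
    have : (x : G) ∈ A ⊓ B := ⟨hxA, hxB⟩
    rw [hAB, Subgroup.mem_bot] at this
    rw [Subgroup.mem_bot]
    exact Subtype.ext this
  obtain ⟨y, hy⟩ : ∃ y : S0, (A' ⊔ B') ⊔ Subgroup.zpowers y = ⊤ := by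
    rcases (Nat.dvd_prime hp.out).1 hRidx with h1 | h1
    · refine ⟨1, ?_⟩
      rw [eq_top_iff]
      have : N.subgroupOf S0 = ⊤ := Subgroup.index_eq_one.1 h1
      rw [← this]
      exact hRle.trans le_sup_left
    · have hne' : N.subgroupOf S0 ≠ ⊤ := by
        intro h2
        rw [h2, Subgroup.index_top] at h1
        exact hp.out.one_lt.ne h1
      obtain ⟨y, hy⟩ : ∃ y : S0, y ∉ N.subgroupOf S0 := by
        by_contra hcon
        rw [not_exists] at hcon
        apply hne'
        rw [eq_top_iff]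
        intro x _
        by_contra hx
        exact hcon x hx
      refine ⟨y, ?_⟩
      rw [eq_top_iff, ← sup_zpowers_eq_top (N.subgroupOf S0) h1 y hy]
      exact sup_le_sup_right hRle _
  exact commutator_eq_bot_of_decomposition hS0p hidx A' B' (hne A hAN hA hA1)
    (hne B hBN hB hB1) hAB' y hy

end Cfsg.Agent.Helper5.PSq
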