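import Mathlib
import Cfsg.Agent.Helper5.PSqE
import Cfsg.Agent.Helper5.PSqH

set_option autoImplicit false
set_option maxHeartbeats 400000

/-!
helper5: S4587, part I.  The case of a nonabelian minimal normal subgroup `N` with trivial
centralizer: `N ∩ P` is abelian.
-/

namespace Cfsg.Agent.Helper5.PSq

open scoped commutatorElement

variable {G : Type*} [Group G]

theorem conj_mem_centralizer_of_invariant {Sg : Set G} {h c : G}
    (hinv : ∀ x ∈ Sg, h⁻¹ * x * h ∈ Sg) (hc : c ∈ Subgroup.centralizer Sg) :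
    h * c * h⁻¹ ∈ Subgroup.centralizer Sg := by
  rw [Subgroup.mem_centralizer_iff] at hc ⊢
  intro x hx
  have := hc _ (hinv x hx)
  calc x * (h * c * h⁻¹) = h * ((h⁻¹ * x * h) * c) * h⁻¹ := by group
    _ = h * (c * (h⁻¹ * x * h)) * h⁻¹ := by rw [this]
    _ = h * c * h⁻¹ * x := by group

variable [Finite G]

theorem inf_sylow_abelian_of_nonabelian {p : ℕ} [hp : Fact p.Prime] (P : Sylow p G)
    (hcore : Cfsg.pPrimeCore p G = ⊥) (N : Subgroup G) [hN : N.Normal]
    (hmin : ∀ M : Subgroup G, M.Normal → M ≤ N → M = ⊥ ∨ M = N) (hN1 : N ≠ ⊥)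
    (hZ : Subgroup.centralizer (N : Set G) = ⊥)
    (hnas : ¬ ∃ S : Subgroup G, S.Normal ∧ IsSimpleGroup S ∧ ¬ IsMulCommutative S ∧
      Subgroup.centralizer (S : Set G) = ⊥)
    (hidx : (commutator (P : Subgroup G)).index = p ^ 2)
    (hDne : commutator (P : Subgroup G) ≠ ⊥)
    (hDR : commutator (P : Subgroup G) ≤ N.subgroupOf (P : Subgroup G))
    (hRidx : (N.subgroupOf (P : Subgroup G)).index ∣ p) :
    ∀ a ∈ N ⊓ (P : Subgroup G), ∀ b ∈ N ⊓ (P : Subgroup G), a * b = b * a := by
  classical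
  set S0 : Subgroup G := (P : Subgroup G) with hS0
  have hS0p : IsPGroup p S0 := P.isPGroup'
  obtain ⟨T, hT⟩ := exists_isMinInv N hN1
  have hTN : T ≤ N := hT.1
  have hT1 : T ≠ ⊥ := hT.2.1
  have hTz : Nz N T := hT.2.2.1
  -- the set of `S0`-conjugates of elements of `T`
  set Sg : Set G := {x | ∃ s ∈ S0, ∃ t ∈ T, x = s * t * s⁻¹} with hSg
  have hSgN : ∀ n ∈ N, ∀ x ∈ Sg, n⁻¹ * x * n ∈ Sg := by
    rintro n hn _ ⟨s, hs, t, ht, rfl⟩
    refine ⟨s, hs, (s⁻¹ * n⁻¹ * s) * t * (s⁻¹ * n⁻¹ * s)⁻¹, hTz _ ?_ t ht, ?_⟩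
    · have := hN.conj_mem n⁻¹ (N.inv_mem hn) s⁻¹
      simpa using this
    · group
  have hSgS : ∀ s' ∈ S0, ∀ x ∈ Sg, s'⁻¹ * x * s' ∈ Sg := by
    rintro s' hs' _ ⟨s, hs, t, ht, rfl⟩
    refine ⟨s'⁻¹ * s, S0.mul_mem (S0.inv_mem hs') hs, t, ht, ?_⟩
    group
  set B1 : Subgroup G := N ⊓ Subgroup.centralizer Sg with hB1
  have hB1N : B1 ≤ N := inf_le_left
  have hB1z : Nz N B1 := by
    intro n hn c hc
    exact ⟨hN.conj_mem c hc.1 n, conj_mem_centralizer_of_invariant (hSgN n hn) hc.2⟩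
  have hB1s : Nz S0 B1 := by
    intro s hs c hc
    exact ⟨hN.conj_mem c hc.1 s, conj_mem_centralizer_of_invariant (hSgS s hs) hc.2⟩
  set C1 : Subgroup G := N ⊓ Subgroup.centralizer (B1 : Set G) with hC1
  have hC1N : C1 ≤ N := inf_le_left
  have hC1z : Nz N C1 := (Nz.of_normal N hN).inf hB1z.centralizer
  have hC1s : Nz S0 C1 := (Nz.of_normal S0 hN).inf hB1s.centralizer
  have hTC1 : T ≤ C1 := by
    intro t ht
    rw [hC1, Subgroup.mem_inf]
    refine ⟨hTN ht, ?_⟩
    rw [Subgroup.mem_centralizer_iff]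
    intro b hb
    have hb2 := (Subgroup.mem_inf.1 hb).2
    rw [Subgroup.mem_centralizer_iff] at hb2
    have : t ∈ Sg := ⟨1, S0.one_mem, t, ht, by simp⟩
    exact (hb2 t this).symm
  have hsupB : N ≤ B1 ⊔ C1 := le_sup_centralizer hmin hT hB1N hB1z
  have hinfB : B1 ⊓ C1 = ⊥ := inf_centralizer_eq_bot hZ hsupB
  have hC11 : C1 ≠ ⊥ := by
    intro h
    apply hT1
    rw [eq_bot_iff, ← h]
    exact hTC1
  have hB1bot : B1 = ⊥ := by
    by_contra hne
    exact hDne (commutator_sylow_eq_bot_of_decomposition P hcore N hidx hRidx B1 C1 hB1N hC1N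
      hB1z hC1z hB1s hC1s hne hC11 hinfB hsupB)
  -- `C_N(T)`
  set CT : Subgroup G := N ⊓ Subgroup.centralizer (T : Set G) with hCT
  have hCTN : CT ≤ N := inf_le_left
  have hCTz : Nz N CT := (Nz.of_normal N hN).inf hTz.centralizer
  have hsupT : N ≤ T ⊔ CT := le_sup_centralizer hmin hT hTN hTz
  have hinfT : T ⊓ CT = ⊥ := inf_centralizer_eq_bot hZ hsupT
  by_cases hα : Nz S0 T
  · -- case α: `S0` normalizes `T`
    exfalso
    have hCTbot : CT = ⊥ := by
      rw [eq_bot_iff, ← hB1bot]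
      intro c hc
      rw [hB1, Subgroup.mem_inf]
      refine ⟨hc.1, ?_⟩
      rw [Subgroup.mem_centralizer_iff]
      rintro _ ⟨s, hs, t, ht, rfl⟩
      have h2 := (Subgroup.mem_inf.1 hc).2
      rw [Subgroup.mem_centralizer_iff] at h2
      exact h2 _ (hα s hs t ht)
    have hNT : N = T := by
      apply le_antisymm _ hTN
      rw [hCTbot, sup_bot_eq] at hsupT
      exact hsupT
    have hsimple : IsSimpleGroup N := by
      haveI : Nontrivial N := (Subgroup.nontrivial_iff_ne_bot N).2 hN1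
      refine ⟨fun H hH => ?_⟩
      by_cases hHb : H = ⊥
      · exact Or.inl hHb
      · right
        have h1 : H.map N.subtype ≤ N := Subgroup.map_subtype_le H
        have h2 : H.map N.subtype ≠ ⊥ := by
          intro h
          exact hHb ((Subgroup.map_eq_bot_iff_of_injective H N.subtype_injective).1 h)
        have h3 : Nz N (H.map N.subtype) := by
          rintro n hn _ ⟨x, hx, rfl⟩
          exact ⟨(⟨n, hn⟩ : N) * x * (⟨n, hn⟩ : N)⁻¹, hH.conj_mem x hx ⟨n, hn⟩, by simp⟩
        have h4 := hT.2.2.2 _ h1 h2 h3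
        rw [← hNT] at h4
        have h5 : H.map N.subtype = N := Subgroup.eq_of_le_of_card_ge h1 h4
        rw [eq_top_iff]
        intro x _
        have hx : (x : G) ∈ H.map N.subtype := by
          rw [h5]
          exact x.2
        obtain ⟨y, hy, hyx⟩ := hx
        have : y = x := Subtype.ext hyx
        rw [← this]
        exact hy
    apply hnas
    refine ⟨N, hN, hsimple, ?_, hZ⟩
    intro hcomm
    apply hN1
    rw [eq_bot_iff, ← hZ]
    intro n hn
    rw [Subgroup.mem_centralizer_iff]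
    intro m hm
    have := hcomm.is_comm.comm (⟨m, hm⟩ : N) ⟨n, hn⟩
    exact congrArg Subtype.val this
  · -- case β
    have hβ : ∃ y ∈ S0, ∃ t0 ∈ T, y * t0 * y⁻¹ ∉ T := by
      by_contra hcon
      apply hα
      intro s hs t ht
      by_contra h
      exact hcon ⟨s, hs, t, ht, h⟩
    obtain ⟨y, hyS, t0, ht0, hyt⟩ := hβ
    have hyN : y ∉ N := fun h => hyt (hTz y h t0 ht0)
    set RR : Subgroup S0 := N.subgroupOf S0 with hRR
    haveI hRRn : RR.Normal := hN.subgroupOf S0
    have hRRidx : RR.index = p := by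
      rcases (Nat.dvd_prime hp.out).1 hRidx with h1 | h1
      · exfalso
        have : RR = ⊤ := Subgroup.index_eq_one.1 h1
        have hy' : (⟨y, hyS⟩ : S0) ∈ RR := by
          rw [this]
          exact Subgroup.mem_top _
        exact hyN (Subgroup.mem_subgroupOf.1 hy')
      · exact h1
    have hβ1 : ∀ g ∈ S0, g ∉ N → ∀ t ∈ T,
        g⁻¹ * t * g ∈ Subgroup.centralizer (T : Set G) := by
      set H : Subgroup S0 := (Subgroup.normalizer (T : Set G)).subgroupOf S0 with hH
      have hRH : RR ≤ H := by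
        intro r hr
        rw [hH, Subgroup.mem_subgroupOf]
        exact hTz.le_normalizer (Subgroup.mem_subgroupOf.1 hr)
      have hHne : H ≠ ⊤ := by
        intro h
        have hy' : (⟨y, hyS⟩ : S0) ∈ H := by
          rw [h]
          exact Subgroup.mem_top _
        rw [hH, Subgroup.mem_subgroupOf, Subgroup.mem_normalizer_iff] at hy'
        exact hyt ((hy' t0).1 ht0)
      have hHR : H ≤ RR := by
        have h1 : H.index ∣ p := by
          rw [← hRRidx]
          exact Subgroup.index_dvd_of_le hRH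
        have h2 : H.index = p := by
          rcases (Nat.dvd_prime hp.out).1 h1 with h | h
          · exact absurd (Subgroup.index_eq_one.1 h) hHne
          · exact h
        have h3 := Subgroup.relIndex_mul_index hRH
        rw [h2, hRRidx] at h3
        have h4 : RR.relIndex H = 1 :=
          Nat.eq_of_mul_eq_mul_right hp.out.pos (by rw [h3, one_mul])
        exact Subgroup.relIndex_eq_one.1 h4
      intro g hgS hgN t ht
      have hg1 : g⁻¹ ∉ Subgroup.normalizer (T : Set G) := by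
        intro h
        have h' : g ∈ Subgroup.normalizer (T : Set G) := by
          have := (Subgroup.normalizer (T : Set G)).inv_mem h
          simpa using this
        have : (⟨g, hgS⟩ : S0) ∈ RR := hHR (by rw [hH, Subgroup.mem_subgroupOf]; exact h')
        exact hgN (Subgroup.mem_subgroupOf.1 this)
      rcases (hT.conj g⁻¹).le_or_le_centralizer hTN hTz with h | h
      · exfalso
        apply hg1
        have hcard : Nat.card T ≤ Nat.card (T.map (MulAut.conj g⁻¹).toMonoidHom) := by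
          rw [Subgroup.card_map_of_injective (MulAut.conj g⁻¹).injective]
        have heq : T.map (MulAut.conj g⁻¹).toMonoidHom = T :=
          Subgroup.eq_of_le_of_card_ge h hcard
        rw [Subgroup.mem_normalizer_iff]
        intro x
        constructor
        · intro hx
          have h5 : g⁻¹ * x * g⁻¹⁻¹ ∈ T.map (MulAut.conj g⁻¹).toMonoidHom := ⟨x, hx, by simp⟩
          rw [heq] at h5
          exact h5
        · intro hx
          have h5 : g⁻¹ * x * g⁻¹⁻¹ ∈ T.map (MulAut.conj g⁻¹).toMonoidHom := by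
            rw [heq]
            exact hx
          obtain ⟨t', ht', he⟩ := h5
          have he' : g⁻¹ * t' * g⁻¹⁻¹ = g⁻¹ * x * g⁻¹⁻¹ := by simpa using he
          have : t' = x := mul_left_cancel (mul_right_cancel he')
          rw [← this]
          exact ht'
      · have h5 : g⁻¹ * t * g ∈ T.map (MulAut.conj g⁻¹).toMonoidHom := ⟨t, ht, by simp⟩
        exact h h5
    -- the transfer lemma
    set Q : Subgroup S0 := T.subgroupOf S0 with hQ
    set Zs : Subgroup S0 := CT.subgroupOf S0 with hZs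
    have hQR : Q ≤ RR := fun x hx =>
      Subgroup.mem_subgroupOf.2 (hTN (Subgroup.mem_subgroupOf.1 hx))
    have hZR : Zs ≤ RR := fun x hx =>
      Subgroup.mem_subgroupOf.2 (hCTN (Subgroup.mem_subgroupOf.1 hx))
    have hTsub : T.IsSubnormal :=
      Subgroup.IsSubnormal.step T N hTN hN.isSubnormal hTz.normal_subgroupOf
    have hCTsub : CT.IsSubnormal :=
      Subgroup.IsSubnormal.step CT N hCTN hN.isSubnormal hCTz.normal_subgroupOf
    have hsyl := sylow_inf_sup_subnormal P T CT hTsub hCTsub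
    have hcommG : ∀ a ∈ T ⊓ S0, ∀ b ∈ CT ⊓ S0, a * b = b * a := by
      intro a ha b hb
      have := (Subgroup.mem_inf.1 (Subgroup.mem_inf.1 hb).1).2
      rw [Subgroup.mem_centralizer_iff] at this
      exact this a ha.1
    have hgenG : ∀ r ∈ N ⊓ S0, ∃ a ∈ T ⊓ S0, ∃ b ∈ CT ⊓ S0, r = a * b := by
      intro r hr
      have h1 : r ∈ (T ⊔ CT) ⊓ S0 := ⟨hsupT hr.1, hr.2⟩
      rw [hsyl] at h1
      exact exists_mul_of_mem_sup_of_commute hcommG h1
    have hgen : ∀ r ∈ RR, ∃ q ∈ Q, ∃ z ∈ Zs, r = q * z := by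
      intro r hr
      obtain ⟨a, ha, b, hb, hab⟩ := hgenG r ⟨Subgroup.mem_subgroupOf.1 hr, r.2⟩
      exact ⟨⟨a, ha.2⟩, Subgroup.mem_subgroupOf.2 ha.1, ⟨b, hb.2⟩,
        Subgroup.mem_subgroupOf.2 hb.1, Subtype.ext hab⟩
    have hQZ : ∀ x, x ∈ Q → x ∈ Zs → x = 1 := by
      intro x hxQ hxZ
      have : (x : G) ∈ T ⊓ CT :=
        ⟨Subgroup.mem_subgroupOf.1 hxQ, Subgroup.mem_subgroupOf.1 hxZ⟩
      rw [hinfT, Subgroup.mem_bot] at this
      exact Subtype.ext this
    have hcomm : ∀ q ∈ Q, ∀ z ∈ Zs, q * z = z * q := by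
      intro q hq z hz
      apply Subtype.ext
      have h2 := (Subgroup.mem_inf.1 (Subgroup.mem_subgroupOf.1 hz)).2
      rw [Subgroup.mem_centralizer_iff] at h2
      exact h2 q (Subgroup.mem_subgroupOf.1 hq)
    have hconj : ∀ g : S0, g ∉ RR → ∀ q ∈ Q, g⁻¹ * q * g ∈ Zs := by
      intro g hg q hq
      have hgN : (g : G) ∉ N := fun h => hg (Subgroup.mem_subgroupOf.2 h)
      rw [hZs, Subgroup.mem_subgroupOf, hCT, Subgroup.mem_inf]
      have hqT : (q : G) ∈ T := Subgroup.mem_subgroupOf.1 hq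
      refine ⟨?_, ?_⟩
      · have := hN.conj_mem (q : G) (hTN hqT) (g : G)⁻¹
        simpa using this
      · have := hβ1 g g.2 hgN q hqT
        simpa using this
    have hPG2 := mem_commutator_of_transfer RR Q Zs hQR hZR hgen hQZ hcomm hconj
    -- `T ∩ S0` is abelian
    set Dc : Subgroup S0 := commutator S0 with hDc
    have hrelR : Dc.relIndex RR = p := by
      have h3 := Subgroup.relIndex_mul_index hDR
      rw [hidx, hRRidx] at h3
      have : Dc.relIndex RR * p = p * p := by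
        rw [h3]
        ring
      exact Nat.eq_of_mul_eq_mul_right hp.out.pos this
    have hQab : ∀ a ∈ T ⊓ S0, ∀ b ∈ T ⊓ S0, a * b = b * a := by
      have h1 : Dc ⊓ Q ≤ ⁅Q, Q⁆ := fun u hu => hPG2 u hu.2 hu.1
      have h2 : (⁅Q, Q⁆).relIndex Q ∣ Dc.relIndex Q := by
        rw [← Subgroup.inf_relIndex_right Dc Q]
        exact Subgroup.relIndex_dvd_of_le_left Q h1
      have h3 : Dc.relIndex Q ∣ Dc.relIndex RR := by
        rw [← Subgroup.relIndex_sup_right Q Dc]
        have hle1 : Dc ≤ Q ⊔ Dc := le_sup_right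
        have hle2 : Q ⊔ Dc ≤ RR := sup_le hQR hDR
        exact Dvd.intro _ (Subgroup.relIndex_mul_relIndex Dc (Q ⊔ Dc) RR hle1 hle2)
      have h4 : (commutator Q).index ∣ p := by
        rw [← relIndex_commutator, ← hrelR]
        exact h2.trans h3
      have hQp : IsPGroup p Q := hS0p.to_subgroup Q
      have h5 : commutator Q ≤ ⊥ :=
        commutator_le_of_index_sup_dvd hQp ⊥ (by rwa [sup_bot_eq])
      intro a ha b hb
      have h6 : ⁅(⟨⟨a, ha.2⟩, Subgroup.mem_subgroupOf.2 ha.1⟩ : Q),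
          ⟨⟨b, hb.2⟩, Subgroup.mem_subgroupOf.2 hb.1⟩⁆ ∈ commutator Q := by
        rw [commutator_def]
        exact Subgroup.commutator_mem_commutator (Subgroup.mem_top _) (Subgroup.mem_top _)
      have h7 := h5 h6
      rw [Subgroup.mem_bot, commutatorElement_eq_one_iff_mul_comm] at h7
      have := congrArg (fun x : Q => ((x : S0) : G)) h7
      simpa using this
    -- commutators of elements of `N ∩ S0` lie in `C_N(T)`
    have hβ2 : ∀ a ∈ N ⊓ S0, ∀ b ∈ N ⊓ S0, a * b * a⁻¹ * b⁻¹ ∈ CT := by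
      intro a ha b hb
      obtain ⟨q, hq, z, hz, rfl⟩ := hgenG a ha
      obtain ⟨q', hq', z', hz', rfl⟩ := hgenG b hb
      have e1 : z * q' = q' * z := (hcommG q' hq' z hz).symm
      have e2 : z' * q = q * z' := (hcommG q hq z' hz').symm
      have e3 : q' * q = q * q' := hQab q' hq' q hq
      have hw : (z * z') * (z' * z)⁻¹ ∈ CT :=
        CT.mul_mem (CT.mul_mem hz.1 hz'.1) (CT.inv_mem (CT.mul_mem hz'.1 hz.1))
      have hu : q * q' ∈ N := N.mul_mem (hTN hq.1) (hTN hq'.1)
      have hmem := hCTz (q * q') hu _ hw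
      have f1 : q * z * (q' * z') = (q * q') * (z * z') := by
        calc q * z * (q' * z') = q * (z * q') * z' := by group
          _ = q * (q' * z) * z' := by rw [e1]
          _ = (q * q') * (z * z') := by group
      have f2 : q' * z' * (q * z) = (q * q') * (z' * z) := by
        calc q' * z' * (q * z) = q' * (z' * q) * z := by group
          _ = q' * (q * z') * z := by rw [e2]
          _ = (q' * q) * (z' * z) := by group
          _ = (q * q') * (z' * z) := by rw [e3]
      have e : q * z * (q' * z') * (q * z)⁻¹ * (q' * z')⁻¹ =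
          (q * q') * ((z * z') * (z' * z)⁻¹) * (q * q')⁻¹ := by
        calc q * z * (q' * z') * (q * z)⁻¹ * (q' * z')⁻¹
            = (q * z * (q' * z')) * (q' * z' * (q * z))⁻¹ := by group
          _ = ((q * q') * (z * z')) * ((q * q') * (z' * z))⁻¹ := by rw [f1, f2]
          _ = (q * q') * ((z * z') * (z' * z)⁻¹) * (q * q')⁻¹ := by group
      rw [e]
      exact hmem
    intro a ha b hb
    have hc : a * b * a⁻¹ * b⁻¹ ∈ B1 := by
      rw [hB1, Subgroup.mem_inf]
      refine ⟨?_, ?_⟩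
      · exact N.mul_mem (N.mul_mem (N.mul_mem ha.1 hb.1) (N.inv_mem ha.1)) (N.inv_mem hb.1)
      · rw [Subgroup.mem_centralizer_iff]
        rintro _ ⟨s, hs, t, ht, rfl⟩
        have ha' : s⁻¹ * a * s ∈ N ⊓ S0 := by
          refine ⟨?_, S0.mul_mem (S0.mul_mem (S0.inv_mem hs) ha.2) hs⟩
          have := hN.conj_mem a ha.1 s⁻¹
          simpa using this
        have hb' : s⁻¹ * b * s ∈ N ⊓ S0 := by
          refine ⟨?_, S0.mul_mem (S0.mul_mem (S0.inv_mem hs) hb.2) hs⟩
          have := hN.conj_mem b hb.1 s⁻¹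
          simpa using this
        have h1 := (Subgroup.mem_inf.1 (hβ2 _ ha' _ hb')).2
        rw [Subgroup.mem_centralizer_iff] at h1
        have h2 := h1 t ht
        have e : (s⁻¹ * a * s) * (s⁻¹ * b * s) * (s⁻¹ * a * s)⁻¹ * (s⁻¹ * b * s)⁻¹ =
            s⁻¹ * (a * b * a⁻¹ * b⁻¹) * s := by group
        rw [e] at h2
        calc s * t * s⁻¹ * (a * b * a⁻¹ * b⁻¹)
            = s * (t * (s⁻¹ * (a * b * a⁻¹ * b⁻¹) * s)) * s⁻¹ := by group
          _ = s * ((s⁻¹ * (a * b * a⁻¹ * b⁻¹) * s) * t) * s⁻¹ := by rw [h2]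
          _ = (a * b * a⁻¹ * b⁻¹) * (s * t * s⁻¹) := by group
    rw [hB1bot, Subgroup.mem_bot] at hc
    calc a * b = (a * b * a⁻¹ * b⁻¹) * (b * a) := by group
      _ = b * a := by rw [hc, one_mul]

end Cfsg.Agent.Helper5.PSq
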