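import Mathlib
import Cfsg.Agent.Helper5.PSqA
import Cfsg.Agent.Helper5.PSqF
import Cfsg.Agent.Helper5.PSqI

set_option autoImplicit false
set_option maxHeartbeats 400000

/-!
helper5: S4587, part J.  Assembly of both directions.
-/

namespace Cfsg.Agent.Helper5.PSq

open scoped commutatorElement

variable {G : Type*} [Group G] [Finite G]

/-- the direction `⇐`. -/
theorem relIndex_of_exists {p : ℕ} [hp : Fact p.Prime] (P : Sylow p G)
    (hbig : p ^ 2 ∣ Nat.card G) (x : G) (hx : ∃ k : ℕ, orderOf x = p ^ k)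
    (hfac : (Nat.card (Subgroup.centralizer ({x} : Set G))).factorization p = 2) :
    (⁅(P : Subgroup G), (P : Subgroup G)⁆).relIndex (P : Subgroup G) = p ^ 2 := by
  obtain ⟨g, hgP, hcard⟩ := exists_conj_extremal P x hx
  rw [card_centralizer_conj, hfac, card_inf_centralizer (P : Subgroup G) _ hgP] at hcard
  rw [relIndex_commutator]
  have hsq : p ^ 2 ∣ Nat.card (P : Subgroup G) := by
    rw [P.card_eq_multiplicity]
    apply pow_dvd_pow
    exact (hp.out.pow_dvd_iff_le_factorization Nat.card_pos.ne').1 hbig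
  exact index_commutator_of_centralizer P.isPGroup' hsq ⟨g * x * g⁻¹, hgP⟩ (by rw [hcard])

/-- the direction `⇒`. -/
theorem exists_of_relIndex {p : ℕ} [hp : Fact p.Prime] (P : Sylow p G)
    (hcore : Cfsg.pPrimeCore p G = ⊥)
    (hcore' : (⁅(P : Subgroup G), (P : Subgroup G)⁆).normalCore = ⊥)
    (hnas : ¬ ∃ S : Subgroup G, S.Normal ∧ IsSimpleGroup S ∧ ¬ IsMulCommutative S ∧
      Subgroup.centralizer (S : Set G) = ⊥)
    (hrel : (⁅(P : Subgroup G), (P : Subgroup G)⁆).relIndex (P : Subgroup G) = p ^ 2) :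
    ∃ x : G, (∃ k : ℕ, orderOf x = p ^ k) ∧
      (Nat.card (Subgroup.centralizer ({x} : Set G))).factorization p = 2 := by
  classical
  have hidx : (commutator (P : Subgroup G)).index = p ^ 2 := by
    rw [← relIndex_commutator]
    exact hrel
  set S0 : Subgroup G := (P : Subgroup G) with hS0
  have hS0p : IsPGroup p S0 := P.isPGroup'
  have hcardP : Nat.card S0 = p ^ (Nat.card G).factorization p := P.card_eq_multiplicity
  by_cases hc2 : Nat.card S0 = p ^ 2
  · refine ⟨1, ⟨0, by simp⟩, ?_⟩
    have h1 : Subgroup.centralizer ({1} : Set G) = ⊤ := by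
      rw [eq_top_iff]
      intro g _
      rw [mem_centralizer_singleton]
      simp
    rw [h1, Subgroup.card_top]
    rw [hcardP] at hc2
    exact Nat.pow_right_injective hp.out.two_le hc2
  · have hDne : commutator S0 ≠ ⊥ := by
      intro h
      rw [h, Subgroup.index_bot] at hidx
      exact hc2 hidx
    -- a minimal normal subgroup
    have hfin : {M : Subgroup G | M.Normal ∧ M ≠ ⊥}.Finite := Set.toFinite _
    have hne : {M : Subgroup G | M.Normal ∧ M ≠ ⊥}.Nonempty := by
      refine ⟨⊤, inferInstance, ?_⟩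
      intro h
      apply hDne
      rw [eq_bot_iff]
      intro x _
      rw [Subgroup.mem_bot]
      apply Subtype.ext
      have : (x : G) ∈ (⊤ : Subgroup G) := Subgroup.mem_top _
      rw [h, Subgroup.mem_bot] at this
      exact this
    obtain ⟨N, hNmem, hNmin⟩ :=
      Set.exists_min_image _ (fun M : Subgroup G => Nat.card M) hfin hne
    haveI hN : N.Normal := hNmem.1
    have hN1 : N ≠ ⊥ := hNmem.2
    have hmin : ∀ M : Subgroup G, M.Normal → M ≤ N → M = ⊥ ∨ M = N := by
      intro M hM hMN
      by_cases hM1 : M = ⊥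
      · exact Or.inl hM1
      · exact Or.inr (Subgroup.eq_of_le_of_card_ge hMN (hNmin M ⟨hM, hM1⟩))
    have hDle : ∀ M : Subgroup G, M.Normal → M ≠ ⊥ →
        commutator S0 ≤ M.subgroupOf S0 ∧ ¬ (M.subgroupOf S0 ≤ commutator S0) := by
      intro M hM hM1
      haveI := hM
      have hT2 := not_inf_le_commutator p P hcore hcore' M hM1
      have hK : ¬ M.subgroupOf S0 ≤ commutator S0 := by
        intro hle
        apply hT2
        intro x hx
        have h1 : (⟨x, hx.2⟩ : S0) ∈ commutator S0 := hle (Subgroup.mem_subgroupOf.2 hx.1)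
        rw [← Subgroup.map_subtype_commutator]
        exact ⟨⟨x, hx.2⟩, h1, rfl⟩
      haveI : (M.subgroupOf S0).Normal := hM.subgroupOf S0
      exact ⟨commutator_le_of_not_le hS0p hidx _ hK, hK⟩
    have hDR := (hDle N hN hN1).1
    have hRidx : (N.subgroupOf S0).index ∣ p :=
      index_dvd_of_lt (commutator S0) _ hidx hDR (hDle N hN hN1).2
    have hNle : ∀ M : Subgroup G, M.Normal → M ≠ ⊥ → N ≤ M := by
      intro M hM hM1
      haveI := hM
      have hMN : (M ⊓ N).Normal := inferInstance
      rcases hmin (M ⊓ N) hMN inf_le_right with h | h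
      · exfalso
        apply hDne
        rw [eq_bot_iff]
        intro x hx
        have h1 := (hDle M hM hM1).1 hx
        have h2 := hDR hx
        have h3 : (x : G) ∈ M ⊓ N :=
          ⟨Subgroup.mem_subgroupOf.1 h1, Subgroup.mem_subgroupOf.1 h2⟩
        rw [h, Subgroup.mem_bot] at h3
        rw [Subgroup.mem_bot]
        exact Subtype.ext h3
      · rw [← h]
        exact inf_le_left
    have hRab : ∀ a ∈ N ⊓ S0, ∀ b ∈ N ⊓ S0, a * b = b * a := by
      by_cases hNab : ∀ a ∈ N, ∀ b ∈ N, a * b = b * a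
      · intro a ha b hb
        exact hNab a ha.1 b hb.1
      · have hZ : Subgroup.centralizer (N : Set G) = ⊥ := by
          by_contra hC
          apply hNab
          have hle := hNle _ (inferInstance : (Subgroup.centralizer (N : Set G)).Normal) hC
          intro a ha b hb
          have h1 := hle hb
          rw [Subgroup.mem_centralizer_iff] at h1
          exact h1 a ha
        exact inf_sylow_abelian_of_nonabelian P hcore N hmin hN1 hZ hnas hidx hDne hDR hRidx
    set RR : Subgroup S0 := N.subgroupOf S0 with hRR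
    haveI hRRn : RR.Normal := hN.subgroupOf S0
    have hRRab : ∀ a ∈ RR, ∀ b ∈ RR, a * b = b * a := by
      intro a ha b hb
      apply Subtype.ext
      exact hRab a ⟨Subgroup.mem_subgroupOf.1 ha, a.2⟩ b ⟨Subgroup.mem_subgroupOf.1 hb, b.2⟩
    have hRRidx : RR.index = p := by
      rcases (Nat.dvd_prime hp.out).1 hRidx with h1 | h1
      · exfalso
        have htop : RR = ⊤ := Subgroup.index_eq_one.1 h1
        apply hDne
        rw [eq_bot_iff, commutator_eq_closure, Subgroup.closure_le]
        rintro _ ⟨a, b, rfl⟩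
        rw [SetLike.mem_coe, Subgroup.mem_bot, commutatorElement_eq_one_iff_mul_comm]
        exact hRRab a (by rw [htop]; exact Subgroup.mem_top a) b
          (by rw [htop]; exact Subgroup.mem_top b)
      · exact h1
    obtain ⟨y0, hy0⟩ : ∃ y0 : S0, y0 ∉ RR := by
      by_contra hcon
      rw [not_exists] at hcon
      have h1 : RR = ⊤ := by
        rw [eq_top_iff]
        intro x _
        by_contra hx
        exact hcon x hx
      rw [h1, Subgroup.index_top] at hRRidx
      exact hp.out.one_lt.ne hRRidx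
    have hy0ord : ∃ k : ℕ, orderOf (y0 : G) = p ^ k := by
      obtain ⟨k, hk⟩ := (IsPGroup.iff_orderOf.1 hS0p) y0
      exact ⟨k, by rw [Subgroup.orderOf_coe]; exact hk⟩
    obtain ⟨g, hgP, hcard⟩ := exists_conj_extremal P (y0 : G) hy0ord
    set x : G := g * (y0 : G) * g⁻¹ with hx
    have hxN : x ∉ N := by
      intro h
      apply hy0
      rw [hRR, Subgroup.mem_subgroupOf]
      have h1 := hN.conj_mem x h g⁻¹
      have h2 : g⁻¹ * x * g⁻¹⁻¹ = (y0 : G) := by
        rw [hx]
        group
      rw [h2] at h1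
      exact h1
    have hxRR : (⟨x, hgP⟩ : S0) ∉ RR := fun h => hxN (Subgroup.mem_subgroupOf.1 h)
    have hL3 := card_centralizer_of_abelian_index_p RR hRRab hRRidx hidx ⟨x, hgP⟩ hxRR
    rw [card_inf_centralizer S0 x hgP, hL3] at hcard
    refine ⟨x, ?_, ?_⟩
    · obtain ⟨k, hk⟩ := (IsPGroup.iff_orderOf.1 hS0p) ⟨x, hgP⟩
      exact ⟨k, by rw [← hk, Subgroup.orderOf_mk]⟩
    · exact (Nat.pow_right_injective hp.out.two_le hcard).symm

end Cfsg.Agent.Helper5.PSq
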