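import Cfsg.Agent.Helper5.TC2A

/-! generated coset table (generator 0): PThBTC -/

set_option autoImplicit false
set_option Elab.async false

namespace Cfsg.Agent.Helper5.PThBTC
open Cfsg.Agent.Helper5.TC

def ct0_0 : ℕ := 0x7700007600007500007400007300007200007100007000006f00006e00006d00006c00006b00006a00006900006800006700006600006500006400006300006200005200005100005000004f00004e00004d00004c00005a00005900005800005700005600005500005400005300006100006000005f00005e00005d00005c00005b00004000003f00003e00003d00003c00003b00004500004400004300004200004100004b00004a00004900004800004700004600003100003000002f00002e00002d00003500003400003300003200003a00003900003800003700003600002500002400002300002200002800002700002600002c00002b00002a00002900001b00001a00001900001e00001d00001c00002100002000001f00001300001200001600001500001400001800001700000c00001000000f00000e00000d00001100000b00000a000009000008000007000006000005000004000003000002000001000000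
def ctSel0 (c : ℕ) : ℕ := ct0_0
def ct0F (v : ℕ) : ℕ := Nat.rec (motive := fun _ => ℕ) 0 (fun c _ => Nat.mod (Nat.shiftRight (ctSel0 c) (Nat.mul 24 (Nat.mod v 682))) 16777216) (Nat.add (Nat.div v 682) 1)

end Cfsg.Agent.Helper5.PThBTC
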