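import Cfsg.Agent.Helper5.TC2A

/-! generated certificate data (A): PThBTC -/

set_option autoImplicit false
set_option Elab.async false

namespace Cfsg.Agent.Helper5.PThBTC
open Cfsg.Agent.Helper5.TC

def par_0 : ℕ := 0x8700008600008500006f00006e00006d00006b00006a00006a00006a00006700006700006600006500006400006200006200006100006100006000005f00005e00005d00005c00005b00005a00005900005800005700005700005600005500005500005500005400005400005300005200005100005000004f00004e00004d00004c00004b00004a00004900004800004700004600004600004500004400004300004300004200004200004200004100004000003f00003e00003d00003c00003b00003b00003a00003900003800003700003600003600003500003400003400003400003200003100003000002f00002e00002d00002d00002c00002b00002a00002900002900002800002800002700002600002500002400002300002200002200002100002000001f00001f00001f00001d00001c00001b00001a00001900001900001800001700001700001600001500001400001300001200001200001100001100000f00000e00000d00000c00000c00000c00000b00000a000009000009000009000007000006000006000005000004000004000002000002000001000001000000000000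
def parSel (c : ℕ) : ℕ := par_0
def parF (v : ℕ) : ℕ := Nat.rec (motive := fun _ => ℕ) 0 (fun c _ => Nat.mod (Nat.shiftRight (parSel c) (Nat.mul 24 (Nat.mod v 682))) 16777216) (Nat.add (Nat.div v 682) 1)
def gen_0 : ℕ := 0x6000800080006000800080008000700060003000400010002000300050007000600040001000200030005000600070008000500060008000800070008000700060003000700050001000400020003000500060007000800020003000500060008000800070006000800070006000700050004000200020003000500060008000800070003000500060008000700060008000700050002000300030005000600080007000600050006000800070005000700030003000500050006000800070005000600080007000300010005000600060008000700030008000700020005000600080008000700020007000400060008000700070004000000060008000700040001000800070002000800070003000700050007000600080000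
def genSel (c : ℕ) : ℕ := gen_0
def genF (v : ℕ) : ℕ := Nat.rec (motive := fun _ => ℕ) 0 (fun c _ => Nat.mod (Nat.shiftRight (genSel c) (Nat.mul 16 (Nat.mod v 1024))) 65536) (Nat.add (Nat.div v 1024) 1)

end Cfsg.Agent.Helper5.PThBTC
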