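import Cfsg.Agent.Helper5.TC2A

/-! generated certificate data (ranks of generator 0): PThBTC -/

set_option autoImplicit false
set_option Elab.async false

namespace Cfsg.Agent.Helper5.PThBTC
open Cfsg.Agent.Helper5.TC

def rk0_0 : ℕ := 0x5a800059800058800057a00056e00056200055600054800053a0004f0ffffffffffffffffffffffffffffffffffffffffff0004e00004d20004d00004ce0004cc0004ca0004c80004c60004b80004ac0004a000049400048800047e00047600046e00046400045800044effffff0004e10004d10004cf0004cd0004cb0004c90004c700044200043400042800041c0004100004040003f80003ec0003e20003d80003ce0003c40003bc0003b00003a200044300043500042900041d0004110004050003f900034200033600032c00032200031800030e0003020002f80002ee0002e40002d800034300033700032d00032300031900030f00029000028400027a00027000026600025a00025000024400023800029100028500027b0002710002670001fa0001ee0001e40001da0001ce0001c40001b80001fb0001ef0001e50001db00018400017800016e00016000015600014a00018500017900016f0001200001140001080000fe0000f20001210001150000000000c40000b80000ae0000a200000000008c00008000007600006800005c00005000004400003800002a00001e000012000002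
def rkSel0 (c : ℕ) : ℕ := rk0_0
def rk0F (v : ℕ) : ℕ := Nat.rec (motive := fun _ => ℕ) 0 (fun c _ => Nat.mod (Nat.shiftRight (rkSel0 c) (Nat.mul 24 (Nat.mod v 682))) 16777216) (Nat.add (Nat.div v 682) 1)

end Cfsg.Agent.Helper5.PThBTC
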