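import Cfsg.Agent.Helper5.TC2A

/-! generated certificate data (ranks of generator 1): PThBTC -/

set_option autoImplicit false
set_option Elab.async false

namespace Cfsg.Agent.Helper5.PThBTC
open Cfsg.Agent.Helper5.TC

def rk1_0 : ℕ := 0x5aa00059a00058a00057c00057000056400055800054a00053c0004f2ffffff000000ffffffffffffffffffffffffffffffffffff000000ffffffffffffffffffffffffffffff0005020004ba0004ae0004a200049600048a00048000047800047000046600045a000450000000ffffff000000ffffffffffffffffffffffffffffff0000000004360004bb0004af0004a300049700048b0003ee0003e40003da0003d00003c60003be0003b200000000039600038a00037e00037200036600035a00034e0003440003380003ef0003e50003db0003d10003040002fa0002f00002e600038b0002ce0002c40002ba0002b00002a600029c0002920002860003050002fb0002f100025c0002520002cf0002c500022e00022400021a0002100002060001fc0001f000025d00025300000000022f0002250001ae0001a400019a00019000018600017a0000000001620001af0001a500014000013600012c00012200011600010a0001410001370000e80000de0000d20000c60000ba0000e90000df00000000008e00008200000000006a00005e00005200004600003a00002c000020000014000004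
def rkSel1 (c : ℕ) : ℕ := rk1_0
def rk1F (v : ℕ) : ℕ := Nat.rec (motive := fun _ => ℕ) 0 (fun c _ => Nat.mod (Nat.shiftRight (rkSel1 c) (Nat.mul 24 (Nat.mod v 682))) 16777216) (Nat.add (Nat.div v 682) 1)

end Cfsg.Agent.Helper5.PThBTC
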