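import Cfsg.Agent.Helper5.TC2A

/-! generated certificate data (ranks of generator 2): PThBTC -/

set_option autoImplicit false
set_option Elab.async false

namespace Cfsg.Agent.Helper5.PThBTC
open Cfsg.Agent.Helper5.TC

def rk2_0 : ℕ := 0x5ac00059c00058c00057e00057200056600055a00054c00053e0004fa0004ee0004ec000000ffffffffffffffffffffffffffffff0004d4000000ffffffffffffffffffffffffffffff0004bc00057f0005730005670004fb00048200047a00047200046800045c0004520004ed0004ef000000000000ffffffffffffffffffffffff00000000000000042a00041e0004120004060003fa0003f000048300047b0004730003c80003c00003b400000000000000000000038000037400036800035c00035000000000042b00032e00032400031a0003100003060003c90003c10000000000000000000003810002bc0002b20002a800029e00029400032f00027c00027200026800025e00000000024600023a0002300002bd00021c0002120002080001fe00027d0001e60001dc0001d00001c60001ba0001b000021d00019c0001920001880001e70000000001c700015800014c00014200019d0000000001240000000001590001000000f40000ea0000000000d40000c80001010000b00000a40000980000900000b100000000006c00006000000000004800003c00002e000022000016000006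
def rkSel2 (c : ℕ) : ℕ := rk2_0
def rk2F (v : ℕ) : ℕ := Nat.rec (motive := fun _ => ℕ) 0 (fun c _ => Nat.mod (Nat.shiftRight (rkSel2 c) (Nat.mul 24 (Nat.mod v 682))) 16777216) (Nat.add (Nat.div v 682) 1)

end Cfsg.Agent.Helper5.PThBTC
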