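import Cfsg.Agent.Helper5.TC2A

/-! generated certificate data (ranks of generator 3): PThBTC -/

set_option autoImplicit false
set_option Elab.async false

namespace Cfsg.Agent.Helper5.PThBTC
open Cfsg.Agent.Helper5.TC

def rk3_0 : ℕ := 0x5ae00059e00058e00058000058f00059f00055c00054e000540000000ffffffffffff0004ea000000ffffffffffffffffffffffff0004d6ffffff000000ffffffffffffffffffffffff0005360004b00004a400049800048c00048400054100054f00000000045e000000ffffffffffff0004eb000000000000ffffffffffffffffff0004440000000000000004200004140004080003fc0004b10003e60003dc0003d20003ca0000000003b60003a400039800000000000000037600036a00035e00035200000000000000042100032600031c0003120003e70002fc0002f20002e80000000000000000000003770002b40002aa0002a000000000028800032700027400026a0002fd0000000000000000000000000002260002b500021400020a0002000001f20002750000000000000000000001bc0001b20001a600021500000000018a00017c00000000016400015a00014e00014400013800000000012600011800010c0001020000f60000ec0000e00000d600010d0000bc0000b20000a600009a0000bd00008400007800006e00008500000000004a000000000030000024000018000008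
def rkSel3 (c : ℕ) : ℕ := rk3_0
def rk3F (v : ℕ) : ℕ := Nat.rec (motive := fun _ => ℕ) 0 (fun c _ => Nat.mod (Nat.shiftRight (rkSel3 c) (Nat.mul 24 (Nat.mod v 682))) 16777216) (Nat.add (Nat.div v 682) 1)

end Cfsg.Agent.Helper5.PThBTC
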