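import Cfsg.Agent.Helper5.TC2A

/-! generated certificate data (ranks of generator 5): PThBTC -/

set_option autoImplicit false
set_option Elab.async false

namespace Cfsg.Agent.Helper5.PThBTC
open Cfsg.Agent.Helper5.TC

def rk5_0 : ℕ := 0x5b20005a20005920005820005740005680005a30005520005440004f6ffffffffffffffffff0004e8000000ffffffffffffffffff0004d8ffffffffffff000000ffffffffffffffffff0000000005340004a800049c00049000057500047c00047400046a000553000000ffffffffffffffffff0004e9000000000000ffffffffffff00044600043a00000000000000041800040c0004000000000004a90003e00003d600047d0000000000000003a800039a00038e00000000000000036e00036200035600034600000000000000041900032000031600030a0003e10000000000000002dc0002d000000000000000036f0002ae0002a40000000000000002800003210000000002620000000002480000000000000000000002200002af0000000000000001f60001ea0000000001d40000000000000000000001aa0001a000000000018c00018000017200000000000000015200014600013c00013000012800011a0000000001040000fa0000ee0000e20000d80000cc0000c00000b40000a800009c00009400008800007a00009500006400005600006500000000003400000000001c00000c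
def rkSel5 (c : ℕ) : ℕ := rk5_0
def rk5F (v : ℕ) : ℕ := Nat.rec (motive := fun _ => ℕ) 0 (fun c _ => Nat.mod (Nat.shiftRight (rkSel5 c) (Nat.mul 24 (Nat.mod v 682))) 16777216) (Nat.add (Nat.div v 682) 1)

end Cfsg.Agent.Helper5.PThBTC
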