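import Cfsg.Agent.Helper5.TC2A

/-! generated certificate data (ranks of generator 6): PThBTC -/

set_option autoImplicit false
set_option Elab.async false

namespace Cfsg.Agent.Helper5.PThBTC
open Cfsg.Agent.Helper5.TC

def rk6_0 : ℕ := 0x5a400059400000000057600056a0000000005540000000004ffffffffffffffffffffffffff0004e6ffffff000000ffffff0004daffffffffffffffffff000000ffffffffffff0004c000000000050400049e0004920000000004fe000000000555000462000000ffffffffffffffffffffffff0004e7000000ffffff00000000044800043c00042e00000000000000040e0004020000000000000004930000000003cc0000000003b80003aa00039c00039000038400000000000000036400035800034800033c0000000000000004030000000000000003000000000002ea0002de0002d20002c800000000000000035900000000029600000000000000027800000000026400025600024a00023e0002320000000000000002180000000000000000000001ec0001e00001d60001c80000000000000000000001a200019600000000018200017400016800000000000000000000013e00013200012a00011c0000000000000000fc0000f00000e40000da0000000000000000b60000aa00009e00000000008a00007c00007200006600005800004e00004000004f00000000000000000e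
def rkSel6 (c : ℕ) : ℕ := rk6_0
def rk6F (v : ℕ) : ℕ := Nat.rec (motive := fun _ => ℕ) 0 (fun c _ => Nat.mod (Nat.shiftRight (rkSel6 c) (Nat.mul 24 (Nat.mod v 682))) 16777216) (Nat.add (Nat.div v 682) 1)

end Cfsg.Agent.Helper5.PThBTC
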