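import Cfsg.Agent.Helper5.TC2A

/-! generated certificate data (ranks of generator 7): PThBTC -/

set_option autoImplicit false
set_option Elab.async false

namespace Cfsg.Agent.Helper5.PThBTC
open Cfsg.Agent.Helper5.TC

def rk7_0 : ℕ := 0x5b40005a600059600058400057800056c000560000000000547000501ffffffffffffffffffffffffffffff000000ffffffffffff0004dcffffffffffffffffffffffff000000ffffff0004c20004b40004aa000506000000000486000000000500000546000000000000ffffffffffffffffffffffffffffffffffff00000000000000044a00043e00043000042400041a0000000000000003f40003ea0000000000000000000000000000000003ac00039e00039200038600037a00037000000000000000034a00033e00033200032a00000000000000030c0000000000000000000002e00002d40002ca0002c00002b800000000000000029800028c00028200000000000000000000000000024c00024000023400022a0002220000000000000002020001f80000000000000000000001ca0001c00001b40001ac00000000000000018e00000000000000016a00015c0001540001480000000000000000000000000001100001060000000000000000000000000000ce0000c2000000000000000000000096000000000000000074000000000000000000000000000000000000000000000010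
def rkSel7 (c : ℕ) : ℕ := rk7_0
def rk7F (v : ℕ) : ℕ := Nat.rec (motive := fun _ => ℕ) 0 (fun c _ => Nat.mod (Nat.shiftRight (rkSel7 c) (Nat.mul 24 (Nat.mod v 682))) 16777216) (Nat.add (Nat.div v 682) 1)

end Cfsg.Agent.Helper5.PThBTC
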