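import Cfsg.Agent.Helper5.TC2A

/-! generated certificate data (ranks of generator 8): PThBTC -/

set_option autoImplicit false
set_option Elab.async false

namespace Cfsg.Agent.Helper5.PThBTC
open Cfsg.Agent.Helper5.TC

def rk8_0 : ℕ := 0x5b60000000000000005860000000000000000000000000000000004f8ffffffffffffffffffffffffffffff0004e40004e2ffffff0004deffffffffffffffffffffffffffffff0000000004c40004b60000000000000004fc00000000000000000000046c000000000456ffffffffffffffffffffffffffffff0004e30004e500000000044c0004400004320004260000000000000000000003f60000000000000000000000000003c20003ba0003ae0003a000039400038800037c00000000000000000000034c0003400003340000000000000000000000000000000002f60002ec0002e20002d60002cc0002c200000000000000000000029a00028e00000000000000026e00000000025800024e00024200023600022c00000000000000020e0002040000000000000001e20001d80001cc0001c20001b600000000000000019800000000000000017600016c00015e00000000000000000000013400000000011e0001120000000000000000000000e60000dc0000d00000000000000000ac0000a000000000000000007e00000000000000005a000000000042000036000028000000000000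
def rkSel8 (c : ℕ) : ℕ := rk8_0
def rk8F (v : ℕ) : ℕ := Nat.rec (motive := fun _ => ℕ) 0 (fun c _ => Nat.mod (Nat.shiftRight (rkSel8 c) (Nat.mul 24 (Nat.mod v 682))) 16777216) (Nat.add (Nat.div v 682) 1)

end Cfsg.Agent.Helper5.PThBTC
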