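import Cfsg.Agent.Helper5.TC2A

/-! generated certificate data (targets of generator 1): PThBTC -/

set_option autoImplicit false
set_option Elab.async false

namespace Cfsg.Agent.Helper5.PThBTC
open Cfsg.Agent.Helper5.TC

def tg1_0 : ℕ := 0x8d00008c00008b00008a00008900008800008700008600008500008400000000006700000000008000007f00007e00007d00000000006100000000000000000000000000000000007000005f00005e00005d00005c00005b00006f00006e00006d00006c00006b00006a00005300006800008200006600006500006400006300006200007b00006000007400007300007200007100007000004900004800004700004600005600005500005400006900005200004100005000004f00004e00004d00004c00004b00004a00005a00005900005800005700003800003700003600004200005100003300003200003e00003d00003c00003b00003a00003900004500004400004300002a00002900004000003f00002700002600002f00002e00002d00002c00002b00003500003400001f00003100003000001d00001c00002300002200002100002000002800001e00002500002400001500001400001900001800001700001600001b00001a00000e00000d00001100001000000f00001300001200000900000b00000a00000c000008000007000006000005000004000003000002000001000000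
def tgSel1 (c : ℕ) : ℕ := tg1_0
def tg1F (v : ℕ) : ℕ := Nat.rec (motive := fun _ => ℕ) 0 (fun c _ => Nat.mod (Nat.shiftRight (tgSel1 c) (Nat.mul 24 (Nat.mod v 682))) 16777216) (Nat.add (Nat.div v 682) 1)

end Cfsg.Agent.Helper5.PThBTC
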