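import Cfsg.Agent.Helper5.TC2A

/-! generated certificate data (targets of generator 2): PThBTC -/

set_option autoImplicit false
set_option Elab.async false

namespace Cfsg.Agent.Helper5.PThBTC
open Cfsg.Agent.Helper5.TC

def tg2_0 : ℕ := 0x8d00008c00008b00007300007200007100008700008600008500007000006800006900006600000000007f00007e00007d00000000007b00006000000000007800007700007600007500007400008a00008900008800008400005900005800005700006c00006b00006a00008200008300005100008100006500006400006300006200004b00007a00004a00005e00005d00005c00005b00005a00006f00006e00006d00004400004300005400004100004000006700003f00004f00004e00004d00004c00006100005f00003900004800004700004600004500005600005500003400005300005200005000003000003d00003c00003b00003a00004900002b00003700003600003500004200003300003200003100003e00002400002e00002d00002c00003800002000002900002800001e00002600002500002f00001a00002200002100002a00001700002700001600001c00001b00002300001200001800001f00001d00000f00001400001300001900001100001000001500000a00000d00000c00000b00000e000006000008000007000009000005000004000003000002000001000000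
def tgSel2 (c : ℕ) : ℕ := tg2_0
def tg2F (v : ℕ) : ℕ := Nat.rec (motive := fun _ => ℕ) 0 (fun c _ => Nat.mod (Nat.shiftRight (tgSel2 c) (Nat.mul 24 (Nat.mod v 682))) 16777216) (Nat.add (Nat.div v 682) 1)

end Cfsg.Agent.Helper5.PThBTC
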