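import Cfsg.Agent.Helper5.TC2A

/-! generated certificate data (targets of generator 3): PThBTC -/

set_option autoImplicit false
set_option Elab.async false

namespace Cfsg.Agent.Helper5.PThBTC
open Cfsg.Agent.Helper5.TC

def tg3_0 : ℕ := 0x8d00008800008900008a00008b00008c00008700006d00006e00006a00000000000000006700006500000000007e00007d00007c00007b00000000005f00000000007700007600007500007400005a00007200007100007000006f00008500008600005500006b00008400006900006800008100005000008000006400006300006200006100004a00007900004900005d00005c00005b00007300004500005800005700005600006c00005400005300005200003f00006600003e00004e00004d00004c00003a00006000005e00003800004700004600005900003500004300004200003200003100005100004f00002f00003c00003b00004b00003900004800002a00003600004400002800002700004100004000003000003d00002300002d00002c00002b00003700001f00003400003300002600002500002400002e00001900002100002000002900001e00001d00001c00001b00001a00002200001800001700001000001500001400001300001200001100001600000b00000e00000d00000c00000f00000700000900000800000a000004000005000006000003000002000001000000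
def tgSel3 (c : ℕ) : ℕ := tg3_0
def tg3F (v : ℕ) : ℕ := Nat.rec (motive := fun _ => ℕ) 0 (fun c _ => Nat.mod (Nat.shiftRight (tgSel3 c) (Nat.mul 24 (Nat.mod v 682))) 16777216) (Nat.add (Nat.div v 682) 1)

end Cfsg.Agent.Helper5.PThBTC
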