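import Cfsg.Agent.Helper5.TC2A

/-! generated certificate data (targets of generator 4): PThBTC -/

set_option autoImplicit false
set_option Elab.async false

namespace Cfsg.Agent.Helper5.PThBTC
open Cfsg.Agent.Helper5.TC

def tg4_0 : ℕ := 0x8a00008900008800008d00008c00008b00006f00006e00006d00006c00006700000000000000008000007f00007e00007d00006100007b00000000007900007800007700007600007500007400007300007200007100007000008700008600008500008400005600005500006900005200008300006600006500006400006300006200007c00004b00005f00005e00005d00005c00005b00005a00005900005800005700006b00006a00004200005300006800004000005000004f00004e00004d00004c00006000003a00004900004800004700004600004500004400004300005400003300005100003100003e00003d00003c00003b00004a00002c00003800003700003600003500003400004100002700003f00002500002f00002e00002d00003900002100002a00002900002800003200001d00003000001b00002300002200002b00001800001f00001e00002600001500002400001300001900002000001100001600001c00000e00001a00000c00001700001000000f00001400000900001200000b00000a00000d000008000007000006000005000004000003000002000001000000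
def tgSel4 (c : ℕ) : ℕ := tg4_0
def tg4F (v : ℕ) : ℕ := Nat.rec (motive := fun _ => ℕ) 0 (fun c _ => Nat.mod (Nat.shiftRight (tgSel4 c) (Nat.mul 24 (Nat.mod v 682))) 16777216) (Nat.add (Nat.div v 682) 1)

end Cfsg.Agent.Helper5.PThBTC
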