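import Cfsg.Agent.Helper5.TC2A

/-! generated certificate data (targets of generator 5): PThBTC -/

set_option autoImplicit false
set_option Elab.async false

namespace Cfsg.Agent.Helper5.PThBTC
open Cfsg.Agent.Helper5.TC

def tg5_0 : ℕ := 0x8d00008700008b00008a00006f00008800008c00006b00008500008400008300008200000000006600006400007e00000000007c00007b00007a00000000005e00000000007600007500005a00007300005900007100007000008900005600006d00006c00008600005400006900006800006700008000004f00007f00006300006200006100006000004900007800004800005c00005b00007400007200004400005700006e00004200006a00005300005200005100003e00006500003d00004d00004c00004b00003900005f00005d00003700004600004500005800003400005500004100004000003000005000004e00002e00003b00002c00004a00003800004700002900003500004300003300002600002500003f00002f00003c00002200003a00002b00002a00003600002800001d00003200003100002400002300002d00002100002000001f00001600002700001c00001b00001a00001900001800001700001e00001500001400001300001200001100001000000f00000e00000d00000c00000800000a00000900000b000005000006000007000002000003000004000001000000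
def tgSel5 (c : ℕ) : ℕ := tg5_0
def tg5F (v : ℕ) : ℕ := Nat.rec (motive := fun _ => ℕ) 0 (fun c _ => Nat.mod (Nat.shiftRight (tgSel5 c) (Nat.mul 24 (Nat.mod v 682))) 16777216) (Nat.add (Nat.div v 682) 1)

end Cfsg.Agent.Helper5.PThBTC
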