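import Cfsg.Agent.Helper5.TC2A

/-! generated certificate data (targets of generator 6): PThBTC -/

set_option autoImplicit false
set_option Elab.async false

namespace Cfsg.Agent.Helper5.PThBTC
open Cfsg.Agent.Helper5.TC

def tg6_0 : ℕ := 0x8700008c00008b00006f00008900008800008d00006c00006a00006e00008300008200008100000000006500000000006200007c00007b00007a00007900000000005d00007600000000007400005900007200007100005800008a00008400005500008600006b00008500006900006800006700006600007f00004e00006300007d00006100006000005f00004800007700005c00004700004500007300007000004300005600006d00005400005300005200005100005000003d00006400004d00003c00004b00004a00003800005e00005b00003600005a00004400005700004200004100004000003f00002f00004f00004c00002d00003a00002b00004900003700004600003500003400003300003200003100002400003e00002e00003b00002100003900002a00002900002800002700001c00001b00003000002300002200002c00002000001f00001e00001500002600002500001a00001900001800001700000f00001d00001400001300001200001100000b00001600000e00000d00000c00001000000a000009000008000007000006000003000004000005000001000002000000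
def tgSel6 (c : ℕ) : ℕ := tg6_0
def tg6F (v : ℕ) : ℕ := Nat.rec (motive := fun _ => ℕ) 0 (fun c _ => Nat.mod (Nat.shiftRight (tgSel6 c) (Nat.mul 24 (Nat.mod v 682))) 16777216) (Nat.add (Nat.div v 682) 1)

end Cfsg.Agent.Helper5.PThBTC
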