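import Cfsg.Agent.Helper5.TC2A

/-! generated certificate data (targets of generator 8): PThBTC -/

set_option autoImplicit false
set_option Elab.async false

namespace Cfsg.Agent.Helper5.PThBTC
open Cfsg.Agent.Helper5.TC

def tg8_0 : ℕ := 0x8d00008600008500008a00006e00006d00006b00008c00008b00008400008300008200008100008000000000006300006400007c00007b00007a00007900007800000000000000005b00007400007300005800005700007000005600008900008800006c00008700006a00006900006800006700006600006500007d00007e00004c00006100006000005f00005e00004700004600007500005a00004400007200007100006f00005500005400005300005200005100005000004f00003c00003b00006200004b00004a00004900003700005d00005c00003500005900004300004200004100004000003f00003e00002e00004e00004d00003a00003900002a00004800003600004500003400003300003200003100003000002300003d00002d00002c00002000003800002900002800002700002600002500001a00002f00002200001800002b00001f00001e00001d00001400001300002400001900002100001700001600000e00001c00001b00001200001100001000000a00001500000d00000c00000700000f00000900000500000b000006000008000004000003000002000000000001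
def tgSel8 (c : ℕ) : ℕ := tg8_0
def tg8F (v : ℕ) : ℕ := Nat.rec (motive := fun _ => ℕ) 0 (fun c _ => Nat.mod (Nat.shiftRight (tgSel8 c) (Nat.mul 24 (Nat.mod v 682))) 16777216) (Nat.add (Nat.div v 682) 1)

end Cfsg.Agent.Helper5.PThBTC
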