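import Cfsg.Agent.Helper5.TC2A

/-! generated certificate data (ranks of generator 4): PThBTC -/

set_option autoImplicit false
set_option Elab.async false

namespace Cfsg.Agent.Helper5.PThBTC
open Cfsg.Agent.Helper5.TC

def rk4_0 : ℕ := 0x5b00005a00005900005b10005a100059100055e0005500005420004f4000000ffffffffffffffffffffffffffffffffffff000000000538ffffffffffffffffffffffffffffffffffff0004be0004b20004a600049a00048e00055f0005510005430004f5000460000454ffffff000000000000ffffffffffffffffffffffffffffff00000000043800042c00042200041600040a0003fe0003f20003e80003de0003d40004610004550000000003a600000000038c00038200037800036c00036000035400043900033a00033000032800031e0003140003080002fe0002f40000000002da00038d0002c60002be0002b60002ac0002a200033b00028a00027e00027600026c0002600002540002db00023c0002c700022800021e00021600020c00028b0001f40001e80001de0001d200023d0001be0002290001a800019e0001940001f500017e0001700001660001bf0001500001a900013a00012e00017f00000000010e0001510000f800013b0000000000000000ca0000be0000f900000000000000009200008600000000007000006200005400004c00003e00003200002600001a00000a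
def rkSel4 (c : ℕ) : ℕ := rk4_0
def rk4F (v : ℕ) : ℕ := Nat.rec (motive := fun _ => ℕ) 0 (fun c _ => Nat.mod (Nat.shiftRight (rkSel4 c) (Nat.mul 24 (Nat.mod v 682))) 16777216) (Nat.add (Nat.div v 682) 1)

end Cfsg.Agent.Helper5.PThBTC
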