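import Cfsg.Agent.Helper5.TC2A

/-! generated certificate data (A): PThDTC -/

set_option autoImplicit false
set_option Elab.async false

namespace Cfsg.Agent.Helper5.PThDTC
open Cfsg.Agent.Helper5.TC

def par_0 : ℕ := 0x3600003500003400003300003100002f00002f00002e00002d00002c00002b00002900002800002700002600002500002300002200002200002000001f00001f00001e00001c00001c00001a00001900001900001700001700001600001400001300001300001100001000001000000f00000e00000d00000c00000b00000b00000a000009000008000007000005000005000004000004000003000002000001000000000000
def parSel (c : ℕ) : ℕ := par_0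
def parF (v : ℕ) : ℕ := Nat.rec (motive := fun _ => ℕ) 0 (fun c _ => Nat.mod (Nat.shiftRight (parSel c) (Nat.mul 24 (Nat.mod v 682))) 16777216) (Nat.add (Nat.div v 682) 1)
def gen_0 : ℕ := 0x60005000300020004000400010004000200020003000300050003000500060005000600000005000600010005000600020006000600030006000300050006000500040006000500020006000500030005000300010003000200020004000400000004000100020003000500060000
def genSel (c : ℕ) : ℕ := gen_0
def genF (v : ℕ) : ℕ := Nat.rec (motive := fun _ => ℕ) 0 (fun c _ => Nat.mod (Nat.shiftRight (genSel c) (Nat.mul 16 (Nat.mod v 1024))) 65536) (Nat.add (Nat.div v 1024) 1)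

end Cfsg.Agent.Helper5.PThDTC
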