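import Cfsg.Agent.Helper5.TC2A

/-! generated certificate data (events 0): PThDTC -/

set_option autoImplicit false
set_option Elab.async false

namespace Cfsg.Agent.Helper5.PThDTC
open Cfsg.Agent.Helper5.TC

def ev_0 : ℕ := 0xd80469000000d80461000000d80455000000d80445000000d80431000000d80419000000d4045d000000d40451000000d40441000000d4042d000000d40415000000d00855000000d0084d000000d00439000000d00425000000d0040d000000cc0845000000cc0841000000c4083d000000cc0421000000cc0409000000c40861000000c4085d000000c4044d000000c40429000000c40411000000bc0861000000bc085d000000bc044d000000bc043d000000bc0411000000bc0831000000bc082d000000bc0825000000b40821000000bc0405000000b80861000000b8085d000000b8044d000000b8043d000000b80429000000b40845000000b40841000000ac0839000000b40409000000b00845000000b00841000000a40839000000b00421000000ac0855000000a00851000000ac084d000000ac0425000000ac040d000000a40855000000980851000000a4084d000000a40425000000940869000000a0045d000000a00441000000a0042d000000a004150000009c08550000008c08510000009c084d0000009c04390000009c040d00000088086900000098045d00000098044100000098042d0000009404610000009404550000009404450000009404310000009404190000007c08690000008c045d0000008c04410000008c041500000088046100000088045500000088044500000088043100000088081500000088081100000088080d0000008808090000007c080500000070086900000080045d00000080045100000080042d0000008004150000007c04610000007c04550000007c04450000007c04190000007c082d0000007c08290000007c0825000000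70082100000068086900000078045100000078044100000078042d00000078041500000070046100000070045500000070043100000070041900000070084100000068083d0000006408390000007004090000006804550000006804450000006804310000006804190000006404690000006404610000006404450000006404310000006404190000005808510000005c084d00000064042500000064040d0000005c04690000005c04450000005c04310000005c04190000004c08510000005c04390000005c04250000005c040d00000058045d00000058044100000058042d0000005804150000005004690000005004610000005004550000005004310000005004190000004c04410000004c042d0000004c04150000004c08610000004c044d0000004c043d0000004c04290000004c041100000044046900000044046100000044045500000044044500000044041900000040045d00000040045100000040042d0000004004150000004008450000003408390000004004210000004004090000003c04690000003c04610000003c04550000003c04450000003c043100000038045d00000038045100000038044100000038041500000034085500000034084d00000034042500000034040d00000030045d00000030045100000030044100000030042d0000002c08550000002c084d0000002c04390000002c040d0000002c08310000002c082d0000002c08290000002408210000002c040500000028085500000028084d0000002804390000002804250000002408450000002408410000001c083d00000024040900000020084500000020084100000014083d0000002004210000001c08610000001c085d0000001c044d0000001c04290000001c041100000014086100000014085d00000014044d00000014042900000014081900000014081500000014080d00000014080900000010080500000010086100000010085d00000010044d00000010043d00000010041100000010083100000010082d0000001008250000000c08210000000c08450000000c08410000000808390000000c040900000008085500000004085100000008084d00000008042500000008040d00000000086900000004045d00000004044100000004042d00000004041500000000046100000000045500000000044500000000043100000000041900000000008500000000008100000000007d000000000079000000000075000000000071000000000000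
def evSel0 (c : ℕ) : ℕ := ev_0

end Cfsg.Agent.Helper5.PThDTC
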