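import Cfsg.Agent.Helper5.TC2A

/-! generated certificate data (ranks of generator 0): PThDTC -/

set_option autoImplicit false
set_option Elab.async false

namespace Cfsg.Agent.Helper5.PThDTC
open Cfsg.Agent.Helper5.TC

def rk0_0 : ℕ := 0x1f00001e60001dc0001d20001c80001be0001b40001bf0001a20001a300019000019100017e00017400017f00016200015a00016300000000013e00013600000000012400011c00011400010c0001020000fa0000f20000ea0000e20000d80000d20000c80000be0000b60000ae0000bf00009c00009400009d00008400007a00008500006a00006b00005800005900000000003c00000000002c00002200001800000e000002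
def rkSel0 (c : ℕ) : ℕ := rk0_0
def rk0F (v : ℕ) : ℕ := Nat.rec (motive := fun _ => ℕ) 0 (fun c _ => Nat.mod (Nat.shiftRight (rkSel0 c) (Nat.mul 24 (Nat.mod v 682))) 16777216) (Nat.add (Nat.div v 682) 1)

end Cfsg.Agent.Helper5.PThDTC
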