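import Cfsg.Agent.Helper5.TC2A

/-! generated certificate data (ranks of generator 1): PThDTC -/

set_option autoImplicit false
set_option Elab.async false

namespace Cfsg.Agent.Helper5.PThDTC
open Cfsg.Agent.Helper5.TC

def rk1_0 : ℕ := 0x1f20001e80001de0001d40001ca0001cb0000000001aa00000000019a00019200018800018000018900016c00016400016d00015200014800014000015300000000012600011e00000000010e0001040000fc0000f40000ec0000e40000da0000d40000ca0000db0000b80000b00000a40000b900009600008c00009700000000007200000000006200005a00005000004600005100000000000000002400001a000010000004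
def rkSel1 (c : ℕ) : ℕ := rk1_0
def rk1F (v : ℕ) : ℕ := Nat.rec (motive := fun _ => ℕ) 0 (fun c _ => Nat.mod (Nat.shiftRight (rkSel1 c) (Nat.mul 24 (Nat.mod v 682))) 16777216) (Nat.add (Nat.div v 682) 1)

end Cfsg.Agent.Helper5.PThDTC
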