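import Cfsg.Agent.Helper5.TC2A

/-! generated certificate data (ranks of generator 2): PThDTC -/

set_option autoImplicit false
set_option Elab.async false

namespace Cfsg.Agent.Helper5.PThDTC
open Cfsg.Agent.Helper5.TC

def rk2_0 : ℕ := 0x1f40001ea0001e00000000000000001c00001b60001ac00000000000000000000000000018200017600016e00016600015c00015400014a00015d00013800012e0001280001390000000001100001060000000000f60000ee0000e60000f70000d60000cc0000c00000d70000000000a600009e00000000008e00008600007c00007400000000000000000000000000004800003e00003400000000000000001c000012000006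
def rkSel2 (c : ℕ) : ℕ := rk2_0
def rk2F (v : ℕ) : ℕ := Nat.rec (motive := fun _ => ℕ) 0 (fun c _ => Nat.mod (Nat.shiftRight (rkSel2 c) (Nat.mul 24 (Nat.mod v 682))) 16777216) (Nat.add (Nat.div v 682) 1)

end Cfsg.Agent.Helper5.PThDTC
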