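import Cfsg.Agent.Helper5.TC2A

/-! generated certificate data (ranks of generator 3): PThDTC -/

set_option autoImplicit false
set_option Elab.async false

namespace Cfsg.Agent.Helper5.PThDTC
open Cfsg.Agent.Helper5.TC

def rk3_0 : ℕ := 0x1f60001ec0000000000000001cc0001c20001b80001ae0001a400019c00000000000000000000000000000000016800000000015600014c00014200013a00013000012a0001200001160001120001210000000001130000000000000000dc0000000000ce0000c20000ba0000b20000a80000a000000000009000000000000000000000000000000000005c00005200004a00004000003600002e000000000000000014000008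
def rkSel3 (c : ℕ) : ℕ := rk3_0
def rk3F (v : ℕ) : ℕ := Nat.rec (motive := fun _ => ℕ) 0 (fun c _ => Nat.mod (Nat.shiftRight (rkSel3 c) (Nat.mul 24 (Nat.mod v 682))) 16777216) (Nat.add (Nat.div v 682) 1)

end Cfsg.Agent.Helper5.PThDTC
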