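import Cfsg.Agent.Helper5.TC2A

/-! generated certificate data (ranks of generator 4): PThDTC -/

set_option autoImplicit false
set_option Elab.async false

namespace Cfsg.Agent.Helper5.PThDTC
open Cfsg.Agent.Helper5.TC

def rk4_0 : ℕ := 0x1f80001ee0001e20001d600000000000000000000000000000000000000019400018a00018400017800017000016a00015e00015800014e00014400013c0001320001450001220001180001230001080000fe0001090000ff0000e80000de0000e90000000000c40000bc0000000000aa0000a200009800009200008800007e00007600006c00006400000000000000000000000000000000000000002600001e00001600000a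
def rkSel4 (c : ℕ) : ℕ := rk4_0
def rk4F (v : ℕ) : ℕ := Nat.rec (motive := fun _ => ℕ) 0 (fun c _ => Nat.mod (Nat.shiftRight (rkSel4 c) (Nat.mul 24 (Nat.mod v 682))) 16777216) (Nat.add (Nat.div v 682) 1)

end Cfsg.Agent.Helper5.PThDTC
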