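import Cfsg.Agent.Helper5.TC2A

/-! generated certificate data (ranks of generator 5): PThDTC -/

set_option autoImplicit false
set_option Elab.async false

namespace Cfsg.Agent.Helper5.PThDTC
open Cfsg.Agent.Helper5.TC

def rk5_0 : ℕ := 0x1fa0000000000000001d80001ce0001c40001ba0001b00001a600019e00019600018c00000000017a00000000000000000000000000015000000000000000013400000000000000011a00000000010a0001000000f80000f00000000000e00000000000000000c60000000000000000ac00000000000000000000000000008000000000006e00006600005e00005400004c00004200003800003000002800000000000000000c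
def rkSel5 (c : ℕ) : ℕ := rk5_0
def rk5F (v : ℕ) : ℕ := Nat.rec (motive := fun _ => ℕ) 0 (fun c _ => Nat.mod (Nat.shiftRight (rkSel5 c) (Nat.mul 24 (Nat.mod v 682))) 16777216) (Nat.add (Nat.div v 682) 1)

end Cfsg.Agent.Helper5.PThDTC
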