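import Cfsg.Agent.Helper5.TC2A

/-! generated certificate data (targets of generator 2): PThDTC -/

set_option autoImplicit false
set_option Elab.async false

namespace Cfsg.Agent.Helper5.PThDTC
open Cfsg.Agent.Helper5.TC

def tg2_0 : ℕ := 0x3700003600003500003300003400003200003100003000002d00002c00002f00002e00002b00002a00002900002800002400002600002500002700002000002200002100002300001c00001e00001d00001f00001800001a00001900001b00001400001600001500001700001000001200001100001300000f00000e00000d00000c00000900000800000b00000a000007000006000005000003000004000002000001000000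
def tgSel2 (c : ℕ) : ℕ := tg2_0
def tg2F (v : ℕ) : ℕ := Nat.rec (motive := fun _ => ℕ) 0 (fun c _ => Nat.mod (Nat.shiftRight (tgSel2 c) (Nat.mul 24 (Nat.mod v 682))) 16777216) (Nat.add (Nat.div v 682) 1)

end Cfsg.Agent.Helper5.PThDTC
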