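import Cfsg.Agent.Helper5.TC2A

/-! generated certificate data (targets of generator 3): PThDTC -/

set_option autoImplicit false
set_option Elab.async false

namespace Cfsg.Agent.Helper5.PThDTC
open Cfsg.Agent.Helper5.TC

def tg3_0 : ℕ := 0x3700003600003400003500003300003200003100003000002f00002e00002b00002900002d00002700002c00002800002a00002600002500002400002300002200002100001d00001f00001b00002000001900001e00001700001c00001800001a00001600001500001400001300001200001100000d00000f00000b00001000000a00000e00000c000009000008000007000006000005000004000002000003000001000000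
def tgSel3 (c : ℕ) : ℕ := tg3_0
def tg3F (v : ℕ) : ℕ := Nat.rec (motive := fun _ => ℕ) 0 (fun c _ => Nat.mod (Nat.shiftRight (tgSel3 c) (Nat.mul 24 (Nat.mod v 682))) 16777216) (Nat.add (Nat.div v 682) 1)

end Cfsg.Agent.Helper5.PThDTC
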